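import Groth.Statements.S5983
import Groth.Agent.RegPt.Descend

set_option autoImplicit false
universe u
open CategoryTheory AlgebraicGeometry
open CategoryTheory.Limits
open CInt

namespace Groth.Agent.S5983

/-- Let S = lim S_i be a cofiltered limit of schemes with affine, flat transition maps, S_{i₀} a stage
and j₀ : X₀ ⟶ S_{i₀} an immersion with X₀ quasi-compact; assume either that every S_i is locally
Noetherian, or that every transition map is surjective and j₀ is locally of finite presentation.
Then the base change X₀ ×_{S_{i₀}} S ⟶ S of j₀ is a regular immersion if and only if, for some index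
j over i₀, the base change X₀ ×_{S_{i₀}} S_j ⟶ S_j is a regular immersion. -/
theorem result {I : Type u} [SmallCategory I] [IsCofiltered I]
    (D : I ⥤ Scheme.{u}) (c : Limits.Cone D) (hc : Limits.IsLimit c)
    [∀ (i j : I) (f : i ⟶ j), IsAffineHom (D.map f)]
    (hflat : ∀ (i j : I) (f : i ⟶ j), Flat (D.map f))
    (i₀ : I) {X₀ : Scheme.{u}} (j₀ : X₀ ⟶ D.obj i₀) [CompactSpace X₀] [IsImmersion j₀]
    (hcase : (∀ i : I, IsLocallyNoetherian (D.obj i)) ∨
      ((∀ (i j : I) (f : i ⟶ j), Surjective (D.map f)) ∧ LocallyOfFinitePresentation j₀)) :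
    RegImm.IsRegularImmersion RegImm.Kind.regular (Limits.pullback.snd j₀ (c.π.app i₀)) ↔
      ∃ (j : I) (φ : j ⟶ i₀),
        RegImm.IsRegularImmersion RegImm.Kind.regular (Limits.pullback.snd j₀ (D.map φ)) := by
  classical
  haveI : ∀ {j k : I} (φ : j ⟶ k), Flat (D.map φ) := fun {j k} φ => hflat j k φ
  haveI : ∀ j, Flat (c.π.app j) := fun j => MorLib.LimFlat.flat_π hc j fun k φ => hflat k j φ
  haveI : ∀ j, IsAffineHom (c.π.app j) := fun j => isAffineHom_π_app D c hc j
  let hX := IsPullback.of_hasPullback j₀ (c.π.app i₀)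
  constructor
  · rintro ⟨-, h⟩
    choose J hJ using fun z => RegPt.exists_stage j₀ hc hcase z (h z)
    haveI : CompactSpace ↥(pullback j₀ (c.π.app i₀)) :=
      haveI : IsAffineHom (pullback.fst j₀ (c.π.app i₀)) :=
        MorphismProperty.pullback_fst _ _ inferInstance
      QuasiCompact.compactSpace_of_compactSpace (pullback.fst j₀ (c.π.app i₀))
    let W : Over i₀ → Set ↥(pullback j₀ (c.π.app i₀)) := fun K =>
      MorLib.BC.proj D j₀ hX K ⁻¹' {w | RegImm.IsRegularImmersionAt RegImm.Kind.regular
        (pullback.snd j₀ (D.map K.hom)) w}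
    have hmono : ∀ {K L : Over i₀} (g : K ⟶ L), W L ⊆ W K := by
      intro K L g z hz
      show RegImm.IsRegularImmersionAt _ _ (MorLib.BC.proj D j₀ hX K z)
      haveI := hflat _ _ g.left
      refine RegPt.isRegularImmersionAt_baseChange (MorLib.BC.isPullback_map D j₀ g) _ ?_
      have hw : ((MorLib.BC.diag D j₀).map g) (MorLib.BC.proj D j₀ hX K z) = MorLib.BC.proj D j₀ hX L z :=
        congrArg (fun φ => φ.base z) ((MorLib.BC.cone D j₀ hX).w g)
      exact hw ▸ hz
    obtain ⟨T, hT⟩ := isCompact_univ.elim_finite_subcover (fun z => W (J z))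
      (fun z => (RegPt.isOpen_isRegularImmersionAt _).preimage (MorLib.BC.proj D j₀ hX (J z)).continuous)
      (fun z _ => Set.mem_iUnion.mpr ⟨z, hJ z⟩)
    obtain ⟨K, hK⟩ := IsCofiltered.inf_objs_exists (T.image J)
    have hall : ∀ z, z ∈ W K := by
      intro z
      obtain ⟨w, hwT, hz⟩ := Set.mem_iUnion₂.mp (hT (Set.mem_univ z))
      exact hmono (hK (Finset.mem_image_of_mem J hwT)).some hz
    let O : ((MorLib.BC.diag D j₀).obj K).Opens :=
      ⟨{w | RegImm.IsRegularImmersionAt RegImm.Kind.regular (pullback.snd j₀ (D.map K.hom)) w},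
        RegPt.isOpen_isRegularImmersionAt _⟩
    haveI : ∀ {i j : I} (f : i ⟶ j), IsAffineHom (D.map f) := fun {i j} f => inferInstance
    obtain ⟨L, g, hg⟩ := exists_map_eq_top (MorLib.BC.diag D j₀) (MorLib.BC.cone D j₀ hX)
      (MorLib.BC.isLimitCone D j₀ hX hc) O (top_le_iff.mp fun z _ => hall z)
    refine ⟨L.left, L.hom, MorphismProperty.pullback_snd _ _ inferInstance, fun w => ?_⟩
    haveI := hflat _ _ g.left
    exact RegPt.isRegularImmersionAt_baseChange (MorLib.BC.isPullback_map D j₀ g) w
      (hg.ge (Set.mem_univ w))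
  · rintro ⟨j, φ, -, h⟩
    refine ⟨MorphismProperty.pullback_snd _ _ inferInstance, fun z => ?_⟩
    exact RegPt.isRegularImmersionAt_baseChange
      (MorLib.BC.isPullback_proj D j₀ hX (Over.mk φ)) z (h _)

end Groth.Agent.S5983
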