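import Groth.Statements.S5984
import Groth.Agent.RegPt.TransStage

set_option autoImplicit false
universe u
open CategoryTheory AlgebraicGeometry
open CInt

namespace Groth.Agent.S5984

/-- Let S = lim S_i be a cofiltered limit of schemes with affine transition maps, S_{i₀} a stage, g₀ :
X₀ ⟶ S_{i₀} locally of finite presentation with X₀ quasi-compact, and j₀ : Y₀ ⟶ X₀ an immersion
locally of finite presentation with Y₀ quasi-compact. Then the base change Y₀ ×_{S_{i₀}} S ⟶ X₀
×_{S_{i₀}} S of j₀ is an immersion transversally regular relative to S if and only if, for some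
index j over i₀, the base change Y₀ ×_{S_{i₀}} S_j ⟶ X₀ ×_{S_{i₀}} S_j is transversally regular
relative to S_j. -/
theorem result {I : Type u} [SmallCategory I]
    [IsCofiltered I] (D : I ⥤ Scheme.{u}) (c : Limits.Cone D) (hc : Limits.IsLimit c)
    [∀ (i j : I) (f : i ⟶ j), IsAffineHom (D.map f)]
    (i₀ : I) {X₀ Y₀ : Scheme.{u}} (g₀ : X₀ ⟶ D.obj i₀) [CompactSpace X₀]
    [LocallyOfFinitePresentation g₀] (j₀ : Y₀ ⟶ X₀) [CompactSpace Y₀] [IsImmersion j₀]
    [LocallyOfFinitePresentation j₀] :
    RegImm.IsTransRegularImmersion (Limits.pullback.snd g₀ (c.π.app i₀))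
        (Limits.pullback.snd j₀ (Limits.pullback.fst g₀ (c.π.app i₀))) ↔
      ∃ (j : I) (φ : j ⟶ i₀), RegImm.IsTransRegularImmersion (Limits.pullback.snd g₀ (D.map φ))
        (Limits.pullback.snd j₀ (Limits.pullback.fst g₀ (D.map φ))) := by
  classical
  haveI : ∀ {a b : I} (f : a ⟶ b), IsAffineHom (D.map f) := fun {a b} f => inferInstance
  haveI : IsAffineHom (c.π.app i₀) := isAffineHom_π_app D c hc i₀
  let hX := IsPullback.of_hasPullback g₀ (c.π.app i₀)
  let hY := IsPullback.of_hasPullback j₀ (Limits.pullback.fst g₀ (c.π.app i₀))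
  constructor
  · rintro ⟨-, h⟩
    choose J hJ using fun z => RegPt.exists_stage_good j₀ hc g₀ hY z (h z)
    haveI : IsAffineHom (Limits.pullback.fst g₀ (c.π.app i₀)) :=
      MorphismProperty.pullback_fst _ _ inferInstance
    haveI : IsAffineHom (Limits.pullback.fst j₀ (Limits.pullback.fst g₀ (c.π.app i₀))) :=
      MorphismProperty.pullback_fst _ _ inferInstance
    haveI : CompactSpace ↥(Limits.pullback j₀ (Limits.pullback.fst g₀ (c.π.app i₀))) :=
      QuasiCompact.compactSpace_of_compactSpace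
        (Limits.pullback.fst j₀ (Limits.pullback.fst g₀ (c.π.app i₀)))
    let W : Over i₀ → Set ↥(Limits.pullback j₀ (Limits.pullback.fst g₀ (c.π.app i₀))) := fun K =>
      (fun z => MorLib.BC.proj D g₀ hX K (Limits.pullback.snd j₀ _ z)) ⁻¹'
        {w | RegPt.Good j₀ (Limits.pullback.snd g₀ (D.map K.hom)) (Limits.pullback.fst g₀ (D.map K.hom)) w}
    have hmono : ∀ {K L : Over i₀} (g : K ⟶ L), W L ⊆ W K := by
      intro K L g z hz
      refine RegPt.good_baseChange j₀ (MorLib.BC.isPullback_map D g₀ g) (MorLib.BC.map_fst D g₀ g) _ ?_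
      have hw : ((MorLib.BC.diag D g₀).map g) (MorLib.BC.proj D g₀ hX K (Limits.pullback.snd j₀ _ z)) =
          MorLib.BC.proj D g₀ hX L (Limits.pullback.snd j₀ _ z) :=
        congrArg (fun φ => φ.base (Limits.pullback.snd j₀ _ z)) ((MorLib.BC.cone D g₀ hX).w g)
      exact hw ▸ hz
    obtain ⟨T, hT⟩ := isCompact_univ.elim_finite_subcover (fun z => W (J z))
      (fun z => (RegPt.isOpen_good j₀ _ _).preimage
        (((MorLib.BC.proj D g₀ hX (J z)).continuous).comp (Limits.pullback.snd j₀ _).continuous))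
      (fun z _ => Set.mem_iUnion.mpr ⟨z, hJ z⟩)
    obtain ⟨K, hK⟩ := IsCofiltered.inf_objs_exists (T.image J)
    have hall : ∀ z, z ∈ W K := by
      intro z
      obtain ⟨w, hwT, hz⟩ := Set.mem_iUnion₂.mp (hT (Set.mem_univ z))
      exact hmono (hK (Finset.mem_image_of_mem J hwT)).some hz
    -- the diagram of the subschemes
    let b := j₀ ≫ g₀
    have hYS : IsPullback (Limits.pullback.fst j₀ (Limits.pullback.fst g₀ (c.π.app i₀)))
        (Limits.pullback.snd j₀ _ ≫ Limits.pullback.snd g₀ (c.π.app i₀)) b (c.π.app i₀) :=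
      hY.paste_vert hX
    let κ : ∀ L : Over i₀, (Limits.pullback b (D.map L.hom) ⟶ Limits.pullback g₀ (D.map L.hom)) := fun L =>
      Limits.pullback.lift (Limits.pullback.fst b (D.map L.hom) ≫ j₀) (Limits.pullback.snd b (D.map L.hom))
        (by rw [Category.assoc]; exact Limits.pullback.condition)
    let O : ((MorLib.BC.diag D b).obj K).Opens :=
      κ K ⁻¹ᵁ ⟨_, RegPt.isOpen_good j₀ (Limits.pullback.snd g₀ (D.map K.hom))
        (Limits.pullback.fst g₀ (D.map K.hom))⟩
    have hproj : MorLib.BC.proj D b hYS K ≫ κ K =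
        Limits.pullback.snd j₀ _ ≫ MorLib.BC.proj D g₀ hX K := by
      apply Limits.pullback.hom_ext
      · rw [Category.assoc, Category.assoc, Limits.pullback.lift_fst, MorLib.BC.proj_fst_assoc,
          MorLib.BC.proj_fst]
        exact Limits.pullback.condition
      · rw [Category.assoc, Category.assoc, Limits.pullback.lift_snd, MorLib.BC.proj_snd,
          MorLib.BC.proj_snd, Category.assoc]
    haveI : ∀ {A B : Over i₀} (f : A ⟶ B), IsAffineHom ((MorLib.BC.diag D b).map f) := fun f =>
      MorLib.BC.isAffineHom_map D b f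
    have htop : MorLib.BC.proj D b hYS K ⁻¹ᵁ O = ⊤ := top_le_iff.mp fun z _ => by
      show RegPt.Good j₀ _ _ (κ K (MorLib.BC.proj D b hYS K z))
      rw [← Scheme.Hom.comp_apply, hproj, Scheme.Hom.comp_apply]
      exact hall z
    obtain ⟨L, g, hg⟩ := exists_map_eq_top (MorLib.BC.diag D b) (MorLib.BC.cone D b hYS)
      (MorLib.BC.isLimitCone D b hYS hc) O htop
    refine ⟨L.left, L.hom, MorphismProperty.pullback_snd _ _ inferInstance, fun z => ?_⟩
    refine RegPt.isTransRegularImmersionAt_of_good j₀ _ _ (IsPullback.of_hasPullback _ _) z ?_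
    refine RegPt.good_baseChange j₀ (MorLib.BC.isPullback_map D g₀ g) (MorLib.BC.map_fst D g₀ g) _ ?_
    let w : Limits.pullback j₀ (Limits.pullback.fst g₀ (D.map L.hom)) ⟶ Limits.pullback b (D.map L.hom) :=
      Limits.pullback.lift (Limits.pullback.fst j₀ _)
        (Limits.pullback.snd j₀ _ ≫ Limits.pullback.snd g₀ (D.map L.hom))
        ((IsPullback.of_hasPullback j₀ (Limits.pullback.fst g₀ (D.map L.hom))).paste_vert
          (IsPullback.of_hasPullback g₀ (D.map L.hom))).w
    have hw : w ≫ κ L = Limits.pullback.snd j₀ (Limits.pullback.fst g₀ (D.map L.hom)) := by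
      apply Limits.pullback.hom_ext
      · rw [Category.assoc, Limits.pullback.lift_fst, Limits.pullback.lift_fst_assoc]
        exact Limits.pullback.condition
      · rw [Category.assoc, Limits.pullback.lift_snd, Limits.pullback.lift_snd]
    have hκ : (MorLib.BC.diag D b).map g ≫ κ K = κ L ≫ (MorLib.BC.diag D g₀).map g := by
      apply Limits.pullback.hom_ext
      · refine ((Category.assoc _ _ _).trans ?_).trans (Category.assoc _ _ _).symm
        refine Eq.trans ?_ (congrArg (κ L ≫ ·) (MorLib.BC.map_fst D g₀ g).symm)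
        refine (congrArg (_ ≫ ·) (Limits.pullback.lift_fst _ _ _)).trans ?_
        refine ((Category.assoc _ _ _).symm.trans (congrArg (· ≫ j₀) (MorLib.BC.map_fst D b g))).trans ?_
        exact (Limits.pullback.lift_fst _ _ _).symm
      · refine ((Category.assoc _ _ _).trans ?_).trans (Category.assoc _ _ _).symm
        refine Eq.trans ?_ (congrArg (κ L ≫ ·) (MorLib.BC.map_snd D g₀ g).symm)
        refine (congrArg (_ ≫ ·) (Limits.pullback.lift_snd _ _ _)).trans ?_
        refine (MorLib.BC.map_snd D b g).trans ?_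
        exact (congrArg (· ≫ D.map g.left) (Limits.pullback.lift_snd _ _ _)).symm.trans (Category.assoc _ _ _)
    have h1 : w z ∈ (MorLib.BC.diag D b).map g ⁻¹ᵁ O := hg.ge (Set.mem_univ _)
    have h2 : RegPt.Good j₀ (Limits.pullback.snd g₀ (D.map K.hom)) (Limits.pullback.fst g₀ (D.map K.hom))
        ((MorLib.BC.diag D g₀).map g (κ L (w z))) := by
      have h3 : RegPt.Good j₀ (Limits.pullback.snd g₀ (D.map K.hom)) (Limits.pullback.fst g₀ (D.map K.hom))
          (κ K ((MorLib.BC.diag D b).map g (w z))) := h1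
      have h4 : κ K ((MorLib.BC.diag D b).map g (w z)) = (MorLib.BC.diag D g₀).map g (κ L (w z)) :=
        congrArg (fun φ => φ.base (w z)) hκ
      exact h4 ▸ h3
    have h5 : κ L (w z) = Limits.pullback.snd j₀ (Limits.pullback.fst g₀ (D.map L.hom)) z :=
      congrArg (fun φ => φ.base z) hw
    exact h5 ▸ h2
  · rintro ⟨j, φ, -, h⟩
    refine ⟨MorphismProperty.pullback_snd _ _ inferInstance, fun z => ?_⟩
    refine RegPt.isTransRegularImmersionAt_of_good j₀ _ _ hY z ?_
    refine RegPt.good_baseChange j₀ (MorLib.BC.isPullback_proj D g₀ hX (Over.mk φ))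
      (MorLib.BC.proj_fst D g₀ hX (Over.mk φ)) _ ?_
    let v : Limits.pullback j₀ (Limits.pullback.fst g₀ (c.π.app i₀)) ⟶
        Limits.pullback j₀ (Limits.pullback.fst g₀ (D.map φ)) :=
      Limits.pullback.lift (Limits.pullback.fst j₀ _)
        (Limits.pullback.snd j₀ _ ≫ MorLib.BC.proj D g₀ hX (Over.mk φ))
        (by rw [Category.assoc]; exact Limits.pullback.condition.trans
              (congrArg (_ ≫ ·) (MorLib.BC.proj_fst D g₀ hX (Over.mk φ)).symm))
    have hv : Limits.pullback.snd j₀ (Limits.pullback.fst g₀ (D.map φ)) (v z) =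
        MorLib.BC.proj D g₀ hX (Over.mk φ) (Limits.pullback.snd j₀ _ z) :=
      congrArg (fun ψ : Limits.pullback j₀ (Limits.pullback.fst g₀ (c.π.app i₀)) ⟶
        Limits.pullback g₀ (D.map φ) => ψ.base z) (Limits.pullback.lift_snd _ _ _)
    exact hv ▸ RegPt.good_of_at j₀ (Limits.pullback.snd g₀ (D.map φ)) (Limits.pullback.fst g₀ (D.map φ))
      (IsPullback.of_hasPullback _ _) (v z) (h (v z))

end Groth.Agent.S5984
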