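import Groth.Statements.S5985
import Groth.Agent.MorLib.ElemEtaleSplit
set_option autoImplicit false
universe u
open CategoryTheory AlgebraicGeometry
open Unram

namespace Groth.Agent.S5985

theorem discreteTopology_fiber {X Y : Scheme.{u}} (f : X ⟶ Y) [LocallyOfFiniteType f] (y : Y)
    [Finite ↥(f.fiber y)] : DiscreteTopology ↥(f.fiber y) := by
  haveI : LocallyOfFiniteType (f.fiberToSpecResidueField y) :=
    MorphismProperty.of_isPullback (P := @LocallyOfFiniteType.{u})
      (IsPullback.of_hasPullback f (Y.fromSpecResidueField y)) ‹_›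
  haveI : JacobsonSpace ↥(f.fiber y) :=
    LocallyOfFiniteType.jacobsonSpace (f.fiberToSpecResidueField y)
  infer_instance


/-- Let f : X ⟶ Y be separated and locally of finite type, and y a point of Y whose fibre f⁻¹(y) is
finite (hence discrete). Then there are an étale morphism g : Y' ⟶ Y, a point y' of Y' with g(y') =
y inducing an isomorphism of residue fields κ(y) ≅ κ(y'), and two complementary open subschemes V, W
of X' = X ×_Y Y' such that V ⟶ Y' is finite and W contains no point of X' lying over y'. -/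
theorem result {X Y : Scheme.{u}} (f : X ⟶ Y)
    [LocallyOfFiniteType f] [IsSeparated f] (y : Y) (hfin : (f ⁻¹' {y}).Finite) :
    ∃ (Y' : Scheme.{u}) (g : Y' ⟶ Y) (y' : Y'), Etale g ∧ g y' = y ∧
      IsIso (g.residueFieldMap y') ∧
      ∃ (V W : (Limits.pullback f g).Opens), IsCompl V W ∧
        IsFinite (V.ι ≫ Limits.pullback.snd f g) ∧
        ∀ x : ↥(Limits.pullback f g), Limits.pullback.snd f g x = y' → x ∈ V := by
  haveI : Finite ↥(f.fiber y) := by
    haveI := hfin.to_subtype
    refine Finite.of_injective (fun w => (⟨f.fiberι y w, ?_⟩ : ↑(f ⁻¹' {y}))) fun a b e => ?_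
    · rw [← Scheme.Hom.range_fiberι]; exact ⟨w, rfl⟩
    · exact (f.fiberι y).isEmbedding.injective (congrArg Subtype.val e)
  haveI := discreteTopology_fiber f y
  obtain ⟨U, g, u, hu, V, hV, hfV, hrest⟩ :=
    Groth.Agent.MorLib.EEF.exists_elem_split f y (Set.toFinite _)
  haveI := hu.etale
  have hgu : g u = y := hu.base_eq
  haveI : IsIso (g.residueFieldMap u) :=
    (ConcreteCategory.isIso_iff_bijective _).mpr hu.residue_bijective
  let p := Limits.pullback.snd f g
  have hsnd : ∀ w : ↥(p.fiber u), p (p.fiberι u w) = u := fun w => by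
    have : p.fiberι u w ∈ Set.range (p.fiberι u) := ⟨w, rfl⟩
    rwa [Scheme.Hom.range_fiberι] at this
  have hfst : ∀ w : ↥(p.fiber u), Limits.pullback.fst f g (p.fiberι u w) ∈ f ⁻¹' {y} := fun w => by
    show f (Limits.pullback.fst f g (p.fiberι u w)) = y
    rw [← Scheme.Hom.comp_apply, Limits.pullback.condition, Scheme.Hom.comp_apply]
    exact (congrArg g (hsnd w)).trans hgu
  haveI : Finite ↥(p.fiber u) := by
    haveI := hfin.to_subtype
    refine Finite.of_injective (fun w => (⟨_, hfst w⟩ : ↑(f ⁻¹' {y}))) fun a b e => ?_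
    have e' := congrArg Subtype.val e
    obtain ⟨z, -, -, -, huniq⟩ := Groth.Agent.MorLib.EEF.exists_unique_point
      (CategoryTheory.IsPullback.of_hasPullback f g) (Limits.pullback.fst f g (p.fiberι u a)) u
      ((hfst a).trans hgu.symm) hu.residue_bijective
    exact (p.fiberι u).isEmbedding.injective
      ((huniq _ rfl (hsnd a)).trans (huniq _ e'.symm (hsnd b)).symm)
  haveI := discreteTopology_fiber p u
  refine ⟨U, g, u, inferInstance, hgu, inferInstance, V,
    ⟨(V : Set ↥(Limits.pullback f g))ᶜ, hV.1.isOpen_compl⟩, ?_, hfV, fun x hx => ?_⟩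
  · refine IsCompl.of_eq ?_ ?_
    · exact SetLike.coe_injective (by simp)
    · exact SetLike.coe_injective (by simp)
  · obtain ⟨w, rfl⟩ : x ∈ Set.range (p.fiberι u) := by rw [Scheme.Hom.range_fiberι]; exact hx
    by_contra h
    exact hrest w h (isOpen_discrete _)

end Groth.Agent.S5985
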