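import Groth.Statements.S5987
import Groth.Agent.LC.Sop
import Groth.Agent.WeakAss.Basic
-- import your own Groth.Agent.* helpers here

set_option autoImplicit false
universe u
open EGA418

namespace Groth.Agent.S5987

/-- Let A be a Noetherian local ring and p a prime ideal of A such that the local ring A_p is
Cohen–Macaulay, of dimension s; let t_1, …, t_s be a system of parameters of A_p (elements of its
maximal ideal such that A_p/(t_1, …, t_s) has dimension 0). Then there are elements x_1, …, x_s of p
which form part of a system of parameters of A, in the sense that dim A/(x_1, …, x_s) + s = dim A,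
and elements a_1, …, a_s of A outside p, such that for every i the image of x_i in A_p is congruent
to a_i t_i modulo the ideal (t_1, …, t_{i-1}) A_p. (The published statement asks for the image of
x_i to be congruent to t_i itself; this row allows the factor a_i outside p, which is what the
published proof gives, since it first multiplies each t_i by a unit of A_p to bring it into the
image of A. The published form fails already for s = 1: for A the localization of k[X, Y] at (X, Y),
p = (X) and t_1 = X/Y, the congruence modulo the zero ideal asks for an element of A with image X/Y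
in A_p, and there is none.) -/
theorem result (A : Type u) [CommRing A]
    [IsNoetherianRing A] [IsLocalRing A] (p : Ideal A) [p.IsPrime]
    [LocCoh.IsCohenMacaulayLocalRing (Localization.AtPrime p)] (s : ℕ)
    (hs : ringKrullDim (Localization.AtPrime p) = s) (t : Fin s → Localization.AtPrime p)
    (ht : ∀ i, t i ∈ IsLocalRing.maximalIdeal (Localization.AtPrime p))
    (hsop : ringKrullDim (Localization.AtPrime p ⧸ Ideal.span (Set.range t)) = 0) :
    ∃ x a : Fin s → A, (∀ i, x i ∈ p) ∧ (∀ i, a i ∉ p) ∧
      ringKrullDim (A ⧸ Ideal.span (Set.range x)) + (s : WithBot ℕ∞) = ringKrullDim A ∧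
      ∀ i : Fin s, algebraMap A (Localization.AtPrime p) (x i) -
          algebraMap A (Localization.AtPrime p) (a i) * t i ∈
        Ideal.span (t '' {j : Fin s | j < i}) := by
  classical
  set φ := algebraMap A (Localization.AtPrime p)
  have hCM : LocCoh.IsCohenMacaulayModule (Localization.AtPrime p) (Localization.AtPrime p) := LocCoh.IsCohenMacaulayLocalRing.supportDim_eq_depth
  have hK : Ideal.span (Set.range t) ≤ IsLocalRing.maximalIdeal (Localization.AtPrime p) :=
    Ideal.span_le.2 (Set.range_subset_iff.2 ht)
  have hrad : (Ideal.span (Set.range t)).radical = IsLocalRing.maximalIdeal (Localization.AtPrime p) := by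
    refine le_antisymm ?_ ?_
    · exact ((IsLocalRing.maximalIdeal.isMaximal (Localization.AtPrime p)).isPrime.radical_le_iff).2 hK
    · haveI : Ring.KrullDimLE 0 ((Localization.AtPrime p) ⧸ Ideal.span (Set.range t)) := Ring.krullDimLE_iff.2 (by simp [hsop])
      rw [Ideal.radical_eq_sInf]
      refine le_sInf fun J hJ => ?_
      haveI := hJ.2
      haveI : (J.map (Ideal.Quotient.mk (Ideal.span (Set.range t)))).IsPrime :=
        Ideal.map_isPrime_of_surjective Ideal.Quotient.mk_surjective (by rw [Ideal.mk_ker]; exact hJ.1)
      haveI hmax : (J.map (Ideal.Quotient.mk (Ideal.span (Set.range t)))).IsMaximal :=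
        Ring.krullDimLE_zero_iff.1 inferInstance _ inferInstance
      have h := Ideal.comap_isMaximal_of_surjective (Ideal.Quotient.mk (Ideal.span (Set.range t)))
        Ideal.Quotient.mk_surjective (K := J.map (Ideal.Quotient.mk (Ideal.span (Set.range t))))
      rw [Ideal.comap_map_mk hJ.1] at h
      exact (IsLocalRing.eq_maximalIdeal h).ge
  have hofList : Ideal.ofList (List.ofFn t) = Ideal.span (Set.range t) :=
    congrArg Ideal.span (Set.ext fun y => by simp [List.mem_ofFn])
  have hwr := Groth.Agent.LC.isWeaklyRegular_of_sop hCM s hs (List.ofFn t) List.length_ofFn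
    (hofList.symm ▸ hrad)
  -- each parameter is regular modulo the previous ones
  have hreg : ∀ (i : Fin s) (z : (Localization.AtPrime p)), t i * z ∈ Ideal.span (t '' {j : Fin s | j < i}) →
      z ∈ Ideal.span (t '' {j : Fin s | j < i}) := by
    intro i z hz
    have e : Ideal.ofList ((List.ofFn t).take i) = Ideal.span (t '' {j : Fin s | j < i}) := by
      refine congrArg Ideal.span (Set.ext fun y => ?_)
      simp only [Set.mem_setOf_eq, Set.mem_image, List.mem_take_iff_getElem, List.getElem_ofFn]
      constructor
      · rintro ⟨k, hk, rfl⟩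
        rw [List.length_ofFn, lt_min_iff] at hk
        exact ⟨⟨k, hk.2⟩, hk.1, rfl⟩
      · rintro ⟨j, hj, rfl⟩
        exact ⟨j, by rw [List.length_ofFn, lt_min_iff]; exact ⟨hj, j.2⟩, rfl⟩
    have he : (Ideal.ofList ((List.ofFn t).take i) • ⊤ : Submodule (Localization.AtPrime p) (Localization.AtPrime p)) =
        Ideal.span (t '' {j : Fin s | j < i}) := by
      rw [smul_eq_mul, Ideal.mul_top, e]
    have hr := hwr.regular_mod_prev i (by rw [List.length_ofFn]; exact i.2)
    rw [List.getElem_ofFn] at hr
    have h1 : Submodule.Quotient.mk (p := (Ideal.ofList ((List.ofFn t).take i) • ⊤ : Submodule (Localization.AtPrime p) (Localization.AtPrime p))) z = 0 := by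
      refine hr ?_
      show t i • Submodule.Quotient.mk z = t i • (0 : (Localization.AtPrime p) ⧸ (Ideal.ofList ((List.ofFn t).take i) • ⊤ : Submodule (Localization.AtPrime p) (Localization.AtPrime p)))
      rw [smul_zero, ← Submodule.Quotient.mk_smul, Submodule.Quotient.mk_eq_zero, he]
      exact hz
    rwa [Submodule.Quotient.mk_eq_zero, he] at h1
  -- chains above an ideal
  let DL : Ideal A → ℕ → Prop := fun I n =>
    ∀ l : LTSeries (PrimeSpectrum A), I ≤ (l.head).asIdeal → l.length ≤ n
  obtain ⟨d, hd⟩ : ∃ d : ℕ, ((d : ℕ∞) : WithBot ℕ∞) = ringKrullDim A := by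
    obtain ⟨e, he⟩ := WithBot.ne_bot_iff_exists.mp (ringKrullDim_ne_bot (R := A))
    obtain ⟨d, rfl⟩ := ENat.ne_top_iff_exists.mp (fun h : e = ⊤ => ringKrullDim_ne_top (R := A) (by rw [← he, h]; rfl))
    exact ⟨d, he⟩
  have dlstep : ∀ (I : Ideal A) (x : A) (n : ℕ), DL I n →
      (∀ P ∈ I.minimalPrimes, x ∉ P) → DL (I ⊔ Ideal.span {x}) (n - 1) := by
    intro I x n hI hx l hl
    obtain ⟨P, hP, hPle⟩ := Ideal.exists_minimalPrimes_le (le_sup_left.trans hl)
    have hxl : x ∈ l.head.asIdeal := hl (Ideal.mem_sup_right (Ideal.mem_span_singleton_self x))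
    rcases hPle.eq_or_lt with heq | hlt
    · exact absurd (heq ▸ hxl) (hx P hP)
    · let l' : LTSeries (PrimeSpectrum A) := l.cons ⟨P, hP.1.1⟩ hlt
      have h1 := hI l' (by
        show I ≤ (l'.head).asIdeal
        rw [RelSeries.head_cons]
        exact hP.1.2)
      have h2 : l'.length = l.length + 1 := by simp [l', RelSeries.cons_length]
      omega
  -- the induction
  have main : ∀ k, (hk : k ≤ s) → ∃ x a : Fin k → A, (∀ i, x i ∈ p) ∧ (∀ i, a i ∉ p) ∧
      DL (Ideal.span (Set.range x)) (d - k) ∧
      (Ideal.span (Set.range x)).map φ = Ideal.span (t '' {j : Fin s | (j : ℕ) < k}) ∧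
      ∀ i : Fin k, φ (x i) - φ (a i) * t (Fin.castLE hk i) ∈
        Ideal.span (t '' {j : Fin s | (j : ℕ) < i}) := by
    intro k
    induction k with
    | zero =>
      refine fun _ => ⟨Fin.elim0, Fin.elim0, nofun, nofun, fun l _ => ?_, ?_, nofun⟩
      · have h1 := Order.LTSeries.length_le_krullDim l
        have h2 : Order.krullDim (PrimeSpectrum A) = ((d : ℕ∞) : WithBot ℕ∞) := hd.symm
        rw [h2] at h1
        exact_mod_cast h1
      · simp [Ideal.map_bot]
    | succ k ih =>
      intro hk
      obtain ⟨x, a, hxp, hap, hdl, hmap, hcong⟩ := ih (by omega)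
      set I := Ideal.span (Set.range x) with hI
      set Q := Ideal.span (t '' {j : Fin s | (j : ℕ) < k}) with hQ
      let i : Fin s := ⟨k, by omega⟩
      obtain ⟨⟨b, c⟩, hbc⟩ := IsLocalization.surj p.primeCompl (t i)
      change t i * φ c = φ b at hbc
      have hc : (c : A) ∉ p := c.2
      have hbp : b ∈ p := by
        rw [← IsLocalization.AtPrime.comap_maximalIdeal (Localization.AtPrime p) p, Ideal.mem_comap]
        exact hbc ▸ Ideal.mul_mem_right _ _ (ht i)
      let J : Ideal A := Q.comap φ
      have hQm : Q ≤ IsLocalRing.maximalIdeal (Localization.AtPrime p) := (Ideal.span_mono (Set.image_subset_range _ _)).trans hK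
      have hJp : J ≤ p := by
        rw [← IsLocalization.AtPrime.comap_maximalIdeal (Localization.AtPrime p) p]
        exact Ideal.comap_mono hQm
      have hIJ : I ≤ J := Ideal.map_le_iff_le_comap.1 hmap.le
      -- the dichotomy at the minimal primes of `I`
      have hdich : ∀ P ∈ I.minimalPrimes, b ∈ P → ¬ J ≤ P := by
        intro P hP hbP hJP
        haveI := hP.1.1
        by_cases hPp : P ≤ p
        · obtain ⟨z, hz, n, hn⟩ := WeakAss.exists_mul_pow_mem hP hbP
          have key : ∀ m (w : (Localization.AtPrime p)), t i ^ m * w ∈ Q → w ∈ Q := by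
            intro m
            induction m with
            | zero => intro w hw; simpa using hw
            | succ m ihm =>
              intro w hw
              refine ihm w (hreg i _ ?_)
              rw [← mul_assoc, ← pow_succ']
              exact hw
          have h1 : φ (z * b ^ n) ∈ Q := hIJ hn
          rw [map_mul, map_pow, ← hbc, mul_pow, mul_comm (φ z), mul_assoc] at h1
          have hcu : IsUnit (φ (c : A) ^ n) := (IsLocalization.map_units (Localization.AtPrime p) c).pow n
          exact hz (hJP ((Q.unit_mul_mem_iff_mem hcu).1 (key n _ h1)))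
        · obtain ⟨v, hvP, hvp⟩ := SetLike.not_le_iff_exists.1 hPp
          obtain ⟨z, hz, n, hn⟩ := WeakAss.exists_mul_pow_mem hP hvP
          have hvn : v ^ n ∉ p := fun h => hvp (Ideal.IsPrime.mem_of_pow_mem inferInstance n h)
          have hu : IsUnit (φ (v ^ n)) := IsLocalization.map_units (Localization.AtPrime p) (⟨v ^ n, hvn⟩ : p.primeCompl)
          have h1 : φ (z * v ^ n) ∈ Q := hIJ hn
          rw [map_mul] at h1
          exact hz (hJP ((Q.mul_unit_mem_iff_mem hu).1 h1))
      -- avoiding the minimal primes in the coset `b + J`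
      obtain ⟨y, hyJ, hy⟩ : ∃ y ∈ J, ∀ P ∈ I.minimalPrimes, b + y ∉ P := by
        have hfin := Ideal.finite_minimalPrimes_of_isNoetherianRing A I
        let K : Ideal A := J ⊓ (hfin.toFinset.filter fun P => b ∉ P).inf id
        by_contra hcon
        simp only [not_exists, not_and, not_forall, exists_prop, not_not] at hcon
        have hsub : (K : Set A) ⊆ ⋃ P ∈ {P ∈ I.minimalPrimes | b ∈ P}, (P : Set A) := by
          intro y hy
          obtain ⟨P, hP, hyP⟩ := hcon y hy.1
          by_cases hbP : b ∈ P
          · exact Set.mem_iUnion₂.2 ⟨P, ⟨hP, hbP⟩, (Ideal.add_mem_iff_right _ hbP).1 hyP⟩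
          · have hle : K ≤ P := inf_le_right.trans (Finset.inf_le (f := id) (by simp [hP, hbP]))
            exact absurd ((Ideal.add_mem_iff_left _ (hle hy)).1 hyP) hbP
        obtain ⟨P, ⟨hP, hbP⟩, hle⟩ := (Ideal.subset_union_prime_finite (f := fun P : Ideal A => P)
          (hfin.subset fun P hP => hP.1) ⊥ ⊥ (fun P hP _ _ => hP.1.1.1)).1 hsub
        rcases (Ideal.IsPrime.inf_le hP.1.1).1 hle with h | h
        · exact hdich P hP hbP h
        · obtain ⟨P', hP', hle'⟩ := (Ideal.IsPrime.inf_le' hP.1.1).1 h
          simp only [Finset.mem_filter, Set.Finite.mem_toFinset] at hP'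
          have e : P' = P := le_antisymm hle' (hP.2 hP'.1.1 hle')
          exact hP'.2 (e ▸ hbP)
      have hxnew : φ (b + y) - φ c * t i ∈ Q := by
        rw [map_add, ← hbc, mul_comm (t i), add_sub_cancel_left]
        exact hyJ
      have hspan : Ideal.span (Set.range (Fin.snoc x (b + y))) = I ⊔ Ideal.span {b + y} := by
        rw [hI, ← Ideal.span_union, Fin.range_snoc, Set.union_singleton]
      refine ⟨Fin.snoc x (b + y), Fin.snoc a c, ?_, ?_, ?_, ?_, ?_⟩
      · exact fun l => Fin.lastCases (by simpa using p.add_mem hbp (hJp hyJ)) (fun l => by simpa using hxp l) l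
      · exact fun l => Fin.lastCases (by simpa using hc) (fun l => by simpa using hap l) l
      · rw [hspan]
        exact fun l hl => (dlstep I _ _ hdl hy l hl).trans (by omega)
      · have e : {j : Fin s | (j : ℕ) < k + 1} = insert i {j : Fin s | (j : ℕ) < k} := by
          ext j
          simp only [Set.mem_setOf_eq, Set.mem_insert_iff, Fin.ext_iff, i]
          omega
        rw [hspan, Ideal.map_sup, hmap, e, Set.image_insert_eq, Ideal.span_insert, ← hQ, Ideal.map_span,
          Set.image_singleton, sup_comm _ Q]
        refine le_antisymm (sup_le le_sup_left ?_) (sup_le le_sup_left ?_) <;>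
          rw [Ideal.span_singleton_le_iff_mem]
        · have h1 := Ideal.add_mem (Q ⊔ Ideal.span {t i}) (Ideal.mem_sup_left hxnew)
            (Ideal.mem_sup_right (Ideal.mul_mem_left _ (φ c) (Ideal.mem_span_singleton_self (t i))))
          simpa using h1
        · have h1 := Ideal.sub_mem (Q ⊔ Ideal.span {φ (b + y)})
            (Ideal.mem_sup_right (Ideal.mem_span_singleton_self (φ (b + y)))) (Ideal.mem_sup_left hxnew)
          rw [sub_sub_cancel] at h1
          exact ((Q ⊔ Ideal.span {φ (b + y)}).unit_mul_mem_iff_mem (IsLocalization.map_units (Localization.AtPrime p) c)).1 h1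
      · intro l
        refine Fin.lastCases ?_ (fun l => ?_) l
        · simp only [Fin.snoc_last, Fin.val_last]
          exact hxnew
        · simp only [Fin.snoc_castSucc]
          exact hcong l
  obtain ⟨x, a, hxp, hap, hdl, -, hcong⟩ := main s le_rfl
  refine ⟨x, a, hxp, hap, ?_, fun i => hcong i⟩
  set I := Ideal.span (Set.range x) with hI
  have hle : ringKrullDim (A ⧸ I) ≤ (((d - s : ℕ) : ℕ∞) : WithBot ℕ∞) := by
    rw [ringKrullDim_quotient]
    refine iSup_le fun l => ?_
    let l' : LTSeries (PrimeSpectrum A) := l.map Subtype.val (fun _ _ h => h)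
    have h1 := hdl l' (l.head).2
    exact_mod_cast show l.length ≤ d - s by simpa [l'] using h1
  have hsd : s ≤ d := by
    have h1 : (p.height : WithBot ℕ∞) ≤ ringKrullDim A :=
      Ideal.height_le_ringKrullDim_of_ne_top ‹p.IsPrime›.ne_top
    rw [← IsLocalization.AtPrime.ringKrullDim_eq_height p (Localization.AtPrime p), hs, ← hd] at h1
    exact_mod_cast h1
  refine le_antisymm ?_ ?_
  · refine (add_le_add hle le_rfl).trans ?_
    rw [← hd]
    exact_mod_cast (Nat.sub_add_cancel hsd).le
  · refine (ringKrullDim_le_ringKrullDim_quotient_add_encard (Set.range x) ?_).trans ?_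
    · rw [IsLocalRing.ringJacobson_eq_maximalIdeal]
      exact fun z ⟨l, hl⟩ => hl ▸ IsLocalRing.le_maximalIdeal ‹p.IsPrime›.ne_top (hxp l)
    · refine add_le_add le_rfl ?_
      have h1 : (Set.range x).encard ≤ (s : ℕ∞) := by
        rw [← Set.image_univ]
        exact (Set.encard_image_le _ _).trans (by simp)
      exact_mod_cast h1

end Groth.Agent.S5987
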