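import Groth.Statements.S5990
import Groth.Agent.RegPt.TransScheme

set_option autoImplicit false
universe u
open CategoryTheory AlgebraicGeometry
open CInt

namespace Groth.Agent.S5990

/-- Let S = lim S_i be a cofiltered limit of schemes with affine transition maps, S_{i₀} a stage, g₀ :
X₀ ⟶ S_{i₀} locally of finite presentation with X₀ quasi-compact, and f_1, …, f_n global sections of
the structure sheaf of X₀. Say that a sequence of global sections of O_X is transversally regular
relative to a base T (for g : X ⟶ T) when, for every affine open U of X and affine open V of T with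
g(U) ⊆ V, its restriction to U is a weakly regular sequence in Γ(U, O_X) all of whose partial
quotients Γ(U, O_X)/(f_1, …, f_j) are flat over Γ(V, O_T). Then the images of the f_k on X₀
×_{S_{i₀}} S are transversally regular relative to S if and only if, for some index j over i₀, their
images on X₀ ×_{S_{i₀}} S_j are transversally regular relative to S_j. This is the case of the
structure sheaf. -/
theorem result {I : Type u} [SmallCategory I]
    [IsCofiltered I] (D : I ⥤ Scheme.{u}) (c : Limits.Cone D) (hc : Limits.IsLimit c)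
    [∀ (i j : I) (f : i ⟶ j), IsAffineHom (D.map f)]
    (i₀ : I) {X₀ : Scheme.{u}} (g₀ : X₀ ⟶ D.obj i₀) [CompactSpace X₀]
    [LocallyOfFinitePresentation g₀] (fs : List Γ(X₀, ⊤)) :
    (∀ (U : (Limits.pullback g₀ (c.π.app i₀)).affineOpens) (V : c.pt.affineOpens)
        (e : U.1 ≤ Limits.pullback.snd g₀ (c.π.app i₀) ⁻¹ᵁ V.1),
        @RegImm.IsTransRegularSeq Γ(c.pt, V.1) Γ(Limits.pullback g₀ (c.π.app i₀), U.1) _ _
          ((Limits.pullback.snd g₀ (c.π.app i₀)).appLE V.1 U.1 e).hom.toAlgebra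
          (fs.map (fun f => ((Limits.pullback g₀ (c.π.app i₀)).presheaf.map
            (homOfLE (le_top : U.1 ≤ ⊤)).op).hom
              ((Limits.pullback.fst g₀ (c.π.app i₀)).appTop.hom f)))) ↔
      ∃ (j : I) (φ : j ⟶ i₀),
        ∀ (U : (Limits.pullback g₀ (D.map φ)).affineOpens) (V : (D.obj j).affineOpens)
          (e : U.1 ≤ Limits.pullback.snd g₀ (D.map φ) ⁻¹ᵁ V.1),
          @RegImm.IsTransRegularSeq Γ(D.obj j, V.1) Γ(Limits.pullback g₀ (D.map φ), U.1) _ _
            ((Limits.pullback.snd g₀ (D.map φ)).appLE V.1 U.1 e).hom.toAlgebra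
            (fs.map (fun f => ((Limits.pullback g₀ (D.map φ)).presheaf.map
              (homOfLE (le_top : U.1 ≤ ⊤)).op).hom
                ((Limits.pullback.fst g₀ (D.map φ)).appTop.hom f))) := by
  classical
  haveI : ∀ {a b : I} (f : a ⟶ b), IsAffineHom (D.map f) := fun {a b} f => inferInstance
  haveI : IsAffineHom (c.π.app i₀) := isAffineHom_π_app D c hc i₀
  have hX := IsPullback.of_hasPullback g₀ (c.π.app i₀)
  have hcov : ∀ x : X₀, ∃ (U : X₀.affineOpens) (V : (D.obj i₀).affineOpens),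
      U.1 ≤ g₀ ⁻¹ᵁ V.1 ∧ x ∈ U.1 := fun x => by
    obtain ⟨V, hV, hxV, -⟩ := exists_isAffineOpen_mem_and_subset (x := g₀ x) (U := ⊤) trivial
    obtain ⟨W, hW, hxW, hle⟩ := exists_isAffineOpen_mem_and_subset (x := x) (U := g₀ ⁻¹ᵁ V) hxV
    exact ⟨⟨W, hW⟩, ⟨V, hV⟩, hle, hxW⟩
  choose U V hle hxU using hcov
  let fsU : ∀ x : X₀, List Γ(X₀, (U x).1) := fun x => RegPt.resList (U x).1 fs
  letI : ∀ x : X₀, Algebra Γ(D.obj i₀, (V x).1) Γ(X₀, (U x).1) := fun x =>
    (g₀.appLE (V x).1 (U x).1 (hle x)).hom.toAlgebra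
  have hC : ∀ x : X₀, ∃ C : LimModLib.AlgColim Γ(D.obj i₀, (V x).1) (Over i₀)
      (fun j => Γ(D.obj j.left, LimModLib.stage (V x).1 j)) Γ(c.pt, LimModLib.limOpen c (V x).1),
      ∀ (j : Over i₀) (y : Γ(D.obj j.left, LimModLib.stage (V x).1 j)), C.t (𝟙 j) y = y := fun x => by
    obtain ⟨C, hCt, -⟩ := LimModLib.exists_algColim hc (V x).2
    refine ⟨C, fun j y => ?_⟩
    rw [hCt, LimModLib.appLE_congr' (show D.map (Over.Hom.left (𝟙 j)) = 𝟙 _ by
      rw [Over.id_left, D.map_id])]
    simp only [Scheme.Hom.appLE, Scheme.Hom.id_app, Category.id_comp]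
    exact congr($((D.obj j.left).presheaf.map_id _) y)
  have hle' : ∀ (x : X₀) {T' : Scheme.{u}} (b : T' ⟶ D.obj i₀) (y : ↑(Limits.pullback g₀ b)),
      Limits.pullback.fst g₀ b y ∈ (U x).1 → Limits.pullback.snd g₀ b y ∈ b ⁻¹ᵁ (V x).1 := by
    intro x T' b y hy
    have := hle x hy
    rwa [Scheme.Hom.mem_preimage, ← Scheme.Hom.comp_apply, Limits.pullback.condition,
      Scheme.Hom.comp_apply] at this
  constructor
  · intro h
    obtain ⟨s, hs⟩ := isCompact_univ.elim_finite_subcover (fun x => ((U x).1 : Set X₀))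
      (fun x => (U x).1.2) fun x _ => Set.mem_iUnion.2 ⟨x, hxU x⟩
    have hloc : ∀ x : X₀, ∃ j : Over i₀,
        RegPt.TCond Γ(D.obj i₀, (V x).1) Γ(D.obj j.left, LimModLib.stage (V x).1 j) (fsU x) := by
      intro x
      haveI : Algebra.FinitePresentation Γ(D.obj i₀, (V x).1) Γ(X₀, (U x).1) :=
        g₀.finitePresentation_appLE (V x).2 (U x).2 (hle x)
      obtain ⟨C, hid⟩ := hC x
      obtain ⟨hW, hiff⟩ := RegPt.isTRPair_pullback_iff hX fs (U x).2 (V x).2 (hle x)
        ((V x).2.preimage (c.π.app i₀)) le_rfl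
      refine RegPt.exists_tcond C hid (hiff.mp ?_)
      have := h ⟨_, hW⟩ ⟨_, (V x).2.preimage (c.π.app i₀)⟩ inf_le_right
      unfold RegPt.IsTRPair RegPt.resList
      rw [List.map_map]
      exact this
    choose j hj using hloc
    obtain ⟨k, hk⟩ := IsCofiltered.inf_objs_exists (s.image j)
    refine ⟨k.left, k.hom, fun U' V' e' => ?_⟩
    have key := RegPt.isTRPair_of_cover (Limits.pullback.snd g₀ (D.map k.hom))
      (fs.map (fun f => (Limits.pullback.fst g₀ (D.map k.hom)).appTop.hom f)) (fun y => ?_) U' V' e'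
    · unfold RegPt.IsTRPair RegPt.resList at key
      rw [List.map_map] at key
      exact key
    obtain ⟨x, hx, hmem⟩ := Set.mem_iUnion₂.1 (hs (Set.mem_univ (Limits.pullback.fst g₀ (D.map k.hom) y)))
    obtain ⟨hW, hiff⟩ := RegPt.isTRPair_pullback_iff (IsPullback.of_hasPullback g₀ (D.map k.hom)) fs
      (U x).2 (V x).2 (hle x) ((V x).2.preimage (D.map k.hom)) le_rfl
    obtain ⟨C, hid⟩ := hC x
    exact ⟨⟨_, hW⟩, ⟨_, (V x).2.preimage (D.map k.hom)⟩, inf_le_right, ⟨hmem, hle' x _ y hmem⟩,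
      hiff.mpr (RegPt.tcond_later C (hk (Finset.mem_image_of_mem j hx)).some (hj x))⟩
  · rintro ⟨j, φ, h⟩ U' V' e'
    have key := RegPt.isTRPair_of_cover (Limits.pullback.snd g₀ (c.π.app i₀))
      (fs.map (fun f => (Limits.pullback.fst g₀ (c.π.app i₀)).appTop.hom f)) (fun y => ?_) U' V' e'
    · unfold RegPt.IsTRPair RegPt.resList at key
      rw [List.map_map] at key
      exact key
    let x := Limits.pullback.fst g₀ (c.π.app i₀) y
    obtain ⟨hW, hiff⟩ := RegPt.isTRPair_pullback_iff hX fs (U x).2 (V x).2 (hle x)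
      ((V x).2.preimage (c.π.app i₀)) le_rfl
    obtain ⟨C, hid⟩ := hC x
    refine ⟨⟨_, hW⟩, ⟨_, (V x).2.preimage (c.π.app i₀)⟩, inf_le_right, ⟨hxU x, hle' x _ y (hxU x)⟩,
      hiff.mpr ?_⟩
    -- the condition at the stage gives the one at the limit
    obtain ⟨hWj, hiffj⟩ := RegPt.isTRPair_pullback_iff (IsPullback.of_hasPullback g₀ (D.map φ)) fs
      (U x).2 (V x).2 (hle x) ((V x).2.preimage (D.map φ)) le_rfl
    have hj : RegPt.TCond Γ(D.obj i₀, (V x).1)
        Γ(D.obj (Over.mk φ).left, LimModLib.stage (V x).1 (Over.mk φ)) (fsU x) := by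
      refine hiffj.mp ?_
      have := h ⟨_, hWj⟩ ⟨_, (V x).2.preimage (D.map φ)⟩ inf_le_right
      unfold RegPt.IsTRPair RegPt.resList
      rw [List.map_map]
      exact this
    exact RegPt.tcond_lim C (j := Over.mk φ) hj

end Groth.Agent.S5990
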