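import Groth.Statements.S5991
import Groth.Agent.CplKaehler4.Basic

set_option autoImplicit false
universe u
open scoped TensorProduct
open EGA418

namespace Groth.Agent.S5991

/-- Let k be a field, R and S complete Noetherian local k-algebras such that the module of differentials
of the residue field of S over k is finite-dimensional, and let S be a finite R-algebra through a
k-algebra homomorphism R → S. Write m for the maximal ideal of S and complete m-adically. Then the
S-module Ω_{S/R} is m-adically complete (it is its own completion), and the sequence of completed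
modules (S ⊗_R Ω_{R/k})^ ⟶ (Ω_{S/k})^ ⟶ (Ω_{S/R})^ ⟶ 0, induced by the canonical maps S ⊗_R Ω_{R/k}
⟶ Ω_{S/k} ⟶ Ω_{S/R}, is exact: the second map is surjective and its kernel is the image of the
first. -/
theorem result (k R S : Type u) [Field k] [CommRing R] [IsNoetherianRing R]
    [IsLocalRing R] [Algebra k R] [IsAdicComplete (IsLocalRing.maximalIdeal R) R]
    [CommRing S] [IsNoetherianRing S] [IsLocalRing S] [Algebra k S]
    [IsAdicComplete (IsLocalRing.maximalIdeal S) S] [Algebra R S] [IsScalarTower k R S]
    [Module.Finite R S] [Module.Finite (IsLocalRing.ResidueField S) (Ω[IsLocalRing.ResidueField S⁄k])] :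
    IsAdicComplete (IsLocalRing.maximalIdeal S) (Ω[S⁄R]) ∧
      Function.Surjective (AdicCompletion.map (IsLocalRing.maximalIdeal S) (KaehlerDifferential.map k R S S)) ∧
      LinearMap.range (AdicCompletion.map (IsLocalRing.maximalIdeal S) (KaehlerDifferential.mapBaseChange k R S)) =
        LinearMap.ker (AdicCompletion.map (IsLocalRing.maximalIdeal S) (KaehlerDifferential.map k R S S)) := by
  classical
  set m := IsLocalRing.maximalIdeal S with hm
  haveI : Algebra.FiniteType R S := Module.Finite.finiteType S
  have hcpl : IsAdicComplete m (Ω[S⁄R]) := Groth.Agent.AdicLib.isAdicComplete_of_finite m _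
  have hs : Function.Surjective (KaehlerDifferential.map k R S S) :=
    KaehlerDifferential.map_surjective k R S
  have hex := KaehlerDifferential.exact_mapBaseChange_map k R S
  refine ⟨hcpl, AdicCompletion.map_surjective m hs, le_antisymm ?_ ?_⟩
  · rintro y ⟨x, rfl⟩
    rw [LinearMap.mem_ker, AdicCompletion.map_comp_apply, hex.linearMap_comp_eq_zero, AdicCompletion.map_zero,
      LinearMap.zero_apply]
  · intro y hy
    haveI : Module.Finite (S ⧸ m) (Ω[S ⧸ m⁄k]) :=
      (inferInstance : Module.Finite (IsLocalRing.ResidueField S) (Ω[IsLocalRing.ResidueField S⁄k]))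
    haveI : Module.Finite S m.Cotangent :=
      Module.Finite.of_surjective m.toCotangent (Ideal.toCotangent_surjective _)
    haveI : Module.Finite (S ⧸ m) m.Cotangent :=
      Module.Finite.of_restrictScalars_finite S (S ⧸ m) m.Cotangent
    haveI := Groth.Agent.CplKaehler4.finite_quot_kaehler (A := k) m
    obtain ⟨x, rfl⟩ := Groth.Agent.CplKaehler4.of_surjective m y
    rw [LinearMap.mem_ker, AdicCompletion.map_of] at hy
    have hx : KaehlerDifferential.map k R S S x = 0 :=
      (AdicCompletion.of_bijective m (Ω[S⁄R])).1 (hy.trans (map_zero _).symm)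
    obtain ⟨z, rfl⟩ := (hex x).1 hx
    exact ⟨AdicCompletion.of m _ z, AdicCompletion.map_of m _ z⟩

end Groth.Agent.S5991
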