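import Groth.Statements.S5992
import Groth.Agent.CplKaehler4.RadicialGeneric
-- import your own Groth.Agent.* helpers here

set_option autoImplicit false
universe u
open scoped TensorProduct
open EGA418

namespace Groth.Agent.S5992

/-- Let k be a field of characteristic exponent p such that k is finite over its subfield k^p (the
Frobenius endomorphism of k is a finite ring map), and A a complete Noetherian local k-algebra which
is an integral domain, not a field, whose residue field is a finite extension of k; let n = dim A.
Then there is a finite purely inseparable extension k' of k such that, A' denoting the reduction of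
k' ⊗_k A modulo its nilradical, A' is a local domain and there is a local k'-algebra homomorphism
from the power series ring k'[[T_1, …, T_n]] to A' which is injective, makes A' a finite algebra,
and is unramified at the zero ideal of A' (so the fraction field of A' is a finite separable
extension of that of k'[[T_1, …, T_n]]). -/
theorem result (p : ℕ) (k A : Type u) [Field k]
    [ExpChar k p] (hk : (frobenius k p).Finite) [CommRing A] [IsDomain A] [IsNoetherianRing A] [IsLocalRing A]
    [Algebra k A] [IsAdicComplete (IsLocalRing.maximalIdeal A) A]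
    [Module.Finite k (IsLocalRing.ResidueField A)] (hA : ¬ IsField A) (n : ℕ) (hn : ringKrullDim A = n) :
    ∃ (k' : Type u) (_ : Field k') (_ : Algebra k k'), Module.Finite k k' ∧ IsPurelyInseparable k k' ∧
      ∃ (_ : IsDomain ((k' ⊗[k] A) ⧸ nilradical (k' ⊗[k] A)))
        (_ : IsLocalRing ((k' ⊗[k] A) ⧸ nilradical (k' ⊗[k] A)))
        (_ : Algebra (MvPowerSeries (Fin n) k') ((k' ⊗[k] A) ⧸ nilradical (k' ⊗[k] A)))
        (_ : IsScalarTower k' (MvPowerSeries (Fin n) k') ((k' ⊗[k] A) ⧸ nilradical (k' ⊗[k] A))),
        IsLocalHom (algebraMap (MvPowerSeries (Fin n) k') ((k' ⊗[k] A) ⧸ nilradical (k' ⊗[k] A))) ∧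
        Function.Injective (algebraMap (MvPowerSeries (Fin n) k') ((k' ⊗[k] A) ⧸ nilradical (k' ⊗[k] A))) ∧
        Module.Finite (MvPowerSeries (Fin n) k') ((k' ⊗[k] A) ⧸ nilradical (k' ⊗[k] A)) ∧
        Algebra.IsUnramifiedAt (MvPowerSeries (Fin n) k') (⊥ : Ideal ((k' ⊗[k] A) ⧸ nilradical (k' ⊗[k] A))) := by
  obtain ⟨k', i1, i2, h1, h2, h3⟩ := Groth.Agent.CplKaehler4.exists_gr_level p k A
  letI := i1
  letI := i2
  haveI := h1
  haveI := h2
  haveI := h3
  haveI : ExpChar k' p := expChar_of_injective_ringHom (algebraMap k k').injective p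
  haveI : (nilradical (k' ⊗[k] FractionRing A)).IsPrime :=
    Groth.Agent.CplKaehler4.isPrime_nilradical p k k' (FractionRing A)
  haveI := Ideal.Quotient.isDomain (nilradical (k' ⊗[k] FractionRing A))
  obtain ⟨hdom, hloc, f, hinj, hfin, hlh, hf⟩ := Groth.Agent.CplKaehler4.reduction_props p k k' A
  haveI := hdom
  haveI := hloc
  let A' := (k' ⊗[k] A) ⧸ nilradical (k' ⊗[k] A)
  letI : Algebra A A' := f.toRingHom.toAlgebra
  haveI : Module.Finite A A' := hfin
  haveI : IsLocalHom (algebraMap A A') := hlh
  haveI : FaithfulSMul A A' := (faithfulSMul_iff_algebraMap_injective _ _).2 hinj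
  haveI : Algebra.IsIntegral A A' := Algebra.IsIntegral.of_finite _ _
  haveI : IsNoetherianRing A' := IsNoetherianRing.of_finite A A'
  haveI := Groth.Agent.CplKaehler4.isAdicComplete_of_finite_local (A := A) (B := A')
  haveI : IsScalarTower k A A' := IsScalarTower.of_algebraMap_eq fun c => (f.commutes c).symm
  haveI : Module.Finite k (IsLocalRing.ResidueField A') := by
    haveI : Module.Finite (IsLocalRing.ResidueField A) (IsLocalRing.ResidueField A') := inferInstance
    exact Module.Finite.trans (IsLocalRing.ResidueField A) _
  haveI : Module.Finite k' (IsLocalRing.ResidueField A') :=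
    Module.Finite.of_restrictScalars_finite k k' _
  have hA' : ¬ IsField A' := fun h => hA
    (isField_of_isIntegral_of_isField (R := A) (S := A') hinj h)
  have hn' : ringKrullDim A' = n :=
    (Groth.Agent.VarDim.ringKrullDim_eq_of_isIntegral (R := A) (S := A')).trans hn
  obtain ⟨j1, j2, h4, h5, h6, h7⟩ := Groth.Agent.CplKaehler4.exists_unramified_generic p k' A'
    (Groth.Agent.CplKaehler4.frobenius_finite p k k' hk) hA' n hn'
    (Groth.Agent.CplKaehler4.geometricallyRegular_atPrime_bot k k' A)
  exact ⟨k', i1, i2, h1, h2, hdom, hloc, j1, j2, h4, h5, h6, h7⟩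

end Groth.Agent.S5992
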