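import Groth.Statements.S5994
import Groth.Agent.UnibEtale.RatSect
import Groth.Agent.UnibEtale.IntNhd

set_option autoImplicit false
universe u
open CategoryTheory AlgebraicGeometry
open Unram

namespace Groth.Agent.S5994

/-- Let Y be a reduced scheme whose irreducible components form a locally finite family, f : X ⟶ Y a
separated, locally of finite type, formally unramified morphism, U a dense open subset of Y and u :
U ⟶ X a section of f over U (a representative of a rational section of f). Let y be a point of Y
whose local ring is geometrically unibranch and such that the closure of u(U) in X meets the fibre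
f⁻¹(y). Then u extends to a section over a neighbourhood of y: there are an open V ∋ y and a section
v : V ⟶ X of f over V agreeing with u on U ∩ V. Equivalently: at a geometrically unibranch point
outside the domain of definition of a rational section, the closure of the image of that section
does not meet the fibre. -/
theorem result {X Y : Scheme.{u}} [IsReduced Y]
    (hcomp : LocallyFinite (fun Z : ↥(irreducibleComponents ↥Y) => (Z : Set ↥Y)))
    (f : X ⟶ Y) [IsSeparated f] [LocallyOfFiniteType f] [FormallyUnramified f]
    (U : Y.Opens) (hU : Dense (U : Set ↥Y)) (u : (U : Scheme.{u}) ⟶ X) (hu : u ≫ f = U.ι)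
    (y : Y) (hy : CAlg2.IsGeomUnibranch (Y.presheaf.stalk y))
    (hZ : (closure (Set.range u) ∩ f ⁻¹' {y}).Nonempty) :
    ∃ (V : Y.Opens) (v : (V : Scheme.{u}) ⟶ X), y ∈ V ∧ v ≫ f = V.ι ∧
      Y.homOfLE (inf_le_left : U ⊓ V ≤ U) ≫ u = Y.homOfLE (inf_le_right : U ⊓ V ≤ V) ≫ v := by
  obtain ⟨x, hx, rfl⟩ := hZ
  obtain ⟨W₀, hxW, hW₀⟩ := UnibEtale.exists_integral_nhd hcomp (f.base x) hy
  obtain ⟨V, v, hxV, hv, -, hag⟩ := UnibEtale.exists_extension f W₀ U
    (Set.inter_comm _ _ ▸ hU.inter_open_nonempty _ W₀.2 ⟨_, hxW⟩) u hu x hxW hy hx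
  exact ⟨V, v, hxV, hv, hag⟩

end Groth.Agent.S5994
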