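import Groth.Statements.S5995
import Groth.Agent.UnibEtale.RatSect
import Groth.Agent.UnibEtale.IntNhd
import Groth.Agent.FlatPtDesc.Graph

set_option autoImplicit false
universe u
open CategoryTheory AlgebraicGeometry
open Unram

namespace Groth.Agent.S5995

/-- Let Y be a reduced scheme whose irreducible components form a locally finite family and all of whose
local rings are geometrically unibranch, f : X ⟶ Y a separated, locally of finite type, formally
unramified morphism, and u : U ⟶ X a section of f over a dense open U of Y which cannot be extended: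
whenever v is a section of f over an open V agreeing with u on U ∩ V, V is contained in U (so U is
the domain of definition of the rational section defined by u). Then the image u(U) is an open and
closed subset of X. -/
theorem result {X Y : Scheme.{u}} [IsReduced Y]
    (hcomp : LocallyFinite (fun Z : ↥(irreducibleComponents ↥Y) => (Z : Set ↥Y)))
    (f : X ⟶ Y) [IsSeparated f] [LocallyOfFiniteType f] [FormallyUnramified f]
    (U : Y.Opens) (hU : Dense (U : Set ↥Y)) (u : (U : Scheme.{u}) ⟶ X) (hu : u ≫ f = U.ι)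
    (hY : ∀ y : Y, CAlg2.IsGeomUnibranch (Y.presheaf.stalk y))
    (hmax : ∀ (V : Y.Opens) (v : (V : Scheme.{u}) ⟶ X), v ≫ f = V.ι →
      Y.homOfLE (inf_le_left : U ⊓ V ≤ U) ≫ u = Y.homOfLE (inf_le_right : U ⊓ V ≤ V) ≫ v → V ≤ U) :
    IsOpen (Set.range u) ∧ IsClosed (Set.range u) := by
  haveI : IsOpenImmersion (u ≫ f) := by rw [hu]; infer_instance
  haveI := FlatPtDesc.isOpenImmersion_of_comp u f
  refine ⟨u.isOpenEmbedding.isOpen_range, isClosed_of_closure_subset fun x hx => ?_⟩
  obtain ⟨W₀, hxW, hW₀⟩ := UnibEtale.exists_integral_nhd hcomp (f x) (hY _)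
  obtain ⟨V, v, hxV, hv, hvx, hag⟩ := UnibEtale.exists_extension f W₀ U
    (Set.inter_comm _ _ ▸ hU.inter_open_nonempty _ W₀.2 ⟨_, hxW⟩) u hu x hxW (hY _) hx
  have hyU : f x ∈ U := hmax V v hv hag hxV
  refine ⟨⟨f x, hyU⟩, ?_⟩
  let p : ((U ⊓ V : Y.Opens) : Scheme.{u}) := ⟨f x, hyU, hxV⟩
  have h1 : u ((Y.homOfLE (inf_le_left : U ⊓ V ≤ U)) p) = v ((Y.homOfLE (inf_le_right : U ⊓ V ≤ V)) p) :=
    congrArg (fun g => g.base p) hag
  refine Eq.trans ?_ hvx
  refine Eq.trans (congrArg u ?_) (h1.trans (congrArg v ?_))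
  · apply U.ι.injective
    show f x = (Y.homOfLE (inf_le_left : U ⊓ V ≤ U) ≫ U.ι) p
    rw [Scheme.homOfLE_ι]; rfl
  · apply V.ι.injective
    show (Y.homOfLE (inf_le_right : U ⊓ V ≤ V) ≫ V.ι) p = f x
    rw [Scheme.homOfLE_ι]; rfl

end Groth.Agent.S5995
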