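import Groth.Statements.S5996
import Groth.Agent.UnibEtale.RatSect
import Groth.Agent.UnibEtale.IntNhd

set_option autoImplicit false
universe u
open CategoryTheory AlgebraicGeometry
open Unram

namespace Groth.Agent.S5996

/-- Let Y be a reduced scheme whose irreducible components form a locally finite family, f : X ⟶ Y a
separated, locally of finite type, formally unramified morphism such that f(T) is closed in Y for
every closed irreducible subset T of X, and u : U ⟶ X a section of f over a dense open U of Y. Then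
for every point y of Y whose local ring is geometrically unibranch there are an open V ∋ y and a
section v : V ⟶ X of f agreeing with u on U ∩ V: the rational section defined by u is defined at
every geometrically unibranch point. -/
theorem result {X Y : Scheme.{u}} [IsReduced Y]
    (hcomp : LocallyFinite (fun Z : ↥(irreducibleComponents ↥Y) => (Z : Set ↥Y)))
    (f : X ⟶ Y) [IsSeparated f] [LocallyOfFiniteType f] [FormallyUnramified f]
    (U : Y.Opens) (hU : Dense (U : Set ↥Y)) (u : (U : Scheme.{u}) ⟶ X) (hu : u ≫ f = U.ι)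
    (hcl : ∀ T : Set ↥X, IsClosed T → IsIrreducible T → IsClosed (f '' T))
    (y : Y) (hy : CAlg2.IsGeomUnibranch (Y.presheaf.stalk y)) :
    ∃ (V : Y.Opens) (v : (V : Scheme.{u}) ⟶ X), y ∈ V ∧ v ≫ f = V.ι ∧
      Y.homOfLE (inf_le_left : U ⊓ V ≤ U) ≫ u = Y.homOfLE (inf_le_right : U ⊓ V ≤ V) ≫ v := by
  obtain ⟨W₀, hyW, hW₀⟩ := UnibEtale.exists_integral_nhd hcomp y hy
  let η : W₀.toScheme := genericPoint W₀.toScheme
  obtain ⟨w, hwW, hwU⟩ := hU.inter_open_nonempty _ W₀.2 ⟨_, hyW⟩
  have hgen : ∀ w : Y, w ∈ W₀ → W₀.ι η ⤳ w := fun w hw =>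
    (genericPoint_specializes (α := W₀.toScheme) ⟨w, hw⟩).map W₀.ι.continuous
  have hηU : W₀.ι η ∈ U := (hgen w hwW).mem_open U.2 hwU
  let z : X := u ⟨W₀.ι η, hηU⟩
  have hfz : f z = W₀.ι η := congrArg (fun g => g.base ⟨W₀.ι η, hηU⟩) hu
  obtain ⟨x, hx, rfl⟩ : y ∈ f '' closure {z} := by
    refine (hgen y hyW).mem_closed (hcl _ isClosed_closure isIrreducible_singleton.closure) ?_
    exact ⟨z, subset_closure rfl, hfz⟩
  have hz : z ∈ Set.range u := ⟨_, rfl⟩
  obtain ⟨V, v, hxV, hv, -, hag⟩ := UnibEtale.exists_extension f W₀ U ⟨w, hwU, hwW⟩ u hu x hyW hy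
    (closure_mono (Set.singleton_subset_iff.2 hz) hx)
  exact ⟨V, v, hxV, hv, hag⟩

end Groth.Agent.S5996
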