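import Groth.Statements.S5999
import Groth.Agent.SmoothQuot7.Basic
-- import your own Groth.Agent.* helpers here

set_option autoImplicit false
universe u
open SGA1

namespace Groth.Agent.S5999



open TensorProduct in
/-- Let R be a Noetherian ring, A an R-algebra of finite type, F an element of A, P a prime ideal of
A/(F) and q its preimage in A, and suppose A is smooth over R at q. Then the hypersurface A/(F) is
smooth over R at P if and only if either F is zero in the local ring A_q (F vanishes on a
neighbourhood of q) or the image dF(q) of the differential of F in κ(q) ⊗_A Ω_{A/R} is nonzero. -/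
theorem result
    (R A : Type u) [CommRing R] [CommRing A] [IsNoetherianRing R] [Algebra R A] [Algebra.FiniteType R A]
    (F : A) (P : Ideal (A ⧸ Ideal.span ({F} : Set A))) [P.IsPrime]
    (hX : Algebra.IsSmoothAt R (P.comap (Ideal.Quotient.mk (Ideal.span ({F} : Set A))))) :
    letI q : Ideal A := P.comap (Ideal.Quotient.mk (Ideal.span ({F} : Set A)))
    Algebra.IsSmoothAt R P ↔ algebraMap A (Localization.AtPrime q) F = 0 ∨
      (1 : q.ResidueField) ⊗ₜ[A] KaehlerDifferential.D R A F ≠ 0 := by
  let q : Ideal A := P.comap (Ideal.Quotient.mk (Ideal.span ({F} : Set A)))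
  haveI : Algebra.IsSmoothAt R q := hX
  haveI : IsNoetherianRing A := Algebra.FiniteType.isNoetherianRing R A
  classical
  constructor
  · intro hP
    by_contra hcon
    push Not at hcon
    obtain ⟨θ, hθ⟩ := Groth.Agent.SmoothQuot7.exists_jac (R := R) (Ideal.span ({F} : Set A)) q P rfl
    have hinj := hθ.1 hP
    let J := Groth.Agent.SmoothQuot7.locIdeal (Ideal.span ({F} : Set A)) q
    have hF : algebraMap A (Localization.AtPrime q) F ∈ J :=
      Ideal.mem_map_of_mem _ (Ideal.subset_span rfl)
    have h0 : (1 : q.ResidueField) ⊗ₜ[Localization.AtPrime q] (⟨_, hF⟩ : J) = 0 :=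
      hinj (by rw [θ.apply_tmul, hcon.2, map_zero])
    have hspan : J = Ideal.span (algebraMap A (Localization.AtPrime q) '' ({F} : Set A)) :=
      Ideal.map_span _ _
    have htop := Groth.Agent.SmoothQuot7.span_eq_top (Ideal.span ({F} : Set A)) q hspan
    haveI : IsNoetherianRing (Localization.AtPrime q) := IsLocalization.isNoetherianRing q.primeCompl _ inferInstance
    haveI : Module.Finite (Localization.AtPrime q) J := Module.Finite.of_fg (IsNoetherian.noetherian _)
    have hsub : Subsingleton (q.ResidueField ⊗[Localization.AtPrime q] J) := by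
      rw [← Submodule.subsingleton_iff q.ResidueField, ← subsingleton_iff_bot_eq_top, ← htop, eq_comm,
        Submodule.span_eq_bot]
      rintro z ⟨g, hg, h, rfl⟩
      obtain rfl : g = F := hg
      exact h0
    have hJ : Subsingleton J := (IsLocalRing.subsingleton_tensorProduct (R := Localization.AtPrime q)).1 hsub
    exact hcon.1 (congrArg Subtype.val (hJ.elim (⟨_, hF⟩ : J) 0))
  · rintro (h | h)
    · refine (Groth.Agent.SmoothQuot7.isSmoothAt_iff _ q P rfl).2 ⟨∅, by simp, ?_, linearIndependent_empty_type⟩
      simp [Groth.Agent.SmoothQuot7.locIdeal, Ideal.map_span]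
      exact h
    · refine (Groth.Agent.SmoothQuot7.isSmoothAt_iff _ q P rfl).2
        ⟨{F}, by simp, by simp [Groth.Agent.SmoothQuot7.locIdeal, Ideal.map_span], ?_⟩
      haveI : Unique ↥({F} : Finset A) := ⟨⟨⟨F, Finset.mem_singleton_self F⟩⟩, fun x => Subtype.ext (Finset.mem_singleton.1 x.2)⟩
      exact LinearIndependent.of_subsingleton (R := q.ResidueField) (⟨F, Finset.mem_singleton_self F⟩ : ↥({F} : Finset A)) h

end Groth.Agent.S5999
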