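import Groth.Statements.S6005
import Groth.Agent.CechTorsorX.GaGmH90
-- import your own Groth.Agent.* helpers here

set_option autoImplicit false
universe u
open CategoryTheory AlgebraicGeometry
open SGA1

open CategoryTheory MonoidalCategory CartesianMonoidalCategory

namespace Groth.Agent.S6005

/-- Every principal homogeneous bundle under the multiplicative group over S (a pseudo-torsor which
acquires sections on the members of some fpqc covering family of S) is locally trivial, i.e. is a
torsor for the Zariski topology: S is covered by open subschemes over which it acquires sections.
(The published statement covers every S-group isomorphic to the general linear group of any rank;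
this row is the rank-one case.) -/
theorem result {S : Scheme.{u}} (X : Over S)
    (a : AlgGrp.Action (Red.Gm S) X) (h : NonAbH1.IsTorsorFor Scheme.fpqcPrecoverage a) :
    NonAbH1.IsTorsorFor Scheme.zariskiPrecoverage a := by
  exact ⟨h.1, by
    have hloc : NonAbH1.IsLocallyTrivialFor Scheme.fpqcPrecoverage (Over.mk (toUnit X).left : Over (𝟙_ (Over S)).left) := by
      have e : (toUnit X).left = X.hom := (Category.comp_id _).symm.trans (Over.w (toUnit X))
      rw [e]
      exact h.2
    have := Groth.Agent.CechTorsorX.ZariskiTriv.isLocallyTrivial Groth.Agent.CechTorsorX.GaGmH90.localH90_gm a (toUnit X)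
      (toUnit_unique _ _) (fun T x y _ => Groth.Agent.SchTorsor.exists_div h.1 x y)
      (fun T g g' y hg => Groth.Agent.SchTorsor.act_free h.1 hg) hloc
    have e : (toUnit X).left = X.hom := (Category.comp_id _).symm.trans (Over.w (toUnit X))
    rw [e] at this
    exact this⟩

end Groth.Agent.S6005
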