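import Groth.Statements.S6007
import Groth.Agent.Pi1Ext.KummerSeq
-- import your own Groth.Agent.* helpers here

set_option autoImplicit false
universe u
open CategoryTheory AlgebraicGeometry MonoidalCategory CartesianMonoidalCategory MonObj GrpObj
open SGA1t

namespace Groth.Agent.S6007

/-- For a scheme S and an integer n ≥ 1 the Kummer sequence 1 → μ_n → G_m → G_m → 1 over S is exact for
the fpqc topology. Here G_m = D_S(Z), μ_n = D_S(Z/n) mapped into G_m by the diagonalisable-group
morphism induced by Z → Z/n, and G_m → G_m is the n-th power map, the character of D_S(Z) attached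
to n; exactness means that both maps are homomorphisms with trivial composite, that (g, z) ↦ (g, gz)
identifies G_m ×_S μ_n with the fibre product of the n-th power map with itself, and that the n-th
power map acquires sections on the members of some fpqc covering family of its target. -/
theorem result {S : Scheme.{u}} (n : ℕ) (hn : 0 < n) :
    NonAbH1.IsExactSeq Scheme.fpqcPrecoverage
      (Red.DSmap S (Int.castAddHom (ZMod n))) (Red.chi S (n : ℤ)) := by
  obtain ⟨h1, h2, h3, h4, R, hR, h5⟩ := Groth.Agent.Pi1Ext.KummerSeq.isExactSeq_fppf (S := S) n hn
  exact ⟨h1, h2, h3, h4, R, AlgebraicGeometry.Scheme.fppfPrecoverage_le_fpqcPrecoverage _ hR, h5⟩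

end Groth.Agent.S6007
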