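import Groth.Statements.S6008
import Groth.Agent.Pi1Ext.ASSeq
-- import your own Groth.Agent.* helpers here

set_option autoImplicit false
universe u
open CategoryTheory AlgebraicGeometry MonoidalCategory CartesianMonoidalCategory MonObj GrpObj
open SGA1t

namespace Groth.Agent.S6008

/-- Let p be a prime and S a scheme of characteristic p (p = 0 in the ring of global functions). Let F
be the Frobenius endomorphism of the additive group over S, the S-endomorphism which raises the
coordinate function of every point to the p-th power, and let P be the difference of the identity
and F in the group of endomorphisms (on points x ↦ x − x^p). Let G' be the constant S-group (Z/p)_S: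
an S-group together with an isomorphism of S-schemes e from G' to the disjoint union of copies of S
indexed by Z/p, under which the S-points of indices m and n multiply to the S-point of index m + n;
and let i : G' → G_a be the homomorphism of S-groups which sends the S-point of index 1 to the point
whose coordinate is the unit global function. Then the Artin-Schreier sequence 1 → (Z/p)_S → G_a →
G_a → 1 is exact for the fpqc topology: i and P are homomorphisms with trivial composite, (x, g) ↦
(x, x + i(g)) identifies G_a ×_S G' with the fibre product of P with itself (so that i is a kernel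
of P), and P acquires sections on the members of some fpqc covering family of its target. -/
theorem result (p : ℕ) [Fact p.Prime] {S : Scheme.{u}}
    (hp : (p : Γ(S, ⊤)) = 0) (F : Red.Ga S ⟶ Red.Ga S)
    (hF : ∀ (T : Over S) (x : T ⟶ Red.Ga S), Red.gaFn (x ≫ F) = Red.gaFn x ^ p)
    {G' : Over S} [GrpObj G'] (e : G' ≅ TwC.const S (Multiplicative (ZMod p)))
    (he : TwC.IsConstGrp (Multiplicative (ZMod p)) G' e)
    (i : G' ⟶ Red.Ga S) [IsMonHom i]
    (hi : Red.gaFn (TwC.pt S (Multiplicative (ZMod p)) (Multiplicative.ofAdd 1) ≫ e.inv ≫ i) = 1) :
    NonAbH1.IsExactSeq Scheme.fpqcPrecoverage i (𝟙 (Red.Ga S) * F⁻¹) := by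
  exact Groth.Agent.Pi1Ext.ASSeq.isExactSeq_fpqc hp F hF e he i hi

end Groth.Agent.S6008
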