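import Groth.Statements.S6011


set_option autoImplicit false
universe u
open CategoryTheory AlgebraicGeometry
open SGA1

open CategoryTheory MonoidalCategory CartesianMonoidalCategory MonObj

namespace Groth.Agent.S6011

/-- An S-scheme X with an action of the S-group G is trivial — equivariantly isomorphic over S to G
acting on itself by translation — if and only if it is formally principal homogeneous (a
pseudo-torsor) and admits a section over S. -/
theorem result {S : Scheme.{u}}
    (G X : Over S) [GrpObj G] (a : AlgGrp.Action G X) :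
    Nonempty (NonAbH1.EquivIso (NonAbH1.trivialAction G) a) ↔
      (NonAbH1.IsPseudoTorsorSch a ∧ NonAbH1.HasSectionOver X (𝟙 S)) := by
  constructor
  · rintro ⟨⟨iso, comm⟩⟩
    refine ⟨?_, ⟨(η[G] ≫ iso.hom).left, ?_⟩⟩
    · have h := NonAbH1.isPseudoTorsorSch_trivialAction G
      unfold NonAbH1.IsPseudoTorsorSch at h ⊢
      haveI := h
      have e : (G ◁ iso.hom) ≫ lift a.act (snd G X) =
          lift (NonAbH1.trivialAction G).act (snd G G) ≫ (iso.hom ⊗ₘ iso.hom) := by
        rw [comp_lift, lift_map, comm, whiskerLeft_snd]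
      have e' : lift a.act (snd G X) = (G ◁ iso.inv) ≫
          lift (NonAbH1.trivialAction G).act (snd G G) ≫ (iso.hom ⊗ₘ iso.hom) := by
        rw [← e, ← Category.assoc, ← MonoidalCategory.whiskerLeft_comp, iso.inv_hom_id,
          MonoidalCategory.whiskerLeft_id, Category.id_comp]
      rw [e']
      infer_instance
    · exact Over.w (η[G] ≫ iso.hom)
  · rintro ⟨hps, s, hs⟩
    unfold NonAbH1.IsPseudoTorsorSch at hps
    haveI := hps
    let x : 𝟙_ (Over S) ⟶ X := Over.homMk s hs
    let j : X ⟶ G ⊗ X := lift (𝟙 X) (toUnit X ≫ x) ≫ inv (lift a.act (snd G X))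
    have hj : j ≫ lift a.act (snd G X) = lift (𝟙 X) (toUnit X ≫ x) := by
      simp only [j, Category.assoc, IsIso.inv_hom_id, Category.comp_id]
    have hj1 : j ≫ a.act = 𝟙 X := by
      have := congrArg (fun t => t ≫ fst X X) hj
      simpa using this
    have hj2 : j ≫ snd G X = toUnit X ≫ x := by
      have := congrArg (fun t => t ≫ snd X X) hj
      simpa using this
    let h : G ⟶ X := lift (𝟙 G) (toUnit G ≫ x) ≫ a.act
    have hhj : h ≫ j = lift (𝟙 G) (toUnit G ≫ x) := by
      rw [← cancel_mono (lift a.act (snd G X)), Category.assoc, hj, comp_lift, comp_lift,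
        Category.comp_id, lift_snd, ← Category.assoc, toUnit_unique (h ≫ toUnit X) (toUnit G)]
    refine ⟨⟨⟨h, j ≫ fst G X, ?_, ?_⟩, ?_⟩⟩
    · rw [← Category.assoc, hhj, lift_fst]
    · have : (j ≫ fst G X) ≫ lift (𝟙 G) (toUnit G ≫ x) = j := by
        apply CartesianMonoidalCategory.hom_ext
        · simp
        · rw [Category.assoc, lift_snd, ← Category.assoc,
            toUnit_unique ((j ≫ fst G X) ≫ toUnit G) (toUnit X), hj2]
      show (j ≫ fst G X) ≫ lift (𝟙 G) (toUnit G ≫ x) ≫ a.act = 𝟙 X
      rw [← Category.assoc, this, hj1]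
    · show μ[G] ≫ h = (G ◁ h) ≫ a.act
      have e1 : μ[G] ≫ h = lift (𝟙 (G ⊗ G)) (toUnit (G ⊗ G) ≫ x) ≫ (μ[G] ▷ X) ≫ a.act := by
        rw [lift_whiskerRight_assoc, Category.id_comp]
        simp only [h, ← Category.assoc, comp_lift, Category.comp_id]
        rw [toUnit_unique (μ[G] ≫ toUnit G) (toUnit (G ⊗ G))]
      have e2 : (G ◁ h) ≫ a.act = lift (𝟙 (G ⊗ G)) (toUnit (G ⊗ G) ≫ x) ≫
          (α_ G G X).hom ≫ (G ◁ a.act) ≫ a.act := by
        simp only [← Category.assoc]
        congr 1
        apply CartesianMonoidalCategory.hom_ext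
        · simp
        · simp only [Category.assoc, whiskerLeft_snd, h]
          simp only [← Category.assoc, comp_lift, Category.comp_id]
          congr 1
          apply CartesianMonoidalCategory.hom_ext <;> simp
      rw [e1, e2, a.mul_act]

end Groth.Agent.S6011
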