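import Groth.Statements.S6012
import Groth.Agent.FibBase.Basic

set_option autoImplicit false
set_option backward.isDefEq.respectTransparency false
set_option backward.isDefEq.respectTransparency.types false
open CategoryTheory
universe v₁ v₂ u₁ u₂
open FibCat FibCat.Cleavage

namespace Groth.Agent.S6012

open CategoryTheory.Functor Groth.Agent.FibBase

/-- Let `K` be a cleavage of an arbitrary functor `p : 𝒳 ⥤ 𝒮` (one chosen cartesian lift of every base
morphism at every object over its target; `p` is not assumed fibred). Then `p` is a fibred category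
(composites of cartesian morphisms are cartesian) if and only if, for all composable base morphisms
`g : R ⟶ T` and `f : T ⟶ S`, the comparison natural transformation `c_{f,g}` from `g^* f^*` to
`(fg)^*` determined by `K` is an isomorphism. -/
theorem result (𝒮 : Type u₁) (𝒳 : Type u₂) [Category.{v₁} 𝒮] [Category.{v₂} 𝒳] (p : 𝒳 ⥤ 𝒮) (K : FibCat.Cleavage p) :
    p.IsFibered ↔ ∀ (R S T : 𝒮) (f : T ⟶ S) (g : R ⟶ T), IsIso (K.comp f g) := by
  constructor
  · intro hp R S T f g
    haveI : ∀ a : p.Fiber S, IsIso ((K.comp f g).app a) := fun a => by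
      haveI h1 : p.IsHomLift (𝟙 R) ((K.comp f g).app a).1 := ((K.comp f g).app a).2
      have e : ((K.comp f g).app a).1 ≫ K.lift a.2 (g ≫ f) = K.lift (K.obj_proj a.2 f) g ≫ K.lift a.2 f :=
        IsCartesian.fac p (g ≫ f) (K.lift a.2 (g ≫ f)) _
      haveI : p.IsStronglyCartesian (g ≫ f) (((K.comp f g).app a).1 ≫ K.lift a.2 (g ≫ f)) := by
        rw [e]
        infer_instance
      haveI : p.IsStronglyCartesian (𝟙 R ≫ g ≫ f) (((K.comp f g).app a).1 ≫ K.lift a.2 (g ≫ f)) := by
        rw [Category.id_comp]; infer_instance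
      haveI : p.IsStronglyCartesian (𝟙 R) ((K.comp f g).app a).1 :=
        IsStronglyCartesian.of_comp (p := p) (ψ := K.lift a.2 (g ≫ f)) (g := g ≫ f)
      haveI := IsStronglyCartesian.isIso_of_base_isIso p (𝟙 R) ((K.comp f g).app a).1
      exact ⟨⟨⟨inv ((K.comp f g).app a).1, IsHomLift.lift_id_inv_isIso p R _⟩,
        Subtype.ext (IsIso.hom_inv_id ((K.comp f g).app a).1), Subtype.ext (IsIso.inv_hom_id ((K.comp f g).app a).1)⟩⟩
    exact NatIso.isIso_of_isIso_app _
  · intro h
    haveI := K.isPreFibered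
    refine { comp := fun {R S T} f g {a b c} φ ψ hφ hψ => ?_ }
    have hc : p.obj c = T := IsHomLift.codomain_eq p g ψ
    have hb : p.obj b = S := IsHomLift.domain_eq p g ψ
    let cF : p.Fiber T := ⟨c, hc⟩
    let i := IsCartesian.domainUniqueUpToIso p f (K.lift hb f) φ
    let j := IsCartesian.domainUniqueUpToIso p g (K.lift hc g) ψ
    let bF : p.Fiber S := ⟨b, hb⟩
    let jF : bF ≅ (K.inverseImage g).obj cF :=
      fiberIsoMk (p := p) (a := bF) (b := (K.inverseImage g).obj cF) j (inferInstanceAs (p.IsHomLift (𝟙 S) (IsCartesian.domainUniqueUpToIso p g (K.lift hc g) ψ).hom))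
    haveI : IsIso (K.comp g f) := h _ _ _ g f
    let kF := (K.inverseImage f).mapIso jF ≪≫ asIso ((K.comp g f).app cF)
    let k : K.obj hb f ≅ K.obj hc (f ≫ g) := ofFiberIso kF
    haveI : p.IsHomLift (𝟙 R) k.hom := ofFiberIso_lift kF
    haveI : p.IsHomLift (𝟙 R) i.hom := inferInstanceAs (p.IsHomLift (𝟙 R) (IsCartesian.domainUniqueUpToIso p f (K.lift hb f) φ).hom)
    let t := i ≪≫ k
    haveI : p.IsHomLift (𝟙 R) t.hom := inferInstanceAs (p.IsHomLift (𝟙 R) (i.hom ≫ k.hom))
    have e1 : i.hom ≫ K.lift hb f = φ := IsCartesian.fac p f (K.lift hb f) φ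
    have e2 : j.hom ≫ K.lift hc g = ψ := IsCartesian.fac p g (K.lift hc g) ψ
    have e3 : ((K.inverseImage f).map jF.hom).1 ≫ K.lift ((K.inverseImage g).obj cF).2 f = K.lift hb f ≫ j.hom :=
      IsCartesian.fac p f (K.lift ((K.inverseImage g).obj cF).2 f) _
    have e4 : ((K.comp g f).app cF).1 ≫ K.lift hc (f ≫ g) = K.lift (K.obj_proj hc g) f ≫ K.lift hc g :=
      IsCartesian.fac p (f ≫ g) (K.lift hc (f ≫ g)) _
    have e : φ ≫ ψ = t.hom ≫ K.lift hc (f ≫ g) := by
      show φ ≫ ψ = (i.hom ≫ ((K.inverseImage f).map jF.hom).1 ≫ ((K.comp g f).app cF).1) ≫ K.lift hc (f ≫ g)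
      rw [Category.assoc, Category.assoc]
      erw [e4, reassoc_of% e3]
      rw [e2]
      erw [reassoc_of% e1]
    rw [e]
    exact IsCartesian.of_iso_comp p (f ≫ g) (K.lift hc (f ≫ g)) t

end Groth.Agent.S6012
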