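import Groth.Statements.S6013
import Groth.Agent.FibBase.Basic

set_option autoImplicit false
set_option backward.isDefEq.respectTransparency false
set_option backward.isDefEq.respectTransparency.types false
open CategoryTheory
universe v₁ v₂ u₁ u₂
open FibCat FibCat.Cleavage

namespace Groth.Agent.S6013

open CategoryTheory.Functor Groth.Agent.FibBase

/-- Let `p : 𝒳 ⥤ 𝒮` be a fibred category with a cleavage `K`, and let `f : T ⟶ S` be an isomorphism of
the base. Then the inverse-image functor `f^*` of `K`, from the fibre over `S` to the fibre over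
`T`, is an equivalence of categories. -/
theorem result (𝒮 : Type u₁) (𝒳 : Type u₂) [Category.{v₁} 𝒮] [Category.{v₂} 𝒳] (p : 𝒳 ⥤ 𝒮) [p.IsFibered] (K : FibCat.Cleavage p)
    (S T : 𝒮) (f : T ⟶ S) [IsIso f] : (K.inverseImage f).IsEquivalence := by
  haveI hiso : ∀ a : p.Fiber S, IsIso (K.lift a.2 f) := fun a =>
    IsStronglyCartesian.isIso_of_base_isIso p f (K.lift a.2 f)
  exact
  { faithful := ⟨fun {a b} φ ψ h => Subtype.ext (by
      have e1 : ((K.inverseImage f).map φ).1 ≫ K.lift b.2 f = K.lift a.2 f ≫ φ.1 := IsCartesian.fac p f (K.lift b.2 f) _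
      have e2 : ((K.inverseImage f).map ψ).1 ≫ K.lift b.2 f = K.lift a.2 f ≫ ψ.1 := IsCartesian.fac p f (K.lift b.2 f) _
      rw [h] at e1
      exact (cancel_epi (K.lift a.2 f)).mp (e1.symm.trans e2))⟩
    full := ⟨fun {a b} m => by
      haveI h1 : p.IsHomLift (𝟙 T) m.1 := m.2
      haveI : p.IsHomLift f (m.1 ≫ K.lift b.2 f) :=
        IsHomLift.comp_lift_id_left' p T m.1 f (K.lift b.2 f)
      haveI : p.IsHomLift (inv f) (inv (K.lift a.2 f)) := inferInstance
      haveI : p.IsHomLift (𝟙 S) (inv (K.lift a.2 f) ≫ m.1 ≫ K.lift b.2 f) := by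
        rw [← IsIso.inv_hom_id f]
        exact inferInstanceAs (p.IsHomLift (inv f ≫ f) (inv (K.lift a.2 f) ≫ (m.1 ≫ K.lift b.2 f)))
      let φ : a ⟶ b := ⟨inv (K.lift a.2 f) ≫ m.1 ≫ K.lift b.2 f, inferInstance⟩
      refine ⟨φ, Subtype.ext ?_⟩
      haveI := ((K.inverseImage f).map φ).2
      refine IsCartesian.ext p f (K.lift b.2 f) _ _ ?_
      refine (IsCartesian.fac p f (K.lift b.2 f) _).trans ?_
      show K.lift a.2 f ≫ inv (K.lift a.2 f) ≫ m.1 ≫ K.lift b.2 f = m.1 ≫ K.lift b.2 f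
      rw [IsIso.hom_inv_id_assoc]⟩
    essSurj := ⟨fun b => by
      let a : p.Fiber S := ⟨K.obj b.2 (inv f), K.obj_proj b.2 (inv f)⟩
      let t : K.obj a.2 f ⟶ b.1 := K.lift a.2 f ≫ K.lift b.2 (inv f)
      haveI : p.IsHomLift (𝟙 T) t := by
        rw [← IsIso.hom_inv_id f]
        exact inferInstanceAs (p.IsHomLift (f ≫ inv f) (K.lift a.2 f ≫ K.lift b.2 (inv f)))
      haveI : IsIso (K.lift b.2 (inv f)) := IsStronglyCartesian.isIso_of_base_isIso p (inv f) _
      haveI : IsIso t := inferInstanceAs (IsIso (K.lift a.2 f ≫ K.lift b.2 (inv f)))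
      exact ⟨a, ⟨fiberIsoMk (p := p) (S := T) (a := (K.inverseImage f).obj a) (b := b) (asIso t) (show p.IsHomLift (𝟙 T) t from inferInstance)⟩⟩⟩ }

end Groth.Agent.S6013
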