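import Groth.Statements.S6016
import Groth.Agent.FibBase.Basic

set_option autoImplicit false
set_option backward.isDefEq.respectTransparency false
set_option backward.isDefEq.respectTransparency.types false
open CategoryTheory
universe v₁ v₂ u₁ u₂
open FibCat FibCat.Cleavage

namespace Groth.Agent.S6016

open CategoryTheory.Functor Groth.Agent.FibBase

/-- Let `K` be a cleavage of an arbitrary functor `p : 𝒳 ⥤ 𝒮` (not assumed normalised, `p` not assumed
fibred) and let `h : V ⟶ U`, `g : U ⟶ T`, `f : T ⟶ S` be base morphisms. Then the two natural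
transformations from `h^* g^* f^*` to `(fgh)^*` built from the comparison morphisms agree: `c_{g,h}`
whiskered on the left by `f^*`, followed by `c_{f,gh}`, equals `c_{f,g}` whiskered on the right by
`h^*`, followed by `c_{fg,h}` (the inverse images along the two bracketings of the triple composite
being identified). -/
theorem result (𝒮 : Type u₁) (𝒳 : Type u₂) [Category.{v₁} 𝒮] [Category.{v₂} 𝒳] (p : 𝒳 ⥤ 𝒮) (K : FibCat.Cleavage p) (S T U V : 𝒮) (f : T ⟶ S) (g : U ⟶ T) (h : V ⟶ U) :
    Functor.whiskerLeft (K.inverseImage f) (K.comp g h) ≫ K.comp f (h ≫ g) ≫ (K.inverseImageCongr (Category.assoc h g f)).hom =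
      Functor.whiskerRight (K.comp f g) (K.inverseImage h) ≫ K.comp (g ≫ f) h := by
  refine NatTrans.ext (funext fun a => Subtype.ext ?_)
  have hcongr : ∀ {f f' : V ⟶ S} (h : f = f') (b : p.Fiber S),
      ((K.inverseImageCongr h).hom.app b).1 ≫ K.lift b.2 f' = K.lift b.2 f := by
    intro f f' h b
    subst h
    exact Category.id_comp _
  have c : ∀ {A B D : 𝒮} (u : B ⟶ A) (w : D ⟶ B) (x : p.Fiber A),
      ((K.comp u w).app x).1 ≫ K.lift x.2 (w ≫ u) = K.lift (K.obj_proj x.2 u) w ≫ K.lift x.2 u :=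
    fun {A B D} u w x => IsCartesian.fac p (w ≫ u) (K.lift x.2 (w ≫ u)) _
  have i : ∀ {A B : 𝒮} (u : B ⟶ A) {x y : p.Fiber A} (φ : x ⟶ y),
      ((K.inverseImage u).map φ).1 ≫ K.lift y.2 u = K.lift x.2 u ≫ φ.1 :=
    fun {A B} u {x y} φ => IsCartesian.fac p u (K.lift y.2 u) _
  haveI := ((Functor.whiskerLeft (K.inverseImage f) (K.comp g h) ≫ K.comp f (h ≫ g) ≫ (K.inverseImageCongr (Category.assoc h g f)).hom).app a).2
  haveI := ((Functor.whiskerRight (K.comp f g) (K.inverseImage h) ≫ K.comp (g ≫ f) h).app a).2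
  refine IsCartesian.ext p (h ≫ g ≫ f) (K.lift a.2 (h ≫ g ≫ f)) _ _ ?_
  show (((K.comp g h).app ((K.inverseImage f).obj a)).1 ≫ ((K.comp f (h ≫ g)).app a).1 ≫ ((K.inverseImageCongr (Category.assoc h g f)).hom.app a).1) ≫ _ =
    (((K.inverseImage h).map ((K.comp f g).app a)).1 ≫ ((K.comp (g ≫ f) h).app a).1) ≫ _
  refine (Category.assoc _ _ _).trans ((congrArg (fun t => _ ≫ t) ((Category.assoc _ _ _).trans
    ((congrArg (fun t => _ ≫ t) (hcongr _ a)).trans (c f (h ≫ g) a)))).trans ?_)
  refine Eq.trans ?_ ((Category.assoc _ _ _).trans (congrArg (fun t => _ ≫ t) (c (g ≫ f) h a))).symm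
  refine (Category.assoc _ _ _).symm.trans ((congrArg (fun t => t ≫ _) (c g h ((K.inverseImage f).obj a))).trans ?_)
  refine (Category.assoc _ _ _).trans ?_
  refine Eq.trans ?_ ((Category.assoc _ _ _).symm.trans ((congrArg (fun t => t ≫ _) (i h ((K.comp f g).app a))).trans
    ((Category.assoc _ _ _).trans (congrArg (fun t => _ ≫ t) (c f g a))))).symm
  rfl

end Groth.Agent.S6016
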