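import Groth.Statements.S6018
import Groth.Agent.FibBase.Basic

set_option autoImplicit false
set_option backward.isDefEq.respectTransparency false
set_option backward.isDefEq.respectTransparency.types false
open CategoryTheory
universe v₁ v₂ v₃ u₁ u₂ u₃
open FibCat FibCat.Cleavage

namespace Groth.Agent.S6018

open CategoryTheory.Functor Groth.Agent.FibBase

/-- Let `K` be a cleavage of a functor `p : 𝒳 ⥤ 𝒮` (neither fibredness nor normalisation is assumed),
let `F, G : 𝒳 ⥤ C` be functors, and for every object `S` of the base let `u_S` be a natural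
transformation between the restrictions of `F` and `G` to the fibre over `S`. If the family is
compatible with the transport morphisms `α_f(a) : f^* a ⟶ a` of `K`, i.e. `G(α_f(a)) ∘ u_T(f^* a) =
u_S(a) ∘ F(α_f(a))` for every base morphism `f : T ⟶ S` and every `a` over `S`, then there is
exactly one natural transformation `F ⟶ G` whose component at every object is the prescribed one.
(The published statement is an isomorphism between the category of all functors `𝒳 ⥤ C` and the
category of compatible families of functors on the fibres of a normalised cloven category; this row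
is its assertion on morphisms, whose published proof does not use the normalisation, so none is
assumed here.) -/
theorem result (𝒮 : Type u₁) (𝒳 : Type u₂) [Category.{v₁} 𝒮]
    [Category.{v₂} 𝒳] (p : 𝒳 ⥤ 𝒮) (K : FibCat.Cleavage p) (C : Type u₃) [Category.{v₃} C] (F G : 𝒳 ⥤ C)
    (u : ∀ S : 𝒮, (Functor.Fiber.fiberInclusion ⋙ F : p.Fiber S ⥤ C) ⟶ Functor.Fiber.fiberInclusion ⋙ G)
    (hu : ∀ ⦃T S : 𝒮⦄ (f : T ⟶ S) (a : p.Fiber S),
      F.map ((K.transport f).app a) ≫ (u S).app a = (u T).app ((K.inverseImage f).obj a) ≫ G.map ((K.transport f).app a)) :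
    ∃! v : F ⟶ G, ∀ (S : 𝒮) (a : p.Fiber S), v.app a.1 = (u S).app a := by
  let fa : ∀ x : 𝒳, p.Fiber (p.obj x) := fun x => ⟨x, rfl⟩
  have hv : ∀ {S : 𝒮} (a : p.Fiber S), (u (p.obj a.1)).app (fa a.1) = (u S).app a := by
    rintro S ⟨x, hx⟩
    subst hx
    rfl
  have nat : ∀ {b a : 𝒳} (φ : b ⟶ a), F.map φ ≫ (u (p.obj a)).app (fa a) = (u (p.obj b)).app (fa b) ≫ G.map φ := by
    intro b a φ
    let χ : fa b ⟶ (K.inverseImage (p.map φ)).obj (fa a) :=
      ⟨IsCartesian.map p (p.map φ) (K.lift (fa a).2 (p.map φ)) φ,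
        inferInstanceAs (p.IsHomLift (𝟙 (p.obj b)) (IsCartesian.map p (p.map φ) (K.lift (fa a).2 (p.map φ)) φ))⟩
    have e : φ = χ.1 ≫ K.lift (fa a).2 (p.map φ) := (IsCartesian.fac p (p.map φ) (K.lift (fa a).2 (p.map φ)) φ).symm
    conv_lhs => rw [e, F.map_comp, Category.assoc]
    conv_rhs => rw [e, G.map_comp, ← Category.assoc]
    erw [hu (p.map φ) (fa a), ← Category.assoc]
    exact congrArg (· ≫ _) ((u (p.obj b)).naturality χ)
  refine ⟨{ app := fun x => (u (p.obj x)).app (fa x), naturality := fun b a φ => nat φ }, fun S a => hv a, fun v hv' => ?_⟩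
  exact NatTrans.ext (funext fun x => hv' (p.obj x) (fa x))

end Groth.Agent.S6018
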