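import Groth.Statements.S6019
import Groth.Agent.FibBase.Basic

set_option autoImplicit false
set_option backward.isDefEq.respectTransparency false
set_option backward.isDefEq.respectTransparency.types false
open CategoryTheory
universe v₁ v₂ u₁ u₂
open FibCat FibCat.Cleavage

namespace Groth.Agent.S6019

open CategoryTheory.Functor Groth.Agent.FibBase

/-- A pre-fibred category admits a normalised cleavage: if every base morphism `R ⟶ p(a)` has a
cartesian morphism over it with target `a`, then one cartesian lift can be chosen for every base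
morphism at every object over its target in such a way that the chosen lift of each identity `𝟙 S`
at each object `a` over `S` is the identity of `a` (identities are transport morphisms). -/
theorem result (𝒮 : Type u₁) (𝒳 : Type u₂) [Category.{v₁} 𝒮] [Category.{v₂} 𝒳]
    (p : 𝒳 ⥤ 𝒮) [p.IsPreFibered] : ∃ K : FibCat.Cleavage p, K.IsNormalised := by
  classical
  have key : ∀ {R S : 𝒮} {a : 𝒳} (ha : p.obj a = S) (f : R ⟶ S),
      ∃ (b : 𝒳) (φ : b ⟶ a), p.IsCartesian f φ ∧ ∀ (e : R = S), f = eqToHom e → ∃ h : b = a, φ = eqToHom h := by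
    intro R S a ha f
    by_cases h : ∃ e : R = S, f = eqToHom e
    · obtain ⟨e, rfl⟩ := h
      subst e
      haveI : p.IsHomLift (𝟙 R) (𝟙 a) := IsHomLift.id ha
      exact ⟨a, 𝟙 a, inferInstanceAs (p.IsCartesian (𝟙 R) (𝟙 a)), fun _ _ => ⟨rfl, rfl⟩⟩
    · obtain ⟨b, φ, hφ⟩ := IsPreFibered.exists_isCartesian p ha f
      exact ⟨b, φ, hφ, fun e he => absurd ⟨e, he⟩ h⟩
  choose b φ hφ hn using @key
  exact ⟨{ obj := fun ha f => b ha f, lift := fun ha f => φ ha f, isCartesian := fun ha f => hφ ha f },
    fun S a ha => hn ha (𝟙 S) rfl rfl⟩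

end Groth.Agent.S6019
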