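import Groth.Statements.S6025
import Groth.Agent.LocCohZSh.Core

set_option autoImplicit false
universe u
open CategoryTheory CategoryTheory.Limits TopologicalSpace
open LocCohZ

namespace Groth.Agent.S6025

/-- Let X be a topological space, A a closed subset with open complement U and f : U → X the inclusion.
Then the functor ℋ^1_A is isomorphic to the cokernel of the unit F → f_* f⁻¹ F (so that 0 → ℋ^0_A(F)
→ F → f_*(F|_U) → ℋ^1_A(F) → 0 is exact), and for every i ≥ 1 the functor ℋ^{i+1}_A is isomorphic to
F ↦ R^i f_*(F|_U). (Existence of isomorphisms of functors only; the maps of the four-term sequence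
other than the kernel inclusion are not pinned.) -/
theorem result {X : TopCat.{u}} (U : Opens X) :
    Nonempty (LocCohZ.HZsh U 1 ≅
      cokernel (TopCat.Sheaf.pullbackPushforwardAdjunction AddCommGrpCat.{u} (CohCx.incl U)).unit) ∧
      ∀ i : ℕ, 1 ≤ i →
        Nonempty (LocCohZ.HZsh U (i + 1) ≅ CohTop.pull (CohCx.incl U) ⋙ CohTop.Rpush (CohCx.incl U) i) := by
  exact LocCohZSh.main U

end Groth.Agent.S6025
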