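import Groth.Statements.S6026
import Groth.Agent.GrLib8.Excision
-- import your own Groth.Agent.* helpers here

set_option autoImplicit false
universe u
open CategoryTheory CategoryTheory.Limits TopologicalSpace
open LocCohZ

namespace Groth.Agent.S6026

/-- Let X be a topological space, W ⊆ V opens of X and Z = V − W. For every i there is an isomorphism
H^i_Z(X, F) ≅ H^i_Z(V, F|_V), natural in the abelian sheaf F on X, between cohomology with supports
in Z computed on X and computed on the open subspace V. (Existence of a natural family of
isomorphisms; the published statement has the canonical maps of cohomological functors.) -/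
theorem result {X : TopCat.{u}} {W V : Opens X} (h : W ≤ V) (i : ℕ) :
    ∃ e : ∀ F : CohTop.Ab X,
        LocCohZ.HZ F i h ≃+ LocCohZ.HZc (CohTop.restr F V) i ((Opens.map (CohCx.incl V)).obj W),
      ∀ (F G : CohTop.Ab X) (φ : F ⟶ G) (x : LocCohZ.HZ F i h),
        e G (LocCohZ.map φ i h x) =
          LocCohZ.map ((CohTop.restrFunctor V).map φ) i
            (le_top : (Opens.map (CohCx.incl V)).obj W ≤ ⊤) (e F x) := by
  obtain ⟨η⟩ := Groth.Agent.GrLib8.Excision.nonempty_iso h i
  obtain ⟨e, he⟩ := Groth.Agent.GrLib8.Excision.exists_addEquiv_of_iso η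
  refine ⟨e, fun F G φ x => ?_⟩
  have := he F G φ x
  dsimp only [Functor.comp_obj, Functor.comp_map] at this ⊢
  exact this

end Groth.Agent.S6026
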