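import Groth.Statements.S6028
import Groth.Prelude.Def_LocCohZ
import Mathlib.CategoryTheory.Abelian.DiagramLemmas.KernelCokernelComp

set_option autoImplicit false
universe u
open CategoryTheory CategoryTheory.Limits TopologicalSpace
open LocCohZ

namespace Groth.Agent.S6028

/-- Let X be a topological space and W ⊆ V ⊆ T opens of X; put Z = T − W, Z' = T − V and Z'' = V − W, so
that Z' is closed in Z with complement Z''. Then 0 → ℤ_{Z'',X} → ℤ_{Z,X} → ℤ_{Z',X} → 0 is a short
exact sequence of abelian sheaves on X, where ℤ_{Z,X} = ℤ_T/ℤ_W and the maps are the induced ones. -/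
theorem result {X : TopCat.{u}} {W V T : Opens X} (hWV : W ≤ V) (hVT : V ≤ T) :
    ∃ w : LocCohZ.zqMap (hWV.trans hVT) hWV le_rfl hVT ≫ LocCohZ.zqMap hVT (hWV.trans hVT) hWV le_rfl = 0,
      (ShortComplex.mk _ _ w).ShortExact := by
  open CategoryTheory CategoryTheory.Limits TopologicalSpace in
  have main : ∀ (f : CohCx.freeSheaf (Opens.grothendieckTopology X) W ⟶ CohCx.freeSheaf (Opens.grothendieckTopology X) V)
      (g : CohCx.freeSheaf (Opens.grothendieckTopology X) V ⟶ CohCx.freeSheaf (Opens.grothendieckTopology X) T)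
      (h : CohCx.freeSheaf (Opens.grothendieckTopology X) W ⟶ CohCx.freeSheaf (Opens.grothendieckTopology X) T)
      (hh : h = f ≫ g) [Mono g] (a : cokernel f ⟶ cokernel h) (b : cokernel h ⟶ cokernel g)
      (ha : cokernel.π f ≫ a = g ≫ cokernel.π h) (hb : cokernel.π h ≫ b = cokernel.π g),
      ∃ w : a ≫ b = 0, (ShortComplex.mk a b w).ShortExact := by
    intro f g h hh _ a b ha hb
    subst hh
    have hseq := kernelCokernelCompSequence_exact f g
    obtain rfl : a = cokernel.map f (f ≫ g) (𝟙 _) g (by simp) := (cancel_epi (cokernel.π f)).1 (by rw [ha]; simp)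
    obtain rfl : b = cokernel.map (f ≫ g) g f (𝟙 _) (by simp) := (cancel_epi (cokernel.π (f ≫ g))).1 (by rw [hb]; simp)
    refine ⟨hseq.toIsComplex.zero' 3 4 5, ?_⟩
    have e2 := hseq.exact' 2 3 4
    have e3 := hseq.exact' 3 4 5
    haveI : Mono (cokernel.map f (f ≫ g) (𝟙 _) g (by simp)) :=
      e2.mono_g ((isZero_kernel_of_mono g).eq_of_src _ _)
    exact { exact := e3, mono_f := ‹_›, epi_g := inferInstanceAs (Epi ((kernelCokernelCompSequence f g).map' 4 5)) }
  refine main _ _ _ ?_ _ _ ?_ ?_
  · rw [← CohFree.freeSheafMap_comp]; rfl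
  · exact CategoryTheory.Limits.cokernel.π_desc _ _ _
  · refine (CategoryTheory.Limits.cokernel.π_desc _ _ _).trans ?_
    have e : ∀ (i : T ⟶ T), CohCx.freeSheafMap (Opens.grothendieckTopology X) i =
        CategoryTheory.CategoryStruct.id _ := fun i => by
      obtain rfl : i = CategoryTheory.CategoryStruct.id T := Subsingleton.elim _ _
      simp [CohCx.freeSheafMap, CohCx.freeSheaf, CategoryTheory.Functor.whiskerRight_id]
    rw [e]
    exact CategoryTheory.Category.id_comp _

end Groth.Agent.S6028
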