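import Groth.Statements.S6032
import Groth.Agent.LocCohDepth.Koszul
-- import your own Groth.Agent.* helpers here

set_option autoImplicit false
universe u
open CategoryTheory CategoryTheory.Limits TopologicalSpace AlgebraicGeometry
open LocCohZ

namespace Groth.Agent.S6032

/-- Let A be a commutative ring, f = (f_1, …, f_r) a finite family of elements of A with zero locus Y in
X = Spec A, and M an A-module with associated sheaf M~. For every i the group colim_n H^i(f^n, M)
(direct limit of Koszul cohomology of the powers) is isomorphic to H^i_Y(X, M~). (Existence of an
additive isomorphism in each degree; the published statement has an isomorphism of ∂-functors in M.) -/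
theorem result (A : Type u) [CommRing A] (fs : List A) (M : Type u)
    [AddCommGroup M] [Module A M] (i : ℕ) :
    Nonempty (CohIII.koszulHLim fs (ModuleCat.of A M) i ≃+
      LocCohZ.HZM (Spec (CommRingCat.of A)) (AlgebraicGeometry.tilde (R := CommRingCat.of A) (ModuleCat.of A M)) i
        (LocCoh.puncturedOpen A (Ideal.span {a | a ∈ fs}))) := by
  obtain ⟨e⟩ := Groth.Agent.LocCohDepth.nonempty_HZ_koszul (R := CommRingCat.of A) fs (ModuleCat.of A M) i
  rw [Groth.Agent.LocCohDepth.uni_eq_puncturedOpen] at e
  exact ⟨e.symm⟩

end Groth.Agent.S6032
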