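import Groth.Statements.S6033
import Groth.Agent.LocCohDepth.Koszul
import Groth.Agent.FlasqueSupp.Core
-- import your own Groth.Agent.* helpers here

set_option autoImplicit false
universe u
open CategoryTheory CategoryTheory.Limits TopologicalSpace AlgebraicGeometry
open LocCohZ

namespace Groth.Agent.S6033

open Groth.Agent.LocCohDepth Groth.Agent.LocCohSec

theorem vanish_of_flasque {A : Type u} [CommRing A] (fs : List A) (M : ModuleCat.{u} (CommRingCat.of A))
    (h : TopCat.Sheaf.IsFlasque (X := (Spec (CommRingCat.of A)).carrier) (Coh.toAb (tilde M))) (i : ℕ) (hi : 0 < i) :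
    Subsingleton (CohIII.koszulHLim fs M i) := by
  obtain ⟨n, rfl⟩ : ∃ n, i = n + 1 := ⟨i - 1, by omega⟩
  obtain ⟨e⟩ := nonempty_HZ_koszul (R := CommRingCat.of A) fs M (n + 1)
  haveI := h
  haveI := FlasqueSupp.subsingleton_HZ (X := (Spec (CommRingCat.of A)).carrier) (Coh.toAb (tilde M))
    (le_top : Lib.KoszulSheaf.uni (R := CommRingCat.of A) fs ≤ ⊤) n
  exact e.toEquiv.symm.subsingleton

theorem flasque_of_vanish {A : Type u} [CommRing A] [NoetherianSpace (PrimeSpectrum A)]
    (M : ModuleCat.{u} (CommRingCat.of A)) (h : ∀ fs : List A, Subsingleton (CohIII.koszulHLim fs M 1)) :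
    TopCat.Sheaf.IsFlasque (X := (Spec (CommRingCat.of A)).carrier) (Coh.toAb (tilde M)) := by
  haveI : NoetherianSpace (Spec (CommRingCat.of A)) := ‹NoetherianSpace (PrimeSpectrum A)›
  have key : ∀ W : (Spec (CommRingCat.of A)).Opens, Function.Surjective (res M (le_top : W ≤ ⊤)) := fun W t => by
    obtain ⟨s, hs⟩ := PrimeSpectrum.isCompact_isOpen_iff.1
      ⟨(show IsCompact (W.carrier : Set (PrimeSpectrum A)) from NoetherianSpace.isCompact _), W.2⟩
    obtain rfl : W = Lib.KoszulSheaf.uni (R := CommRingCat.of A) s.toList := by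
      rw [uni_eq_puncturedOpen]
      refine SetLike.coe_injective (hs.symm.trans ?_)
      show (PrimeSpectrum.zeroLocus (s : Set A))ᶜ = (PrimeSpectrum.zeroLocus (Ideal.span {a | a ∈ s.toList} : Set A))ᶜ
      rw [PrimeSpectrum.zeroLocus_span]
      simp
    obtain ⟨e⟩ := nonempty_HZ_koszul (R := CommRingCat.of A) s.toList M 1
    exact surjective_res M _ (haveI := h s.toList; e.toEquiv.subsingleton) t
  refine ⟨fun {V W} i => (AddCommGrpCat.epi_iff_surjective _).2 fun t => ?_⟩
  obtain ⟨s, rfl⟩ := key W.unop t
  exact ⟨res M le_top s, res_res M le_top (leOfHom i.unop) s⟩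

/-- Let A be a commutative ring such that the underlying space of X = Spec A is Noetherian. Then M~ is
flasque for every injective A-module M if and only if colim_n H^1(f^n, M) = 0 (direct limit of
Koszul cohomology of the powers) for every finite family f of elements of A and every injective
A-module M; and in that case colim_n H^i(f^n, M) = 0 for all i > 0 as well. -/
theorem result (A : Type u) [CommRing A]
    [NoetherianSpace (PrimeSpectrum A)] :
    ((∀ (M : Type u) [AddCommGroup M] [Module A M], Module.Injective A M →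
        TopCat.Sheaf.IsFlasque (Coh.toAb (AlgebraicGeometry.tilde (R := CommRingCat.of A) (ModuleCat.of A M)))) ↔
      ∀ (fs : List A) (M : Type u) [AddCommGroup M] [Module A M], Module.Injective A M →
        Subsingleton (CohIII.koszulHLim fs (ModuleCat.of A M) 1)) ∧
    ((∀ (M : Type u) [AddCommGroup M] [Module A M], Module.Injective A M →
        TopCat.Sheaf.IsFlasque (Coh.toAb (AlgebraicGeometry.tilde (R := CommRingCat.of A) (ModuleCat.of A M)))) →
      ∀ (fs : List A) (M : Type u) [AddCommGroup M] [Module A M], Module.Injective A M →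
        ∀ i : ℕ, 0 < i → Subsingleton (CohIII.koszulHLim fs (ModuleCat.of A M) i)) := by
  exact ⟨⟨fun h fs M _ _ hM => vanish_of_flasque (A := A) fs (ModuleCat.of A M) (h M hM) 1 one_pos,
    fun h M _ _ hM => flasque_of_vanish (A := A) (ModuleCat.of A M) fun fs => h fs M hM⟩,
    fun h fs M _ _ hM i hi => vanish_of_flasque (A := A) fs (ModuleCat.of A M) (h M hM) i hi⟩

end Groth.Agent.S6033
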