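import Groth.Statements.S6048
import Groth.Agent.ShfCatLib.Quotient

set_option autoImplicit false
set_option backward.isDefEq.respectTransparency false
set_option backward.isDefEq.respectTransparency.types false
open CategoryTheory CategoryTheory.Limits MonoidalCategory
universe w v₁ u₁
open ShfCat

namespace Groth.Agent.S6048

open CartesianMonoidalCategory SemiCartesianMonoidalCategory in
/-- For sheaves of sets on a site with sheafification: let `p₁, p₂ : R ⇉ X` be an equivalence relation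
of sheaves with universally effective quotient `π : X ⟶ X/R` and `Y` a sheaf. (a) A subsheaf `Z ⊆ X
× Y` stable under `R × Y`, covering `Y`, and any two of whose points over the same point of `Y` are
`R`-related, is the pullback of `π` along exactly one `f : Y ⟶ X/R`; (b) every `f : Y ⟶ X/R` arises
in this way. -/
theorem result {C : Type u₁} [Category.{v₁} C]
    (J : GrothendieckTopology C) [HasSheafify J (Type w)]
    {R X : Sheaf J (Type w)} {p₁ p₂ : R ⟶ X}
    (e : UniversallyEffectiveEquivalenceRelation p₁ p₂) (Y : Sheaf J (Type w)) :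
    (∀ (Z : Sheaf J (Type w)) (ι : Z ⟶ X ⊗ Y), Mono ι →
      (∀ (W : Sheaf J (Type w)) (r : W ⟶ R) (y : W ⟶ Y),
        (∃ z : W ⟶ Z, z ≫ ι = lift (r ≫ p₁) y) ↔ (∃ z : W ⟶ Z, z ≫ ι = lift (r ≫ p₂) y)) →
      Epi (ι ≫ snd X Y) →
      (∀ (W : Sheaf J (Type w)) (z₁ z₂ : W ⟶ Z), z₁ ≫ ι ≫ snd X Y = z₂ ≫ ι ≫ snd X Y →
        ∃ r : W ⟶ R, r ≫ p₁ = z₁ ≫ ι ≫ fst X Y ∧ r ≫ p₂ = z₂ ≫ ι ≫ fst X Y) →
      ∃! f : Y ⟶ e.B, IsPullback (ι ≫ fst X Y) (ι ≫ snd X Y) e.π f) ∧
    (∀ f : Y ⟶ e.B, ∃ (Z : Sheaf J (Type w)) (ι : Z ⟶ X ⊗ Y), Mono ι ∧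
      (∀ (W : Sheaf J (Type w)) (r : W ⟶ R) (y : W ⟶ Y),
        (∃ z : W ⟶ Z, z ≫ ι = lift (r ≫ p₁) y) ↔ (∃ z : W ⟶ Z, z ≫ ι = lift (r ≫ p₂) y)) ∧
      Epi (ι ≫ snd X Y) ∧
      (∀ (W : Sheaf J (Type w)) (z₁ z₂ : W ⟶ Z), z₁ ≫ ι ≫ snd X Y = z₂ ≫ ι ≫ snd X Y →
        ∃ r : W ⟶ R, r ≫ p₁ = z₁ ≫ ι ≫ fst X Y ∧ r ≫ p₂ = z₂ ≫ ι ≫ fst X Y) ∧
      IsPullback (ι ≫ fst X Y) (ι ≫ snd X Y) e.π f) := by
  open CategoryTheory.Limits CartesianMonoidalCategory in
  have hπ : p₁ ≫ e.π = p₂ ≫ e.π := e.isPushout.w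
  have : Epi e.π := inferInstance
  constructor
  · intro Z ι hι hst hepi hrel
    obtain ⟨f, hf⟩ := Groth.Agent.ShfCatLib.exists_desc (ι ≫ snd X Y) (ι ≫ fst X Y ≫ e.π) (fun {T} a b hab => by
      obtain ⟨r, hr₁, hr₂⟩ := hrel T a b hab
      have := congrArg (fun q => r ≫ q) hπ
      simp only [← Category.assoc] at this hr₁ hr₂ ⊢
      rw [hr₁, hr₂] at this
      exact this)
    refine ⟨f, ?_, fun f' hf' => ?_⟩
    · have sq : (ι ≫ fst X Y) ≫ e.π = (ι ≫ snd X Y) ≫ f := by rw [hf, Category.assoc]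
      have ex : ∀ (s : PullbackCone e.π f), ∃ z : s.pt ⟶ Z, z ≫ ι = lift s.fst s.snd := by
        intro s
        obtain ⟨T', p, z, hp, hz⟩ := Groth.Agent.ShfCatLib.exists_lift (ι ≫ snd X Y) s.snd
        have hx : (z ≫ ι ≫ fst X Y) ≫ e.π = (p ≫ s.fst) ≫ e.π := by
          rw [Category.assoc, sq, ← Category.assoc, ← hz, Category.assoc, Category.assoc, s.condition]
        let r := e.isKernelPair.lift _ _ hx
        obtain ⟨z', hz'⟩ := (hst T' r (p ≫ s.snd)).1 ⟨z, by
          rw [e.isKernelPair.lift_fst _ _ hx, hz]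
          apply CartesianMonoidalCategory.hom_ext <;> simp⟩
        rw [e.isKernelPair.lift_snd _ _ hx, ← comp_lift] at hz'
        have : StrongEpi p := strongEpi_of_epi _
        have csq : CommSq z' p ι (lift s.fst s.snd) := ⟨hz'⟩
        exact ⟨csq.lift, csq.fac_right⟩
      choose z hz using ex
      exact ⟨⟨sq⟩, ⟨PullbackCone.IsLimit.mk sq z
        (fun s => by rw [← Category.assoc, hz, lift_fst])
        (fun s => by rw [← Category.assoc, hz, lift_snd])
        (fun s m h₁ h₂ => by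
          rw [← cancel_mono ι, hz]
          apply CartesianMonoidalCategory.hom_ext
          · rw [lift_fst, Category.assoc, h₁]
          · rw [lift_snd, Category.assoc, h₂])⟩⟩
    · rw [← cancel_epi (ι ≫ snd X Y), hf, ← hf'.w, Category.assoc]
  · intro f
    let ι : pullback e.π f ⟶ X ⊗ Y := lift (pullback.fst e.π f) (pullback.snd e.π f)
    have hsnd : Epi (pullback.snd e.π f) :=
      MorphismProperty.of_isPullback (P := MorphismProperty.epimorphisms (Sheaf J (Type w)))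
        (IsPullback.of_hasPullback e.π f) ‹Epi e.π›
    have hstep : ∀ (W : Sheaf J (Type w)) (x x' : W ⟶ X) (y : W ⟶ Y), x ≫ e.π = x' ≫ e.π →
        (∃ z : W ⟶ pullback e.π f, z ≫ ι = lift x y) → ∃ z : W ⟶ pullback e.π f, z ≫ ι = lift x' y := by
      rintro W x x' y hxx ⟨z, hz⟩
      have h₁ : z ≫ pullback.fst e.π f = x := by simpa [ι] using congrArg (fun q => q ≫ fst X Y) hz
      have h₂ : z ≫ pullback.snd e.π f = y := by simpa [ι] using congrArg (fun q => q ≫ snd X Y) hz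
      exact ⟨pullback.lift x' y (by rw [← hxx, ← h₁, ← h₂, Category.assoc, Category.assoc, pullback.condition]),
        by apply CartesianMonoidalCategory.hom_ext <;> simp [ι]⟩
    refine ⟨pullback e.π f, ι, ⟨fun {T} a b hab => ?_⟩, fun W r y => ⟨hstep W _ _ y ?_, hstep W _ _ y ?_⟩,
      ?_, fun W z₁ z₂ hz => ?_, ?_⟩
    · apply pullback.hom_ext
      · simpa [ι] using congrArg (fun q => q ≫ fst X Y) hab
      · simpa [ι] using congrArg (fun q => q ≫ snd X Y) hab
    · rw [Category.assoc, Category.assoc, hπ]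
    · rw [Category.assoc, Category.assoc, hπ]
    · rw [lift_snd]; exact hsnd
    · rw [lift_snd] at hz
      have h : (z₁ ≫ pullback.fst e.π f) ≫ e.π = (z₂ ≫ pullback.fst e.π f) ≫ e.π := by
        rw [Category.assoc, Category.assoc, pullback.condition, reassoc_of% hz]
      exact ⟨e.isKernelPair.lift _ _ h, by rw [e.isKernelPair.lift_fst, lift_fst],
        by rw [e.isKernelPair.lift_snd, lift_fst]⟩
    · rw [lift_fst, lift_snd]
      exact IsPullback.of_hasPullback _ _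

end Groth.Agent.S6048
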