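import Groth.Statements.S6053
import Groth.Agent.ShfCatLib.Generated

set_option autoImplicit false
set_option backward.isDefEq.respectTransparency false
set_option backward.isDefEq.respectTransparency.types false
open CategoryTheory
universe w v₁ u₁
open ShfCat

namespace Groth.Agent.S6053

/-- Let `C'` be a class of objects of `C`, `P` a precoverage on `C` stable under base change and
composition, `P'` a precoverage whose families live in `C'` and which contains the identity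
singletons of `C'`, such that (a) `P'`-families pull back along morphisms of `C'` to `P'`-families,
(b) every object has a `P`-cover by objects of `C'`, (c) over an object of `C'` every composite `P'
∘ P ∘ P'` family (middle sources in `C'`) is refined by a `P'`-family. Then a sieve on `X` is
covering for the topology generated by `P` and `P'` if and only if it contains a composite family
`X_ij ⟶ X_i ⟶ X` with `(X_i ⟶ X)_i` in `P`, all `X_i` in `C'` and each `(X_ij ⟶ X_i)_j` in `P'`. -/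
theorem result {C : Type u₁} [Category.{v₁} C]
    (C' : C → Prop) (P P' : Precoverage C)
    [P.HasPullbacks] [P.IsStableUnderBaseChange] [P.IsStableUnderComposition]
    (hP'C : ∀ ⦃X : C⦄ ⦃R : Presieve X⦄, R ∈ P' X → C' X ∧ ∀ ⦃Y : C⦄ ⦃f : Y ⟶ X⦄, R f → C' Y)
    (hP'id : ∀ ⦃X : C⦄, C' X → Presieve.singleton (𝟙 X) ∈ P' X)
    (ha : ∀ ⦃X : C⦄ ⦃R : Presieve X⦄, R ∈ P' X → ∀ ⦃T : C⦄ (g : T ⟶ X), C' T →
      ∃ _ : R.HasPullbacks g, Presieve.pullbackArrows g R ∈ P' T)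
    (hb : ∀ X : C, ∃ R ∈ P X, ∀ ⦃Y : C⦄ ⦃f : Y ⟶ X⦄, R f → C' Y)
    (hc : ∀ ⦃S : C⦄ ⦃R₁ : Presieve S⦄, R₁ ∈ P' S →
      ∀ (R₂ : ∀ ⦃Y : C⦄ ⦃f : Y ⟶ S⦄, R₁ f → Presieve Y),
        (∀ ⦃Y : C⦄ ⦃f : Y ⟶ S⦄ (hf : R₁ f), R₂ hf ∈ P Y ∧ ∀ ⦃Z : C⦄ ⦃g : Z ⟶ Y⦄, R₂ hf g → C' Z) →
      ∀ (R₃ : ∀ ⦃Y : C⦄ ⦃f : Y ⟶ S⦄ (hf : R₁ f) ⦃Z : C⦄ ⦃g : Z ⟶ Y⦄, R₂ hf g → Presieve Z),
        (∀ ⦃Y : C⦄ ⦃f : Y ⟶ S⦄ (hf : R₁ f) ⦃Z : C⦄ ⦃g : Z ⟶ Y⦄ (hg : R₂ hf g), R₃ hf hg ∈ P' Z) →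
      ∃ T ∈ P' S, ∀ ⦃W : C⦄ ⦃q : W ⟶ S⦄, T q →
        ∃ (Y Z V : C) (f : Y ⟶ S) (hf : R₁ f) (g : Z ⟶ Y) (hg : R₂ hf g) (h : V ⟶ Z) (_ : R₃ hf hg h)
          (r : W ⟶ V), r ≫ h ≫ g ≫ f = q)
    (X : C) (S' : Sieve X) :
    S' ∈ (P ⊔ P').toGrothendieck X ↔
      ∃ (R : Presieve X) (_ : R ∈ P X) (_ : ∀ ⦃Y : C⦄ ⦃f : Y ⟶ X⦄, R f → C' Y)
        (R' : ∀ ⦃Y : C⦄ ⦃f : Y ⟶ X⦄, R f → Presieve Y),
        (∀ ⦃Y : C⦄ ⦃f : Y ⟶ X⦄ (hf : R f), R' hf ∈ P' Y) ∧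
        ∀ ⦃Y : C⦄ ⦃f : Y ⟶ X⦄ (hf : R f) ⦃Z : C⦄ ⦃g : Z ⟶ Y⦄, R' hf g → S' (g ≫ f) := by
  exact ⟨Groth.Agent.ShfCatLib.compCover_of_mem hP'C hP'id ha hb hc, Groth.Agent.ShfCatLib.mem_of_compCover⟩

end Groth.Agent.S6053
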