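import Groth.Statements.S6056
import Groth.Agent.RedQuot.Basic
-- import your own Groth.Agent.* helpers here

set_option autoImplicit false
open CategoryTheory CategoryTheory.Limits AlgebraicGeometry MonoidalCategory
universe u
open RedSub

namespace Groth.Agent.S6056

open MonObj CartesianMonoidalCategory SemiCartesianMonoidalCategory in
/-- For group schemes and fppf quotients: let `K ⊆ G` be a subgroup scheme and `H ⊆ K` a subgroup scheme
normal in `K`; suppose `G/H` is represented by `q_H : G ⟶ Q_H` and `K/H` by a homomorphism `K ⟶ K'`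
of group schemes, and let `act : Q_H ×_S K' ⟶ Q_H` be the right action induced by the multiplication
of `G`. Then: (i) if `G/K` is represented by `q_K : G ⟶ Q_K`, the map `Q_H ⟶ Q_K` under `G` is an
fppf covering whose kernel pair is `Q_H ×_S K' ⇉ Q_H` (projection, action), i.e. `Q_K =
(G/H)/(K/H)`; (ii) conversely, if `p : Q_H ⟶ Y` is an fppf covering with that kernel pair, then `q_H
≫ p` represents `G/K`. -/
theorem result {S : Scheme.{u}} {H K G QH Kb : Over S}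
    [hH : GrpObj H] [hK : GrpObj K] [hG : GrpObj G] [hKb : GrpObj Kb]
    (h : H ⟶ K) (k : K ⟶ G) [Mono h] [Mono k] [IsMonHom h] [IsMonHom k]
    (hn : AlgGrp.IsNormalHom h)
    (qH : G ⟶ QH) (hqH : RedSub.IsQuotient (h ≫ k) qH)
    (qKb : K ⟶ Kb) [IsMonHom qKb] (hqKb : RedSub.IsQuotient h qKb)
    (act : QH ⊗ Kb ⟶ QH) (hact : (qH ⊗ₘ qKb) ≫ act = (G ◁ k) ≫ μ[G] ≫ qH) :
    (∀ (QK : Over S) (qK : G ⟶ QK), RedSub.IsQuotient k qK →
      ∀ qbar : QH ⟶ QK, qH ≫ qbar = qK →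
        Surjective qbar.left ∧ Flat qbar.left ∧ LocallyOfFinitePresentation qbar.left ∧
          IsPullback (fst QH Kb) act qbar qbar) ∧
    (∀ (Y : Over S) (p : QH ⟶ Y),
      Surjective p.left → Flat p.left → LocallyOfFinitePresentation p.left →
      IsPullback (fst QH Kb) act p p → RedSub.IsQuotient k (qH ≫ p)) := by
  have hact' : ∀ (X : Over S) (a : X ⟶ G) (x : X ⟶ K),
      lift (a ≫ qH) (x ≫ qKb) ≫ act = (a * (x ≫ k)) ≫ qH := fun X a x => by
    rw [← lift_map, Category.assoc, hact]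
    have := Groth.Agent.RedQuot.comp_act k (lift a x)
    rw [lift_fst, lift_snd] at this
    rw [← this]
    simp only [Category.assoc]
  refine ⟨fun QK qK hqK qbar hqbar => ?_, fun Y p h₁ h₂ h₃ hpb => ?_⟩
  · obtain ⟨f₁, f₂, f₃⟩ := Groth.Agent.RedQuot.fppf_of_comp hqH qbar (by rw [hqbar]; exact hqK.1)
      (by rw [hqbar]; exact hqK.2.1) (by rw [hqbar]; exact hqK.2.2.1)
    refine ⟨f₁, f₂, f₃, ?_⟩
    have w : ∀ (X : Over S) (a : X ⟶ QH) (u : X ⟶ Kb), lift a u ≫ act ≫ qbar = a ≫ qbar := fun X a u => by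
      obtain ⟨X₁, c₁, a₁, hc₁, ha₁⟩ := Groth.Agent.RedQuot.exists_lift hqH a
      obtain ⟨X₂, c₂, x₂, hc₂, hx₂⟩ := Groth.Agent.RedQuot.exists_lift hqKb (c₁ ≫ u)
      haveI := hc₁.over_epi
      haveI := hc₂.over_epi
      rw [← cancel_epi c₁, ← cancel_epi c₂]
      calc c₂ ≫ c₁ ≫ lift a u ≫ act ≫ qbar = lift ((c₂ ≫ a₁) ≫ qH) (x₂ ≫ qKb) ≫ act ≫ qbar := by
            simp only [comp_lift_assoc, Category.assoc, ha₁, hx₂]
        _ = ((c₂ ≫ a₁) * (x₂ ≫ k)) ≫ qK := by rw [← Category.assoc, hact', Category.assoc, hqbar]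
        _ = (c₂ ≫ a₁) ≫ qK := Groth.Agent.RedQuot.mul_comp hqK _ _
        _ = _ := by rw [← hqbar, Category.assoc, reassoc_of% ha₁]
    have huniq : ∀ (X : Over S) (a : X ⟶ QH) (u v : X ⟶ Kb), lift a u ≫ act = lift a v ≫ act → u = v := by
      intro X a u v huv
      obtain ⟨X₁, c₁, a₁, hc₁, ha₁⟩ := Groth.Agent.RedQuot.exists_lift hqH a
      obtain ⟨X₂, c₂, x₂, hc₂, hx₂⟩ := Groth.Agent.RedQuot.exists_lift hqKb (c₁ ≫ u)
      obtain ⟨X₃, c₃, y₃, hc₃, hy₃⟩ := Groth.Agent.RedQuot.exists_lift hqKb (c₂ ≫ c₁ ≫ v)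
      haveI := hc₁.over_epi
      haveI := hc₂.over_epi
      haveI := hc₃.over_epi
      have e := congrArg ((c₃ ≫ c₂ ≫ c₁) ≫ ·) huv
      have eu : (c₃ ≫ c₂ ≫ c₁) ≫ lift a u ≫ act = ((c₃ ≫ c₂ ≫ a₁) * ((c₃ ≫ x₂) ≫ k)) ≫ qH := by
        rw [← hact']
        simp only [comp_lift_assoc, Category.assoc, ha₁, hx₂]
      have ev : (c₃ ≫ c₂ ≫ c₁) ≫ lift a v ≫ act = ((c₃ ≫ c₂ ≫ a₁) * (y₃ ≫ k)) ≫ qH := by
        rw [← hact']
        simp only [comp_lift_assoc, Category.assoc, ha₁, hy₃]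
      obtain ⟨z, hz⟩ := Groth.Agent.RedQuot.exists_mul_eq hqH (eu.symm.trans (e.trans ev))
      rw [_root_.mul_assoc] at hz
      have hz' : (c₃ ≫ x₂) * (z ≫ h) = y₃ := by
        rw [← cancel_mono k, MonObj.mul_comp _ _ k, Category.assoc z]
        exact mul_left_cancel hz
      rw [← cancel_epi c₁, ← cancel_epi c₂, ← cancel_epi c₃, ← hy₃, ← hz', Groth.Agent.RedQuot.mul_comp hqKb,
        Category.assoc, hx₂]
    have hex : ∀ (X : Over S) (a b : X ⟶ QH), a ≫ qbar = b ≫ qbar → ∃ u : X ⟶ Kb, lift a u ≫ act = b := by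
      intro X a b hab
      obtain ⟨X₁, c₁, a₁, hc₁, ha₁⟩ := Groth.Agent.RedQuot.exists_lift hqH a
      obtain ⟨X₂, c₂, b₂, hc₂, hb₂⟩ := Groth.Agent.RedQuot.exists_lift hqH (c₁ ≫ b)
      obtain ⟨x, hx⟩ := Groth.Agent.RedQuot.exists_mul_eq hqK (a := c₂ ≫ a₁) (b := b₂) (by
        rw [← hqbar, Category.assoc, reassoc_of% ha₁, reassoc_of% hb₂, hab])
      have hcc : Groth.Agent.FpqcDescLib.Covers c₂.left := hc₂
      have hu : lift (c₂ ≫ c₁ ≫ a) (x ≫ qKb) ≫ act = c₂ ≫ c₁ ≫ b := by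
        rw [← ha₁, ← hb₂, ← hx, ← hact', Category.assoc]
      obtain ⟨u₁, hu₁, -⟩ := hcc.over_desc (x ≫ qKb) fun T y z hyz =>
        huniq T (y ≫ c₂ ≫ c₁ ≫ a) _ _ (by
          have e1 := congrArg (y ≫ ·) hu
          have e2 := congrArg (z ≫ ·) hu
          simp only [comp_lift_assoc] at e1 e2
          rw [e1, reassoc_of% hyz, reassoc_of% hyz, e2])
      haveI := hcc.over_epi
      have hu₁' : lift (c₁ ≫ a) u₁ ≫ act = c₁ ≫ b := by
        rw [← cancel_epi c₂, ← hu, ← hu₁]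
        simp only [comp_lift_assoc, Category.assoc]
      obtain ⟨u₀, hu₀, -⟩ := hc₁.over_desc u₁ fun T y z hyz =>
        huniq T (y ≫ c₁ ≫ a) _ _ (by
          have e1 := congrArg (y ≫ ·) hu₁'
          have e2 := congrArg (z ≫ ·) hu₁'
          simp only [comp_lift_assoc] at e1 e2
          rw [e1, reassoc_of% hyz, reassoc_of% hyz, e2])
      haveI := hc₁.over_epi
      refine ⟨u₀, ?_⟩
      rw [← cancel_epi c₁, ← hu₁', ← hu₀]
      simp only [comp_lift_assoc, Category.assoc]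
    refine IsPullback.mk ⟨?_⟩ ⟨PullbackCone.IsLimit.mk _
      (fun s => lift s.fst (hex _ s.fst s.snd s.condition).choose) (fun s => lift_fst _ _)
      (fun s => (hex _ s.fst s.snd s.condition).choose_spec) fun s m hm₁ hm₂ => ?_⟩
    · have := (w _ (fst QH Kb) (snd QH Kb)).symm
      rwa [lift_fst_snd, Category.id_comp] at this
    · refine CartesianMonoidalCategory.hom_ext _ _ (hm₁.trans (lift_fst _ _).symm) (huniq _ s.fst _ _ ?_)
      rw [lift_snd, (hex _ s.fst s.snd s.condition).choose_spec, ← hm₁, ← comp_lift_assoc, lift_fst_snd,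
        Category.id_comp]
      exact hm₂
  · haveI := hqH.1
    haveI := hqH.2.1
    haveI := hqH.2.2.1
    haveI := h₁
    haveI := h₂
    haveI := h₃
    have hinv : ∀ (X : Over S) (a : X ⟶ G) (x : X ⟶ K), (a * (x ≫ k)) ≫ qH ≫ p = a ≫ qH ≫ p := fun X a x => by
      rw [← Category.assoc, ← hact', Category.assoc, ← hpb.w, lift_fst_assoc, Category.assoc]
    refine Groth.Agent.RedQuot.isQuotient_of_points k (qH ≫ p)
      (by rw [Over.comp_left]; infer_instance) (by rw [Over.comp_left]; infer_instance)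
      (by rw [Over.comp_left]; infer_instance) hinv fun X a b hab => ?_
    let u : X ⟶ QH ⊗ Kb := hpb.lift (a ≫ qH) (b ≫ qH) (by simpa only [Category.assoc] using hab)
    have hu : lift (a ≫ qH) (u ≫ snd QH Kb) ≫ act = b ≫ qH := by
      have h1 : lift (a ≫ qH) (u ≫ snd QH Kb) = u := CartesianMonoidalCategory.hom_ext _ _
        (by rw [lift_fst, hpb.lift_fst]) (lift_snd _ _)
      rw [h1, hpb.lift_snd]
    obtain ⟨X₁, c₁, x₁, hc₁, hx₁⟩ := Groth.Agent.RedQuot.exists_lift hqKb (u ≫ snd QH Kb)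
    have hz : ((c₁ ≫ a) * (x₁ ≫ k)) ≫ qH = (c₁ ≫ b) ≫ qH := by
      rw [← hact', Category.assoc, hx₁, Category.assoc, ← hu]
      simp only [comp_lift_assoc, Category.assoc]
    obtain ⟨y, hy⟩ := Groth.Agent.RedQuot.exists_mul_eq ‹RedSub.IsQuotient (h ≫ k) qH› hz
    have hy' : (x₁ * (y ≫ h)) ≫ k = c₁ ≫ (a⁻¹ * b) := by
      rw [MonObj.comp_mul, GrpObj.comp_inv, ← hy, MonObj.mul_comp _ _ k, Category.assoc y]
      group
    obtain ⟨z, hz'⟩ := Groth.Agent.RedQuot.exists_fac_of_covers k c₁ hc₁ (a⁻¹ * b) _ hy'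
    exact ⟨z, by rw [hz', mul_inv_cancel_left]⟩

end Groth.Agent.S6056
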