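import Groth.Statements.S6057
import Mathlib.CategoryTheory.Sites.Over
import Mathlib.CategoryTheory.Sites.IsSheafFor

set_option autoImplicit false
set_option backward.isDefEq.respectTransparency false
set_option backward.isDefEq.respectTransparency.types false
open CategoryTheory
universe v₁ u₁
open ShfCat

namespace Groth.Agent.S6057

/-- Let `S` be an object whose representable presheaf is a sheaf for `J` and `φ : F ⟶ h_S` a morphism of
presheaves of sets. The relative presheaf on `C/S` (sections of `F` over `T` lying over the given `T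
⟶ S`) is separated (resp. a sheaf) for the induced topology on `C/S` if and only if `F` is separated
(resp. a sheaf). -/
theorem result {C : Type u₁} [Category.{v₁} C] (J : GrothendieckTopology C)
    {S : C} (hS : Presieve.IsSheaf J (yoneda.obj S)) {F : Cᵒᵖ ⥤ Type v₁} (φ : F ⟶ yoneda.obj S) :
    (Presieve.IsSeparated (J.over S) (ShfCat.relPsh φ) ↔ Presieve.IsSeparated J F) ∧
    (Presieve.IsSheaf (J.over S) (ShfCat.relPsh φ) ↔ Presieve.IsSheaf J F) := by
  open Opposite Presieve in
  have hSsep : Presieve.IsSeparated J (yoneda.obj S) := hS.isSeparated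
  have sep₁ : Presieve.IsSeparated J F → Presieve.IsSeparated (J.over S) (ShfCat.relPsh φ) := by
    intro hF T R hR x t₁ t₂ h₁ h₂
    apply Subtype.ext
    apply (hF _ ((J.mem_over_iff _).1 hR)).ext
    intro Z f hf
    have hf' : R (Over.homMk f : Over.mk (f ≫ T.hom) ⟶ T) := (Sieve.overEquiv_iff R f).1 hf
    exact congrArg Subtype.val ((h₁ _ hf').trans (h₂ _ hf').symm)
  have sep₂ : Presieve.IsSeparated (J.over S) (ShfCat.relPsh φ) → Presieve.IsSeparated J F := by
    intro hF U R hR x t₁ t₂ h₁ h₂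
    have e : φ.app (op U) t₁ = φ.app (op U) t₂ := by
      apply (hSsep R hR).ext
      intro Z f hf
      rw [← NatTrans.naturality_apply, ← NatTrans.naturality_apply, h₁ f hf, h₂ f hf]
    let T : Over S := Over.mk (φ.app (op U) t₁)
    have hR' : (Sieve.overEquiv T).symm R ∈ (J.over S) T := J.overEquiv_symm_mem_over T R hR
    have key := (hF _ hR').ext (t₁ := (⟨t₁, rfl⟩ : (ShfCat.relPsh φ).obj (op T))) (t₂ := ⟨t₂, e.symm⟩)
      (fun Z f hf => Subtype.ext ((h₁ _ ((Sieve.overEquiv_symm_iff R f).1 hf)).trans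
        (h₂ _ ((Sieve.overEquiv_symm_iff R f).1 hf)).symm))
    exact congrArg Subtype.val key
  refine ⟨⟨sep₂, sep₁⟩, ⟨fun hF => ?_, fun hF => ?_⟩⟩
  · intro U R hR
    rw [← isSeparatedFor_and_exists_isAmalgamation_iff_isSheafFor]
    refine ⟨sep₂ hF.isSeparated R hR, fun x hx => ?_⟩
    obtain ⟨h, hh, -⟩ := hS R hR _ (Presieve.FamilyOfElements.Compatible.map φ hx)
    let T : Over S := Over.mk (Y := U) h
    have hR' : (Sieve.overEquiv T).symm R ∈ (J.over S) T := J.overEquiv_symm_mem_over T R hR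
    let y : FamilyOfElements (ShfCat.relPsh φ) ((Sieve.overEquiv T).symm R).arrows := fun Z f hf =>
      ⟨x f.left ((Sieve.overEquiv_symm_iff R f).1 hf), by
        exact ((hh f.left ((Sieve.overEquiv_symm_iff R f).1 hf)).symm : φ.app (op Z.left) _ = _).trans (Over.w f)⟩
    have hy : y.Compatible := by
      intro Y₁ Y₂ Z g₁ g₂ f₁ f₂ h₁ h₂ w
      apply Subtype.ext
      exact hx g₁.left g₂.left _ _ (congrArg CommaMorphism.left w)
    obtain ⟨t, ht, -⟩ := hF _ hR' y hy
    refine ⟨t.1, fun Z f hf => ?_⟩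
    have hf' : (Sieve.overEquiv T).symm R (Over.homMk f : Over.mk (f ≫ T.hom) ⟶ T) := by
      rw [Sieve.overEquiv_symm_iff]
      exact hf
    exact congrArg Subtype.val (ht _ hf')
  · intro T R hR
    rw [← isSeparatedFor_and_exists_isAmalgamation_iff_isSheafFor]
    refine ⟨sep₁ hF.isSeparated R hR, fun y hy => ?_⟩
    have hR' := (J.mem_over_iff _).1 hR
    let x : FamilyOfElements F (Sieve.overEquiv T R).arrows := fun Z f hf =>
      (y (Over.homMk f : Over.mk (f ≫ T.hom) ⟶ T) ((Sieve.overEquiv_iff R f).1 hf)).1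
    have hx : x.Compatible := by
      intro Y₁ Y₂ Z g₁ g₂ f₁ f₂ h₁ h₂ w
      exact congrArg Subtype.val (hy
        (Over.homMk g₁ : Over.mk (g₁ ≫ f₁ ≫ T.hom) ⟶ Over.mk (f₁ ≫ T.hom))
        (Over.homMk g₂ (by simp [reassoc_of% w]) : Over.mk (g₁ ≫ f₁ ≫ T.hom) ⟶ Over.mk (f₂ ≫ T.hom))
        ((Sieve.overEquiv_iff R f₁).1 h₁) ((Sieve.overEquiv_iff R f₂).1 h₂) (Over.OverMorphism.ext w))
    obtain ⟨t, ht, -⟩ := hF _ hR' x hx
    have e : φ.app (op T.left) t = T.hom := by
      apply (hSsep _ hR').ext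
      intro Z f hf
      rw [← NatTrans.naturality_apply, ht f hf]
      exact ((y (Over.homMk f : Over.mk (f ≫ T.hom) ⟶ T) ((Sieve.overEquiv_iff R f).1 hf)).2).trans rfl
    refine ⟨⟨t, e⟩, fun Z f hf => Subtype.ext ?_⟩
    have hZ : Z = Over.mk (f.left ≫ T.hom) := by
      obtain ⟨l, ⟨⟩, hm⟩ := Z
      exact congrArg (fun q => (Over.mk q : Over S)) (Over.w f).symm
    obtain ⟨l, hl⟩ : ∃ l, f.left = l := ⟨_, rfl⟩
    have hl' : Sieve.overEquiv T R f.left := by
      rw [Sieve.overEquiv_iff]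
      have := R.downward_closed hf (Over.homMk (𝟙 Z.left) (by simp) : Over.mk (f.left ≫ T.hom) ⟶ Z)
      convert this
      ext
      simp
    refine (ht f.left hl').trans ?_
    have := hy (Over.homMk (𝟙 Z.left) : Over.mk (f.left ≫ T.hom) ⟶ Over.mk (f.left ≫ T.hom))
      (Over.homMk (𝟙 Z.left) (by simp) : Over.mk (f.left ≫ T.hom) ⟶ Z)
      ((Sieve.overEquiv_iff R f.left).1 hl') hf (by ext; simp)
    have := congrArg Subtype.val this
    simp only [ShfCat.relPsh_map_val] at this
    simpa [x] using this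

end Groth.Agent.S6057
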