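import Groth.Statements.S6058
import Groth.Agent.MultTypeLib.TorsionPoints
-- import your own Groth.Agent.* helpers here

set_option autoImplicit false
universe u
open TensorProduct SGA3b
open SGA3b

namespace Groth.Agent.S6058

/-- Let A be a Noetherian ring, separated and complete for the I-adic topology, and H = Spec C a
commutative affine A-group (C cocommutative) with C flat and of finite type over A, such that the
reduction H₀ = Spec ((A/I) ⊗ C) is an isotrivial (A/I)-group of multiplicative type and such that
for every n > 0 the kernel ₙH = Spec (C/Jₙ) of the n-th power map is finite over A (Jₙ the ideal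
generated by the image of the augmentation ideal under the n-th power endomorphism). Then H is an
isotrivial A-group of multiplicative type. (Affine group schemes over an affine base are taken in
Hopf-algebra form; base change is the tensor product.) -/
theorem result (A : Type u) [CommRing A] [IsNoetherianRing A] (I : Ideal A) [IsAdicComplete I A]
    (C : Type u) [CommRing C] [HopfAlgebra A C] [Coalgebra.IsCocomm A C] [Module.Flat A C] (hft : Algebra.FiniteType A C)
    (h0 : IsIsotrivial (A ⧸ I) ((A ⧸ I) ⊗[A] C))
    (hfin : ∀ n : ℕ, 0 < n → Module.Finite A (C ⧸ torsionIdeal A C n)) :
    IsIsotrivial A C := by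
  exact Groth.Agent.MultTypeLib.isIsotrivial_of_torsion_finite I hft h0 hfin

end Groth.Agent.S6058
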