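import Groth.Statements.S6060
import Groth.Agent.SubgroupNbhd.Contain

set_option autoImplicit false
open CategoryTheory MonoidalCategory CartesianMonoidalCategory MonObj GrpObj AlgebraicGeometry
universe u
open SGA3x

namespace Groth.Agent.S6060

/-- Let G be an S-group, suppose S locally Noetherian or G of finite presentation over S, and let i₁ :
H₁ ⟶ G, i₂ : H₂ ⟶ G be two sub-group-schemes (homomorphisms which are immersions) of multiplicative
type and of finite type. Let s ∈ S be a point such that the fibre (H₁)_s is central in G_s (every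
point of G_s commutes with every point of (H₁)_s) and (H₁)_s = (H₂)_s as subgroups of G_s (an
isomorphism of the fibres compatible with the inclusions). Then there is an open neighbourhood U of
s such that H₁|_U = H₂|_U as subgroups of G|_U. -/
theorem result {S : Scheme.{u}} (G H₁ H₂ : Over S) [GrpObj G] [GrpObj H₁] [GrpObj H₂]
    (hG : IsLocallyNoetherian S ∨ (LocallyOfFinitePresentation G.hom ∧ QuasiCompact G.hom ∧ QuasiSeparated G.hom))
    (h₁ : SGA3x.IsMultTypeFT H₁) (h₂ : SGA3x.IsMultTypeFT H₂)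
    (i₁ : H₁ ⟶ G) [IsMonHom i₁] [IsImmersion i₁.left] (i₂ : H₂ ⟶ G) [IsMonHom i₂] [IsImmersion i₂.left] (s : S)
    (hc : ∀ (X : Over (Spec (S.residueField s))) (g : X ⟶ Red.bc (S.fromSpecResidueField s) G)
      (h : X ⟶ Red.bc (S.fromSpecResidueField s) H₁),
      g * (h ≫ (Over.pullback (S.fromSpecResidueField s)).map i₁) = (h ≫ (Over.pullback (S.fromSpecResidueField s)).map i₁) * g)
    (hs : ∃ ψ : Red.bc (S.fromSpecResidueField s) H₁ ≅ Red.bc (S.fromSpecResidueField s) H₂,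
      ψ.hom ≫ (Over.pullback (S.fromSpecResidueField s)).map i₂ = (Over.pullback (S.fromSpecResidueField s)).map i₁) :
    ∃ U : S.Opens, s ∈ U ∧ ∃ ψ : Red.bc U.ι H₁ ≅ Red.bc U.ι H₂,
      ψ.hom ≫ (Over.pullback U.ι).map i₂ = (Over.pullback U.ι).map i₁ := by
  set_option backward.isDefEq.respectTransparency.types false in
  let j := S.fromSpecResidueField s
  have hfin : IsLocallyNoetherian S ∨ LocallyOfFiniteType G.hom := hG.imp id fun h => by
    haveI := h.1; infer_instance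
  -- points over the fibre
  have pts : ∀ {H : Over S} (Y : Over S) (q : Y ⟶ Over.mk j) (b : Y ⟶ H),
      ∃ (X : Over (Spec (S.residueField s))) (e : (Over.map j).obj X ≅ Y) (h : X ⟶ Red.bc j H),
        Groth.Agent.DSPtsLib.theta j h = e.hom ≫ b := fun {H} Y q b =>
    ⟨Over.mk q.left, Over.isoMk (Iso.refl _) ((Category.id_comp _).trans (Over.w q).symm),
      (Groth.Agent.DSPtsLib.theta_bijective (g := j) (Y := Over.mk q.left) (H := H)).2 _⟩
  obtain ⟨ψ, hψ⟩ := hs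
  have h12 : Groth.Agent.GrpSchLib.SubgroupEqLocus.Le i₂ i₁ j := fun Y q b => by
    obtain ⟨X, e, h, hh⟩ := pts Y q b
    refine ⟨e.inv ≫ Groth.Agent.DSPtsLib.theta j (h ≫ ψ.hom), ?_⟩
    rw [Category.assoc, ← Groth.Agent.SubgroupNbhd.theta_map, Category.assoc, hψ,
      Groth.Agent.SubgroupNbhd.theta_map, hh, Category.assoc, Iso.inv_hom_id_assoc]
  have h21 : Groth.Agent.GrpSchLib.SubgroupEqLocus.Le i₁ i₂ j := fun Y q b => by
    obtain ⟨X, e, h, hh⟩ := pts Y q b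
    refine ⟨e.inv ≫ Groth.Agent.DSPtsLib.theta j (h ≫ ψ.inv), ?_⟩
    rw [Category.assoc, ← Groth.Agent.SubgroupNbhd.theta_map, Category.assoc,
      show ψ.inv ≫ (Over.pullback j).map i₁ = (Over.pullback j).map i₂ by rw [Iso.inv_comp_eq, hψ],
      Groth.Agent.SubgroupNbhd.theta_map, hh, Category.assoc, Iso.inv_hom_id_assoc]
  have hc₁ : ∀ (Y : Over S) (_ : Y ⟶ Over.mk j) (b : Y ⟶ H₁) (g : Y ⟶ G), g * (b ≫ i₁) = (b ≫ i₁) * g :=
    fun Y q b g => by
      obtain ⟨X, e, h, hh⟩ := pts Y q b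
      obtain ⟨g₀, hg₀⟩ := (Groth.Agent.DSPtsLib.theta_bijective (g := j) (Y := X) (H := G)).2 (e.hom ≫ g)
      have h1 := congrArg (Groth.Agent.DSPtsLib.theta j) (hc X g₀ h)
      rw [Groth.Agent.DSPtsLib.theta_mul, Groth.Agent.DSPtsLib.theta_mul, Groth.Agent.SubgroupNbhd.theta_map, hh, hg₀,
        Category.assoc, ← MonObj.comp_mul, ← MonObj.comp_mul] at h1
      exact (cancel_epi e.hom).mp h1
  have hc₂ : ∀ (Y : Over S) (_ : Y ⟶ Over.mk j) (b : Y ⟶ H₂) (g : Y ⟶ G), g * (b ≫ i₂) = (b ≫ i₂) * g :=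
    fun Y q b g => by
      obtain ⟨a, ha⟩ := h21 Y q b
      rw [← ha]
      exact hc₁ Y q a g
  haveI : Mono i₁ := Over.mono_of_mono_left _
  haveI : Mono i₂ := Over.mono_of_mono_left _
  obtain ⟨U₁, hU₁, hle₁⟩ := Groth.Agent.SubgroupNbhd.exists_nhd_le i₂ i₁ h₂ h₁ hfin s h12 hc₁
  obtain ⟨U₂, hU₂, hle₂⟩ := Groth.Agent.SubgroupNbhd.exists_nhd_le i₁ i₂ h₁ h₂ hfin s h21 hc₂
  let U := U₁ ⊓ U₂
  have r₁ := hle₁.comp (S.homOfLE (inf_le_left : U ≤ U₁))
  have r₂ := hle₂.comp (S.homOfLE (inf_le_right : U ≤ U₂))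
  rw [Scheme.homOfLE_ι] at r₁ r₂
  obtain ⟨a, ha⟩ := Groth.Agent.SubgroupNbhd.exists_map_of_le i₂ i₁ r₁
  obtain ⟨b, hb⟩ := Groth.Agent.SubgroupNbhd.exists_map_of_le i₁ i₂ r₂
  haveI : Mono i₁ := Over.mono_of_mono_left _
  haveI : Mono i₂ := Over.mono_of_mono_left _
  exact ⟨U, ⟨hU₁, hU₂⟩, ⟨a, b,
    (cancel_mono ((Over.pullback U.ι).map i₁)).mp (by rw [Category.assoc, hb, ha, Category.id_comp]),
    (cancel_mono ((Over.pullback U.ι).map i₂)).mp (by rw [Category.assoc, ha, hb, Category.id_comp])⟩, ha⟩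

end Groth.Agent.S6060
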