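import Groth.Statements.S6061
import Groth.Agent.HomRepLib.Apply
-- import your own Groth.Agent.* helpers here

set_option autoImplicit false
open CategoryTheory MonoidalCategory CartesianMonoidalCategory MonObj GrpObj AlgebraicGeometry
universe u
open SGA3x

namespace Groth.Agent.S6061

/-- Representability; the twisted-constant structure is asserted at the level of S-schemes: Let H and G
be quasi-isotrivial S-groups of multiplicative type — etale-locally on S isomorphic, as group
schemes, to diagonalisable groups D(M), with M finitely generated in the case of G (G of finite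
type). Then the functor of group homomorphisms from H to G is representable, by an S-scheme which is
a quasi-isotrivial twisted constant S-scheme (etale-locally constant). The character groups M range
over Type 0, as in the prelude's D_S(M). (The published statement also asserts that the representing
object is a twisted constant group of type Hom(M, N), M and N the types of G and H respectively;
this row asserts only the scheme-level twisted constant structure, without the group structure or
the type.) -/
theorem result {S : Scheme.{u}} (H G : Over S) [GrpObj H] [GrpObj G]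
    (hH : TwC.Locally S TwC.Topology.etale (fun S' f => ∃ (M : Type) (_ : AddCommGroup M),
      Nonempty (Grp.mk (Red.bc f H) ≅ Grp.mk (Red.DS S' M))))
    (hG : TwC.Locally S TwC.Topology.etale (fun S' f => ∃ (M : Type) (_ : AddCommGroup M),
      AddGroup.FG M ∧ Nonempty (Grp.mk (Red.bc f G) ≅ Grp.mk (Red.DS S' M)))) :
    ∃ (A : Over S) (υ : H ⊗ A ⟶ G), AutFam.RepresentsHom H G A υ ∧ TwC.IsTwConst TwC.Topology.etale A := by
  choose U₁ f₁ hf₁ hs₁ M iM he₁ using hH
  choose U₂ f₂ hf₂ hs₂ N iN hNfg he₂ using hG
  let U : ↥S → Scheme.{u} := fun s => Limits.pullback (f₁ s) (f₂ s)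
  let f : ∀ s, U s ⟶ S := fun s => Limits.pullback.fst (f₁ s) (f₂ s) ≫ f₁ s
  haveI : ∀ s, Etale (f s) := fun s => by
    haveI := hf₁ s
    haveI := hf₂ s
    exact MorphismProperty.comp_mem @Etale _ _ (MorphismProperty.pullback_fst (P := @Etale) _ _ (hf₂ s)) (hf₁ s)
  have hf : ∀ x : S, x ∈ Set.range (f x) := fun x => by
    obtain ⟨a, ha⟩ := hs₁ x
    obtain ⟨b, hb⟩ := hs₂ x
    obtain ⟨p, hp, -⟩ := Scheme.Pullback.exists_preimage_pullback a b (ha.trans hb.symm)
    exact ⟨p, by rw [Scheme.Hom.comp_apply, hp]; exact ha⟩
  have e₁ := fun s => (HomRepLib.diag_bc (Limits.pullback.fst (f₁ s) (f₂ s)) (he₁ s).some).some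
  have e₂ : ∀ s, Grp.mk (Red.bc (f s) G) ≅ Grp.mk (Red.DS (U s) (N s)) := fun s =>
    (GrpSchLib.MultTypeBC.bc_congr Limits.pullback.condition G).some ≪≫
      (HomRepLib.diag_bc (Limits.pullback.snd (f₁ s) (f₂ s)) (he₂ s).some).some
  choose υ₀ hυ₀ hpt using fun s => haveI := hNfg s; HomRepLib.exists_representsHom_DS (U s) (M s) (N s)
  obtain ⟨A, υ, hA, hloc⟩ := HomRepLib.exists_representsHom_etale f (fun x => ⟨x, hf x⟩)
    (fun s => ULift.{u} (N s →+ M s)) _ (fun s => HomRepLib.representsHom_of_iso (e₁ s) (e₂ s) (hυ₀ s))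
  refine ⟨A, υ, hA, fun s => ⟨U s, f s, inferInstance, hf s, ULift.{u} (N s →+ M s), ?_⟩⟩
  obtain ⟨e, -⟩ := hloc s
  exact ⟨e⟩

end Groth.Agent.S6061
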