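import Groth.Statements.S6065
import Groth.Agent.DenseLib.Torsion
-- import your own Groth.Agent.* helpers here

set_option autoImplicit false
open CategoryTheory MonoidalCategory CartesianMonoidalCategory MonObj GrpObj AlgebraicGeometry
universe u
open SGA3x

namespace Groth.Agent.S6065

open CategoryTheory.Limits in
/-- Let S be a locally Noetherian scheme, H a commutative S-group which is of finite type over S, and E
a nonempty set of integers n > 0 stable under multiplication, such that: a) for every n ∈ E the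
kernel ₙH of the n-th power map of H (the pullback of the unit section along that map) is finite and
flat over S; b) for every s ∈ S the family of fibres (ₙH)_s ⟶ H_s, n ∈ E, is schematically dense in
H_s (a section of the structure sheaf of H_s over an open subset whose pullback to every (ₙH)_s
vanishes is zero). Let Y be a closed subscheme of H. Then the functor on S-schemes whose value at S'
⟶ S is a point when H ×_S S' ⟶ H factors through Y and empty otherwise is representable by a closed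
subscheme T of S; and if S is Noetherian there is n ∈ E such that, for every S' ⟶ S, H ×_S S' ⟶ H
factors through Y if and only if ₙH ×_S S' ⟶ H does. -/
theorem result {S : Scheme.{u}} [IsLocallyNoetherian S]
    (H : Over S) [GrpObj H] [IsCommMonObj H] [LocallyOfFiniteType H.hom] [QuasiCompact H.hom]
    (E : Set ℕ) (hE : E.Nonempty) (hE0 : ∀ n ∈ E, 0 < n) (hEmul : ∀ m ∈ E, ∀ n ∈ E, m * n ∈ E)
    (ha : ∀ n ∈ E, IsFinite ((pullback.snd η[H].left (𝟙 H ^ n : H ⟶ H).left) ≫ H.hom) ∧ Flat ((pullback.snd η[H].left (𝟙 H ^ n : H ⟶ H).left) ≫ H.hom))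
    (hb : ∀ (s : S) (V : (H.hom.fiber s).Opens) (t : Γ(H.hom.fiber s, V)),
      (∀ n ∈ E, (MoreMor.fiberMap (pullback.snd η[H].left (𝟙 H ^ n : H ⟶ H).left) H.hom s).app V t = 0) → t = 0)
    (Y : Scheme.{u}) (y : Y ⟶ H.left) [IsClosedImmersion y] :
    (∃ (T : Scheme.{u}) (t : T ⟶ S), IsClosedImmersion t ∧
      ∀ (S' : Scheme.{u}) (g : S' ⟶ S), (∃ g' : S' ⟶ T, g' ≫ t = g) ↔
        ∃ l : pullback H.hom g ⟶ Y, l ≫ y = pullback.fst H.hom g) ∧
    (AlgebraicGeometry.IsNoetherian S → ∃ n ∈ E, ∀ (S' : Scheme.{u}) (g : S' ⟶ S),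
      (∃ l : pullback H.hom g ⟶ Y, l ≫ y = pullback.fst H.hom g) ↔
        ∃ l : pullback ((pullback.snd η[H].left (𝟙 H ^ n : H ⟶ H).left) ≫ H.hom) g ⟶ Y,
          l ≫ y = pullback.fst ((pullback.snd η[H].left (𝟙 H ^ n : H ⟶ H).left) ≫ H.hom) g ≫ (pullback.snd η[H].left (𝟙 H ^ n : H ⟶ H).left)) := by
  let e := fun m : E => DenseLib.torsion H m
  haveI : ∀ j, IsFinite (e j ≫ H.hom) := fun j => (ha j j.2).1
  haveI : ∀ j, Flat (e j ≫ H.hom) := fun j => (ha j j.2).2
  haveI : IsLocallyNoetherian (𝟙_ (Over S)).left := inferInstanceAs (IsLocallyNoetherian S)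
  let Eo : Over S := Over.mk (y ≫ H.hom)
  let i : Eo ⟶ H := Over.homMk y rfl
  haveI : IsClosedImmersion i.left := inferInstanceAs (IsClosedImmersion y)
  obtain ⟨Z, c, hc, hZ, hn⟩ := DenseLib.exists_closed_universal_dense e
    (fun s V t h => hb s V t fun n hn => h ⟨n, hn⟩) (X := 𝟙_ (Over S)) (fst H (𝟙_ (Over S))) i
  have key : ∀ (S' : Scheme.{u}) (g : S' ⟶ S), (∃ l : Limits.pullback H.hom g ⟶ Y, l ≫ y = Limits.pullback.fst H.hom g) ↔
      ∃ l : H ⊗ Over.mk g ⟶ Eo, l ≫ i = (H ◁ toUnit (Over.mk g)) ≫ fst H (𝟙_ (Over S)) := fun S' g => by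
    rw [whiskerLeft_fst]
    refine ⟨fun ⟨l, hl⟩ => ⟨Over.homMk l ?_, Over.OverMorphism.ext hl⟩, fun ⟨l, hl⟩ =>
      ⟨l.left, congrArg CommaMorphism.left hl⟩⟩
    show l ≫ y ≫ H.hom = _
    rw [← Category.assoc, hl]
    rfl
  refine ⟨⟨Z.left, Z.hom, ?_, fun S' g => (Iff.trans ?_ ((hZ (toUnit (Over.mk g))).trans (key S' g).symm))⟩, fun hS => ?_⟩
  · rw [← Over.w c]
    show IsClosedImmersion (c.left ≫ 𝟙 S)
    rw [show c.left ≫ 𝟙 S = c.left from Category.comp_id _]
    exact hc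
  · exact ⟨fun ⟨g', hg⟩ => ⟨Over.homMk g' hg, toUnit_unique _ _⟩, fun ⟨z, _⟩ => ⟨z.left, Over.w z⟩⟩
  haveI : CompactSpace S := inferInstance
  obtain ⟨n, hn⟩ := hn (inferInstanceAs (CompactSpace S)) ⟨⟨_, hE.choose_spec⟩⟩ (DenseLib.torsion_directed hEmul)
  refine ⟨n, n.2, fun S' g => (key S' g).trans ((hn _).trans ?_)⟩
  rw [whiskerLeft_fst, whiskerRight_fst]
  refine ⟨fun ⟨l, hl⟩ => ⟨l.left, congrArg CommaMorphism.left hl⟩, fun ⟨l, hl⟩ =>
    ⟨Over.homMk l ?_, Over.OverMorphism.ext hl⟩⟩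
  show l ≫ y ≫ H.hom = _
  rw [← Category.assoc, hl, Category.assoc]
  rfl

end Groth.Agent.S6065
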