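import Groth.Statements.S6070
import Groth.Agent.MultTypeLib.SubgroupLiftNil
import Groth.Agent.TorusQI.KerImage
import Groth.Agent.TorusQI.Image
import Groth.Agent.MultTypeLib.ConjNilLift
import Groth.Agent.GrpSchLib.HomUnitLocus

set_option autoImplicit false
open CategoryTheory MonoidalCategory CartesianMonoidalCategory MonObj GrpObj AlgebraicGeometry
universe u
open SGA3x

namespace Groth.Agent.S6070

open Groth.Agent.MultTypeLib
open Groth.Agent.GrpSchLib.HomUnitLocus (theta_one theta_comp_map)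

/-- The conjugation by a global point. -/
noncomputable def conj {S : Scheme.{u}} {G : Over S} [GrpObj G] (g : 𝟙_ (Over S) ⟶ G) : G ⟶ G :=
  (toUnit G ≫ g) * 𝟙 G * (toUnit G ≫ g)⁻¹

theorem comp_conj {S : Scheme.{u}} {G : Over S} [GrpObj G] (g : 𝟙_ (Over S) ⟶ G) {Z : Over S} (z : Z ⟶ G) :
    z ≫ conj g = (toUnit Z ≫ g) * z * (toUnit Z ≫ g)⁻¹ := by
  rw [conj, MonObj.comp_mul, MonObj.comp_mul, GrpObj.comp_inv, ← Category.assoc, toUnit_unique (z ≫ toUnit G) (toUnit Z),
    Category.comp_id]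

theorem conj_conj_inv {S : Scheme.{u}} {G : Over S} [GrpObj G] (g : 𝟙_ (Over S) ⟶ G) :
    conj g ≫ conj g⁻¹ = 𝟙 G := by
  rw [comp_conj, GrpObj.comp_inv, _root_.inv_inv, conj]
  group

theorem isMonHom_conj {S : Scheme.{u}} {G : Over S} [GrpObj G] (g : 𝟙_ (Over S) ⟶ G) : IsMonHom (conj g) where
  one_hom := by
    rw [comp_conj, MonObj.one_eq_one, _root_.mul_one, mul_inv_cancel]
  mul_hom := by
    rw [comp_conj, Hom.mul_def (toUnit _ ≫ g)]
    show _ = (conj g ⊗ₘ conj g) ≫ μ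
    have h1 : (conj g ⊗ₘ conj g) ≫ μ = (fst G G ≫ conj g) * (snd G G ≫ conj g) := by
      rw [Hom.mul_def, CartesianMonoidalCategory.lift_fst_comp_snd_comp]
    rw [h1, comp_conj, comp_conj, ← Hom.mul_def,
      show μ = fst G G * snd G G by rw [Hom.mul_def, lift_fst_snd, Category.id_comp]]
    group

/-- Powers are homomorphisms on commutative groups. -/
theorem isMonHom_pow {S : Scheme.{u}} {H : Over S} [GrpObj H] (hc : ∀ (Y : Over S) (a b : Y ⟶ H), a * b = b * a)
    (n : ℕ) : IsMonHom ((𝟙 H : H ⟶ H) ^ n) where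
  one_hom := by
    rw [MonObj.comp_pow, Category.comp_id, MonObj.one_eq_one, one_pow]
  mul_hom := by
    have h1 : ((𝟙 H : H ⟶ H) ^ n ⊗ₘ (𝟙 H : H ⟶ H) ^ n) ≫ μ = (fst H H) ^ n * (snd H H) ^ n := by
      rw [← CartesianMonoidalCategory.lift_fst_comp_snd_comp, ← Hom.mul_def, MonObj.comp_pow, MonObj.comp_pow,
        Category.comp_id, Category.comp_id]
    rw [h1, MonObj.comp_pow, Category.comp_id, ← (show Commute (fst H H) (snd H H) from hc _ _ _).mul_pow]
    congr 1
    rw [Hom.mul_def, lift_fst_snd, Category.id_comp]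

theorem theta_pow {S T : Scheme.{u}} {H : Over S} [GrpObj H] (q : T ⟶ S) {Y : Over T} (a : Y ⟶ Red.bc q H) (n : ℕ) :
    DSPtsLib.theta q (a ^ n) = DSPtsLib.theta q a ^ n := by
  induction n with
  | zero => rw [pow_zero, pow_zero, theta_one]
  | succ n ih => rw [pow_succ, pow_succ, DSPtsLib.theta_mul, ih]

/-- In lifting form: what formal smoothness of the morphism H ↦ ₙH of the functor of multiplicative
subgroups means. Let S = Spec R be affine, J a nilpotent ideal of R, S₀ = Spec (R/J), n a natural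
number and G an S-group which is smooth over S. Let j₀ : H₀ ⟶ G₀ = G ×_S S₀ be a sub-group-scheme (a
homomorphism which is an immersion) of multiplicative type (fpqc-locally isomorphic, as a group, to
diagonalisable groups D(M), M allowed to vary and taken in Type 0), and l : L ⟶ G a sub-group-scheme
of multiplicative type whose base change to S₀ is the n-torsion of H₀ inside G₀: a point of G₀
factors through L ×_S S₀ if and only if it is j₀(h) for a point h of H₀ with h^n = 1. Then there is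
a sub-group-scheme j : H ⟶ G of multiplicative type whose base change to S₀ coincides with H₀ as a
subgroup of G₀ (an isomorphism compatible with the maps to G₀) and whose n-torsion is L: a point of
G factors through L if and only if it is j(h) for a point h of H with h^n = 1. -/
theorem result {R : Type u} [CommRing R] (J : Ideal R) (hJ : IsNilpotent J) (n : ℕ)
    (G : Over (Spec (CommRingCat.of R))) [GrpObj G] (hG : Smooth G.hom)
    (H₀ : Over (Spec (CommRingCat.of (R ⧸ J)))) [GrpObj H₀]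
    (hH₀ : TwC.Locally (Spec (CommRingCat.of (R ⧸ J))) TwC.Topology.fpqc (fun S' f => ∃ (M : Type) (_ : AddCommGroup M), Nonempty (Grp.mk (Red.bc f H₀) ≅ Grp.mk (Red.DS S' M))))
    (j₀ : H₀ ⟶ Red.bc (Spec.map (CommRingCat.ofHom (Ideal.Quotient.mk J))) G) [IsMonHom j₀] [IsImmersion j₀.left]
    (L : Over (Spec (CommRingCat.of R))) [GrpObj L] (hL : TwC.Locally (Spec (CommRingCat.of R)) TwC.Topology.fpqc (fun S' f => ∃ (M : Type) (_ : AddCommGroup M), Nonempty (Grp.mk (Red.bc f L) ≅ Grp.mk (Red.DS S' M))))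
    (l : L ⟶ G) [IsMonHom l] [IsImmersion l.left]
    (hL0 : ∀ (X : Over (Spec (CommRingCat.of (R ⧸ J)))) (g : X ⟶ Red.bc (Spec.map (CommRingCat.ofHom (Ideal.Quotient.mk J))) G),
      (∃ y : X ⟶ Red.bc (Spec.map (CommRingCat.ofHom (Ideal.Quotient.mk J))) L, y ≫ (Over.pullback (Spec.map (CommRingCat.ofHom (Ideal.Quotient.mk J)))).map l = g) ↔
        ∃ h : X ⟶ H₀, h ^ n = 1 ∧ h ≫ j₀ = g) :
    ∃ (H : Over (Spec (CommRingCat.of R))) (_ : GrpObj H) (j : H ⟶ G), IsMonHom j ∧ IsImmersion j.left ∧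
      TwC.Locally (Spec (CommRingCat.of R)) TwC.Topology.fpqc (fun S' f => ∃ (M : Type) (_ : AddCommGroup M), Nonempty (Grp.mk (Red.bc f H) ≅ Grp.mk (Red.DS S' M))) ∧
      (∃ φ : Red.bc (Spec.map (CommRingCat.ofHom (Ideal.Quotient.mk J))) H ≅ H₀, φ.hom ≫ j₀ = (Over.pullback (Spec.map (CommRingCat.ofHom (Ideal.Quotient.mk J)))).map j) ∧
      ∀ (X : Over (Spec (CommRingCat.of R))) (g : X ⟶ G),
        (∃ y : X ⟶ L, y ≫ l = g) ↔ ∃ h : X ⟶ H, h ^ n = 1 ∧ h ≫ j = g := by
  classical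
  haveI := hG
  obtain ⟨H, _, j, hj, hjimm, hHFT, φ, hφm, hφ⟩ := SubgroupLiftNil.exists_lift J hJ G H₀ hH₀ j₀
  haveI := hj
  haveI := hjimm
  haveI := hφm
  let q := Spec.map (CommRingCat.ofHom (Ideal.Quotient.mk J))
  haveI : IsMonHom ((𝟙 H : H ⟶ H) ^ n) := isMonHom_pow (TorusQI.mul_comm_of_multType hHFT) n
  obtain ⟨K, _, i, hi, himono, hKFT, hker⟩ := TorusQI.exists_kernel hHFT hHFT ((𝟙 H : H ⟶ H) ^ n)
  haveI := hi
  haveI := himono
  have hpw : ∀ (Y : Over (Spec (CommRingCat.of R))) (h : Y ⟶ H), h ^ n = 1 ↔ ∃ k, k ≫ i = h := fun Y h => by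
    rw [← hker Y h, MonObj.comp_pow, Category.comp_id]
  haveI : Mono j := Over.mono_of_mono_left _
  haveI : Mono l := Over.mono_of_mono_left _
  have hred : ∀ (X : Over (Spec (CommRingCat.of R))) (_ : X ⟶ HomLift.P₀ J),
      (∀ k : X ⟶ K, ∃ y : X ⟶ L, y ≫ l = k ≫ i ≫ j) ∧
      (∀ y : X ⟶ L, ∃ k : X ⟶ K, k ≫ i ≫ j = y ≫ l) := by
    intro X p
    let Y : Over (Spec (CommRingCat.of (R ⧸ J))) := Over.mk p.left
    let ε : (Over.map q).obj Y ≅ X := Over.isoMk (Iso.refl _) ((Category.id_comp _).trans (Over.w p).symm)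
    constructor
    · intro k
      obtain ⟨h', hh'⟩ := (DSPtsLib.theta_bijective (H := H) (Y := Y) q).2 (ε.hom ≫ k ≫ i)
      have h1 : (k ≫ i) ^ n = 1 := (hpw X _).2 ⟨k, rfl⟩
      have h2 : h' ^ n = 1 := by
        apply (DSPtsLib.theta_bijective q).injective
        rw [theta_pow, hh', ← MonObj.comp_pow, h1, MonObj.comp_one, theta_one]
      obtain ⟨y, hy⟩ := (hL0 Y (h' ≫ (Over.pullback q).map j)).2 ⟨h' ≫ φ.hom, by
        rw [← MonObj.pow_comp, h2, MonObj.one_comp], by rw [Category.assoc, hφ]⟩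
      refine ⟨ε.inv ≫ DSPtsLib.theta q y, ?_⟩
      rw [Category.assoc, ← theta_comp_map, hy, theta_comp_map, hh', Category.assoc, Iso.inv_hom_id_assoc,
        Category.assoc]
    · intro y
      obtain ⟨y', hy'⟩ := (DSPtsLib.theta_bijective (H := L) (Y := Y) q).2 (ε.hom ≫ y)
      obtain ⟨h₀, h₀n, h₀g⟩ := (hL0 Y (y' ≫ (Over.pullback q).map l)).1 ⟨y', rfl⟩
      haveI : IsMonHom φ.inv := inferInstance
      let h : X ⟶ H := ε.inv ≫ DSPtsLib.theta q (h₀ ≫ φ.inv)
      have hn : h ^ n = 1 := by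
        rw [← MonObj.comp_pow, ← theta_pow, ← MonObj.pow_comp, h₀n, MonObj.one_comp, theta_one, MonObj.comp_one]
      obtain ⟨k, hk⟩ := (hpw X h).1 hn
      refine ⟨k, ?_⟩
      rw [← Category.assoc, hk]
      show (ε.inv ≫ DSPtsLib.theta q (h₀ ≫ φ.inv)) ≫ j = y ≫ l
      rw [Category.assoc, ← theta_comp_map, ← hφ, Category.assoc, Iso.inv_hom_id_assoc, h₀g, theta_comp_map, hy',
        Category.assoc, Iso.inv_hom_id_assoc]
  have hKMT : GenMultType.IsMT K := GenMultType.of_multTypeFT hKFT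
  obtain ⟨ψ, hψm, hψ⟩ := HomLift.exists_iso_lift J hJ hKMT hL (i ≫ j) l (1 : HomLift.P₀ J ⟶ G) (fun X p => by
    simp only [MonObj.comp_one, inv_one, _root_.one_mul, _root_.mul_one]
    exact ⟨fun k => by obtain ⟨y, hy⟩ := (hred X p).1 k; exact ⟨y, hy.symm⟩,
      fun y => by obtain ⟨k, hk⟩ := (hred X p).2 y; exact ⟨k, hk.symm⟩⟩)
  haveI := hψm
  obtain ⟨g, hg, hgc⟩ := ConjNilLift.exists_conj_lift J hJ hKMT (i ≫ j) (ψ.hom ≫ l) (1 : HomLift.P₀ J ⟶ G) hψ
  haveI := isMonHom_conj g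
  haveI : IsIso (conj g) := ⟨conj g⁻¹, conj_conj_inv g, by
    have h := conj_conj_inv g⁻¹; rwa [_root_.inv_inv] at h⟩
  haveI : IsIso (conj g).left := inferInstanceAs (IsIso ((Over.forget _).map (conj g)))
  have hmap : (Over.pullback q).map (conj g) = 𝟙 _ := by
    apply (DSPtsLib.theta_bijective q).injective
    have h1 := theta_comp_map q (Red.bc q G) (𝟙 _) (conj g)
    rw [Category.id_comp] at h1
    rw [h1, comp_conj]
    let p : (Over.map q).obj (Red.bc q G) ⟶ HomLift.P₀ J := Over.homMk (Red.bc q G).hom rfl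
    rw [toUnit_unique (toUnit _) (p ≫ toUnit _), Category.assoc, hg, MonObj.comp_one, _root_.one_mul, inv_one,
      _root_.mul_one]
  refine ⟨H, inferInstance, j ≫ conj g, inferInstance, ?_, GenMultType.of_multTypeFT hHFT, ⟨φ, ?_⟩, fun X x => ?_⟩
  · rw [Over.comp_left]; infer_instance
  · rw [CategoryTheory.Functor.map_comp, hmap, Category.comp_id]; exact hφ
  · have key : ∀ k : X ⟶ K, ((k ≫ i) ≫ j ≫ conj g) = k ≫ ψ.hom ≫ l := fun k => by
      rw [← Category.assoc, comp_conj, hgc X k, Category.assoc]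
    constructor
    · rintro ⟨y, rfl⟩
      refine ⟨(y ≫ ψ.inv) ≫ i, (hpw X _).2 ⟨_, rfl⟩, ?_⟩
      rw [key, Category.assoc, Iso.inv_hom_id_assoc]
    · rintro ⟨h, hn, rfl⟩
      obtain ⟨k, rfl⟩ := (hpw X h).1 hn
      exact ⟨k ≫ ψ.hom, by rw [key, Category.assoc]⟩

end Groth.Agent.S6070
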