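import Groth.Statements.S6072
import Groth.Agent.MultTypeLib.TwistLift
import Groth.Agent.MultTypeLib.Field
import Mathlib.RingTheory.Etale.Field

set_option autoImplicit false
universe u
open TensorProduct SGA3b
open SGA3b

namespace Groth.Agent.S6072

theorem isIsotrivial_of_field (k : Type u) [Field k] (C₀ : Type u) [CommRing C₀] [HopfAlgebra k C₀]
    [Module.Finite k C₀] (h₀ : IsMultType k C₀) : IsIsotrivial k C₀ := by
  obtain ⟨k', _, _, _, _, M, _, -, ⟨e⟩⟩ :=
    Groth.Agent.MultTypeLib.isotrivial_of_field k C₀ inferInstance h₀
  have : Algebra.FormallyEtale k k' := Algebra.FormallyEtale.of_isSeparable k k'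
  have : Algebra.FinitePresentation k k' :=
    (Algebra.FinitePresentation.of_finiteType (R := k) (A := k')).mp inferInstance
  have : Algebra.Etale k k' := {}
  exact ⟨k', inferInstance, inferInstance, inferInstance, inferInstance, inferInstance,
    Groth.Agent.MultTypeLib.isDiag_of_equiv e⟩

/-- Let R be a henselian local ring with residue field k and H₀ = Spec C₀ a k-group of multiplicative
type which is finite over k. Then H₀ lifts to R: there is an R-group H = Spec C of multiplicative
type, finite over R and isotrivial, together with an isomorphism of k-groups H ×_R k ≅ H₀, i.e. a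
bialgebra isomorphism k ⊗_R C ≅ C₀ (existence of an isomorphism; the lift is determined up to
isomorphism only). (Affine group schemes over an affine base are taken in Hopf-algebra form; base
change is the tensor product.) -/
theorem result (R : Type u) [CommRing R] [HenselianLocalRing R]
    (C₀ : Type u) [CommRing C₀] [HopfAlgebra (IsLocalRing.ResidueField R) C₀] [Module.Finite (IsLocalRing.ResidueField R) C₀]
    (h₀ : IsMultType (IsLocalRing.ResidueField R) C₀) :
    ∃ (C : Type u) (_ : CommRing C) (_ : HopfAlgebra R C), Module.Finite R C ∧ IsIsotrivial R C ∧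
      Nonempty ((IsLocalRing.ResidueField R ⊗[R] C) ≃ₐc[IsLocalRing.ResidueField R] C₀) := by
  let k := IsLocalRing.ResidueField R
  let _ : HopfAlgebra (R ⧸ IsLocalRing.maximalIdeal R) C₀ := inferInstanceAs (HopfAlgebra k C₀)
  have : Module.Finite (R ⧸ IsLocalRing.maximalIdeal R) C₀ := inferInstanceAs (Module.Finite k C₀)
  have h0 : SGA3b.IsIsotrivial (R ⧸ IsLocalRing.maximalIdeal R) C₀ := isIsotrivial_of_field k C₀ h₀
  obtain ⟨A, _, _, hA, hfin, e⟩ :=
    Groth.Agent.MultTypeLib.exists_isotrivial_lift (IsLocalRing.maximalIdeal R) C₀ h0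
  exact ⟨A, _, _, hfin inferInstance, hA, e⟩

end Groth.Agent.S6072
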