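import Groth.Statements.S6073
import Groth.Agent.CommSub.Components
-- import your own Groth.Agent.* helpers here

set_option autoImplicit false
set_option backward.isDefEq.respectTransparency false
set_option backward.isDefEq.respectTransparency.types false
set_option maxHeartbeats 800000
set_option synthInstance.maxHeartbeats 200000
universe u
open CategoryTheory CategoryTheory.Limits MonoidalCategory CartesianMonoidalCategory MonObj GrpObj AlgebraicGeometry
open SGA3

namespace Groth.Agent.S6073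

open scoped commutatorElement

/-- Let k be an algebraically closed field, G a group scheme locally of finite type over k, and a : A →
G, b : B → G two closed subgroup schemes which are geometrically reduced over k, such that either
(a) A and B are normal in G and of finite type over k, or (b) A is connected and B is of finite type
over k. Let i : Γ → G be the commutator subgroup scheme (A, B): the smallest closed subgroup scheme
of G through which A ×_k B → G, (x, y) ↦ a(x) b(y) a(x)⁻¹ b(y)⁻¹, factors. Then the image of Γ(k) in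
G(k) is the commutator subgroup of the images of A(k) and B(k): the subgroup of G(k) generated by
the commutators of a k-point of A with a k-point of B. -/
theorem result (k : Type u) [Field k] [IsAlgClosed k]
    (G A B : Over (Spec (CommRingCat.of k))) [GrpObj G] [GrpObj A] [GrpObj B] [LocallyOfFiniteType G.hom]
    (a : A ⟶ G) [IsMonHom a] [IsClosedImmersion a.left] (b : B ⟶ G) [IsMonHom b] [IsClosedImmersion b.left]
    [GeometricallyReduced A.hom] [GeometricallyReduced B.hom] [QuasiCompact B.hom]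
    (hcase : (AlgGrp.IsNormalHom a ∧ AlgGrp.IsNormalHom b ∧ QuasiCompact A.hom) ∨ ConnectedSpace A.left)
    (Γ : Over (Spec (CommRingCat.of k))) [GrpObj Γ] (i : Γ ⟶ G) [IsMonHom i] [IsClosedImmersion i.left]
    (hf : ∃ f' : A ⊗ B ⟶ Γ, f' ≫ i = (((fst A B) ≫ a) * ((snd A B) ≫ b) * ((fst A B) ≫ a)⁻¹ * ((snd A B) ≫ b)⁻¹))
    (hmin : ∀ (Γ' : Over (Spec (CommRingCat.of k))) (_ : GrpObj Γ') (i' : Γ' ⟶ G), IsMonHom i' → IsClosedImmersion i'.left →
        (∃ f'' : A ⊗ B ⟶ Γ', f'' ≫ i' = (((fst A B) ≫ a) * ((snd A B) ≫ b) * ((fst A B) ≫ a)⁻¹ * ((snd A B) ≫ b)⁻¹)) → ∃ j : Γ ⟶ Γ', j ≫ i' = i) :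
    Set.range (fun z : 𝟙_ (Over (Spec (CommRingCat.of k))) ⟶ Γ => z ≫ i) =
      ((⁅Subgroup.closure (Set.range (fun x : 𝟙_ (Over (Spec (CommRingCat.of k))) ⟶ A => x ≫ a)),
         Subgroup.closure (Set.range (fun y : 𝟙_ (Over (Spec (CommRingCat.of k))) ⟶ B => y ≫ b))⁆ : Subgroup (𝟙_ (Over (Spec (CommRingCat.of k))) ⟶ G)) :
        Set (𝟙_ (Over (Spec (CommRingCat.of k))) ⟶ G)) := by
  classical
  let PT : Over (Spec (CommRingCat.of k)) := 𝟙_ _
  haveI := GrpSchLib.AntiAffine.isSeparated_grp G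
  haveI : LocallyOfFiniteType A.hom := by
    haveI : LocallyOfFiniteType (a.left ≫ G.hom) := inferInstance
    rwa [Over.w a] at *
  haveI : LocallyOfFiniteType B.hom := by
    haveI : LocallyOfFiniteType (b.left ≫ G.hom) := inferInstance
    rwa [Over.w b] at *
  haveI : IsReduced A.left := GeometricallyReduced.geometrically_isReduced (f := A.hom) (𝟙 _) _ _ IsPullback.of_id_fst
  haveI : IsReduced B.left := GeometricallyReduced.geometrically_isReduced (f := B.hom) (𝟙 _) _ _ IsPullback.of_id_fst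
  haveI : IsReduced (A ⊗ B).left := GrpSchLib.isReduced_pullback_of_perfectField A.hom B.hom
  haveI : LocallyOfFiniteType (A ⊗ B).hom := inferInstanceAs (LocallyOfFiniteType (pullback.fst A.hom B.hom ≫ A.hom))
  let AR : Subgroup (PT ⟶ G) := (MonoidHom.mk' (fun x : PT ⟶ A => x ≫ a) fun x y => MonObj.mul_comp x y a).range
  let BR : Subgroup (PT ⟶ G) := (MonoidHom.mk' (fun y : PT ⟶ B => y ≫ b) fun x y => MonObj.mul_comp x y b).range
  -- a quasi-compact subgroup containing both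
  obtain ⟨D, strD, d, hd, hdci, hDlft, hDqc, ⟨a', ha'⟩, ⟨b', hb'⟩⟩ :
      ∃ (D : Over (Spec (CommRingCat.of k))) (_ : GrpObj D) (d : D ⟶ G), IsMonHom d ∧ IsClosedImmersion d.left ∧
        LocallyOfFiniteType D.hom ∧ QuasiCompact D.hom ∧ (∃ a' : A ⟶ D, a' ≫ d = a) ∧ ∃ b' : B ⟶ D, b' ≫ d = b := by
    rcases hcase with ⟨hna, hnb, hqA⟩ | hconn
    · haveI := hqA
      haveI : QuasiCompact (A ⊗ B).hom := inferInstanceAs (QuasiCompact (pullback.fst A.hom B.hom ≫ A.hom))
      haveI : BR.Normal := ⟨by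
        rintro _ ⟨y, rfl⟩ g
        obtain ⟨q, hq⟩ := hnb PT g y
        exact ⟨q, hq.symm⟩⟩
      have hV : CommSub.Words.vals PT ((fst A B ≫ a) * (snd A B ≫ b)) = SetLike.coe (AR ⊔ BR) := by
        rw [Subgroup.mul_normal AR BR]
        ext g
        constructor
        · rintro ⟨w, rfl⟩
          exact ⟨_, ⟨w ≫ fst A B, rfl⟩, _, ⟨w ≫ snd A B, rfl⟩, by simp [MonObj.comp_mul]⟩
        · rintro ⟨_, ⟨x, rfl⟩, _, ⟨y, rfl⟩, rfl⟩
          exact ⟨lift x y, by simp [MonObj.comp_mul]⟩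
      obtain ⟨D, strD, d, hd, hdci, hDlft, hDqc, hr, -⟩ := CommSub.Components.exists_qc_subgroup _ _ hV
      haveI := hdci
      refine ⟨D, strD, d, hd, hdci, hDlft, hDqc, CommSub.Image.factor_reduced a d (subset_trans ?_ hr),
        CommSub.Image.factor_reduced b d (subset_trans ?_ hr)⟩
      · rintro _ ⟨x, rfl⟩
        refine ⟨(lift (𝟙 A) 1).left x, ?_⟩
        rw [← Scheme.Hom.comp_apply, ← Over.comp_left, MonObj.comp_mul, lift_fst_assoc, lift_snd_assoc,
          Category.id_comp, MonObj.one_comp, _root_.mul_one]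
      · rintro _ ⟨x, rfl⟩
        refine ⟨(lift 1 (𝟙 B)).left x, ?_⟩
        rw [← Scheme.Hom.comp_apply, ← Over.comp_left, MonObj.comp_mul, lift_fst_assoc, lift_snd_assoc,
          Category.id_comp, MonObj.one_comp, _root_.one_mul]
    · haveI := hconn
      have hV : CommSub.Words.vals PT b = SetLike.coe BR := rfl
      obtain ⟨D, strD, d, hd, hdci, hDlft, hDqc, hr, hr1⟩ := CommSub.Components.exists_qc_subgroup b BR hV
      haveI := hdci
      refine ⟨D, strD, d, hd, hdci, hDlft, hDqc, CommSub.Image.factor_reduced a d (subset_trans ?_ hr1),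
        CommSub.Image.factor_reduced b d hr⟩
      exact (isPreconnected_range a.left.continuous).subset_connectedComponent
        ⟨AGFLib.Gen.cp (1 : PT ⟶ A), congrArg AGFLib.Gen.cp (MonObj.one_comp a)⟩
  letI := strD
  haveI := hd
  haveI := hdci
  haveI : Mono d := H23.AMonExt.mono_of_isClosedImmersion d
  haveI : IsMonHom a' :=
    { one_hom := by rw [← cancel_mono d, Category.assoc, ha', IsMonHom.one_hom, IsMonHom.one_hom]
      mul_hom := by rw [← cancel_mono d, Category.assoc, ha', IsMonHom.mul_hom, Category.assoc, IsMonHom.mul_hom,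
        ← Category.assoc, tensorHom_comp_tensorHom, ha'] }
  haveI : IsMonHom b' :=
    { one_hom := by rw [← cancel_mono d, Category.assoc, hb', IsMonHom.one_hom, IsMonHom.one_hom]
      mul_hom := by rw [← cancel_mono d, Category.assoc, hb', IsMonHom.mul_hom, Category.assoc, IsMonHom.mul_hom,
        ← Category.assoc, tensorHom_comp_tensorHom, hb'] }
  haveI hma : Mono a' := by
    haveI : Mono a := H23.AMonExt.mono_of_isClosedImmersion a
    exact mono_of_mono_fac ha'
  haveI : Mono b' := by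
    haveI : Mono b := H23.AMonExt.mono_of_isClosedImmersion b
    exact mono_of_mono_fac hb'
  haveI : QuasiCompact A.hom := by
    haveI : IsClosedImmersion (a'.left ≫ d.left) := by rw [← Over.comp_left, ha']; infer_instance
    haveI : IsClosedImmersion a'.left := IsClosedImmersion.of_comp a'.left d.left
    rw [← Over.w a']
    infer_instance
  have hcase' : ConnectedSpace A.left ∨ (AlgGrp.IsNormalHom a' ∧ AlgGrp.IsNormalHom b') := by
    rcases hcase with ⟨hna, hnb, -⟩ | hconn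
    · refine Or.inr ⟨fun T g n => ?_, fun T g n => ?_⟩
      · obtain ⟨q, hq⟩ := hna T (g ≫ d) n
        refine ⟨q, (cancel_mono d).mp ?_⟩
        rw [MonObj.mul_comp, MonObj.mul_comp, GrpObj.inv_comp, Category.assoc, Category.assoc, ha', hq]
      · obtain ⟨q, hq⟩ := hnb T (g ≫ d) n
        refine ⟨q, (cancel_mono d).mp ?_⟩
        rw [MonObj.mul_comp, MonObj.mul_comp, GrpObj.inv_comp, Category.assoc, Category.assoc, hb', hq]
    · exact Or.inl hconn
  obtain ⟨N, Z, hZc, hZ, -, -⟩ := CommSub.exists_commutator_bound a' b' hcase'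
  -- back to `G`
  let ψ : (PT ⟶ D) →* (PT ⟶ G) := MonoidHom.mk' (fun x => x ≫ d) fun x y => MonObj.mul_comp x y d
  let C : Set (PT ⟶ G) := CommSub.commSet a b
  have hψ : Subgroup.map ψ (Subgroup.closure (CommSub.commSet a' b')) = Subgroup.closure C := by
    rw [MonoidHom.map_closure]
    congr 1
    ext g
    constructor
    · rintro ⟨_, ⟨⟨x, y⟩, rfl⟩, rfl⟩
      refine ⟨(x, y), ?_⟩
      show ⁅x ≫ a, y ≫ b⁆ = ψ ⁅x ≫ a', y ≫ b'⁆
      rw [map_commutatorElement]
      simp [ψ, ha', hb']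
    · rintro ⟨⟨x, y⟩, rfl⟩
      refine ⟨⁅x ≫ a', y ≫ b'⁆, ⟨(x, y), rfl⟩, ?_⟩
      rw [map_commutatorElement]
      simp [ψ, ha', hb']
  obtain ⟨E, strE, e, he, heci, -, -, her⟩ := CommSub.PtsSubgroup.exists_subgroup
    (d.left.isClosedEmbedding.isClosedMap _ hZc) (Subgroup.closure C) fun g => by
      rw [← hψ]
      constructor
      · rintro ⟨z, hz, hzg⟩
        obtain ⟨x, rfl⟩ := AGFLib.Gen.exists_of_mem_range d g ⟨z, hzg⟩
        have : AGFLib.Gen.cp x = z := d.left.isClosedEmbedding.injective (by rw [hzg]; rfl)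
        exact ⟨x, (hZ x).mp (this ▸ hz), rfl⟩
      · rintro ⟨x, hx, rfl⟩
        exact ⟨AGFLib.Gen.cp x, (hZ x).mpr hx, rfl⟩
  haveI := heci
  let cmG : A ⊗ B ⟶ G := (fst A B ≫ a) * (snd A B ≫ b) * (fst A B ≫ a)⁻¹ * (snd A B ≫ b)⁻¹
  have hcm : ∀ w : PT ⟶ A ⊗ B, w ≫ cmG = ⁅(w ≫ fst A B) ≫ a, (w ≫ snd A B) ≫ b⁆ := fun w => by
    simp [cmG, commutatorElement_def, MonObj.comp_mul, GrpObj.comp_inv]
  obtain ⟨f'', hf''⟩ := CommSub.Image.factor_reduced cmG e ((CommSub.PtsSubgroup.range_subset cmG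
    (d.left.isClosedEmbedding.isClosedMap _ hZc) fun w => by
      obtain ⟨x, hx, hxe⟩ : ⁅(w ≫ fst A B) ≫ a, (w ≫ snd A B) ≫ b⁆ ∈ Subgroup.map ψ (Subgroup.closure (CommSub.commSet a' b')) :=
        hψ.symm ▸ Subgroup.subset_closure ⟨(w ≫ fst A B, w ≫ snd A B), rfl⟩
      rw [hcm, ← hxe]
      exact ⟨AGFLib.Gen.cp x, (hZ x).mpr hx, rfl⟩).trans her.ge)
  obtain ⟨j, hj⟩ := hmin E strE e he heci ⟨f'', hf''⟩
  obtain ⟨f', hf'⟩ := hf
  have hrhs : ⁅Subgroup.closure (Set.range fun x : PT ⟶ A => x ≫ a),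
      Subgroup.closure (Set.range fun y : PT ⟶ B => y ≫ b)⁆ = Subgroup.closure C := by
    rw [show (Set.range fun x : PT ⟶ A => x ≫ a) = SetLike.coe AR from rfl,
      show (Set.range fun y : PT ⟶ B => y ≫ b) = SetLike.coe BR from rfl, Subgroup.closure_eq, Subgroup.closure_eq,
      Subgroup.commutator_def]
    congr 1
    ext g
    constructor
    · rintro ⟨_, ⟨x, rfl⟩, _, ⟨y, rfl⟩, rfl⟩; exact ⟨(x, y), rfl⟩
    · rintro ⟨⟨x, y⟩, rfl⟩; exact ⟨_, ⟨x, rfl⟩, _, ⟨y, rfl⟩, rfl⟩
  rw [hrhs]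
  ext g
  constructor
  · rintro ⟨z, rfl⟩
    obtain ⟨x, hx, hxz⟩ : AGFLib.Gen.cp (z ≫ i) ∈ d.left '' Z := her.le ⟨j.left (AGFLib.Gen.cp z), by
      rw [← hj]; rfl⟩
    obtain ⟨u, hu⟩ := AGFLib.Gen.exists_of_mem_range d (z ≫ i) ⟨x, hxz⟩
    have hux : AGFLib.Gen.cp u = x := d.left.isClosedEmbedding.injective (by rw [hxz, ← hu]; rfl)
    rw [SetLike.mem_coe, ← hψ]
    exact ⟨u, (hZ u).mp (hux ▸ hx), hu⟩
  · intro hg
    refine (Subgroup.closure_le (MonoidHom.mk' (fun z : PT ⟶ Γ => z ≫ i) fun x y => MonObj.mul_comp x y i).range).mpr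
      ?_ hg
    rintro _ ⟨⟨x, y⟩, rfl⟩
    exact ⟨lift x y ≫ f', by
      show (lift x y ≫ f') ≫ i = _
      rw [Category.assoc, hf', hcm, lift_fst, lift_snd]⟩
end Groth.Agent.S6073
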