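import Groth.Statements.S6074
import Groth.Agent.CommSub.ConnFamily
import Groth.Agent.CommSub.Generic
import Groth.Agent.GrpSchLib.WordClosure
import Groth.Agent.FBaseLib.Basic
-- import your own Groth.Agent.* helpers here

set_option autoImplicit false
set_option backward.isDefEq.respectTransparency false
set_option backward.isDefEq.respectTransparency.types false
set_option maxHeartbeats 1600000
set_option synthInstance.maxHeartbeats 200000
universe u
open CategoryTheory CategoryTheory.Limits MonoidalCategory CartesianMonoidalCategory MonObj GrpObj AlgebraicGeometry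
open SGA3

namespace Groth.Agent.S6074

open scoped Pointwise

/-- Let k be a field, G a group scheme locally of finite type over k, X a k-scheme of finite type,
geometrically reduced and geometrically connected, and f : X → G a k-morphism whose image contains
the unit point of G. Let i : Γ → G be the smallest closed subgroup scheme of G through which f
factors. Then there is a natural number N such that the underlying set of Γ is the set of points of
G lying under a word of length N in f: a point g of G is in the image of i if and only if there are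
a k-scheme T, a point p of T, T-valued points x_1, …, x_N of X and signs such that the T-valued
point f(x_1)^{±1} ⋯ f(x_N)^{±1} of G maps p to g. (The set of points of G lying under words of
length exactly N is the image of the N-th iterated word morphism X^N → G built from f and its
inverse.) -/
theorem result (k : Type u) [Field k]
    (G X : Over (Spec (CommRingCat.of k))) [GrpObj G] [LocallyOfFiniteType G.hom]
    [LocallyOfFiniteType X.hom] [QuasiCompact X.hom] [GeometricallyReduced X.hom] [GeometricallyConnected X.hom]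
    (f : X ⟶ G) (he : ∃ x : X.left, f.left.base x ∈ Set.range (η[G] : 𝟙_ (Over (Spec (CommRingCat.of k))) ⟶ G).left.base)
    (Γ : Over (Spec (CommRingCat.of k))) [GrpObj Γ] (i : Γ ⟶ G) [IsMonHom i] [IsClosedImmersion i.left]
    (hf : ∃ f' : X ⟶ Γ, f' ≫ i = f)
    (hmin : ∀ (Γ' : Over (Spec (CommRingCat.of k))) (_ : GrpObj Γ') (i' : Γ' ⟶ G), IsMonHom i' → IsClosedImmersion i'.left →
        (∃ f'' : X ⟶ Γ', f'' ≫ i' = f) → ∃ j : Γ ⟶ Γ', j ≫ i' = i) :
    ∃ N : ℕ, Set.range i.left.base =
      {g : G.left | ∃ (T : Over (Spec (CommRingCat.of k))) (p : T.left) (x : Fin N → (T ⟶ X)) (ε : Fin N → Bool),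
        ((List.ofFn fun j : Fin N => if ε j then x j ≫ f else (x j ≫ f)⁻¹).prod : T ⟶ G).left.base p = g} := by
  classical
  let L := AlgebraicClosure k
  let σ : Spec (CommRingCat.of L) ⟶ Spec (CommRingCat.of k) := Spec.map (CommRingCat.ofHom (algebraMap k L))
  let F := Over.pullback σ
  let PL : Over (Spec (CommRingCat.of L)) := 𝟙_ _
  haveI : IsReduced (𝟙_ (Over (Spec (CommRingCat.of L)))).left := inferInstanceAs (IsReduced (Spec (CommRingCat.of L)))
  haveI : Surjective σ := GrpSchLib.surjective_spec_map_field _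
  haveI : Flat σ := (HasRingHomProperty.Spec_iff (P := @Flat)).mpr (RingHom.flat_algebraMap_iff.mpr inferInstance)
  haveI := GrpSchLib.AntiAffine.isSeparated_grp G
  haveI : LocallyOfFiniteType (Red.bc σ G).hom := inferInstanceAs (LocallyOfFiniteType (pullback.snd G.hom σ))
  haveI : LocallyOfFiniteType (Red.bc σ X).hom := inferInstanceAs (LocallyOfFiniteType (pullback.snd X.hom σ))
  haveI : QuasiCompact (Red.bc σ X).hom := inferInstanceAs (QuasiCompact (pullback.snd X.hom σ))
  haveI : IsReduced (Red.bc σ X).left :=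
    GeometricallyReduced.geometrically_isReduced (f := X.hom) σ _ _ (IsPullback.of_hasPullback _ _)
  haveI : ConnectedSpace (Red.bc σ X).left :=
    GeometricallyConnected.geometrically_connectedSpace (f := X.hom) σ _ _ (IsPullback.of_hasPullback _ _)
  -- a rational point mapping to the unit
  obtain ⟨x₁, hx₁⟩ : ∃ x₁ : PL ⟶ Red.bc σ X, x₁ ≫ F.map f = 1 := by
    haveI : IsClosedImmersion (η[G].left ≫ G.hom) := by
      rw [Over.w η[G]]; exact inferInstanceAs (IsClosedImmersion (𝟙 (Spec (CommRingCat.of k))))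
    haveI : IsClosedImmersion η[G].left := IsClosedImmersion.of_comp η[G].left G.hom
    haveI : IsClosedImmersion (F.map η[G]).left :=
      MorphismProperty.baseChange_map (P := @IsClosedImmersion) σ η[G] inferInstance
    haveI : JacobsonSpace (Red.bc σ X).left := LocallyOfFiniteType.jacobsonSpace (Red.bc σ X).hom
    obtain ⟨x, hx⟩ := he
    obtain ⟨z, hz⟩ := (MorphismProperty.pullback_fst (P := @Surjective) X.hom σ inferInstance).surj x
    have hzc : (F.map f).left z ∈ Set.range (F.map η[G]).left := by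
      rw [CommSub.Generic.range_map, Set.mem_preimage]
      have h3 : pullback.fst G.hom σ ((F.map f).left z) = f.left (pullback.fst X.hom σ z) :=
        congrArg (fun m => m z) (GrpSchLib.HomSplitLocal.map_fst f σ)
      rw [h3]
      exact hz ▸ hx
    obtain ⟨c, hc, hcc⟩ := nonempty_inter_closedPoints (Z := (F.map f).left ⁻¹' Set.range (F.map η[G]).left)
      ⟨z, hzc⟩ (((F.map η[G]).left.isClosedEmbedding.isClosed_range.preimage (F.map f).left.continuous).isLocallyClosed)
    obtain ⟨t, rfl⟩ := AGFLib.Gen.exists_cp hcc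
    haveI : LocallyOfFiniteType (F.obj (𝟙_ (Over (Spec (CommRingCat.of k))))).hom :=
      inferInstanceAs (LocallyOfFiniteType (pullback.snd (𝟙 (Spec (CommRingCat.of k))) σ))
    haveI := GrpSchLib.AntiAffine.isSeparated_grp (Red.bc σ G)
    obtain ⟨u, hu⟩ := AGFLib.Gen.exists_of_mem_range (F.map η[G]) (t ≫ F.map f) hc
    refine ⟨t, hu.symm.trans ?_⟩
    rw [MonObj.one_eq_one, Functor.map_one, MonObj.comp_one]
  obtain ⟨K, Z, hZc, hZ, hb⟩ := CommSub.ConnFamily.exists_bound (F.map f) x₁ hx₁
  let V : Subgroup (PL ⟶ Red.bc σ G) := Subgroup.closure (CommSub.Words.vals PL (F.map f))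
  let ψ : X ⊗ X ⟶ G := (fst X X ≫ f) * (snd X X ≫ f)⁻¹
  have hψ : CommSub.Words.vals PL (F.map ψ) = CommSub.Words.vals PL (F.map f) * (CommSub.Words.vals PL (F.map f))⁻¹ := by
    have e : F.map ψ = (F.map (fst X X) ≫ F.map f) * (F.map (snd X X) ≫ F.map f)⁻¹ := by
      simp only [ψ, Functor.map_mul, Functor.map_inv', Functor.map_comp]
    ext g
    constructor
    · rintro ⟨z, rfl⟩
      refine ⟨_, ⟨z ≫ F.map (fst X X), rfl⟩, _, Set.inv_mem_inv.mpr ⟨z ≫ F.map (snd X X), rfl⟩, ?_⟩
      simp only [e, MonObj.comp_mul, GrpObj.comp_inv, Category.assoc]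
    · rintro ⟨_, ⟨x, rfl⟩, y', ⟨y, hy⟩, rfl⟩
      obtain ⟨z, hz1, hz2⟩ := CommSub.Words.exists_pair F x y
      refine ⟨z, ?_⟩
      show z ≫ F.map ψ = (x ≫ F.map f) * y'
      rw [e, MonObj.comp_mul, GrpObj.comp_inv, reassoc_of% hz1, reassoc_of% hz2,
        show y ≫ F.map f = y'⁻¹ from hy, _root_.inv_inv]
  obtain ⟨W, Φ, hWlft, hWqc, hWred, hV, x, ε, hxε⟩ : ∃ (W : Over (Spec (CommRingCat.of k))) (Φ : W ⟶ G),
      LocallyOfFiniteType W.hom ∧ QuasiCompact W.hom ∧ IsReduced (Red.bc σ W).left ∧
      CommSub.Words.vals PL (F.map Φ) = SetLike.coe V ∧ ∃ (x : Fin (2 * K) → (W ⟶ X)) (ε : Fin (2 * K) → Bool),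
        (List.ofFn fun j => GrpSchLib.WordClosure.sgn f (ε j) (x j)).prod = Φ := by
    have hV : CommSub.Words.vals PL (F.map (CommSub.Words.hom ψ K)) = SetLike.coe V := by
      rw [CommSub.Words.vals_hom, hψ]
      refine Set.Subset.antisymm ?_ fun g hg => hb g hg
      have : ∀ n : ℕ, (CommSub.Words.vals PL (F.map f) * (CommSub.Words.vals PL (F.map f))⁻¹) ^ n ⊆ SetLike.coe V := by
        intro n
        induction n with
        | zero => rw [pow_zero]; rintro _ rfl; exact one_mem V
        | succ n ih =>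
          rw [pow_succ]
          rintro _ ⟨x, hx, _, ⟨a, ha, b, hb, rfl⟩, rfl⟩
          exact mul_mem (ih hx) (mul_mem (Subgroup.subset_closure ha)
            ((Subgroup.inv_mem_iff _).mp (Subgroup.subset_closure hb)))
      exact this K
    -- the properties of the source
    obtain ⟨hWlft, hWqc, hWred⟩ := CommSub.Words.src_prop
      (P := fun Y : Over (Spec (CommRingCat.of k)) => LocallyOfFiniteType Y.hom ∧ QuasiCompact Y.hom ∧
        IsReduced (Red.bc σ Y).left)
      ⟨inferInstanceAs (LocallyOfFiniteType (𝟙 _)), inferInstanceAs (QuasiCompact (𝟙 _)),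
        isReduced_of_isOpenImmersion (Functor.Monoidal.εIso F).inv.left⟩
      (fun Y Y' h h' => by
        haveI := h.1; haveI := h.2.1; haveI := h'.1; haveI := h'.2.1; haveI := h.2.2; haveI := h'.2.2
        haveI : IsReduced (Red.bc σ Y ⊗ Red.bc σ Y').left :=
          GrpSchLib.isReduced_pullback_of_perfectField (Red.bc σ Y).hom (Red.bc σ Y').hom
        exact ⟨inferInstanceAs (LocallyOfFiniteType (pullback.fst Y.hom Y'.hom ≫ Y.hom)),
          inferInstanceAs (QuasiCompact (pullback.fst Y.hom Y'.hom ≫ Y.hom)),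
          isReduced_of_isOpenImmersion (Functor.Monoidal.μIso F Y Y').inv.left⟩)
      (W := X ⊗ X) ⟨inferInstanceAs (LocallyOfFiniteType (pullback.fst X.hom X.hom ≫ X.hom)),
        inferInstanceAs (QuasiCompact (pullback.fst X.hom X.hom ≫ X.hom)), by
          haveI : IsReduced (Red.bc σ X ⊗ Red.bc σ X).left :=
            GrpSchLib.isReduced_pullback_of_perfectField (Red.bc σ X).hom (Red.bc σ X).hom
          exact isReduced_of_isOpenImmersion (Functor.Monoidal.μIso F X X).inv.left⟩ K
    -- the word morphism as words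
    have hword : ∀ n, ∃ (x : Fin (2 * n) → (CommSub.Words.src (X ⊗ X) n ⟶ X)) (ε : Fin (2 * n) → Bool),
        (List.ofFn fun j => GrpSchLib.WordClosure.sgn f (ε j) (x j)).prod = CommSub.Words.hom ψ n := by
      suffices h : ∀ n, ∃ l : List ((CommSub.Words.src (X ⊗ X) n ⟶ X) × Bool),
          l.length = 2 * n ∧ (l.map fun q => GrpSchLib.WordClosure.sgn f q.2 q.1).prod = CommSub.Words.hom ψ n by
        intro n
        obtain ⟨l, hl, hp⟩ := h n
        refine ⟨fun j => (l[(j : ℕ)]'(by omega)).1, fun j => (l[(j : ℕ)]'(by omega)).2, ?_⟩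
        rw [← hp]
        exact congrArg List.prod
          (List.ext_getElem (by simp [hl]) (fun i h1 h2 => by rw [List.getElem_ofFn, List.getElem_map]))
      intro n
      induction n with
      | zero => exact ⟨[], rfl, rfl⟩
      | succ n ih =>
        obtain ⟨l, hl, hp⟩ := ih
        let s := snd (X ⊗ X) (CommSub.Words.src (X ⊗ X) n)
        let q := fst (X ⊗ X) (CommSub.Words.src (X ⊗ X) n)
        refine ⟨(q ≫ fst X X, true) :: (q ≫ snd X X, false) :: l.map (fun z => (s ≫ z.1, z.2)), by simp [hl]; omega, ?_⟩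
        have hs : ((l.map fun z => (s ≫ z.1, z.2)).map fun z => GrpSchLib.WordClosure.sgn f z.2 z.1).prod =
            s ≫ CommSub.Words.hom ψ n := by
          rw [← hp]
          clear hl hp
          induction l with
          | nil => exact (MonObj.comp_one _).symm
          | cons z l ih =>
            simp only [List.map_cons, List.prod_cons, ih, MonObj.comp_mul, GrpSchLib.WordClosure.comp_sgn]
        simp only [List.map_cons, List.prod_cons, hs, GrpSchLib.WordClosure.sgn, if_true, Bool.false_eq_true, if_false]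
        rw [← _root_.mul_assoc]
        show _ = (q ≫ ψ) * (s ≫ CommSub.Words.hom ψ n)
        congr 1
        simp only [ψ, MonObj.comp_mul, GrpObj.comp_inv, Category.assoc]
    exact ⟨_, CommSub.Words.hom ψ K, hWlft, hWqc, hWred, hV, hword K⟩
  haveI : LocallyOfFiniteType W.hom := hWlft
  haveI : QuasiCompact W.hom := hWqc
  have hbc : ∀ Y : Over (Spec (CommRingCat.of k)), LocallyOfFiniteType Y.hom → QuasiCompact Y.hom →
      LocallyOfFiniteType (Red.bc σ Y).hom ∧ QuasiCompact (Red.bc σ Y).hom := fun Y h h' => by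
    haveI := h; haveI := h'
    exact ⟨inferInstanceAs (LocallyOfFiniteType (pullback.snd Y.hom σ)),
      inferInstanceAs (QuasiCompact (pullback.snd Y.hom σ))⟩
  obtain ⟨hWL1, hWL2⟩ := hbc W hWlft hWqc
  haveI : LocallyOfFiniteType (Red.bc σ W).hom := hWL1
  haveI : QuasiCompact (Red.bc σ W).hom := hWL2
  have hrange : Set.range (F.map Φ).left = Z :=
    @CommSub.ConnFamily.range_eq_of_vals L _ _ (Red.bc σ G) _ ‹_› (Red.bc σ W) hWL1 hWL2 (F.map Φ) Z hZc fun g => (hZ g).trans (by rw [hV]; rfl)
  haveI : QuasiCompact (pullback.fst G.hom σ) := MorphismProperty.pullback_fst (P := @QuasiCompact) _ _ inferInstance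
  haveI : Flat (pullback.fst G.hom σ) := MorphismProperty.pullback_fst (P := @Flat) _ _ inferInstance
  haveI : Surjective (pullback.fst G.hom σ) := MorphismProperty.pullback_fst (P := @Surjective) _ _ inferInstance
  have hΦc : IsClosed (Set.range Φ.left) := by
    rw [← (Flat.isQuotientMap_of_surjective (pullback.fst G.hom σ)).isClosed_preimage, ← CommSub.Generic.range_map,
      hrange]
    exact hZc
  have hred : ∀ Y : Over (Spec (CommRingCat.of k)), IsReduced (Red.bc σ Y).left → IsReduced Y.left := fun Y hY => by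
    haveI : IsReduced (pullback Y.hom σ) := hY
    haveI : Flat (pullback.fst Y.hom σ) := MorphismProperty.pullback_fst (P := @Flat) _ _ inferInstance
    haveI : Surjective (pullback.fst Y.hom σ) := MorphismProperty.pullback_fst (P := @Surjective) _ _ inferInstance
    exact FBaseLib.isReduced_of_flat_surjective (pullback.fst Y.hom σ)
  -- the schematic image
  haveI : QuasiCompact Φ.left := by
    have : QuasiCompact (Φ.left ≫ G.hom) := by rw [Over.w Φ]; infer_instance
    exact QuasiCompact.of_comp Φ.left G.hom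
  let D : Over (Spec (CommRingCat.of k)) := Over.mk (Φ.left.imageι ≫ G.hom)
  let d : D ⟶ G := Over.homMk Φ.left.imageι rfl
  let p : W ⟶ D := Over.homMk Φ.left.toImage (by
    show Φ.left.toImage ≫ Φ.left.imageι ≫ G.hom = W.hom
    rw [Scheme.Hom.toImage_imageι_assoc, Over.w Φ])
  have hpd : p ≫ d = Φ := Over.OverMorphism.ext Φ.left.toImage_imageι
  haveI : IsClosedImmersion d.left := inferInstanceAs (IsClosedImmersion Φ.left.imageι)
  haveI : IsSchemeTheoreticallyDominant p.left := RedImage.isSchemeTheoreticallyDominant_toImage Φ.left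
  haveI : QuasiCompact p.left := by
    have : QuasiCompact (p.left ≫ d.left) := by rw [← Over.comp_left, hpd]; infer_instance
    exact QuasiCompact.of_comp p.left d.left
  have hd : Set.range Φ.left ⊆ Set.range d.left := by
    rintro _ ⟨w, rfl⟩
    exact ⟨p.left w, by rw [← hpd]; rfl⟩
  have hd' : Set.range d.left ⊆ Set.range Φ.left := by
    haveI : IsDominant p.left := inferInstance
    have hcl : IsClosed (d.left ⁻¹' Set.range Φ.left) := hΦc.preimage d.left.continuous
    rintro _ ⟨x, rfl⟩
    refine (hcl.closure_subset_iff.mpr ?_ (p.left.denseRange x) : x ∈ d.left ⁻¹' Set.range Φ.left)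
    rintro _ ⟨w, rfl⟩
    exact ⟨w, by rw [← hpd]; rfl⟩
  have hfac : ∀ {Y : Over (Spec (CommRingCat.of k))} (h : Y ⟶ G), LocallyOfFiniteType Y.hom →
      IsReduced (Red.bc σ Y).left → CommSub.Words.vals PL (F.map h) ⊆ SetLike.coe V → ∃ v : Y ⟶ D, v ≫ d = h :=
    fun {Y} h hlft hY hv => by
      haveI := hlft
      haveI := hred Y hY
      haveI : LocallyOfFiniteType (F.obj Y).hom := inferInstanceAs (LocallyOfFiniteType (pullback.snd Y.hom σ))
      refine CommSub.Image.factor_reduced h d (subset_trans ?_ hd)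
      intro y hy
      obtain ⟨y', rfl⟩ := (inferInstance : Surjective (pullback.fst G.hom σ)).surj y
      have h1 : y' ∈ Set.range (F.map h).left := by rw [CommSub.Generic.range_map]; exact hy
      have h2 : y' ∈ Set.range (F.map Φ).left :=
        CommSub.Image.range_subset_of_vals (F.map h) (F.map Φ) (hrange ▸ hZc) (hV ▸ hv) h1
      rw [CommSub.Generic.range_map] at h2
      exact h2
  haveI : Flat W.hom := RedImage.flat_hom W
  haveI : Flat D.hom := RedImage.flat_hom D
  haveI : IsReduced (Red.bc σ W).left := hWred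
  obtain ⟨e1, he1⟩ := hfac (1 : 𝟙_ (Over (Spec (CommRingCat.of k))) ⟶ G)
    (inferInstanceAs (LocallyOfFiniteType (𝟙 _))) (isReduced_of_isOpenImmersion (Functor.Monoidal.εIso F).inv.left) (by
    rintro _ ⟨x, rfl⟩
    simp only [Functor.map_one, MonObj.comp_one]
    exact one_mem V)
  obtain ⟨em, hem⟩ := hfac ((fst W W ≫ Φ) * (snd W W ≫ Φ))
    (MorphismProperty.comp_mem @LocallyOfFiniteType _ _ (MorphismProperty.pullback_fst (P := @LocallyOfFiniteType) W.hom W.hom hWlft) hWlft) (by
      haveI : IsReduced (Red.bc σ W ⊗ Red.bc σ W).left :=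
        GrpSchLib.isReduced_pullback_of_perfectField (Red.bc σ W).hom (Red.bc σ W).hom
      exact isReduced_of_isOpenImmersion (Functor.Monoidal.μIso F W W).inv.left) (by
    rintro _ ⟨x, rfl⟩
    simp only [Functor.map_mul, Functor.map_comp, MonObj.comp_mul]
    exact mul_mem (hV.le ⟨_, Category.assoc _ _ _⟩) (hV.le ⟨_, Category.assoc _ _ _⟩))
  obtain ⟨ei, hei⟩ := hfac Φ⁻¹ hWlft hWred (by
    rintro _ ⟨x, rfl⟩
    simp only [Functor.map_inv', GrpObj.comp_inv]
    exact inv_mem (hV.le ⟨x, rfl⟩))
  obtain ⟨str, hdh⟩ := CommSub.Image.exists_group d p ⟨e1, by rw [he1, MonObj.one_eq_one]⟩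
    ⟨em, by rw [hem, hpd]⟩ ⟨ei, by rw [hei, hpd]⟩
  obtain ⟨ef, hef⟩ := hfac f inferInstance ‹_› fun g hg => Subgroup.subset_closure hg
  obtain ⟨j, hj⟩ := hmin D str d hdh inferInstance ⟨ef, hef⟩
  obtain ⟨f', hf'⟩ := hf
  refine ⟨2 * K, Set.ext fun g => ⟨fun hg => ?_, ?_⟩⟩
  · obtain ⟨z, rfl⟩ := hg
    have : i.left z ∈ Set.range Φ.left := hd' ⟨j.left z, by rw [← hj]; rfl⟩
    obtain ⟨w, hw⟩ := this
    exact ⟨W, w, x, ε, (congrArg (fun m : W ⟶ G => m.left.base w) hxε).trans hw⟩
  · rintro ⟨T, q, x, ε, rfl⟩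
    have : ∃ z : T ⟶ Γ, z ≫ i = (List.ofFn fun j : Fin (2 * K) => if ε j then x j ≫ f else (x j ≫ f)⁻¹).prod := by
      have hm : ∀ m ∈ (List.ofFn fun j : Fin (2 * K) => if ε j then x j ≫ f else (x j ≫ f)⁻¹),
          m ∈ (MonoidHom.mk' (fun z : T ⟶ Γ => z ≫ i) fun a b => MonObj.mul_comp a b i).range := by
        intro m hm
        obtain ⟨j, rfl⟩ := List.mem_ofFn.mp hm
        have : x j ≫ f ∈ (MonoidHom.mk' (fun z : T ⟶ Γ => z ≫ i) fun a b => MonObj.mul_comp a b i).range :=
          ⟨x j ≫ f', by show (x j ≫ f') ≫ i = _; rw [Category.assoc, hf']⟩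
        split_ifs
        · exact this
        · exact inv_mem this
      exact Subgroup.list_prod_mem _ hm
    obtain ⟨z, hz⟩ := this
    exact ⟨z.left q, congrArg (fun m : T ⟶ G => m.left.base q) hz⟩
end Groth.Agent.S6074
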