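import Groth.Statements.S6077
import Groth.Agent.GrpSchLib.WordClosure
import Groth.Agent.CommSub.PtsSubgroup
-- import your own Groth.Agent.* helpers here

set_option autoImplicit false
set_option backward.isDefEq.respectTransparency false
set_option backward.isDefEq.respectTransparency.types false
set_option maxHeartbeats 800000
universe u
open CategoryTheory CategoryTheory.Limits MonoidalCategory CartesianMonoidalCategory MonObj GrpObj AlgebraicGeometry
open SGA3

namespace Groth.Agent.S6077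

/-- Let k be an algebraically closed field, G a group scheme locally of finite type over k, X a
geometrically reduced k-scheme locally of finite type, f : X → G a k-morphism, and h : H → G a
closed subgroup scheme whose underlying set is contained in the image of f. Let i : Γ → G be the
smallest closed subgroup scheme of G through which f factors. Say that a point of G lies under a
word of length n in f when there are a k-scheme T, a point p of T, T-valued points x_1, …, x_n of X
and signs such that f(x_1)^{±1} ⋯ f(x_n)^{±1} maps p to it; let Γ'₀ be the set of k-points of G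
whose point lies under some word (of any length n ≥ 0). Suppose that Γ'₀ is covered by finitely many
left translates a · H(k) of the image of H(k) in G(k), with the a in Γ'₀ (H(k) has finite index in
Γ'₀). Then there is m such that the underlying set of Γ is the set of points of G lying under a word
of length m, and there are finitely many k-points a_1, …, a_r of G such that the underlying set of Γ
is the union of the left translates a_j · H of the underlying set of H. -/
theorem result (k : Type u) [Field k] [IsAlgClosed k]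
    (G X H : Over (Spec (CommRingCat.of k))) [GrpObj G] [GrpObj H] [LocallyOfFiniteType G.hom]
    [LocallyOfFiniteType X.hom] [GeometricallyReduced X.hom] (f : X ⟶ G)
    (h : H ⟶ G) [IsMonHom h] [IsClosedImmersion h.left] (hH : Set.range h.left.base ⊆ Set.range f.left.base)
    (Γ : Over (Spec (CommRingCat.of k))) [GrpObj Γ] (i : Γ ⟶ G) [IsMonHom i] [IsClosedImmersion i.left]
    (hf : ∃ f' : X ⟶ Γ, f' ≫ i = f)
    (hmin : ∀ (Γ' : Over (Spec (CommRingCat.of k))) (_ : GrpObj Γ') (i' : Γ' ⟶ G), IsMonHom i' → IsClosedImmersion i'.left →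
        (∃ f'' : X ⟶ Γ', f'' ≫ i' = f) → ∃ j : Γ ⟶ Γ', j ≫ i' = i)
    (hfin : ∃ F : Finset (𝟙_ (Over (Spec (CommRingCat.of k))) ⟶ G),
      (∀ a ∈ F, ∃ (n : ℕ) (T : Over (Spec (CommRingCat.of k))) (p : T.left) (p₀ : (𝟙_ (Over (Spec (CommRingCat.of k)))).left) (x : Fin n → (T ⟶ X)) (ε : Fin n → Bool),
        ((List.ofFn fun j : Fin n => if ε j then x j ≫ f else (x j ≫ f)⁻¹).prod : T ⟶ G).left.base p = a.left.base p₀) ∧
      ∀ g : 𝟙_ (Over (Spec (CommRingCat.of k))) ⟶ G, (∃ (n : ℕ) (T : Over (Spec (CommRingCat.of k))) (p : T.left) (p₀ : (𝟙_ (Over (Spec (CommRingCat.of k)))).left) (x : Fin n → (T ⟶ X)) (ε : Fin n → Bool),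
        ((List.ofFn fun j : Fin n => if ε j then x j ≫ f else (x j ≫ f)⁻¹).prod : T ⟶ G).left.base p = g.left.base p₀) →
        ∃ a ∈ F, ∃ y : 𝟙_ (Over (Spec (CommRingCat.of k))) ⟶ H, g = a * (y ≫ h)) :
    (∃ m : ℕ, Set.range i.left.base =
      {g : G.left | ∃ (T : Over (Spec (CommRingCat.of k))) (p : T.left) (x : Fin m → (T ⟶ X)) (ε : Fin m → Bool),
        ((List.ofFn fun j : Fin m => if ε j then x j ≫ f else (x j ≫ f)⁻¹).prod : T ⟶ G).left.base p = g}) ∧
    ∃ F : Finset (𝟙_ (Over (Spec (CommRingCat.of k))) ⟶ G), Set.range i.left.base =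
      ⋃ a ∈ F, (fun z => ((λ_ G).inv ≫ (a ▷ G) ≫ μ[G]).left.base z) '' Set.range h.left.base := by
  classical
  let PT : Over (Spec (CommRingCat.of k)) := 𝟙_ _
  haveI : Subsingleton ↥PT.left := inferInstanceAs (Subsingleton ↥(Spec (CommRingCat.of k)))
  haveI := GrpSchLib.AntiAffine.isSeparated_grp G
  haveI : LocallyOfFiniteType H.hom := by
    haveI : LocallyOfFiniteType (h.left ≫ G.hom) := inferInstance
    rwa [Over.w h] at *
  haveI : IsReduced X.left := GeometricallyReduced.geometrically_isReduced (f := X.hom) (𝟙 _) _ _ IsPullback.of_id_fst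
  -- the rational points under words
  let R : Subgroup (PT ⟶ G) := Subgroup.closure (Set.range fun x : PT ⟶ X => x ≫ f)
  have hS : {g : PT ⟶ G | ∃ p₀ : PT.left, g.left.base p₀ ∈ Set.range f.left.base} = Set.range fun x : PT ⟶ X => x ≫ f := by
    ext g
    constructor
    · rintro ⟨p₀, w, hw⟩
      exact GrpSchLib.WordClosure.exists_lift_point f g p₀ w hw
    · rintro ⟨x, rfl⟩
      exact ⟨IsLocalRing.closedPoint k, x.left (IsLocalRing.closedPoint k), rfl⟩
  have hwp : ∀ g : PT ⟶ G, (∃ (n : ℕ) (T : Over (Spec (CommRingCat.of k))) (p : T.left) (p₀ : PT.left)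
      (x : Fin n → (T ⟶ X)) (ε : Fin n → Bool),
      ((List.ofFn fun j : Fin n => if ε j then x j ≫ f else (x j ≫ f)⁻¹).prod : T ⟶ G).left.base p = g.left.base p₀) ↔
      g ∈ R := fun g => by
    have := Set.ext_iff.mp (GrpSchLib.WordClosure.main f) g
    rw [hS] at this
    exact this
  have hHR : ∀ y : PT ⟶ H, y ≫ h ∈ R := fun y => by
    obtain ⟨x, hx⟩ := AGFLib.Gen.exists_of_mem_range f (y ≫ h) (hH ⟨AGFLib.Gen.cp y, rfl⟩)
    exact Subgroup.subset_closure ⟨x, hx⟩
  obtain ⟨F, hF, hcov⟩ := hfin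
  have hFR : ∀ a ∈ F, a ∈ R := fun a ha => (hwp a).mp (hF a ha)
  -- translations
  let T : (PT ⟶ G) → (G ⟶ G) := fun a => (λ_ G).inv ≫ (a ▷ G) ≫ μ[G]
  have hT : ∀ (a : PT ⟶ G) (g : PT ⟶ G), g ≫ T a = a * g := fun a g => by
    rw [CommSub.PtsSubgroup.comp_translate, toUnit_unique (toUnit PT) (𝟙 _), Category.id_comp]
  have hT1 : ∀ a : PT ⟶ G, T a ≫ T a⁻¹ = 𝟙 G := fun a => by
    have e : T a = (toUnit G ≫ a) * 𝟙 G := by rw [← CommSub.PtsSubgroup.comp_translate, Category.id_comp]
    rw [CommSub.PtsSubgroup.comp_translate, e, ← _root_.mul_assoc, ← MonObj.comp_mul, inv_mul_cancel, MonObj.comp_one,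
      _root_.one_mul]
  let Z : Set G.left := ⋃ a ∈ F, (T a).left '' Set.range h.left
  have hZ : IsClosed Z := F.finite_toSet.isClosed_biUnion fun a _ => by
    have h2 := hT1 a⁻¹
    rw [_root_.inv_inv] at h2
    rw [Set.image_eq_preimage_of_inverse (f := (T a).left) (g := (T a⁻¹).left)
      (fun z => congrArg (fun m : G ⟶ G => m.left z) (hT1 a)) (fun z => congrArg (fun m : G ⟶ G => m.left z) h2)]
    exact h.left.isClosedEmbedding.isClosed_range.preimage (T a⁻¹).left.continuous
  have hZR : ∀ g : PT ⟶ G, AGFLib.Gen.cp g ∈ Z ↔ g ∈ R := by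
    intro g
    simp only [Z, Set.mem_iUnion]
    constructor
    · rintro ⟨a, ha, z, ⟨u, rfl⟩, hz⟩
      obtain ⟨y, hy⟩ := AGFLib.Gen.exists_of_mem_range h (a⁻¹ * g) ⟨u, by
        rw [← hT, AGFLib.Gen.cp_comp]
        show _ = (T a⁻¹).left (AGFLib.Gen.cp g)
        rw [← hz]
        exact (congrArg (fun m : G ⟶ G => m.left (h.left u)) (hT1 a)).symm⟩
      have := mul_mem (hFR a ha) (hHR y)
      rwa [hy, mul_inv_cancel_left] at this
    · intro hg
      obtain ⟨a, ha, y, rfl⟩ := hcov g ((hwp g).mpr hg)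
      exact ⟨a, ha, h.left (AGFLib.Gen.cp y), ⟨_, rfl⟩, (congrArg AGFLib.Gen.cp (hT a (y ≫ h)))⟩
  -- every word lands in the translates
  have hwZ : ∀ (n : ℕ) (S : Over (Spec (CommRingCat.of k))) (p : S.left) (x : Fin n → (S ⟶ X)) (ε : Fin n → Bool),
      ((List.ofFn fun j : Fin n => if ε j then x j ≫ f else (x j ≫ f)⁻¹).prod : S ⟶ G).left.base p ∈ Z := by
    intro n S p x ε
    haveI := GrpSchLib.WordClosure.lft_wordSrc X n
    obtain ⟨w, hw⟩ := GrpSchLib.WordClosure.exists_tuple f n x ε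
    refine (CommSub.PtsSubgroup.range_subset (GrpSchLib.WordClosure.wordHom f n ε) hZ fun s => (hZR _).mpr
      (GrpSchLib.WordClosure.mem_closure_of_tuple f n s ε)) ⟨w.left p, ?_⟩
    exact congrArg (fun m : S ⟶ G => m.left p) hw
  -- words of one length
  let val : ∀ {S : Over (Spec (CommRingCat.of k))}, (S ⟶ X) × Bool → (S ⟶ G) :=
    fun {_} q => GrpSchLib.WordClosure.sgn f q.2 q.1
  have hlist : ∀ a : {a // a ∈ F}, ∃ l : List ((PT ⟶ X) × Bool), (l.map val).prod = a.1 := fun a => by
    obtain ⟨n, x, ε, e⟩ := GrpSchLib.WordClosure.exists_word_of_mem_closure f (hFR a.1 a.2)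
    exact ⟨List.ofFn fun j => (x j, ε j), by rw [List.map_ofFn]; exact e⟩
  choose l hl using hlist
  let M := F.attach.sup fun a => (l a).length
  obtain ⟨x₁, hx₁⟩ := AGFLib.Gen.exists_of_mem_range f ((1 : PT ⟶ H) ≫ h) (hH ⟨AGFLib.Gen.cp (1 : PT ⟶ H), rfl⟩)
  rw [MonObj.one_comp] at hx₁
  have hZw : ∀ g ∈ Z, ∃ (S : Over (Spec (CommRingCat.of k))) (p : S.left) (x : Fin (M + 1) → (S ⟶ X))
      (ε : Fin (M + 1) → Bool),
      ((List.ofFn fun j : Fin (M + 1) => if ε j then x j ≫ f else (x j ≫ f)⁻¹).prod : S ⟶ G).left.base p = g := by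
    intro g hg
    simp only [Z, Set.mem_iUnion] at hg
    obtain ⟨a, ha, z, hz, rfl⟩ := hg
    obtain ⟨x₀, rfl⟩ := hH hz
    let S : Over (Spec (CommRingCat.of k)) := Over.mk (X.left.fromSpecResidueField x₀ ≫ X.hom)
    let ξ : S ⟶ X := Over.homMk (X.left.fromSpecResidueField x₀) rfl
    let p : S.left := IsLocalRing.closedPoint (X.left.residueField x₀)
    let c : (PT ⟶ X) × Bool → (S ⟶ X) × Bool := fun q => (toUnit S ≫ q.1, q.2)
    have hc : ∀ l : List ((PT ⟶ X) × Bool), ((l.map c).map val).prod = toUnit S ≫ (l.map val).prod := fun l => by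
      induction l with
      | nil => exact (MonObj.comp_one _).symm
      | cons q l ih =>
        simp only [List.map_cons, List.prod_cons, ih, MonObj.comp_mul, val, c,
          GrpSchLib.WordClosure.comp_sgn]
    let L : List ((S ⟶ X) × Bool) :=
      ((l ⟨a, ha⟩ ++ List.replicate (M - (l ⟨a, ha⟩).length) (x₁, true)).map c) ++ [(ξ, true)]
    have hlen : L.length = M + 1 := by
      have : (l ⟨a, ha⟩).length ≤ M :=
        Finset.le_sup (f := fun b : {b // b ∈ F} => (l b).length) (Finset.mem_attach F ⟨a, ha⟩)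
      simp [L]; omega
    have hprod : (L.map val).prod = ξ ≫ f ≫ T a := by
      have h1 : ((List.replicate (M - (l ⟨a, ha⟩).length) ((x₁, true) : (PT ⟶ X) × Bool)).map val).prod = 1 := by
        rw [List.map_replicate, List.prod_replicate]
        simp [val, GrpSchLib.WordClosure.sgn, hx₁]
      simp only [L, List.map_append, List.prod_append, List.map_cons, List.map_nil, List.prod_cons, List.prod_nil,
        _root_.mul_one, hc, h1, hl, MonObj.comp_one]
      rw [← Category.assoc ξ f (T a), CommSub.PtsSubgroup.comp_translate]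
      simp [val, GrpSchLib.WordClosure.sgn]
    refine ⟨S, p, fun j => (L[(j : ℕ)]'(by omega)).1, fun j => (L[(j : ℕ)]'(by omega)).2, ?_⟩
    have e : (List.ofFn fun j : Fin (M + 1) => val (L[(j : ℕ)]'(by omega))) = L.map val :=
      List.ext_getElem (by simp [hlen]) (fun i h1 h2 => by rw [List.getElem_ofFn, List.getElem_map])
    refine (congrArg (fun q : List (S ⟶ G) => q.prod.left.base p) e).trans ?_
    rw [hprod]
    show (T a).left (f.left (X.left.fromSpecResidueField x₀ p)) = _
    rw [Scheme.fromSpecResidueField_apply]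
  -- the subgroup generated
  obtain ⟨D, strD, d, hd, hdci, hDlft, hDred, hDr⟩ := CommSub.PtsSubgroup.exists_subgroup hZ R hZR
  obtain ⟨f'', hf''⟩ := CommSub.Image.factor_reduced f d ((CommSub.PtsSubgroup.range_subset f hZ fun x =>
    (hZR _).mpr (Subgroup.subset_closure ⟨x, rfl⟩)).trans hDr.ge)
  obtain ⟨j, hj⟩ := hmin D strD d hd hdci ⟨f'', hf''⟩
  obtain ⟨f', hf'⟩ := hf
  have hiZ : Set.range i.left = Z := by
    refine Set.Subset.antisymm ?_ ?_
    · rintro _ ⟨z, rfl⟩
      exact hDr.le ⟨j.left z, by rw [← hj]; rfl⟩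
    · rw [← hDr]
      refine CommSub.PtsSubgroup.range_subset d i.left.isClosedEmbedding.isClosed_range fun x => ?_
      have hx : x ≫ d ∈ R := (hZR _).mp (hDr.le ⟨AGFLib.Gen.cp x, rfl⟩)
      have key : ∀ g ∈ R, ∃ z : PT ⟶ Γ, z ≫ i = g := fun g hg => by
        induction hg using Subgroup.closure_induction with
        | mem g hg =>
          obtain ⟨x, rfl⟩ := hg
          exact ⟨x ≫ f', by rw [Category.assoc, hf']⟩
        | one => exact ⟨1, MonObj.one_comp i⟩
        | mul g g' _ _ hg hg' =>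
          obtain ⟨z, rfl⟩ := hg; obtain ⟨z', rfl⟩ := hg'
          exact ⟨z * z', MonObj.mul_comp z z' i⟩
        | inv g _ hg =>
          obtain ⟨z, rfl⟩ := hg
          exact ⟨z⁻¹, GrpObj.inv_comp z i⟩
      obtain ⟨z, hz⟩ := key _ hx
      exact ⟨AGFLib.Gen.cp z, congrArg AGFLib.Gen.cp hz⟩
  exact ⟨⟨M + 1, Set.ext fun g => ⟨fun hg => hZw g (hiZ.le hg),
    fun ⟨S, p, x, ε, e⟩ => hiZ.ge (e ▸ hwZ _ S p x ε)⟩⟩, F, hiZ⟩
end Groth.Agent.S6077
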