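import Groth.Statements.S6078
import Groth.Agent.CommSub.Generic
-- import your own Groth.Agent.* helpers here

set_option autoImplicit false
set_option backward.isDefEq.respectTransparency false
set_option backward.isDefEq.respectTransparency.types false
set_option synthInstance.maxHeartbeats 200000
set_option maxHeartbeats 1600000
universe u
open CategoryTheory CategoryTheory.Limits MonoidalCategory CartesianMonoidalCategory MonObj GrpObj AlgebraicGeometry
open SGA3

namespace Groth.Agent.S6078

/-- Case (G, H) = H: let S be an integral scheme with generic point η, G an S-group scheme and h : H → G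
a normal subgroup scheme of G, with G and H of finite presentation over S and with smooth generic
fibres G_η, H_η. Suppose that (G_η, H_η) = H_η: the subgroup H_η is contained in every closed
subgroup scheme of G_η through which the morphism G_η ×_{κ(η)} H_η → G_η, (g, x) ↦ g h(x) g⁻¹
h(x)⁻¹, factors (H_η itself is such a subgroup since H is normal). Then there is a nonempty open
subset U of S such that for every s ∈ U the same holds on the fibre at s: H_s is contained in every
closed subgroup scheme of G_s through which G_s ×_{κ(s)} H_s → G_s, (g, x) ↦ g h(x) g⁻¹ h(x)⁻¹,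
factors. -/
theorem result (S : Scheme.{u}) [IsIntegral S] (G H : Over S) [GrpObj G] [GrpObj H]
    [LocallyOfFinitePresentation G.hom] [QuasiCompact G.hom] [QuasiSeparated G.hom]
    [LocallyOfFinitePresentation H.hom] [QuasiCompact H.hom] [QuasiSeparated H.hom]
    (h : H ⟶ G) [IsMonHom h] [IsImmersion h.left] (hN : AlgGrp.IsNormalHom h)
    (hsmG : Smooth (Red.bc (S.fromSpecResidueField (genericPoint S)) G).hom) (hsmH : Smooth (Red.bc (S.fromSpecResidueField (genericPoint S)) H).hom)
    (hgen : (∀ (K : Over (Spec (S.residueField (genericPoint S)))) (_ : GrpObj K) (j : K ⟶ (Red.bc (S.fromSpecResidueField (genericPoint S)) G)), IsMonHom j → IsClosedImmersion j.left →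
        (∃ c : (Red.bc (S.fromSpecResidueField (genericPoint S)) G) ⊗ (Red.bc (S.fromSpecResidueField (genericPoint S)) H) ⟶ K, c ≫ j = (((fst (Red.bc (S.fromSpecResidueField (genericPoint S)) G) (Red.bc (S.fromSpecResidueField (genericPoint S)) H)) * ((snd (Red.bc (S.fromSpecResidueField (genericPoint S)) G) (Red.bc (S.fromSpecResidueField (genericPoint S)) H)) ≫ ((Over.pullback (S.fromSpecResidueField (genericPoint S))).map h)) * (fst (Red.bc (S.fromSpecResidueField (genericPoint S)) G) (Red.bc (S.fromSpecResidueField (genericPoint S)) H))⁻¹ * ((snd (Red.bc (S.fromSpecResidueField (genericPoint S)) G) (Red.bc (S.fromSpecResidueField (genericPoint S)) H)) ≫ ((Over.pullback (S.fromSpecResidueField (genericPoint S))).map h))⁻¹ : (Red.bc (S.fromSpecResidueField (genericPoint S)) G) ⊗ (Red.bc (S.fromSpecResidueField (genericPoint S)) H) ⟶ (Red.bc (S.fromSpecResidueField (genericPoint S)) G)))) → ∃ m : (Red.bc (S.fromSpecResidueField (genericPoint S)) H) ⟶ K, m ≫ j = ((Over.pullback (S.fromSpecResidueField (genericPoint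 S))).map h))) :
    ∃ U : S.Opens, (U : Set S).Nonempty ∧ ∀ s : U,
      (∀ (K : Over (Spec (S.residueField (s : S)))) (_ : GrpObj K) (j : K ⟶ (Red.bc (S.fromSpecResidueField (s : S)) G)), IsMonHom j → IsClosedImmersion j.left →
        (∃ c : (Red.bc (S.fromSpecResidueField (s : S)) G) ⊗ (Red.bc (S.fromSpecResidueField (s : S)) H) ⟶ K, c ≫ j = (((fst (Red.bc (S.fromSpecResidueField (s : S)) G) (Red.bc (S.fromSpecResidueField (s : S)) H)) * ((snd (Red.bc (S.fromSpecResidueField (s : S)) G) (Red.bc (S.fromSpecResidueField (s : S)) H)) ≫ ((Over.pullback (S.fromSpecResidueField (s : S))).map h)) * (fst (Red.bc (S.fromSpecResidueField (s : S)) G) (Red.bc (S.fromSpecResidueField (s : S)) H))⁻¹ * ((snd (Red.bc (S.fromSpecResidueField (s : S)) G) (Red.bc (S.fromSpecResidueField (s : S)) H)) ≫ ((Over.pullback (S.fromSpecResidueField (s : S))).map h))⁻¹ : (Red.bc (S.fromSpecResidueField (s : S)) G) ⊗ (Red.bc (S.fromSpecResidueField (s : S)) H) ⟶ (Red.bc (S.fromSpecResidueField (s : S)) G)))) → ∃ m : (Red.bc (S.fromSpecResidueField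 (s : S)) H) ⟶ K, m ≫ j = ((Over.pullback (S.fromSpecResidueField (s : S))).map h)) := by
  classical
  let ξ := genericPoint S
  let L := AlgebraicClosure (S.residueField ξ)
  let φ : Spec (CommRingCat.of L) ⟶ Spec (S.residueField ξ) :=
    Spec.map (CommRingCat.ofHom (algebraMap (S.residueField ξ) L))
  let ιξ := S.fromSpecResidueField ξ
  let g : Spec (CommRingCat.of L) ⟶ S := φ ≫ ιξ
  let F := Over.pullback g
  let Fη := Over.pullback ιξ
  haveI : Surjective φ := GrpSchLib.surjective_spec_map_field _
  haveI : UniversallyOpen φ := inferInstance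
  have hsm : ∀ X : Over S, Smooth (Red.bc ιξ X).hom → Smooth (Red.bc g X).hom := fun X hX =>
    MorphismProperty.of_isPullback (P := @Smooth) (CommSub.Generic.isPullback_π φ ιξ X) hX
  haveI : IsMonHom (F.map (𝟙 G)) := inferInstance
  haveI : IsMonHom (F.map h) := inferInstance
  haveI : IsImmersion (F.map h).left := MorphismProperty.baseChange_map (P := @IsImmersion) g h inferInstance
  haveI : Mono (F.map h) := (Over.forget _).mono_of_mono_map (show Mono (F.map h).left from inferInstance)
  haveI : Mono (F.map (𝟙 G)) := by rw [CategoryTheory.Functor.map_id]; infer_instance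
  haveI : LocallyOfFiniteType (Red.bc g G).hom := inferInstanceAs (LocallyOfFiniteType (pullback.snd G.hom g))
  haveI : QuasiCompact (Red.bc g G).hom := inferInstanceAs (QuasiCompact (pullback.snd G.hom g))
  haveI : LocallyOfFiniteType (Red.bc g H).hom := inferInstanceAs (LocallyOfFiniteType (pullback.snd H.hom g))
  haveI : QuasiCompact (Red.bc g H).hom := inferInstanceAs (QuasiCompact (pullback.snd H.hom g))
  have hnid : AlgGrp.IsNormalHom (F.map (𝟙 G)) := fun T x n => ⟨x * n * x⁻¹, by simp⟩
  obtain ⟨N, V, hV, hclosed, -⟩ := CommSub.Fibres.exists_word g (𝟙 G) h (F.map (𝟙 G)) (F.map h) rfl rfl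
    (Or.inr ⟨hnid, GrpSchLib.LargestNormalSep.isNormalHom_map g h hN⟩)
  obtain ⟨hlfp, hqc⟩ := CommSub.Fibres.src_lfp (S := S) (A := G) (B := H) (N + 1)
  let W := CommSub.Words.src ((G ⊗ H) ⊗ (G ⊗ H)) (N + 1)
  let Φ : W ⟶ G := CommSub.Words.hom (CommSub.Words.cgen (𝟙 G) h) (N + 1)
  haveI hsW : Smooth (Red.bc g W).hom := CommSub.Fibres.smooth_src g (hsm G hsmG) (hsm H hsmH) (N + 1)
  haveI hsW' : Smooth (Red.bc ιξ W).hom := CommSub.Fibres.smooth_src ιξ hsmG hsmH (N + 1)
  -- the schematic image over the generic point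
  let Gη := Red.bc ιξ G
  let Wη := Red.bc ιξ W
  let Φη : Wη ⟶ Gη := Fη.map Φ
  haveI : QuasiCompact Wη.hom := inferInstanceAs (QuasiCompact (pullback.snd W.hom ιξ))
  haveI : QuasiSeparated Gη.hom := inferInstanceAs (QuasiSeparated (pullback.snd G.hom ιξ))
  haveI : QuasiCompact Φη.left := by
    have : QuasiCompact (Φη.left ≫ Gη.hom) := by rw [Over.w Φη]; infer_instance
    exact QuasiCompact.of_comp Φη.left Gη.hom
  let D : Over (Spec (S.residueField ξ)) := Over.mk (Φη.left.imageι ≫ Gη.hom)
  let d : D ⟶ Gη := Over.homMk Φη.left.imageι rfl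
  let p : Wη ⟶ D := Over.homMk Φη.left.toImage (by
    show Φη.left.toImage ≫ Φη.left.imageι ≫ Gη.hom = Wη.hom
    rw [Scheme.Hom.toImage_imageι_assoc, Over.w Φη])
  have hpd : p ≫ d = Φη := Over.OverMorphism.ext Φη.left.toImage_imageι
  haveI : IsClosedImmersion d.left := inferInstanceAs (IsClosedImmersion Φη.left.imageι)
  haveI : IsSchemeTheoreticallyDominant p.left := RedImage.isSchemeTheoreticallyDominant_toImage Φη.left
  haveI : QuasiCompact p.left := by
    have : QuasiCompact (p.left ≫ d.left) := by rw [← Over.comp_left, hpd]; infer_instance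
    exact QuasiCompact.of_comp p.left d.left
  have hd : Set.range Φη.left ⊆ Set.range d.left := by
    rintro _ ⟨w, rfl⟩
    exact ⟨p.left w, by rw [← hpd]; rfl⟩
  have hdc : Set.range d.left ⊆ closure (Set.range Φη.left) := by
    haveI : IsDominant p.left := inferInstance
    have hcl : IsClosed (d.left ⁻¹' closure (Set.range Φη.left)) := isClosed_closure.preimage d.left.continuous
    rintro _ ⟨x, rfl⟩
    refine (hcl.closure_subset_iff.mpr ?_ (p.left.denseRange x) : x ∈ d.left ⁻¹' closure (Set.range Φη.left))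
    rintro _ ⟨w, rfl⟩
    exact subset_closure ⟨w, by rw [← hpd]; rfl⟩
  -- factorisations through the image
  have hfac : ∀ {X : Over S} (f : X ⟶ G), Smooth (Red.bc ιξ X).hom →
      CommSub.Words.vals (𝟙_ _) (F.map f) ⊆ SetLike.coe V → ∃ v : Red.bc ιξ X ⟶ D, v ≫ d = Fη.map f :=
    fun {X} f hX hf => by
      haveI := hX
      haveI : Smooth (Red.bc g X).hom := hsm X hX
      haveI : IsReduced (Red.bc ιξ X).left := GrpSchLib.isReduced_of_smooth_field (Red.bc ιξ X).hom
      exact CommSub.Image.factor_reduced _ d ((CommSub.Generic.range_subset φ ιξ f Φ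
        (CommSub.Image.range_subset_of_vals (F.map f) (F.map Φ) hclosed (hV ▸ hf))).trans hd)
  haveI : Flat Wη.hom := RedImage.flat_hom (k := ↑(S.residueField ξ)) Wη
  haveI : Flat D.hom := RedImage.flat_hom (k := ↑(S.residueField ξ)) D
  obtain ⟨vone, hvone⟩ := hfac (1 : 𝟙_ (Over S) ⟶ G) (CommSub.Spread.bc_unit_prop ιξ) (by
    rintro _ ⟨x, rfl⟩
    simp only [Functor.map_one, MonObj.comp_one]
    exact one_mem V)
  obtain ⟨vmul, hvmul⟩ := hfac ((fst W W ≫ Φ) * (snd W W ≫ Φ)) (CommSub.Spread.bc_tensor_prop ιξ hsW' hsW') (by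
    rintro _ ⟨x, rfl⟩
    simp only [Functor.map_mul, Functor.map_comp, MonObj.comp_mul]
    exact mul_mem (hV.le ⟨_, Category.assoc _ _ _⟩) (hV.le ⟨_, Category.assoc _ _ _⟩))
  obtain ⟨vinv, hvinv⟩ := hfac Φ⁻¹ hsW' (by
    rintro _ ⟨x, rfl⟩
    simp only [Functor.map_inv', GrpObj.comp_inv]
    exact inv_mem (hV.le ⟨x, rfl⟩))
  obtain ⟨str, hdh⟩ := CommSub.Image.exists_group d p
    ⟨Functor.LaxMonoidal.ε Fη ≫ vone, by
      rw [Category.assoc, hvone, Functor.map_one, MonObj.comp_one, MonObj.one_eq_one]⟩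
    ⟨Functor.LaxMonoidal.μ Fη W W ≫ vmul, by
      rw [Category.assoc, hvmul, hpd, Functor.map_mul, Functor.map_comp, Functor.map_comp, MonObj.comp_mul,
        Functor.Monoidal.μ_fst_assoc, Functor.Monoidal.μ_snd_assoc]⟩
    ⟨vinv, by rw [hvinv, hpd, Functor.map_inv']⟩
  obtain ⟨j, hj⟩ := CommSub.Words.exists_cm_word (𝟙 G) h N
  obtain ⟨m, hm⟩ := hgen D str d hdh inferInstance
    ⟨Functor.LaxMonoidal.μ Fη G H ≫ Fη.map j ≫ p, by
      rw [Category.assoc, Category.assoc, hpd, ← Fη.map_comp, hj, CommSub.Words.μ_map_cm, CommSub.Words.cm,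
        commutatorElement_def, CategoryTheory.Functor.map_id, Category.comp_id]⟩
  -- the image of `H` near the generic point
  have hgenH : ∀ x : H.left, H.hom x = ξ → h.left x ∈ Set.range Φ.left := by
    intro x hx
    have hgpt : g (IsLocalRing.closedPoint L) = ξ := RedOpen.geomPt_closedPoint ξ
    obtain ⟨z, rfl, -⟩ := Scheme.Pullback.exists_preimage_pullback (f := H.hom) (g := g) x
      (IsLocalRing.closedPoint L) (hx.trans hgpt.symm)
    have h1 : CommSub.Generic.π φ ιξ G ((F.map h).left z) ∈ closure (Set.range Φη.left) := by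
      refine hdc ?_
      have : CommSub.Generic.π φ ιξ G ((F.map h).left z) ∈ Set.range (Fη.map h).left := by
        have hz : (F.map h).left z ∈ CommSub.Generic.π φ ιξ G ⁻¹' Set.range (Fη.map h).left :=
          (CommSub.Generic.preimage_π φ ιξ h).ge ⟨z, rfl⟩
        exact hz
      obtain ⟨u, hu⟩ := this
      exact ⟨m.left u, by rw [← hu, ← hm]; rfl⟩
    have h2 : (F.map h).left z ∈ closure (CommSub.Generic.π φ ιξ G ⁻¹' Set.range Φη.left) := by
      haveI := CommSub.Generic.universallyOpen_π φ ιξ G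
      rw [← (CommSub.Generic.π φ ιξ G).isOpenMap.preimage_closure_eq_closure_preimage
        (CommSub.Generic.π φ ιξ G).continuous]
      exact h1
    rw [CommSub.Generic.preimage_π, hclosed.closure_eq, CommSub.Generic.range_map, Set.mem_preimage] at h2
    have h3 : pullback.fst G.hom g ((F.map h).left z) = h.left (pullback.fst H.hom g z) :=
      congrArg (fun m => m z) (GrpSchLib.HomSplitLocal.map_fst h g)
    rw [← h3]
    exact h2
  obtain ⟨U₁, hU₁, hsub⟩ := CommSub.Generic.exists_open_range_subset h Φ hgenH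
  haveI : Smooth (H.hom.fiberToSpecResidueField ξ) := hsmH
  haveI : GeometricallyReduced (H.hom.fiberToSpecResidueField ξ) :=
    GrpSchLib.geometricallyReduced_of_smooth (K := ↑(S.residueField ξ)) _
  obtain ⟨U₂, hU₂, hred⟩ := S0434.result H.hom ‹_›
  have hξU₂ : ξ ∈ U₂ := ((genericPoint_spec S).mem_open_set_iff U₂.isOpen).mpr (by rw [Set.univ_inter]; exact hU₂)
  refine ⟨U₁ ⊓ U₂, ⟨ξ, hU₁, hξU₂⟩, fun s K strK jK hjK hjKc hc => ?_⟩
  letI := strK
  haveI := hjK
  haveI := hjKc
  obtain ⟨c, hc⟩ := hc
  let Fs := Over.pullback (S.fromSpecResidueField (s : S))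
  haveI : GeometricallyReduced (pullback.snd H.hom (S.fromSpecResidueField (s : S))) :=
    CommSub.Generic.prop_of_range H.hom _ (by
      rw [Scheme.range_fromSpecResidueField]; exact Set.singleton_subset_iff.mpr s.2.2) hred
  haveI : IsReduced (Red.bc (S.fromSpecResidueField (s : S)) H).left :=
    GeometricallyReduced.geometrically_isReduced (f := pullback.snd H.hom (S.fromSpecResidueField (s : S))) (𝟙 _) _ _
      IsPullback.of_id_fst
  obtain ⟨z, hz⟩ := CommSub.Words.exists_lift_words Fs jK (𝟙 G) h (fun T x y => ⟨lift x y ≫ c, by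
    rw [Category.assoc, hc, commutatorElement_def, CategoryTheory.Functor.map_id, Category.comp_id]
    have e1 : lift x y ≫ fst (Red.bc (S.fromSpecResidueField (s : S)) G) (Red.bc (S.fromSpecResidueField (s : S)) H) = x :=
      lift_fst _ _
    have e2 : lift x y ≫ snd (Red.bc (S.fromSpecResidueField (s : S)) G) (Red.bc (S.fromSpecResidueField (s : S)) H) = y :=
      lift_snd _ _
    simp only [MonObj.comp_mul, GrpObj.comp_inv, e1, reassoc_of% e2]
    rfl⟩) (N + 1)
  refine CommSub.Image.factor_reduced _ jK (subset_trans ?_ (show Set.range (Fs.map Φ).left ⊆ _ from ?_))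
  · rw [CommSub.Generic.range_map, CommSub.Generic.range_map]
    intro y hy
    obtain ⟨x, hx⟩ := hy
    show pullback.fst G.hom (S.fromSpecResidueField (s : S)) y ∈ Set.range Φ.left
    rw [← hx]
    refine hsub x ?_
    have : G.hom (h.left x) = (s : S) := by
      rw [hx, ← Scheme.Hom.comp_apply, pullback.condition, Scheme.Hom.comp_apply, Scheme.fromSpecResidueField_apply]
    rw [← Over.w h, Scheme.Hom.comp_apply, this]
    exact s.2.1
  · rw [← hz]
    rintro _ ⟨w, rfl⟩
    exact ⟨z.left w, rfl⟩
end Groth.Agent.S6078
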