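import Groth.Statements.S6079
import Groth.Agent.CommSub.Fibres
-- import your own Groth.Agent.* helpers here

set_option autoImplicit false
set_option backward.isDefEq.respectTransparency false
set_option backward.isDefEq.respectTransparency.types false
set_option synthInstance.maxHeartbeats 200000
set_option maxHeartbeats 1600000
universe u
open CategoryTheory CategoryTheory.Limits MonoidalCategory CartesianMonoidalCategory MonObj GrpObj AlgebraicGeometry
open SGA3

namespace Groth.Agent.S6079

/-- Existence of D' and its fibres: let S be an integral scheme with generic point η, G an S-group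
scheme of finite presentation over S, and a : A → G, b : B → G two subgroup schemes of G
(homomorphisms which are immersions) of finite presentation over S whose generic fibres A_η, B_η are
smooth. Suppose that either (a) A_η is connected, or (b) A and B are normal in G. Then there are a
nonempty open subset U of S and a closed subgroup scheme d : D → G|_U, of finite presentation over U
with smooth fibres, having connected fibres in case (a) and normal in G|_U in case (b), such that
for every s ∈ U the fibre D_s → G_s is the commutator subgroup scheme (A_s, B_s): the smallest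
closed subgroup scheme of G_s through which A_s ×_{κ(s)} B_s → G_s, (x, y) ↦ a(x) b(y) a(x)⁻¹
b(y)⁻¹, factors. (The published statement also asserts that D represents the fppf sheaf associated
to the presheaf of commutator subgroups of A|_U and B|_U in G|_U; that assertion is not stated
here.) -/
theorem result (S : Scheme.{u}) [IsIntegral S] (G A B : Over S) [GrpObj G] [GrpObj A] [GrpObj B]
    [LocallyOfFinitePresentation G.hom] [QuasiCompact G.hom] [QuasiSeparated G.hom]
    [LocallyOfFinitePresentation A.hom] [QuasiCompact A.hom] [QuasiSeparated A.hom]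
    [LocallyOfFinitePresentation B.hom] [QuasiCompact B.hom] [QuasiSeparated B.hom]
    (a : A ⟶ G) [IsMonHom a] [IsImmersion a.left] (b : B ⟶ G) [IsMonHom b] [IsImmersion b.left]
    (hsmA : Smooth (Red.bc (S.fromSpecResidueField (genericPoint S)) A).hom) (hsmB : Smooth (Red.bc (S.fromSpecResidueField (genericPoint S)) B).hom)
    (hcase : ConnectedSpace (Red.bc (S.fromSpecResidueField (genericPoint S)) A).left ∨ (AlgGrp.IsNormalHom a ∧ AlgGrp.IsNormalHom b)) :
    ∃ U : S.Opens, (U : Set S).Nonempty ∧
      ∃ (D : Over (U : Scheme.{u})) (_ : GrpObj D) (d : D ⟶ (Red.bc U.ι G)), IsMonHom d ∧ IsClosedImmersion d.left ∧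
        LocallyOfFinitePresentation D.hom ∧ QuasiCompact D.hom ∧ QuasiSeparated D.hom ∧
        (∀ s : (U : Scheme.{u}), Smooth (D.hom.fiberToSpecResidueField s)) ∧
        (ConnectedSpace (Red.bc (S.fromSpecResidueField (genericPoint S)) A).left → ∀ s : (U : Scheme.{u}), ConnectedSpace (D.hom.fiber s)) ∧
        (AlgGrp.IsNormalHom a ∧ AlgGrp.IsNormalHom b → AlgGrp.IsNormalHom d) ∧
        ∀ s : (U : Scheme.{u}),
          (∃ c : (Red.bc ((U : Scheme.{u}).fromSpecResidueField s) (Red.bc U.ι A)) ⊗ (Red.bc ((U : Scheme.{u}).fromSpecResidueField s) (Red.bc U.ι B)) ⟶ (Red.bc ((U : Scheme.{u}).fromSpecResidueField s) D), c ≫ ((Over.pullback ((U : Scheme.{u}).fromSpecResidueField s)).map d) = (((fst (Red.bc ((U : Scheme.{u}).fromSpecResidueField s) (Red.bc U.ι A)) (Red.bc ((U : Scheme.{u}).fromSpecResidueField s) (Red.bc U.ι B))) ≫ ((Over.pullback ((U : Scheme.{u}).fromSpecResidueField s)).map ((Over.pullback U.ι).map a))) * ((snd (Red.bc ((U : Scheme.{u}).fromSpecResidueField s) (Red.bc U.ι A)) (Red.bc ((U : Scheme.{u}).fromSpecResidueField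 s) (Red.bc U.ι B))) ≫ ((Over.pullback ((U : Scheme.{u}).fromSpecResidueField s)).map ((Over.pullback U.ι).map b))) * ((fst (Red.bc ((U : Scheme.{u}).fromSpecResidueField s) (Red.bc U.ι A)) (Red.bc ((U : Scheme.{u}).fromSpecResidueField s) (Red.bc U.ι B))) ≫ ((Over.pullback ((U : Scheme.{u}).fromSpecResidueField s)).map ((Over.pullback U.ι).map a)))⁻¹ * ((snd (Red.bc ((U : Scheme.{u}).fromSpecResidueField s) (Red.bc U.ι A)) (Red.bc ((U : Scheme.{u}).fromSpecResidueField s) (Red.bc U.ι B))) ≫ ((Over.pullback ((U : Scheme.{u}).fromSpecResidueField s)).map ((Over.pullback U.ι).map b)))⁻¹)) ∧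
          ∀ (Γ' : Over (Spec ((U : Scheme.{u}).residueField s))) (_ : GrpObj Γ') (i' : Γ' ⟶ (Red.bc ((U : Scheme.{u}).fromSpecResidueField s) (Red.bc U.ι G))), IsMonHom i' → IsClosedImmersion i'.left →
            (∃ c' : (Red.bc ((U : Scheme.{u}).fromSpecResidueField s) (Red.bc U.ι A)) ⊗ (Red.bc ((U : Scheme.{u}).fromSpecResidueField s) (Red.bc U.ι B)) ⟶ Γ', c' ≫ i' = (((fst (Red.bc ((U : Scheme.{u}).fromSpecResidueField s) (Red.bc U.ι A)) (Red.bc ((U : Scheme.{u}).fromSpecResidueField s) (Red.bc U.ι B))) ≫ ((Over.pullback ((U : Scheme.{u}).fromSpecResidueField s)).map ((Over.pullback U.ι).map a))) * ((snd (Red.bc ((U : Scheme.{u}).fromSpecResidueField s) (Red.bc U.ι A)) (Red.bc ((U : Scheme.{u}).fromSpecResidueField s) (Red.bc U.ι B))) ≫ ((Over.pullback ((U : Scheme.{u}).fromSpecResidueField s)).map ((Over.pullback U.ι).map b))) * ((fst (Red.bc ((U : Scheme.{u}).fromSpecResidueField s) (Red.bc U.ι A)) (Red.bc ((U : Scheme.{u}).fromSpecResidueField s) (Red.bc U.ι B))) ≫ ((Over.pullback ((U : Scheme.{u}).fromSpecResidueField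 s)).map ((Over.pullback U.ι).map a)))⁻¹ * ((snd (Red.bc ((U : Scheme.{u}).fromSpecResidueField s) (Red.bc U.ι A)) (Red.bc ((U : Scheme.{u}).fromSpecResidueField s) (Red.bc U.ι B))) ≫ ((Over.pullback ((U : Scheme.{u}).fromSpecResidueField s)).map ((Over.pullback U.ι).map b)))⁻¹)) → ∃ j : (Red.bc ((U : Scheme.{u}).fromSpecResidueField s) D) ⟶ Γ', j ≫ i' = ((Over.pullback ((U : Scheme.{u}).fromSpecResidueField s)).map d) := by
  classical
  let ξ := genericPoint S
  let L := AlgebraicClosure (S.residueField ξ)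
  let g : Spec (CommRingCat.of L) ⟶ S := Red.geomPt ξ
  let F := Over.pullback g
  let Fξ := Red.bc (S.fromSpecResidueField ξ)
  let φ : Spec (CommRingCat.of L) ⟶ Spec (S.residueField ξ) :=
    Spec.map (CommRingCat.ofHom (algebraMap (S.residueField ξ) L))
  have hbc : ∀ X : Over S, ∃ e : pullback (pullback.snd X.hom (S.fromSpecResidueField ξ)) φ ≅ (Red.bc g X).left,
      e.hom ≫ (Red.bc g X).hom = pullback.snd _ φ := fun X =>
    ⟨pullbackLeftPullbackSndIso X.hom (S.fromSpecResidueField ξ) φ, pullbackLeftPullbackSndIso_hom_snd _ _ _⟩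
  have hsm : ∀ X : Over S, Smooth (Fξ X).hom → Smooth (Red.bc g X).hom := fun X hX => by
    obtain ⟨e, he⟩ := hbc X
    haveI : Smooth (pullback.snd (pullback.snd X.hom (S.fromSpecResidueField ξ)) φ) :=
      MorphismProperty.pullback_snd (P := @Smooth) _ _ hX
    rw [← Iso.inv_hom_id_assoc e (Red.bc g X).hom, he]
    infer_instance
  have hconnA : ConnectedSpace (Fξ A).left → ConnectedSpace (Red.bc g A).left := fun h => by
    haveI := h
    obtain ⟨e, -⟩ := hbc A
    haveI : ConnectedSpace ↥(pullback (pullback.snd A.hom (S.fromSpecResidueField ξ)) φ) :=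
      GrpSchLib.AntiAffine.connectedSpace_bc (k := ↑(S.residueField ξ)) (Fξ A) (algebraMap (S.residueField ξ) L)
    exact e.hom.homeomorph.surjective.connectedSpace e.hom.homeomorph.continuous
  haveI : IsMonHom (F.map a) := inferInstance
  haveI : IsMonHom (F.map b) := inferInstance
  haveI : IsImmersion (F.map a).left := MorphismProperty.baseChange_map (P := @IsImmersion) g a inferInstance
  haveI : IsImmersion (F.map b).left := MorphismProperty.baseChange_map (P := @IsImmersion) g b inferInstance
  haveI : Mono (F.map a) := (Over.forget _).mono_of_mono_map (show Mono (F.map a).left from inferInstance)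
  haveI : Mono (F.map b) := (Over.forget _).mono_of_mono_map (show Mono (F.map b).left from inferInstance)
  have hcase' : ConnectedSpace (Red.bc g A).left ∨
      (AlgGrp.IsNormalHom (F.map a) ∧ AlgGrp.IsNormalHom (F.map b)) :=
    hcase.imp hconnA fun h => ⟨GrpSchLib.LargestNormalSep.isNormalHom_map g a h.1, GrpSchLib.LargestNormalSep.isNormalHom_map g b h.2⟩
  haveI : LocallyOfFiniteType (Red.bc g A).hom := inferInstanceAs (LocallyOfFiniteType (pullback.snd A.hom g))
  haveI : QuasiCompact (Red.bc g A).hom := inferInstanceAs (QuasiCompact (pullback.snd A.hom g))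
  haveI : LocallyOfFiniteType (Red.bc g B).hom := inferInstanceAs (LocallyOfFiniteType (pullback.snd B.hom g))
  haveI : QuasiCompact (Red.bc g B).hom := inferInstanceAs (QuasiCompact (pullback.snd B.hom g))
  obtain ⟨N, V, hV, hclosed, hpre⟩ := CommSub.Fibres.exists_word g a b (F.map a) (F.map b) rfl rfl hcase'
  obtain ⟨hlfp, hqc⟩ := CommSub.Fibres.src_lfp (S := S) (A := A) (B := B) (N + 1)
  obtain ⟨U, hU, hspread⟩ := CommSub.Spread.exists_spread (CommSub.Words.hom (CommSub.Words.cgen a b) (N + 1))
    (CommSub.Fibres.smooth_src g (hsm A hsmA) (hsm B hsmB) (N + 1)) hclosed V hV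
  obtain ⟨D, str, d, p, hd, hdci, hDlfp, hDqc, hDqs, hDsm, hpd, hp, hnorm, hconn⟩ := hspread U le_rfl hU
  refine ⟨U, hU, D, str, d, hd, hdci, hDlfp, hDqc, hDqs, hDsm, fun h s => hconn (hpre (hconnA h)) s,
    fun h => hnorm ?_, fun s => ⟨?_, fun Γ' strΓ i' hi' hi'c hc' => ?_⟩⟩
  · have hconj : ∀ {X : Over S} [GrpObj X] (x : X ⟶ G), AlgGrp.IsNormalHom x → CommSub.Words.IsConjStable x :=
      fun {X} _ x hx => by
        obtain ⟨q, hq⟩ := hx (G ⊗ X) (fst G X) (snd G X)
        exact ⟨q, hq.symm⟩
    exact ((hconj a h.1).cgen (hconj b h.2)).hom (N + 1)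
  · obtain ⟨j, hj⟩ := CommSub.Words.exists_cm_word a b N
    let FU := Over.pullback U.ι
    let Fs := Over.pullback ((U : Scheme.{u}).fromSpecResidueField s)
    refine ⟨Functor.LaxMonoidal.μ Fs _ _ ≫ Fs.map (Functor.LaxMonoidal.μ FU A B ≫ FU.map j ≫ p), ?_⟩
    rw [Category.assoc, ← Functor.map_comp, Category.assoc, Category.assoc, hpd, ← Functor.map_comp, hj,
      CommSub.Words.μ_map_cm, CommSub.Words.μ_map_cm, CommSub.Words.cm, commutatorElement_def]
  · letI := strΓ
    haveI := hi'
    haveI := hi'c
    haveI := hp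
    haveI := hDsm s
    obtain ⟨c', hc'⟩ := hc'
    refine CommSub.Fibres.minimal a b (N + 1) U.ι d p hpd s Γ' i' fun T x y => ⟨lift x y ≫ c', ?_⟩
    rw [Category.assoc, hc', commutatorElement_def]
    simp only [MonObj.comp_mul, GrpObj.comp_inv, lift_fst_assoc, lift_snd_assoc]
end Groth.Agent.S6079
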