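import Groth.Statements.S6083
import Groth.Agent.UnivOpen.Normal.QFAffineSpace
import Groth.Agent.S12442
-- import your own Groth.Agent.* helpers here

set_option autoImplicit false
universe u
open CategoryTheory CategoryTheory.Limits MonoidalCategory CartesianMonoidalCategory MonObj GrpObj AlgebraicGeometry
open SGA3

namespace Groth.Agent.S6083

/-- Let f : X → S be a morphism locally of finite presentation, s a point of S, x a point of the fibre
X_s = f⁻¹(s), n the local dimension of X_s at x, q : 𝔸^n_S → S the affine n-space over S and u : X →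
𝔸^n_S a locally quasi-finite morphism with u q = f. Suppose that f is universally open at the
generic point z of an irreducible component Z of X_s which contains x and has dimension n. Then u is
universally open at x. -/
theorem result (X S : Scheme.{u}) (f : X ⟶ S) [LocallyOfFinitePresentation f]
    (s : S) (x : X) (hxs : f.base x = s) (n : ℕ)
    (u : X ⟶ 𝔸(ULift.{u} (Fin n); S)) [LocallyQuasiFinite u] (hu : u ≫ (𝔸(ULift.{u} (Fin n); S) ↘ S) = f)
    (Z : Set ↥(f.base ⁻¹' {s})) (hZ : Z ∈ irreducibleComponents ↥(f.base ⁻¹' {s})) (hxZ : x ∈ (Subtype.val '' Z))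
    (z : X) (hz : z ∈ Subtype.val '' Z ∧ Subtype.val '' Z ⊆ closure {z}) (hopen : EGA43.IsUnivOpenAt f z)
    (hdimZ : topologicalKrullDim ↥Z = n) (hdimx : FlatMor.localDim ↥(f.base ⁻¹' {s}) ⟨x, hxs⟩ = n) :
    EGA43.IsUnivOpenAt u x := by
  obtain ⟨hzZ, hZz⟩ := hz
  obtain ⟨z', hz'Z, rfl⟩ := hzZ
  have hZc : IsClosed Z := isClosed_of_mem_irreducibleComponents _ hZ
  have himg : Subtype.val '' Z = closure {z'.1} ∩ f.base ⁻¹' {s} := by
    refine subset_antisymm (fun a ha => ⟨hZz ha, by obtain ⟨a', -, rfl⟩ := ha; exact a'.2⟩) ?_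
    rintro a ⟨ha, has⟩
    refine ⟨⟨a, has⟩, hZc.closure_subset_iff.2 (Set.singleton_subset_iff.2 hz'Z) ?_, rfl⟩
    rw [closure_subtype, Set.image_singleton]
    exact ha
  have hfz : f z'.1 = s := z'.2
  have hzx : z'.1 ⤳ x := specializes_iff_mem_closure.2 (hZz hxZ)
  have hzm : Groth.Agent.FibDim.FibMax f z'.1 := by
    intro w hw hfw
    let w' : ↥(f.base ⁻¹' {s}) := ⟨w, hfw.trans hfz⟩
    have h1 : Z ⊆ closure {w'} := by
      intro a ha
      rw [closure_subtype, Set.image_singleton]
      exact closure_minimal (Set.singleton_subset_iff.2 (specializes_iff_mem_closure.1 hw)) isClosed_closure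
        (hZz ⟨a, ha, rfl⟩)
    have h2 : closure {w'} ⊆ Z := hZ.2 isIrreducible_singleton.closure h1
    have h3 : z'.1 ⤳ w := specializes_iff_mem_closure.2 (hZz ⟨w', h2 (subset_closure rfl), rfl⟩)
    exact (hw.antisymm h3).eq
  have hzr : Groth.Agent.FibDim.rd f z'.1 = n := by
    have h1 := Groth.Agent.FibDim.dim_closure_inter f z'.1
    rw [hfz] at h1
    rw [((Topology.IsEmbedding.subtypeVal.homeomorphImage Z).trans
      (Homeomorph.setCongr himg)).isHomeomorph.topologicalKrullDim_eq, h1] at hdimZ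
    exact_mod_cast hdimZ
  haveI : LocallyOfFinitePresentation (u ≫ (𝔸(ULift.{u} (Fin n); S) ↘ S)) := by rw [hu]; infer_instance
  have : LocallyOfFiniteType u :=
    locallyOfFiniteType_of_comp u (𝔸(ULift.{u} (Fin n); S) ↘ S)
  have : LocallyOfFinitePresentation u :=
    Groth.Agent.S12442.locallyOfFinitePresentation_of_comp u (𝔸(ULift.{u} (Fin n); S) ↘ S)
  exact Groth.Agent.UnivOpen.isUnivOpenAt_affineSpace_of_generic u hu hzx (hfz.trans hxs.symm) hzm hzr hopen

end Groth.Agent.S6083
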