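import Groth.Statements.S6084
import Groth.Agent.SrcDescent.SchemeFppf
import Mathlib.AlgebraicGeometry.ZariskisMainTheorem
-- import your own Groth.Agent.* helpers here

set_option autoImplicit false
universe u
open CategoryTheory CategoryTheory.Limits MonoidalCategory CartesianMonoidalCategory MonObj GrpObj AlgebraicGeometry
open SGA3

namespace Groth.Agent.S6084

theorem isIso_residueFieldMap_of_section {Y Z : Scheme.{u}} (s : Z ⟶ Y) (f : Y ⟶ Z) (h : s ≫ f = 𝟙 Z) (z : Z) :
    IsIso (f.residueFieldMap (s z)) := by
  have e := Scheme.residueFieldMap_comp s f z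
  haveI : IsIso (f.residueFieldMap (s z) ≫ s.residueFieldMap z) := by
    rw [← e, Scheme.Hom.residueFieldMap_congr h, Scheme.residueFieldMap_id]
    exact IsIso.comp_isIso' (Iso.isIso_hom _) (IsIso.id _)
  haveI : IsIso (s.residueFieldMap z) := by
    refine (ConcreteCategory.isIso_iff_bijective _).mpr ⟨RingHom.injective _, fun y => ?_⟩
    obtain ⟨x, hx⟩ := (ConcreteCategory.bijective_of_isIso (f.residueFieldMap (s z) ≫ s.residueFieldMap z)).2 y
    exact ⟨_, hx⟩
  exact IsIso.of_isIso_comp_right (f.residueFieldMap (s z)) (s.residueFieldMap z)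

/-- Let k be a perfect field, G a group scheme locally of finite type over k and u : F → G a
homomorphism of k-group schemes which is a closed immersion and surjective on underlying spaces,
with F reduced (so F is G_red with its group structure). Let p : G → X be a k-morphism which is
flat, surjective and locally of finite presentation and makes the square formed by (f, g) ↦ u(f) ·
g, the second projection F ×_k G → G and p (twice) cartesian (X is the quotient of G by F acting by
left translations). Then X is the spectrum of a finite local k-algebra with residue field k: X is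
affine, its underlying space is a single point at which the structure morphism induces an
isomorphism of residue fields, and the ring of global sections of X is finite over k. -/
theorem result (k : Type u) [Field k] [PerfectField k]
    (F G : Over (Spec (CommRingCat.of k))) [GrpObj F] [GrpObj G] [LocallyOfFiniteType G.hom] [IsReduced F.left]
    (u : F ⟶ G) [IsMonHom u] [IsClosedImmersion u.left] [Surjective u.left]
    (X : Over (Spec (CommRingCat.of k))) (p : G ⟶ X) [Flat p.left] [Surjective p.left] [LocallyOfFinitePresentation p.left]
    (hp : IsPullback ((u ▷ G) ≫ μ[G]) (snd F G) p p) :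
    IsAffine X.left ∧ (∃ x : X.left, (Set.univ : Set X.left) = {x} ∧ IsIso (X.hom.residueFieldMap x)) ∧
      ((Scheme.ΓSpecIso (CommRingCat.of k)).inv ≫ X.hom.appTop).hom.Finite := by
  classical
  let e := p.left (η[G].left (IsLocalRing.closedPoint k))
  have hsub : ∀ x : X.left, x = e := by
    intro x
    obtain ⟨g, rfl⟩ := p.left.surjective x
    let P : Over (Spec (CommRingCat.of k)) := Over.mk (G.left.fromSpecResidueField g ≫ G.hom)
    let ξ : P ⟶ G := Over.homMk (G.left.fromSpecResidueField g) rfl
    haveI : Surjective (pullback.fst ξ.left u.left) := MorphismProperty.pullback_fst (P := @Surjective) _ _ ‹_›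
    haveI : IsReduced P.left := inferInstanceAs (IsReduced (Spec (G.left.residueField g)))
    haveI : IsClosedImmersion (pullback.fst ξ.left u.left) := MorphismProperty.pullback_fst (P := @IsClosedImmersion) _ _ ‹_›
    haveI : IsIso (pullback.fst ξ.left u.left) := isIso_of_isClosedImmersion_of_surjective _
    let l : P ⟶ F := Over.homMk (inv (pullback.fst ξ.left u.left) ≫ pullback.snd ξ.left u.left) (by
      rw [← Over.w u, Category.assoc, ← pullback.condition_assoc, IsIso.inv_hom_id_assoc]
      exact Over.w ξ)
    have hl : l ≫ u = ξ := Over.OverMorphism.ext (by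
      show (inv _ ≫ _) ≫ u.left = _
      rw [Category.assoc, ← pullback.condition, IsIso.inv_hom_id_assoc])
    have h1 : lift l (toUnit P ≫ η[G]) ≫ (u ▷ G) ≫ μ[G] = ξ := by
      rw [← Category.assoc, lift_whiskerRight, hl, ← Hom.mul_def, ← Hom.one_def, _root_.mul_one]
    have h2 : ξ ≫ p = (toUnit P ≫ η[G]) ≫ p := by
      rw [← h1, Category.assoc, hp.w, ← Category.assoc, lift_snd]
    have h3 := congrArg (fun q : P ⟶ X => q.left (IsLocalRing.closedPoint (G.left.residueField g))) h2
    refine Eq.trans ?_ (h3.trans ?_)
    · show _ = p.left (G.left.fromSpecResidueField g _)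
      rw [Scheme.fromSpecResidueField_apply]
    · show p.left (η[G].left _) = _
      exact congrArg (fun z => p.left (η[G].left z))
        (@Subsingleton.elim ↥(Spec (CommRingCat.of k)) inferInstance _ _)
  have huniv : (Set.univ : Set X.left) = {e} := Set.eq_singleton_iff_unique_mem.mpr ⟨trivial, fun x _ => hsub x⟩
  haveI : IsAffine X.left := by
    obtain ⟨U, hU, heU, -⟩ := exists_isAffineOpen_mem_and_subset (show e ∈ (⊤ : X.left.Opens) from trivial)
    have hUtop : U = ⊤ := top_unique fun x _ => (hsub x).symm ▸ heU
    haveI : IsAffine (U : Scheme.{u}) := hU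
    haveI : Surjective U.ι := ⟨fun x => ⟨⟨x, hUtop ▸ trivial⟩, rfl⟩⟩
    haveI : IsIso U.ι := isIso_of_isOpenImmersion_of_opensRange_eq_top U.ι (by rw [Scheme.Opens.opensRange_ι, hUtop])
    exact IsAffine.of_isIso (CategoryTheory.inv U.ι)
  haveI : LocallyOfFiniteType (p.left ≫ X.hom) := by rw [Over.w p]; infer_instance
  haveI : LocallyOfFiniteType X.hom := SrcDescent.locallyOfFiniteType_of_fppf_comp p.left X.hom
  haveI : IsAffineHom X.hom := isAffineHom_of_isAffine X.hom
  haveI : LocallyQuasiFinite X.hom := locallyQuasiFinite_iff_finite_preimage_singleton.mpr fun s =>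
    ((Set.finite_singleton e).subset fun x _ => hsub x)
  haveI : IsFinite X.hom := IsFinite.of_locallyQuasiFinite X.hom
  refine ⟨inferInstance, ⟨e, huniv, ?_⟩, ?_⟩
  · let c : X.left := (η[G] ≫ p).left (IsLocalRing.closedPoint k)
    have hc : c = e := hsub c
    rw [← hc]
    exact isIso_residueFieldMap_of_section (η[G] ≫ p).left X.hom (Over.w (η[G] ≫ p)) _
  · have h := (IsFinite.SpecMap_iff _).mp (show IsFinite (Spec.map (X.hom.appTop)) from by
      rw [show Spec.map X.hom.appTop = X.left.isoSpec.inv ≫ X.hom ≫ (Spec (CommRingCat.of k)).isoSpec.hom by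
        rw [← Category.assoc, ← Scheme.isoSpec_inv_naturality, Category.assoc, Iso.inv_hom_id, Category.comp_id]]
      infer_instance)
    exact RingHom.Finite.comp h (RingHom.Finite.of_surjective _
      (Scheme.ΓSpecIso (CommRingCat.of k)).symm.commRingCatIsoToRingEquiv.surjective)

end Groth.Agent.S6084
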