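import Groth.Statements.S6086
import Groth.Agent.GrpLimLib.Basic

set_option autoImplicit false
universe u
open CategoryTheory CategoryTheory.Limits MonoidalCategory CartesianMonoidalCategory MonObj GrpObj AlgebraicGeometry
open SGA3

namespace Groth.Agent.S6086

section
variable {S S' : Scheme.{u}} (f : S' ⟶ S) (G : Over S)

instance quasiCompact_bc [QuasiCompact G.hom] : QuasiCompact (Red.bc f G).hom :=
  inferInstanceAs (QuasiCompact (pullback.snd G.hom f))

instance quasiSeparated_bc [QuasiSeparated G.hom] : QuasiSeparated (Red.bc f G).hom :=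
  inferInstanceAs (QuasiSeparated (pullback.snd G.hom f))

instance locallyOfFiniteType_bc [LocallyOfFiniteType G.hom] : LocallyOfFiniteType (Red.bc f G).hom :=
  inferInstanceAs (LocallyOfFiniteType (pullback.snd G.hom f))

end

/-- Let S be the limit of a cofiltered system (S_i) of quasi-compact quasi-separated schemes with affine
transition morphisms, j an index and G_j, H_j two S_j-group schemes of finite presentation over S_j;
for i over j write G_i, H_i for the base changes to S_i and G, H for the base changes to S. Then the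
canonical map colim_i Hom_{S_i-gr}(G_i, H_i) → Hom_{S-gr}(G, H) is bijective: (surjectivity) every
homomorphism u : G → H of S-group schemes is, up to the canonical identifications (G_i) ×_{S_i} S ≅
G and (H_i) ×_{S_i} S ≅ H, the base change of a homomorphism u_i : G_i → H_i for some index i over
j; (injectivity) two homomorphisms G_i → H_i whose base changes to S coincide already coincide after
base change to S_{i'} for some index i' over i. (The published setting takes all S_i affine over a
fixed quasi-compact quasi-separated S_0; this row allows any cofiltered system of quasi-compact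
quasi-separated schemes with affine transition morphisms.) -/
theorem result {I : Type u} [SmallCategory I] [IsCofiltered I]
    (D : I ⥤ Scheme.{u}) (c : Limits.Cone D) (hc : Limits.IsLimit c)
    [∀ (i i' : I) (f : i ⟶ i'), IsAffineHom (D.map f)] [∀ i, CompactSpace (D.obj i)] [∀ i, QuasiSeparatedSpace (D.obj i)]
    (j : I) (Gj Hj : Over (D.obj j)) [GrpObj Gj] [GrpObj Hj]
    [LocallyOfFinitePresentation Gj.hom] [QuasiCompact Gj.hom] [QuasiSeparated Gj.hom]
    [LocallyOfFinitePresentation Hj.hom] [QuasiCompact Hj.hom] [QuasiSeparated Hj.hom] :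
    (∀ (u : Red.bc (c.π.app j) Gj ⟶ Red.bc (c.π.app j) Hj), IsMonHom u →
      ∃ (i : I) (f : i ⟶ j) (ui : Red.bc (D.map f) Gj ⟶ Red.bc (D.map f) Hj), IsMonHom ui ∧
        (Over.pullback (c.π.app i)).map ui = (((Over.pullbackComp (c.π.app i) (D.map f)).app Gj).symm ≪≫ eqToIso (congrArg (fun g => Red.bc g Gj) (c.w f))).hom ≫ u ≫ (((Over.pullbackComp (c.π.app i) (D.map f)).app Hj).symm ≪≫ eqToIso (congrArg (fun g => Red.bc g Hj) (c.w f))).inv) ∧
    (∀ (i : I) (f : i ⟶ j) (u₁ u₂ : Red.bc (D.map f) Gj ⟶ Red.bc (D.map f) Hj), IsMonHom u₁ → IsMonHom u₂ →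
      (Over.pullback (c.π.app i)).map u₁ = (Over.pullback (c.π.app i)).map u₂ →
      ∃ (i' : I) (g : i' ⟶ i), (Over.pullback (D.map g)).map u₁ = (Over.pullback (D.map g)).map u₂) := by
  refine ⟨fun u hu => ?_, fun i f u₁ u₂ _ _ h => GrpLimLib.exists_map_eq D hc u₁ u₂ h⟩
  haveI := hu
  obtain ⟨i, f, ui, hi⟩ := GrpLimLib.exists_map_fst_eq D hc u
  have hmon : IsMonHom ((Over.pullback (c.π.app i)).map ui) := by
    rw [hi]; infer_instance
  haveI : QuasiCompact (Red.bc (D.map f) Gj ⊗ Red.bc (D.map f) Gj).hom :=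
    inferInstanceAs (QuasiCompact (pullback.fst (Red.bc (D.map f) Gj).hom (Red.bc (D.map f) Gj).hom ≫ (Red.bc (D.map f) Gj).hom))
  haveI : QuasiSeparated (Red.bc (D.map f) Gj ⊗ Red.bc (D.map f) Gj).hom :=
    inferInstanceAs (QuasiSeparated (pullback.fst (Red.bc (D.map f) Gj).hom (Red.bc (D.map f) Gj).hom ≫ (Red.bc (D.map f) Gj).hom))
  haveI : LocallyOfFiniteType (Red.bc (D.map f) Hj).hom :=
    inferInstanceAs (LocallyOfFiniteType (pullback.snd Hj.hom (D.map f)))
  obtain ⟨i', g, hg⟩ := GrpLimLib.exists_map_eq D hc (μ[Red.bc (D.map f) Gj] ≫ ui)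
    ((ui ⊗ₘ ui) ≫ μ[Red.bc (D.map f) Hj]) ((GrpLimLib.isMonHom_map_iff ui).mp hmon)
  have hmon' : IsMonHom ((Over.pullback (D.map g)).map ui) := (GrpLimLib.isMonHom_map_iff ui).mpr hg
  have eg : D.map g ≫ D.map f = D.map (g ≫ f) := (D.map_comp g f).symm
  refine ⟨i', g ≫ f, (GrpLimLib.cmp eg Gj).inv ≫ (Over.pullback (D.map g)).map ui ≫ (GrpLimLib.cmp eg Hj).hom,
    inferInstance, ?_⟩
  show _ = (GrpLimLib.cmp (c.w (g ≫ f)) Gj).hom ≫ u ≫ (GrpLimLib.cmp (c.w (g ≫ f)) Hj).inv
  apply GrpLimLib.hom_ext₂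
  have q : pullback.fst (Red.bc (D.map (g ≫ f)) Gj).hom (c.π.app i') ≫ (GrpLimLib.cmp eg Gj).inv.left ≫
      pullback.fst (Red.bc (D.map f) Gj).hom (D.map g) =
      ((GrpLimLib.cmp (c.w (g ≫ f)) Gj).hom ≫ (GrpLimLib.cmp (c.w f) Gj).inv).left ≫
        pullback.fst (Red.bc (D.map f) Gj).hom (c.π.app i) := by
    refine pullback.hom_ext ?_ ?_
    · simp only [Category.assoc, Over.comp_left]
      have e1 := GrpLimLib.cmp_inv_fst eg Gj
      have e2 := GrpLimLib.cmp_inv_fst (c.w f) Gj
      simp only [GrpLimLib.pr] at e1 e2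
      rw [e1, e2, GrpLimLib.cmp_hom_fst]
    · simp only [Category.assoc, Over.comp_left]
      rw [show pullback.fst (Red.bc (D.map f) Gj).hom (D.map g) ≫ pullback.snd Gj.hom (D.map f) =
          (Red.bc (D.map g) (Red.bc (D.map f) Gj)).hom ≫ D.map g from pullback.condition,
        show pullback.fst (Red.bc (D.map f) Gj).hom (c.π.app i) ≫ pullback.snd Gj.hom (D.map f) =
          (Red.bc (c.π.app i) (Red.bc (D.map f) Gj)).hom ≫ c.π.app i from pullback.condition]
      rw [reassoc_of% (Over.w (GrpLimLib.cmp eg Gj).inv), reassoc_of% (Over.w (GrpLimLib.cmp (c.w f) Gj).inv),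
        reassoc_of% (Over.w (GrpLimLib.cmp (c.w (g ≫ f)) Gj).hom)]
      refine (pullback.condition_assoc (f := (Red.bc (D.map (g ≫ f)) Gj).hom) (g := c.π.app i') (D.map g)).trans ?_
      exact congrArg (_ ≫ ·) (c.w g)
  have hL := congrArg (fun m => m.left ≫ GrpLimLib.pr (D.map f) (c.π.app i) Hj) hi
  simp only [Over.comp_left, Category.assoc, GrpLimLib.cmp_inv_fst, GrpLimLib.pr,
    reassoc_of% (GrpLimLib.map_left_fst (h := c.π.app i) ui)] at hL
  simp only [Over.comp_left, Category.assoc, GrpLimLib.cmp_inv_fst, GrpLimLib.pr, GrpLimLib.map_left_fst,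
    reassoc_of% (GrpLimLib.map_left_fst (h := c.π.app i') ((GrpLimLib.cmp eg Gj).inv ≫ (Over.pullback (D.map g)).map ui ≫ (GrpLimLib.cmp eg Hj).hom)),
    GrpLimLib.cmp_hom_fst, reassoc_of% (GrpLimLib.map_left_fst (h := D.map g) ui)]
  rw [reassoc_of% q, Over.comp_left, Category.assoc, hL]
  simp [← Over.comp_left_assoc]

end Groth.Agent.S6086
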