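import Groth.Statements.S6088
import Groth.Agent.GrpLimLib.NormalMono
import Groth.Agent.AlgSpPts.Sep
-- import your own Groth.Agent.* helpers here

set_option autoImplicit false
universe u
open CategoryTheory CategoryTheory.Limits MonoidalCategory CartesianMonoidalCategory MonObj GrpObj AlgebraicGeometry
open SGA3

namespace Groth.Agent.S6088

/-- Let S be the limit of a cofiltered system (S_i) of quasi-compact quasi-separated schemes with affine
transition morphisms, j an index and u_j : H_j → G_j a homomorphism of S_j-group schemes of finite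
presentation over S_j; write u and u_i for its base changes to S and to S_i. Then u is a
monomorphism with H normal in G (for every S-scheme T, conjugates of T-points of H by T-points of G
are T-points of H) if and only if there is an index i over j such that u_i is a monomorphism with
H_i normal in G_i; and u is a monomorphism with H central in G (every T-point of H commutes with
every T-point of G) if and only if there is an index i over j with the same property for u_i. (The
published statement starts from a homomorphism u of S-groups of finite presentation and first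
descends it to some u_j; this row starts from u_j. The published setting takes all S_i affine over a
fixed quasi-compact quasi-separated S_0.) -/
theorem result {I : Type u} [SmallCategory I] [IsCofiltered I]
    (D : I ⥤ Scheme.{u}) (c : Limits.Cone D) (hc : Limits.IsLimit c)
    [∀ (i i' : I) (f : i ⟶ i'), IsAffineHom (D.map f)] [∀ i, CompactSpace (D.obj i)] [∀ i, QuasiSeparatedSpace (D.obj i)]
    (j : I) (Gj Hj : Over (D.obj j)) [GrpObj Gj] [GrpObj Hj]
    [LocallyOfFinitePresentation Gj.hom] [QuasiCompact Gj.hom] [QuasiSeparated Gj.hom]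
    [LocallyOfFinitePresentation Hj.hom] [QuasiCompact Hj.hom] [QuasiSeparated Hj.hom]
    (uj : Hj ⟶ Gj) [IsMonHom uj] :
    ((Mono ((Over.pullback (c.π.app j)).map uj) ∧ AlgGrp.IsNormalHom ((Over.pullback (c.π.app j)).map uj)) ↔
      ∃ (i : I) (f : i ⟶ j), Mono ((Over.pullback (D.map f)).map uj) ∧ AlgGrp.IsNormalHom ((Over.pullback (D.map f)).map uj)) ∧
    ((Mono ((Over.pullback (c.π.app j)).map uj) ∧ (∀ (T : Over c.pt) (g : T ⟶ (Red.bc (c.π.app j) Gj)) (n : T ⟶ (Red.bc (c.π.app j) Hj)), g * (n ≫ ((Over.pullback (c.π.app j)).map uj)) = (n ≫ ((Over.pullback (c.π.app j)).map uj)) * g)) ↔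
      ∃ (i : I) (f : i ⟶ j), Mono ((Over.pullback (D.map f)).map uj) ∧ (∀ (T : Over (D.obj i)) (g : T ⟶ (Red.bc (D.map f) Gj)) (n : T ⟶ (Red.bc (D.map f) Hj)), g * (n ≫ ((Over.pullback (D.map f)).map uj)) = (n ≫ ((Over.pullback (D.map f)).map uj)) * g)) := by
  haveI : LocallyOfFinitePresentation uj.left :=
    haveI : LocallyOfFinitePresentation (uj.left ≫ Gj.hom) := by rw [Over.w uj]; infer_instance
    AlgSpPts.locallyOfFinitePresentation_of_comp uj.left Gj.hom
  haveI : QuasiCompact (Gj ⊗ Hj).hom :=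
    inferInstanceAs (QuasiCompact (Limits.pullback.fst Gj.hom Hj.hom ≫ Gj.hom))
  haveI : QuasiSeparated (Gj ⊗ Hj).hom :=
    inferInstanceAs (QuasiSeparated (Limits.pullback.fst Gj.hom Hj.hom ≫ Gj.hom))
  haveI : QuasiCompact uj.left := by
    haveI : QuasiCompact (uj.left ≫ Gj.hom) := by rw [Over.w uj]; infer_instance
    exact QuasiCompact.of_comp uj.left Gj.hom
  haveI : QuasiSeparated uj.left := by
    haveI : QuasiSeparated (uj.left ≫ Gj.hom) := by rw [Over.w uj]; infer_instance
    exact QuasiSeparated.of_comp uj.left Gj.hom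
  haveI : QuasiCompact (GrpLimLib.kerPair uj).hom :=
    inferInstanceAs (QuasiCompact (Limits.pullback.fst uj.left uj.left ≫ Hj.hom))
  haveI : QuasiSeparated (GrpLimLib.kerPair uj).hom :=
    inferInstanceAs (QuasiSeparated (Limits.pullback.fst uj.left uj.left ≫ Hj.hom))
  simp only [GrpLimLib.normal_map_iff, GrpLimLib.mono_map_iff, GrpLimLib.central_map_iff]
  refine ⟨⟨?_, ?_⟩, ⟨?_, ?_⟩⟩
  · rintro ⟨hm, v, hv⟩
    obtain ⟨i₁, f₁, hf₁⟩ := GrpLimLib.exists_map_eq D hc _ _ hm
    obtain ⟨i₂, f₂, hf₂⟩ := GrpLimLib.exists_lifts D hc uj.left (GrpLimLib.conjMor uj).left v hv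
    obtain ⟨i, f, g₁, g₂, rfl, e₂⟩ := GrpLimLib.exists_common f₁ f₂
    refine ⟨i, g₁ ≫ f₁, ?_, ?_⟩
    · rw [D.map_comp]; exact GrpLimLib.map_eq_of_comp _ _ hf₁
    · rw [← e₂, D.map_comp]; exact GrpLimLib.Lifts.comp _ _ _ hf₂
  · rintro ⟨i, f, hm, hn⟩
    rw [← c.w f]
    exact ⟨GrpLimLib.map_eq_of_comp _ _ hm, GrpLimLib.Lifts.comp _ _ _ hn⟩
  · rintro ⟨hm, he⟩
    obtain ⟨i₁, f₁, hf₁⟩ := GrpLimLib.exists_map_eq D hc _ _ hm
    obtain ⟨i₂, f₂, hf₂⟩ := GrpLimLib.exists_map_eq D hc _ _ he
    obtain ⟨i, f, g₁, g₂, rfl, e₂⟩ := GrpLimLib.exists_common f₁ f₂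
    refine ⟨i, g₁ ≫ f₁, ?_, ?_⟩
    · rw [D.map_comp]; exact GrpLimLib.map_eq_of_comp _ _ hf₁
    · rw [← e₂, D.map_comp]; exact GrpLimLib.map_eq_of_comp _ _ hf₂
  · rintro ⟨i, f, hm, he⟩
    rw [← c.w f]
    exact ⟨GrpLimLib.map_eq_of_comp _ _ hm, GrpLimLib.map_eq_of_comp _ _ he⟩

end Groth.Agent.S6088
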