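import Groth.Statements.S6090
import Groth.Agent.CommSub.Derived
-- import your own Groth.Agent.* helpers here

set_option autoImplicit false
set_option backward.isDefEq.respectTransparency false
set_option backward.isDefEq.respectTransparency.types false
set_option synthInstance.maxHeartbeats 200000
set_option maxHeartbeats 1600000
universe u
open CategoryTheory CategoryTheory.Limits MonoidalCategory CartesianMonoidalCategory MonObj GrpObj AlgebraicGeometry
open SGA3

namespace Groth.Agent.S6090

/-- Let S be an integral scheme, G an S-group scheme of finite presentation over S all of whose fibres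
are smooth, and n ≥ 1 an integer. Then there are a nonempty open subset U of S and a normal closed
subgroup scheme d : D → G|_U, of finite presentation over U with smooth fibres, such that for every
s ∈ U the fibre D_s → G_s is the n-th derived subgroup scheme of G_s: there are closed subgroup
schemes K⁰, …, Kⁿ of G_s with K⁰ = G_s, each K^p (p ≥ 1) the smallest closed subgroup scheme of G_s
through which K^{p-1} ×_{κ(s)} K^{p-1} → G_s, (x, y) ↦ x y x⁻¹ y⁻¹, factors, and D_s = Kⁿ as
subgroup schemes of G_s. (The published statement also treats the lower central series (G, K^{p-1});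
that variant is not stated here.) -/
theorem result (S : Scheme.{u}) [IsIntegral S] (G : Over S) [GrpObj G]
    [LocallyOfFinitePresentation G.hom] [QuasiCompact G.hom] [QuasiSeparated G.hom]
    (hsm : ∀ s : S, Smooth (G.hom.fiberToSpecResidueField s)) (n : ℕ) (hn : 1 ≤ n) :
    ∃ U : S.Opens, (U : Set S).Nonempty ∧
      ∃ (D : Over (U : Scheme.{u})) (_ : GrpObj D) (d : D ⟶ Red.bc U.ι G), IsMonHom d ∧ IsClosedImmersion d.left ∧
        AlgGrp.IsNormalHom d ∧ LocallyOfFinitePresentation D.hom ∧ QuasiCompact D.hom ∧ QuasiSeparated D.hom ∧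
        (∀ s : (U : Scheme.{u}), Smooth (D.hom.fiberToSpecResidueField s)) ∧
        ∀ s : (U : Scheme.{u}),
          ∃ (K : Fin (n + 1) → Over (Spec ((U : Scheme.{u}).residueField s))) (_ : ∀ p, GrpObj (K p)) (emb : ∀ p, K p ⟶ (Red.bc ((U : Scheme.{u}).fromSpecResidueField s) (Red.bc U.ι G))),
            (∀ p, IsMonHom (emb p) ∧ IsClosedImmersion (emb p).left) ∧ IsIso (emb 0) ∧
            (∀ p : Fin n,
              (∃ c : (K p.castSucc) ⊗ (K p.castSucc) ⟶ (K p.succ), c ≫ emb p.succ = (((fst (K p.castSucc) (K p.castSucc)) ≫ emb p.castSucc) * ((snd (K p.castSucc) (K p.castSucc)) ≫ emb p.castSucc) * ((fst (K p.castSucc) (K p.castSucc)) ≫ emb p.castSucc)⁻¹ * ((snd (K p.castSucc) (K p.castSucc)) ≫ emb p.castSucc)⁻¹)) ∧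
              ∀ (Γ' : Over (Spec ((U : Scheme.{u}).residueField s))) (_ : GrpObj Γ') (i' : Γ' ⟶ (Red.bc ((U : Scheme.{u}).fromSpecResidueField s) (Red.bc U.ι G))), IsMonHom i' → IsClosedImmersion i'.left →
                (∃ c' : (K p.castSucc) ⊗ (K p.castSucc) ⟶ Γ', c' ≫ i' = (((fst (K p.castSucc) (K p.castSucc)) ≫ emb p.castSucc) * ((snd (K p.castSucc) (K p.castSucc)) ≫ emb p.castSucc) * ((fst (K p.castSucc) (K p.castSucc)) ≫ emb p.castSucc)⁻¹ * ((snd (K p.castSucc) (K p.castSucc)) ≫ emb p.castSucc)⁻¹)) → ∃ j : (K p.succ) ⟶ Γ', j ≫ i' = emb p.succ) ∧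
            ∃ e : (Red.bc ((U : Scheme.{u}).fromSpecResidueField s) D) ≅ K (Fin.last n), e.hom ≫ emb (Fin.last n) = ((Over.pullback ((U : Scheme.{u}).fromSpecResidueField s)).map d) := by
  classical
  let ξ := genericPoint S
  have hsmg : Smooth (Red.bc (Red.geomPt ξ) G).hom := by
    haveI := hsm ξ
    let φ : Spec (CommRingCat.of (AlgebraicClosure (S.residueField ξ))) ⟶ Spec (S.residueField ξ) :=
      Spec.map (CommRingCat.ofHom (algebraMap (S.residueField ξ) (AlgebraicClosure (S.residueField ξ))))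
    show Smooth (pullback.snd G.hom (φ ≫ S.fromSpecResidueField ξ))
    rw [← pullbackLeftPullbackSndIso_inv_snd_snd G.hom (S.fromSpecResidueField ξ) φ]
    haveI : Smooth (pullback.snd (pullback.snd G.hom (S.fromSpecResidueField ξ)) φ) :=
      MorphismProperty.pullback_snd (P := @Smooth) _ _ (hsm ξ)
    infer_instance
  let t : ℕ → CommSub.Derived.Stage G := CommSub.Derived.stage hsmg
  have hsp := fun p : ℕ => by
    haveI := (t p).lfp
    haveI := (t p).qc
    exact CommSub.Spread.exists_spread (t p).φ (t p).smooth (t p).closed (t p).V (t p).vals_eq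
  choose U₀ hU₀ hspU using hsp
  let U : S.Opens := Finset.univ.inf fun p : Fin (n + 1) => U₀ p
  have hξ : ∀ V : S.Opens, (V : Set S).Nonempty → ξ ∈ V := fun V hV =>
    ((genericPoint_spec S).mem_open_set_iff V.isOpen).mpr (by rw [Set.univ_inter]; exact hV)
  have hU : (U : Set S).Nonempty :=
    ⟨ξ, Finset.inf_induction (p := fun V : S.Opens => ξ ∈ V) trivial (fun _ h _ h' => ⟨h, h'⟩)
      fun p _ => hξ _ (hU₀ p)⟩
  choose D str d P hd hdci hDlfp hDqc hDqs hDsm hpd hP hnorm hconn using
    fun p : Fin (n + 1) => hspU p U (Finset.inf_le (Finset.mem_univ p)) hU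
  letI := str
  haveI := hd
  haveI := hdci
  haveI := hP
  let FU := Over.pullback U.ι
  refine ⟨U, hU, D (Fin.last n), str _, d (Fin.last n), hd _, hdci _, hnorm _ (t n).conj, hDlfp _, hDqc _, hDqs _,
    hDsm _, fun s => ?_⟩
  let Fs := Over.pullback ((U : Scheme.{u}).fromSpecResidueField s)
  refine ⟨fun p => Fs.obj (D p), fun p => Red.grpObj_bc _ (D p), fun p => Fs.map (d p), fun p => ⟨inferInstance,
    MorphismProperty.baseChange_map (P := @IsClosedImmersion) _ (d p) (hdci p)⟩, ?_, fun p => ⟨?_, ?_⟩,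
    Iso.refl _, Category.id_comp _⟩
  · haveI : Mono (d 0) := H23.AMonExt.mono_of_isClosedImmersion (d 0)
    have e0 : P 0 ≫ d 0 = 𝟙 _ := (hpd 0).trans (FU.map_id G)
    haveI : IsSplitEpi (d 0) := ⟨⟨⟨P 0, e0⟩⟩⟩
    haveI : IsIso (d 0) := isIso_of_mono_of_isSplitEpi (d 0)
    exact Functor.map_isIso Fs (d 0)
  · obtain ⟨N, e, he⟩ := CommSub.Derived.exists_cm hsmg p
    obtain ⟨j, hj⟩ := CommSub.Words.exists_cm_word_self (t p).φ N
    haveI := hDsm p.castSucc s
    haveI : Smooth (Fs.obj (D p.castSucc)).hom := hDsm p.castSucc s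
    haveI : Smooth (Fs.obj (D p.castSucc) ⊗ Fs.obj (D p.castSucc)).hom :=
      inferInstanceAs (Smooth (pullback.fst (Fs.obj (D p.castSucc)).hom (Fs.obj (D p.castSucc)).hom ≫
        (Fs.obj (D p.castSucc)).hom))
    haveI : IsReduced (Fs.obj (D p.castSucc) ⊗ Fs.obj (D p.castSucc)).left :=
      GrpSchLib.isReduced_of_smooth_field (Fs.obj (D p.castSucc) ⊗ Fs.obj (D p.castSucc)).hom
    haveI : IsClosedImmersion (Fs.map (d p.succ)).left :=
      MorphismProperty.baseChange_map (P := @IsClosedImmersion) _ (d p.succ) (hdci _)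
    let q := Fs.map (P p.castSucc)
    haveI : Surjective q.left :=
      MorphismProperty.baseChange_map (P := @Surjective) ((U : Scheme.{u}).fromSpecResidueField s) (P p.castSucc) (hP _)
    haveI := CommSub.Derived.surjective_tensorHom q q
    let w := Functor.LaxMonoidal.μ Fs _ _ ≫ Fs.map (Functor.LaxMonoidal.μ FU (t p).W (t p).W ≫
      FU.map (j ≫ eqToHom e.symm) ≫ P p.succ) ≫ Fs.map (d p.succ)
    have hw : (q ▷ _ ≫ _ ◁ q) ≫ CommSub.Words.cm (Fs.map (d p.castSucc)) (Fs.map (d p.castSucc)) = w := by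
      have he' : (t (p.succ : ℕ)).φ = eqToHom e ≫ _ := he
      have h1 : (FU.map (j ≫ eqToHom e.symm)) ≫ P p.succ ≫ d p.succ = FU.map (CommSub.Words.cm (t p).φ (t p).φ) := by
        rw [hpd, ← Functor.map_comp, he', Category.assoc, eqToHom_trans_assoc, eqToHom_refl,
          Category.id_comp, hj]
      have h2 : w = CommSub.Words.cm (Fs.map (FU.map (t p).φ)) (Fs.map (FU.map (t p).φ)) := by
        simp only [w]
        rw [← Functor.map_comp, Category.assoc, Category.assoc, h1, CommSub.Words.μ_map_cm,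
          CommSub.Words.μ_map_cm]
      rw [h2]
      have h3 : q ≫ Fs.map (d p.castSucc) = Fs.map (FU.map (t p).φ) :=
        (Fs.map_comp _ _).symm.trans (congrArg Fs.map (hpd p.castSucc))
      simp only [CommSub.Words.cm, CommSub.Words.comp_commutator, Category.assoc, whiskerLeft_fst_assoc,
        whiskerRight_fst_assoc, whiskerLeft_snd_assoc, whiskerRight_snd_assoc, h3]
      rfl
    obtain ⟨c, hc⟩ := CommSub.Image.factor_reduced
      (CommSub.Words.cm (Fs.map (d p.castSucc)) (Fs.map (d p.castSucc))) (Fs.map (d p.succ)) (by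
        rintro _ ⟨x, rfl⟩
        obtain ⟨y, rfl⟩ := (q ▷ _ ≫ _ ◁ q).left.surjective x
        rw [← Scheme.Hom.comp_apply, ← Over.comp_left, hw]
        exact ⟨_, rfl⟩)
    exact ⟨c, hc.trans (by rw [CommSub.Words.cm, commutatorElement_def])⟩
  · intro Γ' strΓ i' hi' hi'c hc'
    letI := strΓ
    haveI := hi'
    haveI := hi'c
    obtain ⟨N, e, he⟩ := CommSub.Derived.exists_cm hsmg p
    haveI := hDsm p.succ s
    obtain ⟨c', hc'⟩ := hc'
    let P' := FU.map (eqToHom e.symm) ≫ P p.succ
    haveI : Surjective P'.left := by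
      haveI : Surjective (P p.succ).left := hP _
      rw [Over.comp_left]
      infer_instance
    refine CommSub.Fibres.minimal (t p).φ (t p).φ (N + 1) U.ι (d p.succ) P' ?_ s Γ' i' fun T x y =>
      ⟨lift (x ≫ Fs.map (P p.castSucc)) (y ≫ Fs.map (P p.castSucc)) ≫ c', ?_⟩
    · have he' : (t (p.succ : ℕ)).φ = eqToHom e ≫ _ := he
      rw [Category.assoc, hpd, ← Functor.map_comp, he', eqToHom_trans_assoc, eqToHom_refl,
        Category.id_comp]
    · have h3 : ∀ z : T ⟶ Fs.obj (FU.obj (t p).W),
          (z ≫ Fs.map (P p.castSucc)) ≫ Fs.map (d p.castSucc) = z ≫ Fs.map (FU.map (t p).φ) := fun z => by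
        rw [Category.assoc, ← Functor.map_comp, hpd]
        rfl
      rw [Category.assoc, hc', commutatorElement_def]
      simp only [MonObj.comp_mul, GrpObj.comp_inv, lift_fst_assoc, lift_snd_assoc, h3]
      rfl
end Groth.Agent.S6090
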