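import Groth.Statements.S6092
import Groth.Agent.LimSm.Flat
import Groth.Agent.ConsPropLib.Approx
import Groth.Agent.ConsPropLib.Cores
import Groth.Agent.MorLib.DescendIso
import Groth.Agent.S9218

set_option autoImplicit false
universe u
open CategoryTheory CategoryTheory.Limits MonoidalCategory CartesianMonoidalCategory MonObj GrpObj AlgebraicGeometry
open SGA3

namespace Groth.Agent.S6092

open Groth.Agent.MorLib Groth.Agent.ConsPropLib

/-- The shear map. -/
noncomputable abbrev shear {T : Scheme.{u}} {G X : Over T} (a : G ⊗ X ⟶ X) : G ⊗ X ⟶ X ⊗ X :=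
  lift a (snd G X)

set_option backward.isDefEq.respectTransparency.types false in
/-- The shear of a base change is the base change of the shear. -/
theorem isIso_shear_bc {T T' : Scheme.{u}} (σ : T' ⟶ T) {G X : Over T} (a : G ⊗ X ⟶ X) :
    IsIso (lift (Functor.LaxMonoidal.μ (Over.pullback σ) G X ≫ (Over.pullback σ).map a)
        (snd (Red.bc σ G) (Red.bc σ X))) ↔
      IsIso (pullback.snd (shear a).left (pullback.fst (X ⊗ X).hom σ)) := by
  let F := Over.pullback σ
  have h1 : lift (Functor.LaxMonoidal.μ F G X ≫ F.map a) (snd (F.obj G) (F.obj X)) ≫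
      Functor.LaxMonoidal.μ F X X = Functor.LaxMonoidal.μ F G X ≫ F.map (shear a) := by
    rw [← Functor.Monoidal.lift_μ, ← Category.assoc, comp_lift, Functor.Monoidal.μ_snd]
  have h2 : IsIso (lift (Functor.LaxMonoidal.μ F G X ≫ F.map a) (snd (F.obj G) (F.obj X))) ↔
      IsIso (F.map (shear a)) := by
    rw [← isIso_comp_right_iff _ (Functor.LaxMonoidal.μ F X X), h1, isIso_comp_left_iff]
  refine h2.trans ?_
  have h3 : IsIso (F.map (shear a)) ↔ IsIso (F.map (shear a)).left :=
    ⟨fun h => inferInstanceAs (IsIso ((Over.forget T').map (F.map (shear a)))), fun h =>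
      haveI : IsIso ((Over.forget T').map (F.map (shear a))) := h
      isIso_of_reflects_iso _ (Over.forget T')⟩
  refine h3.trans ?_
  have sq : IsPullback (pullback.fst (G ⊗ X).hom σ) (F.map (shear a)).left (shear a).left
      (pullback.fst (X ⊗ X).hom σ) := by
    refine IsPullback.of_bot ?_ ?_ (IsPullback.of_hasPullback (X ⊗ X).hom σ)
    · show IsPullback _ ((F.map (shear a)).left ≫ (F.obj (X ⊗ X)).hom) ((shear a).left ≫ (X ⊗ X).hom) σ
      rw [Over.w, Over.w]
      exact IsPullback.of_hasPullback (G ⊗ X).hom σ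
    · exact (pullback.lift_fst _ _ _).symm
  exact ⟨fun h => Desc.of_two (MorphismProperty.isomorphisms Scheme.{u}) sq (IsPullback.of_hasPullback _ _) h,
    fun h => Desc.of_two (MorphismProperty.isomorphisms Scheme.{u}) (IsPullback.of_hasPullback _ _) sq h⟩

set_option backward.isDefEq.respectTransparency.types false in
/-- The shear stays invertible after a further base change. -/
theorem isIso_shear_mono {T T' T'' : Scheme.{u}} {σ : T' ⟶ T} {σ' : T'' ⟶ T} (a : T'' ⟶ T') (ha : a ≫ σ = σ')
    {G X : Over T} (m : G ⊗ X ⟶ X)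
    (h : IsIso (pullback.snd (shear m).left (pullback.fst (X ⊗ X).hom σ))) :
    IsIso (pullback.snd (shear m).left (pullback.fst (X ⊗ X).hom σ')) :=
  Desc.of_factor (MorphismProperty.isomorphisms Scheme.{u}) h
    (a := pullback.map (X ⊗ X).hom σ' (X ⊗ X).hom σ (𝟙 _) a (𝟙 _) (by simp) (by simp [ha]))
    ((pullback.lift_fst _ _ _).trans (Category.comp_id _)) (IsPullback.of_hasPullback _ _)

/-- Let S be the limit of a cofiltered system (S_i) of quasi-compact quasi-separated schemes with affine
transition morphisms, j an index, G_j an S_j-group scheme and X_j an S_j-scheme with an action of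
G_j, both of finite presentation over S_j. For a base change G, X (with the base-changed action) say
that X is a G-torsor for the fppf topology when (g, x) ↦ (g · x, x) is an isomorphism G × X → X × X
and the structure morphism of X is covering for the fppf topology: some faithfully flat morphism of
finite presentation Z → (base) factors through X. Then X_j ×_{S_j} S is a torsor under G_j ×_{S_j} S
if and only if there is an index i over j such that X_j ×_{S_j} S_i is a torsor under G_j ×_{S_j}
S_i. (The published statement also treats homogeneous spaces, where (g, x) ↦ (g · x, x) is only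
required to be an fppf covering; that case is not stated. The published setting takes all S_i affine
over a fixed quasi-compact quasi-separated S_0.) -/
theorem result {I : Type u} [SmallCategory I] [IsCofiltered I]
    (D : I ⥤ Scheme.{u}) (c : Limits.Cone D) (hc : Limits.IsLimit c)
    [∀ (i i' : I) (f : i ⟶ i'), IsAffineHom (D.map f)] [∀ i, CompactSpace (D.obj i)] [∀ i, QuasiSeparatedSpace (D.obj i)]
    (j : I) (Gj Xj : Over (D.obj j)) [GrpObj Gj] (act : AlgGrp.Action Gj Xj)
    [LocallyOfFinitePresentation Gj.hom] [QuasiCompact Gj.hom] [QuasiSeparated Gj.hom]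
    [LocallyOfFinitePresentation Xj.hom] [QuasiCompact Xj.hom] [QuasiSeparated Xj.hom] :
    (IsIso (lift (Functor.LaxMonoidal.μ (Over.pullback (c.π.app j)) Gj Xj ≫ (Over.pullback (c.π.app j)).map act.act) (snd (Red.bc (c.π.app j) Gj) (Red.bc (c.π.app j) Xj))) ∧
        ∃ (Z : Scheme.{u}) (v : Z ⟶ c.pt) (w : Z ⟶ (Red.bc (c.π.app j) Xj).left), w ≫ (Red.bc (c.π.app j) Xj).hom = v ∧
          Flat v ∧ Surjective v ∧ LocallyOfFinitePresentation v ∧ QuasiCompact v ∧ QuasiSeparated v) ↔
    ∃ (i : I) (f : i ⟶ j), (IsIso (lift (Functor.LaxMonoidal.μ (Over.pullback (D.map f)) Gj Xj ≫ (Over.pullback (D.map f)).map act.act) (snd (Red.bc (D.map f) Gj) (Red.bc (D.map f) Xj))) ∧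
        ∃ (Z : Scheme.{u}) (v : Z ⟶ (D.obj i)) (w : Z ⟶ (Red.bc (D.map f) Xj).left), w ≫ (Red.bc (D.map f) Xj).hom = v ∧
          Flat v ∧ Surjective v ∧ LocallyOfFinitePresentation v ∧ QuasiCompact v ∧ QuasiSeparated v) := by
  haveI : ∀ {i i' : I} (f : i ⟶ i'), IsAffineHom (D.map f) := fun {i i'} f => inferInstance
  haveI hG : LocallyOfFinitePresentation (Gj ⊗ Xj).hom :=
    inferInstanceAs (LocallyOfFinitePresentation (pullback.fst Gj.hom Xj.hom ≫ Gj.hom))
  haveI hX : LocallyOfFinitePresentation (Xj ⊗ Xj).hom :=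
    inferInstanceAs (LocallyOfFinitePresentation (pullback.fst Xj.hom Xj.hom ≫ Xj.hom))
  haveI : QuasiCompact (Gj ⊗ Xj).hom :=
    inferInstanceAs (QuasiCompact (pullback.fst Gj.hom Xj.hom ≫ Gj.hom))
  haveI : QuasiCompact (Xj ⊗ Xj).hom :=
    inferInstanceAs (QuasiCompact (pullback.fst Xj.hom Xj.hom ≫ Xj.hom))
  haveI : QuasiSeparated (Gj ⊗ Xj).hom :=
    inferInstanceAs (QuasiSeparated (pullback.fst Gj.hom Xj.hom ≫ Gj.hom))
  haveI : QuasiSeparated (Xj ⊗ Xj).hom :=
    inferInstanceAs (QuasiSeparated (pullback.fst Xj.hom Xj.hom ≫ Xj.hom))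
  let θ := shear act.act
  rw [isIso_shear_bc]
  constructor
  · rintro ⟨hiso, Z, v, w, hw, hv1, hv2, hv3, hv4, hv5⟩
    haveI := hv1; haveI := hv2; haveI := hv3; haveI := hv4; haveI := hv5
    haveI : CompactSpace ((Xj ⊗ Xj).left) := QuasiCompact.compactSpace_of_compactSpace (Xj ⊗ Xj).hom
    haveI : LocallyOfFinitePresentation (θ.left ≫ (Xj ⊗ Xj).hom) := by rw [Over.w]; infer_instance
    haveI : QuasiCompact (θ.left ≫ (Xj ⊗ Xj).hom) := by rw [Over.w]; infer_instance
    haveI : QuasiSeparated (θ.left ≫ (Xj ⊗ Xj).hom) := by rw [Over.w]; infer_instance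
    haveI : LocallyOfFinitePresentation θ.left :=
      Groth.Agent.AlgSpPts.locallyOfFinitePresentation_of_comp θ.left (Xj ⊗ Xj).hom
    haveI : QuasiCompact θ.left := QuasiCompact.of_comp θ.left (Xj ⊗ Xj).hom
    haveI : QuasiSeparated θ.left := QuasiSeparated.of_comp θ.left (Xj ⊗ Xj).hom
    haveI : MorphismProperty.RespectsIso (@LocallyOfFinitePresentation : MorphismProperty Scheme.{u}) :=
      MorphismProperty.IsStableUnderBaseChange.respectsIso
    haveI : MorphismProperty.RespectsIso (@Flat : MorphismProperty Scheme.{u}) :=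
      MorphismProperty.IsStableUnderBaseChange.respectsIso
    obtain ⟨i₁, φ₁, X₁, Y₁, f₁, g₁, pY, pX, hY₁, hX₁, hiso₁⟩ := Desc.descend₂ D c hc
      (P := MorphismProperty.isomorphisms Scheme.{u}) (Q := @LocallyOfFinitePresentation) Desc.core_iso
      θ.left (Xj ⊗ Xj).hom inferInstance _ _ _ _ (IsPullback.of_hasPullback (Xj ⊗ Xj).hom (c.π.app j))
      (IsPullback.of_hasPullback θ.left (pullback.fst (Xj ⊗ Xj).hom (c.π.app j))) hiso
    have hstage : IsIso (pullback.snd θ.left (pullback.fst (Xj ⊗ Xj).hom (D.map φ₁))) :=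
      Desc.of_factor (MorphismProperty.isomorphisms Scheme.{u})
        (Desc.of_two (MorphismProperty.isomorphisms Scheme.{u}) hX₁ (IsPullback.of_hasPullback _ _) hiso₁)
        (a := hY₁.lift (pullback.fst _ _) (pullback.snd _ _) pullback.condition) (hY₁.lift_fst _ _ _)
        (IsPullback.of_hasPullback _ _)
    obtain ⟨i₂, Z₂, v₂, qZ, hmZ⟩ := hasModel (D := D) (c := c) hc v
    obtain ⟨a, α, β, -⟩ := IsCofilteredOrEmpty.cone_objs i₁ i₂
    have hmZa := hmZ.pushed β
    haveI := hmZa.lfp; haveI := hmZa.qc; haveI := hmZa.qs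
    obtain ⟨b₁, ψ₁, hflat⟩ := Desc.descend D c hc a (P := @Flat) (Q := @LocallyOfFinitePresentation)
      LimSm.core_flat _ hmZa.lfp (Desc.of_two @Flat hmZa.sq (IsPullback.of_hasPullback _ _) hv1)
    have hmZb := hmZa.pushed ψ₁
    haveI := hmZb.lfp; haveI := hmZb.qc; haveI := hmZb.qs
    obtain ⟨b₂, ψ₂, hsurj⟩ := Desc.descend D c hc b₁ (P := @Surjective) (Q := @LocallyOfFinitePresentation)
      core_surjective _ hmZb.lfp (Desc.of_two @Surjective hmZb.sq (IsPullback.of_hasPullback _ _) hv2)
    have hmZc := hmZb.pushed ψ₂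
    haveI := hmZc.lfp; haveI := hmZc.qc; haveI := hmZc.qs
    haveI := hflat; haveI := hsurj
    have hmX : IsModel (pullback.snd Xj.hom (c.π.app j)) j Xj.hom (pullback.fst Xj.hom (c.π.app j)) :=
      ⟨inferInstance, inferInstance, inferInstance, IsPullback.of_hasPullback _ _⟩
    let φc : b₂ ⟶ j := ψ₂ ≫ ψ₁ ≫ α ≫ φ₁
    have hmXc := hmX.pushed φc
    haveI := hmXc.lfp; haveI := hmXc.qc; haveI := hmXc.qs
    haveI := hmZc.compactSpace; haveI := hmZc.quasiSeparatedSpace
    haveI := hmXc.compactSpace; haveI := hmXc.quasiSeparatedSpace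
    obtain ⟨e, χ, wj, sZ, sX, hwj, -, -, -, -, -⟩ :=
      Groth.Agent.S9218.result D c hc b₂ _ _ _ _ hmZc.sq _ _ hmXc.sq w hw
    refine ⟨e, χ ≫ φc, (isIso_shear_bc _ act.act).2 (isIso_shear_mono (D.map (χ ≫ ψ₂ ≫ ψ₁ ≫ α)) ?_ act.act hstage),
      _, pullback.snd (pullback.snd (pullback.snd (pullback.snd v₂ (D.map β)) (D.map ψ₁)) (D.map ψ₂)) (D.map χ),
      wj ≫ pullback.lift (pullback.fst _ _ ≫ pullback.fst _ _) (pullback.snd _ _) ?_, ?_,
      inferInstance, inferInstance, inferInstance, inferInstance, inferInstance⟩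
    · rw [← D.map_comp]
      simp only [φc, Category.assoc]
    · rw [Category.assoc, pullback.condition, pullback.condition_assoc, ← D.map_comp]
    · show (wj ≫ _) ≫ pullback.snd Xj.hom (D.map (χ ≫ φc)) = _
      rw [Category.assoc, pullback.lift_snd, hwj]
  · rintro ⟨i, f, hiso, Z, v, w, hw, hv1, hv2, hv3, hv4, hv5⟩
    haveI := hv1; haveI := hv2; haveI := hv3; haveI := hv4; haveI := hv5
    refine ⟨isIso_shear_mono (c.π.app i) (c.w f) act.act ((isIso_shear_bc _ act.act).1 hiso),
      pullback v (c.π.app i), pullback.snd v (c.π.app i),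
      pullback.lift (pullback.fst v (c.π.app i) ≫ w ≫ pullback.fst Xj.hom (D.map f)) (pullback.snd _ _) ?_, ?_,
      inferInstance, inferInstance, inferInstance, inferInstance, inferInstance⟩
    · rw [Category.assoc, Category.assoc, pullback.condition]
      have hw' : w ≫ pullback.snd Xj.hom (D.map f) = v := hw
      rw [reassoc_of% hw', pullback.condition_assoc, c.w]
    · show _ ≫ pullback.snd Xj.hom (c.π.app j) = _
      rw [pullback.lift_snd]

end Groth.Agent.S6092
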