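import Groth.Statements.S6094
import Mathlib.LinearAlgebra.GeneralLinearGroup.Basic

set_option autoImplicit false
universe u
open CategoryTheory MonObj GrpObj AlgebraicGeometry
open scoped TensorProduct
open SGA3

namespace Groth.Agent.S6094

section Helpers

open LinearMap

variable {R : Type u} [CommRing R] {A : Type u} [CommRing A] [HopfAlgebra R A]
  {E : Type u} [AddCommGroup E] [Module R E] (δ : E →ₗ[R] E ⊗[R] A)

/-- The image of `x` under a point, read from the coaction. -/
noncomputable def T {B : Type u} [CommRing B] [Algebra R B] (f : A →ₐ[R] B) : E →ₗ[R] B ⊗[R] E :=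
  (TensorProduct.comm R E B).toLinearMap ∘ₗ f.toLinearMap.lTensor E ∘ₗ δ

/-- The action of a point, read from the coaction. -/
noncomputable def act {B : Type u} [CommRing B] [Algebra R B] (f : A →ₐ[R] B) : B ⊗[R] E →ₗ[B] B ⊗[R] E :=
  LinearMap.liftBaseChange B (T δ f)

theorem act_tmul {B : Type u} [CommRing B] [Algebra R B] (f : A →ₐ[R] B) (b : B) (x : E) :
    act δ f (b ⊗ₜ[R] x) = b • T δ f x := LinearMap.liftBaseChange_tmul _ _ _ _

theorem act_T {B : Type u} [CommRing B] [Algebra R B] (f g : A →ₐ[R] B) (x : E) :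
    act δ f (T δ g x) = TensorProduct.comm R E B (LinearMap.lTensor E
      (LinearMap.mul' R B ∘ₗ TensorProduct.map f.toLinearMap g.toLinearMap)
        (TensorProduct.assoc R E A A (δ.rTensor A (δ x)))) := by
  unfold T
  simp only [LinearMap.comp_apply, LinearEquiv.coe_coe]
  induction δ x using TensorProduct.induction_on with
  | zero => simp
  | add p q hp hq => simp only [map_add, hp, hq]
  | tmul y a =>
    simp only [LinearMap.lTensor_tmul, TensorProduct.comm_tmul, act_tmul, LinearMap.rTensor_tmul, T,
      LinearMap.comp_apply, LinearEquiv.coe_coe]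
    induction δ y using TensorProduct.induction_on with
    | zero => simp
    | add p q hp hq => simp only [map_add, smul_add, TensorProduct.add_tmul, hp, hq]
    | tmul z c => simp [TensorProduct.smul_tmul', mul_comm]

theorem conv_toLinearMap {B : Type u} [CommRing B] [Algebra R B] (f g : WithConv (A →ₐ[R] B)) :
    (f * g).ofConv.toLinearMap = LinearMap.mul' R B ∘ₗ TensorProduct.map f.ofConv.toLinearMap g.ofConv.toLinearMap ∘ₗ
      Coalgebra.comul (R := R) := by
  ext a
  rw [AlgHom.convMul_def]
  simp only [LinearMap.comp_apply]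
  show Algebra.TensorProduct.lmul' R (Algebra.TensorProduct.map f.ofConv g.ofConv (Coalgebra.comul (R := R) a)) = _
  induction Coalgebra.comul (R := R) a using TensorProduct.induction_on with
  | zero => simp
  | add p q hp hq => simp only [map_add, hp, hq]
  | tmul p q => simp

variable (hassoc : (TensorProduct.assoc R E A A).toLinearMap ∘ₗ δ.rTensor A ∘ₗ δ =
    (Coalgebra.comul (R := R) (A := A)).lTensor E ∘ₗ δ)
  (hcounit : (Coalgebra.counit (R := R) (A := A)).lTensor E ∘ₗ δ = (TensorProduct.mk R E R).flip 1)

include hassoc in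
theorem act_mul {B : Type u} [CommRing B] [Algebra R B] (f g : WithConv (A →ₐ[R] B)) :
    act δ (f * g).ofConv = act δ f.ofConv ∘ₗ act δ g.ofConv := by
  ext x
  simp only [TensorProduct.AlgebraTensorModule.curry_apply, LinearMap.coe_comp, LinearMap.coe_restrictScalars,
    TensorProduct.curry_apply, Function.comp_apply, act_tmul, one_smul]
  rw [act_T]
  have h := LinearMap.congr_fun hassoc x
  simp only [LinearMap.comp_apply, LinearEquiv.coe_coe] at h
  rw [h, T, conv_toLinearMap]
  simp only [LinearMap.comp_apply, LinearEquiv.coe_coe, ← LinearMap.lTensor_comp_apply, LinearMap.comp_assoc]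

include hcounit in
theorem act_one {B : Type u} [CommRing B] [Algebra R B] :
    act δ (1 : WithConv (A →ₐ[R] B)).ofConv = LinearMap.id := by
  ext x
  simp only [TensorProduct.AlgebraTensorModule.curry_apply, LinearMap.coe_restrictScalars,
    TensorProduct.curry_apply, act_tmul, one_smul, LinearMap.id_apply]
  have e : (1 : WithConv (A →ₐ[R] B)).ofConv.toLinearMap = Algebra.linearMap R B ∘ₗ Coalgebra.counit (R := R) := by
    ext a; simp [AlgHom.convOne_def]
  have h := LinearMap.congr_fun hcounit x
  simp only [LinearMap.comp_apply] at h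
  simp only [T, LinearMap.comp_apply, LinearEquiv.coe_coe, e, LinearMap.lTensor_comp_apply, h]
  simp

theorem Wmap_act {B B' : Type u} [CommRing B] [Algebra R B] [CommRing B'] [Algebra R B'] (φ : B →ₐ[R] B')
    (f : A →ₐ[R] B) (x : B ⊗[R] E) :
    VecGrp.Wmap φ (act δ f x) = act δ (φ.comp f) (VecGrp.Wmap φ x) := by
  induction x using TensorProduct.induction_on with
  | zero => simp
  | add p q hp hq => simp only [map_add, hp, hq]
  | tmul b y =>
    rw [act_tmul, VecGrp.Wmap_smul, VecGrp.Wmap_tmul, act_tmul]
    congr 1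
    simp only [T, LinearMap.comp_apply, LinearEquiv.coe_coe, AlgHom.comp_toLinearMap, LinearMap.lTensor_comp_apply]
    induction (f.toLinearMap.lTensor E) (δ y) using TensorProduct.induction_on with
    | zero => simp
    | add p q hp hq => simp only [map_add, hp, hq]
    | tmul p q => simp

/-- The group scheme of the Hopf algebra. -/
noncomputable abbrev G (R A : Type u) [CommRing R] [CommRing A] [HopfAlgebra R A] : Over (Spec (CommRingCat.of R)) :=
  (Spec (CommRingCat.of A)).asOver (Spec (CommRingCat.of R))

/-- The algebra map of a point. -/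
noncomputable def alg {B : Type u} [CommRing B] [Algebra R B] : (VecGrp.pt R B ⟶ G R A) ≃* WithConv (A →ₐ[R] B) :=
  Spec.mapMulEquiv.symm

theorem alg_ptMap {B B' : Type u} [CommRing B] [Algebra R B] [CommRing B'] [Algebra R B'] (φ : B →ₐ[R] B')
    (g : VecGrp.pt R B ⟶ G R A) : (alg (VecGrp.ptMap φ ≫ g)).ofConv = φ.comp (alg g).ofConv := by
  apply AlgHom.coe_ringHom_injective
  show (Spec.preimage (VecGrp.ptMap φ ≫ g).left).hom = φ.toRingHom.comp (Spec.preimage g.left).hom
  have e : (Spec.preimage (VecGrp.ptMap φ ≫ g).left : CommRingCat.of A ⟶ CommRingCat.of B') =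
      (Spec.preimage g.left : CommRingCat.of A ⟶ CommRingCat.of B) ≫ CommRingCat.ofHom φ.toRingHom := by
    apply Spec.map_injective
    rw [Spec.map_comp, Spec.map_preimage, Spec.map_preimage]
    rfl
  exact congrArg CommRingCat.Hom.hom e

/-- The action of points as a monoid homomorphism. -/
noncomputable def actHom (B : Type u) [CommRing B] [Algebra R B] :
    (VecGrp.pt R B ⟶ G R A) →* Module.End B (B ⊗[R] E) where
  toFun g := act δ (alg g).ofConv
  map_one' := by rw [map_one]; exact act_one δ hcounit
  map_mul' g g' := by rw [map_mul]; exact act_mul δ hassoc _ _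

/-- The module functor of a coaction. -/
noncomputable def gmod : VecGrp.GMod (G R A) E where
  ρ B _ _ := (LinearMap.GeneralLinearGroup.generalLinearEquiv B (B ⊗[R] E)).toMonoidHom.comp
    (actHom δ hassoc hcounit B).toHomUnits
  naturality {B B'} _ _ _ _ φ g x := by
    show VecGrp.Wmap φ (act δ (alg g).ofConv x) = act δ (alg (VecGrp.ptMap φ ≫ g)).ofConv (VecGrp.Wmap φ x)
    rw [alg_ptMap, Wmap_act]

theorem ρ_eq_act (m : VecGrp.GMod (G R A) E)
    (h : ∀ (B : Type u) [CommRing B] [Algebra R B] (g : VecGrp.pt R B ⟶ G R A) (x : E),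
      m.ρ B g ((1 : B) ⊗ₜ[R] x) = T δ (alg g).ofConv x)
    (B : Type u) [CommRing B] [Algebra R B] (g : VecGrp.pt R B ⟶ G R A) :
    (m.ρ B g).toLinearMap = act δ (alg g).ofConv := by
  ext x
  simp [act_tmul, h B g x]

end Helpers

/-- Let R be a commutative ring, A a commutative Hopf algebra over R, G = Spec A the corresponding
affine group scheme over Spec R, and E an R-module. A G-module structure on E (for every R-algebra
B, a natural action of the B-valued points of G on B ⊗_R E by B-linear automorphisms) and a right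
A-comodule structure δ : E → E ⊗_R A are said to correspond when, for every R-algebra B, every
B-valued point g of G with associated algebra map f : A → B and every x ∈ E, the point g sends 1 ⊗ x
to the image of δ(x) under E ⊗_R A → B ⊗_R E, y ⊗ a ↦ f(a) ⊗ y. Then every comodule structure on E
corresponds to exactly one G-module structure, and every G-module structure corresponds to exactly
one R-linear δ : E → E ⊗_R A which is coassociative and counital. -/
theorem result (R : Type u) [CommRing R] (A : Type u) [CommRing A] [HopfAlgebra R A]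
    (E : Type u) [AddCommGroup E] [Module R E] :
    (∀ [HopfRep.Comod R A E], ∃! m : VecGrp.GMod ((Spec (CommRingCat.of A)).asOver (Spec (CommRingCat.of R))) E,
        (∀ (B : Type u) [CommRing B] [Algebra R B] (g : VecGrp.pt R B ⟶ ((Spec (CommRingCat.of A)).asOver (Spec (CommRingCat.of R)))) (x : E),
          m.ρ B g ((1 : B) ⊗ₜ[R] x) =
            (TensorProduct.comm R E B) (LinearMap.lTensor E (Spec.mapMulEquiv.symm g).ofConv.toLinearMap (HopfRep.Comod.coact (k := R) (A := A) x)))) ∧
    (∀ m : VecGrp.GMod ((Spec (CommRingCat.of A)).asOver (Spec (CommRingCat.of R))) E, ∃! δ : E →ₗ[R] E ⊗[R] A,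
        ((TensorProduct.assoc R E A A).toLinearMap ∘ₗ δ.rTensor A ∘ₗ δ =
            (CoalgebraStruct.comul (R := R) (A := A)).lTensor E ∘ₗ δ ∧
          (CoalgebraStruct.counit (R := R) (A := A)).lTensor E ∘ₗ δ = (TensorProduct.mk R E R).flip 1) ∧
        (∀ (B : Type u) [CommRing B] [Algebra R B] (g : VecGrp.pt R B ⟶ ((Spec (CommRingCat.of A)).asOver (Spec (CommRingCat.of R)))) (x : E),
          m.ρ B g ((1 : B) ⊗ₜ[R] x) =
            (TensorProduct.comm R E B) (LinearMap.lTensor E (Spec.mapMulEquiv.symm g).ofConv.toLinearMap (δ x)))) := by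
  refine ⟨fun {c} => ?_, fun m => ?_⟩
  · refine ⟨gmod c.coact c.coassoc c.counit_comp, fun B _ _ g x => ?_, fun m hm => ?_⟩
    · show act c.coact (alg g).ofConv ((1 : B) ⊗ₜ[R] x) = _
      rw [act_tmul, one_smul]
      rfl
    · obtain ⟨ρ, hρ⟩ := m
      simp only [gmod]
      congr 1
      funext B _ _
      refine MonoidHom.ext fun g => LinearEquiv.toLinearMap_injective ?_
      exact ρ_eq_act c.coact ⟨ρ, hρ⟩ hm B g
  · let δ : E →ₗ[R] E ⊗[R] A := (TensorProduct.comm R A E).toLinearMap ∘ₗ
      (m.ρ A (Spec.mapMulEquiv (WithConv.toConv (AlgHom.id R A)))).toLinearMap.restrictScalars R ∘ₗ TensorProduct.mk R A E 1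
    have hT : ∀ (B : Type u) [CommRing B] [Algebra R B] (g : VecGrp.pt R B ⟶ G R A) (x : E),
        m.ρ B g ((1 : B) ⊗ₜ[R] x) = T δ (alg g).ofConv x := fun B _ _ g x => by
      have hg : VecGrp.ptMap (alg g).ofConv ≫ Spec.mapMulEquiv (WithConv.toConv (AlgHom.id R A)) = g := by
        apply (alg (R := R) (A := A) (B := B)).injective
        apply WithConv.ofConv_injective
        rw [alg_ptMap]
        show (alg g).ofConv.comp (Spec.mapMulEquiv.symm (Spec.mapMulEquiv (WithConv.toConv (AlgHom.id R A)))).ofConv = _
        rw [MulEquiv.symm_apply_apply]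
        exact AlgHom.comp_id _
      have h := m.naturality (alg g).ofConv (Spec.mapMulEquiv (WithConv.toConv (AlgHom.id R A))) ((1 : A) ⊗ₜ[R] x)
      rw [hg, VecGrp.Wmap_tmul, map_one] at h
      rw [← h]
      simp only [T, δ, LinearMap.comp_apply, LinearEquiv.coe_coe, TensorProduct.mk_apply, LinearMap.restrictScalars_apply]
      induction m.ρ A (Spec.mapMulEquiv (WithConv.toConv (AlgHom.id R A))) ((1 : A) ⊗ₜ[R] x) using TensorProduct.induction_on with
      | zero => simp
      | add p q hp hq => simp only [map_add, hp, hq]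
      | tmul a y => simp
    have hact := ρ_eq_act δ m hT
    refine ⟨δ, ⟨⟨?_, ?_⟩, hT⟩, fun δ' hδ' => ?_⟩
    · ext x
      let iL : WithConv (A →ₐ[R] A ⊗[R] A) := WithConv.toConv Algebra.TensorProduct.includeLeft
      let iR : WithConv (A →ₐ[R] A ⊗[R] A) := WithConv.toConv Algebra.TensorProduct.includeRight
      have hid : LinearMap.mul' R (A ⊗[R] A) ∘ₗ TensorProduct.map iL.ofConv.toLinearMap iR.ofConv.toLinearMap =
          LinearMap.id := by
        ext a b; simp [iL, iR]
      have h := DFunLike.congr_fun (map_mul (m.ρ (A ⊗[R] A)) (alg.symm iL) (alg.symm iR)) ((1 : A ⊗[R] A) ⊗ₜ[R] x)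
      rw [LinearEquiv.mul_apply, hT, hT, ← LinearEquiv.coe_coe (e := m.ρ (A ⊗[R] A) (alg.symm iL)), hact,
        map_mul, MulEquiv.apply_symm_apply, MulEquiv.apply_symm_apply, act_T, hid, LinearMap.lTensor_id,
        LinearMap.id_apply] at h
      unfold T at h
      rw [conv_toLinearMap, ← LinearMap.comp_assoc (Coalgebra.comul (R := R)) (TensorProduct.map iL.ofConv.toLinearMap iR.ofConv.toLinearMap), hid, LinearMap.id_comp] at h
      exact ((TensorProduct.comm R E (A ⊗[R] A)).injective h).symm
    · ext x
      have h := DFunLike.congr_fun (map_one (m.ρ R)) ((1 : R) ⊗ₜ[R] x)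
      rw [hT, map_one] at h
      unfold T at h
      have e : (1 : WithConv (A →ₐ[R] R)).ofConv.toLinearMap = Coalgebra.counit (R := R) := by
        ext a; simp [AlgHom.convOne_def]
      rw [e] at h
      apply (TensorProduct.comm R E R).injective
      exact h.trans (by simp)
    · ext x
      have h := (hδ'.2 A (Spec.mapMulEquiv (WithConv.toConv (AlgHom.id R A))) x).symm
      rw [MulEquiv.symm_apply_apply] at h
      simp only [AlgHom.toLinearMap_id, LinearMap.lTensor_id, LinearMap.id_apply] at h
      apply (TensorProduct.comm R E A).injective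
      refine h.trans ?_
      simp only [δ, LinearMap.comp_apply, LinearEquiv.coe_coe, TensorProduct.mk_apply, LinearMap.restrictScalars_apply]
      induction m.ρ A (Spec.mapMulEquiv (WithConv.toConv (AlgHom.id R A))) ((1 : A) ⊗ₜ[R] x) using TensorProduct.induction_on with
      | zero => simp
      | add p q hp hq => simp only [map_add, ← hp, ← hq]
      | tmul a y => simp

end Groth.Agent.S6094
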