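import Groth.Statements.S6119
import Groth.Agent.RedQuot.Basic
-- import your own Groth.Agent.* helpers here

set_option autoImplicit false
open CategoryTheory MonoidalCategory CartesianMonoidalCategory MonObj GrpObj AlgebraicGeometry
universe u
open RedSub

namespace Groth.Agent.S6119

/-- The identification G/H ≅ corad(G)/corad(H): let G be a reductive S-group, d : D ⟶ G its derived
group and f₀ : G ⟶ C its coradical (C commutative, D = Ker f₀, f₀ the fppf quotient G/D, D killed by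
every homomorphism to a commutative S-group scheme). Let t : T'' ⟶ C be a subtorus, H = G x_C T''
its preimage under f₀ (with projections k : H ⟶ G and g : H ⟶ T''), and q : G ⟶ Q the fppf quotient
of G by H. Then q factors uniquely as f₀ followed by q' : C ⟶ Q, and q' exhibits Q as the fppf
quotient of C by T''. -/
theorem result {S : Scheme.{u}} {G D C T'' H Q : Over S} [GrpObj G] [GrpObj D]
    [GrpObj C] [GrpObj T''] [GrpObj H] (hG : Red.IsReductive G) (d : D ⟶ G) [IsMonHom d]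
    (f₀ : G ⟶ C) [IsMonHom f₀] (hC : ∀ (X : Over S) (a b : X ⟶ C), a * b = b * a) (hker : AlgGrp.IsKernel d f₀)
    (hquot : RedSub.IsQuotient d f₀) (hkill : RedSub.KilledByCommutative d)
    (t : T'' ⟶ C) [IsMonHom t] [Mono t] (hT'' : Red.IsTorus T'') (k : H ⟶ G) [IsMonHom k] (g : H ⟶ T'') [IsMonHom g]
    (hsq : IsPullback k g f₀ t) (q : G ⟶ Q) (hq : RedSub.IsQuotient k q) :
    ∃! q' : C ⟶ Q, f₀ ≫ q' = q ∧ RedSub.IsQuotient t q' := by
  have hdH : ∀ (X : Over S) (x : X ⟶ D), ∃ x' : X ⟶ H, x' ≫ k = x ≫ d := fun X x => by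
    have hw : (x ≫ d) ≫ f₀ = (toUnit X ≫ η[T'']) ≫ t := by
      rw [Category.assoc, hker.w, Category.assoc, IsMonHom.one_hom t, ← Category.assoc,
        toUnit_unique (x ≫ toUnit D) (toUnit X)]
    exact ⟨hsq.lift _ _ hw, hsq.lift_fst _ _ hw⟩
  obtain ⟨q', hq', hq'u⟩ := Groth.Agent.RedQuot.desc hquot q fun X a x => by
    obtain ⟨x', hx'⟩ := hdH X x
    rw [← hx', Groth.Agent.RedQuot.mul_comp hq]
  refine ⟨q', ⟨hq', ?_⟩, fun y hy => hq'u y hy.1⟩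
  obtain ⟨h₁, h₂, h₃⟩ := Groth.Agent.RedQuot.fppf_of_comp hquot q' (by rw [hq']; exact hq.1) (by rw [hq']; exact hq.2.1)
    (by rw [hq']; exact hq.2.2.1)
  refine Groth.Agent.RedQuot.isQuotient_of_points t q' h₁ h₂ h₃ (fun X a x => ?_) fun X a b hab => ?_
  · obtain ⟨X₁, c₁, a₁, hc₁, ha₁⟩ := Groth.Agent.RedQuot.exists_lift hquot a
    obtain ⟨X₂, c₂, g₂, hc₂, hg₂⟩ := Groth.Agent.RedQuot.exists_lift hquot (c₁ ≫ x ≫ t)
    haveI := hc₁.over_epi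
    haveI := hc₂.over_epi
    have hw : g₂ ≫ f₀ = (c₂ ≫ c₁ ≫ x) ≫ t := by simpa only [Category.assoc] using hg₂
    have e : (c₂ ≫ c₁) ≫ (a * (x ≫ t)) = ((c₂ ≫ a₁) * (hsq.lift g₂ (c₂ ≫ c₁ ≫ x) hw ≫ k)) ≫ f₀ := by
      rw [MonObj.mul_comp _ _ f₀, hsq.lift_fst, MonObj.comp_mul, hw]
      simp only [Category.assoc, ha₁]
    rw [← cancel_epi c₁, ← cancel_epi c₂]
    calc c₂ ≫ c₁ ≫ (a * (x ≫ t)) ≫ q' = ((c₂ ≫ c₁) ≫ (a * (x ≫ t))) ≫ q' := by simp only [Category.assoc]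
      _ = ((c₂ ≫ a₁) * (hsq.lift g₂ (c₂ ≫ c₁ ≫ x) hw ≫ k)) ≫ q := by rw [e, Category.assoc, hq']
      _ = (c₂ ≫ a₁) ≫ q := Groth.Agent.RedQuot.mul_comp hq _ _
      _ = _ := by rw [← hq', Category.assoc, reassoc_of% ha₁]
  · obtain ⟨X₁, c₁, a₁, hc₁, ha₁⟩ := Groth.Agent.RedQuot.exists_lift hquot a
    obtain ⟨X₂, c₂, b₂, hc₂, hb₂⟩ := Groth.Agent.RedQuot.exists_lift hquot (c₁ ≫ b)
    have hab₂ : (c₂ ≫ a₁) ≫ q = b₂ ≫ q := by
      rw [← hq', Category.assoc, reassoc_of% ha₁, reassoc_of% hb₂, hab]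
    obtain ⟨y, hy⟩ := Groth.Agent.RedQuot.exists_mul_eq hq hab₂
    have hy' : (y ≫ g) ≫ t = c₂ ≫ c₁ ≫ (a⁻¹ * b) := by
      rw [Category.assoc, ← hsq.w, ← Category.assoc, eq_inv_mul_of_mul_eq hy, MonObj.mul_comp _ _ f₀, hb₂,
        GrpObj.inv_comp _ f₀, Category.assoc, ha₁, MonObj.comp_mul, MonObj.comp_mul, GrpObj.comp_inv, GrpObj.comp_inv]
    obtain ⟨z₁, hz₁⟩ := Groth.Agent.RedQuot.exists_fac_of_covers t c₂ hc₂ (c₁ ≫ (a⁻¹ * b)) (y ≫ g) hy'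
    obtain ⟨z, hz⟩ := Groth.Agent.RedQuot.exists_fac_of_covers t c₁ hc₁ (a⁻¹ * b) z₁ hz₁
    exact ⟨z, by rw [hz, mul_inv_cancel_left]⟩

end Groth.Agent.S6119
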