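import Groth.Statements.S6120


set_option autoImplicit false
set_option backward.isDefEq.respectTransparency false
set_option backward.isDefEq.respectTransparency.types false
open CategoryTheory CategoryTheory.Limits Opposite
universe w v₁ v₂ u₁ u₂
open SGA4

namespace Groth.Agent.S6120

/-- Let `I` be a category with a family of objects `i α` (`α : A`) such that every binary product `i α ⨯
i β` exists in `I` and every object of `I` admits a morphism to some `i α`. Let `F : Iᵒᵖ ⥤ C` be a
functor, and assume that `C` has equalizers and that the products `∏ F (i α)` and `∏ F (i α ⨯ i β)`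
exist in `C`. Then the limit of `F` exists, the canonical map `lim F ⟶ ∏ F (i α)` is a monomorphism,
and a map `t : T ⟶ ∏ F (i α)` factors through `lim F` exactly when its composites with the two maps
`∏ F (i α) ⇉ ∏ F (i α ⨯ i β)` induced by the two projections agree: `lim F` is the equalizer of that
pair. (The published statement assumes that `C` has all limits of the size of `A`; only equalizers
and the two products named are assumed here, which is what the equalizer construction uses.) -/
theorem result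
    {I : Type u₁} [Category.{v₁} I] {C : Type u₂} [Category.{v₂} C] {A : Type w} (i : A → I)
    [∀ α β, HasBinaryProduct (i α) (i β)]
    (hcov : ∀ j : I, ∃ α, Nonempty (j ⟶ i α))
    (F : Iᵒᵖ ⥤ C) [HasEqualizers C]
    [HasProduct (fun α => F.obj (op (i α)))]
    [HasProduct (fun p : A × A => F.obj (op (i p.1 ⨯ i p.2)))] :
    HasLimit F ∧ ∀ [HasLimit F],
      Mono (Pi.lift (fun α => limit.π F (op (i α)))) ∧
      ∀ (T : C) (t : T ⟶ ∏ᶜ (fun α => F.obj (op (i α)))),
        (∃ s : T ⟶ limit F, s ≫ Pi.lift (fun α => limit.π F (op (i α))) = t) ↔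
        t ≫ Pi.lift (fun p : A × A =>
            Pi.π (fun α => F.obj (op (i α))) p.1 ≫ F.map (prod.fst : i p.1 ⨯ i p.2 ⟶ i p.1).op) =
        t ≫ Pi.lift (fun p : A × A =>
            Pi.π (fun α => F.obj (op (i α))) p.2 ≫ F.map (prod.snd : i p.1 ⨯ i p.2 ⟶ i p.2).op) := by
  open CategoryTheory.Limits Opposite in
  let d₁ := Pi.lift (fun p : A × A =>
      Pi.π (fun α => F.obj (op (i α))) p.1 ≫ F.map (prod.fst : i p.1 ⨯ i p.2 ⟶ i p.1).op)
  let d₂ := Pi.lift (fun p : A × A =>
      Pi.π (fun α => F.obj (op (i α))) p.2 ≫ F.map (prod.snd : i p.1 ⨯ i p.2 ⟶ i p.2).op)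
  have indep : ∀ {T : C} (t : T ⟶ ∏ᶜ (fun α => F.obj (op (i α)))) (ht : t ≫ d₁ = t ≫ d₂) {j : I} {α β : A}
      (f : j ⟶ i α) (g : j ⟶ i β), t ≫ Pi.π _ α ≫ F.map f.op = t ≫ Pi.π _ β ≫ F.map g.op := by
    intro T t ht j α β f g
    have := congrArg (fun q => q ≫ Pi.π _ (α, β) ≫ F.map (prod.lift f g).op) ht
    simpa [d₁, d₂, ← Functor.map_comp, ← op_comp] using this
  let a : I → A := fun j => (hcov j).choose
  let f : ∀ j : I, j ⟶ i (a j) := fun j => (hcov j).choose_spec.some
  let coneOf : ∀ (T : C) (t : T ⟶ ∏ᶜ (fun α => F.obj (op (i α)))), t ≫ d₁ = t ≫ d₂ → Cone F :=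
    fun T t ht =>
    { pt := T
      π :=
        { app := fun j => t ≫ Pi.π _ (a j.unop) ≫ F.map (f j.unop).op
          naturality := fun j k φ => by
            have := indep t ht (f k.unop) (φ.unop ≫ f j.unop)
            simpa using this } }
  have coneOf_app : ∀ (T : C) (t : T ⟶ ∏ᶜ (fun α => F.obj (op (i α)))) (ht : t ≫ d₁ = t ≫ d₂) (α : A),
      (coneOf T t ht).π.app (op (i α)) = t ≫ Pi.π _ α := fun T t ht α => by
    have := indep t ht (f (i α)) (𝟙 (i α))
    simpa [coneOf] using this
  have cone_cond : ∀ (s : Cone F), Pi.lift (fun α => s.π.app (op (i α))) ≫ d₁ =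
      Pi.lift (fun α => s.π.app (op (i α))) ≫ d₂ := fun s => Pi.hom_ext _ _ fun p => by
    simp only [d₁, d₂, Category.assoc, Pi.lift_π, Pi.lift_π_assoc]
    rw [s.w, s.w]
  have cone_ext : ∀ (s : Cone F) (j : Iᵒᵖ), Pi.lift (fun α => s.π.app (op (i α))) ≫ Pi.π _ (a j.unop) ≫
      F.map (f j.unop).op = s.π.app j := fun s j => by
    rw [Pi.lift_π_assoc]
    exact s.w (f j.unop).op
  let c := coneOf (equalizer d₁ d₂) (equalizer.ι d₁ d₂) (equalizer.condition d₁ d₂)
  have hc : IsLimit c :=
    { lift := fun s => equalizer.lift (Pi.lift fun α => s.π.app (op (i α))) (cone_cond s)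
      fac := fun s j => by
        show equalizer.lift _ (cone_cond s) ≫ equalizer.ι d₁ d₂ ≫ _ = _
        rw [equalizer.lift_ι_assoc, cone_ext]
      uniq := fun s m hm => by
        apply equalizer.hom_ext
        rw [equalizer.lift_ι]
        refine Pi.hom_ext _ _ fun α => ?_
        rw [Category.assoc, Pi.lift_π, ← hm, ← coneOf_app _ _ (equalizer.condition d₁ d₂)] }
  refine ⟨⟨⟨⟨c, hc⟩⟩⟩, fun {_} => ⟨⟨fun {T} x y hxy => ?_⟩, fun T t => ⟨?_, fun ht => ?_⟩⟩⟩
  · apply limit.hom_ext
    intro j
    have := congrArg (fun q => q ≫ Pi.π _ (a j.unop) ≫ F.map (f j.unop).op) hxy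
    simp only [Category.assoc] at this
    exact ((congrArg (x ≫ ·) (cone_ext (limit.cone F) j)).symm.trans this).trans
      (congrArg (y ≫ ·) (cone_ext (limit.cone F) j))
  · rintro ⟨s, rfl⟩
    rw [Category.assoc, Category.assoc]
    exact congrArg _ (cone_cond (limit.cone F))
  · refine ⟨limit.lift F (coneOf T t ht), Pi.hom_ext _ _ fun α => ?_⟩
    rw [Category.assoc, Pi.lift_π, limit.lift_π, coneOf_app T t ht]

end Groth.Agent.S6120
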