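import Groth.Statements.S6121


set_option autoImplicit false
set_option backward.isDefEq.respectTransparency false
set_option backward.isDefEq.respectTransparency.types false
open CategoryTheory
universe v₁ v₂ u₁ u₂
open SGA4

namespace Groth.Agent.S6121

/-- For a fibered functor `p : E ⥤ B` (every morphism of `B` has a cartesian lift with prescribed
codomain, and cartesian morphisms compose), `p` reflects isomorphisms if and only if every fibre
category of `p` (objects over `b`, morphisms lying over the identity of `b`) is a groupoid. -/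
theorem result
    {B : Type u₁} [Category.{v₁} B] {E : Type u₂} [Category.{v₂} E] (p : E ⥤ B) [p.IsFibered] :
    p.ReflectsIsomorphisms ↔ ∀ b : B, IsGroupoid (p.Fiber b) := by
  refine ⟨fun _ b => ⟨fun {x y} φ => ?_⟩, fun h => ⟨fun {x y} f hf => ?_⟩⟩
  · haveI hl : p.IsHomLift (𝟙 b) φ.1 := φ.2
    have : IsIso (p.map φ.1) := by
      rw [IsHomLift.fac' p (𝟙 b) φ.1]; infer_instance
    have : IsIso φ.1 := isIso_of_reflects_iso φ.1 p
    exact ⟨⟨inv φ.1, IsHomLift.lift_id_inv_isIso p b φ.1⟩, Functor.Fiber.hom_ext (IsIso.hom_inv_id φ.1),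
      Functor.Fiber.hom_ext (IsIso.inv_hom_id φ.1)⟩
  · let c := Functor.IsPreFibered.pullbackMap (p := p) (rfl : p.obj y = p.obj y) (p.map f)
    let f' := Functor.IsCartesian.map p (p.map f) c f
    have hdom := Functor.IsPreFibered.pullbackObj_proj (p := p) (rfl : p.obj y = p.obj y) (p.map f)
    have := (h (p.obj x)).all_isIso (Functor.Fiber.homMk p (p.obj x) f' :
      Functor.Fiber.mk (rfl : p.obj x = p.obj x) ⟶ Functor.Fiber.mk hdom)
    have : IsIso f' := by
      simpa using (Functor.map_isIso Functor.Fiber.fiberInclusion (Functor.Fiber.homMk p (p.obj x) f' :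
        Functor.Fiber.mk (rfl : p.obj x = p.obj x) ⟶ Functor.Fiber.mk hdom))
    have : IsIso c := Functor.IsStronglyCartesian.isIso_of_base_isIso p (p.map f) c
    rw [← Functor.IsCartesian.fac p (p.map f) c f]
    infer_instance

end Groth.Agent.S6121
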