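import Groth.Statements.S6122


set_option autoImplicit false
set_option backward.isDefEq.respectTransparency false
set_option backward.isDefEq.respectTransparency.types false
open CategoryTheory
universe v₁ v₂ u₁ u₂
open SGA4

namespace Groth.Agent.S6122

/-- For a fibered functor `p : E ⥤ B` (every morphism of `B` has a cartesian lift with prescribed
codomain, and cartesian morphisms compose), `p` is faithful if and only if every fibre category of
`p` (objects over `b`, morphisms lying over the identity of `b`) has at most one morphism between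
any two objects. -/
theorem result
    {B : Type u₁} [Category.{v₁} B] {E : Type u₂} [Category.{v₂} E] (p : E ⥤ B) [p.IsFibered] :
    p.Faithful ↔ ∀ (b : B) (x y : p.Fiber b), Subsingleton (x ⟶ y) := by
  refine ⟨fun _ b x y => ⟨fun φ ψ => ?_⟩, fun h => ⟨fun {x y f g} hfg => ?_⟩⟩
  · haveI : p.IsHomLift (𝟙 b) (Functor.Fiber.fiberInclusion.map φ) := φ.2
    haveI : p.IsHomLift (𝟙 b) (Functor.Fiber.fiberInclusion.map ψ) := ψ.2
    apply Functor.Fiber.fiberInclusion.map_injective
    apply p.map_injective
    exact (IsHomLift.fac' p (𝟙 b) (Functor.Fiber.fiberInclusion.map φ)).trans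
      (IsHomLift.fac' p (𝟙 b) (Functor.Fiber.fiberInclusion.map ψ)).symm
  · let c := Functor.IsPreFibered.pullbackMap (p := p) (rfl : p.obj y = p.obj y) (p.map f)
    haveI : p.IsHomLift (p.map f) g := hfg ▸ IsHomLift.map p g
    let f' := Functor.IsCartesian.map p (p.map f) c f
    let g' := Functor.IsCartesian.map p (p.map f) c g
    have hdom := Functor.IsPreFibered.pullbackObj_proj (p := p) (rfl : p.obj y = p.obj y) (p.map f)
    have := h (p.obj x) (Functor.Fiber.mk (rfl : p.obj x = p.obj x)) (Functor.Fiber.mk hdom)
    have e := congrArg Functor.Fiber.fiberInclusion.map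
      (Subsingleton.elim (Functor.Fiber.homMk p (p.obj x) f') (Functor.Fiber.homMk p (p.obj x) g'))
    simp only [Functor.Fiber.fiberInclusion_homMk] at e
    rw [← Functor.IsCartesian.fac p (p.map f) c f, ← Functor.IsCartesian.fac p (p.map f) c g]
    exact congrArg (· ≫ c) e

end Groth.Agent.S6122
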