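import Groth.Statements.S6123
import Mathlib.CategoryTheory.MorphismProperty.Limits
import Mathlib.CategoryTheory.Limits.Shapes.Diagonal

set_option autoImplicit false
set_option backward.isDefEq.respectTransparency false
set_option backward.isDefEq.respectTransparency.types false
open CategoryTheory CategoryTheory.Limits Opposite
universe w v₁ v₂ u₁ u₂
open SGA4

namespace Groth.Agent.S6123

/-- For a single functor. Let `E` have pullbacks and let `φ : E ⥤ F` preserve them. If every
monomorphism `u` of `E` with `φ u` invertible is invertible, then `φ` reflects all isomorphisms. -/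
theorem result
    {E : Type u₁} [Category.{v₁} E] {F : Type u₂} [Category.{v₂} F] (φ : E ⥤ F)
    [HasPullbacks E] [PreservesLimitsOfShape WalkingCospan φ]
    (h : ∀ ⦃X Y : E⦄ (u : X ⟶ Y), Mono u → IsIso (φ.map u) → IsIso u) :
    φ.ReflectsIsomorphisms := by
  refine ⟨fun {X Y} f hf => ?_⟩
  have h1 : IsPullback (φ.map (pullback.fst f f)) (φ.map (pullback.snd f f)) (φ.map f) (φ.map f) :=
    (IsPullback.of_hasPullback f f).map φ
  have hfst : IsIso (φ.map (pullback.fst f f)) :=
    MorphismProperty.of_isPullback (P := MorphismProperty.isomorphisms _) h1.flip hf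
  have hΔ : IsIso (φ.map (pullback.lift (f := f) (g := f) (𝟙 X) (𝟙 X) rfl)) := by
    have e : φ.map (pullback.lift (f := f) (g := f) (𝟙 X) (𝟙 X) rfl) ≫ φ.map (pullback.fst f f) = 𝟙 _ := by
      rw [← φ.map_comp, pullback.lift_fst, φ.map_id]
    exact IsIso.of_isIso_fac_right e
  have : Mono (pullback.lift (f := f) (g := f) (𝟙 X) (𝟙 X) rfl) :=
    mono_of_mono_fac (pullback.lift_fst (f := f) (g := f) (𝟙 X) (𝟙 X) rfl)
  have : IsIso (pullback.lift (f := f) (g := f) (𝟙 X) (𝟙 X) rfl) := h _ inferInstance hΔ
  have : Mono f := ⟨fun {Z} a b hab => by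
    have ha := pullback.lift_fst a b hab
    have hb := pullback.lift_snd a b hab
    have : pullback.fst f f = pullback.snd f f := by
      rw [← cancel_epi (pullback.lift (f := f) (g := f) (𝟙 X) (𝟙 X) rfl), pullback.lift_fst, pullback.lift_snd]
    exact ha.symm.trans ((congrArg (pullback.lift a b hab ≫ ·) this).trans hb)⟩
  exact h f this hf

end Groth.Agent.S6123
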