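import Groth.Statements.S6124
import Mathlib.CategoryTheory.MorphismProperty.Limits
import Mathlib.CategoryTheory.Limits.Shapes.Diagonal

set_option autoImplicit false
set_option backward.isDefEq.respectTransparency false
set_option backward.isDefEq.respectTransparency.types false
open CategoryTheory CategoryTheory.Limits Opposite
universe w v₁ v₂ u₁ u₂
open SGA4

namespace Groth.Agent.S6124

/-- Let `E` have pullbacks, let `P` be a detecting family of objects of `E` (a morphism `f` is
invertible as soon as every map out of an object of `P` factors uniquely through `f`), and let `φ i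
: E ⥤ E' i` be functors preserving pullbacks. Then the `φ i` jointly reflect isomorphisms if and
only if, for every `X` with `P X` and every subobject `X'` of `X` other than `⊤`, some `φ i` takes
the inclusion `X' ⟶ X` to a morphism that is not invertible. -/
theorem result
    {E : Type u₁} [Category.{v₁} E] [HasPullbacks E] (P : ObjectProperty E) (hP : P.IsDetecting)
    {κ : Type w} {E' : κ → Type u₂} [∀ k, Category.{v₂} (E' k)] (φ : ∀ k, E ⥤ E' k)
    [∀ k, PreservesLimitsOfShape WalkingCospan (φ k)] :
    (∀ ⦃X Y : E⦄ (f : X ⟶ Y), (∀ k, IsIso ((φ k).map f)) → IsIso f) ↔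
      ∀ (X : E), P X → ∀ (X' : Subobject X), X' ≠ ⊤ → ∃ k, ¬ IsIso ((φ k).map X'.arrow) := by
  constructor
  · intro H X _ X' hX'
    by_contra hne
    push_neg at hne
    have := H X'.arrow hne
    exact hX' (Subobject.eq_top_of_isIso_arrow X')
  · intro H
    have key : ∀ ⦃X Y : E⦄ (m : X ⟶ Y), Mono m → (∀ k, IsIso ((φ k).map m)) → IsIso m := fun X Y m _ hm =>
      hP m fun G hG g => by
        have ht : Subobject.mk (pullback.snd m g) = ⊤ := by
          by_contra hne
          obtain ⟨k, hk⟩ := H G hG _ hne
          apply hk
          have hk' : IsIso ((φ k).map (pullback.snd m g)) :=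
            MorphismProperty.of_isPullback (P := MorphismProperty.isomorphisms _)
              ((IsPullback.of_hasPullback m g).map (φ k)) (hm k)
          rw [← Subobject.underlyingIso_hom_comp_eq_mk, (φ k).map_comp]
          infer_instance
        have := (Subobject.isIso_iff_mk_eq_top _).2 ht
        refine ⟨inv (pullback.snd m g) ≫ pullback.fst m g, ?_, fun h' hh' => ?_⟩
        · show (inv (pullback.snd m g) ≫ pullback.fst m g) ≫ m = g
          rw [Category.assoc, pullback.condition, IsIso.inv_hom_id_assoc]
        · rw [← cancel_mono m, hh', Category.assoc, pullback.condition, IsIso.inv_hom_id_assoc]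
    intro X Y f hf
    have hΔ : IsIso (pullback.diagonal f) := key _ inferInstance fun k => by
      have hfst : IsIso ((φ k).map (pullback.fst f f)) :=
        MorphismProperty.of_isPullback (P := MorphismProperty.isomorphisms _)
          ((IsPullback.of_hasPullback f f).map (φ k)).flip (hf k)
      have e : (φ k).map (pullback.diagonal f) ≫ (φ k).map (pullback.fst f f) = 𝟙 _ := by
        rw [← (φ k).map_comp, pullback.diagonal_fst, (φ k).map_id]
      exact IsIso.of_isIso_fac_right e
    have : Mono f := ⟨fun {Z} a b hab => by
      have e : pullback.fst f f = pullback.snd f f := by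
        rw [← cancel_epi (pullback.diagonal f), pullback.diagonal_fst, pullback.diagonal_snd]
      exact (pullback.lift_fst a b hab).symm.trans ((congrArg (pullback.lift a b hab ≫ ·) e).trans (pullback.lift_snd a b hab))⟩
    exact key f this hf

end Groth.Agent.S6124
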