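import Groth.Statements.S6125


set_option autoImplicit false
set_option backward.isDefEq.respectTransparency false
set_option backward.isDefEq.respectTransparency.types false
open CategoryTheory
universe v₁ u₁
open SGA4

namespace Groth.Agent.S6125

/-- Let `C` be a separating family of objects of `E` (morphisms out of objects of `C` are jointly
faithful) and `D` any family of objects. Then `D` is coseparating (morphisms into objects of `D` are
jointly faithful) if and only if for every `T` with `C T`, every object `X` and every pair of
distinct morphisms `u ≠ v : T ⟶ X`, some morphism `w : X ⟶ I` with `D I` has `u ≫ w ≠ v ≫ w`.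
(Generating and cogenerating families are taken here in the sense of joint faithfulness, which is
the sense the published proof uses on both sides; with `C` only jointly reflecting isomorphisms the
criterion does not imply joint faithfulness of maps into `D`: take the one-object groupoid of a
group of order two with `C` and `D` empty.) -/
theorem result
    {E : Type u₁} [Category.{v₁} E] {C D : ObjectProperty E} (hC : C.IsSeparating) :
    D.IsCoseparating ↔
      ∀ (T X : E), C T → ∀ (u v : T ⟶ X), u ≠ v →
        ∃ (I : E) (_ : D I) (w : X ⟶ I), u ≫ w ≠ v ≫ w := by
  constructor
  · intro hD T X _ u v huv
    by_contra hne
    push_neg at hne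
    exact huv (hD u v fun I hI w => hne I hI w)
  · intro H X Y f g hfg
    refine hC f g fun T hT a => ?_
    by_contra hne
    obtain ⟨I, hI, w, hw⟩ := H T Y hT _ _ hne
    exact hw (by rw [Category.assoc, Category.assoc, hfg I hI w])

end Groth.Agent.S6125
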