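import Groth.Statements.S6126
import Mathlib.CategoryTheory.EffectiveEpi.Basic

set_option autoImplicit false
set_option backward.isDefEq.respectTransparency false
set_option backward.isDefEq.respectTransparency.types false
open CategoryTheory CategoryTheory.Limits
universe v₁ u₁
open SGA4

namespace Groth.Agent.S6126

/-- Let `E` be a category with `v₁`-small hom-sets admitting a separating family of objects `G t`
indexed by a `v₁`-small type, in which every object admits a monomorphism into an injective object.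
Assume that each coproduct `G t ⨿ G t` exists and that every morphism out of `G t ⨿ G t` factors as
an effective epimorphism followed by a monomorphism. Then `E` admits a coseparating family of
injective objects indexed by a `v₁`-small type. (The published statement moreover bounds the size of
this family in terms of the hom-sets `Hom (G t', G t ⨿ G t)`; only existence is stated here. The
published statement speaks of generating and cogenerating families; its proof uses and produces
joint faithfulness of maps out of, resp. into, the family, which is the sense taken here.) -/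
theorem result
    {E : Type u₁} [Category.{v₁} E] {ι : Type v₁} (G : ι → E)
    (hG : (ObjectProperty.ofObj G).IsSeparating)
    [EnoughInjectives E] [∀ t, HasBinaryCoproduct (G t) (G t)]
    (hfac : ∀ (t : ι) (X : E) (f : G t ⨿ G t ⟶ X),
      ∃ (Y : E) (e : G t ⨿ G t ⟶ Y) (m : Y ⟶ X), EffectiveEpi e ∧ Mono m ∧ e ≫ m = f) :
    ∃ (κ : Type v₁) (H : κ → E),
      (∀ k, Injective (H k)) ∧ (ObjectProperty.ofObj H).IsCoseparating := by
  classical
  let R : ∀ (t : ι) {Y : E}, (G t ⨿ G t ⟶ Y) → Set (Σ s : ι, (G s ⟶ G t ⨿ G t) × (G s ⟶ G t ⨿ G t)) :=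
    fun t {Y} e => {x | x.2.1 ≫ e = x.2.2 ≫ e}
  let κ : Type v₁ := {x : Σ t : ι, Set (Σ s : ι, (G s ⟶ G t ⨿ G t) × (G s ⟶ G t ⨿ G t)) //
    ∃ (Y : E) (e : G x.1 ⨿ G x.1 ⟶ Y), EffectiveEpi e ∧ R x.1 e = x.2}
  choose Yk ek hek hRk using fun k : κ => k.2
  refine ⟨κ, fun k => Injective.under (Yk k), fun k => Injective.injective_under _, ?_⟩
  intro X₀ X₁ f g h
  refine hG f g fun Z hZ a => ?_
  obtain ⟨t⟩ := hZ
  obtain ⟨Y, e, m, he, hm, hem⟩ := hfac t X₁ (coprod.desc (a ≫ f) (a ≫ g))
  let k : κ := ⟨⟨t, R t e⟩, Y, e, he, rfl⟩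
  have hR : R t (ek k) = R t e := hRk k
  have := hek k
  have hker : ∀ {Z : E} (b c : Z ⟶ G t ⨿ G t), b ≫ e = c ≫ e → b ≫ ek k = c ≫ ek k := fun b c hbc => by
    refine hG _ _ fun W hW d => ?_
    obtain ⟨s⟩ := hW
    have : (⟨s, d ≫ b, d ≫ c⟩ : Σ s : ι, (G s ⟶ G t ⨿ G t) × (G s ⟶ G t ⨿ G t)) ∈ R t e := by
      show (d ≫ b) ≫ e = (d ≫ c) ≫ e
      rw [Category.assoc, hbc, Category.assoc]
    rw [← hR] at this
    simpa [R] using this
  have hker' : ∀ {Z : E} (b c : Z ⟶ G t ⨿ G t), b ≫ ek k = c ≫ ek k → b ≫ e = c ≫ e := fun b c hbc => by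
    refine hG _ _ fun W hW d => ?_
    obtain ⟨s⟩ := hW
    have : (⟨s, d ≫ b, d ≫ c⟩ : Σ s : ι, (G s ⟶ G t ⨿ G t) × (G s ⟶ G t ⨿ G t)) ∈ R t (ek k) := by
      show (d ≫ b) ≫ ek k = (d ≫ c) ≫ ek k
      rw [Category.assoc, hbc, Category.assoc]
    rw [hR] at this
    simpa [R] using this
  let φ : Y ⟶ Yk k := EffectiveEpi.desc e (ek k) hker
  let u : X₁ ⟶ Injective.under (Yk k) := Injective.factorThru (φ ≫ Injective.ι (Yk k)) m
  have hu : m ≫ u = φ ≫ Injective.ι (Yk k) := Injective.comp_factorThru _ _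
  have heq : coprod.inl ≫ ek k = coprod.inr ≫ ek k := by
    have h1 : ∀ v : G t ⟶ G t ⨿ G t, v ≫ ek k ≫ Injective.ι (Yk k) = v ≫ coprod.desc (a ≫ f) (a ≫ g) ≫ u := fun v => by
      rw [← hem, Category.assoc, hu, EffectiveEpi.fac_assoc]
    rw [← cancel_mono (Injective.ι (Yk k)), Category.assoc, Category.assoc, h1, h1, coprod.inl_desc_assoc,
      coprod.inr_desc_assoc, Category.assoc, Category.assoc, h _ ⟨k⟩ u]
  have heq' := congrArg (· ≫ m) (hker' _ _ heq)
  simp only [Category.assoc, hem, coprod.inl_desc, coprod.inr_desc] at heq'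
  exact heq'

end Groth.Agent.S6126
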