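import Groth.Statements.S6127
import Groth.Agent.ShfCatLib.Reflective

set_option autoImplicit false
set_option backward.isDefEq.respectTransparency false
set_option backward.isDefEq.respectTransparency.types false
open CategoryTheory CategoryTheory.Limits Opposite
universe u
open SGA4

namespace Groth.Agent.S6127

/-- Let `C` be a small category and `P` a strictly full subcategory of the category of presheaves of
sets on `C` whose inclusion admits a left adjoint (a reflector) preserving finite limits. Call a
sieve `S` on `X` covering when the reflector inverts the inclusion of `S`, viewed as a subpresheaf,
into the presheaf represented by `X`. Then these covering sieves form a Grothendieck topology `J` on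
`C`, and a presheaf lies in `P` if and only if it is a sheaf for `J`. (This is the half of the
correspondence between topologies on `C` and such reflective subcategories that produces the
topology; the topology is pinned down by its covering sieves.) -/
theorem result
    {C : Type u} [SmallCategory C] (P : ObjectProperty (Cᵒᵖ ⥤ Type u))
    [P.IsClosedUnderIsomorphisms] [Reflective P.ι] [PreservesFiniteLimits (reflector P.ι)] :
    ∃ J : GrothendieckTopology C,
      (∀ (X : C) (S : Sieve X), S ∈ J X ↔ IsIso ((reflector P.ι).map S.functorInclusion)) ∧
      ∀ F : Cᵒᵖ ⥤ Type u, P F ↔ Presieve.IsSheaf J F := by
  exact Groth.Agent.ShfCatLib.exists_topology P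

end Groth.Agent.S6127
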