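import Groth.Statements.S6128
import Mathlib.CategoryTheory.Sites.LocallyBijective
import Mathlib.CategoryTheory.Functor.KanExtension.Adjunction

set_option autoImplicit false
set_option backward.isDefEq.respectTransparency false
set_option backward.isDefEq.respectTransparency.types false
open CategoryTheory
universe u
open SGA4

namespace Groth.Agent.S6128

/-- Let `u : C ⥤ C'` be a functor between small sites. If the right Kan extension along `u` of the
underlying presheaf of every sheaf of sets on `C` is a sheaf on `C'`, then `u` is cocontinuous: for
every object `Y` of `C` and every covering sieve `R` of `u Y`, the sieve of morphisms `g : Z ⟶ Y`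
with `u g ∈ R` covers `Y`. -/
theorem result
    {C : Type u} [SmallCategory C] {C' : Type u} [SmallCategory C']
    (J : GrothendieckTopology C) (J' : GrothendieckTopology C') (u : C ⥤ C')
    (h : ∀ G : Sheaf J (Type u), Presheaf.IsSheaf J' ((u.op.ran).obj G.obj)) :
    u.IsCocontinuous J J' := by
  refine ⟨fun {U S} hS => ?_⟩
  have hW : J.W (Functor.whiskerLeft u.op S.functorInclusion) := by
    intro P hP
    let adj := u.op.ranAdjunction (Type u)
    have hb : Function.Bijective (fun g : yoneda.obj (u.obj U) ⟶ (u.op.ran).obj P => S.functorInclusion ≫ g) := by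
      rw [Function.bijective_iff_existsUnique]
      exact Presieve.isSheafFor_iff_yonedaSheafCondition.1 ((isSheaf_iff_isSheaf_of_type J' _).1 (h ⟨P, hP⟩) S hS)
    have e : (fun g => Functor.whiskerLeft u.op S.functorInclusion ≫ g) =
        (adj.homEquiv S.functor P).symm ∘ (fun g : yoneda.obj (u.obj U) ⟶ (u.op.ran).obj P => S.functorInclusion ≫ g) ∘
          adj.homEquiv (yoneda.obj (u.obj U)) P := funext fun g => by
      simp only [Function.comp_apply, Adjunction.homEquiv_naturality_left_symm, Equiv.symm_apply_apply]
      rfl
    show Function.Bijective (fun g => Functor.whiskerLeft u.op S.functorInclusion ≫ g)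
    rw [e]
    exact (Equiv.bijective _).comp (hb.comp (Equiv.bijective _))
  have := hW.isLocallySurjective
  refine J.superset_covering ?_ (Presheaf.imageSieve_mem J (Functor.whiskerLeft u.op S.functorInclusion) (U := Opposite.op U) (𝟙 (u.obj U)))
  rintro V i ⟨x, hx⟩
  have hxv : x.1 = u.map i := hx.trans (Category.comp_id _)
  show S (u.map i)
  exact hxv ▸ x.2

end Groth.Agent.S6128
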