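import Groth.Statements.S6129
import Groth.Agent.ToposFinLib.LanPresheaf

set_option autoImplicit false
set_option backward.isDefEq.respectTransparency false
set_option backward.isDefEq.respectTransparency.types false
open CategoryTheory CategoryTheory.Limits
universe u
open SGA4

namespace Groth.Agent.S6129

/-- Let `u : C ⥤ C'` be a faithful functor between small categories such that for every object `X` of
`C` the induced functor on over-categories `C/X ⥤ C'/u X` is full and faithful. Then the left Kan
extension functor `u_!` on presheaves of sets is faithful, the unit `H ⟶ u^* u_! H` of the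
adjunction `u_! ⊣ u^*` is a monomorphism for every presheaf `H`, and for every morphism of
presheaves `α : H ⟶ K` the naturality square of the unit at `α` (with sides `α` and `u^* u_! α`) is
cartesian. (The published statement assumes only the condition on the slice functors, and its proof
uses that `u` is faithful; the slice condition alone does not suffice: for a nontrivial group viewed
as a one-object category mapping to the point every slice functor is an equivalence, while `u_!` is
the orbit-set functor on `G`-sets, which is not faithful, and the unit `G ⟶ G/G` is not a
monomorphism. So `u` is taken faithful here.) -/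
theorem result
    {C : Type u} [SmallCategory C] {C' : Type u} [SmallCategory C'] (u : C ⥤ C') [u.Faithful]
    (hu : ∀ X : C, (Over.post (X := X) u).Full ∧ (Over.post (X := X) u).Faithful) :
    (u.op.lan : (Cᵒᵖ ⥤ Type u) ⥤ (C'ᵒᵖ ⥤ Type u)).Faithful ∧
    (∀ H : Cᵒᵖ ⥤ Type u, Mono ((u.op.lanAdjunction (Type u)).unit.app H)) ∧
    ∀ (H K : Cᵒᵖ ⥤ Type u) (α : H ⟶ K),
      IsPullback ((u.op.lanAdjunction (Type u)).unit.app H) α
        (((Functor.whiskeringLeft Cᵒᵖ C'ᵒᵖ (Type u)).obj u.op).map (u.op.lan.map α))
        ((u.op.lanAdjunction (Type u)).unit.app K) := by
  open Groth.Agent.LanPsh in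
  haveI : ∀ H : Cᵒᵖ ⥤ Type _, Mono ((u.op.lanAdjunction (Type _)).unit.app H) := mono_eta hu
  exact ⟨(u.op.lanAdjunction (Type _)).faithful_L_of_mono_unit_app, this, fun H K α => isPullback_eta hu α⟩

end Groth.Agent.S6129
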