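import Groth.Statements.S6131
import Mathlib.CategoryTheory.Sites.LeftExact
import Mathlib.CategoryTheory.Sites.LocallySurjective

set_option autoImplicit false
set_option backward.isDefEq.respectTransparency false
set_option backward.isDefEq.respectTransparency.types false
open CategoryTheory CategoryTheory.Limits
universe u
open SGA4

namespace Groth.Agent.S6131

/-- For a small site `(C, J)` and an object `X` of `C`, the sheaf associated to the presheaf represented
by `X` is an initial object of the category of sheaves of sets if and only if the empty sieve covers
`X`. -/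
theorem result
    {C : Type u} [SmallCategory C] (J : GrothendieckTopology C) (X : C) :
    Nonempty (IsInitial ((presheafToSheaf J (Type u)).obj (yoneda.obj X))) ↔ (⊥ : Sieve X) ∈ J X := by
  constructor
  · rintro ⟨hI⟩
    let E : Cᵒᵖ ⥤ Type u := (Functor.const Cᵒᵖ).obj PEmpty.{u + 1}
    let c := yonedaEquiv ((sheafificationAdjunction J (Type u)).homEquiv _ _ (hI.to ((presheafToSheaf J (Type u)).obj E)))
    refine J.superset_covering ?_ (Presheaf.imageSieve_mem J (toSheafify J E) c)
    rintro V i ⟨x, -⟩
    exact (x : PEmpty).elim
  · intro h
    refine ⟨IsInitial.ofUniqueHom (fun G => ((sheafificationAdjunction J (Type u)).homEquiv _ _).symm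
      (yonedaEquiv.symm (((isSheaf_iff_isSheaf_of_type J G.obj).1 G.property _ h (fun _ _ h' => False.elim h')
        (fun _ _ _ _ _ _ _ h' => False.elim h')).choose))) fun G m => ?_⟩
    apply ((sheafificationAdjunction J (Type u)).homEquiv _ _).injective
    apply yonedaEquiv.injective
    exact ((isSheaf_iff_isSheaf_of_type J G.obj).1 G.property _ h).isSeparatedFor.ext fun _ _ h' => False.elim h'

end Groth.Agent.S6131
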