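import Groth.Statements.S6133


set_option autoImplicit false
set_option backward.isDefEq.respectTransparency false
set_option backward.isDefEq.respectTransparency.types false
open CategoryTheory CategoryTheory.Limits
universe v₁ u₁
open SGA4

namespace Groth.Agent.S6133

/-- Let `C` be a separating family of objects of `E` and let `i' : X' ⟶ X`, `i'' : X'' ⟶ X` be regular
monomorphisms (equalizers of pairs). If for every `T` with `C T` a morphism `T ⟶ X` factors through
`i'` exactly when it factors through `i''`, then `i'` and `i''` define the same subobject of `X`: a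
regular subobject is determined by the morphisms from objects of `C` that it contains. (The
published statement is for strict subobjects, of which regular ones are a special case, and for a
generating family in the sense of jointly reflecting isomorphisms, while the published proof uses
joint faithfulness; the row takes `C` separating.) -/
theorem result
    {E : Type u₁} [Category.{v₁} E] {C : ObjectProperty E} (hC : C.IsSeparating)
    {X X' X'' : E} (i' : X' ⟶ X) (i'' : X'' ⟶ X) [IsRegularMono i'] [IsRegularMono i'']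
    (h : ∀ (T : E), C T → ∀ (g : T ⟶ X),
      (∃ g' : T ⟶ X', g' ≫ i' = g) ↔ (∃ g'' : T ⟶ X'', g'' ≫ i'' = g)) :
    Subobject.mk i' = Subobject.mk i'' := by
  have key : ∀ {X₁ X₂ : E} (i₁ : X₁ ⟶ X) (i₂ : X₂ ⟶ X) [IsRegularMono i₂],
      (∀ (T : E), C T → ∀ (g : T ⟶ X), (∃ g₁ : T ⟶ X₁, g₁ ≫ i₁ = g) → ∃ g₂ : T ⟶ X₂, g₂ ≫ i₂ = g) →
      ∃ k : X₁ ⟶ X₂, k ≫ i₂ = i₁ := by
    intro X₁ X₂ i₁ i₂ _ H
    let r := IsRegularMono.getStruct i₂
    have w : i₁ ≫ r.left = i₁ ≫ r.right := hC _ _ fun T hT g => by
      obtain ⟨g₂, hg⟩ := H T hT (g ≫ i₁) ⟨g, rfl⟩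
      rw [← reassoc_of% hg, ← reassoc_of% hg, r.w]
    obtain ⟨k, hk⟩ := Fork.IsLimit.lift' r.isLimit i₁ w
    exact ⟨k, hk⟩
  obtain ⟨a, ha⟩ := key i' i'' fun T hT g => (h T hT g).1
  obtain ⟨b, hb⟩ := key i'' i' fun T hT g => (h T hT g).2
  refine Subobject.mk_eq_mk_of_comm _ _ ⟨a, b, ?_, ?_⟩ ha
  · rw [← cancel_mono i', Category.assoc, hb, ha, Category.id_comp]
  · rw [← cancel_mono i'', Category.assoc, ha, hb, Category.id_comp]

end Groth.Agent.S6133
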