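import Groth.Statements.S6134
import Mathlib.CategoryTheory.Adjunction.Restrict
import Mathlib.CategoryTheory.Limits.Preserves.Shapes.Products

set_option autoImplicit false
set_option backward.isDefEq.respectTransparency false
set_option backward.isDefEq.respectTransparency.types false
open CategoryTheory CategoryTheory.Limits
universe u
open SGA4

namespace Groth.Agent.S6134

/-- Let `C` be a small category with topologies `J ≤ J'` (every `J`-covering sieve is `J'`-covering),
`X` an object and `s i : Y i ⟶ X` a family of morphisms. If the associated `J`-sheaf of the presheaf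
represented by `X`, with the maps induced by the `s i`, is a coproduct of the associated `J`-sheaves
of the `Y i` (in sheaves of sets), then the same holds for `J'`. -/
theorem result
    {C : Type u} [SmallCategory C] {J J' : GrothendieckTopology C} (hJ : J ≤ J')
    {X : C} {ι : Type u} (Y : ι → C) (s : ∀ i, Y i ⟶ X)
    (h : Nonempty (IsColimit (Cofan.mk ((presheafToSheaf J (Type u)).obj (yoneda.obj X))
      (fun i => (presheafToSheaf J (Type u)).map (yoneda.map (s i)))))) :
    Nonempty (IsColimit (Cofan.mk ((presheafToSheaf J' (Type u)).obj (yoneda.obj X))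
      (fun i => (presheafToSheaf J' (Type u)).map (yoneda.map (s i))))) := by
  open CategoryTheory.Limits in
  obtain ⟨h⟩ := h
  let incl : Sheaf J' (Type u) ⥤ Sheaf J (Type u) :=
    ObjectProperty.lift _ (sheafToPresheaf J' (Type u)) fun G =>
      (isSheaf_iff_isSheaf_of_type _ _).2
        (Presieve.isSheaf_of_le _ hJ ((isSheaf_iff_isSheaf_of_type _ _).1 G.property))
  let Φ : Sheaf J (Type u) ⥤ Sheaf J' (Type u) := sheafToPresheaf J (Type u) ⋙ presheafToSheaf J' (Type u)
  let adjΦ : Φ ⊣ incl := (sheafificationAdjunction J' (Type u)).restrictFullyFaithful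
    (fullyFaithfulSheafToPresheaf J (Type u)) (Functor.FullyFaithful.id _) (Functor.rightUnitor _).symm
    (Iso.refl _)
  have : PreservesColimitsOfSize.{u, u} Φ := adjΦ.leftAdjoint_preservesColimits
  let e : presheafToSheaf J (Type u) ⋙ Φ ≅ presheafToSheaf J' (Type u) :=
    Adjunction.leftAdjointUniq ((sheafificationAdjunction J (Type u)).comp adjΦ)
      ((sheafificationAdjunction J' (Type u)).ofNatIsoRight (Iso.refl _))
  have h' := (isColimitMapCoconeCofanMkEquiv (presheafToSheaf J (Type u) ⋙ Φ) _ _).symm
    (isColimitCofanMkObjOfIsColimit Φ _ _ h)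
  exact ⟨isColimitMapCoconeCofanMkEquiv (presheafToSheaf J' (Type u)) _ _ (IsColimit.mapCoconeEquiv e h')⟩

end Groth.Agent.S6134
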