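import Groth.Statements.S6137
import Mathlib.CategoryTheory.Limits.Indization.IndObject
import Mathlib.CategoryTheory.Limits.Yoneda
import Mathlib.CategoryTheory.Limits.Shapes.Equalizers

set_option autoImplicit false
set_option backward.isDefEq.respectTransparency false
set_option backward.isDefEq.respectTransparency.types false
open CategoryTheory CategoryTheory.Limits
universe v u
open SGA4

namespace Groth.Agent.S6137

/-- Let `C` be a category with `v`-small hom-sets admitting all `v`-small limits, and `F : C ⥤ Type v` a
functor. Then `F` is corepresentable if and only if it is pro-representable (viewed as a presheaf on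
`Cᵒᵖ` it is an ind-object, i.e. a small filtered colimit of corepresentable functors) and preserves
all `v`-small limits. -/
theorem result
    {C : Type u} [Category.{v} C] [HasLimitsOfSize.{v, v} C] (F : C ⥤ Type v) :
    F.IsCorepresentable ↔
      IsIndObject (unopUnop C ⋙ F) ∧ PreservesLimitsOfSize.{v, v} F := by
  open CategoryTheory.Limits Opposite in
  constructor
  · intro hF
    obtain ⟨X, ⟨r⟩⟩ := hF.has_corepresentation
    let e := r.toIso
    refine ⟨(IsIndObject.iff_of_iso ((Functor.isoWhiskerLeft (unopUnop C) e).hom)).1 ?_, preservesLimits_of_natIso e⟩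
    exact IsIndObject.map
      (NatIso.ofComponents (fun T => Equiv.toIso (Quiver.Hom.opEquiv.symm.trans (Equiv.refl _))) (fun f => rfl) :
        yoneda.obj (op X) ≅ unopUnop C ⋙ coyoneda.obj (op X)).hom (isIndObject_yoneda (op X))
  · rintro ⟨hind, hlim⟩
    let P := hind.presentation
    let x : ∀ i, F.obj (P.F.obj i).unop := fun i => yonedaEquiv (F := unopUnop C ⋙ F) (P.ι.app i)
    have hx : ∀ {i j : P.I} (a : i ⟶ j), F.map (P.F.map a).unop (x j) = x i := fun {i j} a => by
      have w := P.ι.naturality a
      simp at w
      have w' := congrArg (yonedaEquiv (F := unopUnop C ⋙ F)) w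
      rw [← yonedaEquiv_naturality] at w'
      exact w'
    let lc := limit.cone P.F.leftOp
    let hl := isLimitOfPreserves F (limit.isLimit P.F.leftOp)
    obtain ⟨ξ, hξ, -⟩ := (Types.isLimit_iff (F.mapCone lc)).1 ⟨hl⟩ (fun i => x i.unop) fun {i j} a => hx a.unop
    let L := limit P.F.leftOp
    let sc : Cocone (P.F ⋙ yoneda) :=
      { pt := yoneda.obj (op L)
        ι :=
          { app := fun i => yoneda.map (limit.π P.F.leftOp (op i)).op
            naturality := fun i j a => by
              simp only [Functor.comp_map, Functor.const_obj_map, Category.comp_id, ← Functor.map_comp]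
              congr 1
              apply Quiver.Hom.unop_inj
              exact (limit.w P.F.leftOp a.op) } }
    let s : unopUnop C ⋙ F ⟶ yoneda.obj (op L) := P.coconeIsColimit.desc sc
    let t : ∀ c : C, F.obj c → (L ⟶ c) := fun c y => (s.app (op (op c)) y).unop
    have htn : ∀ {c c' : C} (g : c ⟶ c') (y : F.obj c), t c' (F.map g y) = t c y ≫ g := fun g y =>
      congrArg Quiver.Hom.unop (NatTrans.naturality_apply s g.op.op y)
    have hgen : ∀ (c : C) (y : F.obj c), ∃ (i : P.I) (g : (P.F.obj i).unop ⟶ c), F.map g (x i) = y := fun c y => by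
      obtain ⟨i, w, hw⟩ := Types.jointly_surjective_of_isColimit
        (isColimitOfPreserves ((evaluation (Cᵒᵖ)ᵒᵖ (Type _)).obj (op (op c))) P.coconeIsColimit) y
      refine ⟨i, (w : op c ⟶ P.F.obj i).unop, Eq.trans ?_ hw⟩
      refine (NatTrans.naturality_apply (P.ι.app i) (w : op c ⟶ P.F.obj i).op (𝟙 (P.F.obj i))).symm.trans ?_
      exact congrArg ((P.ι.app i).app (op (op c))) (Category.comp_id w)
    have htx : ∀ i, t _ (x i) = limit.π P.F.leftOp (op i) := fun i => by
      have h := congrArg (fun r => (r.app (op (P.F.obj i)) (𝟙 (P.F.obj i))).unop) (P.coconeIsColimit.fac sc i)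
      exact h.trans (Category.comp_id (limit.π P.F.leftOp (op i)))
    have hsec : ∀ (c : C) (y : F.obj c), F.map (t c y) ξ = y := fun c y => by
      obtain ⟨i, g, rfl⟩ := hgen c y
      rw [htn, show t _ (x i) = _ from htx i, Functor.map_comp_apply]
      exact congrArg (F.map g) (hξ (op i))
    let e := t L ξ
    have he : F.map e ξ = ξ := hsec L ξ
    let K := equalizer (𝟙 L) e
    have hee : e ≫ e = e := by
      show t L ξ ≫ e = t L ξ
      rw [← htn, he]
    let p : L ⟶ K := equalizer.lift e (by rw [Category.comp_id, hee])
    have hp : p ≫ equalizer.ι (𝟙 L) e = e := equalizer.lift_ι _ _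
    have hιe : equalizer.ι (𝟙 L) e ≫ e = equalizer.ι (𝟙 L) e :=
      (equalizer.condition _ _).symm.trans (Category.comp_id _)
    have hιp : equalizer.ι (𝟙 L) e ≫ p = 𝟙 K := equalizer.hom_ext (by rw [Category.assoc, hp, hιe, Category.id_comp])
    exact Functor.CorepresentableBy.isCorepresentable (F := F) (X := K)
      { homEquiv := fun {c} =>
          { toFun := fun g => F.map g (F.map p ξ)
            invFun := fun y => equalizer.ι (𝟙 L) e ≫ t c y
            left_inv := fun g => by
              show equalizer.ι (𝟙 L) e ≫ t c (F.map g (F.map p ξ)) = g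
              rw [htn, htn]
              show equalizer.ι (𝟙 L) e ≫ (e ≫ p) ≫ g = g
              rw [← Category.assoc, ← Category.assoc, hιe, hιp, Category.id_comp]
            right_inv := fun y => by
              show F.map (equalizer.ι (𝟙 L) e ≫ t c y) (F.map p ξ) = y
              rw [← Functor.map_comp_apply, ← Category.assoc, hp, Functor.map_comp_apply, he, hsec] }
        homEquiv_comp := fun g f => Functor.map_comp_apply F f g _ }

end Groth.Agent.S6137
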