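import Groth.Statements.S6139


set_option autoImplicit false
set_option backward.isDefEq.respectTransparency false
set_option backward.isDefEq.respectTransparency.types false
open CategoryTheory CategoryTheory.Limits
universe v u
open SGA4

namespace Groth.Agent.S6139

/-- For an object `X` of a category `C`, the empty sieve on `X` is covering for the canonical topology
of `C` (the finest topology for which every representable presheaf is a sheaf) if and only if `X` is
a strict initial object: `X` is initial and every morphism with target `X` is an isomorphism. (The
source phrases the first condition as: for some topology coarser than the canonical one the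
associated sheaf of `h_X` is initial; that sheaf is initial exactly when the empty sieve covers `X`,
and coverage by the empty sieve passes to the finer canonical topology.) -/
theorem result
    {C : Type u} [Category.{v} C] (X : C) :
    (⊥ : Sieve X) ∈ Sheaf.canonicalTopology C X ↔
      (Nonempty (IsInitial X) ∧ ∀ (Y : C) (f : Y ⟶ X), IsIso f) := by
  constructor
  · intro hX
    have hinit : ∀ (Y : C) (f : Y ⟶ X), Nonempty (IsInitial Y) := fun Y f => by
      have hY : (⊥ : Sieve Y) ∈ Sheaf.canonicalTopology C Y :=
        (Sheaf.canonicalTopology C).superset_covering (fun Z g hg => False.elim hg)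
          ((Sheaf.canonicalTopology C).pullback_stable f hX)
      refine ⟨IsInitial.ofUniqueHom (fun W => ((Sheaf.isSheaf_yoneda_obj W _ hY) (fun _ _ h => False.elim h)
        (fun _ _ _ _ _ _ _ h => False.elim h)).choose) fun W g => ?_⟩
      exact (Sheaf.isSheaf_yoneda_obj W _ hY).isSeparatedFor.ext fun _ _ h => False.elim h
    refine ⟨hinit X (𝟙 X), fun Y f => ?_⟩
    obtain ⟨hX'⟩ := hinit X (𝟙 X)
    obtain ⟨hY'⟩ := hinit Y f
    exact ⟨hX'.to Y, hY'.hom_ext _ _, hX'.hom_ext _ _⟩
  · rintro ⟨⟨hX⟩, hiso⟩
    refine Sheaf.mem_finestTopology_of_forall_isSheafFor ?_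
    rintro _ ⟨W, rfl⟩ Y f x hx
    have := hiso Y f
    have hY : IsInitial Y := hX.ofIso (asIso f).symm
    exact ⟨hY.to W, fun Z g hg => False.elim hg, fun t _ => hY.hom_ext _ _⟩

end Groth.Agent.S6139
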