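import Groth.Statements.S6141
import Mathlib.CategoryTheory.Monad.Adjunction
import Mathlib.CategoryTheory.Sites.Pullback
import Mathlib.CategoryTheory.Sites.CoverLifting

set_option autoImplicit false
set_option backward.isDefEq.respectTransparency false
set_option backward.isDefEq.respectTransparency.types false
open CategoryTheory
universe u
open SGA4

namespace Groth.Agent.S6141

/-- Let `u : C ⥤ C'` be a functor between small sites which is continuous and cocontinuous. If `u` is
full and faithful, then the left adjoint `u_!` of the restriction functor `u^*` on sheaves of sets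
is full and faithful. -/
theorem result
    {C : Type u} [SmallCategory C] {C' : Type u} [SmallCategory C']
    (J : GrothendieckTopology C) (K : GrothendieckTopology C') (u : C ⥤ C')
    [u.IsContinuous J K] [u.IsCocontinuous J K] [u.Full] [u.Faithful] :
    (u.sheafPullback (Type u) J K).Full ∧ (u.sheafPullback (Type u) J K).Faithful := by
  open CategoryTheory.Limits in
  let e : Functor.sheafPullbackConstruction.sheafPullback u (Type u) J K ⋙
      u.sheafPushforwardContinuous (Type u) J K ≅ 𝟭 (Sheaf J (Type u)) :=
    Functor.isoWhiskerLeft (sheafToPresheaf J (Type u)) (Functor.isoWhiskerLeft u.op.lan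
        (u.pushforwardContinuousSheafificationCompatibility (Type u) J K).symm ≪≫
      (Functor.associator _ _ _).symm ≪≫
      Functor.isoWhiskerRight (asIso u.op.lanUnit).symm (presheafToSheaf J (Type u)) ≪≫
      Functor.leftUnitor _) ≪≫
    asIso (sheafificationAdjunction J (Type u)).counit
  haveI := (u.sheafAdjunctionContinuous (Type u) J K).isIso_unit_of_iso
    (Functor.isoWhiskerRight (Functor.sheafPullbackConstruction.sheafPullbackIso u (Type u) J K) _ ≪≫ e)
  have h := (u.sheafAdjunctionContinuous (Type u) J K).fullyFaithfulLOfIsIsoUnit
  exact ⟨h.full, h.faithful⟩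

end Groth.Agent.S6141
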