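import Groth.Statements.S6142
import Mathlib.CategoryTheory.Limits.Presheaf
import Mathlib.CategoryTheory.Sites.Subcanonical

set_option autoImplicit false
set_option backward.isDefEq.respectTransparency false
set_option backward.isDefEq.respectTransparency.types false
open CategoryTheory
universe u
open SGA4

namespace Groth.Agent.S6142

/-- Let `u : C ⥤ C'` be a continuous and cocontinuous functor between small sites whose topologies are
subcanonical. If the left adjoint `u_!` of the restriction functor `u^*` on sheaves of sets is full
and faithful, then `u` is full and faithful. -/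
theorem result
    {C : Type u} [SmallCategory C] {C' : Type u} [SmallCategory C']
    (J : GrothendieckTopology C) (K : GrothendieckTopology C') [J.Subcanonical] [K.Subcanonical]
    (u : C ⥤ C') [u.IsContinuous J K] [u.IsCocontinuous J K]
    (h : (u.sheafPullback (Type u) J K).Full ∧ (u.sheafPullback (Type u) J K).Faithful) :
    u.Full ∧ u.Faithful := by
  open CategoryTheory.Limits in
  obtain ⟨_, _⟩ := h
  let e : J.yoneda ⋙ u.sheafPullback (Type u) J K ≅ u ⋙ K.yoneda :=
    Functor.isoWhiskerLeft _ (Functor.sheafPullbackConstruction.sheafPullbackIso u (Type u) J K) ≪≫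
    (Functor.associator _ _ _).symm ≪≫
    Functor.isoWhiskerRight (Functor.isoWhiskerLeft _ (Iso.refl _) : J.yoneda ⋙ sheafToPresheaf J (Type u) ≅
      J.yoneda ⋙ sheafToPresheaf J (Type u)) _ ≪≫
    (Functor.associator _ _ _).symm ≪≫
    Functor.isoWhiskerRight ((Functor.isoWhiskerRight uliftYonedaIsoYoneda.symm u.op.lan) ≪≫
      (Presheaf.compULiftYonedaIsoULiftYonedaCompLan.{u} u).symm ≪≫
      Functor.isoWhiskerLeft u uliftYonedaIsoYoneda) (presheafToSheaf K (Type u)) ≪≫
    Functor.associator _ _ _ ≪≫
    Functor.isoWhiskerLeft u (Functor.isoWhiskerLeft K.yoneda (asIso (sheafificationAdjunction K (Type u)).counit) ≪≫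
      Functor.rightUnitor _)
  have : (u ⋙ K.yoneda).Full := Functor.Full.of_iso e
  have : (u ⋙ K.yoneda).Faithful := Functor.Faithful.of_iso e
  exact ⟨Functor.Full.of_comp_faithful u K.yoneda, Functor.Faithful.of_comp u K.yoneda⟩

end Groth.Agent.S6142
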