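import Groth.Statements.S6143
import Groth.Agent.ToposFinLib.CanonicalEps

set_option autoImplicit false
set_option backward.isDefEq.respectTransparency false
set_option backward.isDefEq.respectTransparency.types false
open CategoryTheory CategoryTheory.Limits
universe u
open SGA4

namespace Groth.Agent.S6143

/-- Let `C` be a small category, `X` an object and `s i : Y i ⟶ X` a family of morphisms all of whose
base changes exist. Then the associated sheaf of `h_X` for the canonical topology, with the maps
induced by the `s i`, is a coproduct of the associated sheaves of the `h_{Y i}` (in sheaves of sets
for the canonical topology) if and only if `X` is a disjoint universal coproduct of the `Y i` in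
`C`: the cofan `(X, s)` is a colimit, the injections of a coproduct of the family are monomorphisms
with pairwise pullbacks initial, and the colimit is stable under base change. (The source asks for
the coproduct decomposition after sheafification for some topology coarser than the canonical one;
this is equivalent to asking it for the canonical topology itself.) -/
theorem result
    {C : Type u} [SmallCategory C] {X : C} {ι : Type u} (Y : ι → C) (s : ∀ i, Y i ⟶ X)
    [∀ (i : ι) (Z : C) (g : Z ⟶ X), HasPullback (s i) g] :
    Nonempty (IsColimit (Cofan.mk
        ((presheafToSheaf (Sheaf.canonicalTopology C) (Type u)).obj (yoneda.obj X))
        (fun i => (presheafToSheaf (Sheaf.canonicalTopology C) (Type u)).map (yoneda.map (s i))))) ↔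
      (Nonempty (IsColimit (Cofan.mk X s)) ∧ CoproductDisjoint Y ∧
        IsUniversalColimit (Cofan.mk X s)) := by
  exact Groth.Agent.CanonEps.isColimit_cofan_iff Y s

end Groth.Agent.S6143
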