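import Groth.Statements.S6144
import Mathlib.CategoryTheory.Generator.Basic
import Mathlib.CategoryTheory.Limits.Shapes.Diagonal
import Mathlib.Logic.Small.Set

set_option autoImplicit false
set_option backward.isDefEq.respectTransparency false
set_option backward.isDefEq.respectTransparency.types false
open CategoryTheory CategoryTheory.Limits
universe w v u
open SGA4

namespace Groth.Agent.S6144

/-- Let `E` be a category with `v`-small hom-sets and pullbacks, admitting a detecting family of objects
indexed by a `v`-small type (maps out of the family jointly reflect isomorphisms). Then every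
detecting family `Y : I → E`, indexed by an arbitrary type, contains a detecting subfamily indexed
by a `v`-small subset of `I`. -/
theorem result
    {E : Type u} [Category.{v} E] [HasPullbacks E] {κ : Type v} (G : κ → E)
    (hG : (ObjectProperty.ofObj G).IsDetecting) {I : Type w} (Y : I → E)
    (hY : (ObjectProperty.ofObj Y).IsDetecting) :
    ∃ J : Set I, Small.{v} J ∧ (ObjectProperty.ofObj (fun j : J => Y j)).IsDetecting := by
  open CategoryTheory.Limits in
  have hsm : ObjectProperty.Small.{v} (ObjectProperty.ofObj G) :=
    small_of_surjective (f := fun k : κ => (⟨G k, ⟨k⟩⟩ : Subtype (ObjectProperty.ofObj G)))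
      (by rintro ⟨_, ⟨k⟩⟩; exact ⟨k, rfl⟩)
  have hwp : WellPowered.{v} E := wellPowered_of_isDetecting hG
  classical
  have key : ∀ (k : κ) (m : Subobject (G k)), ¬ IsIso m.arrow →
      ∃ (i : I) (g : Y i ⟶ G k), ¬ m.Factors g := by
    intro k m hm
    by_contra hcon
    push Not at hcon
    refine hm (hY m.arrow fun Z hZ g => ?_)
    obtain ⟨i⟩ := hZ
    obtain ⟨g', hg'⟩ := (⟨_, Subobject.factorThru_arrow m g (hcon i g)⟩ : ∃ g', g' ≫ m.arrow = g)
    exact ⟨g', hg', fun q hq => by rw [← cancel_mono m.arrow, hq, hg']⟩
  choose i g hg using key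
  let T := Σ k : κ, {m : Subobject (G k) // ¬ IsIso m.arrow}
  let J : Set I := Set.range fun t : T => i t.1 t.2.1 t.2.2
  have : ∀ k : κ, Small.{v} (Subobject (G k)) := fun k => WellPowered.subobject_small (G k)
  have : Small.{v} T := inferInstance
  refine ⟨J, small_range _, ?_⟩
  have mono_case : ∀ {A B : E} (f : A ⟶ B) [Mono f],
      (∀ (j : J) (h : Y j ⟶ B), ∃ h', h' ≫ f = h) → IsIso f := by
    intro A B f _ hf
    refine hG f fun Z hZ h => ?_
    obtain ⟨k⟩ := hZ
    let m := Subobject.mk (pullback.fst h f)
    have hm : IsIso m.arrow := by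
      by_contra hm
      obtain ⟨h', hh'⟩ := hf ⟨_, ⟨⟨k, m, hm⟩, rfl⟩⟩ (g k m hm ≫ h)
      exact hg k m hm ((Subobject.mk_factors_iff _ _).2 ⟨pullback.lift (g k m hm) h' hh'.symm,
        pullback.lift_fst _ _ _⟩)
    have hiso : IsIso (pullback.fst h f) := by
      have := (Subobject.isIso_arrow_iff_eq_top m).1 hm
      exact (Subobject.isIso_iff_mk_eq_top _).2 this
    exact ⟨inv (pullback.fst h f) ≫ pullback.snd h f,
      by show (inv (pullback.fst h f) ≫ pullback.snd h f) ≫ f = h
         rw [Category.assoc, ← pullback.condition, IsIso.inv_hom_id_assoc],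
      fun q hq => by rw [← cancel_mono f, hq, Category.assoc, ← pullback.condition, IsIso.inv_hom_id_assoc]⟩
  intro A B f hf
  have hdiag : IsIso (pullback.diagonal f) := by
    refine mono_case _ fun j h => ?_
    have : h ≫ pullback.fst f f = h ≫ pullback.snd f f :=
      (hf (Y j) ⟨j⟩ (h ≫ pullback.fst f f ≫ f)).unique (Category.assoc _ _ _)
        (by rw [Category.assoc, pullback.condition])
    refine ⟨h ≫ pullback.fst f f, ?_⟩
    ext
    · simp
    · simp [this]
  have : Mono f := ⟨fun {Z} a b hab => by
    have e1 : pullback.fst f f = pullback.snd f f := by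
      rw [← cancel_epi (pullback.diagonal f), pullback.diagonal_fst, pullback.diagonal_snd]
    have := congrArg (pullback.lift a b hab ≫ ·) e1
    simpa using this⟩
  exact mono_case f fun j h => (hf (Y j) ⟨j⟩ h).exists

end Groth.Agent.S6144
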