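import Groth.Statements.S6147
import Groth.Agent.ModTensor.ProjSheaf

set_option autoImplicit false
universe u
open CategoryTheory
open ModSite

namespace Groth.Agent.S6147

/-- Ringed topos of sheaves on a small site with commutative structure sheaf O: if M is a flat O-module
then for every object V of the site the restriction j_V^* M = M|V is a flat O|V-module on C/V. -/
theorem result {C : Type u} [SmallCategory C] {J : GrothendieckTopology C} (O : Sheaf J CommRingCat.{u})
    (M : ModSite.Mod O) (hM : ModSite.IsFlat M) (V : C) :
    ModSite.IsFlat ((ModSite.restr O V).obj M) := by
  exact ModTensor.isFlat_restr hM V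

end Groth.Agent.S6147
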