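import Groth.Statements.S6149
import Groth.Agent.ModTensor.Flat

set_option autoImplicit false
universe u
open CategoryTheory
open ModSite

namespace Groth.Agent.S6149

open CategoryTheory.Limits in
/-- Ringed topos of sheaves on a small site with commutative structure sheaf O: let M be an acyclic
chain complex of flat O-modules with M_i = 0 for i below some bound. Then for every O-module F the
complex M (x)_O F (tensoring termwise with F) is acyclic. The instance binder on the tensor functor
(it preserves zero morphisms) always holds and is only needed to form the complex. -/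
theorem result {C : Type u} [SmallCategory C] {J : GrothendieckTopology C}
    (O : Sheaf J CommRingCat.{u}) (M : ChainComplex (ModSite.Mod O) ℤ) (F : ModSite.Mod O)
    [((ModSite.tensorBi O).flip.obj F).PreservesZeroMorphisms]
    (hb : ∃ i₀ : ℤ, ∀ i, i < i₀ → IsZero (M.X i)) (hM : ∀ i, ModSite.IsFlat (M.X i)) (hac : M.Acyclic) :
    ((((ModSite.tensorBi O).flip.obj F).mapHomologicalComplex (ComplexShape.down ℤ)).obj M).Acyclic := by
  let T := (ModSite.tensorBi O).flip.obj F
  obtain ⟨i₀, hi₀⟩ := hb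
  let Z : ℤ → ModSite.Mod O := fun i => kernel (M.d i (i - 1))
  have hex : ∀ i, (M.sc' (i + 1) i (i - 1)).Exact := fun i =>
    (M.exactAt_iff' _ _ _ (by simp) (by simp)).1 (hac i)
  have hd : ∀ i, M.d (i + 1) i ≫ M.d i (i - 1) = 0 := fun i => M.d_comp_d _ _ _
  let q : ∀ i, M.X i ⟶ Z (i - 1) := fun i => kernel.lift _ (M.d i (i - 1)) (M.d_comp_d _ _ _)
  let S : ℤ → ShortComplex (ModSite.Mod O) := fun i => ShortComplex.mk (kernel.ι (M.d i (i - 1))) (q i) (by
    rw [← cancel_mono (kernel.ι (M.d (i - 1) (i - 1 - 1))), Category.assoc, kernel.lift_ι, kernel.condition, zero_comp])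
  have hS : ∀ i, (S i).ShortExact := fun i =>
    { exact := by
        let φ : S i ⟶ ShortComplex.mk (kernel.ι (M.d i (i - 1))) (M.d i (i - 1)) (kernel.condition _) :=
          { τ₁ := 𝟙 _, τ₂ := 𝟙 _, τ₃ := kernel.ι _
            comm₁₂ := (Category.id_comp _).trans (Category.comp_id _).symm
            comm₂₃ := (Category.id_comp _).trans (kernel.lift_ι _ _ _).symm }
        have : Epi φ.τ₁ := inferInstanceAs (Epi (𝟙 _))
        have : IsIso φ.τ₂ := inferInstanceAs (IsIso (𝟙 _))
        have : Mono φ.τ₃ := inferInstanceAs (Mono (kernel.ι _))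
        exact (ShortComplex.exact_iff_of_epi_of_isIso_of_mono φ).2
          (ShortComplex.exact_of_f_is_kernel _ (kernelIsKernel _))
      mono_f := inferInstanceAs (Mono (kernel.ι _))
      epi_g := by
        have h := (M.exactAt_iff' i (i - 1) (i - 1 - 1) (by simp) (by simp)).1 (hac (i - 1))
        exact ((M.sc' i (i - 1) (i - 1 - 1)).exact_iff_epi_kernel_lift).1 h }
  have hZ : ∀ i, ModSite.IsFlat (Z i) := by
    have h0 : ∀ i, i < i₀ → ModSite.IsFlat (Z i) := fun i hi =>
      ModTensor.isFlat_of_iso (IsZero.iso (hi₀ i hi) (IsZero.of_mono (kernel.ι _) (hi₀ i hi))) (hM i)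
    intro i
    by_cases hi : i < i₀
    · exact h0 i hi
    · induction i, (not_lt.1 hi) using Int.le_induction with
      | base => exact ModTensor.isFlat_X₁ (hS i₀) (hM i₀) (h0 (i₀ - 1) (by omega))
      | succ n hn ih =>
        exact ModTensor.isFlat_X₁ (hS (n + 1)) (hM (n + 1)) (by
          show ModSite.IsFlat (Z (n + 1 - 1))
          rw [add_sub_cancel_right]
          exact ih (by omega))
  have hT : ∀ i, ((S i).map T).ShortExact := fun i => ModTensor.shortExact_flip_of_isFlat (hS i) (hZ (i - 1)) F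
  intro i
  rw [HomologicalComplex.exactAt_iff' _ (i + 1) i (i - 1) (by simp) (by simp)]
  let e : Z (i + 1 - 1) ⟶ Z i := eqToHom (congrArg Z (add_sub_cancel_right i 1))
  have he : q (i + 1) ≫ e ≫ kernel.ι (M.d i (i - 1)) = M.d (i + 1) i := by
    have : ∀ (k : ℤ) (hk : k = i), kernel.lift (M.d k (k - 1)) (M.d (i + 1) k) (M.d_comp_d _ _ _) ≫
        eqToHom (congrArg Z hk) ≫ kernel.ι (M.d i (i - 1)) = M.d (i + 1) i := by
      rintro k rfl
      simp [Z]
    exact this (i + 1 - 1) (add_sub_cancel_right i 1)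
  let S₂ := ShortComplex.mk (T.map (kernel.ι (M.d i (i - 1)))) (T.map (M.d i (i - 1)))
    (by rw [← Functor.map_comp, kernel.condition, Functor.map_zero])
  let φ : (S i).map T ⟶ S₂ :=
    { τ₁ := 𝟙 _, τ₂ := 𝟙 _, τ₃ := T.map (kernel.ι _)
      comm₁₂ := (Category.id_comp _).trans (Category.comp_id _).symm
      comm₂₃ := by
        refine (Category.id_comp _).trans ((T.map_comp _ _).symm.trans ?_).symm
        exact congrArg (fun t => T.map t) (kernel.lift_ι _ _ _) }
  have : Epi φ.τ₁ := inferInstanceAs (Epi (𝟙 _))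
  have : IsIso φ.τ₂ := inferInstanceAs (IsIso (𝟙 _))
  have : Mono φ.τ₃ := (hT (i - 1)).mono_f
  have h₂ : S₂.Exact := (ShortComplex.exact_iff_of_epi_of_isIso_of_mono φ).1 (hT i).exact
  let ψ : (((T.mapHomologicalComplex (ComplexShape.down ℤ)).obj M).sc' (i + 1) i (i - 1)) ⟶ S₂ :=
    { τ₁ := T.map (q (i + 1)) ≫ T.map e, τ₂ := 𝟙 _, τ₃ := 𝟙 _
      comm₁₂ := by
        refine Eq.trans ?_ (Category.comp_id _).symm
        show (T.map (q (i + 1)) ≫ T.map e) ≫ T.map (kernel.ι _) = T.map (M.d (i + 1) i)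
        rw [Category.assoc, ← T.map_comp, ← T.map_comp, he]
      comm₂₃ := (Category.id_comp _).trans (Category.comp_id _).symm }
  have : Epi (T.map (q (i + 1))) := (hT (i + 1)).epi_g
  have : IsIso (T.map e) := inferInstanceAs (IsIso (T.map (eqToHom _)))
  have : Epi ψ.τ₁ := @epi_comp _ _ _ _ _ (T.map (q (i + 1))) (hT (i + 1)).epi_g (T.map e) inferInstance
  have : IsIso ψ.τ₂ := inferInstanceAs (IsIso (𝟙 _))
  have : Mono ψ.τ₃ := inferInstanceAs (Mono (𝟙 _))
  exact (ShortComplex.exact_iff_of_epi_of_isIso_of_mono ψ).2 h₂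


end Groth.Agent.S6149
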