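import Groth.Statements.S6159
import Groth.Agent.ToposFinLib.Continuous

set_option autoImplicit false
set_option backward.isDefEq.respectTransparency false
set_option backward.isDefEq.respectTransparency.types false
universe u
open CategoryTheory
open SGA4

namespace Groth.Agent.S6159

open CategoryTheory.Limits in
/-- Sheaf topoi on small sites (C, J), (D, K), each with its canonical topology: a functor f from
sheaves of sets on C to sheaves of sets on D commutes with all u-small colimits if and only if it is
continuous, i.e. composition with f carries every sheaf of sets for the canonical topology of the
target to a sheaf for the canonical topology of the source. (Continuity is Mathlib's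
`Functor.IsContinuous`: on these large sites it tests sheaves with values in the next universe,
`Type (u+1)`, which is the source's choice of a larger universe for the test sheaves; the hom
universe is u. The equivalence of both conditions with f being a left adjoint is a separate result,
not stated here.) -/
theorem result {C D : Type u} [SmallCategory C] [SmallCategory D]
    (J : GrothendieckTopology C) (K : GrothendieckTopology D) (f : Sheaf J (Type u) ⥤ Sheaf K (Type u)) :
    PreservesColimitsOfSize.{u, u} f ↔
      f.IsContinuous.{u} (Sheaf.canonicalTopology (Sheaf J (Type u))) (Sheaf.canonicalTopology (Sheaf K (Type u))) := by
  exact Groth.Agent.ToposFinLib.preservesColimits_iff_isContinuous f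

end Groth.Agent.S6159
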