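import Groth.Statements.S6170
import Groth.Agent.ModTensor.ProjSheaf
import Groth.Agent.ModTensor.FreeOn

set_option autoImplicit false
universe u
open CategoryTheory
open ModSite

namespace Groth.Agent.S6170

/-- Ringed topos of sheaves on a small site with commutative structure sheaf O: the sections of the
internal hom Hom_O(M, N) over an object X form a group isomorphic to Hom_{O|X}(j_X^* M, j_X^* N).
Existence of an additive isomorphism only (the source's is canonical); the internal-hom binder
always holds. -/
theorem result {C : Type u} [SmallCategory C] {J : GrothendieckTopology C} (O : Sheaf J CommRingCat.{u})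
    (M N : ModSite.Mod O) [ModSite.HasSheafHom M] (X : C) :
    Nonempty (ModSite.sect ((ModSite.sheafHom M).obj N) X ≃+ ((ModSite.restr O X).obj M ⟶ (ModSite.restr O X).obj N)) := by
  let h := Groth.Agent.ModTensor.freeOnCorepr O X
  let H := (ModSite.sheafHom M).obj N
  let e₀ : ModSite.sect H X ≃+ (ModSite.freeOn O X ⟶ H) :=
    { (h.homEquiv (Y := H)).symm with
      map_add' := fun a b => (h.homEquiv (Y := H)).injective (by
        refine ((h.homEquiv (Y := H)).apply_symm_apply _).trans (Eq.symm ?_)
        refine (h.homEquiv_eq _).trans ?_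
        refine Eq.trans ?_ (congrArg₂ (fun s t : ModSite.sect H X => s + t) ((h.homEquiv (Y := H)).apply_symm_apply a)
          ((h.homEquiv (Y := H)).apply_symm_apply b))
        refine Eq.trans ?_ (congrArg₂ (fun s t : ModSite.sect H X => s + t) (h.homEquiv_eq _).symm (h.homEquiv_eq _).symm)
        rfl) }
  let i := Groth.Agent.ModTensor.freeOnTensorIso O X M
  have := Groth.Agent.ModTensor.additive_extZero O X
  exact ⟨e₀.trans (((ModSite.sheafHomAdj M).homAddEquiv (ModSite.freeOn O X) N).symm.trans
    ((AddEquiv.mk' ⟨fun t => i.inv ≫ t, fun t => i.hom ≫ t, fun t => i.hom_inv_id_assoc t, fun t => i.inv_hom_id_assoc t⟩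
      (fun s t => Preadditive.comp_add _ _ _ i.inv s t)).trans
      ((ModSite.extZeroAdj O X).homAddEquiv ((ModSite.restr O X).obj M) N)))⟩

end Groth.Agent.S6170
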