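import Groth.Statements.S6172
import Mathlib.CategoryTheory.Comma.Over.Pullback

set_option autoImplicit false
set_option backward.isDefEq.respectTransparency false
set_option backward.isDefEq.respectTransparency.types false
universe u
open CategoryTheory
open SGA4

namespace Groth.Agent.S6172

open CategoryTheory.Limits MonoidalCategory in
/-- Topos E of sheaves of sets on a small site, localised at an object Z: with j_Z : E/Z -> E the
localisation morphism, j_Z^* X = Z x X over Z, and j_{Z*} its right adjoint (taken as an instance
hypothesis, which holds in any topos), j_{Z*} j_Z^* Y is isomorphic to the internal hom Hom(Z, Y)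
for every object Y. Existence of an isomorphism only (the source's is canonical). -/
theorem result {C : Type u} [SmallCategory C] (J : GrothendieckTopology C)
    (Z Y : Sheaf J (Type u)) [(Over.star Z).IsLeftAdjoint] :
    Nonempty (((Over.star Z).rightAdjoint).obj ((Over.star Z).obj Y) ≅ (ihom Z).obj Y) := by
  open CategoryTheory.Limits CategoryTheory.MonoidalCategory CategoryTheory.CartesianMonoidalCategory in
  have e : Over.star Z ⋙ Over.forget Z ≅ MonoidalCategory.tensorLeft Z := by
    refine NatIso.ofComponents (fun T => ((CartesianMonoidalCategory.tensorProductIsBinaryProduct Z T).conePointUniqueUpToIso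
      (prodIsProd Z T)).symm) fun {T T'} g => ?_
    have h1 : ∀ T : Sheaf J (Type u), ((CartesianMonoidalCategory.tensorProductIsBinaryProduct Z T).conePointUniqueUpToIso
        (prodIsProd Z T)).inv = CartesianMonoidalCategory.lift prod.fst prod.snd := fun T => by
      apply CartesianMonoidalCategory.hom_ext
      · exact (IsLimit.conePointUniqueUpToIso_inv_comp (CartesianMonoidalCategory.tensorProductIsBinaryProduct Z T)
          (prodIsProd Z T) ⟨WalkingPair.left⟩).trans (CartesianMonoidalCategory.lift_fst _ _).symm
      · exact (IsLimit.conePointUniqueUpToIso_inv_comp (CartesianMonoidalCategory.tensorProductIsBinaryProduct Z T)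
          (prodIsProd Z T) ⟨WalkingPair.right⟩).trans (CartesianMonoidalCategory.lift_snd _ _).symm
    simp only [Iso.symm_hom, h1, Functor.comp_map, Over.forget_map]
    show ((Over.star Z).map g).left ≫ (CartesianMonoidalCategory.lift prod.fst prod.snd : Z ⨯ T' ⟶ Z ⊗ T') =
      (CartesianMonoidalCategory.lift prod.fst prod.snd : Z ⨯ T ⟶ Z ⊗ T) ≫ Z ◁ g
    have e' : ((Over.star Z).map g).left = (prod.map (𝟙 Z) g : Z ⨯ T ⟶ Z ⨯ T') := Over.star_map_left Z g
    rw [e']
    apply CartesianMonoidalCategory.hom_ext
    · rw [Category.assoc, Category.assoc, CartesianMonoidalCategory.lift_fst, CartesianMonoidalCategory.whiskerLeft_fst,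
        CartesianMonoidalCategory.lift_fst, prod.map_fst, Category.comp_id]
    · rw [Category.assoc, Category.assoc, CartesianMonoidalCategory.lift_snd, CartesianMonoidalCategory.whiskerLeft_snd,
        CartesianMonoidalCategory.lift_snd_assoc, prod.map_snd]
  have adj₁ : Over.star Z ⋙ Over.forget Z ⊣ Over.star Z ⋙ (Over.star Z).rightAdjoint :=
    (Adjunction.ofIsLeftAdjoint (Over.star Z)).comp (Over.forgetAdjStar Z)
  exact ⟨(Adjunction.rightAdjointUniq (adj₁.ofNatIsoLeft e) (ihom.adjunction Z)).app Y⟩

end Groth.Agent.S6172
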