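import Groth.Statements.S6173
import Groth.Agent.DeligneLib.Local

set_option autoImplicit false
set_option backward.isDefEq.respectTransparency false
set_option backward.isDefEq.respectTransparency.types false
universe u
open CategoryTheory
open SGA4

namespace Groth.Agent.S6173

/-- Second assertion (topos of sheaves on a small site (C, J); E/X_i the induced topoi, modelled by the
sites (C/X_i, J/X_i); 'enough points' = a small conservative family of points, equivalently all
fibre functors together are conservative): if (X_i) is a family of objects covering the final object
and every E/X_i has enough points, then E has enough points. (The first assertion, that E/X inherits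
enough points from E, is Mathlib's instance.) -/
theorem result {C : Type u} [SmallCategory C] (J : GrothendieckTopology C) {ι : Type u}
    (X : ι → C) (hX : J.CoversTop X) (h : ∀ i, GrothendieckTopology.HasEnoughPoints.{u} (J.over (X i))) :
    GrothendieckTopology.HasEnoughPoints.{u} J := by
  exact Groth.Agent.DeligneLib.hasEnoughPoints_of_coversTop X hX h

end Groth.Agent.S6173
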