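import Groth.Statements.S6174
import Groth.Agent.SiteBase.CechSieve

set_option autoImplicit false
universe u
open CategoryTheory
open CohSite

namespace Groth.Agent.S6174

open CategoryTheory.Limits in
/-- C a small category with fibre products; presheaves are the sheaves for the trivial topology: for a
presheaf of abelian groups M, a family of arrows (U_i -> X) and the sieve R it generates, viewed as
a sub-presheaf of h_X, the Cech cohomology group H^q((U_i -> X), M) is isomorphic to H^q(R, M), the
q-th Ext group out of the free abelian presheaf on R. Existence of an isomorphism only (the source's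
is canonical). -/
theorem result {C : Type u} [SmallCategory C] [HasPullbacks C]
    (M : Cᵒᵖ ⥤ AddCommGrpCat.{u}) {X : C} {ι : Type u} (Y : ι → Over X) (q : ℕ) :
    Nonempty (CohCx.cechH M Y q ≅ AddCommGrpCat.of (CohCx.HK (J := (⊥ : GrothendieckTopology C))
      ⟨(Sieve.ofArrows (fun i => (Y i).left) (fun i => (Y i).hom)).functor, Presheaf.isSheaf_bot _⟩
      ⟨M, Presheaf.isSheaf_bot _⟩ q)) := by
  obtain ⟨e⟩ := Groth.Agent.SiteBase.CechSieve.nonempty_cech_addEquiv_ext (Groth.Agent.SiteBase.ctxOver Y)
    (Groth.Agent.SiteBase.injAcyclic_over Y) q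
    (⟨M, Presheaf.isSheaf_bot _⟩ : Groth.Agent.SiteBase.CechSieve.Psh C)
  exact ⟨e.toAddCommGrpIso⟩


end Groth.Agent.S6174
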