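import Groth.Statements.S6175
import Groth.Agent.SiteBase.HomTensor

set_option autoImplicit false
universe u
open CategoryTheory
open ModSite

namespace Groth.Agent.S6175

/-- Ringed site (C, O), small, commutative structure sheaf; F of finite presentation, H flat, G any
module: Hom_O(F, G) (x)_O H is isomorphic to Hom_O(F, G (x)_O H). Existence of an isomorphism only:
the source proves that the canonical map is an isomorphism; the internal-hom binder always holds. -/
theorem result {C : Type u} [SmallCategory C]
    {J : GrothendieckTopology C} (O : Sheaf J CommRingCat.{u}) (F G H : ModSite.Mod O) [F.IsFinitePresentation]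
    [ModSite.HasSheafHom F] (hH : ModSite.IsFlat H) :
    Nonempty (((ModSite.tensorBi O).obj ((ModSite.sheafHom F).obj G)).obj H ≅
      (ModSite.sheafHom F).obj (((ModSite.tensorBi O).obj G).obj H)) := by
  exact ⟨(((ModSite.tensorBi O).mapIso ((HHom.sheafHomIso F).app G)).app H).symm ≪≫
    HomTensor.cmpIso F G H hH ≪≫ (HHom.sheafHomIso F).app (((ModSite.tensorBi O).obj G).obj H)⟩


end Groth.Agent.S6175
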