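import Groth.Statements.S6176


set_option autoImplicit false
set_option backward.isDefEq.respectTransparency false
set_option backward.isDefEq.respectTransparency.types false
universe u
open CategoryTheory
open SGA4

namespace Groth.Agent.S6176

open CategoryTheory.Limits in
/-- The clause on products (topos of sheaves of sets on a small site; j : E/U -> E the open embedding
defined by an open U, i.e. a subobject of the final object, so that j_! is the forgetful functor
from objects over U): j_! commutes with products indexed by a nonempty u-small set. (Commutation
with fibre products and cofiltered limits, the other clauses, holds for the forgetful functor of any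
slice.) -/
theorem result {C : Type u} [SmallCategory C] (J : GrothendieckTopology C)
    (U : Sheaf J (Type u)) (hU : SGA4.IsOpen U) (I : Type u) [Nonempty I] :
    PreservesLimitsOfShape (Discrete I) (Over.forget U) := by
  open CategoryTheory.Limits in
  have hU' : Mono (terminal.from U) := hU
  have sub : ∀ {A : Sheaf J (Type u)} (a b : A ⟶ U), a = b := fun a b => by
    rw [← cancel_mono (terminal.from U)]
    exact terminal.hom_ext _ _
  obtain ⟨i₀⟩ := (inferInstance : Nonempty I)
  refine ⟨fun {K} => ⟨fun {c} hc => ⟨?_⟩⟩⟩
  let lift' : ∀ s : Cone (K ⋙ Over.forget U), Cone K := fun s =>
    { pt := Over.mk (s.π.app ⟨i₀⟩ ≫ (K.obj ⟨i₀⟩).hom)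
      π :=
        { app := fun j => Over.homMk (s.π.app j) (sub _ _)
          naturality := fun j j' g => by
            ext1
            exact s.π.naturality g } }
  refine { lift := fun s => (hc.lift (lift' s)).left, fac := fun s j => ?_, uniq := fun s m hm => ?_ }
  · exact congrArg CommaMorphism.left (hc.fac (lift' s) j)
  · have := hc.uniq (lift' s) (Over.homMk m (sub _ _)) (fun j => by ext1; exact hm j)
    exact congrArg CommaMorphism.left this

end Groth.Agent.S6176
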