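import Groth.Statements.S6180
import Groth.Agent.EtFound.Henselian
import Groth.Agent.EtFound.Detect

set_option backward.isDefEq.respectTransparency false
set_option backward.isDefEq.respectTransparency.types false

set_option autoImplicit false
open CategoryTheory CategoryTheory.Limits AlgebraicGeometry Opposite
universe u
open EtDesc

namespace Groth.Agent.S6180

/-- Let X be a scheme, x a point of X, R a strict henselisation of O_{X,x} with strict localisation X̄ =
Spec R -> X and attached geometric point ξ : Spec κ(R) -> X. The fibre functor F ↦ F_ξ on etale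
sheaves of sets on X is isomorphic to the functor F ↦ Γ(X̄, F̄), F̄ the inverse image of F on X̄.
(The published statement gives a canonical isomorphism — global sections of F̄ identified with its
stalk at the closed point of X̄, then with F_ξ; this row asserts only that an isomorphism of
functors exists.) -/
theorem result (X : Scheme.{u}) (x : X)
    (R : Type u) [CommRing R] [IsLocalRing R] [Algebra (X.presheaf.stalk x) R]
    [IsLocalHom (algebraMap (X.presheaf.stalk x) R)] [Hensel.IsStrictHenselization (X.presheaf.stalk x) R]
    [IsSepClosed (IsLocalRing.ResidueField R)] :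
    Nonempty ((Scheme.pointSmallEtale (Hens2.geomPt X x R)).sheafFiber (A := Type (u + 1)) ≅
      EtDesc.pullSh (Hens2.specOf X x R) ⋙
        (sheafSections (Spec (CommRingCat.of R)).smallEtaleTopology (Type (u + 1))).obj
          (op (EtCoh.top (Spec (CommRingCat.of R))))) := by
  haveI : HenselianLocalRing R := Hensel.IsStrictHenselization.henselian (R := X.presheaf.stalk x)
  let P := Scheme.pointSmallEtale (EtFound.cpt R)
  haveI : ∀ G : EtDesc.Sh (Spec (CommRingCat.of R)),
      IsIso (P.toPresheafFiber _ (EtFound.cptTop R) G.obj) := fun G =>
    (isIso_iff_bijective _).2 (EtFound.toPresheafFiber_top_bijective R G.obj)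
  let e : (sheafSections (Spec (CommRingCat.of R)).smallEtaleTopology (Type (u + 1))).obj
      (op (EtCoh.top (Spec (CommRingCat.of R)))) ≅ P.sheafFiber (A := Type (u + 1)) :=
    NatIso.ofComponents (fun G => asIso (P.toPresheafFiber _ (EtFound.cptTop R) G.obj))
      (fun φ => (P.toPresheafFiber_naturality φ.hom _ _).symm)
  exact ⟨(Functor.isoWhiskerLeft (EtDesc.pullSh (Hens2.specOf X x R)) e ≪≫
    EtFound.sheafFiberPullIso (A := Type (u + 1)) (Hens2.specOf X x R) (EtFound.cpt R)).symm⟩

end Groth.Agent.S6180
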