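import Groth.Statements.S6181
import Groth.Agent.EtFound.FiniteStalk
import Mathlib.CategoryTheory.Limits.Types.Products
-- import your own Groth.Agent.* helpers here

set_option autoImplicit false
open CategoryTheory CategoryTheory.Limits AlgebraicGeometry Opposite
universe u
open EtDesc

namespace Groth.Agent.S6181

/-- Let f : X -> Y be a finite morphism of schemes, Ω an algebraically closed field and η : Spec Ω -> Y
a geometric point. The functor F ↦ (f_* F)_η on etale sheaves of sets on X is isomorphic to the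
product, over the geometric points ξ : Spec Ω -> X lying over η, of the fibre functors F ↦ F_ξ. (The
published statement gives a canonical isomorphism and indexes the product by the points of the
geometric fibre over a separable closure of the residue field; this row asserts only that an
isomorphism of functors exists and indexes the product by the Ω-valued points of X over η, which for
Ω algebraically closed correspond to those points.) -/
theorem result {X Y : Scheme.{u}} (f : X ⟶ Y) [IsFinite f]
    {Ω : Type u} [Field Ω] [IsAlgClosed Ω] (η : Spec (CommRingCat.of Ω) ⟶ Y) :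
    Nonempty (EtDesc.pushSh f ⋙ (Scheme.pointSmallEtale η).sheafFiber (A := Type (u + 1)) ≅
      ∏ᶜ fun ξ : {ξ : Spec (CommRingCat.of Ω) ⟶ X // ξ ≫ f = η} =>
        ((Scheme.pointSmallEtale ξ.1).sheafFiber (A := Type (u + 1)) : EtDesc.Sh X ⥤ Type (u + 1))) := by
  let F : {ξ : Spec (CommRingCat.of Ω) ⟶ X // ξ ≫ f = η} → EtDesc.Sh X ⥤ Type (u + 1) := fun ξ =>
    (Scheme.pointSmallEtale ξ.1).sheafFiber (A := Type (u + 1))
  let α : EtDesc.pushSh f ⋙ (Scheme.pointSmallEtale η).sheafFiber (A := Type (u + 1)) ⟶ ∏ᶜ F :=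
    Pi.lift fun ξ => Groth.Agent.EtFound.pushStalkAt f ξ.2
  suffices h : ∀ G, IsIso (α.app G) by
    haveI := h
    haveI := NatIso.isIso_of_isIso_app α
    exact ⟨asIso α⟩
  intro G
  have hb := Groth.Agent.EtFound.pushStalkAt_bijective (A := Type (u + 1)) f (η := η) G
  let e := piObjIso F G
  have hπ : ∀ ξ, α.app G ≫ e.hom ≫ Pi.π (fun ξ => (F ξ).obj G) ξ =
      (Groth.Agent.EtFound.pushStalkAt f ξ.2).app G := fun ξ => by
    rw [piObjIso_hom_comp_π, ← NatTrans.comp_app, Pi.lift_π]
  have hval : ∀ p ξ, Pi.π (fun ξ => (F ξ).obj G) ξ ((α.app G ≫ e.hom) p) =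
      (Groth.Agent.EtFound.pushStalkAt f ξ.2).app G p := fun p ξ =>
    ConcreteCategory.congr_hom ((Category.assoc _ _ _).trans (hπ ξ)) p
  haveI : IsIso (α.app G ≫ e.hom) := by
    rw [ConcreteCategory.isIso_iff_bijective]
    refine ⟨fun p q h => hb.1 (funext fun ξ => ?_), fun z => ?_⟩
    · exact (hval p ξ).symm.trans ((by rw [h]) : _ = _) |>.trans (hval q ξ)
    · obtain ⟨p, hp⟩ := hb.2 (fun ξ => Pi.π (fun ξ => (F ξ).obj G) ξ z)
      exact ⟨p, Concrete.limit_ext (Discrete.functor fun ξ => (F ξ).obj G) _ _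
        fun ⟨ξ⟩ => (hval p ξ).trans (congrFun hp ξ)⟩
  exact IsIso.of_isIso_comp_right (α.app G) e.hom

end Groth.Agent.S6181
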