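import Groth.Statements.S6182
import Groth.Agent.ToposFinLib.Eps
import Groth.Agent.ToposFinLib.Algebraic

set_option autoImplicit false
set_option backward.isDefEq.respectTransparency false
set_option backward.isDefEq.respectTransparency.types false
open CategoryTheory CategoryTheory.Limits Opposite
universe u
open ToposFin

namespace Groth.Agent.S6182

/-- Let (C, J) and (D, K) be small sites with fibre products in which every object is quasi-compact, and
G : C -> D a continuous functor whose inverse-image functor on sheaves of sets f^* (the sheaf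
pullback along G, from sheaves on C to sheaves on D) preserves finite limits, so that G is a
morphism of sites and f a morphism of topoi. Then f is coherent: f^* sends quasi-compact objects to
quasi-compact objects and quasi-separated objects to quasi-separated objects. -/
theorem result {C D : Type u} [SmallCategory C] [SmallCategory D]
    [HasPullbacks C] [HasPullbacks D] (J : GrothendieckTopology C) (K : GrothendieckTopology D)
    (hC : ∀ X : C, ToposFin.IsQCSite J X) (hD : ∀ Y : D, ToposFin.IsQCSite K Y)
    (G : C ⥤ D) [Functor.IsContinuous G J K] [PreservesFiniteLimits (G.sheafPullback (Type u) J K)] :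
    (∀ X : ToposFin.Sh J, ToposFin.IsQC X → ToposFin.IsQC ((G.sheafPullback (Type u) J K).obj X)) ∧
      (∀ X : ToposFin.Sh J, ToposFin.IsQS X → ToposFin.IsQS ((G.sheafPullback (Type u) J K).obj X)) := by
  open Groth.Agent.ToposFinLib in
  let adj := G.sheafAdjunctionContinuous (Type u) J K
  haveI : (G.sheafPullback (Type u) J K).IsLeftAdjoint := adj.isLeftAdjoint
  have e : ∀ V, (G.sheafPullback (Type u) J K).obj (ToposFin.eps J V) ≅ ToposFin.eps K (G.obj V) := fun V => by
    let a := (adj.homEquiv (ToposFin.eps J V) (ToposFin.eps K (G.obj V))).symm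
      (epsDesc (Z := (G.sheafPushforwardContinuous (Type u) J K).obj (ToposFin.eps K (G.obj V))) (epsGen K (G.obj V)))
    let b : ToposFin.eps K (G.obj V) ⟶ (G.sheafPullback (Type u) J K).obj (ToposFin.eps J V) :=
      epsDesc ((adj.unit.app (ToposFin.eps J V)).hom.app _ (epsGen J V))
    have ha : (adj.homEquiv _ _ a).hom.app _ (epsGen J V) = epsGen K (G.obj V) := by
      rw [Equiv.apply_symm_apply, epsDesc_gen]
    rw [Adjunction.homEquiv_unit] at ha
    refine ⟨a, b, (adj.homEquiv _ _).injective (eps_hom_ext ?_), eps_hom_ext ?_⟩
    · rw [Adjunction.homEquiv_unit, Adjunction.homEquiv_unit, CategoryTheory.Functor.map_comp, CategoryTheory.Functor.map_id]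
      exact (congrArg (b.hom.app _) ha).trans (epsDesc_gen _)
    · exact (congrArg (a.hom.app _) (epsDesc_gen _)).trans ha
  have h : ∀ A, (∃ V, A = ToposFin.eps J V) → ToposFin.IsCoherent ((G.sheafPullback (Type u) J K).obj A) := by
    rintro A ⟨V, rfl⟩
    exact ⟨isQC_of_iso (e V).symm (isCoherent_eps hD _).1,
      isQS_of_isQSHom (isQSHom_of_mono (e V).hom) (isCoherent_eps hD _).2⟩
  exact ⟨fun X hX => map_isQC gen_eps _ (fun A hA => (h A hA).1) hX,
    fun X hX => map_isQS gen_eps (fun A ⟨V, hV⟩ => hV ▸ isCoherent_eps hC V) _ (gen_qc_of_site hD) h hX⟩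

end Groth.Agent.S6182
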