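import Groth.Statements.S6183
import Groth.Agent.EtLC12.AssocSec

set_option backward.isDefEq.respectTransparency false
set_option backward.isDefEq.respectTransparency.types false

set_option autoImplicit false
open CategoryTheory CategoryTheory.Limits AlgebraicGeometry Opposite
universe u
open EtZar

namespace Groth.Agent.S6183

/-- Let X be a scheme, F a quasi-coherent O_X-module and G the associated abelian etale sheaf (sections
Γ(U, u^* F) on etale u : U -> X). Then for every q > 0 the q-th right derived functor of the
restriction π_* from abelian etale sheaves to Zariski sheaves vanishes on G, i.e. R^q π_* G = 0.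
(The published statement is that the comparison maps H^q(X_Zar, F) -> H^q(X_et, G) are isomorphisms;
its proof reduces this to the vanishing stated here, which implies it.) -/
theorem result (X : Scheme.{u}) [EtZar.ZarCont X]
    (F : X.Modules) [F.IsQuasicoherent] (G : EtCoh.Ab X) (hG : EtAssoc.IsAssoc F G)
    [(EtZar.resZar X).Additive] (q : ℕ) (hq : 0 < q) :
    IsZero (((EtZar.resZar X).rightDerived q).obj G) := by
  obtain ⟨n, rfl⟩ := Nat.exists_eq_succ_of_ne_zero hq.ne'
  exact Agent.EtLC12.EtZarCompare.isZero_rightDerived_resZar n G (Agent.EtLC12.AssocSec.isAffAcyclic F hG)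

end Groth.Agent.S6183
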