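import Groth.Statements.S6192
import Groth.Agent.KExact.TorPushLocal
import Groth.Agent.KSixRel.SpreadRel
-- import your own Groth.Agent.* helpers here

set_option autoImplicit false
universe u
open CategoryTheory CategoryTheory.Limits AlgebraicGeometry
attribute [local instance] HasDerivedCategory.standard
open KSix
set_option linter.style.haveILetI false
set_option backward.isDefEq.respectTransparency false
set_option backward.isDefEq.respectTransparency.types false

namespace Groth.Agent.S6192

/-- Let S be a quasi-compact scheme, p : X ⟶ S and q : Y ⟶ S with q quasi-compact (Y quasi-compact over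
S), f : X ⟶ Y a quasi-compact and quasi-separated morphism with f ≫ q = p (so X too is quasi-compact
over S), and N a natural number such that R^i f_* M = 0 for all i > N and all quasi-coherent
O_X-modules M. If F is a cochain complex of O_X-modules whose image in D(O_X) has bounded
quasi-coherent cohomology and which has tor amplitude in [a, b] relative to p (stalkwise flat models
placed in [a, b] over the local rings of S), then Rf_* F (the derived direct image being assumed to
exist) has tor amplitude in [a, b + N] relative to q: every cochain complex representing it has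
stalkwise flat models placed in [a, b + N] over the local rings of S. -/
theorem result {X Y S : Scheme.{u}} (p : X ⟶ S) (q : Y ⟶ S)
    (f : X ⟶ Y) (w : f ≫ q = p) [QuasiCompact f] [QuasiSeparated f] [QuasiCompact q] [CompactSpace S]
    [DCoh.HasRpush f] (N : ℕ)
    (hN : ∀ M : X.Modules, Coh.IsQCoh M → ∀ i : ℤ, (N : ℤ) < i → IsZero (DCoh.HD ((DCoh.Rpush f).obj (DCoh.inD X M)) i))
    (F : CochainComplex X.Modules ℤ) (hqc : DCoh.IsQCohD (DCoh.toD X F)) (c d : ℤ)
    [(DCoh.toD X F).IsGE c] [(DCoh.toD X F).IsLE d] (a b : ℤ) (hF : DerSch.HasTorAmplitude p a b F) :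
    DerSch.HasTorAmplitudeD q a (b + N) ((DCoh.Rpush f).obj (DCoh.toD X F)) := by
  intro F' hF'
  obtain ⟨e⟩ := hF'
  subst w
  intro y
  obtain ⟨V, a', b', hyV, h, -⟩ := Groth.Agent.KExact.torAmp_rpush_local q f F hqc
    (fun x => ⟨⊤, a, b, trivial, fun x' _ => hF x'⟩) F' e y
  obtain ⟨b'', hb⟩ := h a b hF
  refine Groth.Agent.KExact.shrink_rpush q F' y (fun i hi => ?_) (hb y hyV)
  refine IsZero.of_iso ?_ (((DerivedCategory.homologyFunctorFactors Y.Modules i).app F').symm ≪≫
    (DerivedCategory.homologyFunctor Y.Modules i).mapIso e)
  refine Groth.Agent.KFlatLib.isZero_hd_rpush_range f N (fun M hM n hn => ?_) a b _ hqc (fun j hj => ?_) i (Or.inr hi)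
  · obtain ⟨iso⟩ := Groth.Agent.KFlatLib.nonempty_hd_rpush_single f M n
    exact (hN M hM n (by exact_mod_cast hn)).of_iso iso.symm
  · exact (Groth.Agent.KSixRel.isZero_homology_of_torAmp (f ≫ q) hF j hj).of_iso
      ((DerivedCategory.homologyFunctorFactors X.Modules j).app F)

end Groth.Agent.S6192
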