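import Groth.Statements.S6193
import Groth.Agent.KExact.TorPushLocal
-- import your own Groth.Agent.* helpers here

set_option autoImplicit false
universe u
open CategoryTheory CategoryTheory.Limits AlgebraicGeometry
attribute [local instance] HasDerivedCategory.standard
open KSix
set_option linter.style.haveILetI false
set_option backward.isDefEq.respectTransparency false
set_option backward.isDefEq.respectTransparency.types false

namespace Groth.Agent.S6193

/-- Let f : X ⟶ Y be quasi-compact, quasi-separated and locally of finite tor dimension (the structure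
sheaf of X is locally of finite tor amplitude relative to f, stalkwise), the derived direct image
being assumed to exist, and let E ∈ D(O_X), given by a cochain complex F, have bounded
quasi-coherent cohomology. If E is locally of finite tor dimension in the absolute sense on X, then
Rf_* E is locally of finite tor dimension in the absolute sense on Y. -/
theorem result {X Y : Scheme.{u}} (f : X ⟶ Y) [QuasiCompact f] [QuasiSeparated f]
    [DCoh.HasRpush f] (hf : DerSch.LocFiniteTorDim f) (F : CochainComplex X.Modules ℤ)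
    (hqc : DCoh.IsQCohD (DCoh.toD X F)) (c d : ℤ) [(DCoh.toD X F).IsGE c] [(DCoh.toD X F).IsLE d]
    (hE : DCoh.LocHasFiniteTorDim (DCoh.toD X F)) :
    DCoh.LocHasFiniteTorDim ((DCoh.Rpush f).obj (DCoh.toD X F)) := by
  have h1 : DerSch.LocFiniteTorAmplitude (𝟙 X) F := fun x => by
    obtain ⟨V, a, b, hx, hV⟩ := hE x
    obtain ⟨E, hv, hfl, ⟨eE⟩⟩ := hV F ⟨Iso.refl _⟩
    have hid : DerSch.HasTorAmplitude (𝟙 (V : Scheme.{u})) a b ((Groth.Agent.KFlatLib.rCx V.ι).obj F) :=
      Groth.Agent.KFlatLib.hasTorAmplitude_id_of_flatAmplitude ⟨E, hv, hfl, ⟨eE⟩⟩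
    refine ⟨V, a, b, hx, fun x' hx' => (Groth.Agent.KExact.torAmpAt_rCx_iff V.ι (𝟙 X) F ⟨x', hx'⟩ a b).2 ?_⟩
    have h := Groth.Agent.KFlatLib.hasTorAmplitude_comp (𝟙 (V : Scheme.{u})) (V.ι ≫ 𝟙 X) 0
      (Groth.Agent.KSixRel.hasTorDimLE_zero_of_flat _) _ a b hid ⟨x', hx'⟩
    rw [Category.id_comp] at h
    simpa using h
  intro y
  let F' := DerivedCategory.Q.objPreimage ((DCoh.Rpush f).obj (DCoh.toD X F))
  let e : DCoh.toD Y F' ≅ (DCoh.Rpush f).obj (DCoh.toD X F) := DerivedCategory.Q.objObjPreimageIso _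
  have h2 : DerSch.LocFiniteTorAmplitude (f ≫ 𝟙 Y) F := by
    rw [Category.comp_id]
    exact Groth.Agent.KExact.locFiniteTorAmplitude_of_id f hf F h1
  obtain ⟨V, a, b, hyV, -, h⟩ := Groth.Agent.KExact.torAmp_rpush_local (𝟙 Y) f F hqc h2 F' e y
  refine ⟨V, a, b, hyV, fun F'' ⟨e'⟩ => ?_⟩
  refine Groth.Agent.KFlatLib.flatAmplitude_of_hasTorAmplitude_id fun v =>
    Groth.Agent.KExact.torAmpAt_of_comp_open (𝟙 (V : Scheme.{u})) V.ι _ a b v ?_
  have h3 := (Groth.Agent.KExact.torAmpAt_rCx_iff V.ι (𝟙 Y) F'' v a b).1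
    (Groth.Agent.RelPC17.hasTorAmplitudeAt_of_iso _ (e ≪≫ e'.symm) (h v.1 v.2))
  rw [Category.comp_id] at h3
  rw [Category.id_comp]
  exact h3

end Groth.Agent.S6193
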