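import Groth.Statements.S6194
import Groth.Agent.KSixRel.SpreadPerfect
-- import your own Groth.Agent.* helpers here

set_option autoImplicit false
universe u
open CategoryTheory CategoryTheory.Limits AlgebraicGeometry
attribute [local instance] HasDerivedCategory.standard
open KSix

namespace Groth.Agent.S6194

/-- Let X be a scheme such that, at every point x, every module over the local ring of X at x has finite
tor dimension (for instance a regular scheme), and let E ∈ D(O_X), given by a cochain complex F,
have bounded cohomology. Then E is pseudo-coherent if and only if E is perfect. (The published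
statement is for a ringed topos with enough points; this row is the case of schemes.) -/
theorem result {X : Scheme.{u}}
    (hX : ∀ (x : X) (M : Type u) [AddCommGroup M] [Module (X.presheaf.stalk x) M], DRing.HasFiniteTorDim (X.presheaf.stalk x) M)
    (F : CochainComplex X.Modules ℤ) (c d : ℤ) [(DCoh.toD X F).IsGE c] [(DCoh.toD X F).IsLE d] :
    (∀ m : ℤ, DCoh.IsPseudoCoherentD m (DCoh.toD X F)) ↔ DCoh.IsPerfect (DCoh.toD X F) := by
  refine ⟨fun hpc => (KFlatLib.isPerfect_iff _).2 fun x => ?_, fun h m =>
    (KFlatLib.isPseudoCoherentD_iff m _).2 (((KFlatLib.isPerfect_iff _).1 h).locPC m)⟩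
  have hzF : ∀ i, (i < c ∨ d < i) → IsZero (F.homology i) := fun i hi => by
    refine IsZero.of_iso ?_ ((DerivedCategory.homologyFunctorFactors X.Modules i).app F).symm
    rcases hi with hi | hi
    · exact DerivedCategory.isZero_of_isGE (DCoh.toD X F) c i hi
    · exact DerivedCategory.isZero_of_isLE (DCoh.toD X F) d i hi
  let K : DRing.Cx (X.presheaf.stalk x) := (KFlatLib.stalkCx x).obj F
  have hzK : ∀ i, (i < c ∨ d < i) → IsZero (K.homology i) := fun i hi =>
    ((DerSch.stalkFunctor X x).map_isZero (hzF i hi)).of_iso
      ((F.sc i).mapHomologyIso (DerSch.stalkFunctor X x))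
  choose N hN using fun i : ℤ => hX x (K.homology i)
  let M := (Finset.Icc c d).sup N
  obtain ⟨U, j, _, hxj, P, hP, -, ⟨e⟩⟩ := KSixRel.exists_perfect_nhd F (c - M) d x
    (fun i hi => hzF i (Or.inl (by omega))) ((KFlatLib.isPseudoCoherentD_iff _ _).1 (hpc _))
    (H9Misc.DRingTor.toD_of_homology (d - c + 1).toNat c d le_rfl K hzK fun i => by
      by_cases hi : c ≤ i ∧ i ≤ d
      · have h1 : N i ≤ M := Finset.le_sup (Finset.mem_Icc.2 hi)
        exact H9Misc.DRingTor.mono (a := -(N i : ℤ)) (b := 0) (by omega) (by omega)
          ((H9Misc.DRingTor.torDimLE_iff (N i) (K.homology i)).1 (hN i))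
      · exact H9Misc.DRingTor.of_isZero (Functor.map_isZero _ (hzK i (by omega))))
  exact ⟨U, j, inferInstance, hxj, P, hP, ⟨e⟩⟩

end Groth.Agent.S6194
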