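import Groth.Statements.S6195
import Groth.Agent.KExact.SpreadHom
import Groth.Agent.KSixRel.AmpBaseChange
-- import your own Groth.Agent.* helpers here

set_option autoImplicit false
set_option linter.style.haveILetI false
set_option backward.isDefEq.respectTransparency false
set_option backward.isDefEq.respectTransparency.types false

universe u
open CategoryTheory CategoryTheory.Limits AlgebraicGeometry
attribute [local instance] HasDerivedCategory.standard
open KSix

namespace Groth.Agent.S6195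

open CategoryTheory.Limits AlgebraicGeometry
open Groth.Agent.KFlatLib

set_option linter.style.haveILetI false
set_option backward.isDefEq.respectTransparency false
set_option backward.isDefEq.respectTransparency.types false

/-- An isomorphism of stalks passes to open subschemes. -/
lemma stalk_iso_open {X U : Scheme.{u}} (k : U ⟶ X) [IsOpenImmersion k]
    (E F : CochainComplex X.Modules ℤ) (v : U)
    (h : Nonempty (DRing.toD ((stalkCx (k.base v)).obj E) ≅ DRing.toD ((stalkCx (k.base v)).obj F))) :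
    Nonempty (DerivedCategory.Q.obj ((stalkCx v).obj ((rCx k).obj E)) ≅
      DerivedCategory.Q.obj ((stalkCx v).obj ((rCx k).obj F))) := by
  obtain ⟨e⟩ := h
  let φ := (k.stalkMap v).hom
  have hb : Function.Bijective φ := ConcreteCategory.bijective_of_isIso (k.stalkMap v)
  haveI := ModuleCat.preservesFiniteLimits_extendScalars_of_flat (RingHom.Flat.of_bijective hb)
  haveI : (ModuleCat.extendScalars.{u, u, u} φ).IsLeftAdjoint :=
    (ModuleCat.extendRestrictScalarsAdj φ).isLeftAdjoint
  haveI : (ModuleCat.extendScalars.{u, u, u} φ).Additive :=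
    (ModuleCat.extendRestrictScalarsAdj φ).left_adjoint_additive
  haveI : PreservesFiniteColimits (ModuleCat.extendScalars.{u, u, u} φ) := inferInstance
  let T := ModuleCat.extendScalars.{u, u, u} φ
  let s : ∀ G : CochainComplex X.Modules ℤ,
      DerivedCategory.Q.obj ((stalkCx v).obj ((rCx k).obj G)) ≅
        T.mapDerivedCategory.obj (DerivedCategory.Q.obj ((stalkCx (k.base v)).obj G)) := fun G =>
    DerivedCategory.Q.mapIso ((stalkCx v).mapIso ((restrictPullCxIso k).app G) ≪≫
      stalkPullCxIso k v G) ≪≫ (T.mapDerivedCategoryFactors.app _).symm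
  exact ⟨s E ≪≫ T.mapDerivedCategory.mapIso e ≪≫ (s F).symm⟩


/-- Let X be a scheme, x ∈ X, and E, F cochain complexes of O_X-modules whose images in D(O_X) have
bounded cohomology and are pseudo-coherent. If the complexes of stalks E_x and F_x are isomorphic in
the derived category of the local ring of X at x, then x has an open neighbourhood U over which the
restrictions of E and F become isomorphic in D(O_U). (The published statement is for a point of a
ringed topos; this row is the case of schemes.) -/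
theorem result {X : Scheme.{u}} (x : X)
    (E F : CochainComplex X.Modules ℤ) (c d : ℤ) [(DCoh.toD X E).IsGE c] [(DCoh.toD X E).IsLE d]
    [(DCoh.toD X F).IsGE c] [(DCoh.toD X F).IsLE d]
    (hE : ∀ m : ℤ, DCoh.IsPseudoCoherentD m (DCoh.toD X E)) (hF : ∀ m : ℤ, DCoh.IsPseudoCoherentD m (DCoh.toD X F))
    (hx : Nonempty (DRing.toD (((DerSch.stalkFunctor X x).mapHomologicalComplex (ComplexShape.up ℤ)).obj E) ≅ DRing.toD (((DerSch.stalkFunctor X x).mapHomologicalComplex (ComplexShape.up ℤ)).obj F))) :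
    ∃ U : X.Opens, x ∈ U ∧
      Nonempty (DerivedCategory.Q.obj ((DCoh.restrictCx U).obj E) ≅ DerivedCategory.Q.obj ((DCoh.restrictCx U).obj F)) := by
  have hzE : ∀ i, i < c → IsZero (E.homology i) := fun i hi =>
    IsZero.of_iso (DerivedCategory.isZero_of_isGE (DCoh.toD X E) c i hi)
      ((DerivedCategory.homologyFunctorFactors X.Modules i).app E).symm
  have hzF : ∀ i, i < c → IsZero (F.homology i) := fun i hi =>
    IsZero.of_iso (DerivedCategory.isZero_of_isGE (DCoh.toD X F) c i hi)
      ((DerivedCategory.homologyFunctorFactors X.Modules i).app F).symm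
  have hzF' : ∀ i, d < i → IsZero (F.homology i) := fun i hi =>
    IsZero.of_iso (DerivedCategory.isZero_of_isLE (DCoh.toD X F) d i hi)
      ((DerivedCategory.homologyFunctorFactors X.Modules i).app F).symm
  obtain ⟨U, j, _, ⟨u₀, rfl⟩, P, α, hP, hα⟩ :=
    (KFlatLib.isPseudoCoherentD_iff (c - 1) _).1 (hE _) x
  obtain ⟨a₀, b₀, hab⟩ := hP.1
  obtain ⟨W, hW, hfree⟩ := KFlatLib.exists_free_nhd hab hP.2 u₀
  let k := W.ι ≫ j
  let P₀ := (rCx W.ι).obj P
  have hP₀ : DCoh.VanishesOutside P₀ a₀ b₀ := fun i hi =>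
    (Scheme.Modules.restrictFunctor W.ι).map_isZero (hab i hi)
  have hfree₀ : ∀ i, ∃ n : ℕ, Nonempty (P₀.X i ≅ FlatMod.freeMod (W : Scheme.{u}) n) := fun i => by
    obtain ⟨n, ⟨e⟩⟩ := hfree i
    exact ⟨n, ⟨e⟩⟩
  let β : DerivedCategory.Q.obj P₀ ⟶ DerivedCategory.Q.obj ((rCx k).obj E) :=
    ((rhoQ W.ι).app P).inv ≫ (rho W.ι).map α ≫ (rhoComp W.ι j k rfl (DCoh.toD X E)).hom ≫
      ((rhoQ k).app E).hom
  have hβ : IsPcMap (c - 1) β := (hα.map_exact _).comp_iso _ _
  let w : W := ⟨u₀, hW⟩
  obtain ⟨e⟩ := stalk_iso_open k E F w hx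
  let st := DerSch.stalkFunctor (W : Scheme.{u}) w
  haveI := Functor.preservesFiniteLimits_of_preservesHomology st
  haveI := Functor.preservesFiniteColimits_of_preservesHomology st
  let γ := (st.mapDerivedCategoryFactors.app P₀).inv ≫ st.mapDerivedCategory.map β ≫
    ((st.mapDerivedCategoryFactors.app _).hom ≫ e.hom)
  have hγ : IsPcMap (c - 1) γ := (hβ.map_exact st).comp_iso _ _
  haveI : ∀ i, Projective (((stalkCx w).obj P₀).X i) := fun i => by
    obtain ⟨n, ⟨ei⟩⟩ := hfree₀ i
    haveI := (finite_free_stalk_freeMod (U := (W : Scheme.{u})) w n).1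
    haveI : Projective (st.obj (FlatMod.freeMod (W : Scheme.{u}) n)) :=
      ModuleCat.projective_of_free (Module.Free.chooseBasis _ _)
    exact Projective.of_iso (st.mapIso ei).symm inferInstance
  haveI : CochainComplex.IsStrictlyLE ((stalkCx w).obj P₀) b₀ :=
    (CochainComplex.isStrictlyLE_iff _ b₀).2 fun i hi => st.map_isZero (hP₀ i (Or.inr hi))
  haveI := CochainComplex.isKProjective_of_projective ((stalkCx w).obj P₀) b₀
  obtain ⟨φ, hφ⟩ := (homEq_of_isKProjective _ _).surj γ
  have hH : ∀ (G : CochainComplex X.Modules ℤ) (i : ℤ), IsZero (G.homology i) →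
      IsZero (((rCx k).obj G).homology i) := fun G i h =>
    ((Scheme.Modules.restrictFunctor k).map_isZero h).of_iso
      ((G.sc i).mapHomologyIso (Scheme.Modules.restrictFunctor k))
  obtain ⟨V, l, _, ⟨v, hv⟩, δ, hδ⟩ := KExact.exists_nhd_pcMap hP₀ hfree₀
    (((KFlatLib.isPseudoCoherentD_iff _ _).1 (hF (c - 1))).restrict k |>.of_iso ((rhoQ k).app F))
    (fun i hi => hH F i (hzF' i hi)) w φ (hφ ▸ hγ)
  let β' := ((rhoQ l).app P₀).inv ≫ (rho l).map β ≫ ((rhoQ l).app _).hom
  have hβ' : IsPcMap (c - 1) β' := (hβ.map_exact _).comp_iso _ _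
  have hHl : ∀ (G : CochainComplex X.Modules ℤ) (i : ℤ), IsZero (G.homology i) →
      IsZero (((rCx l).obj ((rCx k).obj G)).homology i) := fun G i h =>
    ((Scheme.Modules.restrictFunctor l).map_isZero (hH G i h)).of_iso
      ((((rCx k).obj G).sc i).mapHomologyIso (Scheme.Modules.restrictFunctor l))
  obtain ⟨eE⟩ := KExact.exists_truncGE_iso β' hβ' fun i hi => hHl E i (hzE i hi)
  obtain ⟨eF⟩ := KExact.exists_truncGE_iso δ hδ fun i hi => hHl F i (hzF i hi)
  let m := l ≫ k
  let σ : ∀ G : CochainComplex X.Modules ℤ, DerivedCategory.Q.obj ((rCx l).obj ((rCx k).obj G)) ≅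
      (rho m).obj (DerivedCategory.Q.obj G) := fun G =>
    ((rhoQ l).app _).symm ≪≫ (rho l).mapIso ((rhoQ k).app G).symm ≪≫ rhoComp l k m rfl _
  let ι := m.opensRange.ι
  let τ : ∀ G : CochainComplex X.Modules ℤ, DerivedCategory.Q.obj ((DCoh.restrictCx m.opensRange).obj G) ≅
      (rho (IsOpenImmersion.isoOfRangeEq ι m (by simp [ι])).hom).obj ((rho m).obj (DerivedCategory.Q.obj G)) :=
    fun G => ((rhoQ ι).app G).symm ≪≫
      (rhoComp (IsOpenImmersion.isoOfRangeEq ι m (by simp [ι])).hom m ι
        (IsOpenImmersion.isoOfRangeEq_hom_fac _ _ _) _).symm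
  refine ⟨m.opensRange, ⟨v, ?_⟩, ⟨τ E ≪≫ (rho _).mapIso ((σ E).symm ≪≫ eE.symm ≪≫ eF ≪≫ σ F) ≪≫
    (τ F).symm⟩⟩
  change k.base (l.base v) = _
  rw [hv]
  rfl
end Groth.Agent.S6195
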