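import Groth.Statements.S6200
import Groth.Agent.KFlatLib.Scheme.StalkTorAmpId
-- import your own Groth.Agent.* helpers here

set_option autoImplicit false
universe u
open CategoryTheory CategoryTheory.Limits AlgebraicGeometry
attribute [local instance] HasDerivedCategory.standard
open KSix

namespace Groth.Agent.S6200

/-- For the identity morphism of a scheme: let X be a scheme and E ∈ D⁻(O_X) be given by a cochain
complex F. Then E has tor amplitude in [a, b] in the absolute sense (it is isomorphic in D(O_X) to a
complex of flat O_X-modules placed in [a, b]) if and only if at every point x the complex of stalks
F_x has tor amplitude in [a, b] over the local ring of X at x (tor amplitude relative to the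
identity of X, stalkwise form). (The published statement is for a morphism of ringed topoi with
enough points and tor amplitude over the inverse image of the structure sheaf of the base; this row
is the case of the identity of a scheme.) -/
theorem result {X : Scheme.{u}} (F : CochainComplex X.Modules ℤ) (d : ℤ)
    [(DCoh.toD X F).IsLE d] (a b : ℤ) :
    DCoh.HasFlatAmplitudeIn a b (DCoh.toD X F) ↔ DerSch.HasTorAmplitude (𝟙 X) a b F := by
  exact ⟨KFlatLib.hasTorAmplitude_id_of_flatAmplitude, KFlatLib.flatAmplitude_of_hasTorAmplitude_id⟩

end Groth.Agent.S6200
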