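import Groth.Statements.S6202
import Groth.Agent.RelPC17.Image

set_option autoImplicit false
set_option backward.isDefEq.respectTransparency false
set_option backward.isDefEq.respectTransparency.types false
universe u
open CategoryTheory CategoryTheory.Limits AlgebraicGeometry
attribute [local instance] HasDerivedCategory.standard
open KSix

namespace Groth.Agent.S6202

/-- Let f : X ⟶ Y be a morphism of schemes, n an integer and E a cochain complex of O_X-modules whose
class in D(O_X) is n-pseudo-coherent relative to f (chart form; in particular f is locally of finite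
type). Then for every open U of X the termwise restriction E|_U is n-pseudo-coherent relative to U ⟶
X ⟶ Y. -/
theorem result {X Y : Scheme.{u}} (f : X ⟶ Y) (n : ℤ) (E : CochainComplex X.Modules ℤ)
    (hE : DerSch.IsPseudoCoherentRel f n (DCoh.toD X E)) (U : X.Opens) :
    DerSch.IsPseudoCoherentRel (U.ι ≫ f) n (DCoh.toD (U : Scheme.{u}) ((DCoh.restrictCx U).obj E)) := by
  haveI := hE.1
  haveI : LocallyOfFiniteType ((Scheme.Opens.ι U) ≫ f) := inferInstance
  open Groth.Agent.RelPC17 Groth.Agent.KFlatLib in
  · refine rel_of_forall fun W V hW hV h => ?_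
    have h' : (Scheme.Opens.ι U) ''ᵁ W ≤ f ⁻¹ᵁ V := by
      rintro _ ⟨w, hw, rfl⟩
      exact h hw
    have H := (chartOK_image_iff (Scheme.Opens.ι U) hW hV h h' n (DCoh.toD X E)).2
      (chartOK_of_rel hE (hW.image_of_isOpenImmersion _) hV h')
    obtain ⟨k, φ, hφ, hpc⟩ := H
    exact ⟨k, φ, hφ, (chartPC_iff hW hφ.1 n _).2 (pcat_of_iso ((rhoQ (Scheme.Opens.ι U)).app E)
      ((chartPC_iff hW hφ.1 n _).1 hpc))⟩

end Groth.Agent.S6202
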