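import Groth.Statements.S6203
import Groth.Agent.RelPC17.Image

set_option autoImplicit false
set_option backward.isDefEq.respectTransparency false
set_option backward.isDefEq.respectTransparency.types false
universe u
open CategoryTheory CategoryTheory.Limits AlgebraicGeometry
attribute [local instance] HasDerivedCategory.standard
open KSix

namespace Groth.Agent.S6203

/-- Let f : X ⟶ Y be locally of finite type, n an integer, E a cochain complex of O_X-modules, and (U i)
a family of opens of X with union X such that, for every i, the termwise restriction E|_{U i} is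
n-pseudo-coherent relative to U i ⟶ X ⟶ Y (chart form). Then E is n-pseudo-coherent relative to f. -/
theorem result {X Y : Scheme.{u}} (f : X ⟶ Y) [LocallyOfFiniteType f] (n : ℤ)
    (E : CochainComplex X.Modules ℤ) {ι : Type u} (U : ι → X.Opens) (hU : ⨆ i, U i = ⊤)
    (h : ∀ i : ι, DerSch.IsPseudoCoherentRel ((U i).ι ≫ f) n (DCoh.toD (U i : Scheme.{u}) ((DCoh.restrictCx (U i)).obj E))) :
    DerSch.IsPseudoCoherentRel f n (DCoh.toD X E) := by
  open Groth.Agent.RelPC17 Groth.Agent.KFlatLib in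
  · refine rel_of_local fun x => ?_
    have hx : x ∈ (⊤ : X.Opens) := trivial
    rw [← hU] at hx
    obtain ⟨i, hxi⟩ := TopologicalSpace.Opens.mem_iSup.1 hx
    haveI := (h i).1
    obtain ⟨_, ⟨V, hV, rfl⟩, hxV, -⟩ :=
      Y.isBasis_affineOpens.exists_subset_of_mem_open (show f x ∈ (⊤ : Y.Opens) from trivial) (⊤ : Y.Opens).2
    obtain ⟨_, ⟨W, hW, rfl⟩, hxW, hle⟩ :=
      (U i : Scheme.{u}).isBasis_affineOpens.exists_subset_of_mem_open
        (show (⟨x, hxi⟩ : (U i : Scheme.{u})) ∈ ((Scheme.Opens.ι (U i)) ≫ f) ⁻¹ᵁ V from hxV)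
        (((Scheme.Opens.ι (U i)) ≫ f) ⁻¹ᵁ V).2
    have h' : (Scheme.Opens.ι (U i)) ''ᵁ W ≤ f ⁻¹ᵁ V := by
      rintro _ ⟨w, hw, rfl⟩
      exact hle hw
    obtain ⟨k, φ, hφ, hpc⟩ := chartOK_of_rel (h i) hW hV hle
    refine ⟨_, V, h', hW.image_of_isOpenImmersion _, hV, ⟨⟨x, hxi⟩, hxW, rfl⟩,
      (chartOK_image_iff (Scheme.Opens.ι (U i)) hW hV hle h' n (DCoh.toD X E)).1 ⟨k, φ, hφ,
        (chartPC_iff hW hφ.1 n _).2 (pcat_of_iso ((rhoQ (Scheme.Opens.ι (U i))).app E).symm
          ((chartPC_iff hW hφ.1 n _).1 hpc))⟩⟩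

end Groth.Agent.S6203
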