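import Groth.Statements.S6204
import Groth.Agent.RelPC17.Rel

set_option autoImplicit false
set_option backward.isDefEq.respectTransparency false
set_option backward.isDefEq.respectTransparency.types false
universe u
open CategoryTheory CategoryTheory.Limits AlgebraicGeometry
attribute [local instance] HasDerivedCategory.standard
open KSix

namespace Groth.Agent.S6204

open CategoryTheory.Pretriangulated in
/-- Let f : X ⟶ Y be locally of finite type, n an integer, and E ⟶ F ⟶ G ⟶ E⟦1⟧ a distinguished triangle
of D(O_X); all pseudo-coherence is relative to f, in chart form. If E is (n+1)-pseudo-coherent and F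
is n-pseudo-coherent then G is n-pseudo-coherent; if E and G are n-pseudo-coherent then so is F; if
F is n-pseudo-coherent and G is (n-1)-pseudo-coherent then E is n-pseudo-coherent. -/
theorem result {X Y : Scheme.{u}} (f : X ⟶ Y) [LocallyOfFiniteType f] (n : ℤ)
    (T : Triangle (DCoh.D X)) (hT : T ∈ distinguishedTriangles) :
    (DerSch.IsPseudoCoherentRel f (n + 1) T.obj₁ → DerSch.IsPseudoCoherentRel f n T.obj₂ →
        DerSch.IsPseudoCoherentRel f n T.obj₃) ∧
      (DerSch.IsPseudoCoherentRel f n T.obj₁ → DerSch.IsPseudoCoherentRel f n T.obj₃ →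
        DerSch.IsPseudoCoherentRel f n T.obj₂) ∧
      (DerSch.IsPseudoCoherentRel f n T.obj₂ → DerSch.IsPseudoCoherentRel f (n - 1) T.obj₃ →
        DerSch.IsPseudoCoherentRel f n T.obj₁) := by
  open Groth.Agent.RelPC17 Groth.Agent.KFlatLib in
  · refine ⟨fun h₁ h₂ => rel_iff.2 fun U V hU hV hle k φ hφ => ?_,
      fun h₁ h₃ => rel_iff.2 fun U V hU hV hle k φ hφ => ?_,
      fun h₂ h₃ => rel_iff.2 fun U V hU hV hle k φ hφ => ?_⟩
    · haveI := isClosedImmersion_imm hU hφ.1
      intro _
      exact (locPC_two_of_three n _ ((rho (Scheme.Opens.ι U) ⋙ pD (imm U φ)).map_distinguished T hT)).1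
        (rel_iff.1 h₁ U V hU hV hle k φ hφ) (rel_iff.1 h₂ U V hU hV hle k φ hφ)
    · haveI := isClosedImmersion_imm hU hφ.1
      intro _
      exact (locPC_two_of_three n _ ((rho (Scheme.Opens.ι U) ⋙ pD (imm U φ)).map_distinguished T hT)).2.1
        (rel_iff.1 h₁ U V hU hV hle k φ hφ) (rel_iff.1 h₃ U V hU hV hle k φ hφ)
    · haveI := isClosedImmersion_imm hU hφ.1
      intro _
      have a := rel_iff.1 h₂ U V hU hV hle k φ hφ
      have b := rel_iff.1 h₃ U V hU hV hle k φ hφ
      have := (locPC_two_of_three (n - 1) _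
        ((rho (Scheme.Opens.ι U) ⋙ pD (imm U φ)).map_distinguished T hT)).2.2
      rw [show n - 1 + 1 = n by omega] at this
      exact this a b

end Groth.Agent.S6204
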