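import Groth.Statements.S6205
import Groth.Agent.RelPC17.Graded

set_option autoImplicit false
set_option backward.isDefEq.respectTransparency false
set_option backward.isDefEq.respectTransparency.types false
universe u
open CategoryTheory CategoryTheory.Limits AlgebraicGeometry
attribute [local instance] HasDerivedCategory.standard
open KSix

namespace Groth.Agent.S6205

/-- Let f : X ⟶ Y and g : Y ⟶ Z be locally of finite type, a and b integers, and E an object of D(O_X)
which is a-pseudo-coherent relative to f ≫ g (chart form) and acyclic in degrees above b. If g is (a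
+ 1 - b)-pseudo-coherent (O_Y placed in degree 0 is (a + 1 - b)-pseudo-coherent relative to g), then
E is a-pseudo-coherent relative to f. -/
theorem result {X Y Z : Scheme.{u}} (f : X ⟶ Y) (g : Y ⟶ Z)
    [LocallyOfFiniteType f] [LocallyOfFiniteType g] (a b : ℤ) (E : DCoh.D X) [E.IsLE b]
    (hE : DerSch.IsPseudoCoherentRel (f ≫ g) a E) (hg : DerSch.IsNPseudoCoherent g (a + 1 - b)) :
    DerSch.IsPseudoCoherentRel f a E := by
  open Groth.Agent.RelPC17 Groth.Agent.KFlatLib in
  · refine rel_of_local fun x => ?_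
    obtain ⟨_, ⟨V, hV, rfl⟩, hxV, -⟩ := Z.isBasis_affineOpens.exists_subset_of_mem_open
      (show g (f x) ∈ (⊤ : Z.Opens) from trivial) (⊤ : Z.Opens).2
    obtain ⟨_, ⟨W, hW, rfl⟩, hxW, hle'⟩ :=
      Y.isBasis_affineOpens.exists_subset_of_mem_open (show f x ∈ g ⁻¹ᵁ V from hxV) (g ⁻¹ᵁ V).2
    obtain ⟨_, ⟨U, hU, rfl⟩, hxU, hle⟩ :=
      X.isBasis_affineOpens.exists_subset_of_mem_open (show x ∈ f ⁻¹ᵁ W from hxW) (f ⁻¹ᵁ W).2
    obtain ⟨k, ψ, hψ, H⟩ := exists_stacked_chart hg hU hW hV hle hle' ((DerivedCategory.isLE_iff E b).1 inferInstance)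
    obtain ⟨n, φ, hφ, h₁, -⟩ := H a
    exact ⟨U, W, hle, hU, hW, hxU, k, ψ, hψ, (chartPC_iff hU hψ.1 a E).2
      (h₁ (rel_iff.1 hE U V hU hV _ n φ hφ) (by omega))⟩

end Groth.Agent.S6205
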