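import Groth.Statements.S6207
import Groth.Agent.RelPC17.Comp

set_option autoImplicit false
set_option backward.isDefEq.respectTransparency false
set_option backward.isDefEq.respectTransparency.types false
universe u
open CategoryTheory CategoryTheory.Limits AlgebraicGeometry
attribute [local instance] HasDerivedCategory.standard
open KSix

namespace Groth.Agent.S6207

/-- Suppose g : Y ⟶ Z is locally of finite type and pseudo-coherent (meaning O_Y, placed in degree 0, is
n-pseudo-coherent relative to g for each integer n). Fix an integer r and an object E of D(O_Y)
whose cohomology is bounded above. Then absolute r-pseudo-coherence of E on Y holds exactly when E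
is r-pseudo-coherent relative to g (chart form). -/
theorem result {Y Z : Scheme.{u}} (g : Y ⟶ Z)
    [LocallyOfFiniteType g] (hg : ∀ n : ℤ, DerSch.IsNPseudoCoherent g n) (r b : ℤ) (E : DCoh.D Y) [E.IsLE b] :
    DCoh.IsPseudoCoherentD r E ↔ DerSch.IsPseudoCoherentRel g r E := by
  open Groth.Agent.RelPC17 Groth.Agent.KFlatLib in
  · exact (isPseudoCoherentD_iff _ _).trans (rel_iff_locPC g (chartsPC_of_nPC g hg) r E).symm

end Groth.Agent.S6207
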