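import Groth.Statements.S6209
import Groth.Agent.RelPC17.Graded

set_option autoImplicit false
set_option backward.isDefEq.respectTransparency false
set_option backward.isDefEq.respectTransparency.types false
universe u
open CategoryTheory CategoryTheory.Limits AlgebraicGeometry
attribute [local instance] HasDerivedCategory.standard
open KSix

namespace Groth.Agent.S6209

/-- Let f : X ⟶ Y and g : Y ⟶ Z be locally of finite type, with f r-pseudo-coherent and g
s-pseudo-coherent (O_X, resp. O_Y, placed in degree 0 is r-, resp. s-pseudo-coherent relative to f,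
resp. g, in chart form). Then f ≫ g is max(r, s)-pseudo-coherent. -/
theorem result {X Y Z : Scheme.{u}} (f : X ⟶ Y) (g : Y ⟶ Z)
    [LocallyOfFiniteType f] [LocallyOfFiniteType g] (r s : ℤ)
    (hf : DerSch.IsNPseudoCoherent f r) (hg : DerSch.IsNPseudoCoherent g s) :
    DerSch.IsNPseudoCoherent (f ≫ g) (max r s) := by
  open Groth.Agent.RelPC17 Groth.Agent.KFlatLib in
  · refine rel_of_local fun x => ?_
    obtain ⟨_, ⟨V, hV, rfl⟩, hxV, -⟩ := Z.isBasis_affineOpens.exists_subset_of_mem_open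
      (show g (f x) ∈ (⊤ : Z.Opens) from trivial) (⊤ : Z.Opens).2
    obtain ⟨_, ⟨W, hW, rfl⟩, hxW, hle'⟩ :=
      Y.isBasis_affineOpens.exists_subset_of_mem_open (show f x ∈ g ⁻¹ᵁ V from hxV) (g ⁻¹ᵁ V).2
    obtain ⟨_, ⟨U, hU, rfl⟩, hxU, hle⟩ :=
      X.isBasis_affineOpens.exists_subset_of_mem_open (show x ∈ f ⁻¹ᵁ W from hxW) (f ⁻¹ᵁ W).2
    obtain ⟨k, ψ, hψ, H⟩ := exists_stacked_chart (E := DCoh.inD X (Coh.structureModule X)) hg hU hW hV hle hle'
      (fun i hi => hd_single_isZero _ i (by omega) : ∀ i : ℤ, 0 < i → _)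
    obtain ⟨n, φ, hφ, -, h₂⟩ := H (max r s)
    exact ⟨U, V, hle.trans (f.preimage_mono hle'), hU, hV, hxU, n, φ, hφ,
      (chartPC_iff hU hφ.1 (max r s) _).2 (h₂ r (rel_iff.1 hf U W hU hW hle k ψ hψ) (le_max_left r s)
        (by rw [add_zero]; exact le_max_right r s))⟩

end Groth.Agent.S6209
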