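import Groth.Statements.S6212
import Groth.Agent.KSixRel.SpreadRel
-- import your own Groth.Agent.* helpers here

set_option autoImplicit false
universe u
open CategoryTheory CategoryTheory.Limits AlgebraicGeometry
attribute [local instance] HasDerivedCategory.standard
open KSix

namespace Groth.Agent.S6212

/-- Let f : X ⟶ Y be locally of finite type, F a cochain complex of O_X-modules, a and b integers and x
a point of X. The following are equivalent: (i) on some open neighbourhood U of x, F|_U has perfect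
amplitude in [a, b] relative to U ⟶ Y (pseudo-coherent relative to the morphism in chart form, and
of tor amplitude in [a, b] stalkwise over the local rings of Y); (ii) on some open neighbourhood U
of x, F|_U is (a-1)-pseudo-coherent relative to U ⟶ Y and its cohomology sheaves vanish outside [a,
b], and the complex of stalks F_x over the local ring of Y at f x has tor amplitude in [a, b]. -/
theorem result {X Y : Scheme.{u}} (f : X ⟶ Y)
    [LocallyOfFiniteType f] (F : CochainComplex X.Modules ℤ) (a b : ℤ) (x : X) :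
    (∃ U : X.Opens, x ∈ U ∧ DerSch.HasPerfAmplitudeRel (U.ι ≫ f) a b ((DCoh.restrictCx U).obj F)) ↔
      ((∃ U : X.Opens, x ∈ U ∧
          DerSch.IsPseudoCoherentRel (U.ι ≫ f) (a - 1) (DCoh.toD (U : Scheme.{u}) ((DCoh.restrictCx U).obj F)) ∧
          ∀ i : ℤ, i < a ∨ b < i → IsZero (DCoh.HD (DCoh.toD (U : Scheme.{u}) ((DCoh.restrictCx U).obj F)) i)) ∧
        DerSch.HasTorAmplitudeAt f a b F x) := by
  constructor
  · rintro ⟨U, hx, h⟩
    refine ⟨⟨U, hx, h.1 _, fun i hi => (KSixRel.isZero_homology_of_torAmp _ h.2 i hi).of_iso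
      ((DerivedCategory.homologyFunctorFactors _ i).app _)⟩, ?_⟩
    exact (RelPC17.JacFibre.hasTorAmplitudeAt_pullCx_iff U.ι f F ⟨x, hx⟩ a b).2
      (RelPC17.hasTorAmplitudeAt_of_iso _ (DerivedCategory.Q.mapIso ((NatIso.mapHomologicalComplex
        (Scheme.Modules.restrictFunctorIsoPullback U.ι) (ComplexShape.up ℤ)).app F)) (h.2 ⟨x, hx⟩))
  · rintro ⟨⟨U, hx, hpc, hz⟩, hamp⟩
    have hamp' := RelPC17.hasTorAmplitudeAt_of_iso _ (DerivedCategory.Q.mapIso ((NatIso.mapHomologicalComplex
        (Scheme.Modules.restrictFunctorIsoPullback U.ι) (ComplexShape.up ℤ)).app F).symm)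
        ((RelPC17.JacFibre.hasTorAmplitudeAt_pullCx_iff U.ι f F ⟨x, hx⟩ a b).1 hamp)
    obtain ⟨W, hW, h⟩ := KSixRel.exists_perfAmp_nhd (U.ι ≫ f) ((DCoh.restrictCx U).obj F) a b ⟨x, hx⟩
      (fun i hi => (hz i hi).of_iso ((DerivedCategory.homologyFunctorFactors _ i).app _).symm) hpc hamp'
    let k := W.ι ≫ U.ι
    refine ⟨k.opensRange, ⟨⟨⟨x, hx⟩, hW⟩, rfl⟩, ?_⟩
    have h' := KSixRel.perfAmp_restrict (KFlatLib.rangeHom k) _ h
    rw [← Category.assoc W.ι, ← Category.assoc (KFlatLib.rangeHom k), KFlatLib.rangeHom_fac] at h'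
    exact KSixRel.perfAmp_of_iso _ (((KFlatLib.rhoQ _).app _).symm ≪≫
      (KFlatLib.rho _).mapIso (((KFlatLib.rhoQ W.ι).app _).symm ≪≫
        (KFlatLib.rho W.ι).mapIso ((KFlatLib.rhoQ U.ι).app F).symm ≪≫
        KFlatLib.rhoComp W.ι U.ι k rfl (DCoh.toD X F)) ≪≫
      KFlatLib.rhoComp (KFlatLib.rangeHom k) k _ (KFlatLib.rangeHom_fac k) (DCoh.toD X F) ≪≫
      (KFlatLib.rhoQ k.opensRange.ι).app F) h'

end Groth.Agent.S6212
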