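import Groth.Statements.S6225
import Groth.Agent.S7212

set_option autoImplicit false
set_option backward.isDefEq.respectTransparency false
set_option backward.isDefEq.respectTransparency.types false
universe u
open CategoryTheory CategoryTheory.Limits AlgebraicGeometry
attribute [local instance] HasDerivedCategory.standard
open KSix

namespace Groth.Agent.S6225

/-- Last assertion: a morphism f : X ⟶ Y locally of finite type is (-1)-pseudo-coherent (O_X placed in
degree 0 is (-1)-pseudo-coherent relative to f, in chart form) if and only if f is locally of finite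
presentation. -/
theorem result {X Y : Scheme.{u}} (f : X ⟶ Y) [LocallyOfFiniteType f] :
    DerSch.IsNPseudoCoherent f (-1) ↔ LocallyOfFinitePresentation f := by
  have key : ∀ (U : X.affineOpens) (V : Y.affineOpens) (h : (U : X.Opens) ≤ f ⁻¹ᵁ V.1),
      Flatn.RelFPOn f (Coh.structureModule X) U V h ↔ (f.appLE V.1 U.1 h).hom.FinitePresentation := by
    intro U V h
    letI := (f.appLE V.1 U.1 h).hom.toAlgebra
    have e1 : ∀ {n : ℕ} (φ : MvPolynomial (Fin n) Γ(Y, V.1) →ₐ[Γ(Y, V.1)] Γ(X, U.1)),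
        Function.Surjective φ → (Groth.Agent.RelFP.FPVia φ.toRingHom Γ(X, U.1) ↔ (RingHom.ker φ.toRingHom).FG) := by
      intro n φ hφ
      letI : Algebra (MvPolynomial (Fin n) Γ(Y, V.1)) Γ(X, U.1) := φ.toRingHom.toAlgebra
      rw [show φ.toRingHom = algebraMap (MvPolynomial (Fin n) Γ(Y, V.1)) Γ(X, U.1) from rfl,
        Groth.Agent.RelFP.fpVia_iff]
      exact ⟨fun _ => (Module.FinitePresentation.fg_ker
          (Algebra.linearMap (MvPolynomial (Fin n) Γ(Y, V.1)) Γ(X, U.1)) hφ :),
        fun hk => Module.finitePresentation_of_surjective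
          (Algebra.linearMap (MvPolynomial (Fin n) Γ(Y, V.1)) Γ(X, U.1)) hφ hk⟩
    constructor
    · rintro ⟨n, φ, hφ, hfp⟩
      exact Algebra.FinitePresentation.of_surjective hφ ((e1 φ hφ).1 hfp)
    · intro hfp
      obtain ⟨n, φ, hφ, hk⟩ := Algebra.FinitePresentation.out (R := Γ(Y, V.1)) (A := Γ(X, U.1)) (self := hfp)
      exact ⟨n, φ, hφ, (e1 φ hφ).2 hk⟩
  have hq : Coh.IsQCoh (Coh.structureModule X) := Groth.Agent.QCoh.isQCoh_structureModule
  refine (Groth.Agent.S7212.result f (Coh.structureModule X)).2.2.trans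
    ⟨fun h => ⟨fun {V} hV {U} hU e => ?_⟩, fun h => ⟨hq, ?_⟩⟩
  · exact (key ⟨U, hU⟩ ⟨V, hV⟩ e).1 (Groth.Agent.RelFP.relFPOn_of_isRelFP (hF := hq) h.2 ⟨U, hU⟩ ⟨V, hV⟩ e)
  · exact Groth.Agent.RelFP.isRelFP_of_forall fun U V e =>
      (key U V e).2 (LocallyOfFinitePresentation.finitePresentation_appLE f V.2 U.2 e)

end Groth.Agent.S6225
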