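import Groth.Statements.S6217
import Groth.Agent.S0914
import Groth.Agent.KSixRel.AmpSmoothSch
import Groth.Agent.RelPC17.Comp
-- import your own Groth.Agent.* helpers here

set_option autoImplicit false
universe u
open CategoryTheory CategoryTheory.Limits AlgebraicGeometry
attribute [local instance] HasDerivedCategory.standard
open KSix

namespace Groth.Agent.S6217

/-- Let i : X ⟶ Y be a closed immersion, g : Y ⟶ S smooth, and F a cochain complex of O_X-modules. Then
F is perfect relative to i ≫ g (pseudo-coherent relative to it in chart form, and locally on X of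
finite stalkwise tor amplitude over the local rings of S) if and only if the termwise direct image
i_* F, which computes Ri_* F, is perfect on Y in the absolute sense. -/
theorem result {X Y S : Scheme.{u}} (i : X ⟶ Y) [IsClosedImmersion i]
    (g : Y ⟶ S) [Smooth g] (F : CochainComplex X.Modules ℤ) :
    DerSch.IsPerfectRel (i ≫ g) F ↔ DCoh.IsPerfect (DCoh.toD Y (((Scheme.Modules.pushforward i).mapHomologicalComplex (ComplexShape.up ℤ)).obj F)) := by
  haveI : Flat g := inferInstance
  have hg : RelPC17.ChartsPC g := RelPC17.chartsPC_of_flat g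
  let K := DCoh.toD X F
  let e : (RelPC17.pD i).obj K ≅ DCoh.toD Y ((DerSch.pushCx i).obj F) :=
    (Scheme.Modules.pushforward i).mapDerivedCategoryFactors.app F
  have key : DerSch.IsPseudoCoherentRelAll (i ≫ g) K ↔
      ∀ m : ℤ, DCoh.IsPseudoCoherentD m (DCoh.toD Y ((DerSch.pushCx i).obj F)) :=
    forall_congr' fun m => (RelPC17.rel_closed_comp_iff i g hg m K).trans
      ⟨fun h => (KFlatLib.isPseudoCoherentD_iff m _).2 (h.of_iso e),
        fun h => ((KFlatLib.isPseudoCoherentD_iff m _).1 h).of_iso e.symm⟩
  refine Iff.trans ?_ (Groth.Agent.S0914.result (DCoh.toD Y ((DerSch.pushCx i).obj F))).symm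
  exact and_congr key ⟨KSixRel.locHasFiniteTorDim_push i g F,
    KSixRel.locFiniteTorAmplitude_of_locHasFiniteTorDim_push i g F⟩

end Groth.Agent.S6217
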