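import Groth.Statements.S6218
import Groth.Agent.KFlatLib.Scheme.StalkTorAmpComp
import Groth.Agent.RelPC17.Comp
import Groth.Agent.RelPC17.JacScheme
import Groth.Agent.RelPC17.JacFibre
import Groth.Agent.KSixRel.PushStalk
-- import your own Groth.Agent.* helpers here

set_option autoImplicit false
universe u
open CategoryTheory CategoryTheory.Limits AlgebraicGeometry
attribute [local instance] HasDerivedCategory.standard
open KSix
set_option backward.isDefEq.respectTransparency false

namespace Groth.Agent.S6218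

/-- Let i : X ⟶ Y be a closed immersion, g : Y ⟶ S smooth, a and b integers, and F a cochain complex of
O_X-modules such that the termwise direct image i_* F has perfect amplitude in [a, b] on Y in the
absolute sense (locally isomorphic in D to a complex of finite locally free modules placed in [a,
b]). Then F has perfect amplitude in [a, b] relative to i ≫ g (pseudo-coherent relative to it in
chart form, with stalkwise tor amplitude in [a, b] over the local rings of S). -/
theorem result {X Y S : Scheme.{u}} (i : X ⟶ Y) [IsClosedImmersion i]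
    (g : Y ⟶ S) [Smooth g] (a b : ℤ) (F : CochainComplex X.Modules ℤ)
    (hF : KSix.HasPerfectAmplitudeIn a b (DCoh.toD Y (((Scheme.Modules.pushforward i).mapHomologicalComplex (ComplexShape.up ℤ)).obj F))) :
    DerSch.HasPerfAmplitudeRel (i ≫ g) a b F := by
  open Groth.Agent.RelPC17 Groth.Agent.KFlatLib Groth.Agent.KSixRel in
  · let G := ((Scheme.Modules.pushforward i).mapHomologicalComplex (ComplexShape.up ℤ)).obj F
    have hsp : LocSP (DCoh.toD Y G) := fun y => by
      obtain ⟨V, hy, hV⟩ := hF y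
      obtain ⟨E, hv, hf, ⟨e⟩⟩ := hV G ⟨Iso.refl _⟩
      exact ⟨_, V.ι, inferInstance, ⟨⟨y, hy⟩, rfl⟩, E, ⟨⟨a, b, hv⟩, hf⟩, ⟨e.symm ≪≫ ((rhoQ V.ι).app G).symm⟩⟩
    refine ⟨fun m => (rel_closed_comp_iff i g (chartsPC_of_flat g) m _).2
      ((hsp.locPC m).of_iso ((pQ i).app F).symm), fun x => ?_⟩
    obtain ⟨V, hy, hV⟩ := hF (i.base x)
    obtain ⟨E, hv, hf, ⟨e⟩⟩ := hV G ⟨Iso.refl _⟩
    have hE : DerSch.HasTorAmplitude (V.ι ≫ g) a b E := fun v =>
      ⟨(DerSch.stalkCxOver (V.ι ≫ g) v).obj E, fun k hk => (DerSch.stalkOver (V.ι ≫ g) v).map_isZero (hv k hk),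
        fun k => JacScheme.flat_stalkOver_X (V.ι ≫ g) hf v k, ⟨Iso.refl _⟩⟩
    have hR := hasTorAmplitude_of_iso (V.ι ≫ g)
      (G := (pullCx V.ι).obj G)
      (e.symm ≪≫ DerivedCategory.Q.mapIso (((NatIso.mapHomologicalComplex
        (Scheme.Modules.restrictFunctorIsoPullback V.ι) (ComplexShape.up ℤ)).app G))) hE ⟨i.base x, hy⟩
    obtain ⟨E', hv', hf', ⟨e'⟩⟩ := (JacFibre.hasTorAmplitudeAt_pullCx_iff V.ι g G ⟨i.base x, hy⟩ a b).2 hR
    obtain ⟨es⟩ := nonempty_stalkCxOver_push i g F x
    exact ⟨E', hv', hf', ⟨e' ≪≫ DerivedCategory.Q.mapIso es⟩⟩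

end Groth.Agent.S6218
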