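import Groth.Statements.S6219
import Groth.Agent.KSixRel.AmpSmoothSch
import Groth.Agent.S4275
import Groth.Agent.KFlatLib.Perfect.Tensor
import Groth.Agent.RelPC17.Comp
-- import your own Groth.Agent.* helpers here

set_option autoImplicit false
universe u
open CategoryTheory CategoryTheory.Limits AlgebraicGeometry
attribute [local instance] HasDerivedCategory.standard
open KSix
set_option backward.isDefEq.respectTransparency false

namespace Groth.Agent.S6219

/-- Let i : X ⟶ Y be a closed immersion, g : Y ⟶ S smooth of relative dimension at most d (every point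
of Y has an open neighbourhood on which g is smooth of some relative dimension n ≤ d), a and b
integers, and F a cochain complex of O_X-modules with perfect amplitude in [a, b] relative to i ≫ g
(pseudo-coherent relative to it in chart form, with stalkwise tor amplitude in [a, b] over the local
rings of S). Then the termwise direct image i_* F has perfect amplitude in [a - d, b] on Y in the
absolute sense (locally isomorphic in D to a complex of finite locally free modules placed in [a -
d, b]). -/
theorem result {X Y S : Scheme.{u}} (i : X ⟶ Y) [IsClosedImmersion i]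
    (g : Y ⟶ S) [Smooth g] (d : ℕ)
    (hd : ∀ y : Y, ∃ (n : ℕ) (V : Y.Opens), n ≤ d ∧ y ∈ V ∧ SmoothOfRelativeDimension n (V.ι ≫ g))
    (a b : ℤ) (F : CochainComplex X.Modules ℤ) (hF : DerSch.HasPerfAmplitudeRel (i ≫ g) a b F) :
    KSix.HasPerfectAmplitudeIn (a - d) b (DCoh.toD Y (((Scheme.Modules.pushforward i).mapHomologicalComplex (ComplexShape.up ℤ)).obj F)) := by
  open Groth.Agent.RelPC17 Groth.Agent.KFlatLib Groth.Agent.KSixRel in
  · let G := DCoh.toD Y (((Scheme.Modules.pushforward i).mapHomologicalComplex (ComplexShape.up ℤ)).obj F)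
    have hpc : ∀ m : ℤ, DCoh.IsPseudoCoherentD m G := fun m => (isPseudoCoherentD_iff _ _).2
      (((rel_closed_comp_iff i g (chartsPC_of_flat g) m _).1 (hF.1 m)).of_iso ((pQ i).app F))
    have hflat : DCoh.HasFlatAmplitudeIn (a - d) b G := flatAmplitude_of_hasTorAmplitude_id
      (hasTorAmplitude_id_of_smooth g d hd _ a b ((hasTorAmplitude_push_iff i g F a b).2 hF.2))
    by_cases hab : a - (d : ℤ) ≤ b
    · exact (Groth.Agent.S4275.result Y G (a - d) b hab).2 ⟨hpc _, hflat⟩
    · obtain ⟨E, hv, -, ⟨e⟩⟩ := hflat
      exact fun y => ⟨⊤, trivial, fun F' ⟨e'⟩ => ⟨(DCoh.restrictCx ⊤).obj E,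
        fun k hk => (Scheme.Modules.restrictFunctor _).map_isZero (hv k hk),
        fun k => Groth.Agent.KFlatLib.isFinLocFree_of_isZero
          ((Scheme.Modules.restrictFunctor _).map_isZero (hv k (by omega))),
        ⟨((rhoQ (⊤ : Y.Opens).ι).app F').symm ≪≫ (rho (⊤ : Y.Opens).ι).mapIso (e' ≪≫ e.symm) ≪≫
          (rhoQ (⊤ : Y.Opens).ι).app E⟩⟩⟩

end Groth.Agent.S6219
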