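import Groth.Statements.S6224
import Groth.Agent.KExact.TorPush
-- import your own Groth.Agent.* helpers here

set_option autoImplicit false
universe u
open CategoryTheory CategoryTheory.Limits AlgebraicGeometry
attribute [local instance] HasDerivedCategory.standard
open KSix
set_option linter.style.haveILetI false
set_option backward.isDefEq.respectTransparency false
set_option backward.isDefEq.respectTransparency.types false

namespace Groth.Agent.S6224

/-- Case of a Noetherian base: let S be a Noetherian scheme, p : X ⟶ S and q : Y ⟶ S of finite type, f :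
X ⟶ Y proper with f ≫ q = p, N a natural number such that R^i f_* M = 0 for every i above N and
every quasi-coherent O_X-module M, a and b integers, and F a cochain complex of O_X-modules whose
class in D(O_X) has bounded cohomology and which has perfect amplitude in [a, b] relative to p
(pseudo-coherent relative to p in chart form, stalkwise tor amplitude in [a, b] over the local rings
of S). Then, Rf_* being assumed to exist, Rf_* F has perfect amplitude in [a, b + N] relative to q:
every cochain complex representing it does. -/
theorem result {X Y S : Scheme.{u}} [IsNoetherian S]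
    (p : X ⟶ S) (q : Y ⟶ S) [LocallyOfFiniteType p] [QuasiCompact p] [LocallyOfFiniteType q] [QuasiCompact q]
    (f : X ⟶ Y) [IsProper f] (w : f ≫ q = p) [DCoh.HasRpush f] (N : ℕ)
    (hN : ∀ M : X.Modules, Coh.IsQCoh M → ∀ i : ℤ, (N : ℤ) < i → IsZero (DCoh.HD ((DCoh.Rpush f).obj (DCoh.inD X M)) i))
    (F : CochainComplex X.Modules ℤ) (c d : ℤ) [(DCoh.toD X F).IsGE c] [(DCoh.toD X F).IsLE d]
    (a b : ℤ) (hF : DerSch.HasPerfAmplitudeRel p a b F) :
    ∀ F' : CochainComplex Y.Modules ℤ, Nonempty (DCoh.toD Y F' ≅ (DCoh.Rpush f).obj (DCoh.toD X F)) →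
      DerSch.HasPerfAmplitudeRel q a (b + N) F' := by
  intro F' hF'
  obtain ⟨e⟩ := hF'
  haveI : IsLocallyNoetherian X := LocallyOfFiniteType.isLocallyNoetherian p
  haveI : IsLocallyNoetherian Y := LocallyOfFiniteType.isLocallyNoetherian q
  refine ⟨fun m => Groth.Agent.RelPC17.rel_of_iso' q e.symm (Groth.Agent.KExact.relAll_rpush q f _ c hF.1 m), ?_⟩
  have hcoh := Groth.Agent.KExact.isCohD_of_relAll p hF.1
  subst w
  exact Groth.Agent.KExact.hasTorAmplitude_rpush q f N (fun M hM n hn => by
    obtain ⟨i⟩ := Groth.Agent.KFlatLib.nonempty_hd_rpush_single f M n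
    exact (hN M hM n (by exact_mod_cast hn)).of_iso i.symm) F (fun i => (hcoh i).1) a b hF.2 F' e

end Groth.Agent.S6224
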