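import Groth.Statements.S6227
import Groth.Agent.RelPC17.BaseChange

set_option autoImplicit false
set_option backward.isDefEq.respectTransparency false
set_option backward.isDefEq.respectTransparency.types false
universe u
open CategoryTheory CategoryTheory.Limits AlgebraicGeometry
attribute [local instance] HasDerivedCategory.standard
open KSix

namespace Groth.Agent.S6227

/-- Last clause: sufficiency: let f : X ⟶ Y be locally of finite type and h : Y' ⟶ Y flat, surjective
and quasi-compact. If the base change X ×_Y Y' ⟶ Y' of f is n-pseudo-coherent (structure sheaf
placed in degree 0 n-pseudo-coherent relative to it, chart form), then f is n-pseudo-coherent. (The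
published statement takes h faithfully flat, that is flat and surjective; this row also takes h
quasi-compact: for A an infinite product of copies of the field with two elements and I its ideal of
finitely supported sequences, the closed immersion Spec A/I ⟶ Spec A is not locally of finite
presentation, hence not (-1)-pseudo-coherent, while its base change along the flat, surjective,
non-quasi-compact disjoint union of the spectra of all local rings of A is an open and closed
immersion, so descent fails without quasi-compactness.) -/
theorem result {X Y Y' : Scheme.{u}} (f : X ⟶ Y) [LocallyOfFiniteType f] (n : ℤ)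
    (h : Y' ⟶ Y) [Flat h] [Surjective h] [QuasiCompact h] (hf' : DerSch.IsNPseudoCoherent (pullback.snd f h) n) :
    DerSch.IsNPseudoCoherent f n := by
  haveI := Groth.Agent.KFlatLib.hasLpull (pullback.fst f h)
  obtain ⟨e⟩ := Groth.Agent.RelPC17.nonempty_lpull_structure (pullback.fst f h)
  exact Groth.Agent.RelPC17.rel_of_lpull_family f (fun _ : PUnit.{u + 1} => Y') (fun _ => h)
    (fun V hV => Groth.Agent.RelPC17.exists_lifts_qc h V hV)
    Groth.Agent.RelPC17.isQCohD_structure
    (fun _ => Groth.Agent.RelPC17.rel_of_iso' (pullback.snd f h) e.symm hf')

end Groth.Agent.S6227
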