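import Groth.Statements.S6229
import Groth.Agent.KExact.RelTensor
import Groth.Agent.KSixRel.SpreadRel
import Groth.Agent.S6240
import Groth.Agent.KFlatLib.Scheme.DualPerfect
import Groth.Agent.H9Misc.DRingTorDim
-- import your own Groth.Agent.* helpers here

set_option autoImplicit false
universe u
open CategoryTheory CategoryTheory.Limits AlgebraicGeometry
attribute [local instance] HasDerivedCategory.standard
open KSix
set_option linter.style.haveILetI false
set_option backward.isDefEq.respectTransparency false
set_option backward.isDefEq.respectTransparency.types false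

namespace Groth.Agent.S6229

/-- Let f : X ⟶ Y and g : Y ⟶ Z be locally of finite type, m a natural number with f of perfect
dimension at most m (O_X placed in degree 0 is pseudo-coherent relative to f in chart form, with
stalkwise tor amplitude in [-m, 0] over the local rings of Y), c and d integers, and G a cochain
complex of O_Y-modules with perfect amplitude in [c, d] relative to g. Then, the derived pullback
Lf^* being assumed to exist, Lf^* G has perfect amplitude in [c - m, d] relative to f ≫ g: every
cochain complex representing it does. -/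
theorem result {X Y Z : Scheme.{u}} (f : X ⟶ Y) (g : Y ⟶ Z)
    [LocallyOfFiniteType f] [LocallyOfFiniteType g] (m : ℕ) (hf : DerSch.HasPerfDimLE f m) [DCoh.HasLpull f] (c d : ℤ)
    (G : CochainComplex Y.Modules ℤ) (hG : DerSch.HasPerfAmplitudeRel g c d G) :
    ∀ F' : CochainComplex X.Modules ℤ, Nonempty (DCoh.toD X F' ≅ (DCoh.Lpull f).obj (DCoh.toD Y G)) →
      DerSch.HasPerfAmplitudeRel (f ≫ g) (c - m) d F' := by
  intro F' hF'
  obtain ⟨eK⟩ := hF'
  let E := DerSch.unitCx X
  haveI := Groth.Agent.KFlatLib.hasLTensorCx E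
  let L := (DCoh.Lpull f).obj (DCoh.toD Y G)
  let R := Groth.Agent.KFlatLib.repK L
  obtain ⟨u⟩ := Groth.Agent.KFlatLib.nonempty_tensorUnitIso R
  let eU : (DCoh.LTensorCx E).obj L ≅ L :=
    (DCoh.LTensorCx E).mapIso (Groth.Agent.KFlatLib.repKIso L).symm ≪≫
      Groth.Agent.KFlatLib.ltensorCxIso E (Groth.Agent.KFlatLib.isKFlat_repK L) ≪≫
      DerivedCategory.Q.mapIso u ≪≫ Groth.Agent.KFlatLib.repKIso L
  have hEb : (DCoh.toD X E).IsLE 0 := (DerivedCategory.isLE_iff _ _).2 fun i hi =>
    (Groth.Agent.KSixRel.isZero_homology_of_torAmp f hf.2 i (Or.inr hi)).of_iso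
      ((DerivedCategory.homologyFunctorFactors X.Modules i).app E)
  have hGd : (DCoh.toD Y G).IsLE d := (DerivedCategory.isLE_iff _ _).2 fun i hi =>
    (Groth.Agent.KSixRel.isZero_homology_of_torAmp g hG.2 i (Or.inr hi)).of_iso
      ((DerivedCategory.homologyFunctorFactors Y.Modules i).app G)
  refine ⟨fun k => Groth.Agent.RelPC17.rel_of_iso' (f ≫ g) (eU ≪≫ eK.symm) ?_, ?_⟩
  · have := Groth.Agent.KExact.rel_ltensor_lpull f g (k - d) 0 k d E (hf.1 _) hEb _ (hG.1 k) hGd
    rwa [sub_add_cancel, zero_add, max_self] at this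
  · have := Groth.Agent.S6240.result f g (f ≫ g) rfl E (-(m : ℤ)) 0 hf.2 G c d hG.2 F' ⟨eK ≪≫ eU.symm⟩
    intro x
    exact Groth.Agent.H9Misc.DRingTor.mono (by omega) (by omega) (this x)

end Groth.Agent.S6229
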