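import Groth.Statements.S6233
import Groth.Agent.KSixRel.SpreadFibre
import Groth.Agent.KSixRel.AmpSmoothSch
-- import your own Groth.Agent.* helpers here

set_option autoImplicit false
universe u
open CategoryTheory CategoryTheory.Limits AlgebraicGeometry
attribute [local instance] HasDerivedCategory.standard
open KSix

namespace Groth.Agent.S6233

/-- Criterion of relative perfection by fibres: let f : X ⟶ Y and g : Y ⟶ S with f ≫ g = h, f and h
locally of finite type, g flat and locally of finite presentation; let x be a point of X with y = f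
x and s = g y, F a cochain complex of O_X-modules whose class has bounded above cohomology, and a, b
integers. Write O_{Y_s,y} for the quotient of the local ring O_{Y,y} by the ideal generated by the
maximal ideal of O_{S,s} (the local ring at y of the fibre Y_s), and F_x for the complex of stalks
of F at x as a complex of O_{Y,y}-modules; the derived base change along O_{Y,y} → O_{Y_s,y} is
assumed to exist. Then the following are equivalent: (i) on some open neighbourhood of x, F has
perfect amplitude in [a, b] relative to h (chart-form pseudo-coherence and stalkwise tor amplitude),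
and F_x ⊗^L O_{Y_s,y} has tor amplitude in [a, b] over O_{Y_s,y}; (ii) on some open neighbourhood of
x, F has perfect amplitude in [a, b] relative to f. -/
theorem result {X Y S : Scheme.{u}} (f : X ⟶ Y) (g : Y ⟶ S)
    (h : X ⟶ S) (w : f ≫ g = h) [LocallyOfFiniteType f] [LocallyOfFiniteType h] [Flat g] [LocallyOfFinitePresentation g]
    (x : X) (F : CochainComplex X.Modules ℤ) (c : ℤ) [(DCoh.toD X F).IsLE c] (a b : ℤ)
    [DRing.HasLBaseChange (Ideal.Quotient.mk (Ideal.map (g.stalkMap (f.base x)).hom
      (IsLocalRing.maximalIdeal (S.presheaf.stalk (g.base (f.base x))))))] :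
    ((∃ U : X.Opens, x ∈ U ∧ DerSch.HasPerfAmplitudeRel (U.ι ≫ h) a b ((DCoh.restrictCx U).obj F)) ∧
        DRing.HasTorAmplitudeIn
          ((Y.presheaf.stalk (f.base x)) ⧸ Ideal.map (g.stalkMap (f.base x)).hom
            (IsLocalRing.maximalIdeal (S.presheaf.stalk (g.base (f.base x))))) a b
          ((DRing.LBaseChange (Ideal.Quotient.mk (Ideal.map (g.stalkMap (f.base x)).hom
            (IsLocalRing.maximalIdeal (S.presheaf.stalk (g.base (f.base x))))))).obj
            (DRing.toD ((DerSch.stalkCxOver f x).obj F)))) ↔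
      (∃ U : X.Opens, x ∈ U ∧ DerSch.HasPerfAmplitudeRel (U.ι ≫ f) a b ((DCoh.restrictCx U).obj F)) := by
  subst w
  have hg := RelPC17.chartsPC_of_flat g
  let q := Ideal.Quotient.mk (Ideal.map (g.stalkMap (f.base x)).hom
    (IsLocalRing.maximalIdeal (S.presheaf.stalk (g.base (f.base x)))))
  haveI : Nontrivial ((Y.presheaf.stalk (f.base x)) ⧸ Ideal.map (g.stalkMap (f.base x)).hom
      (IsLocalRing.maximalIdeal (S.presheaf.stalk (g.base (f.base x))))) :=
    Ideal.Quotient.nontrivial_iff.2 (ne_top_of_le_ne_top (IsLocalRing.maximalIdeal.isMaximal _).ne_top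
      (((IsLocalRing.local_hom_TFAE (g.stalkMap (f.base x)).hom).out 0 2).1 (inferInstance : IsLocalHom (g.stalkMap (f.base x)).hom)))
  constructor
  · rintro ⟨⟨U, hx, h1, h2⟩, hfib⟩
    let v : U := ⟨x, hx⟩
    have hpc : DerSch.IsPseudoCoherentRelAll (U.ι ≫ f) (DCoh.toD _ ((DCoh.restrictCx U).obj F)) := fun m =>
      (RelPC17.rel_comp_iff (U.ι ≫ f) g hg m _).1 (by simpa only [Category.assoc] using h1 m)
    have hz := KSixRel.isZero_homology_of_torAmp _ h2
    obtain ⟨es⟩ := RelPC17.JacFibre.nonempty_stalkCxOver_pullCx U.ι f F v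
    let q' : Y.presheaf.stalk ((U.ι ≫ f) v) →+* _ := q
    haveI : DRing.HasLBaseChange q' := ‹DRing.HasLBaseChange _›
    have hamp := KSixRel.amp_at_of_fibre (U.ι ≫ f) ((DCoh.restrictCx U).obj F) a b
      (fun n hn => hz n (Or.inr hn)) hpc v q' (fun y => @Ideal.Quotient.mk_surjective _ _ _ (Ideal.instIsTwoSided _) y)
      (H9Misc.DRingTor.of_iso ((DRing.LBaseChange q').mapIso (DerivedCategory.Q.mapIso (es ≪≫
        (DerSch.stalkCxOver (U.ι ≫ f) v).mapIso ((NatIso.mapHomologicalComplex
          (Scheme.Modules.restrictFunctorIsoPullback U.ι) (ComplexShape.up ℤ)).app F).symm))) hfib)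
    exact KSixRel.perfAmp_nhd_image f F a b U v
      (KSixRel.exists_perfAmp_nhd (U.ι ≫ f) ((DCoh.restrictCx U).obj F) a b v hz (hpc _) hamp)
  · rintro ⟨U, hx, h1, h2⟩
    refine ⟨⟨U, hx, fun m => ?_, ?_⟩, ?_⟩
    · simpa only [Category.assoc] using (RelPC17.rel_comp_iff (U.ι ≫ f) g hg m _).2 (h1 m)
    · simpa using KFlatLib.hasTorAmplitude_comp (U.ι ≫ f) g 0 (KSixRel.hasTorDimLE_zero_of_flat g) _ a b h2
    · exact H9Misc.DRingLBase.hasTorAmplitudeIn_lbase q
        ((RelPC17.JacFibre.hasTorAmplitudeAt_pullCx_iff U.ι f F ⟨x, hx⟩ a b).2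
          (RelPC17.hasTorAmplitudeAt_of_iso _ (DerivedCategory.Q.mapIso ((NatIso.mapHomologicalComplex
            (Scheme.Modules.restrictFunctorIsoPullback U.ι) (ComplexShape.up ℤ)).app F)) (h2 ⟨x, hx⟩)))

end Groth.Agent.S6233
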