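import Groth.Statements.S6234
import Groth.Agent.KExact.TorPushLocal2
-- import your own Groth.Agent.* helpers here

set_option autoImplicit false
set_option linter.style.haveILetI false
set_option backward.isDefEq.respectTransparency false
set_option backward.isDefEq.respectTransparency.types false

universe u
open CategoryTheory CategoryTheory.Limits AlgebraicGeometry
attribute [local instance] HasDerivedCategory.standard
open KSix

namespace Groth.Agent.S6234

open Groth.Agent.KFlatLib Groth.Agent.KExact Groth.Agent.RelPC17

set_option linter.style.haveILetI false
set_option backward.isDefEq.respectTransparency false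
set_option backward.isDefEq.respectTransparency.types false


/-- Case of a projective morphism: let S be a scheme, q : Y ⟶ S locally of finite type, i : X ⟶ P^r_Y a
closed immersion with f : X ⟶ Y the composite with the projection, and F a cochain complex of
O_X-modules whose class in D(O_X) has bounded cohomology and which is perfect relative to f ≫ q : X
⟶ S (pseudo-coherent relative to it in chart form, and locally on X of finite stalkwise tor
amplitude over the local rings of S). Then, Rf_* being assumed to exist, Rf_* F is perfect relative
to q: every cochain complex representing it is. (The published statement allows any projective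
S-morphism, a closed immersion into P(M) with M quasi-coherent of finite type on Y; this row takes M
free of rank r + 1.) -/
theorem result {X Y S : Scheme.{u}} (q : Y ⟶ S)
    [LocallyOfFiniteType q] (r : ℕ) (i : X ⟶ CohB1.ProjSpaceOver r Y) [IsClosedImmersion i]
    [DCoh.HasRpush (i ≫ CohB1.ProjSpaceOver.toBase r Y)]
    (F : CochainComplex X.Modules ℤ) (c d : ℤ) [(DCoh.toD X F).IsGE c] [(DCoh.toD X F).IsLE d]
    (hF : DerSch.IsPerfectRel ((i ≫ CohB1.ProjSpaceOver.toBase r Y) ≫ q) F) :
    ∀ F' : CochainComplex Y.Modules ℤ,
      Nonempty (DCoh.toD Y F' ≅ (DCoh.Rpush (i ≫ CohB1.ProjSpaceOver.toBase r Y)).obj (DCoh.toD X F)) →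
        DerSch.IsPerfectRel q F' := by
  intro F' ⟨e⟩
  haveI := (hF.1 0).1
  have hpc := ProjPush.relAll_rpush q r i _ hF.1
  exact ⟨fun m => rel_of_iso' q e.symm (hpc m),
    locFiniteTorAmplitude_rpush' q (i ≫ CohB1.ProjSpaceOver.toBase r Y) rfl F
      (ProjPush.isQCohD_of_relAll _ hF.1) hF.2 F' e⟩
end Groth.Agent.S6234
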