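import Groth.Statements.S6236
import Groth.Agent.RelPC17.Compact

set_option autoImplicit false
set_option backward.isDefEq.respectTransparency false
set_option backward.isDefEq.respectTransparency.types false
universe u
open CategoryTheory CategoryTheory.Limits AlgebraicGeometry
attribute [local instance] HasDerivedCategory.standard
open KSix

namespace Groth.Agent.S6236

/-- Let f : X ⟶ Y be a morphism of schemes with X quasi-compact, n an integer, and E an object of D(O_X)
which is n-pseudo-coherent relative to f (chart form; in particular f is locally of finite type).
Then the cohomology of E is bounded above. (Without quasi-compactness of X the cohomology is only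
locally bounded above.) -/
theorem result {X Y : Scheme.{u}} [CompactSpace X] (f : X ⟶ Y) (n : ℤ)
    (E : DCoh.D X) (hE : DerSch.IsPseudoCoherentRel f n E) : ∃ b : ℤ, E.IsLE b := by
  obtain ⟨b, hb⟩ := Groth.Agent.RelPC17.exists_bound_of_rel hE
  exact ⟨b, (DerivedCategory.isLE_iff E b).2 hb⟩

end Groth.Agent.S6236
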