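import Groth.Statements.S6241
import Groth.Agent.KFlatLib.Scheme.StalkTorAmp
import Groth.Agent.KFlatLib.Scheme.DualTensorMod
import Groth.Agent.KFlatLib.Scheme.RpushFF
import Groth.Agent.KFlatLib.Scheme.CohD
import Groth.Agent.KFlatLib.Scheme.LpullComp
import Groth.Agent.KFlatLib.Scheme.PullTensorCx
import Groth.Agent.KFlatLib.Scheme.RelTensorLocal
-- import your own Groth.Agent.* helpers here

set_option autoImplicit false
universe u
open CategoryTheory CategoryTheory.Limits AlgebraicGeometry
attribute [local instance] HasDerivedCategory.standard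
open KSix

open Groth.Agent.KFlatLib

namespace Groth.Agent.S6241

/-- Let f : X ⟶ Y be a morphism of schemes and F a cochain complex of O_X-modules with bounded above
cohomology and tor amplitude in [m, n] relative to f in the stalkwise sense (at every point x of X
the complex of stalks F_x is isomorphic, in the derived category of the local ring of Y at f x, to a
complex of flat modules placed in [m, n]). Then for every open V of Y and every O_V-module M, the
derived pullback along the restriction f⁻¹(V) ⟶ V of f and the derived tensor product with the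
restriction of F to f⁻¹(V) being assumed to exist, the cohomology sheaves of L(f|)^* M ⊗^L (F
restricted to f⁻¹(V)) vanish outside [m, n]. (The published statement is for a morphism of ringed
topoi whose source has enough points, with V an object of the target topos; this row is the case of
schemes, V an open subscheme, and the derived tensor product taken with the restriction of F as the
fixed right-hand factor.) -/
theorem result {X Y : Scheme.{u}} (f : X ⟶ Y)
    (F : CochainComplex X.Modules ℤ) (e : ℤ) [(DCoh.toD X F).IsLE e] (m n : ℤ)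
    (hF : DerSch.HasTorAmplitude f m n F) (V : Y.Opens) (M : (V : Scheme.{u}).Modules)
    [DCoh.HasLpull (f ∣_ V)] [DCoh.HasLTensorCx ((DCoh.restrictCx (f ⁻¹ᵁ V)).obj F)]
    (i : ℤ) (hi : i < m ∨ n < i) :
    IsZero (DCoh.HD ((DCoh.LTensorCx ((DCoh.restrictCx (f ⁻¹ᵁ V)).obj F)).obj
      ((DCoh.Lpull (f ∣_ V)).obj (DCoh.inD (V : Scheme.{u}) M))) i) := by
  let U := f ⁻¹ᵁ V
  let j := U.ι
  let g := f ∣_ V
  let k := V.ι
  let N := (Scheme.Modules.pushforward k).obj M
  let FU := (DCoh.restrictCx U).obj F
  haveI := hasLpull f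
  haveI := hasLpull j
  haveI := hasLpull k
  haveI := hasLpull (g ≫ k)
  let L := (DCoh.Lpull f).obj (DCoh.inD Y N)
  let C := repK L
  have hC : DCoh.IsKFlat C := isKFlat_repK L
  haveI := hasLTensorCx C
  have hz := (Scheme.Modules.restrictFunctor j).map_isZero
    (isZero_hd_ltensor_lpull_stalk f hF N C (repKIso L) i hi)
  let C' := (pullCx j).obj C
  have hC' : DCoh.IsKFlat C' := isKFlat_pullback j hC
  haveI := hasLTensorCx C'
  obtain ⟨q⟩ := nonempty_rho_iso_lpull j
  obtain ⟨l⟩ := nonempty_lpull_ltensor j C hC (DCoh.toD X F)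
  obtain ⟨s⟩ := nonempty_ltensor_symm C' FU hC'
  obtain ⟨d₁⟩ := nonempty_lpull_comp g k
  have hd₂ : ∀ (h : (U : Scheme.{u}) ⟶ Y) [DCoh.HasLpull h], h = j ≫ f →
      Nonempty (DCoh.Lpull f ⋙ DCoh.Lpull j ≅ DCoh.Lpull h) := by
    intro h _ e
    subst e
    exact nonempty_lpull_comp j f
  obtain ⟨d₂⟩ := hd₂ (g ≫ k) (morphismRestrict_ι f V)
  obtain ⟨qk⟩ := nonempty_rho_iso_lpull k
  let eN := ((Scheme.Modules.restrictFunctor k).mapDerivedCategorySingleFunctor 0).app N
  let eM : DCoh.inD (V : Scheme.{u}) M ≅ (DCoh.Lpull k).obj (DCoh.inD Y N) :=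
    (DerivedCategory.singleFunctor (V : Scheme.{u}).Modules 0).mapIso
      ((Scheme.Modules.restrictFunctorAdjCounitIso k).app M).symm ≪≫ eN.symm ≪≫ qk.app _
  let e : (DCoh.Lpull g).obj (DCoh.inD (V : Scheme.{u}) M) ≅ DerivedCategory.Q.obj C' :=
    (DCoh.Lpull g).mapIso eM ≪≫ d₁.app _ ≪≫ (d₂.app _).symm ≪≫
      (DCoh.Lpull j).mapIso (repKIso L).symm ≪≫ lpullIso j hC
  exact (hz.of_iso (restrictHDIso j _ i)).of_iso ((DerivedCategory.homologyFunctor _ i).mapIso
    ((DCoh.LTensorCx FU).mapIso e ≪≫ s.symm ≪≫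
      (DCoh.LTensorCx C').mapIso (((rhoQ j).app F).symm ≪≫ q.app (DCoh.toD X F)) ≪≫ l.symm ≪≫ (q.app _).symm))

end Groth.Agent.S6241
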