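import Groth.Statements.S6243
import Groth.Agent.KExact.Transfer
-- import your own Groth.Agent.* helpers here

set_option autoImplicit false
universe u
open CategoryTheory CategoryTheory.Limits AlgebraicGeometry
attribute [local instance] HasDerivedCategory.standard
open KSix
open Groth.Agent.KFlatLib Groth.Agent.KExact

set_option linter.style.haveILetI false
set_option backward.isDefEq.respectTransparency false
set_option backward.isDefEq.respectTransparency.types false

namespace Groth.Agent.S6243

/-- Let X be a scheme, p an integer and E ∈ D⁻(O_X), given by a cochain complex F, a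
(p-1)-pseudo-coherent object. If, the derived tensor product with F being assumed to exist, the
functor M ↦ H^p(M ⊗^L F) from O_X-modules to O_X-modules is exact (preserves finite limits and
finite colimits), then the cohomology sheaf H^p(E) is finite locally free and, the derived pullbacks
to the points Spec κ(x) ⟶ X being assumed to exist, the function x ↦ dim_{κ(x)} H^p(E ⊗^L κ(x)) is
locally constant. (The published statement is for a locally ringed topos with enough points and
writes the functor as M ↦ H^p(E ⊗^L M); this row is the case of the Zariski topos of a scheme, with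
the derived tensor product taken with F as the fixed right-hand factor.) -/
theorem result {X : Scheme.{u}} (F : CochainComplex X.Modules ℤ) (e : ℤ)
    [(DCoh.toD X F).IsLE e] (p : ℤ) (hE : DCoh.IsPseudoCoherentD (p - 1) (DCoh.toD X F))
    [DCoh.HasLTensorCx F]
    [PreservesFiniteLimits (DerivedCategory.singleFunctor X.Modules 0 ⋙ DCoh.LTensorCx F ⋙ DerivedCategory.homologyFunctor X.Modules p)]
    [PreservesFiniteColimits (DerivedCategory.singleFunctor X.Modules 0 ⋙ DCoh.LTensorCx F ⋙ DerivedCategory.homologyFunctor X.Modules p)]
    [∀ x : X, DCoh.HasLpull (X.fromSpecResidueField x)] :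
    FlatMod.IsFinLocFree (DCoh.HD (DCoh.toD X F) p) ∧
      IsLocallyConstant (fun x : X => PerfD.betti (DCoh.toD X F) x p) := by
  let R := (kRes X).obj F
  haveI := (flatCover X).quasiIso_ψ F
  haveI := isIso_Q_map ((flatCover X).ψ.app F) inferInstance
  let eR : DerivedCategory.Q.obj R ≅ DerivedCategory.Q.obj F :=
    asIso (DerivedCategory.Q.map ((flatCover X).ψ.app F))
  obtain ⟨i⟩ := nonempty_psiIso (isKFlat_kRes F) eR.symm p
  haveI : PreservesFiniteLimits (psi R p) := preservesFiniteLimits_of_natIso i
  haveI : PreservesFiniteColimits (psi R p) := preservesFiniteColimits_of_natIso i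
  exact isFinLocFree_and_betti (DCoh.toD X F) p ((isPseudoCoherentD_iff _ _).1 hE) R (isKFlat_kRes F)
    (isFlat_kRes F) eR (isFlat_opcycles_of_preservesFiniteLimits R (isFlat_kRes F) p)
    (isFlat_opcycles_succ_of_preservesFiniteColimits R (isFlat_kRes F) p)

end Groth.Agent.S6243
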