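import Groth.Statements.S6245
import Groth.Agent.KExact.SpreadExact
-- import your own Groth.Agent.* helpers here

set_option autoImplicit false
set_option linter.style.haveILetI false
set_option backward.isDefEq.respectTransparency false
set_option backward.isDefEq.respectTransparency.types false

universe u
open CategoryTheory CategoryTheory.Limits AlgebraicGeometry
attribute [local instance] HasDerivedCategory.standard
open KSix

namespace Groth.Agent.S6245

open Groth.Agent.KFlatLib Groth.Agent.KExact

set_option linter.style.haveILetI false
set_option backward.isDefEq.respectTransparency false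
set_option backward.isDefEq.respectTransparency.types false


/-- Let X be a scheme, p an integer, x a point of X and E ∈ D⁻(O_X), given by a cochain complex F, a
p-pseudo-coherent object; let F_x be the complex of stalks of F at x, a complex of modules over the
local ring O_{X,x}. The derived tensor products with F_x and with the restrictions of F to the opens
of X being assumed to exist: if the functor M ↦ H^p(M ⊗^L F_x) on O_{X,x}-modules is right exact,
then x has an open neighbourhood U such that the functor M ↦ H^p(M ⊗^L (F restricted to U)) from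
O_U-modules to O_U-modules is right exact. (The published statement is for a point of a locally
ringed topos and writes the functors as M ↦ H^p(E_x ⊗^L M) and M ↦ H^p(E|_U ⊗^L M); this row is the
case of a scheme, with the derived tensor products taken with the complex as the fixed right-hand
factor.) -/
theorem result {X : Scheme.{u}} (F : CochainComplex X.Modules ℤ)
    (e : ℤ) [(DCoh.toD X F).IsLE e] (p : ℤ) (hE : DCoh.IsPseudoCoherentD p (DCoh.toD X F)) (x : X)
    [DRing.HasLTensorCx (X.presheaf.stalk x) (((DerSch.stalkFunctor X x).mapHomologicalComplex (ComplexShape.up ℤ)).obj F)]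
    [PreservesFiniteColimits (DerivedCategory.singleFunctor (ModuleCat.{u} (X.presheaf.stalk x)) 0 ⋙ DRing.LTensorCx (X.presheaf.stalk x) (((DerSch.stalkFunctor X x).mapHomologicalComplex (ComplexShape.up ℤ)).obj F) ⋙ DerivedCategory.homologyFunctor (ModuleCat.{u} (X.presheaf.stalk x)) p)]
    [∀ U : X.Opens, DCoh.HasLTensorCx ((DCoh.restrictCx U).obj F)] :
    ∃ U : X.Opens, x ∈ U ∧ PreservesFiniteColimits (DerivedCategory.singleFunctor (U : Scheme.{u}).Modules 0 ⋙ DCoh.LTensorCx ((DCoh.restrictCx U).obj F) ⋙ DerivedCategory.homologyFunctor (U : Scheme.{u}).Modules p) := by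
  obtain ⟨R, q, hq, hRK, hR, hA⟩ := exists_flat_model F e x
  haveI := hq
  let S := DerSch.stalkFunctor X x
  haveI : QuasiIso ((S.mapHomologicalComplex (ComplexShape.up ℤ)).map q) := inferInstance
  have hflat := Groth.Agent.DRingSided.flat_opcycles_succ_of_ltensor
    ((S.mapHomologicalComplex (ComplexShape.up ℤ)).map q) (fun i => hR i x) hA p inferInstance
  obtain ⟨φ, hφ, -⟩ := exists_map_opcycles S R (p + 1)
  haveI := isIso_Q_map q hq
  obtain ⟨V, hx, hV⟩ := exists_nhd_preservesFiniteLimits (DCoh.toD X F) (p + 1)
    (by simpa using (isPseudoCoherentD_iff _ _).1 hE) R hRK hR (asIso (DerivedCategory.Q.map q)) x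
    (haveI := hflat; Module.Flat.of_linearEquiv (asIso φ).toLinearEquiv)
  haveI : QuasiIso ((rCx V.ι).map q) := inferInstance
  haveI := isIso_Q_map ((rCx V.ι).map q) inferInstance
  haveI := hV
  haveI := preservesFiniteColimits_psi ((rCx V.ι).obj R) (isFlat_restrict_X V.ι R hR) p
    (isFlat_opcycles_of_preservesFiniteLimits _ (isFlat_restrict_X V.ι R hR) (p + 1))
  obtain ⟨i⟩ := nonempty_psiIso (F := (DCoh.restrictCx V).obj F) (isKFlat_restrict V.ι hRK)
    (asIso (DerivedCategory.Q.map ((rCx V.ι).map q))).symm p
  exact ⟨V, hx, preservesFiniteColimits_of_natIso i.symm⟩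
end Groth.Agent.S6245
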