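import Groth.Statements.S6247
import Groth.Agent.ModTensor.KFlat
import Groth.Agent.H9Misc.TensorLinear
-- import your own Groth.Agent.* helpers here

set_option autoImplicit false
set_option linter.style.haveILetI false
set_option backward.isDefEq.respectTransparency false
set_option backward.isDefEq.respectTransparency.types false

universe u
open CategoryTheory CategoryTheory.Limits AlgebraicGeometry
attribute [local instance] HasDerivedCategory.standard
open KSix

namespace Groth.Agent.S6247

set_option backward.isDefEq.respectTransparency false

theorem isFlat_of_cofan {C : Type u} [SmallCategory C] {J : GrothendieckTopology C} (O : Sheaf J CommRingCat.{u})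
    {ι : Type} {f : ι → ModSite.Mod O} {c : Cofan f} (hc : IsColimit c) (h : ∀ i, ModSite.IsFlat (f i)) :
    ModSite.IsFlat c.pt :=
  Groth.Agent.ModTensor.isFlat_of_isColimit (I := Discrete (ULift.{u} ι))
    (D := (Discrete.equivalence Equiv.ulift).functor ⋙ Discrete.functor f)
    (fun i => h i.as.down) (hc.whiskerEquivalence (Discrete.equivalence Equiv.ulift))


/-- One ringed site: let (C, J, O) be a small site with a sheaf of commutative rings O, let E be a
cochain complex of O-modules isomorphic in D(O) to a complex P of flat O-modules which vanishes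
outside [m, n] (E has flat amplitude in [m, n]), and let F be a cochain complex of flat O-modules
which vanishes outside [m', n']. Then, the derived tensor product − ⊗^L_O F being assumed to exist,
E ⊗^L_O F is isomorphic in D(O) to a complex of flat O-modules vanishing outside [m + m', n + n']:
flat amplitudes add, and in particular the derived tensor product of two objects of finite flat
amplitude has finite flat amplitude. (The published statement is for a morphism of ringed topoi f
from S' to S and the external derived tensor product of an object over S' with an object over S,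
flatness meaning exactness of the tensor product functor; this row is the case S' = S with f the
identity, on the topos of sheaves on a small site, with the second factor given by its own flat
model.) -/
theorem result {C : Type u} [SmallCategory C]
    {J : GrothendieckTopology C} (O : Sheaf J CommRingCat.{u}) (E P : CochainComplex (ModSite.Mod O) ℤ)
    (m n : ℤ) (hP : ∀ i : ℤ, ModSite.IsFlat (P.X i)) (hPb : ∀ i : ℤ, i < m ∨ n < i → IsZero (P.X i))
    (eP : DerivedCategory.Q.obj P ≅ DerivedCategory.Q.obj E) (F : CochainComplex (ModSite.Mod O) ℤ)
    (m' n' : ℤ) (hF : ∀ i : ℤ, ModSite.IsFlat (F.X i)) (hFb : ∀ i : ℤ, i < m' ∨ n' < i → IsZero (F.X i))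
    [ModSite.HasLTensorCx F] :
    ∃ G : CochainComplex (ModSite.Mod O) ℤ, (∀ i : ℤ, ModSite.IsFlat (G.X i)) ∧
      (∀ i : ℤ, i < m + m' ∨ n + n' < i → IsZero (G.X i)) ∧
      Nonempty (DerivedCategory.Q.obj G ≅ (ModSite.LTensorCx F).obj (DerivedCategory.Q.obj E)) := by
  haveI : P.IsStrictlyLE n := (CochainComplex.isStrictlyLE_iff _ _).2 fun i hi => hPb i (Or.inr hi)
  have hK : ModSite.IsKFlat P := Groth.Agent.ModTensor.isKFlat_of_isStrictlyLE P n hP
  haveI := Groth.Agent.H9Misc.TensorLinear.isIso_counit F hK
  let G := ((ModSite.tensorCx O).obj P).obj F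
  refine ⟨G, fun i => ?_, fun i hi => ?_, ⟨(asIso (((ModSite.tensorCxQ F).totalLeftDerivedCounit DerivedCategory.Q
    (HomologicalComplex.quasiIso (ModSite.Mod O) (ComplexShape.up ℤ))).app P)).symm ≪≫
      (ModSite.LTensorCx F).mapIso eP⟩⟩
  · let Φ := (((ModSite.tensorBi O).mapBifunctorHomologicalComplex (ComplexShape.up ℤ) (ComplexShape.up ℤ)).obj P).obj F
    let W := Φ.toGradedObject
    let p := ComplexShape.π (ComplexShape.up ℤ) (ComplexShape.up ℤ) (ComplexShape.up ℤ)
    refine isFlat_of_cofan O (hc := W.isColimitCofanMapObj p i) fun k => ?_
    exact Groth.Agent.ModTensor.isFlat_tensor (hP k.1.1) (hF k.1.2)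
  · refine (IsZero.iff_id_eq_zero _).2 (HomologicalComplex.mapBifunctor.hom_ext fun a b h => ?_)
    refine IsZero.eq_of_src ?_ _ _
    change a + b = i at h
    rcases (show a < m ∨ n < a ∨ b < m' ∨ n' < b by omega) with h1 | h1 | h1 | h1
    · exact Functor.map_isZero ((ModSite.tensorBi O).flip.obj (F.X b)) (hPb a (Or.inl h1))
    · exact Functor.map_isZero ((ModSite.tensorBi O).flip.obj (F.X b)) (hPb a (Or.inr h1))
    · exact Functor.map_isZero ((ModSite.tensorBi O).obj (P.X a)) (hFb b (Or.inl h1))
    · exact Functor.map_isZero ((ModSite.tensorBi O).obj (P.X a)) (hFb b (Or.inr h1))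
end Groth.Agent.S6247
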