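import Groth.Statements.S6249
import Groth.Agent.SiteSided.Basic
-- import your own Groth.Agent.* helpers here

set_option autoImplicit false
set_option linter.style.haveILetI false
set_option backward.isDefEq.respectTransparency false
set_option backward.isDefEq.respectTransparency.types false

universe u
open CategoryTheory CategoryTheory.Limits AlgebraicGeometry
attribute [local instance] HasDerivedCategory.standard
open KSix

namespace Groth.Agent.S6249

/-- Let (C, J, O) be a small site with a sheaf of commutative rings O, Mod(O) the category of O-modules,
E ∈ D⁻(O) given by a cochain complex, and p an integer. Then, the derived tensor product − ⊗^L_O E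
being assumed to exist, the functor M ↦ H^p(M ⊗^L E) from Mod(O) to Mod(O) is right exact if and
only if the functor M ↦ H^{p+1}(M ⊗^L E) is left exact. (The published statement is for a
commutative ringed topos and writes E ⊗^L M; this row is the topos of sheaves on a small site, with
the derived tensor product taken with E as the fixed right-hand factor.) -/
theorem result {C : Type u} [SmallCategory C]
    {J : GrothendieckTopology C} (O : Sheaf J CommRingCat.{u}) (E : CochainComplex (ModSite.Mod O) ℤ)
    (e : ℤ) [(DerivedCategory.Q.obj E).IsLE e] (p : ℤ) [ModSite.HasLTensorCx E] :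
    PreservesFiniteColimits (DerivedCategory.singleFunctor (ModSite.Mod O) 0 ⋙ ModSite.LTensorCx E ⋙ DerivedCategory.homologyFunctor (ModSite.Mod O) p) ↔
      PreservesFiniteLimits (DerivedCategory.singleFunctor (ModSite.Mod O) 0 ⋙ ModSite.LTensorCx E ⋙ DerivedCategory.homologyFunctor (ModSite.Mod O) (p + 1)) := by
  obtain ⟨R, q, hR, hfl, hq, -⟩ := Groth.Agent.ModTensor.exists_resolution E
  obtain ⟨i⟩ := Groth.Agent.SiteSided.nonempty_psiIso q hR p
  obtain ⟨j⟩ := Groth.Agent.SiteSided.nonempty_psiIso q hR (p + 1)
  have h := Groth.Agent.SiteSided.preservesFiniteColimits_iff R hfl p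
  exact ⟨fun hc => by
      haveI := h.1 (preservesFiniteColimits_of_natIso i)
      exact preservesFiniteLimits_of_natIso j.symm,
    fun hl => by
      haveI := h.2 (preservesFiniteLimits_of_natIso j)
      exact preservesFiniteColimits_of_natIso i.symm⟩
end Groth.Agent.S6249
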