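import Groth.Statements.S6250
import Groth.Agent.KExact.Reduced
-- import your own Groth.Agent.* helpers here

set_option autoImplicit false
universe u
open CategoryTheory CategoryTheory.Limits AlgebraicGeometry
attribute [local instance] HasDerivedCategory.standard
open KSix
open Groth.Agent.KFlatLib Groth.Agent.KExact

set_option linter.style.haveILetI false
set_option backward.isDefEq.respectTransparency false
set_option backward.isDefEq.respectTransparency.types false

namespace Groth.Agent.S6250

/-- Let X be a locally Noetherian, reduced and quasi-separated scheme, p an integer, and E ∈ D⁻(O_X),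
given by a cochain complex F, a (p-1)-pseudo-coherent object with quasi-coherent and locally bounded
cohomology. The derived pullbacks to the points Spec κ(x) ⟶ X and the derived tensor product with F
being assumed to exist: if the function x ↦ dim_{κ(x)} H^p(E ⊗^L κ(x)) is locally constant on X,
then the functor M ↦ H^p(M ⊗^L F) is exact on the full subcategory of quasi-coherent O_X-modules
(preserves finite limits and finite colimits there). (The published statement writes the functor as
M ↦ H^p(E ⊗^L M); this row takes the derived tensor product with F as the fixed right-hand factor.) -/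
theorem result {X : Scheme.{u}} [IsLocallyNoetherian X]
    [IsReduced X] [QuasiSeparatedSpace X] (F : CochainComplex X.Modules ℤ) (e : ℤ) [(DCoh.toD X F).IsLE e]
    (p : ℤ) (hq : DCoh.IsQCohD (DCoh.toD X F))
    (hb : ∀ x : X, ∃ (U : X.Opens) (a : ℤ), x ∈ U ∧ ∀ i : ℤ, i < a →
      IsZero ((Scheme.Modules.restrictFunctor U.ι).obj (DCoh.HD (DCoh.toD X F) i)))
    (hE : DCoh.IsPseudoCoherentD (p - 1) (DCoh.toD X F))
    [∀ x : X, DCoh.HasLpull (X.fromSpecResidueField x)] [DCoh.HasLTensorCx F]
    (hc : IsLocallyConstant (fun x : X => PerfD.betti (DCoh.toD X F) x p)) :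
    PreservesFiniteLimits ((QCohCat.isQCoh X).ι ⋙ DerivedCategory.singleFunctor X.Modules 0 ⋙ DCoh.LTensorCx F ⋙ DerivedCategory.homologyFunctor X.Modules p) ∧ PreservesFiniteColimits ((QCohCat.isQCoh X).ι ⋙ DerivedCategory.singleFunctor X.Modules 0 ⋙ DCoh.LTensorCx F ⋙ DerivedCategory.homologyFunctor X.Modules p) := by
  let R := (kRes X).obj F
  haveI := (flatCover X).quasiIso_ψ F
  haveI := isIso_Q_map ((flatCover X).ψ.app F) inferInstance
  let eR : DerivedCategory.Q.obj R ≅ DerivedCategory.Q.obj F :=
    asIso (DerivedCategory.Q.map ((flatCover X).ψ.app F))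
  obtain ⟨h₁, h₂⟩ := isFlat_opcycles_of_betti (DCoh.toD X F) p ((isPseudoCoherentD_iff _ _).1 hE) R
    (isKFlat_kRes F) (isFlat_kRes F) eR hc
  obtain ⟨hl, hr⟩ := exact_psi R (isFlat_kRes F) p h₁ h₂
  obtain ⟨i⟩ := nonempty_psiIso (isKFlat_kRes F) eR.symm p
  let i' := Functor.isoWhiskerLeft (QCohCat.isQCoh X).ι i
  haveI : PreservesFiniteLimits ((QCohCat.isQCoh X).ι ⋙ psi R p) := comp_preservesFiniteLimits _ _
  haveI : PreservesFiniteColimits ((QCohCat.isQCoh X).ι ⋙ psi R p) := comp_preservesFiniteColimits _ _
  exact ⟨preservesFiniteLimits_of_natIso i'.symm, preservesFiniteColimits_of_natIso i'.symm⟩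

end Groth.Agent.S6250
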