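import Groth.Statements.S6251
import Groth.Agent.KExact.ProjPush
import Groth.Agent.KExact.Proj
import Groth.Agent.KExact.Transfer
-- import your own Groth.Agent.* helpers here

set_option autoImplicit false
set_option linter.style.haveILetI false
set_option backward.isDefEq.respectTransparency false
set_option backward.isDefEq.respectTransparency.types false

universe u
open CategoryTheory CategoryTheory.Limits AlgebraicGeometry
attribute [local instance] HasDerivedCategory.standard
open KSix

namespace Groth.Agent.S6251

open Groth.Agent.KFlatLib Groth.Agent.KExact Groth.Agent.RelPC17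

set_option linter.style.haveILetI false
set_option backward.isDefEq.respectTransparency false
set_option backward.isDefEq.respectTransparency.types false


/-- Let Y be a quasi-compact quasi-separated scheme, r a natural number, i : X ⟶ P^r_Y a closed
immersion with f : X ⟶ Y its composite with the projection, p an integer, and E ∈ D^b(O_X), given by
a cochain complex F, perfect relative to f (pseudo-coherent relative to f in chart form and locally
on X of finite stalkwise tor amplitude over the local rings of Y). The derived functors Lf^*, − ⊗^L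
F and Rf_* and the derived pullbacks to the points Spec κ(y) ⟶ Y being assumed to exist: if the
functor M ↦ R^p f_*(Lf^* M ⊗^L F) is exact on the full subcategory of quasi-coherent O_Y-modules
(preserves finite limits and finite colimits there), then H^p(Rf_* E) is a finite locally free
O_Y-module and the function y ↦ dim_{κ(y)} H^p(Rf_* E ⊗^L κ(y)) is locally constant on Y. (The
published statement is for a proper morphism of quasi-compact schemes with Y quasi-separated, under
the finiteness property for proper pseudo-coherent direct images, which holds for projective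
morphisms; it allows a closed immersion into P(M) with M quasi-coherent of finite type on Y, and
this row takes M free of rank r + 1; it writes the functor as M ↦ R^p f_*(E ⊗^L Lf^* M), and this
row takes the derived tensor product with F as the fixed right-hand factor.) -/
theorem result {X Y : Scheme.{u}} [CompactSpace Y]
    [QuasiSeparatedSpace Y] (r : ℕ) (i : X ⟶ CohB1.ProjSpaceOver r Y) [IsClosedImmersion i]
    (F : CochainComplex X.Modules ℤ) (a b : ℤ) [(DCoh.toD X F).IsGE a] [(DCoh.toD X F).IsLE b]
    (hF : DerSch.IsPerfectRel (i ≫ CohB1.ProjSpaceOver.toBase r Y) F) (p : ℤ) [DCoh.HasLpull (i ≫ CohB1.ProjSpaceOver.toBase r Y)]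
    [DCoh.HasLTensorCx F] [DCoh.HasRpush (i ≫ CohB1.ProjSpaceOver.toBase r Y)]
    [PreservesFiniteLimits ((QCohCat.isQCoh Y).ι ⋙ DerivedCategory.singleFunctor Y.Modules 0 ⋙ DCoh.Lpull (i ≫ CohB1.ProjSpaceOver.toBase r Y) ⋙ DCoh.LTensorCx F ⋙ DCoh.Rpush (i ≫ CohB1.ProjSpaceOver.toBase r Y) ⋙ DerivedCategory.homologyFunctor Y.Modules p)]
    [PreservesFiniteColimits ((QCohCat.isQCoh Y).ι ⋙ DerivedCategory.singleFunctor Y.Modules 0 ⋙ DCoh.Lpull (i ≫ CohB1.ProjSpaceOver.toBase r Y) ⋙ DCoh.LTensorCx F ⋙ DCoh.Rpush (i ≫ CohB1.ProjSpaceOver.toBase r Y) ⋙ DerivedCategory.homologyFunctor Y.Modules p)]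
    [∀ y : Y, DCoh.HasLpull (Y.fromSpecResidueField y)] :
    FlatMod.IsFinLocFree (DCoh.HD ((DCoh.Rpush (i ≫ CohB1.ProjSpaceOver.toBase r Y)).obj (DCoh.toD X F)) p) ∧
      IsLocallyConstant (fun y : Y => PerfD.betti ((DCoh.Rpush (i ≫ CohB1.ProjSpaceOver.toBase r Y)).obj (DCoh.toD X F)) y p) := by
  obtain ⟨R, hK, hR, ⟨eR⟩, he⟩ := exists_psiRelIso (i ≫ CohB1.ProjSpaceOver.toBase r Y) F
    (ProjPush.isQCohD_of_relAll _ hF.1)
  obtain ⟨e⟩ := he p
  haveI : PreservesFiniteLimits ((QCohCat.isQCoh Y).ι ⋙ psi R p) := preservesFiniteLimits_of_natIso e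
  haveI : PreservesFiniteColimits ((QCohCat.isQCoh Y).ι ⋙ psi R p) := preservesFiniteColimits_of_natIso e
  exact isFinLocFree_and_betti _ p (ProjPush.locPC_rpush_proj r i _ hF.1 _) R hK hR eR
    (isFlat_opcycles_of_preservesFiniteLimits_qcoh R hR p)
    (isFlat_opcycles_succ_of_preservesFiniteColimits_qcoh R hR p)
end Groth.Agent.S6251
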