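import Groth.Statements.S6252
import Groth.Agent.KExact.Proj
import Groth.Agent.KExact.PerfRel
import Groth.Agent.KExact.Reduced
-- import your own Groth.Agent.* helpers here

set_option autoImplicit false
universe u
open CategoryTheory CategoryTheory.Limits AlgebraicGeometry
attribute [local instance] HasDerivedCategory.standard
open KSix
open Groth.Agent.KFlatLib Groth.Agent.KExact

set_option linter.style.haveILetI false
set_option backward.isDefEq.respectTransparency false
set_option backward.isDefEq.respectTransparency.types false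

namespace Groth.Agent.S6252

/-- Let Y be a Noetherian reduced scheme, f : X ⟶ Y a proper morphism, p an integer, and E ∈ D^b(O_X),
given by a cochain complex F, perfect relative to f (pseudo-coherent relative to f in chart form and
locally on X of finite stalkwise tor amplitude over the local rings of Y). The derived functors
Lf^*, − ⊗^L F and Rf_* and the derived pullbacks to the points Spec κ(y) ⟶ Y being assumed to exist:
if the function y ↦ dim_{κ(y)} H^p(Rf_* E ⊗^L κ(y)) is locally constant on Y, then the functor M ↦
R^p f_*(Lf^* M ⊗^L F) is exact on the full subcategory of quasi-coherent O_Y-modules (preserves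
finite limits and finite colimits there). (The published statement is for a proper morphism of
quasi-compact schemes under the finiteness property for proper pseudo-coherent direct images, which
holds over a Noetherian base; it writes the functor as M ↦ R^p f_*(E ⊗^L Lf^* M), and this row takes
the derived tensor product with F as the fixed right-hand factor.) -/
theorem result {X Y : Scheme.{u}} [IsNoetherian Y]
    [IsReduced Y] (f : X ⟶ Y) [IsProper f] (F : CochainComplex X.Modules ℤ) (a b : ℤ)
    [(DCoh.toD X F).IsGE a] [(DCoh.toD X F).IsLE b] (hF : DerSch.IsPerfectRel f F) (p : ℤ)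
    [DCoh.HasLpull f] [DCoh.HasLTensorCx F] [DCoh.HasRpush f]
    [∀ y : Y, DCoh.HasLpull (Y.fromSpecResidueField y)]
    (hc : IsLocallyConstant (fun y : Y => PerfD.betti ((DCoh.Rpush f).obj (DCoh.toD X F)) y p)) :
    PreservesFiniteLimits ((QCohCat.isQCoh Y).ι ⋙ DerivedCategory.singleFunctor Y.Modules 0 ⋙ DCoh.Lpull f ⋙ DCoh.LTensorCx F ⋙ DCoh.Rpush f ⋙ DerivedCategory.homologyFunctor Y.Modules p) ∧ PreservesFiniteColimits ((QCohCat.isQCoh Y).ι ⋙ DerivedCategory.singleFunctor Y.Modules 0 ⋙ DCoh.Lpull f ⋙ DCoh.LTensorCx F ⋙ DCoh.Rpush f ⋙ DerivedCategory.homologyFunctor Y.Modules p) := by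
  haveI : IsLocallyNoetherian X := LocallyOfFiniteType.isLocallyNoetherian f
  obtain ⟨R, hK, hR, ⟨eR⟩, he⟩ := exists_psiRelIso f F (isCohD_isQCohD (isCohD_of_relAll f hF.1))
  obtain ⟨i⟩ := he p
  obtain ⟨h₁, h₂⟩ := isFlat_opcycles_of_betti _ p ((locSP_rpush_of_perfectRel f F hF).locPC _) R hK hR eR hc
  obtain ⟨hl, hr⟩ := exact_psi R hR p h₁ h₂
  haveI : PreservesFiniteLimits ((QCohCat.isQCoh Y).ι ⋙ psi R p) := comp_preservesFiniteLimits _ _
  haveI : PreservesFiniteColimits ((QCohCat.isQCoh Y).ι ⋙ psi R p) := comp_preservesFiniteColimits _ _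
  exact ⟨preservesFiniteLimits_of_natIso i.symm, preservesFiniteColimits_of_natIso i.symm⟩

end Groth.Agent.S6252
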