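import Groth.Statements.S6253
import Groth.Agent.KExact.Proj
import Groth.Agent.KExact.Sided
-- import your own Groth.Agent.* helpers here

set_option autoImplicit false
universe u
open CategoryTheory CategoryTheory.Limits AlgebraicGeometry
attribute [local instance] HasDerivedCategory.standard
open KSix
open Groth.Agent.KFlatLib Groth.Agent.KExact

set_option linter.style.haveILetI false
set_option backward.isDefEq.respectTransparency false
set_option backward.isDefEq.respectTransparency.types false

namespace Groth.Agent.S6253

/-- Let f : X ⟶ Y be a quasi-compact quasi-separated morphism of quasi-compact quasi-separated schemes,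
E ∈ D^b(O_X), given by a cochain complex F, with quasi-coherent cohomology and of finite tor
amplitude relative to f (stalkwise), and p an integer. The derived functors Lf^*, − ⊗^L F and Rf_*
being assumed to exist: the functor M ↦ R^p f_*(Lf^* M ⊗^L F) from quasi-coherent O_Y-modules to
O_Y-modules is right exact if and only if the functor M ↦ R^{p+1} f_*(Lf^* M ⊗^L F) on
quasi-coherent O_Y-modules is left exact. (The published statement writes E ⊗_Y^L M = E ⊗^L Lf^* M
and regards the functors as valued in quasi-coherent modules; this row takes the derived tensor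
product with F as the fixed right-hand factor and values in all O_Y-modules.) -/
theorem result {X Y : Scheme.{u}} [CompactSpace X]
    [QuasiSeparatedSpace X] [CompactSpace Y] [QuasiSeparatedSpace Y] (f : X ⟶ Y) [QuasiCompact f]
    [QuasiSeparated f] (F : CochainComplex X.Modules ℤ) (a b : ℤ) [(DCoh.toD X F).IsGE a]
    [(DCoh.toD X F).IsLE b] (hq : DCoh.IsQCohD (DCoh.toD X F)) (hF : DerSch.HasFiniteTorAmplitude f F)
    (p : ℤ) [DCoh.HasLpull f] [DCoh.HasLTensorCx F] [DCoh.HasRpush f] :
    PreservesFiniteColimits ((QCohCat.isQCoh Y).ι ⋙ DerivedCategory.singleFunctor Y.Modules 0 ⋙ DCoh.Lpull f ⋙ DCoh.LTensorCx F ⋙ DCoh.Rpush f ⋙ DerivedCategory.homologyFunctor Y.Modules p) ↔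
      PreservesFiniteLimits ((QCohCat.isQCoh Y).ι ⋙ DerivedCategory.singleFunctor Y.Modules 0 ⋙ DCoh.Lpull f ⋙ DCoh.LTensorCx F ⋙ DCoh.Rpush f ⋙ DerivedCategory.homologyFunctor Y.Modules (p + 1)) := by
  obtain ⟨R, hK, hR, -, he⟩ := exists_psiRelIso f F hq
  obtain ⟨i₀⟩ := he p
  obtain ⟨i₁⟩ := he (p + 1)
  constructor <;> intro h
  · haveI := h
    haveI : PreservesFiniteColimits ((QCohCat.isQCoh Y).ι ⋙ psi R p) := preservesFiniteColimits_of_natIso i₀
    haveI := preservesFiniteLimits_psi R hR (p + 1)
      (isFlat_opcycles_succ_of_preservesFiniteColimits_qcoh R hR p)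
    haveI : PreservesFiniteLimits ((QCohCat.isQCoh Y).ι ⋙ psi R (p + 1)) := comp_preservesFiniteLimits _ _
    exact preservesFiniteLimits_of_natIso i₁.symm
  · haveI := h
    haveI : PreservesFiniteLimits ((QCohCat.isQCoh Y).ι ⋙ psi R (p + 1)) := preservesFiniteLimits_of_natIso i₁
    haveI := preservesFiniteColimits_psi R hR p
      (isFlat_opcycles_of_preservesFiniteLimits_qcoh R hR (p + 1))
    haveI : PreservesFiniteColimits ((QCohCat.isQCoh Y).ι ⋙ psi R p) := comp_preservesFiniteColimits _ _
    exact preservesFiniteColimits_of_natIso i₀.symm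

end Groth.Agent.S6253
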