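import Groth.Statements.S6254
import Groth.Agent.SiteSided.Basic
-- import your own Groth.Agent.* helpers here

set_option autoImplicit false
set_option linter.style.haveILetI false
set_option backward.isDefEq.respectTransparency false
set_option backward.isDefEq.respectTransparency.types false

universe u
open CategoryTheory CategoryTheory.Limits AlgebraicGeometry
attribute [local instance] HasDerivedCategory.standard
open KSix

namespace Groth.Agent.S6254

/-- Let (C, J, O) be a small site with a sheaf of commutative rings O, p an integer, and E a bounded
above cochain complex of FLAT O-modules (termwise zero above some degree). Then, the derived tensor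
product − ⊗^L_O E being assumed to exist, the functor M ↦ H^p(M ⊗^L E) from Mod(O) to Mod(O) is
right exact if and only if the cokernel of the differential E^p ⟶ E^{p+1} is a flat O-module. (The
published statement is for a commutative ringed topos and writes E ⊗^L M; this row is the topos of
sheaves on a small site, with the derived tensor product taken with E as the fixed right-hand
factor.) -/
theorem result {C : Type u} [SmallCategory C]
    {J : GrothendieckTopology C} (O : Sheaf J CommRingCat.{u}) (E : CochainComplex (ModSite.Mod O) ℤ)
    (e : ℤ) (hEb : ∀ i : ℤ, e < i → IsZero (E.X i)) (hEf : ∀ i : ℤ, ModSite.IsFlat (E.X i)) (p : ℤ)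
    [ModSite.HasLTensorCx E] :
    PreservesFiniteColimits (DerivedCategory.singleFunctor (ModSite.Mod O) 0 ⋙ ModSite.LTensorCx E ⋙ DerivedCategory.homologyFunctor (ModSite.Mod O) p) ↔ ModSite.IsFlat (cokernel (E.d p (p + 1))) := by
  haveI : E.IsStrictlyLE e := (CochainComplex.isStrictlyLE_iff _ _).2 hEb
  have hK : ModSite.IsKFlat E := Groth.Agent.ModTensor.isKFlat_of_isStrictlyLE E e hEf
  obtain ⟨i⟩ := Groth.Agent.SiteSided.nonempty_psiIso (𝟙 E) hK p
  have h := (Groth.Agent.SiteSided.preservesFiniteColimits_iff E hEf p).trans
    (Groth.Agent.SiteSided.preservesFiniteLimits_iff E hEf (p + 1))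
  let c : E.opcycles (p + 1) ≅ cokernel (E.d p (p + 1)) :=
    (E.opcyclesIsCokernel p (p + 1) (by simp)).coconePointUniqueUpToIso (colimit.isColimit _)
  exact ⟨fun hc => Groth.Agent.ModTensor.isFlat_of_iso c
      (h.1 (preservesFiniteColimits_of_natIso i)),
    fun hf => by
      haveI := h.2 (Groth.Agent.ModTensor.isFlat_of_iso c.symm hf)
      exact preservesFiniteColimits_of_natIso i.symm⟩
end Groth.Agent.S6254
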