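import Groth.Statements.S6255
import Groth.Agent.KExact.RelTensor
-- import your own Groth.Agent.* helpers here

set_option autoImplicit false
universe u
open CategoryTheory CategoryTheory.Limits AlgebraicGeometry
attribute [local instance] HasDerivedCategory.standard
open KSix
set_option linter.style.haveILetI false
set_option backward.isDefEq.respectTransparency false
set_option backward.isDefEq.respectTransparency.types false

namespace Groth.Agent.S6255

/-- Let f : X ⟶ Y and g : Y ⟶ Z be morphisms of schemes locally of finite type with composite h, let a,
b, c, d be integers, let E be a cochain complex of O_X-modules whose class in D(O_X) is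
a-pseudo-coherent relative to f (chart form: affine-locally, after a closed immersion into an affine
space over the base, the direct image is a-pseudo-coherent) and acyclic in degrees > b, and let F ∈
D(O_Y) be c-pseudo-coherent relative to g and acyclic in degrees > d. Then, the derived pullback
Lf^* and the derived tensor product with E being assumed to exist, Lf^* F ⊗^L E is m-pseudo-coherent
relative to h with m = max(a + d, b + c), and acyclic in degrees > b + d. (The published statement
writes the relative derived tensor product of E and F over Y, defined as E ⊗^L Lf^* F; this row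
takes the derived tensor product with E as the fixed right-hand factor.) -/
theorem result {X Y Z : Scheme.{u}} (f : X ⟶ Y) (g : Y ⟶ Z) (h : X ⟶ Z)
    (w : f ≫ g = h) [LocallyOfFiniteType f] [LocallyOfFiniteType g] (a b c d : ℤ)
    (E : CochainComplex X.Modules ℤ) (hE : DerSch.IsPseudoCoherentRel f a (DCoh.toD X E))
    [(DCoh.toD X E).IsLE b] (F : DCoh.D Y) (hF : DerSch.IsPseudoCoherentRel g c F) [F.IsLE d]
    [DCoh.HasLpull f] [DCoh.HasLTensorCx E] :
    DerSch.IsPseudoCoherentRel h (max (a + d) (b + c)) ((DCoh.LTensorCx E).obj ((DCoh.Lpull f).obj F)) ∧
      ((DCoh.LTensorCx E).obj ((DCoh.Lpull f).obj F)).IsLE (b + d) := by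
  subst w
  exact ⟨Groth.Agent.KExact.rel_ltensor_lpull f g a b c d E hE inferInstance F hF inferInstance,
    (DerivedCategory.isLE_iff _ _).2 fun i hi => by
      haveI : ((DCoh.Lpull f).obj F).IsLE d := Groth.Agent.KFlatLib.isLE_lpull f F d
      exact Groth.Agent.KFlatLib.TensorTest.isZero_hd_ltensor_of_isLE E b inferInstance _ d
        (fun j hj => DerivedCategory.isZero_of_isLE _ d j hj) i (by omega)⟩

end Groth.Agent.S6255
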