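import Groth.Statements.S6256
import Groth.Agent.KExact.RelTensor
import Groth.Agent.KSixRel.SpreadRel
import Groth.Agent.S6240
-- import your own Groth.Agent.* helpers here

set_option autoImplicit false
universe u
open CategoryTheory CategoryTheory.Limits AlgebraicGeometry
attribute [local instance] HasDerivedCategory.standard
open KSix
set_option linter.style.haveILetI false
set_option backward.isDefEq.respectTransparency false
set_option backward.isDefEq.respectTransparency.types false

namespace Groth.Agent.S6256

/-- Let f : X ⟶ Y and g : Y ⟶ Z be morphisms of schemes locally of finite type with composite h, let a,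
b, c, d be integers, let E be a cochain complex of O_X-modules with perfect amplitude in [a, b]
relative to f (pseudo-coherent relative to f in chart form, with stalkwise tor amplitude in [a, b]
over the local rings of Y) and F a cochain complex of O_Y-modules with perfect amplitude in [c, d]
relative to g. Then, the derived pullback Lf^* and the derived tensor product with E being assumed
to exist, Lf^* F ⊗^L E has perfect amplitude in [a + c, b + d] relative to h: every cochain complex
representing it does; in particular it is perfect relative to h when E and F are perfect relative to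
f and g. (The published statement writes the relative derived tensor product of E and F over Y,
defined as E ⊗^L Lf^* F; this row takes the derived tensor product with E as the fixed right-hand
factor.) -/
theorem result {X Y Z : Scheme.{u}} (f : X ⟶ Y) (g : Y ⟶ Z) (h : X ⟶ Z)
    (w : f ≫ g = h) [LocallyOfFiniteType f] [LocallyOfFiniteType g] (a b c d : ℤ)
    (E : CochainComplex X.Modules ℤ) (hE : DerSch.HasPerfAmplitudeRel f a b E)
    (F : CochainComplex Y.Modules ℤ) (hF : DerSch.HasPerfAmplitudeRel g c d F)
    [DCoh.HasLpull f] [DCoh.HasLTensorCx E] :
    ∀ K : CochainComplex X.Modules ℤ,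
      Nonempty (DCoh.toD X K ≅ (DCoh.LTensorCx E).obj ((DCoh.Lpull f).obj (DCoh.toD Y F))) →
        DerSch.HasPerfAmplitudeRel h (a + c) (b + d) K := by
  intro K hK
  obtain ⟨eK⟩ := hK
  have hEb : (DCoh.toD X E).IsLE b := (DerivedCategory.isLE_iff _ _).2 fun i hi =>
    (Groth.Agent.KSixRel.isZero_homology_of_torAmp f hE.2 i (Or.inr hi)).of_iso
      ((DerivedCategory.homologyFunctorFactors X.Modules i).app E)
  have hFd : (DCoh.toD Y F).IsLE d := (DerivedCategory.isLE_iff _ _).2 fun i hi =>
    (Groth.Agent.KSixRel.isZero_homology_of_torAmp g hF.2 i (Or.inr hi)).of_iso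
      ((DerivedCategory.homologyFunctorFactors Y.Modules i).app F)
  subst w
  refine ⟨fun m => Groth.Agent.RelPC17.rel_of_iso' (f ≫ g) eK.symm ?_, ?_⟩
  · have := Groth.Agent.KExact.rel_ltensor_lpull f g (m - d) b (m - b) d E (hE.1 _) hEb _ (hF.1 _) hFd
    rwa [sub_add_cancel, add_sub_cancel, max_self] at this
  · exact Groth.Agent.S6240.result f g (f ≫ g) rfl E a b hE.2 F c d hF.2 K ⟨eK⟩

end Groth.Agent.S6256
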