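import Groth.Statements.S6258
import Groth.Agent.KExact.ExternalBdd
-- import your own Groth.Agent.* helpers here

set_option autoImplicit false
universe u
open CategoryTheory CategoryTheory.Limits AlgebraicGeometry
attribute [local instance] HasDerivedCategory.standard
open KSix
set_option linter.style.haveILetI false
set_option backward.isDefEq.respectTransparency false
set_option backward.isDefEq.respectTransparency.types false

namespace Groth.Agent.S6258

/-- Flat first factor: let S be a scheme and, for i = 1, 2, f_i : X_i ⟶ Y_i a morphism of S-schemes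
(structure morphisms q_i : Y_i ⟶ S), with X₁ and Y₁ flat over S; let X = X₁ ×_S X₂ and Y = Y₁ ×_S Y₂
be given by pullback squares, with projections p₁ : X ⟶ X₁, p₂ : X ⟶ X₂, and f : X ⟶ Y the morphism
compatible with the projections. Let E₁ be a cochain complex of O_{X₁}-modules with tor amplitude in
[a₁, b₁] relative to f₁ (stalkwise flat models over the local rings of Y₁) and E₂ ∈ D(O_{X₂}), given
by a cochain complex, acyclic outside [a₂, b₂]. The external derived tensor product E₁ ⊗^L_S E₂ =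
Lp₁^* E₁ ⊗^L Lp₂^* E₂ is written, the derived pullbacks being assumed to exist, as Lp₁^* E₁ ⊗^L K₂
for any cochain complex K₂ representing Lp₂^* E₂ for which the derived tensor product exists. Then
E₁ ⊗^L_S E₂ is acyclic outside [a₁ + a₂, b₁ + b₂]. (The published statement assumes only that X₁, X₂
and Y₁, Y₂ are tor-independent over S; that is not enough for the lower bound: over the spectrum S
of a discrete valuation ring with closed point s, take X₁ = Y₁ = s with E₁ the structure sheaf, and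
X₂ = Y₂ = S with E₂ the residue field at s in degree 0 — all tor-independence conditions hold since
X₂ = Y₂ = S, yet the external product on X₁ ×_S X₂ = s has nonzero cohomology in degree -1. The
published stalk computation uses that the local rings of Y₁ ×_S Y₂ are flat over those of Y₂; this
row therefore takes X₁ and Y₁ flat over S, which gives that and both tor-independence conditions.) -/
theorem result {S X₁ Y₁ X₂ Y₂ X Y : Scheme.{u}} (f₁ : X₁ ⟶ Y₁) (q₁ : Y₁ ⟶ S)
    (f₂ : X₂ ⟶ Y₂) (q₂ : Y₂ ⟶ S) [Flat q₁] [Flat (f₁ ≫ q₁)]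
    (pX₁ : X ⟶ X₁) (pX₂ : X ⟶ X₂) (hX : IsPullback pX₁ pX₂ (f₁ ≫ q₁) (f₂ ≫ q₂))
    (pY₁ : Y ⟶ Y₁) (pY₂ : Y ⟶ Y₂) (hY : IsPullback pY₁ pY₂ q₁ q₂)
    (f : X ⟶ Y) (hf₁ : f ≫ pY₁ = pX₁ ≫ f₁) (hf₂ : f ≫ pY₂ = pX₂ ≫ f₂)
    (E₁ : CochainComplex X₁.Modules ℤ) (a₁ b₁ : ℤ) (h₁ : DerSch.HasTorAmplitude f₁ a₁ b₁ E₁)
    (E₂ : CochainComplex X₂.Modules ℤ) (a₂ b₂ : ℤ) [(DCoh.toD X₂ E₂).IsGE a₂] [(DCoh.toD X₂ E₂).IsLE b₂]
    [DCoh.HasLpull pX₁] [DCoh.HasLpull pX₂] :
    ∀ (K₂ : CochainComplex X.Modules ℤ) [DCoh.HasLTensorCx K₂],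
      Nonempty (DCoh.toD X K₂ ≅ (DCoh.Lpull pX₂).obj (DCoh.toD X₂ E₂)) →
        (((DCoh.LTensorCx K₂).obj ((DCoh.Lpull pX₁).obj (DCoh.toD X₁ E₁)))).IsGE (a₁ + a₂) ∧ (((DCoh.LTensorCx K₂).obj ((DCoh.Lpull pX₁).obj (DCoh.toD X₁ E₁)))).IsLE (b₁ + b₂) := by
  intro K₂ _ hK
  obtain ⟨e⟩ := hK
  exact Groth.Agent.KExact.amplitude_external hX E₁ a₁ b₁ h₁ _ a₂ b₂ inferInstance inferInstance K₂ e

end Groth.Agent.S6258
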