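import Groth.Statements.S6261
import Groth.Agent.KExact.ExternalBdd
-- import your own Groth.Agent.* helpers here

set_option autoImplicit false
universe u
open CategoryTheory CategoryTheory.Limits AlgebraicGeometry
attribute [local instance] HasDerivedCategory.standard
open KSix
set_option linter.style.haveILetI false
set_option backward.isDefEq.respectTransparency false
set_option backward.isDefEq.respectTransparency.types false

namespace Groth.Agent.S6261

/-- Flat first factor: let S be a scheme and, for i = 1, 2, f_i : X_i ⟶ Y_i a morphism of S-schemes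
(structure morphisms q_i : Y_i ⟶ S), with X₁ and Y₁ flat over S; let X = X₁ ×_S X₂ and Y = Y₁ ×_S Y₂
be given by pullback squares, with projections p₁ : X ⟶ X₁, p₂ : X ⟶ X₂, and f : X ⟶ Y the morphism
compatible with the projections; assume f₁ and f₂ locally of finite type. Let E₁ be a cochain
complex of O_{X₁}-modules with perfect amplitude in [a₁, b₁] relative to f₁ (pseudo-coherent
relative to f₁ in chart form and of stalkwise tor amplitude in [a₁, b₁] over the local rings of Y₁),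
and E₂ ∈ D(O_{X₂}), given by a cochain complex, pseudo-coherent relative to f₂ and acyclic outside
[a₂, b₂]. The external derived tensor product E₁ ⊗^L_S E₂ = Lp₁^* E₁ ⊗^L Lp₂^* E₂ is written, the
derived pullbacks being assumed to exist, as Lp₁^* E₁ ⊗^L K₂ for any cochain complex K₂ representing
Lp₂^* E₂ for which the derived tensor product exists. Then E₁ ⊗^L_S E₂ is pseudo-coherent relative
to f and acyclic outside [a₁ + a₂, b₁ + b₂]. (The published statement assumes only that X₁, X₂ and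
Y₁, Y₂ are tor-independent over S; as for the acyclicity statement it rests on, that is not enough
for the lower bound: over the spectrum S of a discrete valuation ring with closed point s, X₁ = Y₁ =
s with E₁ the structure sheaf and X₂ = Y₂ = S with E₂ the residue field at s in degree 0 satisfy
every hypothesis with [a_i, b_i] = [0, 0], yet the external product has nonzero cohomology in degree
-1. This row takes X₁ and Y₁ flat over S.) -/
theorem result {S X₁ Y₁ X₂ Y₂ X Y : Scheme.{u}} (f₁ : X₁ ⟶ Y₁) (q₁ : Y₁ ⟶ S)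
    (f₂ : X₂ ⟶ Y₂) (q₂ : Y₂ ⟶ S) [Flat q₁] [Flat (f₁ ≫ q₁)]
    (pX₁ : X ⟶ X₁) (pX₂ : X ⟶ X₂) (hX : IsPullback pX₁ pX₂ (f₁ ≫ q₁) (f₂ ≫ q₂))
    (pY₁ : Y ⟶ Y₁) (pY₂ : Y ⟶ Y₂) (hY : IsPullback pY₁ pY₂ q₁ q₂)
    (f : X ⟶ Y) (hf₁ : f ≫ pY₁ = pX₁ ≫ f₁) (hf₂ : f ≫ pY₂ = pX₂ ≫ f₂)
    [LocallyOfFiniteType f₁] [LocallyOfFiniteType f₂]
    (E₁ : CochainComplex X₁.Modules ℤ) (a₁ b₁ : ℤ) (h₁ : DerSch.HasPerfAmplitudeRel f₁ a₁ b₁ E₁)
    (E₂ : CochainComplex X₂.Modules ℤ) (a₂ b₂ : ℤ) (h₂ : DerSch.IsPseudoCoherentRelAll f₂ (DCoh.toD X₂ E₂))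
    [(DCoh.toD X₂ E₂).IsGE a₂] [(DCoh.toD X₂ E₂).IsLE b₂] [DCoh.HasLpull pX₁] [DCoh.HasLpull pX₂] :
    ∀ (K₂ : CochainComplex X.Modules ℤ) [DCoh.HasLTensorCx K₂],
      Nonempty (DCoh.toD X K₂ ≅ (DCoh.Lpull pX₂).obj (DCoh.toD X₂ E₂)) →
        DerSch.IsPseudoCoherentRelAll f ((DCoh.LTensorCx K₂).obj ((DCoh.Lpull pX₁).obj (DCoh.toD X₁ E₁))) ∧
          (((DCoh.LTensorCx K₂).obj ((DCoh.Lpull pX₁).obj (DCoh.toD X₁ E₁)))).IsGE (a₁ + a₂) ∧ (((DCoh.LTensorCx K₂).obj ((DCoh.Lpull pX₁).obj (DCoh.toD X₁ E₁)))).IsLE (b₁ + b₂) := by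
  intro K₂ _ hK
  obtain ⟨e⟩ := hK
  obtain ⟨hp₁, ht₁⟩ := h₁
  exact ⟨Groth.Agent.KExact.relAll_external' hX hY hf₁ hf₂ _ b₁ hp₁ (Groth.Agent.KExact.isLE_of_torAmp f₁ ht₁)
    _ b₂ h₂ inferInstance K₂ e,
    Groth.Agent.KExact.amplitude_external hX E₁ a₁ b₁ ht₁ _ a₂ b₂ inferInstance inferInstance K₂ e⟩

end Groth.Agent.S6261
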