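import Groth.Statements.S6263
import Mathlib

set_option autoImplicit false
universe u
open CAlg

namespace Groth.Agent.S6263

/-- For a ring map R → S and a finite S-module N which is flat as an R-module, generalizations lift
along the map from the support of N (a subset of Spec S) to Spec R: if p ≤ p' are primes of R and q'
is a prime of S in the support of N whose inverse image in R is p', then some prime q ≤ q' of S lies
in the support of N and has inverse image p. -/
theorem result {R S : Type u} [CommRing R] [CommRing S] [Algebra R S] (N : Type u) [AddCommGroup N] [Module S N] [Module R N] [IsScalarTower R S N] [Module.Finite S N] [Module.Flat R N] (p p' : Ideal R) [p.IsPrime] [p'.IsPrime] (hle : p ≤ p') (q' : PrimeSpectrum S) (hq' : q' ∈ Module.support S N) (hover : q'.asIdeal.under R = p') : ∃ q : PrimeSpectrum S, q ≤ q' ∧ q ∈ Module.support S N ∧ q.asIdeal.under R = p := by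
  open TensorProduct in
  classical
  have hann : Module.annihilator S N ≤ q'.asIdeal := by
    rw [Module.support_eq_zeroLocus] at hq'
    exact hq'
  let J : Ideal S := Module.annihilator S N ⊔ p.map (algebraMap R S)
  let W : Submonoid S := q'.asIdeal.primeCompl ⊔ p.primeCompl.map (algebraMap R S)
  have hdisj : Disjoint (J : Set S) (W : Set S) := by
    rw [Set.disjoint_left]
    intro w hwJ hwW
    obtain ⟨t, ht, _, ⟨s, hs, rfl⟩, rfl⟩ := Submonoid.mem_sup.mp hwW
    let P : Submodule R N := p • ⊤
    have hP : ∀ x, x ∈ P ↔ x ∈ p.map (algebraMap R S) • (⊤ : Submodule S N) := fun x => by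
      rw [← Submodule.restrictScalars_mem R (p.map (algebraMap R S) • (⊤ : Submodule S N)),
        Ideal.smul_restrictScalars, Submodule.restrictScalars_top]
    have hreg : ∀ x : N, s • x ∈ P → x ∈ P := by
      intro x hx
      have h1 : IsSMulRegular (R ⧸ p) s := by
        intro a b hab
        simp only [Algebra.smul_def] at hab
        exact mul_left_cancel₀ (fun h => hs (Ideal.Quotient.eq_zero_iff_mem.mp h)) hab
      have h2 : IsSMulRegular ((R ⧸ p) ⊗[R] N) s := h1.rTensor N
      have h3 : (1 : R ⧸ p) ⊗ₜ[R] x = 0 := h2 (by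
        show s • ((1 : R ⧸ p) ⊗ₜ[R] x) = s • (0 : (R ⧸ p) ⊗[R] N)
        rw [smul_zero, ← TensorProduct.tmul_smul]
        apply (TensorProduct.quotTensorEquivQuotSMul N p).injective
        rw [map_zero, show (1 : R ⧸ p) = Ideal.Quotient.mk p 1 from rfl,
          TensorProduct.quotTensorEquivQuotSMul_mk_tmul, one_smul, Submodule.Quotient.mk_eq_zero]
        exact hx)
      have h4 := congrArg (TensorProduct.quotTensorEquivQuotSMul N p) h3
      rwa [map_zero, show (1 : R ⧸ p) = Ideal.Quotient.mk p 1 from rfl,
        TensorProduct.quotTensorEquivQuotSMul_mk_tmul, one_smul, Submodule.Quotient.mk_eq_zero] at h4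
    have hrange : LinearMap.range (algebraMap S (Module.End S N) t) ≤ p.map (algebraMap R S) • (⊤ : Submodule S N) := by
      rintro _ ⟨x, rfl⟩
      rw [Module.algebraMap_end_apply, ← hP]
      apply hreg
      rw [hP, ← algebraMap_smul S s, ← mul_smul, mul_comm]
      obtain ⟨a, ha, b, hb, hab⟩ := Submodule.mem_sup.mp hwJ
      rw [← hab, add_smul, Module.mem_annihilator.mp ha x, zero_add]
      exact Submodule.smul_mem_smul hb Submodule.mem_top
    obtain ⟨f, hfm, -, hfc, hf0⟩ :=
      LinearMap.exists_monic_and_natDegree_eq_and_coeff_mem_pow_and_aeval_eq_zero (f := algebraMap S (Module.End S N) t) (hI := hrange)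
    have hev : f.eval t ∈ q'.asIdeal := hann (Module.mem_annihilator.mpr fun x => by
      have := DFunLike.congr_fun hf0 x
      rw [Polynomial.aeval_algebraMap_apply_eq_algebraMap_eval, Module.algebraMap_end_apply] at this
      exact this)
    refine ht ?_
    have hpq : p.map (algebraMap R S) ≤ q'.asIdeal := Ideal.map_le_iff_le_comap.mpr (hle.trans hover.ge)
    have hlow : ∀ k < f.natDegree, f.coeff k * t ^ k ∈ q'.asIdeal := fun k hk =>
      Ideal.mul_mem_right _ _ (hpq ((Ideal.pow_le_self (by
        rename_i h; omega)) (hfc k)))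
    rw [Polynomial.eval_eq_sum_range, Finset.sum_range_succ, hfm.coeff_natDegree, one_mul] at hev
    exact q'.isPrime.mem_of_pow_mem _ ((Ideal.add_mem_iff_right _ (Ideal.sum_mem _ fun k hk =>
      hlow k (Finset.mem_range.mp hk))).mp hev)
  obtain ⟨q, hq, hJq, hdq⟩ := Ideal.exists_le_prime_disjoint J W hdisj
  have hqq : q ≤ q'.asIdeal := by
    intro x hx
    by_contra h
    exact Set.disjoint_left.mp hdq hx (Submonoid.mem_sup_left h)
  refine ⟨⟨q, hq⟩, hqq, ?_, le_antisymm ?_ ?_⟩
  · rw [Module.support_eq_zeroLocus]
    exact le_sup_left.trans hJq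
  · intro x hx
    by_contra h
    exact Set.disjoint_left.mp hdq hx (Submonoid.mem_sup_right ⟨x, h, rfl⟩)
  · exact Ideal.map_le_iff_le_comap.mp (le_sup_right.trans hJq)

end Groth.Agent.S6263
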