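import Groth.Statements.S6265
import Mathlib

set_option autoImplicit false
universe u
open CAlg

namespace Groth.Agent.S6265

/-- Let R → S be a ring map with the going-down property such that over every prime of R lies at most
one prime of S, and let p be a prime of R and q a prime of S above it. Then the localization S_p of
S at the image of R - p is a localization of S at q, i.e. S_p = S_q. -/
theorem result {R S : Type u} [CommRing R] [CommRing S] [Algebra R S] [Algebra.HasGoingDown R S] (hinj : ∀ q₁ q₂ : Ideal S, q₁.IsPrime → q₂.IsPrime → q₁.under R = q₂.under R → q₁ = q₂) (p : Ideal R) [p.IsPrime] (q : Ideal S) [q.IsPrime] [q.LiesOver p] : IsLocalization.AtPrime (Localization (Algebra.algebraMapSubmonoid S p.primeCompl)) q := by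
  classical
  set M := Algebra.algebraMapSubmonoid S p.primeCompl
  refine IsLocalization.of_le M q.primeCompl ?_ ?_
  · rintro _ ⟨r, hr, rfl⟩ hrq
    exact hr (by rw [q.over_def p]; exact hrq)
  · intro x hx
    by_contra hu
    obtain ⟨m, hm, hxm⟩ := exists_max_ideal_of_mem_nonunits (a := algebraMap S (Localization M) x) hu
    let Q := m.comap (algebraMap S (Localization M))
    haveI : Q.IsPrime := Ideal.IsPrime.comap _
    have hQp : Q.under R ≤ p := by
      intro r hr
      by_contra hrp
      exact hm.ne_top (Ideal.eq_top_of_isUnit_mem _ hr
        (IsLocalization.map_units (Localization M) (⟨algebraMap R S r, r, hrp, rfl⟩ : M)))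
    obtain ⟨Q', hle, hQ', hQ'p⟩ := Ideal.exists_ideal_le_liesOver_of_le q hQp
    have he := hinj Q Q' inferInstance hQ' hQ'p.over
    exact hx (hle (he ▸ (hxm : x ∈ Q)))

end Groth.Agent.S6265
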