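import Groth.Statements.S6267
import Groth.Agent.CAlgUI.FlatML

set_option autoImplicit false
universe u
open CAlg

namespace Groth.Agent.S6267

/-- Let R be a ring and f : M → M' a map of R-modules with M' flat. Then f is universally injective
exactly when, for each finitely generated ideal I of R, the induced map M ⊗ R/I → M' ⊗ R/I (that is,
M/IM → M'/IM') is injective. -/
theorem result {R : Type u} [CommRing R] {M M' : Type u} [AddCommGroup M] [Module R M] [AddCommGroup M'] [Module R M'] [Module.Flat R M'] (f : M →ₗ[R] M') : CAlgX.UniversallyInjective R f ↔ ∀ I : Ideal R, I.FG → Function.Injective (f.rTensor (R ⧸ I)) := by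
  exact Groth.Agent.CAlgUI.ui_iff_quotient_ideals f

end Groth.Agent.S6267
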