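import Groth.Statements.S6268
import Groth.Agent.CAlgUI.Basic

set_option autoImplicit false
universe u
open CAlg

namespace Groth.Agent.S6268

/-- Suppose the structure map R → S of an R-algebra S is universally injective as an R-linear map. Then
tensoring with S detects injectivity and surjectivity of R-linear maps (and hence reflects
isomorphisms): for an R-linear g : M → N, if S ⊗ g is injective then so is g, and if S ⊗ g is
surjective then so is g. -/
theorem result {R S : Type u} [CommRing R] [CommRing S] [Algebra R S] (hS : CAlgX.UniversallyInjective R (Algebra.linearMap R S)) {M N : Type u} [AddCommGroup M] [Module R M] [AddCommGroup N] [Module R N] (g : M →ₗ[R] N) : (Function.Injective (g.lTensor S) → Function.Injective g) ∧ (Function.Surjective (g.lTensor S) → Function.Surjective g) := by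
  have key : ∀ (X : Type u) [AddCommGroup X] [Module R X],
      Function.Injective fun x : X => (1 : S) ⊗ₜ[R] x := by
    intro X _ _ a b hab
    refine (TensorProduct.lid R X).symm.injective (hS X ?_)
    simpa using hab
  refine ⟨fun hg a b hab => key M (hg ?_), fun hg => ?_⟩
  · simp [hab]
  · rw [← LinearMap.range_eq_top, ← Submodule.Quotient.subsingleton_iff]
    refine subsingleton_of_forall_eq 0 fun q => ?_
    obtain ⟨n, rfl⟩ := Submodule.Quotient.mk_surjective _ q
    refine key _ ?_
    obtain ⟨t, ht⟩ := hg ((1 : S) ⊗ₜ n)
    have hh := congrArg ((LinearMap.range g).mkQ.lTensor S) ht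
    rw [← LinearMap.comp_apply, ← LinearMap.lTensor_comp, LinearMap.range_mkQ_comp,
      LinearMap.lTensor_zero, LinearMap.zero_apply] at hh
    simpa using hh.symm

end Groth.Agent.S6268
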