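import Groth.Statements.S6269
import Groth.Agent.CAlgUI.Flat

set_option autoImplicit false
universe u
open CAlg

namespace Groth.Agent.S6269

/-- Let 0 → M₁ → M₂ → M₃ → 0 be a universally exact sequence of R-modules (a short exact sequence whose
first map is universally injective) with M₂ flat. Then M₁ and M₃ are flat. -/
theorem result {R : Type u} [CommRing R] {M₁ M₂ M₃ : Type u} [AddCommGroup M₁] [Module R M₁] [AddCommGroup M₂] [Module R M₂] [AddCommGroup M₃] [Module R M₃] (f : M₁ →ₗ[R] M₂) (g : M₂ →ₗ[R] M₃) (hexact : Function.Exact f g) (hg : Function.Surjective g) (hf : CAlgX.UniversallyInjective R f) [Module.Flat R M₂] : Module.Flat R M₁ ∧ Module.Flat R M₃ := by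
  exact ⟨Groth.Agent.CAlgUI.flat_left_of_ui hf, Groth.Agent.CAlgUI.flat_right_of_ui hexact hg hf⟩

end Groth.Agent.S6269
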