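import Groth.Statements.S6271
import Mathlib
import Groth.Agent.CAlgOdd.LiftLocNil

set_option autoImplicit false
universe u
open scoped TensorProduct
open CAlg

namespace Groth.Agent.S6271

/-- Let R be a ring, I ⊆ R a locally nilpotent ideal (every element of I is nilpotent) and P̄ a finite
projective R/I-module. Then there is a finite projective R-module P such that P/IP (that is, R/I ⊗
P) is isomorphic to P̄ as an R/I-module. -/
theorem result {R : Type u} [CommRing R] (I : Ideal R) (hI : ∀ x ∈ I, IsNilpotent x) (Pb : Type u) [AddCommGroup Pb] [Module (R ⧸ I) Pb] [Module.Projective (R ⧸ I) Pb] [Module.Finite (R ⧸ I) Pb] : ∃ (P : Type u) (_ : AddCommGroup P) (_ : Module R P), Module.Projective R P ∧ Module.Finite R P ∧ Nonempty (((R ⧸ I) ⊗[R] P) ≃ₗ[R ⧸ I] Pb) := by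
  have hf : Function.Surjective (algebraMap R (R ⧸ I)) := Ideal.Quotient.mk_surjective
  obtain ⟨P, i1, i2, h1, h2, h3⟩ := Groth.Agent.CAlgOdd.exists_lift_of_locally_nilpotent hf
    (fun x hx => hI x (by rwa [Ideal.Quotient.algebraMap_eq, Ideal.mk_ker] at hx)) Pb
  exact ⟨P, i1, i2, h2, h1, h3⟩

end Groth.Agent.S6271
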