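import Groth.Statements.S6272
import Mathlib

set_option autoImplicit false
universe u
open scoped TensorProduct
open CAlg

namespace Groth.Agent.S6272

/-- Over a ring R, take two ideals I and J meeting in zero (I ∩ J = 0) and an R-module P. If the
R/I-module P/IP (that is, R/I ⊗ P) and the R/J-module P/JP (that is, R/J ⊗ P) are both projective,
then P itself is projective over R. -/
theorem result {R : Type u} [CommRing R] (I J : Ideal R) (hIJ : I ⊓ J = ⊥) (P : Type u) [AddCommGroup P] [Module R P] (hI : Module.Projective (R ⧸ I) ((R ⧸ I) ⊗[R] P)) (hJ : Module.Projective (R ⧸ J) ((R ⧸ J) ⊗[R] P)) : Module.Projective R P := by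
  classical
  let A := R ⧸ I
  let B := R ⧸ J
  let F := P →₀ R
  let π : F →ₗ[R] P := Finsupp.linearCombination R id
  have hπ : Function.Surjective π := fun x => ⟨Finsupp.single x 1, by
    show Finsupp.linearCombination R id (Finsupp.single x (1 : R)) = x
    rw [Finsupp.linearCombination_single, one_smul]
    rfl⟩
  have mem0 : ∀ (K : Ideal R) (Q : Type u) [AddCommGroup Q] [Module R Q] (x : Q),
      (1 : R ⧸ K) ⊗ₜ[R] x = 0 ↔ x ∈ K • (⊤ : Submodule R Q) := by
    intro K Q _ _ x
    rw [← (TensorProduct.quotTensorEquivQuotSMul Q K).map_eq_zero_iff,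
      show (1 : R ⧸ K) = Ideal.Quotient.mk K 1 from rfl,
      TensorProduct.quotTensorEquivQuotSMul_mk_tmul, one_smul, Submodule.Quotient.mk_eq_zero]
  have msurj : ∀ (K : Ideal R) (Q : Type u) [AddCommGroup Q] [Module R Q],
      Function.Surjective (TensorProduct.mk R (R ⧸ K) Q 1) := by
    intro K Q _ _ z
    induction z using TensorProduct.induction_on with
    | zero => exact ⟨0, map_zero _⟩
    | add a b ha hb =>
      obtain ⟨x, rfl⟩ := ha
      obtain ⟨y, rfl⟩ := hb
      exact ⟨x + y, map_add _ _ _⟩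
    | tmul a x =>
      obtain ⟨r, rfl⟩ := Ideal.Quotient.mk_surjective a
      refine ⟨r • x, ?_⟩
      show (1 : R ⧸ K) ⊗ₜ[R] (r • x) = _
      rw [← TensorProduct.smul_tmul, Algebra.smul_def, mul_one]
      rfl
  -- lifts modulo each ideal
  have lift : ∀ (K : Ideal R), Module.Projective (R ⧸ K) (TensorProduct R (R ⧸ K) P) →
      ∃ σ : TensorProduct R (R ⧸ K) P →ₗ[R ⧸ K] TensorProduct R (R ⧸ K) F,
        ∀ z, π.baseChange (R ⧸ K) (σ z) = z := by
    intro K hK
    have hsurj : Function.Surjective (π.baseChange (R ⧸ K)) := by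
      intro z
      obtain ⟨x, rfl⟩ := msurj K P z
      obtain ⟨w, rfl⟩ := hπ x
      exact ⟨(1 : R ⧸ K) ⊗ₜ[R] w, by simp⟩
    obtain ⟨σ, hσ⟩ := Module.projective_lifting_property (π.baseChange (R ⧸ K)) LinearMap.id hsurj
    exact ⟨σ, LinearMap.congr_fun hσ⟩
  obtain ⟨σI, hσI⟩ := lift I hI
  obtain ⟨σJ, hσJ⟩ := lift J hJ
  -- pick any map with the right reduction on a basis
  let sI : P →ₗ[R] TensorProduct R A F := σI.restrictScalars R ∘ₗ TensorProduct.mk R A P 1
  let sJ : P →ₗ[R] TensorProduct R B F := σJ.restrictScalars R ∘ₗ TensorProduct.mk R B P 1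
  let qI : F →ₗ[R] TensorProduct R A F := TensorProduct.mk R A F 1
  let qJ : F →ₗ[R] TensorProduct R B F := TensorProduct.mk R B F 1
  let q : F →ₗ[R] TensorProduct R A F × TensorProduct R B F := qI.prod qJ
  have hqker : LinearMap.ker q = ⊥ := by
    rw [eq_bot_iff]
    intro x hx
    have hx1 : qI x = 0 := congrArg Prod.fst (LinearMap.mem_ker.mp hx)
    have hx2 : qJ x = 0 := congrArg Prod.snd (LinearMap.mem_ker.mp hx)
    simp only [qI, qJ, TensorProduct.mk_apply, mem0] at hx1 hx2
    rw [Submodule.mem_bot]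
    ext i
    have hcoord : ∀ (K : Ideal R), x ∈ K • (⊤ : Submodule R F) → x i ∈ K := by
      intro K h
      refine Submodule.smul_induction_on h (fun r hr s _ => ?_) (fun a b ha hb => ?_)
      · exact K.mul_mem_right _ hr
      · exact K.add_mem ha hb
    have : x i ∈ I ⊓ J := ⟨hcoord I hx1, hcoord J hx2⟩
    rw [hIJ] at this
    simpa using this
  -- compatibility modulo I + J
  obtain ⟨τ, hτ⟩ : ∃ τ : P →ₗ[R] TensorProduct R B F,
      (π.baseChange B).restrictScalars R ∘ₗ τ = TensorProduct.mk R B P 1 ∧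
      ∀ (x : P) (u v : F), qI u = sI x → qJ v = τ x → u - v ∈ (I ⊔ J) • (⊤ : Submodule R F) := by
    let I' : Ideal B := I.map (algebraMap R B)
    let NB : Submodule B (TensorProduct R B F) := I' • ⊤
    let φ : F →ₗ[R] TensorProduct R B F ⧸ NB := NB.mkQ.restrictScalars R ∘ₗ qJ
    have hφ : I • (⊤ : Submodule R F) ≤ LinearMap.ker φ := by
      intro a ha
      refine Submodule.smul_induction_on ha (fun r hr w _ => ?_) (fun a b ha hb => Submodule.add_mem _ ha hb)
      show NB.mkQ (qJ (r • w)) = 0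
      rw [map_smul, ← algebraMap_smul B, Submodule.mkQ_apply, Submodule.Quotient.mk_eq_zero]
      exact Submodule.smul_mem_smul (Ideal.mem_map_of_mem _ hr) Submodule.mem_top
    let rA : TensorProduct R A F →ₗ[R] TensorProduct R B F ⧸ NB :=
      Submodule.liftQ _ φ hφ ∘ₗ (TensorProduct.quotTensorEquivQuotSMul F I).toLinearMap
    have hrA : ∀ u : F, rA (qI u) = NB.mkQ (qJ u) := fun u => by
      simp only [rA, qI, LinearMap.comp_apply, LinearEquiv.coe_coe, TensorProduct.mk_apply]
      rw [show (1 : A) = Ideal.Quotient.mk I 1 from rfl,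
        TensorProduct.quotTensorEquivQuotSMul_mk_tmul, one_smul]
      rfl
    let g : TensorProduct R B F →ₗ[B] (TensorProduct R B F ⧸ NB) × TensorProduct R B P :=
      NB.mkQ.prod (π.baseChange B)
    let d : TensorProduct R B P →ₗ[B] (TensorProduct R B F ⧸ NB) × TensorProduct R B P :=
      (LinearMap.liftBaseChange B (rA ∘ₗ sI)).prod LinearMap.id
    have hd : ∀ z, d z ∈ LinearMap.range g := by
      intro z
      obtain ⟨x, rfl⟩ := msurj J P z
      obtain ⟨u, hu⟩ := msurj I F (sI x)
      have h1 : (1 : A) ⊗ₜ[R] π u = (1 : A) ⊗ₜ[R] x := by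
        have := congrArg (π.baseChange A) hu
        simp only [TensorProduct.mk_apply, LinearMap.baseChange_tmul] at this
        rw [this]
        exact hσI _
      rw [← sub_eq_zero, ← TensorProduct.tmul_sub, mem0] at h1
      have e : I • (⊤ : Submodule R P) = (I • (⊤ : Submodule R F)).map π := by
        rw [Submodule.map_smul'', Submodule.map_top, LinearMap.range_eq_top.mpr hπ]
      rw [e] at h1
      obtain ⟨a, ha, hax⟩ := Submodule.mem_map.mp h1
      refine ⟨qJ (u - a), Prod.ext ?_ ?_⟩
      · show NB.mkQ (qJ (u - a)) = LinearMap.liftBaseChange B (rA ∘ₗ sI) ((1 : B) ⊗ₜ[R] x)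
        rw [LinearMap.liftBaseChange_tmul, one_smul, LinearMap.comp_apply, ← hu, map_sub, map_sub,
          show NB.mkQ (qJ a) = 0 from hφ ha, sub_zero]
        exact (hrA u).symm
      · show (π.baseChange B) ((1 : B) ⊗ₜ[R] (u - a)) = (1 : B) ⊗ₜ[R] x
        rw [LinearMap.baseChange_tmul, map_sub, hax]
        congr 1
        abel
    obtain ⟨δ, hδ⟩ := Module.projective_lifting_property g.rangeRestrict (d.codRestrict _ hd)
      g.surjective_rangeRestrict
    have hδ' : ∀ z, g (δ z) = d z := fun z => congrArg Subtype.val (LinearMap.congr_fun hδ z)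
    refine ⟨δ.restrictScalars R ∘ₗ TensorProduct.mk R B P 1, ?_, ?_⟩
    · refine LinearMap.ext fun x => ?_
      exact congrArg Prod.snd (hδ' ((1 : B) ⊗ₜ[R] x))
    · intro x u v hu hv
      have h := congrArg Prod.fst (hδ' ((1 : B) ⊗ₜ[R] x))
      have h' : NB.mkQ (qJ v) = NB.mkQ (qJ u) := by
        rw [← hrA u, hu]
        rw [show qJ v = δ ((1 : B) ⊗ₜ[R] x) from hv]
        refine h.trans ?_
        show LinearMap.liftBaseChange B (rA ∘ₗ sI) ((1 : B) ⊗ₜ[R] x) = _
        rw [LinearMap.liftBaseChange_tmul, one_smul]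
        rfl
      have hmem : qJ v - qJ u ∈ NB := by
        rw [← Submodule.Quotient.mk_eq_zero, ← Submodule.mkQ_apply, map_sub, h', sub_self]
      have hNB : ∀ z ∈ NB, ∃ a ∈ I • (⊤ : Submodule R F), qJ a = z := by
        intro z hz
        refine Submodule.smul_induction_on hz (fun b hb y _ => ?_) ?_
        · obtain ⟨r, hr, rfl⟩ := (Ideal.mem_map_iff_of_surjective _ Ideal.Quotient.mk_surjective).mp hb
          obtain ⟨w, rfl⟩ := msurj J F y
          refine ⟨r • w, Submodule.smul_mem_smul hr Submodule.mem_top, ?_⟩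
          rw [map_smul]
          exact (algebraMap_smul B r _).symm
        · rintro a b ⟨a', ha', rfl⟩ ⟨b', hb', rfl⟩
          exact ⟨a' + b', Submodule.add_mem _ ha' hb', map_add _ _ _⟩
      obtain ⟨a, ha, hae⟩ := hNB _ hmem
      have hJv : v - u - a ∈ J • (⊤ : Submodule R F) := by
        rw [← mem0]
        show qJ (v - u - a) = 0
        rw [map_sub, map_sub, hae, sub_self]
      rw [show u - v = -((v - u - a) + a) by abel]
      exact Submodule.neg_mem _ (Submodule.add_mem _ (Submodule.smul_mono le_sup_right le_rfl hJv)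
        (Submodule.smul_mono le_sup_left le_rfl ha))
  -- glue
  have hrange : ∀ x, (sI x, τ x) ∈ LinearMap.range q := by
    intro x
    obtain ⟨u, hu⟩ := msurj I F (sI x)
    obtain ⟨v, hv⟩ := msurj J F (τ x)
    have h := hτ.2 x u v hu hv
    rw [Submodule.sup_smul] at h
    obtain ⟨a, ha, b, hb, hab⟩ := Submodule.mem_sup.mp h
    refine ⟨u - a, ?_⟩
    refine Prod.ext ?_ ?_
    · show qI (u - a) = sI x
      rw [map_sub, show qI a = 0 from (mem0 I F a).mpr ha, sub_zero]; exact hu
    · show qJ (u - a) = τ x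
      rw [show u - a = v + b by rw [← sub_eq_iff_eq_add'.mpr hab.symm]; abel, map_add,
        show qJ b = 0 from (mem0 J F b).mpr hb, add_zero]
      exact hv
  let s : P →ₗ[R] F := LinearMap.codRestrictOfInjective (sI.prod τ) q
    (LinearMap.ker_eq_bot.mp hqker) hrange
  have hs : ∀ x, q (s x) = (sI x, τ x) := fun x => LinearMap.codRestrictOfInjective_comp_apply _ _ _ _ x
  let δ : P →ₗ[R] P := π ∘ₗ s - LinearMap.id
  have hδ : ∀ x, δ x ∈ I • (⊤ : Submodule R P) ∧ δ x ∈ J • (⊤ : Submodule R P) := by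
    intro x
    have h := hs x
    have h : qI (s x) = sI x ∧ qJ (s x) = τ x := ⟨congrArg Prod.fst h, congrArg Prod.snd h⟩
    constructor
    · rw [← mem0]
      simp only [δ, LinearMap.sub_apply, LinearMap.comp_apply, LinearMap.id_apply, TensorProduct.tmul_sub]
      rw [← LinearMap.baseChange_tmul (A := A) (f := π), show (1 : A) ⊗ₜ[R] s x = qI (s x) from rfl, h.1,
        sub_eq_zero]
      exact hσI _
    · rw [← mem0]
      simp only [δ, LinearMap.sub_apply, LinearMap.comp_apply, LinearMap.id_apply, TensorProduct.tmul_sub]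
      rw [← LinearMap.baseChange_tmul (A := B) (f := π), show (1 : B) ⊗ₜ[R] s x = qJ (s x) from rfl, h.2,
        sub_eq_zero]
      exact LinearMap.congr_fun hτ.1 x
  have hsq : ∀ x, δ (δ x) = 0 := by
    intro x
    refine Submodule.smul_induction_on (hδ x).1 (fun r hr y _ => ?_) (fun a b ha hb => ?_)
    · rw [map_smul]
      refine Submodule.smul_induction_on (hδ y).2 (fun t ht z _ => ?_) (fun a b ha hb => ?_)
      · have h0 : r * t ∈ I ⊓ J := ⟨I.mul_mem_right _ hr, J.mul_mem_left _ ht⟩
        rw [hIJ, Ideal.mem_bot] at h0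
        rw [smul_smul, h0, zero_smul]
      · rw [smul_add, ha, hb, add_zero]
    · rw [map_add, ha, hb, add_zero]
  refine Module.Projective.of_split (s ∘ₗ (LinearMap.id - δ)) π ?_
  ext x
  have e : π (s ((LinearMap.id - δ : P →ₗ[R] P) x)) = δ ((LinearMap.id - δ : P →ₗ[R] P) x) + (LinearMap.id - δ : P →ₗ[R] P) x := by
    simp [δ]
  simp only [LinearMap.comp_apply, LinearMap.id_apply]
  rw [e]
  simp [hsq]

end Groth.Agent.S6272
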