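import Groth.Statements.S6273
import Mathlib

set_option autoImplicit false
universe u
open CAlg

namespace Groth.Agent.S6273

/-- Let R be a ring, S ⊆ R a multiplicative subset and A = S⁻¹R. If the image of Spec(A) → Spec(R) is
closed, then the localization map R → A is surjective; in particular A is isomorphic to R/I for the
ideal I = ker(R → A). -/
theorem result {R : Type u} [CommRing R] (S : Submonoid R) (A : Type u) [CommRing A] [Algebra R A] [IsLocalization S A] (hcl : IsClosed (Set.range (PrimeSpectrum.comap (algebraMap R A)))) : Function.Surjective (algebraMap R A) := by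
  intro a
  obtain ⟨x, s, rfl⟩ := IsLocalization.exists_mk'_eq S a
  let f := algebraMap R A
  have hrange : Set.range (PrimeSpectrum.comap f) = PrimeSpectrum.zeroLocus (RingHom.ker f) := by
    rw [← hcl.closure_eq, PrimeSpectrum.closure_range_comap]
  have htop : RingHom.ker f ⊔ Ideal.span {(s : R)} = ⊤ := by
    by_contra hne
    obtain ⟨m, hm, hle⟩ := Ideal.exists_le_maximal _ hne
    have hmem : (⟨m, hm.isPrime⟩ : PrimeSpectrum R) ∈ Set.range (PrimeSpectrum.comap f) := by
      rw [hrange, PrimeSpectrum.mem_zeroLocus]
      exact fun y hy => hle (Ideal.mem_sup_left hy)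
    obtain ⟨q, hq⟩ := hmem
    have hs : (s : R) ∈ (PrimeSpectrum.comap f q).asIdeal := by
      rw [hq]
      exact hle (Ideal.mem_sup_right (Ideal.mem_span_singleton_self _))
    exact q.isPrime.ne_top (Ideal.eq_top_of_isUnit_mem _ hs (IsLocalization.map_units A s))
  rw [Ideal.eq_top_iff_one, Submodule.mem_sup] at htop
  obtain ⟨y, hy, z, hz, hyz⟩ := htop
  obtain ⟨t, rfl⟩ := Ideal.mem_span_singleton'.mp hz
  have h1 : f t * f (s : R) = 1 := by
    have h := congrArg f hyz
    rwa [map_add, RingHom.mem_ker.mp hy, zero_add, map_mul, map_one] at h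
  refine ⟨x * t, ?_⟩
  rw [IsLocalization.eq_mk'_iff_mul_eq, map_mul]
  change f x * f t * f (s : R) = f x
  rw [mul_assoc, h1, mul_one]

end Groth.Agent.S6273
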