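import Groth.Statements.S6274
import Mathlib

set_option autoImplicit false
universe u
open CAlg

namespace Groth.Agent.S6274

/-- Let R be a ring, S ⊆ R a multiplicative subset and A = S⁻¹R, and assume the image of Spec(A) →
Spec(R) is closed. If Spec(R) is a Noetherian topological space (which holds when R is Noetherian)
or S is finitely generated as a monoid, then R is isomorphic to A × R' for some ring R', by an
isomorphism whose first component is the localization map R → A. -/
theorem result {R : Type u} [CommRing R] (S : Submonoid R) (A : Type u) [CommRing A] [Algebra R A] [IsLocalization S A] (hcl : IsClosed (Set.range (PrimeSpectrum.comap (algebraMap R A)))) (h : TopologicalSpace.NoetherianSpace (PrimeSpectrum R) ∨ S.FG) : ∃ (R' : Type u) (_ : CommRing R') (e : R ≃+* A × R'), ∀ x : R, (e x).1 = algebraMap R A x := by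
  classical
  have hrange := PrimeSpectrum.localization_comap_range A S
  set Z := Set.range (PrimeSpectrum.comap (algebraMap R A)) with hZ
  have hgen : StableUnderGeneralization Z := by
    intro x y hxy hx
    rw [hrange, Set.mem_setOf_eq] at hx ⊢
    exact hx.mono_right ((PrimeSpectrum.le_iff_specializes y x).mpr hxy)
  have hopen : IsOpen Z := by
    rcases h with h | h
    · have hfin : (irreducibleComponents (PrimeSpectrum R)).Finite :=
        TopologicalSpace.NoetherianSpace.finite_irreducibleComponents
      have hsub : ∀ W ∈ irreducibleComponents (PrimeSpectrum R), ∀ x ∈ W, x ∈ Z → W ⊆ Z := by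
        intro W hW x hxW hxZ
        obtain ⟨η, hη⟩ := QuasiSober.sober hW.1 (isClosed_of_mem_irreducibleComponents W hW)
        have hηZ : η ∈ Z := hgen (hη.specializes hxW) hxZ
        intro y hy
        exact (hη.specializes hy).mem_closed hcl hηZ
      have hcompl : Zᶜ = ⋃ W ∈ {W ∈ irreducibleComponents (PrimeSpectrum R) | W ⊆ Zᶜ}, W := by
        refine Set.Subset.antisymm (fun x hx => ?_) (Set.iUnion₂_subset fun W hW => hW.2)
        refine Set.mem_iUnion₂.mpr ⟨irreducibleComponent x,
          ⟨irreducibleComponent_mem_irreducibleComponents x, fun y hy hyZ => ?_⟩, mem_irreducibleComponent⟩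
        exact hx (hsub _ (irreducibleComponent_mem_irreducibleComponents x) y hy hyZ mem_irreducibleComponent)
      rw [← isClosed_compl_iff, hcompl]
      exact (hfin.subset fun W hW => hW.1).isClosed_biUnion
        fun W hW => isClosed_of_mem_irreducibleComponents W hW.1
    · obtain ⟨T, hT⟩ := h
      have : Z = PrimeSpectrum.basicOpen (∏ t ∈ T, t) := by
        ext p
        rw [hrange, Set.mem_setOf_eq, SetLike.mem_coe, PrimeSpectrum.mem_basicOpen]
        constructor
        · intro hd hmem
          exact Set.disjoint_left.mp hd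
            (Submonoid.prod_mem S fun t ht => hT ▸ Submonoid.subset_closure ht) hmem
        · intro hn
          refine Set.disjoint_left.mpr fun s hs hsp => ?_
          rw [SetLike.mem_coe, ← hT] at hs
          revert hsp
          induction hs using Submonoid.closure_induction with
          | mem t ht => exact fun htp => hn (Ideal.mem_of_dvd _ (Finset.dvd_prod_of_mem _ ht) htp)
          | one => exact Ideal.IsPrime.one_notMem p.isPrime
          | mul a b _ _ ha hb => exact fun hab => (p.isPrime.mem_or_mem hab).elim ha hb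
      rw [this]
      exact PrimeSpectrum.isOpen_basicOpen
  obtain ⟨e, he, hZe⟩ := PrimeSpectrum.exists_idempotent_basicOpen_eq_of_isClopen ⟨hcl, hopen⟩
  have he1 : algebraMap R A e = 1 := by
    have hu : IsUnit (algebraMap R A e) := by
      by_contra hnu
      obtain ⟨m, hm, hem⟩ := exists_max_ideal_of_mem_nonunits hnu
      have : PrimeSpectrum.comap (algebraMap R A) ⟨m, hm.isPrime⟩ ∈ Z := ⟨_, rfl⟩
      rw [hZe] at this
      exact this hem
    exact (IsIdempotentElem.iff_eq_one_of_isUnit hu).mp (IsIdempotentElem.map he (algebraMap R A))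
  let J : Ideal R := Ideal.span {1 - e}
  have hunit : ∀ s ∈ S, IsUnit (Ideal.Quotient.mk J s) := by
    intro s hs
    by_contra hnu
    obtain ⟨m, hm, hsm⟩ := exists_max_ideal_of_mem_nonunits hnu
    let p : PrimeSpectrum R := ⟨m.comap (Ideal.Quotient.mk J), inferInstance⟩
    have he' : e ∉ p.asIdeal := by
      intro hep
      have h1e : 1 - e ∈ p.asIdeal := by
        rw [Ideal.mem_comap, Ideal.Quotient.eq_zero_iff_mem.mpr (Ideal.mem_span_singleton_self _)]
        exact m.zero_mem
      have h1 : (1 : R) ∈ p.asIdeal := by simpa using p.asIdeal.add_mem h1e hep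
      exact p.isPrime.one_notMem h1
    have hp : p ∈ Z := by rw [hZe]; exact he'
    rw [hrange, Set.mem_setOf_eq] at hp
    exact Set.disjoint_left.mp hp hs hsm
  have hker : RingHom.ker (algebraMap R A) = J := by
    refine le_antisymm (fun x hx => ?_) ((Ideal.span_singleton_le_iff_mem _).mpr (by simp [he1]))
    obtain ⟨⟨s, hs⟩, hsx⟩ := (IsLocalization.map_eq_zero_iff S A x).mp hx
    rw [← Ideal.Quotient.eq_zero_iff_mem, ← (hunit s hs).mul_right_eq_zero, ← map_mul, hsx, map_zero]
  have hsurj : Function.Surjective (algebraMap R A) := by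
    intro a
    obtain ⟨⟨r, s⟩, hrs⟩ := IsLocalization.surj S a
    obtain ⟨u, hu⟩ := hunit s s.2
    obtain ⟨t, ht⟩ := Ideal.Quotient.mk_surjective (↑u⁻¹ : R ⧸ J)
    refine ⟨r * t, (IsLocalization.map_units A s).mul_left_cancel ?_⟩
    rw [← map_mul, mul_comm _ a, hrs]
    rw [← sub_eq_zero, ← map_sub, ← RingHom.mem_ker, hker, ← Ideal.Quotient.eq_zero_iff_mem,
      map_sub, map_mul, map_mul, ht, ← hu, mul_left_comm, Units.mul_inv, mul_one, sub_self]
  let g : R →+* A × (R ⧸ Ideal.span {e}) := (algebraMap R A).prod (Ideal.Quotient.mk _)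
  have hg : Function.Bijective g := by
    constructor
    · rw [injective_iff_map_eq_zero]
      intro x hx
      obtain ⟨h1, h2⟩ := Prod.ext_iff.mp hx
      have h1' : x ∈ J := hker ▸ (h1 : algebraMap R A x = 0)
      obtain ⟨c, hc⟩ := Ideal.mem_span_singleton'.mp h1'
      obtain ⟨d, hd⟩ := Ideal.mem_span_singleton'.mp (Ideal.Quotient.eq_zero_iff_mem.mp h2)
      linear_combination (-(1 - e)) * hd - e * hc + (-(c + d)) * he.eq
    · rintro ⟨a, b⟩
      obtain ⟨r, rfl⟩ := hsurj a
      obtain ⟨r', rfl⟩ := Ideal.Quotient.mk_surjective b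
      refine ⟨e * r + (1 - e) * r', Prod.ext ?_ ?_⟩
      · simp [g, he1]
      · show Ideal.Quotient.mk _ _ = Ideal.Quotient.mk _ _
        rw [Ideal.Quotient.eq]
        exact Ideal.mem_span_singleton'.mpr ⟨r - r', by ring⟩
  exact ⟨_, inferInstance, RingEquiv.ofBijective g hg, fun x => rfl⟩

end Groth.Agent.S6274
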