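import Groth.Statements.S6275
import Mathlib

set_option autoImplicit false
universe u
open CAlg

namespace Groth.Agent.S6275

/-- Let R be a Noetherian ring and p ⊆ R a prime. Then there is f ∈ R, f ∉ p, such that R_f → R_p is
injective; equivalently every x ∈ R mapping to zero in R_p maps to zero in R_f. (The cases of a
domain and of a reduced ring with finitely many minimal primes are not included here.) -/
theorem result {R : Type u} [CommRing R] [IsNoetherianRing R] (p : Ideal R) [p.IsPrime] : ∃ f : R, f ∉ p ∧ ∀ x : R, algebraMap R (Localization.AtPrime p) x = 0 → algebraMap R (Localization.Away f) x = 0 := by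
  classical
  obtain ⟨n, g, hg⟩ := Submodule.fg_iff_exists_fin_generating_family.mp
    (IsNoetherian.noetherian (RingHom.ker (algebraMap R (Localization.AtPrime p))))
  have h : ∀ i, ∃ s : p.primeCompl, (s : R) * g i = 0 := fun i => by
    have : g i ∈ RingHom.ker (algebraMap R (Localization.AtPrime p)) :=
      hg ▸ Submodule.subset_span (Set.mem_range_self i)
    exact (IsLocalization.map_eq_zero_iff p.primeCompl _ _).mp this
  choose s hs using h
  refine ⟨∏ i, (s i : R), ?_, fun x hx => ?_⟩
  · rw [← Submonoid.coe_finset_prod]
    exact (∏ i, s i).2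
  · rw [IsLocalization.map_eq_zero_iff (Submonoid.powers (∏ i, (s i : R)))]
    refine ⟨⟨_, Submonoid.mem_powers _⟩, ?_⟩
    have hx' : x ∈ Submodule.span R (Set.range g) := by rw [hg]; exact hx
    obtain ⟨c, rfl⟩ := (Submodule.mem_span_range_iff_exists_fun R).mp hx'
    rw [Finset.mul_sum]
    refine Finset.sum_eq_zero fun i _ => ?_
    obtain ⟨d, hd⟩ := Finset.dvd_prod_of_mem (fun i => (s i : R)) (Finset.mem_univ i)
    simp only [smul_eq_mul]
    rw [hd, show (s i : R) * d * (c i * g i) = d * c i * ((s i : R) * g i) by ring, hs, mul_zero]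

end Groth.Agent.S6275
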