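import Groth.Statements.S6279
import Mathlib

set_option autoImplicit false
universe u
open CAlg

namespace Groth.Agent.S6279

/-- A finite product of normal rings is normal (a ring is normal when every localization at a prime is
an integrally closed domain). -/
theorem result {ι : Type u} [Finite ι] (A : ι → Type u) [∀ i, CommRing (A i)] (hA : ∀ i, EGA4.IsNormalRing (A i)) : EGA4.IsNormalRing (∀ i, A i) := by
  classical
  haveI : Fintype ι := Fintype.ofFinite ι
  intro p hp
  obtain ⟨i, hi⟩ : ∃ i, (Pi.single i (1 : A i) : ∀ i, A i) ∉ p := by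
    by_contra h
    push Not at h
    exact hp.ne_top ((Ideal.eq_top_iff_one p).mpr (by
      rw [← Finset.univ_sum_single (1 : ∀ i, A i)]
      exact p.sum_mem fun j _ => h j))
  let π : (∀ i, A i) →+* A i := Pi.evalRingHom A i
  have hsurj : Function.Surjective π := fun a => ⟨Pi.single i a, Pi.single_eq_same i a⟩
  have hker : RingHom.ker π ≤ p := by
    intro x hx
    have : (Pi.single i (1 : A i) : ∀ i, A i) * x ∈ p := by
      have h0 : (Pi.single i (1 : A i) : ∀ i, A i) * x = 0 := by
        funext j
        by_cases hj : j = i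
        · subst hj; simpa [π] using hx
        · simp [hj]
      rw [h0]; exact p.zero_mem
    exact (hp.mem_or_mem this).resolve_left hi
  let q := p.map π
  haveI hq : q.IsPrime := Ideal.map_isPrime_of_surjective hsurj hker
  have hpq : ∀ x, x ∈ p ↔ π x ∈ q := fun x => ⟨Ideal.mem_map_of_mem _, fun h => by
    obtain ⟨y, hy, hxy⟩ := (Ideal.mem_map_iff_of_surjective _ hsurj).mp h
    have := p.add_mem hy (hker (show x - y ∈ RingHom.ker π by rw [RingHom.mem_ker, map_sub, hxy, sub_self]))
    rwa [add_sub_cancel] at this⟩
  letI : Algebra (∀ i, A i) (Localization.AtPrime q) := ((algebraMap (A i) (Localization.AtPrime q)).comp π).toAlgebra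
  haveI : IsLocalization p.primeCompl (Localization.AtPrime q) := by
    rw [isLocalization_iff]
    refine ⟨fun y => ?_, fun z => ?_, fun {x y} h => ?_⟩
    · exact IsLocalization.map_units (Localization.AtPrime q) (⟨π y, fun h => y.2 ((hpq _).mpr h)⟩ : q.primeCompl)
    · obtain ⟨⟨a, s⟩, h⟩ := IsLocalization.surj q.primeCompl z
      refine ⟨⟨Pi.single i a, ⟨Pi.single i (s : A i), fun hs => s.2 ?_⟩⟩, ?_⟩
      · simpa [π] using (hpq _).mp hs
      · show z * algebraMap (A i) _ (π (Pi.single i (s : A i))) = algebraMap (A i) _ (π (Pi.single i a))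
        simpa [π] using h
    · obtain ⟨s, hs⟩ := (IsLocalization.eq_iff_exists q.primeCompl _).mp h
      refine ⟨⟨Pi.single i (s : A i), fun hs' => s.2 (by simpa [π] using (hpq _).mp hs')⟩, ?_⟩
      funext j
      by_cases hj : j = i
      · subst hj; simpa [π] using hs
      · simp [hj]
  let e := (IsLocalization.algEquiv p.primeCompl (Localization.AtPrime p) (Localization.AtPrime q)).toRingEquiv
  obtain ⟨hdom, hic⟩ := hA i q
  exact ⟨MulEquiv.isDomain _ e.toMulEquiv, IsIntegrallyClosed.of_equiv e.symm⟩

end Groth.Agent.S6279
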