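import Groth.Statements.S6281
import Mathlib.LinearAlgebra.TensorProduct.Tower

set_option autoImplicit false
universe u
open CAlg

namespace Groth.Agent.S6281

/-- For an R-algebra S and an S-module M, flatness of S over R follows once M is both flat over R and
faithfully flat over S. -/
theorem result {R S : Type u} [CommRing R] [CommRing S] [Algebra R S] (M : Type u) [AddCommGroup M] [Module S M] [Module R M] [IsScalarTower R S M] [Module.Flat R M] [Module.FaithfullyFlat S M] : Module.Flat R S := by
  rw [Module.Flat.iff_lTensor_preserves_injective_linearMap]
  intro N N' _ _ _ _ f hf
  rw [← LinearMap.baseChange_eq_ltensor, ← Module.FaithfullyFlat.lTensor_injective_iff_injective S M]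
  have h : Function.Injective (f.lTensor M) := Module.Flat.lTensor_preserves_injective_linearMap f hf
  let e := TensorProduct.AlgebraTensorModule.cancelBaseChange R S S M N
  let e' := TensorProduct.AlgebraTensorModule.cancelBaseChange R S S M N'
  have comm : ∀ z, e' ((f.baseChange S).lTensor M z) = f.lTensor M (e z) := by
    intro z
    induction z using TensorProduct.induction_on with
    | zero => simp
    | tmul m t =>
      induction t using TensorProduct.induction_on with
      | zero => simp
      | tmul s n => simp [e, e']
      | add a b ha hb => simp only [TensorProduct.tmul_add, map_add, ha, hb]
    | add a b ha hb => simp only [map_add, ha, hb]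
  intro z w hzw
  exact e.injective (h (by rw [← comm, ← comm, hzw]))

end Groth.Agent.S6281
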