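import Groth.Statements.S6282
import Mathlib

set_option autoImplicit false
universe u
open scoped TensorProduct
open CAlg

namespace Groth.Agent.S6282

/-- Let S → S' be a homomorphism of R-algebras, M an S-module, and M' = S' ⊗_S M with its induced
R-module structure. (1) When S' is flat over S, R-flatness of M passes to M'. (2) When S' is
faithfully flat over S, M is R-flat exactly when M' is. -/
theorem result {R S S' : Type u} [CommRing R] [CommRing S] [CommRing S'] [Algebra R S] [Algebra R S'] [Algebra S S'] [IsScalarTower R S S'] (M : Type u) [AddCommGroup M] [Module S M] [Module R M] [IsScalarTower R S M] : ([Module.Flat S S'] → Module.Flat R M → Module.Flat R (S' ⊗[S] M)) ∧ ([Module.FaithfullyFlat S S'] → (Module.Flat R M ↔ Module.Flat R (S' ⊗[S] M))) := by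
  classical
  have key : ∀ {N P : Type u} [AddCommGroup N] [AddCommGroup P] [Module R N] [Module R P]
      (f : N →ₗ[R] P),
      Function.Injective (LinearMap.lTensor (S' ⊗[S] M) f) ↔
        Function.Injective (LinearMap.lTensor S'
          (TensorProduct.AlgebraTensorModule.map (LinearMap.id : M →ₗ[S] M) f)) := by
    intro N P _ _ _ _ f
    let eN := TensorProduct.AlgebraTensorModule.assoc R S S S' M N
    let eP := TensorProduct.AlgebraTensorModule.assoc R S S S' M P
    have h : ∀ x, eP (LinearMap.lTensor (S' ⊗[S] M) f x) =
        LinearMap.lTensor S'
          (TensorProduct.AlgebraTensorModule.map (LinearMap.id : M →ₗ[S] M) f) (eN x) := by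
      intro x
      induction x using TensorProduct.induction_on with
      | zero => simp
      | add a b ha hb => simp [ha, hb]
      | tmul z n =>
        induction z using TensorProduct.induction_on with
        | zero => simp
        | add a b ha hb => simp only [TensorProduct.add_tmul, map_add, ha, hb]
        | tmul s m => simp [eN, eP]
    constructor
    · intro hi a b hab
      apply eN.symm.injective
      apply hi
      apply eP.injective
      simpa [h] using hab
    · intro hi a b hab
      apply eN.injective
      apply hi
      rw [← h, ← h, hab]
  have h1 : [Module.Flat S S'] → Module.Flat R M → Module.Flat R (S' ⊗[S] M) := by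
    intro _ hM
    rw [Module.Flat.iff_lTensor_preserves_injective_linearMap]
    intro N P _ _ _ _ f hf
    rw [key f]
    exact Module.Flat.lTensor_preserves_injective_linearMap _
      (Module.Flat.lTensor_preserves_injective_linearMap (M := M) f hf)
  refine ⟨h1, fun {_} => ⟨h1, fun hM' => ?_⟩⟩
  rw [Module.Flat.iff_lTensor_preserves_injective_linearMap]
  intro N P _ _ _ _ f hf
  have h := (key f).mp (Module.Flat.lTensor_preserves_injective_linearMap f hf)
  exact (Module.FaithfullyFlat.lTensor_injective_iff_injective S S' _).mp h

end Groth.Agent.S6282
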