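import Groth.Statements.S6286
import Mathlib

set_option autoImplicit false
universe u
open scoped TensorProduct
open CAlg

namespace Groth.Agent.S6286

/-- Let k be a field, R and S k-algebras, S' ⊆ S a k-subalgebra and f ∈ R ⊗ₖ S', with image f again in R
⊗ₖ S. Then the images in Spec(R) of Spec((R ⊗ₖ S)_f) and of Spec((R ⊗ₖ S')_f) coincide: a prime p of
R is the contraction of a prime of R ⊗ₖ S not containing f if and only if it is the contraction of a
prime of R ⊗ₖ S' not containing f. -/
theorem result (k : Type u) [Field k] (R S : Type u) [CommRing R] [Algebra k R] [CommRing S] [Algebra k S] (S' : Subalgebra k S) (f : R ⊗[k] S') (p : PrimeSpectrum R) : (∃ q : PrimeSpectrum (R ⊗[k] S), Algebra.TensorProduct.map (AlgHom.id k R) S'.val f ∉ q.asIdeal ∧ q.asIdeal.comap (algebraMap R (R ⊗[k] S)) = p.asIdeal) ↔ (∃ q' : PrimeSpectrum (R ⊗[k] S'), f ∉ q'.asIdeal ∧ q'.asIdeal.comap (algebraMap R (R ⊗[k] S')) = p.asIdeal) := by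
  classical
  let K := p.asIdeal.ResidueField
  let ι : K →ₐ[R] K := AlgHom.id R K
  let j := Algebra.TensorProduct.map (AlgHom.id k R) S'.val
  constructor
  · rintro ⟨q, hf, hq⟩
    refine ⟨⟨q.asIdeal.comap j.toRingHom, Ideal.IsPrime.comap _⟩, hf, ?_⟩
    rw [← hq, Ideal.comap_comap]
    congr 1
  · rintro ⟨q', hf, hq'⟩
    let g : TensorProduct k R S →ₐ[k] TensorProduct k K S :=
      Algebra.TensorProduct.map (IsScalarTower.toAlgHom k R K) (AlgHom.id k S)
    let g' : TensorProduct k R S' →ₐ[k] TensorProduct k K S' :=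
      Algebra.TensorProduct.map (IsScalarTower.toAlgHom k R K) (AlgHom.id k S')
    let j' : TensorProduct k K S' →ₐ[k] TensorProduct k K S :=
      Algebra.TensorProduct.map (AlgHom.id k K) S'.val
    -- a point of the fibre over `p` where `f` is nonzero
    let L := q'.asIdeal.ResidueField
    let π : TensorProduct k R S' →ₐ[k] L := IsScalarTower.toAlgHom k _ L
    have hker : ∀ z, π z = 0 ↔ z ∈ q'.asIdeal := fun z => Ideal.algebraMap_residueField_eq_zero
    let πR : R →ₐ[k] L := π.comp Algebra.TensorProduct.includeLeft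
    have hp : ∀ r, πR r = 0 ↔ r ∈ p.asIdeal := fun r => by
      rw [← hq']
      exact hker _
    let πK₀ : K →+* L := Ideal.ResidueField.lift p.asIdeal πR.toRingHom
      (fun r hr => (hp r).mpr hr)
      (fun r hr => IsUnit.mk0 _ fun h => hr ((hp r).mp h))
    have hπK₀ : ∀ r, πK₀ (algebraMap R K r) = πR r := fun r => Ideal.ResidueField.lift_algebraMap _ _ _ _ r
    let πK : K →ₐ[k] L := AlgHom.mk πK₀ (fun c => by
      exact ((congrArg πK₀ (IsScalarTower.algebraMap_apply k R K c)).trans (hπK₀ _)).trans
        (AlgHom.commutes πR c))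
    let πS : S' →ₐ[k] L := π.comp Algebra.TensorProduct.includeRight
    let ψ : TensorProduct k K S' →ₐ[k] L := Algebra.TensorProduct.productMap πK πS
    have hψ : ∀ z, ψ (g' z) = π z := by
      intro z
      induction z using TensorProduct.induction_on with
      | zero => simp
      | add a b ha hb => simp only [map_add, ha, hb]
      | tmul r s =>
        show πK (algebraMap R K r) * πS s = π (r ⊗ₜ[k] s)
        rw [show πK (algebraMap R K r) = πR r from hπK₀ r]
        show π (r ⊗ₜ[k] (1 : S')) * π ((1 : R) ⊗ₜ[k] s) = _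
        rw [← map_mul, Algebra.TensorProduct.tmul_mul_tmul, mul_one, one_mul]
    have hnil : ¬ IsNilpotent (g' f) := fun h => hf ((hker f).mp ((h.map ψ).eq_zero |> fun e => (hψ f) ▸ e))
    have hj' : Function.Injective j' :=
      Module.Flat.lTensor_preserves_injective_linearMap (M := K) S'.val.toLinearMap Subtype.val_injective
    have hnil' : ¬ IsNilpotent (g (j f)) := by
      have e : g (j f) = j' (g' f) := by
        have : g.comp j = j'.comp g' := by
          apply Algebra.TensorProduct.ext' fun a b => ?_
          simp [g, j, g', j']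
        exact AlgHom.congr_fun this f
      rw [e, IsNilpotent.map_iff hj']
      exact hnil
    rw [← mem_nilradical, nilradical_eq_sInf, Ideal.mem_sInf] at hnil'
    simp only [not_forall] at hnil'
    obtain ⟨Q, hQ, hQf⟩ := hnil'
    haveI : Q.IsPrime := hQ
    refine ⟨⟨Q.comap g.toRingHom, Ideal.IsPrime.comap _⟩, hQf, ?_⟩
    show ((Q.comap g.toRingHom).comap (algebraMap R (TensorProduct k R S))) = p.asIdeal
    have hQK : Q.comap (algebraMap K (TensorProduct k K S)) = ⊥ :=
      (Ideal.eq_bot_or_top _).resolve_right (Ideal.IsPrime.comap _).ne_top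
    ext r
    simp only [Ideal.mem_comap]
    have e : g.toRingHom (algebraMap R (TensorProduct k R S) r) =
        algebraMap K (TensorProduct k K S) (algebraMap R K r) := by
      simp [g, Algebra.TensorProduct.algebraMap_apply]
    rw [e, ← Ideal.mem_comap, hQK, Ideal.mem_bot]
    exact Ideal.algebraMap_residueField_eq_zero

end Groth.Agent.S6286
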