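import Groth.Statements.S6287
import Mathlib

set_option autoImplicit false
universe u
open CAlg

namespace Groth.Agent.S6287

/-- Let (A_i) be a directed system of valuation rings. Then the colimit A = colim A_i is a valuation
ring (in particular a domain). -/
theorem result {ι : Type u} [Preorder ι] [Nonempty ι] [IsDirected ι (· ≤ ·)] (G : ι → Type u) [∀ i, CommRing (G i)] [∀ i, IsDomain (G i)] [∀ i, ValuationRing (G i)] (f : ∀ i j, i ≤ j → G i →+* G j) [DirectedSystem G fun i j h => f i j h] : ∃ _ : IsDomain (Ring.DirectLimit G fun i j h => f i j h), ValuationRing (Ring.DirectLimit G fun i j h => f i j h) := by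
  classical
  let L := Ring.DirectLimit G fun i j h => f i j h
  haveI : Nontrivial L := by
    refine ⟨⟨0, 1, fun h => ?_⟩⟩
    let i : ι := Classical.arbitrary ι
    have h0 : Ring.DirectLimit.of G (fun i j h => f i j h) i 1 = 0 := by rw [map_one]; exact h.symm
    obtain ⟨j, hij, hj⟩ := Ring.DirectLimit.of.zero_exact h0
    rw [map_one] at hj
    exact one_ne_zero hj
  have hpair : ∀ a b : L, ∃ (k : ι) (x y : G k),
      Ring.DirectLimit.of G (fun i j h => f i j h) k x = a ∧
      Ring.DirectLimit.of G (fun i j h => f i j h) k y = b := by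
    intro a b
    obtain ⟨i, x, rfl⟩ := Ring.DirectLimit.exists_of a
    obtain ⟨j, y, rfl⟩ := Ring.DirectLimit.exists_of b
    obtain ⟨k, hi, hj⟩ := exists_ge_ge i j
    exact ⟨k, f i k hi x, f j k hj y, Ring.DirectLimit.of_f _ _, Ring.DirectLimit.of_f _ _⟩
  haveI : NoZeroDivisors L := ⟨fun {a b} hab => by
    obtain ⟨k, x, y, rfl, rfl⟩ := hpair a b
    rw [← map_mul] at hab
    obtain ⟨l, hkl, hl⟩ := Ring.DirectLimit.of.zero_exact hab
    rw [map_mul, mul_eq_zero] at hl
    rcases hl with h | h
    · left; rw [← Ring.DirectLimit.of_f (f := fun i j h => f i j h) hkl, h, map_zero]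
    · right; rw [← Ring.DirectLimit.of_f (f := fun i j h => f i j h) hkl, h, map_zero]⟩
  haveI hdom : IsDomain L := NoZeroDivisors.to_isDomain L
  refine ⟨hdom, ValuationRing.iff_dvd_total.mpr ⟨fun a b => ?_⟩⟩
  obtain ⟨k, x, y, rfl, rfl⟩ := hpair a b
  rcases (ValuationRing.iff_dvd_total.mp (inferInstance : ValuationRing (G k))).total x y with h | h
  · exact Or.inl (map_dvd _ h)
  · exact Or.inr (map_dvd _ h)

end Groth.Agent.S6287
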