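import Groth.Statements.S6289
import Mathlib

set_option autoImplicit false
universe u
open CAlg

namespace Groth.Agent.S6289

/-- Let A' be a valuation ring with residue field K and A ⊆ K a valuation ring with fraction field K.
Then the subring C of A' consisting of the elements whose residue class lies in A is a valuation
ring. -/
theorem result (A' : Type u) [CommRing A'] [IsDomain A'] [ValuationRing A'] (A : ValuationSubring (IsLocalRing.ResidueField A')) : ValuationRing (A.toSubring.comap (IsLocalRing.residue A')) := by
  classical
  refine ValuationRing.iff_dvd_total.mpr ⟨?_⟩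
  have key : ∀ (a b : A.toSubring.comap (IsLocalRing.residue A')), (a : A') ∣ b → a ∣ b ∨ b ∣ a := by
    rintro a b ⟨t, ht⟩
    by_cases htA : IsLocalRing.residue A' t ∈ A
    · exact Or.inl ⟨⟨t, htA⟩, Subtype.ext ht⟩
    · have hne : IsLocalRing.residue A' t ≠ 0 := fun h => htA (h ▸ A.zero_mem)
      obtain ⟨u, hu⟩ := (IsLocalRing.residue_ne_zero_iff_isUnit t).mp hne
      have hinv : IsLocalRing.residue A' (↑u⁻¹ : A') ∈ A := by
        rcases A.mem_or_inv_mem (IsLocalRing.residue A' t) with h | h
        · exact absurd h htA
        · rw [show IsLocalRing.residue A' (↑u⁻¹ : A') = (IsLocalRing.residue A' t)⁻¹ from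
            eq_inv_of_mul_eq_one_left (by rw [← map_mul, ← hu, Units.inv_mul, map_one])]
          exact h
      refine Or.inr ⟨⟨↑u⁻¹, hinv⟩, Subtype.ext ?_⟩
      show (a : A') = (b : A') * ↑u⁻¹
      rw [ht, ← hu, mul_assoc, Units.mul_inv, mul_one]
  intro a b
  rcases (ValuationRing.iff_dvd_total.mp (inferInstance : ValuationRing A')).total (a : A') b with h | h
  · exact key a b h
  · exact (key b a h).symm

end Groth.Agent.S6289
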