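import Groth.Statements.S6290
import Mathlib

set_option autoImplicit false
universe u
open CAlg

namespace Groth.Agent.S6290

/-- Let R be a Noetherian ring, I ⊆ R an ideal, M a finite R-module and N = ⋂ₙ IⁿM. Then for every prime
p ⊇ I there is f ∈ R, f ∉ p, with N_f = 0, i.e. every element of N is annihilated by some power of
f. -/
theorem result {R : Type u} [CommRing R] [IsNoetherianRing R] (I : Ideal R) (M : Type u) [AddCommGroup M] [Module R M] [Module.Finite R M] (p : Ideal R) [p.IsPrime] (hIp : I ≤ p) : ∃ f : R, f ∉ p ∧ ∀ x ∈ (⨅ n : ℕ, I ^ n • (⊤ : Submodule R M)), ∃ k : ℕ, f ^ k • x = 0 := by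
  classical
  obtain ⟨n, g, hg⟩ := Submodule.fg_iff_exists_fin_generating_family.mp
    (IsNoetherian.noetherian (⨅ n : ℕ, I ^ n • (⊤ : Submodule R M)))
  have h : ∀ i, ∃ r : I, (r : R) • g i = g i := fun i =>
    (I.mem_iInf_smul_pow_eq_bot_iff _).mp (hg ▸ Submodule.subset_span (Set.mem_range_self i))
  choose r hr using h
  refine ⟨∏ i, (1 - (r i : R)), ?_, fun x hx => ⟨1, ?_⟩⟩
  · intro hmem
    obtain ⟨i, -, hi⟩ := (Ideal.IsPrime.prod_mem_iff (p := p)).mp hmem
    exact (inferInstance : p.IsPrime).ne_top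
      ((Ideal.eq_top_iff_one p).mpr (by simpa using p.add_mem hi (hIp (r i).2)))
  · rw [← hg] at hx
    obtain ⟨c, rfl⟩ := (Submodule.mem_span_range_iff_exists_fun R).mp hx
    rw [pow_one, Finset.smul_sum]
    refine Finset.sum_eq_zero fun i _ => ?_
    obtain ⟨d, hd⟩ := Finset.dvd_prod_of_mem (fun i => 1 - (r i : R)) (Finset.mem_univ i)
    rw [hd, smul_comm, mul_comm, mul_smul, sub_smul, one_smul, hr, sub_self, smul_zero, smul_zero]

end Groth.Agent.S6290
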