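import Groth.Statements.S6291
import Mathlib.RingTheory.LocalRing.MaximalIdeal.Basic
import Mathlib.RingTheory.Nakayama
import Mathlib.RingTheory.Artinian.Module
import Mathlib.RingTheory.Jacobson.Ideal

set_option autoImplicit false
universe u
open CAlg

namespace Groth.Agent.S6291

/-- Let R be a local ring with maximal ideal m and M an R-module of finite length. Then mⁿM = 0 for some
n. -/
theorem result {R : Type u} [CommRing R] [IsLocalRing R] (M : Type u) [AddCommGroup M] [Module R M] (hM : IsFiniteLength R M) : ∃ n : ℕ, (IsLocalRing.maximalIdeal R) ^ n • (⊤ : Submodule R M) = ⊥ := by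
  obtain ⟨hN, hA⟩ := isFiniteLength_iff_isNoetherian_isArtinian.mp hM
  obtain ⟨n, hn⟩ := monotone_stabilizes_iff_artinian.mpr hA
    ⟨fun n => OrderDual.toDual ((IsLocalRing.maximalIdeal R) ^ n • (⊤ : Submodule R M)), fun a b h =>
      Submodule.smul_mono_left (Ideal.pow_le_pow_right h)⟩
  refine ⟨n, ?_⟩
  have h := hn (n + 1) (Nat.le_succ n)
  replace h : IsLocalRing.maximalIdeal R ^ n • (⊤ : Submodule R M) = IsLocalRing.maximalIdeal R ^ (n + 1) • ⊤ := congrArg OrderDual.ofDual h
  have : IsNoetherian R M := hN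
  refine Submodule.eq_bot_of_le_smul_of_le_jacobson_bot (IsLocalRing.maximalIdeal R) _ (IsNoetherian.noetherian _) ?_
    (IsLocalRing.maximalIdeal_le_jacobson _)
  rw [← Submodule.smul_assoc, smul_eq_mul, ← pow_succ', ← h]

end Groth.Agent.S6291
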