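import Groth.Statements.S6292
import Mathlib

set_option autoImplicit false
universe u
open CAlg

namespace Groth.Agent.S6292

/-- Let R be a ring and m ⊆ R a finitely generated maximal ideal (for instance R Noetherian). If M is a
finite R-module with mⁿM = 0 for some n, then M has finite length. -/
theorem result {R : Type u} [CommRing R] (m : Ideal R) [m.IsMaximal] (hm : m.FG) (M : Type u) [AddCommGroup M] [Module R M] [Module.Finite R M] (n : ℕ) (hn : m ^ n • (⊤ : Submodule R M) = ⊥) : IsFiniteLength R M := by
  classical
  induction n generalizing M with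
  | zero =>
    rw [pow_zero, Ideal.one_eq_top, Submodule.top_smul] at hn
    haveI : Subsingleton M := Submodule.subsingleton_iff R |>.mp (subsingleton_of_top_le_bot hn.le)
    exact IsFiniteLength.of_subsingleton
  | succ n ih =>
    let N : Submodule R M := m • ⊤
    haveI : Module.Finite R N := Module.Finite.iff_fg.mpr (by
      show (m • (⊤ : Submodule R M)).FG
      rw [Submodule.smul_eq_map₂]
      exact Submodule.FG.map₂ _ hm Module.Finite.fg_top)
    have hN : m ^ n • (⊤ : Submodule R N) = ⊥ := by
      apply Submodule.map_injective_of_injective N.injective_subtype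
      rw [Submodule.map_smul'', Submodule.map_top, Submodule.range_subtype, Submodule.map_bot,
        ← mul_smul, ← pow_succ, hn]
    obtain ⟨hn1, ha1⟩ := isFiniteLength_iff_isNoetherian_isArtinian.mp (ih N hN)
    letI : Field (R ⧸ m) := Ideal.Quotient.field m
    haveI : Module.Finite (R ⧸ m) (M ⧸ N) := Module.Finite.of_restrictScalars_finite R (R ⧸ m) (M ⧸ N)
    have hsurj : Function.Surjective (algebraMap R (R ⧸ m)) := Ideal.Quotient.mk_surjective
    let emb : Submodule R (M ⧸ N) ↪o Submodule (R ⧸ m) (M ⧸ N) :=
      { toFun := fun P =>
          { toAddSubmonoid := P.toAddSubmonoid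
            smul_mem' := fun c x hx => by
              obtain ⟨r, rfl⟩ := hsurj c
              show algebraMap R (R ⧸ m) r • x ∈ P
              rw [algebraMap_smul]
              exact P.smul_mem r hx }
        inj' := fun P Q h => SetLike.ext fun x => SetLike.ext_iff.mp h x
        map_rel_iff' := Iff.rfl }
    haveI : IsNoetherian R (M ⧸ N) := isNoetherian_iff'.mpr emb.wellFoundedGT
    haveI : IsArtinian R (M ⧸ N) := emb.wellFoundedLT
    haveI := hn1
    haveI := ha1
    exact isFiniteLength_iff_isNoetherian_isArtinian.mpr
      ⟨isNoetherian_of_range_eq_ker N.subtype N.mkQ (by rw [Submodule.range_subtype, Submodule.ker_mkQ]),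
        isArtinian_of_range_eq_ker N.subtype N.mkQ (by rw [Submodule.range_subtype, Submodule.ker_mkQ])⟩

end Groth.Agent.S6292
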