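import Groth.Statements.S6294
import Mathlib

set_option autoImplicit false
universe u
open CAlg

namespace Groth.Agent.S6294

/-- Let R be a ring with finitely many minimal primes q₁, …, q_t, and assume that the zerodivisors of R
are precisely the elements of q₁ ∪ … ∪ q_t. Then Q(R), the total ring of fractions of R, equals
R_{q₁} × … × R_{q_t}: the diagonal map R → ∏ R_{q_i} is a localization of R at its non-zerodivisors. -/
theorem result {R : Type u} [CommRing R] {ι : Type} [Fintype ι] (q : ι → Ideal R) [∀ i, (q i).IsPrime] (hinj : Function.Injective q) (hmin : ∀ P : Ideal R, P ∈ minimalPrimes R ↔ P ∈ Set.range q) (hzd : ∀ x : R, x ∈ nonZeroDivisors R ↔ ∀ i, x ∉ q i) : IsLocalization (nonZeroDivisors R) (∀ i, Localization.AtPrime (q i)) := by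
  classical
  have hzero : ∀ i j, i ≠ j → ∃ e : R, algebraMap R (Localization.AtPrime (q j)) e = 0 ∧ e ∉ q i := by
    intro i j hij
    have hjmin := (hmin (q j)).mpr ⟨j, rfl⟩
    have himin := (hmin (q i)).mpr ⟨i, rfl⟩
    have hnle : ¬ q j ≤ q i := fun h => hij (hinj (le_antisymm (himin.2 hjmin.1 h) h))
    obtain ⟨x, hxj, hxi⟩ := Set.not_subset.mp hnle
    have hnil : IsNilpotent (algebraMap R (Localization.AtPrime (q j)) x) := by
      rw [← mem_nilradical, nilradical_eq_sInf, Ideal.mem_sInf]
      intro P hP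
      haveI : P.IsPrime := hP
      have hle : P.comap (algebraMap R (Localization.AtPrime (q j))) ≤ q j := by
        intro r hr
        by_contra hrj
        exact (inferInstance : P.IsPrime).ne_top (Ideal.eq_top_of_isUnit_mem _ hr
          (IsLocalization.map_units (M := (q j).primeCompl) _ ⟨r, hrj⟩))
      exact hjmin.2 ⟨Ideal.IsPrime.comap _, bot_le⟩ hle hxj
    obtain ⟨m, hm⟩ := hnil
    exact ⟨x ^ m, by rw [map_pow, hm], fun h => hxi ((inferInstance : (q i).IsPrime).mem_of_pow_mem m h)⟩
  have he : ∀ i, ∃ e : R, (∀ j, j ≠ i → algebraMap R (Localization.AtPrime (q j)) e = 0) ∧ e ∉ q i := by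
    intro i
    let f : ι → R := fun j => if h : i = j then 1 else (hzero i j h).choose
    refine ⟨∏ j, f j, fun j hj => ?_, ?_⟩
    · rw [map_prod, Finset.prod_eq_zero (Finset.mem_univ j)]
      simp only [f, dif_neg (Ne.symm hj)]
      exact (hzero i j (Ne.symm hj)).choose_spec.1
    · intro h
      obtain ⟨j, -, hj⟩ := (inferInstance : (q i).IsPrime).prod_mem_iff.mp h
      simp only [f] at hj
      split_ifs at hj with h'
      · exact (inferInstance : (q i).IsPrime).ne_top ((Ideal.eq_top_iff_one _).mpr hj)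
      · exact (hzero i j h').choose_spec.2 hj
  choose e he0 heq using he
  have hker : ∀ i (x : R), algebraMap R (Localization.AtPrime (q i)) x = 0 → x ∈ q i := by
    intro i x hx
    obtain ⟨s, hs⟩ := (IsLocalization.map_eq_zero_iff (q i).primeCompl _ _).mp hx
    exact ((inferInstance : (q i).IsPrime).mem_or_mem (show (s : R) * x ∈ q i by rw [hs]; exact (q i).zero_mem)).resolve_left s.2
  have hcomb : ∀ (s : ι → R), (∀ i, s i ∉ q i) → ∑ i, e i * s i ∈ nonZeroDivisors R := by
    intro s hs
    rw [hzd]
    intro i hmem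
    rw [Finset.sum_eq_add_sum_sdiff_singleton_of_mem (Finset.mem_univ i),
      Ideal.add_mem_iff_left] at hmem
    · exact ((inferInstance : (q i).IsPrime).mem_or_mem hmem).elim (heq i) (hs i)
    · refine Ideal.sum_mem _ fun j hj => Ideal.mul_mem_right _ _ (hker i _ (he0 j i ?_))
      simp only [Finset.mem_sdiff, Finset.mem_singleton] at hj
      exact fun h => hj.2 h.symm
  rw [isLocalization_iff]
  refine ⟨fun y => ?_, fun z => ?_, fun {x y} h => ?_⟩
  · rw [Pi.isUnit_iff]
    exact fun i => IsLocalization.map_units (M := (q i).primeCompl) _ ⟨y, (hzd y).mp y.2 i⟩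
  · choose a hs using fun i => IsLocalization.surj (M := (q i).primeCompl) (z i)
    refine ⟨⟨∑ i, e i * (a i).1, ⟨_, hcomb (fun i => (a i).2) fun i => (a i).2.2⟩⟩, ?_⟩
    funext i
    show z i * algebraMap R (Localization.AtPrime (q i)) (∑ l, e l * ((a l).2 : R)) =
      algebraMap R (Localization.AtPrime (q i)) (∑ l, e l * (a l).1)
    simp only [map_sum, map_mul]
    rw [Finset.sum_eq_single i (fun j _ hj => by simp [he0 j i (Ne.symm hj)]) (by simp),
      Finset.sum_eq_single i (fun j _ hj => by simp [he0 j i (Ne.symm hj)]) (by simp),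
      ← hs i]
    ring
  · have hi : ∀ i, ∃ s : (q i).primeCompl, (s : R) * x = (s : R) * y := fun i =>
      (IsLocalization.eq_iff_exists (q i).primeCompl _).mp (congrFun h i)
    choose s hs using hi
    refine ⟨⟨_, hcomb (fun i => s i) fun i => (s i).2⟩, ?_⟩
    show (∑ i, e i * (s i : R)) * x = (∑ i, e i * (s i : R)) * y
    simp only [Finset.sum_mul, mul_assoc, hs]

end Groth.Agent.S6294
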