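import Groth.Statements.S6296
import Mathlib

set_option autoImplicit false
universe u
open CAlg

namespace Groth.Agent.S6296

/-- Let A → B be a local homomorphism of local rings such that (1) B is a finite A-module, (2) the
maximal ideal m_B is finitely generated, (3) the induced map of residue fields is an isomorphism,
and (4) m_A/m_A² → m_B/m_B² is surjective, i.e. m_B ⊆ m_A B + m_B². Then A → B is surjective. -/
theorem result {A B : Type u} [CommRing A] [CommRing B] [IsLocalRing A] [IsLocalRing B] [Algebra A B] [IsLocalHom (algebraMap A B)] [Module.Finite A B] (hfg : (IsLocalRing.maximalIdeal B).FG) (hres : Function.Surjective (IsLocalRing.ResidueField.map (algebraMap A B))) (hcot : IsLocalRing.maximalIdeal B ≤ (IsLocalRing.maximalIdeal A).map (algebraMap A B) ⊔ (IsLocalRing.maximalIdeal B) ^ 2) : Function.Surjective (algebraMap A B) := by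
  classical
  set mB := IsLocalRing.maximalIdeal B
  set mA := IsLocalRing.maximalIdeal A
  have hle : mA.map (algebraMap A B) ≤ mB := by
    rw [Ideal.map_le_iff_le_comap]
    intro a ha hu
    exact ha (isUnit_of_map_unit (algebraMap A B) a hu)
  have heq : mB = mA.map (algebraMap A B) := by
    refine le_antisymm ?_ hle
    refine Submodule.le_of_le_smul_of_le_jacobson_bot hfg (IsLocalRing.maximalIdeal_le_jacobson ⊥) ?_
    rwa [smul_eq_mul, ← pow_two]
  have htop : LinearMap.range (Algebra.linearMap A B) ⊔ mA • (⊤ : Submodule A B) = ⊤ := by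
    rw [eq_top_iff]
    intro b _
    obtain ⟨a', ha'⟩ := hres (IsLocalRing.residue B b)
    obtain ⟨a, rfl⟩ := IsLocalRing.residue_surjective a'
    rw [IsLocalRing.ResidueField.map_residue, ← sub_eq_zero, ← map_sub,
      IsLocalRing.residue_eq_zero_iff] at ha'
    rw [← add_sub_cancel (algebraMap A B a) b, Ideal.smul_top_eq_map]
    refine Submodule.add_mem _ (Submodule.mem_sup_left ⟨a, rfl⟩) (Submodule.mem_sup_right ?_)
    rw [Submodule.restrictScalars_mem, ← heq, ← neg_sub]
    exact neg_mem ha'
  have := Submodule.le_of_le_smul_of_le_jacobson_bot (N := LinearMap.range (Algebra.linearMap A B))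
    Module.Finite.fg_top (IsLocalRing.maximalIdeal_le_jacobson ⊥) htop.ge
  exact LinearMap.range_eq_top.mp (eq_top_iff.mpr this)

end Groth.Agent.S6296
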