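import Groth.Statements.S6297
import Mathlib

set_option autoImplicit false
universe u
open CAlg

namespace Groth.Agent.S6297

/-- Let R be a ring, m ≤ n, A an n × m matrix over R and J the ideal generated by the m × m minors of A.
(1) For every f ∈ J there is an m × n matrix B with BA = f · 1. (2) If BA = f · 1 for some m × n
matrix B, then f^m ∈ J. -/
theorem result {R : Type u} [CommRing R] {n m : ℕ} (hmn : m ≤ n) (A : Matrix (Fin n) (Fin m) R) : (∀ f ∈ CAlgX.minorIdeal A m, ∃ B : Matrix (Fin m) (Fin n) R, B * A = f • (1 : Matrix (Fin m) (Fin m) R)) ∧ (∀ (f : R) (B : Matrix (Fin m) (Fin n) R), B * A = f • (1 : Matrix (Fin m) (Fin m) R) → f ^ m ∈ CAlgX.minorIdeal A m) := by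
  classical
  constructor
  · intro f hf
    induction hf using Submodule.span_induction with
    | mem x hx =>
      obtain ⟨⟨r, c⟩, rfl⟩ := hx
      dsimp only
      by_cases hc : Function.Injective c
      · let P : Matrix (Fin m) (Fin n) R := Matrix.of fun i j => if j = r i then 1 else 0
        have hPA : P * A = A.submatrix r id := by
          ext i j
          simp [Matrix.mul_apply, P]
        have hce : A.submatrix r c = (A.submatrix r id).submatrix id (Equiv.ofBijective c (Finite.injective_iff_bijective.mp hc)) := rfl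
        let σ := Equiv.ofBijective c (Finite.injective_iff_bijective.mp hc)
        refine ⟨((Equiv.Perm.sign σ : ℤ) : R) • (Matrix.adjugate (A.submatrix r id) * P), ?_⟩
        rw [Matrix.smul_mul, Matrix.mul_assoc, hPA, Matrix.adjugate_mul, smul_smul, hce, Matrix.det_permute']
      · refine ⟨0, ?_⟩
        obtain ⟨i, j, hij, hne⟩ := Function.not_injective_iff.mp hc
        rw [Matrix.det_zero_of_column_eq hne (fun k => by simp [hij]), zero_smul, Matrix.zero_mul]
    | zero => exact ⟨0, by simp⟩
    | add x y _ _ hx hy =>
      obtain ⟨B, hB⟩ := hx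
      obtain ⟨C, hC⟩ := hy
      exact ⟨B + C, by rw [Matrix.add_mul, hB, hC, add_smul]⟩
    | smul a x _ hx =>
      obtain ⟨B, hB⟩ := hx
      exact ⟨a • B, by rw [Matrix.smul_mul, hB, smul_smul, smul_eq_mul]⟩
  · intro f B hB
    have h1 : (B * A).det = f ^ m := by rw [hB, Matrix.det_smul, Fintype.card_fin, Matrix.det_one, mul_one]
    rw [← h1]
    have h2 : (B * A).det = Matrix.detRowAlternating fun i => ∑ j, B i j • A j := by
      show Matrix.det _ = Matrix.det _
      congr 1
      ext i k
      simp [Matrix.mul_apply, Finset.sum_apply]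
    rw [h2, ← AlternatingMap.coe_multilinearMap, MultilinearMap.map_sum]
    refine Ideal.sum_mem _ fun r _ => ?_
    rw [MultilinearMap.map_smul_univ, smul_eq_mul]
    refine Ideal.mul_mem_left _ _ (Ideal.subset_span ⟨(r, id), ?_⟩)
    rfl

end Groth.Agent.S6297
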