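import Groth.Statements.S6298
import Mathlib.RingTheory.Ideal.Operations

set_option autoImplicit false
universe u
open CAlg

namespace Groth.Agent.S6298

/-- Let R be a ring, x ∈ R, I ⊆ R an ideal and p₁, …, p_r prime ideals such that for each i the coset x
+ I is not contained in p_i. Then there is y ∈ I with x + y ∉ p_i for all i. -/
theorem result {R : Type u} [CommRing R] (x : R) (I : Ideal R) {r : ℕ} (p : Fin r → Ideal R) [∀ i, (p i).IsPrime] (h : ∀ i, ∃ y ∈ I, x + y ∉ p i) : ∃ y ∈ I, ∀ i, x + y ∉ p i := by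
  classical
  let J : Finset (Fin r) := Finset.univ.filter fun j => x ∉ p j ∧ ∀ i, x ∈ p i → ¬ p j ≤ p i
  let K : Ideal R := I * ∏ j ∈ J, p j
  have hK : ∀ i, x ∈ p i → ¬ K ≤ p i := by
    intro i hi hle
    rcases (Ideal.IsPrime.mul_le inferInstance).mp hle with h1 | h1
    · obtain ⟨y, hy, hxy⟩ := h i
      exact hxy ((p i).add_mem hi (h1 hy))
    · obtain ⟨j, hj, hji⟩ := (Ideal.IsPrime.prod_le inferInstance).mp h1
      exact (Finset.mem_filter.mp hj).2.2 i hi hji
  have hsub : ¬ ((K : Set R) ⊆ ⋃ i ∈ (↑(Finset.univ.filter fun i => x ∈ p i) : Set (Fin r)), (p i : Set R)) := by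
    intro hh
    by_cases he : ∃ i, x ∈ p i
    · obtain ⟨a, ha⟩ := he
      obtain ⟨i, hi, hle⟩ := (Ideal.subset_union_prime a a (fun i _ _ _ => inferInstance)).mp hh
      exact hK i (Finset.mem_filter.mp hi).2 hle
    · push Not at he
      have h0 := hh K.zero_mem
      simp only [Set.mem_iUnion, Finset.mem_coe, Finset.mem_filter] at h0
      obtain ⟨i, hi, -⟩ := h0
      exact he i hi.2
  obtain ⟨y, hyK, hy⟩ := Set.not_subset.mp hsub
  have hy' : ∀ i, x ∈ p i → y ∉ p i := fun i hi hyi => hy (by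
    simp only [Set.mem_iUnion, Finset.mem_coe, Finset.mem_filter]
    exact ⟨i, ⟨Finset.mem_univ i, hi⟩, hyi⟩)
  have hyI : y ∈ I := (show K ≤ I from Ideal.mul_le_left) hyK
  refine ⟨y, hyI, fun i hi => ?_⟩
  by_cases hxi : x ∈ p i
  · exact hy' i hxi (by simpa [add_sub_cancel_left] using (p i).sub_mem hi hxi)
  · by_cases hJ : i ∈ J
    · have : K ≤ p i := Ideal.mul_le_right.trans (Ideal.prod_le_inf.trans (Finset.inf_le hJ))
      exact hxi (by simpa using (p i).sub_mem hi (this hyK : y ∈ p i))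
    · simp only [J, Finset.mem_filter, Finset.mem_univ, true_and, not_and, not_forall, not_not] at hJ
      obtain ⟨l, hl, hle⟩ := hJ hxi
      exact hy' l hl (by simpa using (p l).sub_mem (hle hi) hl)

end Groth.Agent.S6298
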