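import Groth.Statements.S6301
import Groth.Agent.CAlgUI.Flat

set_option autoImplicit false
universe u
open CAlg

namespace Groth.Agent.S6301

/-- An R-module M is flat exactly when, for every finitely presented R-module P and every surjective
R-module map N → M, the induced map Hom_R(P, N) → Hom_R(P, M) is surjective (modules P, N taken in
the same universe). -/
theorem result {R : Type u} [CommRing R] (M : Type u) [AddCommGroup M] [Module R M] : Module.Flat R M ↔ ∀ (P : Type u) [AddCommGroup P] [Module R P], Module.FinitePresentation R P → ∀ (N : Type u) [AddCommGroup N] [Module R N] (g : N →ₗ[R] M), Function.Surjective g → ∀ h : P →ₗ[R] M, ∃ h' : P →ₗ[R] N, g.comp h' = h := by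
  constructor
  · intro _ P _ _ hP N _ _ g hg h
    have := hP
    exact Groth.Agent.CAlgUI.exists_lift_of_ui (LinearMap.exact_subtype_ker_map g) hg
      (Groth.Agent.CAlgUI.ui_of_flat_quotient (LinearMap.ker g).injective_subtype
        (LinearMap.exact_subtype_ker_map g) hg) h
  · intro H
    exact Groth.Agent.CAlgUI.flat_of_forall_ui fun F _ _ K g hex hg =>
      Groth.Agent.CAlgUI.ui_of_forall_lift K.injective_subtype hex fun P _ _ hP h => H P hP F g hg h

end Groth.Agent.S6301
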