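import Groth.Statements.S6303
import Mathlib

set_option autoImplicit false
universe u
open CAlg

namespace Groth.Agent.S6303

/-- Let R be a ring, I, J ⊆ R ideals and M a flat R-module. Then IM ∩ JM = (I ∩ J)M. -/
theorem result {R : Type u} [CommRing R] (I J : Ideal R) (M : Type u) [AddCommGroup M] [Module R M] [Module.Flat R M] : (I • (⊤ : Submodule R M)) ⊓ (J • ⊤) = (I ⊓ J) • (⊤ : Submodule R M) := by
  classical
  apply le_antisymm
  · intro x hx
    obtain ⟨hxI, hxJ⟩ := Submodule.mem_inf.mp hx
    have hz : ∀ (K : Ideal R), x ∈ K • (⊤ : Submodule R M) → x ⊗ₜ[R] (1 : R ⧸ K) = 0 := by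
      intro K h
      refine Submodule.smul_induction_on h (fun r hr m _ => ?_) (fun a b ha hb => ?_)
      · rw [TensorProduct.smul_tmul, Algebra.smul_def, mul_one,
          show algebraMap R (R ⧸ K) r = 0 from Ideal.Quotient.eq_zero_iff_mem.mpr hr,
          TensorProduct.tmul_zero]
      · rw [TensorProduct.add_tmul, ha, hb, add_zero]
    let ψ : R →ₗ[R] (R ⧸ I) × (R ⧸ J) := (Algebra.linearMap R (R ⧸ I)).prod (Algebra.linearMap R (R ⧸ J))
    have h0 : LinearMap.lTensor M ψ (x ⊗ₜ[R] (1 : R)) = 0 := by
      apply (TensorProduct.prodRight R R M (R ⧸ I) (R ⧸ J)).injective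
      rw [LinearMap.lTensor_tmul, map_zero, TensorProduct.prodRight_tmul]
      simp [ψ, hz I hxI, hz J hxJ]
    obtain ⟨z, hz'⟩ := (Module.Flat.lTensor_exact M (LinearMap.exact_subtype_ker_map ψ) _).mp h0
    have hall : ∀ z, TensorProduct.rid R M (LinearMap.lTensor M (LinearMap.ker ψ).subtype z) ∈
        (I ⊓ J) • (⊤ : Submodule R M) := by
      intro z
      induction z using TensorProduct.induction_on with
      | zero => simp
      | add a b ha hb => rw [map_add, map_add]; exact Submodule.add_mem _ ha hb
      | tmul m a =>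
        rw [LinearMap.lTensor_tmul, TensorProduct.rid_tmul]
        refine Submodule.smul_mem_smul (Submodule.mem_inf.mpr ?_) Submodule.mem_top
        have h := LinearMap.mem_ker.mp a.2
        have h1 := congrArg Prod.fst h
        have h2 := congrArg Prod.snd h
        exact ⟨Ideal.Quotient.eq_zero_iff_mem.mp h1, Ideal.Quotient.eq_zero_iff_mem.mp h2⟩
    have h := hall z
    rw [hz'] at h
    simpa using h
  · exact le_inf (Submodule.smul_mono inf_le_left le_rfl) (Submodule.smul_mono inf_le_right le_rfl)

end Groth.Agent.S6303
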