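import Groth.Statements.S6306
import Mathlib.RingTheory.Ideal.Operations
import Mathlib.RingTheory.Ideal.MinimalPrime.Basic

set_option autoImplicit false
universe u
open CAlg

namespace Groth.Agent.S6306

/-- Let R be a nonzero ring such that every nonzero prime ideal of R contains a non-zerodivisor. Then R
is a domain. -/
theorem result (R : Type u) [CommRing R] [Nontrivial R] (h : ∀ p : Ideal R, p.IsPrime → p ≠ ⊥ → ∃ x ∈ p, x ∈ nonZeroDivisors R) : IsDomain R := by
  have : NoZeroDivisors R := by
    refine ⟨fun {a b} hab => ?_⟩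
    by_contra hne
    push Not at hne
    have hd : Disjoint ((Ideal.span {a} : Ideal R) : Set R) (nonZeroDivisors R : Set R) := by
      rw [Set.disjoint_left]
      intro z hz hz'
      obtain ⟨t, rfl⟩ := Ideal.mem_span_singleton'.mp hz
      refine hne.2 ((mem_nonZeroDivisors_iff_right.mp hz') b ?_)
      rw [show b * (t * a) = t * (a * b) by ring, hab, mul_zero]
    obtain ⟨P, hP, hle, hdisj⟩ := Ideal.exists_le_prime_disjoint _ _ hd
    obtain ⟨x, hx, hx'⟩ := h P hP (fun hbot => hne.1 (by
      simpa [hbot] using hle (Ideal.mem_span_singleton_self a)))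
    exact Set.disjoint_left.mp hdisj hx hx'
  exact NoZeroDivisors.to_isDomain R

end Groth.Agent.S6306
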