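import Groth.Statements.S6309
import Mathlib
import Groth.Agent.CAlgOdd.FibreLocus

set_option autoImplicit false
universe u
open scoped TensorProduct
open CAlg

namespace Groth.Agent.S6309

/-- Let R be a ring and φ : P₁ → P₂ a map of finite projective R-modules. The set U of primes p of R
such that φ ⊗ κ(p) is injective is open, and for every f ∈ R with D(f) ⊆ U the map (P₁)_f → (P₂)_f
is injective and Coker(φ)_f is a finite projective module over R_f. -/
theorem result {R : Type u} [CommRing R] {P₁ P₂ : Type u} [AddCommGroup P₁] [Module R P₁] [AddCommGroup P₂] [Module R P₂] [Module.Finite R P₁] [Module.Projective R P₁] [Module.Finite R P₂] [Module.Projective R P₂] (φ : P₁ →ₗ[R] P₂) : IsOpen {p : PrimeSpectrum R | Function.Injective (φ.lTensor p.asIdeal.ResidueField)} ∧ ∀ f : R, (↑(PrimeSpectrum.basicOpen f) : Set (PrimeSpectrum R)) ⊆ {p : PrimeSpectrum R | Function.Injective (φ.lTensor p.asIdeal.ResidueField)} → Function.Injective (LocalizedModule.map (Submonoid.powers f) φ) ∧ Module.Finite (Localization.Away f) (LocalizedModule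 (Submonoid.powers f) (P₂ ⧸ LinearMap.range φ)) ∧ Module.Projective (Localization.Away f) (LocalizedModule (Submonoid.powers f) (P₂ ⧸ LinearMap.range φ)) := by
  open Groth.Agent.CAlgOdd in
  have hU : {p : PrimeSpectrum R | Function.Injective (φ.lTensor p.asIdeal.ResidueField)} =
      (PrimeSpectrum.zeroLocus (splitIdeal φ : Set R))ᶜ := by
    ext p
    exact ⟨fun h => not_splitIdeal_le φ p h, fun h => lTensor_injective_of_not_splitIdeal_le φ p h⟩
  refine ⟨hU ▸ (PrimeSpectrum.isClosed_zeroLocus _).isOpen_compl, fun f hf => ?_⟩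
  obtain ⟨n, hn⟩ : f ∈ (splitIdeal φ).radical := by
    rw [← PrimeSpectrum.vanishingIdeal_zeroLocus_eq_radical, PrimeSpectrum.mem_vanishingIdeal]
    intro p hp
    by_contra hfp
    have := hf (show p ∈ (↑(PrimeSpectrum.basicOpen f) : Set (PrimeSpectrum R)) from hfp)
    rw [hU] at this
    exact this hp
  obtain ⟨r, hr⟩ := hn
  exact cokerMapAway φ (Submonoid.powers f) r ⟨f ^ n, n, rfl⟩ hr

end Groth.Agent.S6309
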