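import Groth.Statements.S6310
import Mathlib

set_option autoImplicit false
universe u
open CAlg

namespace Groth.Agent.S6310

/-- Let R be a ring, S ⊆ R a multiplicative subset, I ⊆ R an ideal and M a finite R-module. If x₁, …,
x_r ∈ M have images generating S⁻¹(M/IM) as an S⁻¹R-module, then there is f ∈ S + I (f = s + i with
s ∈ S, i ∈ I) such that x₁, …, x_r generate M_f as an R_f-module. -/
theorem result {R : Type u} [CommRing R] (S : Submonoid R) (I : Ideal R) (M : Type u) [AddCommGroup M] [Module R M] [Module.Finite R M] {r : ℕ} (x : Fin r → M) (hx : Submodule.span (Localization S) (Set.range fun j => LocalizedModule.mkLinearMap S (M ⧸ (I • (⊤ : Submodule R M))) (Submodule.Quotient.mk (x j))) = ⊤) : ∃ (s : R) (i : R), s ∈ S ∧ i ∈ I ∧ Submodule.span (Localization.Away (s + i)) (Set.range fun j => LocalizedModule.mkLinearMap (Submonoid.powers (s + i)) M (x j)) = ⊤ := by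
  classical
  let N := Submodule.span R (Set.range x)
  have h1 : ∀ m : M, ∃ s ∈ S, s • m ∈ N ⊔ I • (⊤ : Submodule R M) := by
    intro m
    have hm : LocalizedModule.mkLinearMap S (M ⧸ (I • (⊤ : Submodule R M))) (Submodule.Quotient.mk m) ∈
        Submodule.span (Localization S) (Set.range fun j => LocalizedModule.mkLinearMap S
          (M ⧸ (I • (⊤ : Submodule R M))) (Submodule.Quotient.mk (x j))) := by rw [hx]; trivial
    obtain ⟨c, hc⟩ := (Submodule.mem_span_range_iff_exists_fun _).mp hm
    obtain ⟨t, ht⟩ := IsLocalization.exist_integer_multiples S Finset.univ c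
    choose a ha using fun j => ht j (Finset.mem_univ j)
    have h2 : LocalizedModule.mkLinearMap S (M ⧸ (I • (⊤ : Submodule R M)))
        (Submodule.Quotient.mk ((t : R) • m - ∑ j, a j • x j)) = 0 := by
      rw [← Submodule.mkQ_apply, map_sub, map_sub, map_smul, map_smul, Submodule.mkQ_apply, ← hc, Finset.smul_sum,
        map_sum, map_sum, ← Finset.sum_sub_distrib]
      refine Finset.sum_eq_zero fun j _ => ?_
      rw [map_smul, map_smul, Submodule.mkQ_apply, ← smul_assoc, ← ha j, algebraMap_smul, sub_self]
    obtain ⟨u, hu⟩ := (IsLocalizedModule.eq_zero_iff S _).mp h2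
    rw [Submonoid.smul_def, ← Submodule.Quotient.mk_smul, Submodule.Quotient.mk_eq_zero, smul_sub, smul_smul] at hu
    refine ⟨u * t, S.mul_mem u.2 t.2, ?_⟩
    rw [← sub_add_cancel ((u * t : R) • m) ((u : R) • ∑ j, a j • x j)]
    exact add_mem (Submodule.mem_sup_right hu) (Submodule.mem_sup_left (N.smul_mem _
      (sum_mem fun j _ => N.smul_mem _ (Submodule.subset_span ⟨j, rfl⟩))))
  choose σ hσ hσm using h1
  obtain ⟨G, hG⟩ := Module.Finite.fg_top (R := R) (M := M)
  let s : R := ∏ g ∈ G, σ g
  have hs : s ∈ S := S.prod_mem fun g _ => hσ g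
  have hsm : ∀ m : M, s • m ∈ N ⊔ I • (⊤ : Submodule R M) := by
    intro m
    have hm : m ∈ Submodule.span R (G : Set M) := by rw [hG]; trivial
    induction hm using Submodule.span_induction with
    | mem g hg =>
      simp only [s]
      rw [← Finset.prod_erase_mul G σ hg, mul_smul]
      exact Submodule.smul_mem _ _ (hσm g)
    | zero => rw [smul_zero]; exact zero_mem _
    | add a b _ _ ha hb => rw [smul_add]; exact add_mem ha hb
    | smul c a _ ha => rw [smul_comm]; exact Submodule.smul_mem _ c ha
  have hrange : LinearMap.range (s • LinearMap.id : (M ⧸ N) →ₗ[R] M ⧸ N) ≤ I • ⊤ := by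
    rintro _ ⟨q, rfl⟩
    obtain ⟨m, rfl⟩ := N.mkQ_surjective q
    obtain ⟨n, hn, i, hi, hni⟩ := Submodule.mem_sup.mp (hsm m)
    rw [LinearMap.smul_apply, LinearMap.id_apply, ← map_smul, ← hni, map_add,
      (Submodule.Quotient.mk_eq_zero N).mpr hn |> (fun h => (Submodule.mkQ_apply N n).trans h), zero_add]
    have : N.mkQ i ∈ Submodule.map N.mkQ (I • ⊤) := ⟨i, hi, rfl⟩
    rwa [Submodule.map_smul'', Submodule.map_top, Submodule.range_mkQ] at this
  obtain ⟨p, hp, -, hcoeff, hp0⟩ :=
    LinearMap.exists_monic_and_natDegree_eq_and_coeff_mem_pow_and_aeval_eq_zero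
      R (s • LinearMap.id : Module.End R (M ⧸ N)) I hrange
  let d := p.natDegree
  refine ⟨s ^ d, p.eval s - s ^ d, S.pow_mem hs d, ?_, ?_⟩
  · rw [Polynomial.eval_eq_sum_range, Finset.sum_range_succ, hp.coeff_natDegree, one_mul, add_sub_cancel_right]
    refine Ideal.sum_mem _ fun j hj => Ideal.mul_mem_right _ _ ?_
    exact Ideal.pow_le_self (Nat.sub_ne_zero_of_lt (Finset.mem_range.mp hj)) (hcoeff j)
  · rw [add_sub_cancel]
    have hkill : ∀ m : M, p.eval s • m ∈ N := by
      intro m
      rw [← Submodule.Quotient.mk_eq_zero N, Submodule.Quotient.mk_smul]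
      have := LinearMap.congr_fun hp0 (Submodule.Quotient.mk m)
      rw [show (s • LinearMap.id : Module.End R (M ⧸ N)) = algebraMap R (Module.End R (M ⧸ N)) s from
        (Algebra.algebraMap_eq_smul_one s).symm, Polynomial.aeval_algebraMap_apply, Module.algebraMap_end_apply] at this
      simpa using this
    rw [eq_top_iff]
    intro z _
    induction z using LocalizedModule.induction_on with
    | h m t =>
      have hm : LocalizedModule.mkLinearMap (Submonoid.powers (p.eval s)) M (p.eval s • m) ∈
          Submodule.span (Localization.Away (p.eval s))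
            (Set.range fun j => LocalizedModule.mkLinearMap (Submonoid.powers (p.eval s)) M (x j)) := by
        refine Submodule.span_le_restrictScalars R (Localization.Away (p.eval s)) _ ?_
        rw [Set.range_comp' (g := fun m => LocalizedModule.mkLinearMap (Submonoid.powers (p.eval s)) M m) (f := x),
          Submodule.span_image]
        exact ⟨_, hkill m, rfl⟩
      let u : Submonoid.powers (p.eval s) := ⟨p.eval s, 1, pow_one _⟩
      have := Submodule.smul_mem _ (Localization.mk 1 (u * t)) hm
      rw [LocalizedModule.mkLinearMap_apply, LocalizedModule.mk_smul_mk, one_smul, mul_one] at this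
      rwa [← LocalizedModule.mk_cancel_common_left u t m]

end Groth.Agent.S6310
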