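import Groth.Statements.S6311
import Mathlib
import Groth.Agent.KZ.Basic

set_option autoImplicit false
universe u
open CategoryTheory
open CAlg

namespace Groth.Agent.S6311

/-- Let R be a local ring. Then K₀(R), the Grothendieck group of the category of finite projective
R-modules, is isomorphic to ℤ via the rank; precisely, there is an isomorphism K₀(R) ≅ ℤ of abelian
groups sending the class [R] to 1 (such an isomorphism is then unique, K₀(R) being generated by
[R]). -/
theorem result (R : Type u) [CommRing R] [IsLocalRing R] : ∃ e : KZero.K0sub (fun M : ModuleCat.{u} R => Module.Finite R M ∧ Module.Projective R M) ≃+ ℤ, e (KZero.clSub (fun M : ModuleCat.{u} R => Module.Finite R M ∧ Module.Projective R M) (ModuleCat.of R R)) = 1 := by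
  classical
  let P : CategoryTheory.ObjectProperty (ModuleCat.{u} R) := fun M => Module.Finite R M ∧ Module.Projective R M
  have hfree : ∀ M : ModuleCat.{u} R, P M → Module.Free R M := fun M h => by
    have := h.1; have := h.2; exact Module.free_of_flat_of_isLocalRing
  obtain ⟨f, hf⟩ := Groth.Agent.KZ.exists_liftSub P
    (fun M => (Module.finrank R M : ℤ)) (fun S hS h1 h2 h3 => by
      have hinj : Function.Injective S.f.hom := (ModuleCat.mono_iff_injective _).mp hS.mono_f
      have hsurj : Function.Surjective S.g.hom := (ModuleCat.epi_iff_surjective _).mp hS.epi_g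
      have hex : Function.Exact S.f.hom S.g.hom :=
        CategoryTheory.ShortComplex.ShortExact.moduleCat_exact_iff_function_exact S |>.mp hS.exact
      have := hfree _ h1; have := hfree _ h2; have := hfree _ h3
      have := h1.1; have := h2.1; have := h3.1; have := h3.2
      obtain ⟨s, hs⟩ := Module.projective_lifting_property S.g.hom LinearMap.id hsurj
      have ht := (hex.split_tfae hinj hsurj).out 0 2
      obtain ⟨e, -, -⟩ := ht.mp ⟨s, hs⟩
      rw [e.finrank_eq, Module.finrank_prod]
      push_cast
      rfl)
  let g : ℤ →+ KZero.K0sub P := zmultiplesHom _ (KZero.clSub P (ModuleCat.of R R))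
  have hR : P (ModuleCat.of R R) := ⟨inferInstanceAs (Module.Finite R R), inferInstanceAs (Module.Projective R R)⟩
  have hPn : ∀ n, P (ModuleCat.of R (Fin n → R)) := fun n =>
    ⟨inferInstanceAs (Module.Finite R (Fin n → R)), inferInstanceAs (Module.Projective R (Fin n → R))⟩
  have hz : CategoryTheory.Limits.IsZero (ModuleCat.of R (Fin 0 → R)) := ModuleCat.isZero_of_subsingleton _
  have hn : ∀ n : ℕ, KZero.clSub P (ModuleCat.of R (Fin n → R)) = (n : ℤ) • KZero.clSub P (ModuleCat.of R R) := by
    intro n
    induction n with
    | zero => rw [Groth.Agent.KZ.clSub_isZero P hz, Nat.cast_zero, zero_smul]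
    | succ n ih =>
      let S : CategoryTheory.ShortComplex (ModuleCat.{u} R) := CategoryTheory.ShortComplex.mk
        (X₁ := ModuleCat.of R R) (X₂ := ModuleCat.of R (Fin (n + 1) → R)) (X₃ := ModuleCat.of R (Fin n → R))
        (ModuleCat.ofHom (LinearMap.single R (fun _ : Fin (n + 1) => R) 0))
        (ModuleCat.ofHom (LinearMap.funLeft R R Fin.succ)) (by
          ext j; simp [LinearMap.funLeft]; rfl)
      have hS : S.ShortExact :=
        { exact := by
            rw [CategoryTheory.ShortComplex.moduleCat_exact_iff]
            intro v hv
            refine ⟨v 0, funext fun j => ?_⟩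
            refine Fin.cases ?_ (fun k => ?_) j
            · simp [S]
            · have := congrFun hv k
              simp [S, LinearMap.funLeft] at this ⊢
              exact this.symm
          mono_f := (ModuleCat.mono_iff_injective _).mpr (fun a b h => by simpa [S] using congrFun h 0)
          epi_g := (ModuleCat.epi_iff_surjective _).mpr (LinearMap.funLeft_surjective_of_injective R R _ (Fin.succ_injective n)) }
      have := Groth.Agent.KZ.clSub_ses P hS hR (hPn (n + 1)) (hPn n)
      rw [this, ih]
      push_cast
      rw [add_smul, one_smul, add_comm]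
  have hfR : f (KZero.clSub P (ModuleCat.of R R)) = 1 := by rw [hf _ hR, Module.finrank_self, Nat.cast_one]
  refine ⟨AddMonoidHom.toAddEquiv f g ?_ ?_, hfR⟩
  · refine Groth.Agent.KZ.K0sub_hom_ext P fun M hM => ?_
    have := hfree M hM
    have := hM.1
    let e : (Fin (Module.finrank R M) → R) ≃ₗ[R] M := (Module.finBasis R M).equivFun.symm
    simp only [AddMonoidHom.comp_apply, AddMonoidHom.id_apply, hf M hM, g, zmultiplesHom_apply]
    rw [← hn, Groth.Agent.KZ.clSub_iso P e.toModuleIso (hPn _) hM hz (hPn 0)]
    rfl
  · ext
    simp [g, hfR]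

end Groth.Agent.S6311
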