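import Groth.Statements.S6312
import Mathlib

set_option autoImplicit false
universe u
open CAlg

namespace Groth.Agent.S6312

/-- Let R be a ring, M an R-module and S ⊆ R a multiplicative subset. Then length_{S⁻¹R}(S⁻¹M) ≤
length_R(M). -/
theorem result {R : Type u} [CommRing R] (S : Submonoid R) (M : Type u) [AddCommGroup M] [Module R M] : Module.length (Localization S) (LocalizedModule S M) ≤ Module.length R M := by
  classical
  rw [← WithBot.coe_le_coe, Module.coe_length, Module.coe_length]
  let c : Submodule (Localization S) (LocalizedModule S M) → Submodule R M :=
    fun N => (N.restrictScalars R).comap (LocalizedModule.mkLinearMap S M)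
  refine Order.krullDim_le_of_strictMono c ?_
  have hle : ∀ A B, c A ≤ c B → A ≤ B := by
    intro A B h x hx
    induction x using LocalizedModule.induction_on with
    | h m s =>
      have e : LocalizedModule.mkLinearMap S M m =
          algebraMap R (Localization S) (s : R) • LocalizedModule.mk m s := by
        rw [algebraMap_smul, LocalizedModule.smul'_mk]
        rw [LocalizedModule.mkLinearMap_apply, LocalizedModule.mk_eq]
        exact ⟨1, by simp [Submonoid.smul_def]⟩
      have hm : m ∈ c A := by
        show LocalizedModule.mkLinearMap S M m ∈ A
        rw [e]
        exact A.smul_mem _ hx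
      have hB : LocalizedModule.mkLinearMap S M m ∈ B := h hm
      rw [e] at hB
      have hu := IsLocalization.map_units (Localization S) s
      rwa [Submodule.smul_mem_iff_of_isUnit _ hu] at hB
  intro A B hAB
  refine lt_of_le_not_ge (fun m hm => hAB.le hm) fun h => hAB.not_ge (hle _ _ h)

end Groth.Agent.S6312
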