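import Groth.Statements.S6319
import Mathlib
import Groth.Agent.KZ.Basic

set_option autoImplicit false
universe u
open CategoryTheory
open CAlg

namespace Groth.Agent.S6319

/-- Let R be an Artinian local ring. The length function defines a homomorphism of abelian groups
length_R : K'₀(R) → ℤ on the Grothendieck group of finite R-modules, sending the class of a finite
module M to its (finite) length. -/
theorem result (R : Type u) [CommRing R] [IsArtinianRing R] [IsLocalRing R] : ∃ φ : KZero.K0sub (fun M : ModuleCat.{u} R => Module.Finite R M) →+ ℤ, ∀ (M : ModuleCat.{u} R), Module.Finite R M → (φ (KZero.clSub (fun M : ModuleCat.{u} R => Module.Finite R M) M) : ℤ) = (Module.length R M).toNat := by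
  obtain ⟨f, hf⟩ := Groth.Agent.KZ.exists_liftSub (fun M : ModuleCat.{u} R => Module.Finite R M)
    (fun M => ((Module.length R M).toNat : ℤ)) (fun S hS h1 h2 h3 => by
      have hinj : Function.Injective S.f.hom := (ModuleCat.mono_iff_injective _).mp hS.mono_f
      have hsurj : Function.Surjective S.g.hom := (ModuleCat.epi_iff_surjective _).mp hS.epi_g
      have hex : Function.Exact S.f.hom S.g.hom :=
        CategoryTheory.ShortComplex.ShortExact.moduleCat_exact_iff_function_exact S |>.mp hS.exact
      have e := Module.length_eq_add_of_exact S.f.hom S.g.hom hinj hsurj hex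
      have f1 : Module.length R S.X₁ ≠ ⊤ := by
        rw [Module.length_ne_top_iff, isFiniteLength_iff_isNoetherian_isArtinian]
        exact ⟨inferInstance, inferInstance⟩
      have f3 : Module.length R S.X₃ ≠ ⊤ := by
        rw [Module.length_ne_top_iff, isFiniteLength_iff_isNoetherian_isArtinian]
        exact ⟨inferInstance, inferInstance⟩
      rw [e, ENat.toNat_add f1 f3]
      push_cast
      rfl)
  exact ⟨f, hf⟩

end Groth.Agent.S6319
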