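import Groth.Statements.S6320
import Mathlib
import Groth.Agent.TameLib.Decomp

set_option autoImplicit false
universe u
open CAlg

namespace Groth.Agent.S6320

/-- Let A be a local ring with maximal ideal m, B a semi-local ring with maximal ideals m₁, …, mₙ and A
→ B a ring map such that each mᵢ lies over m with [κ(mᵢ) : κ(m)] finite. Then for every B-module M
of finite length, length_A(M) = Σᵢ [κ(mᵢ) : κ(m)] · length_{B_{mᵢ}}(M_{mᵢ}); in particular
length_A(M) is finite. -/
theorem result {A B : Type u} [CommRing A] [IsLocalRing A] [CommRing B] [Algebra A B] [Finite (MaximalSpectrum B)] (hover : ∀ n : MaximalSpectrum B, n.asIdeal.comap (algebraMap A B) = IsLocalRing.maximalIdeal A) (hfin : ∀ n : MaximalSpectrum B, Module.Finite (A ⧸ n.asIdeal.comap (algebraMap A B)) (B ⧸ n.asIdeal)) (M : Type u) [AddCommGroup M] [Module B M] [Module A M] [IsScalarTower A B M] (hM : IsFiniteLength B M) : Module.length A M = ∑ᶠ n : MaximalSpectrum B, (Module.finrank (A ⧸ n.asIdeal.comap (algebraMap A B)) (B ⧸ n.asIdeal) : ℕ∞) * Module.length (Localization.AtPrime n.asIdeal) (LocalizedModule n.asIdeal.primeCompl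 M) := by
  classical
  open Groth.Agent.TameLib in
  haveI : Fintype (MaximalSpectrum B) := Fintype.ofFinite _
  rw [finsum_eq_sum_of_fintype]
  have hres : ∀ n : MaximalSpectrum B, Module.length A (B ⧸ n.asIdeal) =
      (Module.finrank (A ⧸ n.asIdeal.comap (algebraMap A B)) (B ⧸ n.asIdeal) : ℕ∞) := by
    intro n
    haveI : (n.asIdeal.comap (algebraMap A B)).IsMaximal := by rw [hover n]; infer_instance
    letI := Ideal.Quotient.field (n.asIdeal.comap (algebraMap A B))
    haveI := hfin n
    rw [Module.length_eq_of_surjective (R := A ⧸ n.asIdeal.comap (algebraMap A B)) (S := A) Ideal.Quotient.mk_surjective,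
      Module.length_eq_finrank]
  suffices H : ∀ (M : Type u) [AddCommGroup M] [Module B M], IsFiniteLength B M → ∀ [Module A M] [IsScalarTower A B M],
      Module.length A M = ∑ n : MaximalSpectrum B,
        (Module.finrank (A ⧸ n.asIdeal.comap (algebraMap A B)) (B ⧸ n.asIdeal) : ℕ∞) *
          Module.length (Localization.AtPrime n.asIdeal) (LocalizedModule n.asIdeal.primeCompl M) from H M hM
  intro M _ _ hM
  induction hM with
  | @of_subsingleton M _ _ _ =>
    intro _ _
    have : ∀ q : MaximalSpectrum B, Subsingleton (LocalizedModule q.asIdeal.primeCompl M) := fun q =>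
      subsingleton_of_forall_eq 0 fun z => by
        induction z using LocalizedModule.induction_on with
        | _ x s => rw [Subsingleton.elim x 0, LocalizedModule.zero_mk]
    simp [Module.length_eq_zero]
  | @of_simple_quotient M _ _ N hs _ ih =>
    intro _ _
    obtain ⟨m, hm, ⟨e⟩⟩ := isSimpleModule_iff_quot_maximal.mp hs
    rw [Module.length_eq_add_of_exact (N.subtype.restrictScalars A) (N.mkQ.restrictScalars A)
      (Submodule.injective_subtype N) (Submodule.mkQ_surjective N) (LinearMap.exact_subtype_mkQ N), ih]
    simp only [fun q : MaximalSpectrum B => length_localized_exact q.asIdeal (Submodule.injective_subtype N)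
      (Submodule.mkQ_surjective N) (LinearMap.exact_subtype_mkQ N), mul_add, Finset.sum_add_distrib]
    congr 1
    rw [(e.restrictScalars A).length_eq, hres ⟨m, hm⟩, Finset.sum_eq_single (⟨m, hm⟩ : MaximalSpectrum B)]
    · rw [length_localized_congr m e, length_localized_simple m, mul_one]
    · intro q _ hq
      rw [length_localized_congr q.asIdeal e, length_localized_ne q.asIdeal m fun h =>
        hq (MaximalSpectrum.ext (hm.eq_of_le q.isMaximal.ne_top h).symm), mul_zero]
    · exact fun h => absurd (Finset.mem_univ _) h

end Groth.Agent.S6320
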