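import Groth.Statements.S6321
import Mathlib

set_option autoImplicit false
universe u
open CAlg

namespace Groth.Agent.S6321

/-- Let R be a ring and (Sᵢ, φᵢⱼ) a directed system of faithfully flat R-algebras whose transition maps
are R-algebra maps. Then S = colim Sᵢ is a faithfully flat R-algebra: for any index i the composite
R → Sᵢ → S is faithfully flat. -/
theorem result {R : Type u} [CommRing R] {ι : Type u} [Preorder ι] [Nonempty ι] [IsDirected ι (· ≤ ·)] (G : ι → Type u) [∀ i, CommRing (G i)] [∀ i, Algebra R (G i)] (f : ∀ i j, i ≤ j → G i →+* G j) [DirectedSystem G fun i j h => f i j h] (hcompat : ∀ i j (h : i ≤ j), (f i j h).comp (algebraMap R (G i)) = algebraMap R (G j)) (hff : ∀ i, (algebraMap R (G i)).FaithfullyFlat) (i : ι) : ((Ring.DirectLimit.of G (fun i j h => f i j h) i).comp (algebraMap R (G i))).FaithfullyFlat := by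
  classical
  letI : Algebra R (Ring.DirectLimit G (fun i j h => f i j h)) :=
    ((Ring.DirectLimit.of G (fun i j h => f i j h) i).comp (algebraMap R (G i))).toAlgebra
  rw [show (Ring.DirectLimit.of G (fun i j h => f i j h) i).comp (algebraMap R (G i)) =
    algebraMap R (Ring.DirectLimit G (fun i j h => f i j h)) from rfl,
    RingHom.faithfullyFlat_algebraMap_iff]
  set L := Ring.DirectLimit G (fun i j h => f i j h)
  let of := fun j => Ring.DirectLimit.of G (fun i j h => f i j h) j
  have hof : ∀ j, (of j).comp (algebraMap R (G j)) = algebraMap R L := by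
    intro j
    obtain ⟨k, hik, hjk⟩ := exists_ge_ge i j
    ext r
    show of j (algebraMap R (G j) r) = of i (algebraMap R (G i) r)
    simp only [of]
    rw [← Ring.DirectLimit.of_f (f := fun i j h => f i j h) hjk,
      ← Ring.DirectLimit.of_f (f := fun i j h => f i j h) hik]
    congr 1
    exact (RingHom.congr_fun (hcompat _ _ hjk) r).trans (RingHom.congr_fun (hcompat _ _ hik) r).symm
  have hsmul : ∀ j (r : R) (x : G j), r • of j x = of j (r • x) := by
    intro j r x
    rw [Algebra.smul_def, Algebra.smul_def, map_mul, ← hof j]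
    rfl
  have hlin : ∀ a b (h : a ≤ b) (r : R) (x : G a), f a b h (r • x) = r • f a b h x := by
    intro a b h r x
    rw [Algebra.smul_def, Algebra.smul_def, map_mul, ← hcompat _ _ h]
    rfl
  have hflat : Module.Flat R L := by
    rw [Module.Flat.iff_forall_isTrivialRelation]
    intro l c x hx
    choose j y hy using fun t => Ring.DirectLimit.exists_of (x t)
    obtain ⟨j₀, hj₀⟩ := Finite.exists_le j
    let z : Fin l → G j₀ := fun t => f _ _ (hj₀ t) (y t)
    have hz : ∀ t, of j₀ (z t) = x t := fun t => by rw [← hy t]; exact Ring.DirectLimit.of_f _ _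
    have h0 : of j₀ (∑ t, c t • z t) = 0 := by simp only [map_sum, ← hsmul, hz, hx]
    obtain ⟨k, hk, hk0⟩ := Ring.DirectLimit.of.zero_exact h0
    have hrel : ∑ t, c t • f _ _ hk (z t) = 0 := by
      rw [← hk0, map_sum]
      refine Finset.sum_congr rfl fun t _ => ?_
      rw [Algebra.smul_def, Algebra.smul_def, map_mul, ← hcompat _ _ hk]
      rfl
    haveI : Module.Flat R (G k) := by
      have := (RingHom.faithfullyFlat_algebraMap_iff.mp (hff k))
      infer_instance
    obtain ⟨κ, a, w, hw, ha⟩ := Module.Flat.isTrivialRelation_of_sum_smul_eq_zero (R := R) (M := G k) (ι := Fin l) (f := c) hrel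
    refine ⟨κ, a, fun t => of k (w t), fun t => ?_, ha⟩
    have hwt : f j₀ k hk (z t) = ∑ u, a t u • w u := hw t
    rw [← hz t, ← Ring.DirectLimit.of_f (f := fun i j h => f i j h) hk, hwt, map_sum]
    exact Finset.sum_congr rfl fun u _ => (hsmul _ _ _).symm
  refine ⟨fun {m} hm htop => ?_⟩
  have h1 : (1 : L) ∈ m • (⊤ : Submodule R L) := htop.symm ▸ Submodule.mem_top
  have hrep : ∀ v ∈ m • (⊤ : Submodule R L), ∃ j, ∃ y ∈ m • (⊤ : Submodule R (G j)), of j y = v := by
    intro v hv
    refine Submodule.smul_induction_on hv (fun r hr s _ => ?_) (fun a b ha hb => ?_)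
    · obtain ⟨j, y, rfl⟩ := Ring.DirectLimit.exists_of s
      exact ⟨j, r • y, Submodule.smul_mem_smul hr Submodule.mem_top, (hsmul j r y).symm⟩
    · obtain ⟨j₁, y₁, hy₁, rfl⟩ := ha
      obtain ⟨j₂, y₂, hy₂, rfl⟩ := hb
      obtain ⟨k, h₁, h₂⟩ := exists_ge_ge j₁ j₂
      have hmap : ∀ (j : ι) (h : j ≤ k) (y : G j), y ∈ m • (⊤ : Submodule R (G j)) →
          f j k h y ∈ m • (⊤ : Submodule R (G k)) := by
        intro j h y hy
        refine Submodule.smul_induction_on hy (fun r hr s _ => ?_) (fun a b ha hb => ?_)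
        · rw [hlin]
          exact Submodule.smul_mem_smul hr Submodule.mem_top
        · rw [map_add]; exact Submodule.add_mem _ ha hb
      exact ⟨k, f _ _ h₁ y₁ + f _ _ h₂ y₂, Submodule.add_mem _ (hmap _ h₁ _ hy₁) (hmap _ h₂ _ hy₂),
        by simp [of]⟩
  obtain ⟨j, y, hy, hy1⟩ := hrep 1 h1
  have h0 : of j (y - 1) = 0 := by rw [map_sub, hy1, map_one, sub_self]
  obtain ⟨k, hk, hk0⟩ := Ring.DirectLimit.of.zero_exact h0
  rw [map_sub, map_one, sub_eq_zero] at hk0
  have hy' : f j k hk y ∈ m • (⊤ : Submodule R (G k)) := by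
    refine Submodule.smul_induction_on hy (fun r hr s _ => ?_) (fun a b ha hb => ?_)
    · rw [hlin]
      exact Submodule.smul_mem_smul hr Submodule.mem_top
    · rw [map_add]; exact Submodule.add_mem _ ha hb
  rw [hk0, Ideal.smul_top_eq_map, Submodule.restrictScalars_mem] at hy'
  haveI := RingHom.faithfullyFlat_algebraMap_iff.mp (hff k)
  have := Module.FaithfullyFlat.submodule_ne_top (M := G k) hm
  apply this
  rw [Ideal.smul_top_eq_map, (Ideal.eq_top_iff_one _).mpr hy', Submodule.restrictScalars_top]

end Groth.Agent.S6321
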