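import Groth.Statements.S6326
import Mathlib
import Groth.Agent.CAlgOdd.FgColim

set_option autoImplicit false
universe u
open CategoryTheory CategoryTheory.Limits
open CAlg

namespace Groth.Agent.S6326

/-- Let R be a ring and N an R-module such that whenever M is the colimit of a filtered diagram (Mᵢ) of
R-modules (indexed by a filtered category in the same universe), the comparison map colim Hom_R(N,
Mᵢ) → Hom_R(N, M) is injective. Then N is finitely generated. (The implication from finite
generation back to this injectivity also holds; only the characterizing direction is stated here.) -/
theorem result (R : Type u) [CommRing R] (N : Type u) [AddCommGroup N] [Module R N] (h : ∀ (J : Type u) [SmallCategory J] [IsFiltered J] (F : J ⥤ ModuleCat.{u} R), Function.Injective (colimit.post F (coyoneda.obj (Opposite.op (ModuleCat.of R N))))) : Module.Finite R N := by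
  exact Groth.Agent.CAlgOdd.finite_of_injective (h (Groth.Agent.CAlgOdd.FGBelow (⊤ : Submodule R N)) _)

end Groth.Agent.S6326
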