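import Groth.Statements.S6327
import Mathlib
import Groth.Agent.CAlgOdd.FgColim

set_option autoImplicit false
universe u
open CategoryTheory CategoryTheory.Limits
open CAlg

namespace Groth.Agent.S6327

/-- Let R be a ring and N an R-module such that whenever M is the colimit of a filtered diagram (Mᵢ) of
R-modules (indexed by a filtered category in the same universe), the comparison map colim Hom_R(N,
Mᵢ) → Hom_R(N, M) is bijective. Then N is finitely presented. (The implication from finite
presentation back to this bijectivity also holds; only the characterizing direction is stated here.) -/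
theorem result (R : Type u) [CommRing R] (N : Type u) [AddCommGroup N] [Module R N] (h : ∀ (J : Type u) [SmallCategory J] [IsFiltered J] (F : J ⥤ ModuleCat.{u} R), Function.Bijective (colimit.post F (coyoneda.obj (Opposite.op (ModuleCat.of R N))))) : Module.FinitePresentation R N := by
  have : Module.Finite R N :=
    Groth.Agent.CAlgOdd.finite_of_injective (h (Groth.Agent.CAlgOdd.FGBelow (⊤ : Submodule R N)) _).1
  obtain ⟨n, π, hπ⟩ := Module.Finite.exists_fin' R N
  exact Groth.Agent.CAlgOdd.finitePresentation_of_surjective π hπ
    (h (Groth.Agent.CAlgOdd.FGBelow (LinearMap.ker π)) _).2

end Groth.Agent.S6327
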