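import Groth.Statements.S6329
import Mathlib
import Groth.Agent.TameLib.Decomp

set_option autoImplicit false
universe u
open CAlg

namespace Groth.Agent.S6329

/-- Let R be a ring, M an R-module and 0 = M₀ ⊂ M₁ ⊂ … ⊂ Mₙ = M a maximal chain of submodules (a
composition series; each Mᵢ/Mᵢ₋₁ is simple, of the form R/mᵢ with mᵢ = (Mᵢ₋₁ : Mᵢ) maximal). Then
for every maximal ideal m of R the number of indices i with mᵢ = m equals length_{R_m}(M_m). -/
theorem result {R : Type u} [CommRing R] (M : Type u) [AddCommGroup M] [Module R M] (s : CompositionSeries (Submodule R M)) (h0 : s.head = ⊥) (h1 : s.last = ⊤) (m : Ideal R) [m.IsMaximal] : ((Finset.univ.filter fun i : Fin s.length => (s i.castSucc).colon (s i.succ : Set M) = m).card : ℕ∞) = Module.length (Localization.AtPrime m) (LocalizedModule m.primeCompl M) := by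
  classical
  open Groth.Agent.TameLib in
  let L : Submodule R M → ℕ∞ := fun N => Module.length (Localization.AtPrime m) (LocalizedModule m.primeCompl N)
  have step : ∀ (i : Fin s.length), L (s i.succ) =
      L (s i.castSucc) + (if (s i.castSucc).colon (s i.succ : Set M) = m then 1 else 0) := by
    intro i
    have hcov : s i.castSucc ⋖ s i.succ := s.step i
    have hle := hcov.le
    haveI hsimple : IsSimpleModule R (s i.succ ⧸ (s i.castSucc).comap (s i.succ).subtype) :=
      (covBy_iff_quot_is_simple hle).1 hcov
    obtain ⟨n, hn, ⟨e⟩⟩ := isSimpleModule_iff_quot_maximal.mp hsimple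
    have hcolon : (s i.castSucc).colon (s i.succ : Set M) = n := by
      ext r
      rw [← Ideal.annihilator_quotient (I := n), ← e.annihilator_eq, Submodule.mem_colon, Module.mem_annihilator]
      constructor
      · intro h q
        obtain ⟨x, rfl⟩ := Submodule.Quotient.mk_surjective _ q
        rw [← Submodule.Quotient.mk_smul, Submodule.Quotient.mk_eq_zero, Submodule.mem_comap]
        exact h x x.2
      · intro h x hx
        have := h (Submodule.Quotient.mk (⟨x, hx⟩ : s i.succ))
        rw [← Submodule.Quotient.mk_smul, Submodule.Quotient.mk_eq_zero, Submodule.mem_comap] at this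
        exact this
    show Module.length _ _ = Module.length _ _ + _
    rw [length_localized_exact m (Submodule.injective_subtype ((s i.castSucc).comap (s i.succ).subtype))
      (Submodule.mkQ_surjective _) (LinearMap.exact_subtype_mkQ _), length_localized_congr m e,
      length_localized_congr m (Submodule.comapSubtypeEquivOfLe hle), hcolon]
    congr 1
    by_cases h : n = m
    · subst h; rw [if_pos rfl, length_localized_simple]
    · rw [if_neg h, length_localized_ne m n fun hnm => h (hn.eq_of_le (Ideal.IsMaximal.ne_top ‹m.IsMaximal›) hnm)]
  have key : ∀ k : Fin (s.length + 1), L (s k) =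
      ((Finset.univ.filter fun i : Fin s.length => (i : ℕ) < k ∧ (s i.castSucc).colon (s i.succ : Set M) = m).card : ℕ∞) := by
    intro k
    induction k using Fin.induction with
    | zero =>
      haveI : Subsingleton (s 0) := by
        rw [show s 0 = ⊥ from h0]; infer_instance
      haveI : Subsingleton (LocalizedModule m.primeCompl (s 0)) := subsingleton_of_forall_eq 0 fun z => by
        induction z using LocalizedModule.induction_on with
        | h x t => rw [Subsingleton.elim x 0, LocalizedModule.zero_mk]
      simp [L, Module.length_eq_zero]
    | succ k ih =>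
      rw [step k, ih]
      have hsplit : (Finset.univ.filter fun i : Fin s.length => (i : ℕ) < (k.succ : Fin _) ∧
            (s i.castSucc).colon (s i.succ : Set M) = m) =
          (Finset.univ.filter fun i : Fin s.length => (i : ℕ) < (k.castSucc : Fin _) ∧
            (s i.castSucc).colon (s i.succ : Set M) = m) ∪
          (if (s k.castSucc).colon (s k.succ : Set M) = m then {k} else ∅) := by
        ext i
        by_cases hik : i = k
        · subst hik; by_cases hc : (s i.castSucc).colon (s i.succ : Set M) = m <;> simp [hc]
        · have : (i : ℕ) < k + 1 ↔ (i : ℕ) < k := by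
            have : (i : ℕ) ≠ k := fun e => hik (Fin.ext e)
            omega
          have hle2 : i ≤ k ↔ i < k := ⟨fun h => lt_of_le_of_ne h hik, le_of_lt⟩
          split_ifs <;> simp [this, hik, hle2]
      have hdisj : Disjoint (Finset.univ.filter fun i : Fin s.length => (i : ℕ) < (k.castSucc : Fin _) ∧
            (s i.castSucc).colon (s i.succ : Set M) = m)
          (if (s k.castSucc).colon (s k.succ : Set M) = m then {k} else ∅) := by
        split_ifs <;> simp
      rw [hsplit, Finset.card_union_of_disjoint hdisj]
      split_ifs <;> simp
  have h := key (Fin.last _)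
  rw [length_localized_congr m (Submodule.topEquiv (R := R) (M := M)).symm]
  have hlast : s (Fin.last _) = ⊤ := h1
  rw [← length_localized_congr m (LinearEquiv.ofEq _ _ hlast)]
  refine (Eq.symm ?_)
  refine h.trans ?_
  congr 2
  exact Finset.filter_congr fun i _ => by simp

end Groth.Agent.S6329
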