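import Groth.Statements.S6330
import Mathlib
import Groth.Agent.CAlgOdd.FibreLocus

set_option autoImplicit false
universe u
open scoped TensorProduct
open CAlg

namespace Groth.Agent.S6330

/-- Let R be a ring and φ : P₁ → P₂ a map of finite projective R-modules. The set W of primes p of R
such that φ ⊗ κ(p) is surjective is open, and for every f ∈ R with D(f) ⊆ W the map (P₁)_f → (P₂)_f
is surjective and Ker(φ)_f is a finite projective module over R_f. -/
theorem result {R : Type u} [CommRing R] {P₁ P₂ : Type u} [AddCommGroup P₁] [Module R P₁] [AddCommGroup P₂] [Module R P₂] [Module.Finite R P₁] [Module.Projective R P₁] [Module.Finite R P₂] [Module.Projective R P₂] (φ : P₁ →ₗ[R] P₂) : IsOpen {p : PrimeSpectrum R | Function.Surjective (φ.lTensor p.asIdeal.ResidueField)} ∧ ∀ f : R, (↑(PrimeSpectrum.basicOpen f) : Set (PrimeSpectrum R)) ⊆ {p : PrimeSpectrum R | Function.Surjective (φ.lTensor p.asIdeal.ResidueField)} → Function.Surjective (LocalizedModule.map (Submonoid.powers f) φ) ∧ Module.Finite (Localization.Away f) (LocalizedModule (Submonoid.powers f) (LinearMap.ker φ))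 ∧ Module.Projective (Localization.Away f) (LocalizedModule (Submonoid.powers f) (LinearMap.ker φ)) := by
  open Groth.Agent.CAlgOdd in
  refine ⟨setOf_lTensor_surjective_isOpen φ, fun f hf => ?_⟩
  have hs := map_away_surjective φ f fun p hp => (lTensor_residueField_surjective_iff φ p).mp (hf hp)
  exact ⟨hs, kerMapAway φ _ hs⟩

end Groth.Agent.S6330
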