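import Groth.Statements.S6331
import Mathlib.Dynamics.Newton
import Mathlib.RingTheory.Nilpotent.Basic

set_option autoImplicit false
universe u
open CAlg

namespace Groth.Agent.S6331

/-- Let R be a ring, I ⊆ R an ideal all of whose elements are nilpotent, and n ≥ 1 an integer whose
image in R/I is invertible. Then (1) raising to the n-th power is a bijection of the subset 1 + I of
R onto itself: for every y ∈ I there is exactly one x ∈ I with (1 + x)ⁿ = 1 + y; (2) a unit u of R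
has an n-th root in R exactly when the residue class of u has an n-th root in R/I. -/
theorem result {R : Type u} [CommRing R] (I : Ideal R) (hI : ∀ x ∈ I, IsNilpotent x) (n : ℕ) (hn : 1 ≤ n) (hinv : IsUnit ((n : ℕ) : R ⧸ I)) : (∀ y ∈ I, ∃! x : R, x ∈ I ∧ (1 + x) ^ n = 1 + y) ∧ (∀ u : Rˣ, (∃ v : R, v ^ n = (u : R)) ↔ ∃ w : R ⧸ I, w ^ n = Ideal.Quotient.mk I (u : R)) := by
  have hnu : IsUnit (n : R) := by
    obtain ⟨a, ha⟩ := Ideal.Quotient.mk_surjective (↑hinv.unit⁻¹ : R ⧸ I)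
    have : (n : R) * a - 1 ∈ I := by
      rw [← Ideal.Quotient.eq, map_mul, map_natCast, ha, map_one]
      exact hinv.mul_val_inv
    exact isUnit_of_mul_isUnit_left
      (by simpa using (hI _ this).isUnit_add_one : IsUnit ((n : R) * a))
  have part1 : ∀ y ∈ I, ∃! x : R, x ∈ I ∧ (1 + x) ^ n = 1 + y := by
    intro y hy
    let P : Polynomial R := Polynomial.X ^ n - Polynomial.C (1 + y)
    have h0 : IsNilpotent (Polynomial.aeval (1 : R) P) := by simpa [P] using (hI y hy)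
    have h1 : IsUnit (Polynomial.aeval (1 : R) (Polynomial.derivative P)) := by
      simpa [P, Polynomial.derivative_X_pow] using hnu
    obtain ⟨r, ⟨hr1, hr2⟩, huniq⟩ := Polynomial.existsUnique_nilpotent_sub_and_aeval_eq_zero h0 h1
    have hr : r ^ n = 1 + y := by simpa [P, sub_eq_zero] using hr2
    have hrI : r - 1 ∈ I := by
      rw [← Ideal.Quotient.eq]
      let Q : Polynomial (R ⧸ I) := Polynomial.X ^ n - 1
      obtain ⟨z, -, hz⟩ := Polynomial.existsUnique_nilpotent_sub_and_aeval_eq_zero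
        (x := (1 : R ⧸ I)) (P := Q) (by simp [Q]) (by simpa [Q, Polynomial.derivative_X_pow] using hinv)
      have e1 := hz (Ideal.Quotient.mk I r) ⟨by simpa using hr1.map (Ideal.Quotient.mk I), by
        simp [Q, ← map_pow, hr, Ideal.Quotient.eq_zero_iff_mem.mpr hy]⟩
      have e2 := hz 1 ⟨by simp, by simp [Q]⟩
      rw [e1, map_one, e2]
    refine ⟨r - 1, ⟨hrI, by simpa using hr⟩, ?_⟩
    rintro x ⟨hx, hxy⟩
    have := huniq (1 + x) ⟨by simpa using (hI x hx).neg, by simp [P, hxy]⟩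
    rw [← this]; ring
  refine ⟨part1, fun u => ⟨?_, ?_⟩⟩
  · rintro ⟨v, hv⟩
    exact ⟨Ideal.Quotient.mk I v, by rw [← map_pow, hv]⟩
  · rintro ⟨w, hw⟩
    obtain ⟨w₀, rfl⟩ := Ideal.Quotient.mk_surjective w
    have hy : w₀ ^ n * (↑u⁻¹ : R) - 1 ∈ I := by
      rw [← map_pow, Ideal.Quotient.eq] at hw
      convert I.mul_mem_right (↑u⁻¹ : R) hw using 1
      rw [sub_mul, Units.mul_inv]
    obtain ⟨x, ⟨hx, hxe⟩, -⟩ := part1 _ hy
    have hx' : IsUnit (1 + x) := by simpa [add_comm] using (hI x hx).isUnit_add_one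
    refine ⟨w₀ * (↑hx'.unit⁻¹ : R), ?_⟩
    have hxe' : (1 + x) ^ n = w₀ ^ n * (↑u⁻¹ : R) := by rw [hxe]; ring
    calc (w₀ * (↑hx'.unit⁻¹ : R)) ^ n = (w₀ ^ n * (↑u⁻¹ : R)) * (↑u : R) * (↑hx'.unit⁻¹ : R) ^ n := by
          rw [mul_assoc (w₀ ^ n), Units.inv_mul, mul_one, mul_pow]
      _ = ((1 + x) * (↑hx'.unit⁻¹ : R)) ^ n * (u : R) := by rw [← hxe', mul_pow]; ring
      _ = (u : R) := by rw [IsUnit.mul_val_inv, one_pow, one_mul]

end Groth.Agent.S6331
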