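import Groth.Statements.S6332
import Mathlib.RingTheory.Trace.Basic

set_option autoImplicit false
universe u
open Fields

namespace Groth.Agent.S6332

open IntermediateField in
/-- Let L/K be a finite Galois extension of fields of characteristic p > 0 whose degree equals the prime
p (equivalently, the Galois group is cyclic of order p). Then there is an element z of L with z ^ p
- z in K which generates L over K. -/
theorem result {K L : Type u} [Field K] [Field L] [Algebra K L] (p : ℕ)
    [Fact p.Prime] [CharP K p] [FiniteDimensional K L] [IsGalois K L]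
    (hdeg : Module.finrank K L = p) :
    ∃ z : L, z ^ p - z ∈ Set.range (algebraMap K L) ∧ K⟮z⟯ = ⊤ := by
  classical
  haveI : CharP L p := charP_of_injective_algebraMap (algebraMap K L).injective p
  have hcard : Nat.card (L ≃ₐ[K] L) = p := (IsGalois.card_aut_eq_finrank K L).trans hdeg
  haveI : IsCyclic (L ≃ₐ[K] L) := isCyclic_of_prime_card hcard
  obtain ⟨σ, hσ⟩ := IsCyclic.exists_generator (α := L ≃ₐ[K] L)
  have hord : orderOf σ = p := by rw [orderOf_eq_card_of_forall_mem_zpowers hσ, hcard]
  obtain ⟨θ, hθ⟩ : ∃ θ : L, Algebra.trace K L θ = 1 := by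
    obtain ⟨x, hx⟩ : ∃ x, Algebra.trace K L x ≠ 0 := by
      by_contra hc
      push Not at hc
      exact Algebra.trace_ne_zero K L (LinearMap.ext hc)
    exact ⟨(Algebra.trace K L x)⁻¹ • x, by rw [map_smul, smul_eq_mul, inv_mul_cancel₀ hx]⟩
  have hsum : ∑ i ∈ Finset.range p, (σ ^ i) θ = 1 := by
    have h := trace_eq_sum_automorphisms (K := K) θ
    rw [hθ, map_one] at h
    rw [h, ← Fin.sum_univ_eq_sum_range (fun i => (σ ^ i) θ) p]
    refine Fintype.sum_bijective (fun i : Fin p => σ ^ (i : ℕ)) ⟨fun i j hij => ?_, fun g => ?_⟩ _ _ (fun _ => rfl)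
    · exact Fin.ext (pow_injOn_Iio_orderOf (by simpa [hord] using i.2) (by simpa [hord] using j.2) hij)
    · obtain ⟨k, hk⟩ := mem_powers_iff_mem_zpowers.2 (hσ g)
      refine ⟨⟨k % p, Nat.mod_lt _ (Fact.out : p.Prime).pos⟩, ?_⟩
      show σ ^ (k % p) = g
      rw [← hord, pow_mod_orderOf]; exact hk
  let z : L := -∑ i ∈ Finset.range p, (i : L) * (σ ^ i) θ
  have hz : σ z = z + 1 := by
    have e1 : σ (∑ i ∈ Finset.range p, (i : L) * (σ ^ i) θ) =
        ∑ i ∈ Finset.range p, ((i + 1 : ℕ) : L) * (σ ^ (i + 1)) θ - ∑ i ∈ Finset.range p, (σ ^ (i + 1)) θ := by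
      rw [map_sum, ← Finset.sum_sub_distrib]
      refine Finset.sum_congr rfl fun i _ => ?_
      rw [map_mul, map_natCast, pow_succ', AlgEquiv.mul_apply]
      push_cast; ring
    have e2 : ∑ i ∈ Finset.range p, ((i + 1 : ℕ) : L) * (σ ^ (i + 1)) θ = ∑ i ∈ Finset.range p, (i : L) * (σ ^ i) θ := by
      have := Finset.sum_range_succ' (fun i => (i : L) * (σ ^ i) θ) p
      rw [Finset.sum_range_succ, CharP.cast_eq_zero L p] at this
      simpa using this.symm
    have e3 : ∑ i ∈ Finset.range p, (σ ^ (i + 1)) θ = 1 := by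
      have := Finset.sum_range_succ' (fun i => (σ ^ i) θ) p
      rw [Finset.sum_range_succ, hsum, show σ ^ p = 1 by rw [← hord, pow_orderOf_eq_one], pow_zero] at this
      exact add_right_cancel this.symm
    show σ (-_) = -_ + 1
    rw [map_neg, e1, e2, e3]; ring
  have hfix : ∀ y : L, σ y = y → y ∈ Set.range (algebraMap K L) := by
    intro y hy
    rw [IsGalois.mem_range_algebraMap_iff_fixed]
    intro g
    obtain ⟨k, rfl⟩ := mem_powers_iff_mem_zpowers.2 (hσ g)
    show (σ ^ k) y = y
    induction k with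
    | zero => rfl
    | succ k ih => rw [pow_succ, AlgEquiv.mul_apply, hy, ih]
  refine ⟨z, hfix _ ?_, ?_⟩
  · rw [map_sub, map_pow, hz, add_pow_char, one_pow]; ring
  · have hne : IntermediateField.adjoin K {z} ≠ ⊥ := by
      rw [Ne, IntermediateField.adjoin_simple_eq_bot_iff]
      intro hb
      obtain ⟨c, hc⟩ := IntermediateField.mem_bot.1 hb
      rw [← hc, AlgEquiv.commutes] at hz
      exact one_ne_zero (α := L) (by linear_combination -hz)
    have hd : Module.finrank K (IntermediateField.adjoin K {z}) ∣ p := by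
      rw [← hdeg, ← Module.finrank_mul_finrank K (IntermediateField.adjoin K {z}) L]
      exact dvd_mul_right _ _
    rcases (Nat.dvd_prime (Fact.out : p.Prime)).1 hd with h | h
    · exact absurd (IntermediateField.finrank_eq_one_iff.1 h) hne
    · exact IntermediateField.eq_of_le_of_finrank_eq le_top (by rw [h, IntermediateField.finrank_top', hdeg])

end Groth.Agent.S6332
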