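import Mathlib
import Groth.Statements.S6334
-- import your own Groth.Agent.* helpers here

set_option autoImplicit false
universe u
open Fields

namespace Groth.Agent.S6334

open IntermediateField in
/-- Let E/F be a finite purely inseparable extension of fields of characteristic p > 0. Then there are
elements a_1, ..., a_n of E generating E over F such that for each i the p-th power of a_i lies in
F(a_1, ..., a_{i-1}) while a_i itself does not (so each step adjoins a p-th root and has degree p);
in particular [E : F] = p ^ n. -/
theorem result {F E : Type u} [Field F] [Field E] [Algebra F E] (p : ℕ)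
    [Fact p.Prime] [CharP F p] [FiniteDimensional F E] [IsPurelyInseparable F E] :
    ∃ (n : ℕ) (a : Fin n → E), adjoin F (Set.range a) = ⊤ ∧
      (∀ i : Fin n, a i ^ p ∈ adjoin F (a '' {j | j < i}) ∧ a i ∉ adjoin F (a '' {j | j < i})) ∧
      Module.finrank F E = p ^ n := by
  classical
  haveI : CharP E p := charP_of_injective_algebraMap (algebraMap F E).injective p
  haveI : ExpChar F p := ExpChar.prime Fact.out
  -- every chain that is not everything extends by one p-th root
  have step : ∀ K : IntermediateField F E, K ≠ ⊤ → ∃ y : E, y ^ p ∈ K ∧ y ∉ K := by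
    intro K hK
    obtain ⟨x, hx⟩ : ∃ x : E, x ∉ K := by
      by_contra! h
      exact hK (eq_top_iff.mpr fun x _ => h x)
    have hex : ∃ e : ℕ, x ^ p ^ e ∈ K := by
      obtain ⟨e, he⟩ := IsPurelyInseparable.pow_mem F p x
      obtain ⟨c, hc⟩ := he
      exact ⟨e, hc ▸ K.algebraMap_mem c⟩
    have h0 : Nat.find hex ≠ 0 := by
      intro h
      have := Nat.find_spec hex
      rw [h, pow_zero, pow_one] at this
      exact hx this
    obtain ⟨e, he⟩ := Nat.exists_eq_succ_of_ne_zero h0
    refine ⟨x ^ p ^ e, ?_, Nat.find_min hex (by omega)⟩
    rw [← pow_mul, ← pow_succ]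
    have := Nat.find_spec hex
    rwa [he] at this
  -- adjoining one p-th root multiplies the degree by p
  have deg : ∀ (K : IntermediateField F E) (y : E), y ^ p ∈ K → y ∉ K →
      Module.finrank F ((IntermediateField.adjoin K {y}).restrictScalars F) =
        Module.finrank F K * p := by
    intro K y hy hyK
    let c : K := ⟨y ^ p, hy⟩
    have hirr : Irreducible (Polynomial.X ^ p - Polynomial.C c : Polynomial K) := by
      refine X_pow_sub_C_irreducible_of_prime Fact.out fun b hb => hyK ?_
      have h1 : ((b : E)) ^ p = y ^ p := congrArg Subtype.val hb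
      have h2 : (y - (b : E)) ^ p = 0 := by rw [sub_pow_char, h1, sub_self]
      have h3 : y = b := sub_eq_zero.mp (eq_zero_of_pow_eq_zero h2)
      exact h3 ▸ b.2
    have hmin : minpoly K y = Polynomial.X ^ p - Polynomial.C c := by
      refine (minpoly.eq_of_irreducible_of_monic hirr ?_
        (Polynomial.monic_X_pow_sub_C c (Fact.out : p.Prime).ne_zero)).symm
      simp [c]
    change Module.finrank F (IntermediateField.adjoin K {y}) = _
    rw [← Module.finrank_mul_finrank F K (IntermediateField.adjoin K {y}),
      IntermediateField.adjoin.finrank (IsIntegral.of_finite K y), hmin,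
      Polynomial.natDegree_X_pow_sub_C]
  let good : ℕ → Prop := fun n => ∃ a : Fin n → E,
    (∀ i : Fin n, a i ^ p ∈ adjoin F (a '' {j | j < i}) ∧ a i ∉ adjoin F (a '' {j | j < i})) ∧
      Module.finrank F (adjoin F (Set.range a)) = p ^ n
  have hgrow : ∀ n, good n → (∃ a : Fin n → E, adjoin F (Set.range a) = ⊤ ∧
      (∀ i : Fin n, a i ^ p ∈ adjoin F (a '' {j | j < i}) ∧ a i ∉ adjoin F (a '' {j | j < i})) ∧
      Module.finrank F E = p ^ n) ∨ good (n + 1) := by
    rintro n ⟨a, ha, hfr⟩
    by_cases htop : adjoin F (Set.range a) = ⊤
    · refine Or.inl ⟨a, htop, ha, ?_⟩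
      rw [← hfr, htop]
      exact IntermediateField.finrank_top'.symm
    · obtain ⟨y, hy, hyK⟩ := step _ htop
      have himg : ∀ i : Fin (n + 1), (Fin.snoc a y : Fin (n + 1) → E) '' {j | j < i} =
          a '' {j | j.castSucc < i} := by
        intro i
        ext z
        constructor
        · rintro ⟨j, hj, rfl⟩
          induction j using Fin.lastCases with
          | last => exact absurd hj (Fin.le_last i).not_gt
          | cast j => exact ⟨j, hj, by rw [Fin.snoc_castSucc]⟩
        · rintro ⟨j, hj, rfl⟩
          exact ⟨j.castSucc, hj, by rw [Fin.snoc_castSucc]⟩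
      refine Or.inr ⟨Fin.snoc a y, fun i => ?_, ?_⟩
      · rw [himg]
        induction i using Fin.lastCases with
        | last =>
            simp only [Fin.snoc_last, Fin.castSucc_lt_last, Set.ofPred_true, Set.image_univ]
            exact ⟨hy, hyK⟩
        | cast i =>
            simp only [Fin.snoc_castSucc, Fin.castSucc_lt_castSucc_iff]
            exact ha i
      · rw [pow_succ, ← hfr, ← deg _ y hy hyK, IntermediateField.adjoin_adjoin_left,
          Fin.range_snoc, Set.union_singleton]
  by_contra hno
  push Not at hno
  have hall : ∀ n, good n := by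
    intro n
    induction n with
    | zero =>
        refine ⟨Fin.elim0, fun i => i.elim0, ?_⟩
        rw [Set.range_eq_empty, IntermediateField.adjoin_empty, IntermediateField.finrank_bot,
          pow_zero]
    | succ n ih =>
        rcases hgrow n ih with ⟨a, h1, h2, h3⟩ | h
        · exact absurd h3 (hno n a h1 h2)
        · exact h
  obtain ⟨a, -, hfr⟩ := hall (Module.finrank F E)
  have h1 := IntermediateField.finrank_le_of_le_right (show adjoin F (Set.range a) ≤ ⊤ from le_top)
  rw [hfr, IntermediateField.finrank_top'] at h1
  exact absurd h1 (not_le.mpr (Nat.lt_pow_self (Fact.out : p.Prime).one_lt))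

end Groth.Agent.S6334
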