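import Groth.Statements.S6335
import Mathlib.FieldTheory.PurelyInseparable.PerfectClosure
import Mathlib.FieldTheory.IsAlgClosed.AlgebraicClosure

set_option autoImplicit false
universe u
open Fields

namespace Groth.Agent.S6335

/-- Let K be a field of characteristic p > 0, L/K a separable algebraic extension and a an element of L.
If a is a root of a polynomial P over K which is separable (pairwise distinct roots in an algebraic
closure) and all of whose coefficients are p-th powers in K, then a is a p-th power in L. (Part (1),
the case where P is the minimal polynomial of a, is a special case.) -/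
theorem result {K L : Type u} [Field K] [Field L] [Algebra K L]
    (p : ℕ) [Fact p.Prime] [CharP K p] [Algebra.IsSeparable K L] (a : L) (P : Polynomial K)
    (hroot : Polynomial.aeval a P = 0) (hsep : P.Separable) (hcoeff : ∀ i : ℕ, ∃ b : K, b ^ p = P.coeff i) :
    ∃ c : L, c ^ p = a := by
  classical
  choose b hb using hcoeff
  let Q : Polynomial K := ∑ i ∈ P.support, Polynomial.C (b i) * Polynomial.X ^ i
  have hQ : Q.map (frobenius K p) = P := by
    show (∑ i ∈ P.support, Polynomial.C (b i) * Polynomial.X ^ i).map _ = P
    rw [Polynomial.map_sum]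
    conv_rhs => rw [P.as_sum_support_C_mul_X_pow]
    refine Finset.sum_congr rfl fun i _ => ?_
    rw [Polynomial.map_mul, Polynomial.map_C, Polynomial.map_pow, Polynomial.map_X, frobenius_def, hb]
  haveI : CharP L p := charP_of_injective_algebraMap (algebraMap K L).injective p
  haveI : CharP (AlgebraicClosure L) p := charP_of_injective_algebraMap (algebraMap L _).injective p
  haveI : ExpChar L p := ExpChar.prime Fact.out
  obtain ⟨c, hc⟩ := IsAlgClosed.exists_pow_nat_eq (algebraMap L (AlgebraicClosure L) a) (Fact.out : p.Prime).pos
  have hcQ : Polynomial.aeval c Q = 0 := by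
    apply eq_zero_of_pow_eq_zero (n := p)
    rw [← frobenius_def p, Polynomial.aeval_def, Polynomial.hom_eval₂, frobenius_def, hc,
      ← RingHom.frobenius_comm, ← Polynomial.eval₂_map, hQ, ← Polynomial.aeval_def,
      Polynomial.aeval_algebraMap_apply, hroot, map_zero]
  have hQsep : Q.Separable := (Polynomial.separable_map (frobenius K p)).1 (hQ ▸ hsep)
  have hsepK : IsSeparable K c := hQsep.of_dvd (minpoly.dvd K c hcQ)
  have hsepL : IsSeparable L c := IsSeparable.tower_top L hsepK
  have h1 := IntermediateField.adjoin_simple_eq_adjoin_pow_expChar_of_isSeparable L (AlgebraicClosure L) hsepL p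
  have hbot : IntermediateField.adjoin L {c ^ p} = ⊥ :=
    IntermediateField.adjoin_simple_eq_bot_iff.2 (IntermediateField.mem_bot.2 ⟨a, hc.symm⟩)
  rw [hbot, IntermediateField.adjoin_simple_eq_bot_iff, IntermediateField.mem_bot] at h1
  obtain ⟨c₀, hc₀⟩ := h1
  exact ⟨c₀, (algebraMap L (AlgebraicClosure L)).injective (by rw [map_pow, hc₀, hc])⟩

end Groth.Agent.S6335
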