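import Groth.Statements.S6336
import Mathlib

set_option autoImplicit false
universe u
open Fields

namespace Groth.Agent.S6336

open IntermediateField Polynomial

theorem finrank_eq_natDegree {K L : Type*} [Field K] [Field L] [Algebra K L] [FiniteDimensional K L]
    (a : L) (ha : K⟮a⟯ = ⊤) (F : IntermediateField K L) : Module.finrank F L = (minpoly F a).natDegree := by
  have htop : F⟮a⟯ = ⊤ := by
    refine IntermediateField.restrictScalars_injective K ?_
    rw [restrictScalars_top, eq_top_iff, ← ha, adjoin_simple_le_iff]
    exact mem_adjoin_simple_self F a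
  rw [← IntermediateField.adjoin.finrank (IsIntegral.of_finite F a), htop, IntermediateField.finrank_top']


open IntermediateField Polynomial in
/-- With an added hypothesis: let L/K be a finite extension of degree e generated by a single element a
whose e-th power lies in K, and assume that the polynomial X ^ e - 1 splits into linear factors over
K (so every e-th root of unity of any extension of K already lies in K; this holds when K contains a
primitive e-th root of unity, and when e is a power of the characteristic). Then every intermediate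
field of L/K is generated by a ^ d for some divisor d of e. (The published statement has no
hypothesis on roots of unity; for K the rationals and a a primitive 8-th root of unity, e = 4 and a
^ 4 = -1, the intermediate field generated by a + a⁻¹, a square root of 2, is none of K(a), K(a ^
2), K(a ^ 4); the published proof uses that the e-th roots of unity met are fixed by the
automorphisms it constructs, which the splitting hypothesis guarantees.) -/
theorem result {K L : Type u} [Field K] [Field L] [Algebra K L]
    [FiniteDimensional K L] (a : L) (ha : K⟮a⟯ = ⊤)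
    (hpow : a ^ Module.finrank K L ∈ Set.range (algebraMap K L))
    (hroots : (X ^ Module.finrank K L - 1 : K[X]).Splits) (L' : IntermediateField K L) :
    ∃ d : ℕ, d ∣ Module.finrank K L ∧ L' = K⟮a ^ d⟯ := by
  obtain ⟨e, he⟩ : ∃ e, e = Module.finrank K L := ⟨_, rfl⟩
  rw [← he] at hpow hroots ⊢
  have he0 : 0 < e := he ▸ Module.finrank_pos
  by_cases ha0 : a = 0
  · subst ha0
    have hbot : (⊤ : IntermediateField K L) = ⊥ := by rw [← ha]; exact adjoin_zero
    refine ⟨1, one_dvd _, ?_⟩
    rw [pow_one, ha, eq_top_iff, hbot]
    exact bot_le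
  obtain ⟨c, hc⟩ := hpow
  set d := (minpoly L' a).natDegree with hd
  have hdeg : Module.finrank L' L = d := finrank_eq_natDegree a ha L'
  refine ⟨d, ⟨Module.finrank K L', by rw [he, ← Module.finrank_mul_finrank K L' L, hdeg, mul_comm]⟩, ?_⟩
  have hmem : a ^ d ∈ L' := by
    let Ω := AlgebraicClosure L
    let g := (minpoly L' a).map ((algebraMap L Ω).comp (algebraMap L' L))
    have hg : g.Splits := IsAlgClosed.splits _
    have hgm : g.Monic := (minpoly.monic (IsIntegral.of_finite L' a)).map _
    have hgd : Multiset.card g.roots = d := by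
      rw [← hg.natDegree_eq_card_roots]; exact natDegree_map _
    have hζ : ∀ r ∈ g.roots, ∃ ζ : K, algebraMap L Ω (algebraMap K L ζ * a) = r ∧ ζ ≠ 0 := by
      intro r hr
      have hr0 : g.IsRoot r := (mem_roots hgm.ne_zero).1 hr
      have hdvd : minpoly L' a ∣ X ^ e - C (algebraMap K L' c) := by
        refine minpoly.dvd L' a ?_
        simp [← IsScalarTower.algebraMap_apply, hc]
      have hre : r ^ e = algebraMap L Ω (a ^ e) := by
        have h := hr0.dvd (Polynomial.map_dvd ((algebraMap L Ω).comp (algebraMap L' L)) hdvd)
        simp only [Polynomial.map_sub, Polynomial.map_pow, map_X, map_C, IsRoot.def, eval_sub, eval_pow,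
          eval_X, eval_C, RingHom.comp_apply, sub_eq_zero] at h
        rw [h, ← hc]
        rfl
      have hquot : ((X ^ e - 1 : K[X]).map ((algebraMap L Ω).comp (algebraMap K L))).IsRoot (r / algebraMap L Ω a) := by
        simp [div_pow, hre, ← map_pow, pow_ne_zero e ha0]
      obtain ⟨ζ, hζ⟩ := hroots.mem_range_of_isRoot (X_pow_sub_C_ne_zero he0 1) hquot
      have ha0' : algebraMap L Ω a ≠ 0 := by simpa using ha0
      refine ⟨ζ, ?_, ?_⟩
      · rw [map_mul, show algebraMap L Ω (algebraMap K L ζ) = r / algebraMap L Ω a from hζ, div_mul_cancel₀ _ ha0']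
      · rintro rfl
        rw [map_zero, eq_comm, div_eq_zero_iff] at hζ
        rcases hζ with h | h
        · rw [h, zero_pow he0.ne', eq_comm, map_eq_zero] at hre
          exact pow_ne_zero e ha0 hre
        · exact ha0' h
    choose! ζ hζ hζ0 using hζ
    have hprod : g.roots.prod = algebraMap L Ω (algebraMap K L (g.roots.map ζ).prod * a ^ d) := by
      have h1 : g.roots = g.roots.map (fun r => algebraMap L Ω (algebraMap K L (ζ r) * a)) :=
        ((Multiset.map_congr rfl hζ).trans (Multiset.map_id' _)).symm
      conv_lhs => rw [h1]
      rw [Multiset.prod_hom' _ (algebraMap L Ω) , Multiset.prod_map_mul, Multiset.prod_hom' _ (algebraMap K L),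
        Multiset.map_const', Multiset.prod_replicate, hgd]
    have hne : algebraMap K L (g.roots.map ζ).prod ≠ 0 := by
      rw [ne_eq, map_eq_zero, Multiset.prod_eq_zero_iff, Multiset.mem_map]
      rintro ⟨r, hr, h0⟩
      exact hζ0 r hr h0
    have hcoef := hg.coeff_zero_eq_prod_roots_of_monic hgm
    rw [natDegree_map, hprod, coeff_map, RingHom.comp_apply] at hcoef
    have hkey : (algebraMap L' L ((minpoly L' a).coeff 0)) = (-1) ^ d * (algebraMap K L (g.roots.map ζ).prod * a ^ d) :=
      (algebraMap L Ω).injective (by rw [hcoef]; simp [hd])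
    have : algebraMap K L (g.roots.map ζ).prod * a ^ d ∈ L' := by
      have hh : (-1 : L) ^ d * algebraMap L' L ((minpoly L' a).coeff 0) = algebraMap K L (g.roots.map ζ).prod * a ^ d := by
        rw [hkey, ← mul_assoc, ← mul_pow]; simp
      rw [← hh]
      exact mul_mem (pow_mem (neg_mem (one_mem L')) d) (SetLike.coe_mem _)
    have hz : (algebraMap K L (g.roots.map ζ).prod)⁻¹ * (algebraMap K L (g.roots.map ζ).prod * a ^ d) = a ^ d := by
      field_simp
    rw [← hz]
    exact mul_mem (L'.inv_mem (L'.algebraMap_mem _)) this
  refine (IntermediateField.eq_of_le_of_finrank_le' (adjoin_simple_le_iff.2 hmem) ?_).symm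
  rw [finrank_eq_natDegree a ha, hdeg]
  have hd0 : 0 < d := minpoly.natDegree_pos (IsIntegral.of_finite L' a)
  refine (natDegree_le_of_dvd (minpoly.dvd K⟮a ^ d⟯ a (p := X ^ d - C ⟨a ^ d, mem_adjoin_simple_self K _⟩) ?_)
    (X_pow_sub_C_ne_zero hd0 _)).trans (natDegree_X_pow_sub_C).le
  simp

end Groth.Agent.S6336
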