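import Groth.Statements.S6337
import Groth.Agent.CAlgUI.ML
import Mathlib.LinearAlgebra.DirectSum.TensorProduct

set_option autoImplicit false
universe u
open CAlg

namespace Groth.Agent.S6337

/-- A direct sum of modules is Mittag-Leffler if and only if each summand is Mittag-Leffler. -/
theorem result (R : Type u) [CommRing R] {ι : Type u} (M : ι → Type u)
    [∀ i, AddCommGroup (M i)] [∀ i, Module R (M i)] :
    CAlg.IsMittagLeffler R (DirectSum ι M) ↔ ∀ i, CAlg.IsMittagLeffler R (M i) := by
  classical
  constructor
  · intro h i
    refine Groth.Agent.CAlgUI.ml_of_ui (DirectSum.lof R ι M i)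
      (Groth.Agent.CAlgUI.ui_of_leftInverse (DirectSum.component R ι M i) ?_) h
    exact LinearMap.ext fun x => DirectSum.component.lof_self R i x
  · intro h
    rw [Groth.Agent.CAlgUI.ml_iff]
    intro κ Q _ _ t ht
    refine (TensorProduct.directSumLeft R R M (∀ k, Q k)).injective ?_
    rw [map_zero]
    refine DirectSum.ext fun i => ?_
    have key : ∀ u, TensorProduct.directSumLeft R R M (∀ k, Q k) u i =
        (DirectSum.component R ι M i).rTensor _ u := by
      intro u
      induction u using TensorProduct.induction_on with
      | zero => simp
      | tmul a b =>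
        induction a using DirectSum.induction_on with
        | zero => simp
        | of j x =>
          rw [← DirectSum.lof_eq_of R, TensorProduct.directSumLeft_tmul_lof, LinearMap.rTensor_tmul]
          rcases eq_or_ne j i with rfl | hne
          · rw [DirectSum.component.lof_self, DirectSum.lof_eq_of, DirectSum.of_eq_same]
          · rw [DirectSum.component.of, dif_neg hne, DirectSum.lof_eq_of, DirectSum.of_eq_of_ne _ _ _ hne.symm,
              TensorProduct.zero_tmul]
        | add a b ha hb => simp only [TensorProduct.add_tmul, map_add, DirectSum.add_apply, ha, hb]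
      | add a b ha hb => simp only [map_add, DirectSum.add_apply, ha, hb]
    rw [key, DirectSum.zero_apply]
    exact Groth.Agent.CAlgUI.ml_iff.mp (h i) κ Q _ fun k => by
      rw [Groth.Agent.CAlgUI.piRightHom_rTensor, ht, map_zero]

end Groth.Agent.S6337
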