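import Groth.Statements.S6339
import Groth.Agent.CAlgUI.ML

set_option autoImplicit false
universe u
open CAlg

namespace Groth.Agent.S6339

/-- Let 0 → M₁ → M₂ → M₃ → 0 be a universally exact short exact sequence of modules over a commutative
ring (the first map is universally injective, the second is surjective with kernel the image of the
first). If M₁ and M₃ are Mittag-Leffler then so is M₂. -/
theorem result (R : Type u) [CommRing R] {M₁ M₂ M₃ : Type u}
    [AddCommGroup M₁] [Module R M₁] [AddCommGroup M₂] [Module R M₂] [AddCommGroup M₃] [Module R M₃]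
    (f : M₁ →ₗ[R] M₂) (g : M₂ →ₗ[R] M₃) (hf : CAlgX.UniversallyInjective R f)
    (hg : Function.Surjective g) (hfg : LinearMap.range f = LinearMap.ker g)
    (h₁ : CAlg.IsMittagLeffler R M₁) (h₃ : CAlg.IsMittagLeffler R M₃) :
    CAlg.IsMittagLeffler R M₂ := by
  rw [Groth.Agent.CAlgUI.ml_iff]
  intro ι Q _ _ t ht
  have h0 : g.rTensor _ t = 0 := Groth.Agent.CAlgUI.ml_iff.mp h₃ ι Q _ fun i => by
    rw [Groth.Agent.CAlgUI.piRightHom_rTensor, ht, map_zero]
  obtain ⟨t', rfl⟩ := ((rTensor_exact _ (LinearMap.exact_iff.mpr hfg.symm) hg) _).mp h0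
  have h1 := Groth.Agent.CAlgUI.ml_iff.mp h₁ ι Q t' fun i => (injective_iff_map_eq_zero _).mp (hf (Q i)) _ (by
    rw [← Groth.Agent.CAlgUI.piRightHom_rTensor, ht])
  rw [h1, map_zero]

end Groth.Agent.S6339
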