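import Groth.Statements.S6340
import Groth.Agent.CAlgUI.ML

set_option autoImplicit false
universe u
open CAlg

namespace Groth.Agent.S6340

/-- Let M₁ → M₂ → M₃ → 0 be exact with M₁ finitely generated; if M₂ is Mittag-Leffler then so is M₃.
Equivalently, as stated here: the quotient of a Mittag-Leffler module by a finitely generated
submodule is Mittag-Leffler. -/
theorem result (R : Type u) [CommRing R] {M : Type u} [AddCommGroup M] [Module R M]
    (N : Submodule R M) (hN : N.FG) (hM : CAlg.IsMittagLeffler R M) :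
    CAlg.IsMittagLeffler R (M ⧸ N) := by
  rw [Groth.Agent.CAlgUI.ml_iff]
  intro ι Q _ _ t ht
  have : Module.Finite R N := Module.Finite.of_fg hN
  obtain ⟨u, rfl⟩ := LinearMap.rTensor_surjective _ N.mkQ_surjective t
  have hc : ∀ i, N.mkQ.rTensor (Q i) (TensorProduct.piRightHom R R M Q u i) = 0 := fun i => by
    rw [← Groth.Agent.CAlgUI.piRightHom_rTensor, ht]
  have hex : Function.Exact N.subtype N.mkQ := LinearMap.exact_subtype_mkQ N
  choose w hw using fun i => ((rTensor_exact (R := R) (M := ↥N) (N := M) (P := M ⧸ N) (Q i)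
    (f := N.subtype) (g := N.mkQ) hex N.mkQ_surjective) _).mp (hc i)
  obtain ⟨v, hv⟩ := Groth.Agent.CAlgUI.piRightHom_surjective_of_finite (R := R) (M := ↥N) (Q := Q) w
  have h0 : u - N.subtype.rTensor _ v = 0 := Groth.Agent.CAlgUI.ml_iff.mp hM ι Q _ fun i => by
    rw [map_sub, Pi.sub_apply, Groth.Agent.CAlgUI.piRightHom_rTensor, hv, hw, sub_self]
  rw [sub_eq_zero.mp h0, ← LinearMap.comp_apply, ← LinearMap.rTensor_comp,
    show N.mkQ ∘ₗ N.subtype = 0 from hex.linearMap_comp_eq_zero, LinearMap.rTensor_zero, LinearMap.zero_apply]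

end Groth.Agent.S6340
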