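import Groth.Statements.S6341
import Groth.Agent.CAlgUI.Limit

set_option autoImplicit false
universe u
open CAlg

namespace Groth.Agent.S6341

/-- The colimit of a directed system of Mittag-Leffler modules with universally injective transition
maps is Mittag-Leffler. -/
theorem result (R : Type u) [CommRing R] {ι : Type u}
    [Preorder ι] [IsDirected ι (· ≤ ·)] [DecidableEq ι] (G : ι → Type u) [∀ i, AddCommGroup (G i)]
    [∀ i, Module R (G i)] (f : ∀ i j, i ≤ j → G i →ₗ[R] G j) [DirectedSystem G fun i j h => f i j h]
    (hf : ∀ i j (h : i ≤ j), CAlgX.UniversallyInjective R (f i j h))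
    (hG : ∀ i, CAlg.IsMittagLeffler R (G i)) :
    CAlg.IsMittagLeffler R (Module.DirectLimit G f) := by
  exact Groth.Agent.CAlgUI.ml_directLimit_of_ui hf hG

end Groth.Agent.S6341
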