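import Groth.Statements.S6343
import Groth.Agent.CAlgUI.BaseChange

set_option autoImplicit false
universe u
open scoped TensorProduct
open CAlg

namespace Groth.Agent.S6343

/-- The tensor product of two Mittag-Leffler modules over a commutative ring is Mittag-Leffler. -/
theorem result (R : Type u) [CommRing R] (M N : Type u) [AddCommGroup M] [Module R M]
    [AddCommGroup N] [Module R N] (hM : CAlg.IsMittagLeffler R M) (hN : CAlg.IsMittagLeffler R N) :
    CAlg.IsMittagLeffler R (M ⊗[R] N) := by
  refine Groth.Agent.CAlgUI.ml_iff.mpr fun ι Q _ _ t ht => ?_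
  obtain ⟨k, F, u, rfl⟩ := Groth.Agent.CAlgUI.exists_fin_rTensor t
  have key : ∀ (n₁ n₂ : ℕ) (f₁ : (Fin n₁ → R) →ₗ[R] M) (f₂ : (Fin n₂ → R) →ₗ[R] N)
      (x : ((Fin n₁ → R) ⊗[R] (Fin n₂ → R)) ⊗[R] (∀ i, Q i)),
      (∀ i, TensorProduct.piRightHom R R _ Q ((TensorProduct.map f₁ f₂).rTensor _ x) i = 0) →
        (TensorProduct.map f₁ f₂).rTensor _ x = 0 := by
    intro n₁ n₂ f₁ f₂ x hx
    obtain ⟨P₁, _, _, hP₁, g₁, h₁, rfl, hd₁⟩ := Groth.Agent.CAlgUI.exists_dominating hM f₁
    obtain ⟨P₂, _, _, hP₂, g₂, h₂, rfl, hd₂⟩ := Groth.Agent.CAlgUI.exists_dominating hN f₂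
    have : Module.FinitePresentation R (P₁ ⊗[R] P₂) := Groth.Agent.CAlgUI.fp_tensor
    have h0 : (TensorProduct.map g₁ g₂).rTensor _ x = 0 :=
      Groth.Agent.CAlgUI.ml_iff.mp Groth.Agent.CAlgUI.ml_of_fp ι Q _ fun i => by
        have hz := hx i
        rw [Groth.Agent.CAlgUI.piRightHom_rTensor] at hz ⊢
        generalize TensorProduct.piRightHom R R _ Q x i = y at hz ⊢
        -- step one: replace the first factor
        have s1 : (TensorProduct.map g₁ (h₂ ∘ₗ g₂)).rTensor (Q i) y = 0 := by
          have e : ∀ (X : Type u) [AddCommGroup X] [Module R X] (a : (Fin n₁ → R) →ₗ[R] X)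
              (z : ((Fin n₁ → R) ⊗[R] (Fin n₂ → R)) ⊗[R] Q i),
              TensorProduct.assoc R X N (Q i) ((TensorProduct.map a (h₂ ∘ₗ g₂)).rTensor (Q i) z) =
                a.rTensor (N ⊗[R] Q i) (((h₂ ∘ₗ g₂).rTensor (Q i)).lTensor (Fin n₁ → R)
                  (TensorProduct.assoc R _ _ _ z)) := by
            intro X _ _ a z
            induction z using TensorProduct.induction_on with
            | zero => simp
            | tmul p q =>
              induction p using TensorProduct.induction_on with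
              | zero => simp
              | tmul p r => simp
              | add p r hp hr => simp only [TensorProduct.add_tmul, map_add, hp, hr]
            | add p q hp hq => simp only [map_add, hp, hq]
          refine (TensorProduct.assoc R P₁ N (Q i)).injective ?_
          rw [e, map_zero, ← LinearMap.mem_ker, ← hd₁, LinearMap.mem_ker, ← e, hz, map_zero]
        -- step two: replace the second factor
        have e : ∀ (X : Type u) [AddCommGroup X] [Module R X] (b : (Fin n₂ → R) →ₗ[R] X)
            (z : ((Fin n₁ → R) ⊗[R] (Fin n₂ → R)) ⊗[R] Q i),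
            TensorProduct.leftComm R P₁ X (Q i) (TensorProduct.assoc R P₁ X (Q i)
              ((TensorProduct.map g₁ b).rTensor (Q i) z)) =
              b.rTensor (P₁ ⊗[R] Q i) (((g₁.rTensor (Q i))).lTensor (Fin n₂ → R)
                (TensorProduct.leftComm R _ _ _ (TensorProduct.assoc R _ _ _ z))) := by
          intro X _ _ b z
          induction z using TensorProduct.induction_on with
          | zero => simp
          | tmul p q =>
            induction p using TensorProduct.induction_on with
            | zero => simp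
            | tmul p r => simp
            | add p r hp hr => simp only [TensorProduct.add_tmul, map_add, hp, hr]
          | add p q hp hq => simp only [map_add, hp, hq]
        refine ((TensorProduct.assoc R P₁ P₂ (Q i)).trans (TensorProduct.leftComm R P₁ P₂ (Q i))).injective ?_
        rw [LinearEquiv.trans_apply, e, map_zero, ← LinearMap.mem_ker, ← hd₂, LinearMap.mem_ker, ← e, s1,
          map_zero, map_zero]
    rw [TensorProduct.map_comp, LinearMap.rTensor_comp, LinearMap.comp_apply, h0, map_zero]
  -- every map from a free module factors through a tensor product of maps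
  obtain ⟨n₁, n₂, f₁, f₂, r, hr⟩ : ∃ (n₁ n₂ : ℕ) (f₁ : (Fin n₁ → R) →ₗ[R] M) (f₂ : (Fin n₂ → R) →ₗ[R] N)
      (r : (Fin k → R) →ₗ[R] (Fin n₁ → R) ⊗[R] (Fin n₂ → R)), F = TensorProduct.map f₁ f₂ ∘ₗ r := by
    obtain ⟨M', N', hM', hN', hsub⟩ := TensorProduct.exists_finite_submodule_of_setFinite
      (Set.range fun j => F (Pi.single j 1)) (Set.finite_range _)
    obtain ⟨n₁, p₁, hp₁⟩ := Module.Finite.exists_fin' R M'
    obtain ⟨n₂, p₂, hp₂⟩ := Module.Finite.exists_fin' R N'
    have : ∀ j, ∃ z, TensorProduct.map (M'.subtype ∘ₗ p₁) (N'.subtype ∘ₗ p₂) z = F (Pi.single j 1) := by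
      intro j
      obtain ⟨w, hw⟩ := hsub ⟨j, rfl⟩
      obtain ⟨z, rfl⟩ := TensorProduct.map_surjective hp₁ hp₂ w
      refine ⟨z, ?_⟩
      rw [TensorProduct.map_comp, LinearMap.comp_apply]
      exact hw
    choose z hz using this
    refine ⟨n₁, n₂, M'.subtype ∘ₗ p₁, N'.subtype ∘ₗ p₂, (Pi.basisFun R (Fin k)).constr R z,
      (Pi.basisFun R (Fin k)).ext fun j => ?_⟩
    rw [LinearMap.comp_apply, Module.Basis.constr_basis, Pi.basisFun_apply, hz]
  rw [hr, LinearMap.rTensor_comp, LinearMap.comp_apply] at ht ⊢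
  exact key n₁ n₂ f₁ f₂ _ ht

end Groth.Agent.S6343
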