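import Groth.Statements.S6345
import Groth.Agent.CAlgUI.BaseChange
import Mathlib.RingTheory.Ideal.Quotient.Operations

set_option autoImplicit false
universe u
open CAlg

namespace Groth.Agent.S6345

/-- Let I be a finitely generated ideal of a commutative ring R and M an R/I-module. Then M is
Mittag-Leffler over R if and only if it is Mittag-Leffler over R/I. -/
theorem result (R : Type u) [CommRing R] (I : Ideal R) (hI : I.FG)
    (M : Type u) [AddCommGroup M] [Module (R ⧸ I) M] [Module R M] [IsScalarTower R (R ⧸ I) M] :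
    CAlg.IsMittagLeffler R M ↔ CAlg.IsMittagLeffler (R ⧸ I) M := by
  have : Module.FinitePresentation R (R ⧸ I) :=
    Module.finitePresentation_of_surjective (Submodule.mkQ I) (Submodule.mkQ_surjective I)
      (by rw [Submodule.ker_mkQ]; exact hI)
  refine ⟨fun hM => ?_, fun hM => Groth.Agent.CAlgUI.ml_restrict_of_fp hM⟩
  rw [Groth.Agent.CAlgUI.ml_iff]
  intro ι Q _ _ t ht
  letI : ∀ i, Module R (Q i) := fun i => Module.compHom (Q i) (algebraMap R (R ⧸ I))
  haveI : ∀ i, IsScalarTower R (R ⧸ I) (Q i) := fun i => IsScalarTower.of_compHom R (R ⧸ I) (Q i)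
  have hcs : ∀ (X : Type u) [AddCommGroup X] [Module (R ⧸ I) X] [Module R X]
      [IsScalarTower R (R ⧸ I) X], TensorProduct.CompatibleSMul R (R ⧸ I) M X := fun X _ _ _ _ =>
    ⟨fun a m x => by
      obtain ⟨r, rfl⟩ := Ideal.Quotient.mk_surjective a
      rw [← Ideal.Quotient.algebraMap_eq, algebraMap_smul, algebraMap_smul, TensorProduct.smul_tmul]⟩
  haveI := hcs (∀ i, Q i)
  haveI := fun i => hcs (Q i)
  let e := TensorProduct.equivOfCompatibleSMul (R := R) (A := R ⧸ I) (S := R) (M := M) (N := ∀ i, Q i)
  have he : ∀ (s : TensorProduct (R ⧸ I) M (∀ i, Q i)) (i : ι),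
      TensorProduct.piRightHom R R M Q (TensorProduct.mapOfCompatibleSMul R (R ⧸ I) R M (∀ i, Q i) s) i =
        TensorProduct.mapOfCompatibleSMul R (R ⧸ I) R M (Q i) (TensorProduct.piRightHom (R ⧸ I) (R ⧸ I) M Q s i) := by
    intro s i
    induction s using TensorProduct.induction_on with
    | zero => simp
    | tmul a b => simp
    | add a b ha hb => simp only [map_add, Pi.add_apply, ha, hb]
  have h0 := Groth.Agent.CAlgUI.ml_iff.mp hM ι Q _ fun i => by rw [he, ht, map_zero]
  have hback : ∀ s : TensorProduct (R ⧸ I) M (∀ i, Q i),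
      TensorProduct.mapOfCompatibleSMul (R ⧸ I) R (R ⧸ I) M (∀ i, Q i)
        (TensorProduct.mapOfCompatibleSMul R (R ⧸ I) R M (∀ i, Q i) s) = s := fun s => by
    induction s using TensorProduct.induction_on with
    | zero => simp
    | tmul a b => simp
    | add a b ha hb => simp only [map_add, ha, hb]
  rw [← hback t, h0, map_zero]

end Groth.Agent.S6345
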