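import Groth.Statements.S6351
import Mathlib

set_option autoImplicit false
universe u
open scoped TensorProduct
open CAlg

namespace Groth.Agent.S6351

/-- Let I be a nilpotent ideal of a commutative ring R and M an R-module with Tor_1^R(R/I, M) = 0, i.e.
I ⊗_R M → M injective. If a family of elements of M maps to a basis of the R/I-module M/IM = R/I ⊗
M, then it is a basis of M over R. -/
theorem result (R : Type u) [CommRing R] (I : Ideal R)
    (hI : IsNilpotent I) (M : Type u) [AddCommGroup M] [Module R M]
    (htor : Function.Injective ((Submodule.subtype I).rTensor M)) {A : Type u} (x : A → M)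
    (hli : LinearIndependent (R ⧸ I) (fun a => (1 : R ⧸ I) ⊗ₜ[R] x a))
    (hsp : Submodule.span (R ⧸ I) (Set.range fun a => (1 : R ⧸ I) ⊗ₜ[R] x a) = ⊤) :
    LinearIndependent R x ∧ Submodule.span R (Set.range x) = ⊤ := by
  classical
  obtain ⟨N, hN⟩ := hI
  have hnil : ∀ (P : Type u) [AddCommGroup P] [Module R P] (W : Submodule R P), W ≤ I • W → W = ⊥ := by
    intro P _ _ W hW
    have : ∀ k, W ≤ I ^ k • W := by
      intro k
      induction k with
      | zero => simp
      | succ k ih => exact hW.trans ((Submodule.smul_mono le_rfl ih).trans (by rw [← Submodule.mul_smul, ← pow_succ']))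
    simpa [hN] using this N
  let f : (A →₀ R) →ₗ[R] M := Finsupp.linearCombination R x
  have hsurj : Submodule.span R (Set.range x) = ⊤ := by
    rw [← Submodule.Quotient.subsingleton_iff]
    let Q := M ⧸ Submodule.span R (Set.range x)
    have hW : (⊤ : Submodule R Q) ≤ I • ⊤ := by
      intro q _
      obtain ⟨y, rfl⟩ := Submodule.mkQ_surjective (Submodule.span R (Set.range x)) q
      let g : (R ⧸ I) ⊗[R] M →ₗ[R ⧸ I] (R ⧸ I) ⊗[R] Q := (Submodule.span R (Set.range x)).mkQ.baseChange (R ⧸ I)
      have h0 : g = 0 := by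
        refine LinearMap.ext_on hsp ?_
        rintro _ ⟨a, rfl⟩
        simp [g, (Submodule.Quotient.mk_eq_zero _).mpr (Submodule.subset_span (Set.mem_range_self a))]
      have h1 : (1 : R ⧸ I) ⊗ₜ[R] (Submodule.span R (Set.range x)).mkQ y = 0 := by
        simpa [g] using DFunLike.congr_fun h0 ((1 : R ⧸ I) ⊗ₜ[R] y)
      have h2 := congrArg (TensorProduct.quotTensorEquivQuotSMul Q I) h1
      rw [map_zero, show (1 : R ⧸ I) = Ideal.Quotient.mk I 1 from rfl,
        TensorProduct.quotTensorEquivQuotSMul_mk_tmul, one_smul, Submodule.Quotient.mk_eq_zero] at h2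
      exact h2
    have := hnil Q ⊤ hW
    exact (Submodule.subsingleton_iff R).mp (subsingleton_of_bot_eq_top this.symm)
  refine ⟨?_, hsurj⟩
  have hfs : Function.Surjective f := LinearMap.range_eq_top.mp (by rw [Finsupp.range_linearCombination, hsurj])
  show LinearIndependent R x
  rw [linearIndependent_iff_ker]
  refine hnil _ _ fun c hc => ?_
  -- the coefficients lie in `I`
  have hcI : ∀ a, c a ∈ I := by
    intro a
    have h0 : (c.mapRange (Ideal.Quotient.mk I) (map_zero _)) = 0 := by
      apply hli
      rw [map_zero, Finsupp.linearCombination_apply]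
      refine (Finsupp.sum_mapRange_index (h := fun a r => r • ((1 : R ⧸ I) ⊗ₜ[R] x a)) (fun _ => zero_smul _ _)).trans ?_
      calc (c.sum fun a r => Ideal.Quotient.mk I r • ((1 : R ⧸ I) ⊗ₜ[R] x a))
          = c.sum fun a r => (1 : R ⧸ I) ⊗ₜ[R] (r • x a) := Finsupp.sum_congr fun a _ => by
            rw [TensorProduct.tmul_smul, ← Ideal.Quotient.algebraMap_eq, algebraMap_smul]
        _ = (1 : R ⧸ I) ⊗ₜ[R] (f c) := by
            rw [Finsupp.linearCombination_apply, Finsupp.sum, Finsupp.sum, TensorProduct.tmul_sum]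
        _ = 0 := by rw [show f c = 0 from hc, TensorProduct.tmul_zero]
    rw [← Ideal.Quotient.eq_zero_iff_mem]
    simpa using DFunLike.congr_fun h0 a
  let z : I ⊗[R] (A →₀ R) := ∑ a ∈ c.support, (⟨c a, hcI a⟩ : I) ⊗ₜ[R] Finsupp.single a 1
  have hz : f.lTensor I z = 0 := by
    apply htor
    rw [map_zero]
    have e : (Submodule.subtype I).rTensor M (f.lTensor I z) =
        (1 : R) ⊗ₜ[R] f c := by
      conv_rhs => rw [← c.sum_single, Finsupp.sum, map_sum, TensorProduct.tmul_sum]
      simp only [z, map_sum, LinearMap.lTensor_tmul, LinearMap.rTensor_tmul]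
      refine Finset.sum_congr rfl fun a _ => ?_
      rw [show (Finsupp.single a (c a) : A →₀ R) = c a • Finsupp.single a 1 by simp, map_smul,
        ← TensorProduct.smul_tmul, smul_eq_mul, mul_one]
      rfl
    rw [e, show f c = 0 from hc, TensorProduct.tmul_zero]
  obtain ⟨w, hw⟩ := (lTensor_exact I (LinearMap.exact_subtype_ker_map _) hfs z).mp hz
  have hmem : ∀ w : I ⊗[R] (LinearMap.ker f), TensorProduct.lift ((LinearMap.lsmul R (A →₀ R)).comp I.subtype)
      ((LinearMap.ker f).subtype.lTensor I w) ∈ I • LinearMap.ker f := by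
    intro w
    induction w using TensorProduct.induction_on with
    | zero => simp
    | add u v hu hv => simp only [map_add]; exact add_mem hu hv
    | tmul i k => simpa using Submodule.smul_mem_smul i.2 k.2
  have hzc : TensorProduct.lift ((LinearMap.lsmul R (A →₀ R)).comp I.subtype) z = c := by
    conv_rhs => rw [← c.sum_single, Finsupp.sum]
    simp [z, map_sum]
  rw [← hzc, ← hw]
  exact hmem w

end Groth.Agent.S6351
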