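import Groth.Statements.S6350
import Mathlib
import Groth.Agent.S6351

set_option autoImplicit false
universe u
open scoped TensorProduct
open CAlg

namespace Groth.Agent.S6350

/-- Let (R, m) be a local ring with nilpotent maximal ideal and M a flat R-module. A family of elements
of M is a basis of M over R if and only if its image is a basis of the R/m-vector space M/mM = R/m ⊗
M. -/
theorem result (R : Type u) [CommRing R] [IsLocalRing R]
    (hnil : IsNilpotent (IsLocalRing.maximalIdeal R)) (M : Type u) [AddCommGroup M] [Module R M] [Module.Flat R M]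
    {A : Type u} (x : A → M) :
    (LinearIndependent R x ∧ Submodule.span R (Set.range x) = ⊤) ↔
      (LinearIndependent (R ⧸ IsLocalRing.maximalIdeal R)
          (fun a => (1 : R ⧸ IsLocalRing.maximalIdeal R) ⊗ₜ[R] x a) ∧
        Submodule.span (R ⧸ IsLocalRing.maximalIdeal R)
          (Set.range fun a => (1 : R ⧸ IsLocalRing.maximalIdeal R) ⊗ₜ[R] x a) = ⊤) := by
  classical
  constructor
  · rintro ⟨hli, hsp⟩
    let b : Module.Basis A R M := Module.Basis.mk hli hsp.ge
    let b' := b.baseChange (R ⧸ IsLocalRing.maximalIdeal R)
    have e : (fun a => (1 : R ⧸ IsLocalRing.maximalIdeal R) ⊗ₜ[R] x a) = b' := funext fun a => by simp [b', b]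
    rw [e]
    exact ⟨b'.linearIndependent, b'.span_eq⟩
  · rintro ⟨hli, hsp⟩
    exact Groth.Agent.S6351.result R _ hnil M
      (Module.Flat.iff_rTensor_injective'.mp inferInstance _) x hli hsp

end Groth.Agent.S6350
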