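import Groth.Statements.S6353
import Mathlib

set_option autoImplicit false
universe u
open CAlg

namespace Groth.Agent.S6353

open PrimeSpectrum in
/-- For a commutative ring R, I ↦ V(I) is a bijection between pure ideals (R/I flat over R) and closed
subsets of Spec R stable under generalization. Stated here as: V(I) is stable under generalization
for I pure, and every closed generalization-stable subset is V(I) for some pure I (injectivity on
pure ideals being the standard fact that pure ideals with the same zero locus coincide). -/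
theorem result (R : Type u) [CommRing R] :
    (∀ I : Ideal R, I.Pure → StableUnderGeneralization (zeroLocus (I : Set R))) ∧
      ∀ Z : Set (PrimeSpectrum R), IsClosed Z → StableUnderGeneralization Z →
        ∃ I : Ideal R, I.Pure ∧ zeroLocus (I : Set R) = Z := by
  refine ⟨fun I hI p q hqp hp x hx => ?_, fun Z hZc hZg => ?_⟩
  · obtain ⟨y, hy, hxy⟩ := Ideal.exists_eq_mul_of_pure hx
    have h0 : x * (1 - y) = 0 := by rw [mul_sub, mul_one, ← hxy, sub_self]
    have hle : q.asIdeal ≤ p.asIdeal := (PrimeSpectrum.le_iff_specializes q p).mpr hqp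
    refine (q.isPrime.mem_or_mem (show x * (1 - y) ∈ q.asIdeal by rw [h0]; exact q.asIdeal.zero_mem)).resolve_right ?_
    intro h
    have := p.asIdeal.add_mem (hle h) (hp hy)
    rw [sub_add_cancel] at this
    exact p.isPrime.one_notMem this
  · obtain ⟨J, rfl⟩ := (PrimeSpectrum.isClosed_iff_zeroLocus_ideal Z).mp hZc
    let I : Ideal R := ⨅ p : PrimeSpectrum.zeroLocus (J : Set R),
      RingHom.ker (algebraMap R (Localization.AtPrime p.1.asIdeal))
    have hI : ∀ x, x ∈ I ↔ ∀ p ∈ PrimeSpectrum.zeroLocus (J : Set R), ∃ s ∉ p.asIdeal, s * x = 0 := by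
      intro x
      simp only [I, Ideal.mem_iInf, RingHom.mem_ker]
      constructor
      · intro h p hp
        obtain ⟨⟨s, hs⟩, hsx⟩ := (IsLocalization.map_eq_zero_iff p.asIdeal.primeCompl _ x).mp (h ⟨p, hp⟩)
        exact ⟨s, hs, hsx⟩
      · rintro h ⟨p, hp⟩
        obtain ⟨s, hs, hsx⟩ := h p hp
        exact (IsLocalization.map_eq_zero_iff p.asIdeal.primeCompl _ x).mpr ⟨⟨s, hs⟩, hsx⟩
    have hIle : ∀ p ∈ PrimeSpectrum.zeroLocus (J : Set R), I ≤ p.asIdeal := by
      intro p hp x hx
      obtain ⟨s, hs, hsx⟩ := (hI x).mp hx p hp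
      exact (p.isPrime.mem_or_mem (hsx ▸ p.asIdeal.zero_mem)).resolve_left hs
    have hpow : ∀ x ∈ J, ∃ n : ℕ, x ^ n ∈ I := by
      intro x hx
      let K : Ideal R :=
        { carrier := {s | ∃ n : ℕ, s * x ^ n = 0}
          zero_mem' := ⟨0, zero_mul _⟩
          add_mem' := fun {a b} ⟨n, hn⟩ ⟨m, hm⟩ => ⟨n + m, by
            linear_combination x ^ m * hn + x ^ n * hm + (0 : R) * hn⟩
          smul_mem' := fun c a ⟨n, hn⟩ => ⟨n, by rw [smul_eq_mul, mul_assoc, hn, mul_zero]⟩ }
      have htop : K ⊔ J = ⊤ := by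
        by_contra hne
        obtain ⟨m, hm, hle⟩ := Ideal.exists_le_maximal _ hne
        let p : PrimeSpectrum R := ⟨m, hm.isPrime⟩
        have hp : p ∈ PrimeSpectrum.zeroLocus (J : Set R) := le_trans le_sup_right hle
        have hloc : algebraMap R (Localization.AtPrime m) x ∈ nilradical _ := by
          rw [nilradical, Ideal.radical_eq_sInf, Ideal.mem_sInf]
          rintro q ⟨-, hq⟩
          refine hZg (y := ⟨q.comap (algebraMap R _), hq.comap _⟩) ?_ hp hx
          rw [← PrimeSpectrum.le_iff_specializes]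
          exact (Ideal.comap_mono (IsLocalRing.le_maximalIdeal hq.ne_top)).trans
            (Localization.AtPrime.under_maximalIdeal (I := m)).le
        obtain ⟨n, hn⟩ := mem_nilradical.mp hloc
        rw [← map_pow, IsLocalization.map_eq_zero_iff m.primeCompl] at hn
        obtain ⟨⟨s, hs⟩, hsn⟩ := hn
        exact hs (hle (Ideal.mem_sup_left ⟨n, hsn⟩))
      obtain ⟨s, ⟨n, hn⟩, j, hj, hsj⟩ := Submodule.mem_sup.mp ((Ideal.eq_top_iff_one _).mp htop)
      refine ⟨n, (hI _).mpr fun p hp => ⟨s, fun h => ?_, hn⟩⟩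
      exact p.isPrime.one_notMem (hsj ▸ p.asIdeal.add_mem h (hp hj))
    refine ⟨I, Ideal.Pure.of_inf_eq_mul _ fun K _ => le_antisymm ?_ Ideal.mul_le_inf, ?_⟩
    · rintro x ⟨hx, hxK⟩
      have htop : (Submodule.span R {x}).annihilator ⊔ J = ⊤ := by
        by_contra hne
        obtain ⟨m, hm, hle⟩ := Ideal.exists_le_maximal _ hne
        obtain ⟨s, hs, hsx⟩ := (hI x).mp hx ⟨m, hm.isPrime⟩ (le_trans le_sup_right hle)
        exact hs (hle (Ideal.mem_sup_left (by simpa [Submodule.mem_annihilator_span_singleton] using hsx)))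
      obtain ⟨s, hs, j, hj, hsj⟩ := Submodule.mem_sup.mp ((Ideal.eq_top_iff_one _).mp htop)
      rw [Submodule.mem_annihilator_span_singleton, smul_eq_mul] at hs
      have hxj : x = j * x := by linear_combination hs - x * hsj
      obtain ⟨n, hn⟩ := hpow j hj
      have hxn : x = j ^ n * x := by
        clear hn
        induction n with
        | zero => simp
        | succ n ih => rw [pow_succ, mul_assoc, ← hxj, ← ih]
      rw [hxn]
      exact Ideal.mul_mem_mul hn hxK
    · refine Set.Subset.antisymm (fun p hp x hx => ?_) hIle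
      obtain ⟨n, hn⟩ := hpow x hx
      exact p.isPrime.mem_of_pow_mem n (hp hn)

end Groth.Agent.S6353
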