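import Groth.Statements.S6354
import Mathlib

set_option autoImplicit false
universe u
open CAlg

namespace Groth.Agent.S6354

open PrimeSpectrum in
/-- For an ideal I of a commutative ring R these four conditions are equivalent: (1) I is finitely
generated and pure; (2) I = (e) for some idempotent e; (3) I is pure with V(I) open in Spec R; (4)
R/I is projective as an R-module. -/
theorem result (R : Type u) [CommRing R] (I : Ideal R) :
    List.TFAE [I.Pure ∧ I.FG, ∃ e : R, IsIdempotentElem e ∧ I = Ideal.span {e},
      I.Pure ∧ IsOpen (zeroLocus (I : Set R)), Module.Projective R (R ⧸ I)] := by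
  tfae_have 1 → 2
  | ⟨h1, h2⟩ => (Ideal.isIdempotentElem_iff_of_fg _ h2).mp (Ideal.isIdempotentElem_of_pure I)
  tfae_have 2 → 3
  | ⟨e, he, hI⟩ => by
    refine ⟨Ideal.Pure.of_isIdempotentElem (hI ▸ Submodule.fg_span_singleton e)
      ((Ideal.isIdempotentElem_iff_of_fg _ (hI ▸ Submodule.fg_span_singleton e)).mpr ⟨e, he, hI⟩), ?_⟩
    have : zeroLocus (I : Set R) = (basicOpen (1 - e) : Set (PrimeSpectrum R)) := by
      ext p
      rw [hI, zeroLocus_span, mem_zeroLocus, Set.singleton_subset_iff, SetLike.mem_coe, SetLike.mem_coe,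
        mem_basicOpen]
      constructor
      · intro h h'
        have := p.asIdeal.add_mem h' h
        rw [sub_add_cancel] at this
        exact p.isPrime.one_notMem this
      · intro h
        exact (p.isPrime.mem_or_mem (show e * (1 - e) ∈ p.asIdeal by
          rw [mul_sub, mul_one, he.eq, sub_self]; exact p.asIdeal.zero_mem)).resolve_right h
    rw [this]
    exact isOpen_basicOpen
  tfae_have 3 → 1
  | ⟨h1, h2⟩ => by
    obtain ⟨e, he, hZ⟩ := exists_idempotent_basicOpen_eq_of_isClopen ⟨isClosed_zeroLocus _, h2⟩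
    have hfg : (Ideal.span {1 - e}).FG := Submodule.fg_span_singleton _
    have : (Ideal.span {1 - e}).Pure := Ideal.Pure.of_isIdempotentElem hfg
      ((Ideal.isIdempotentElem_iff_of_fg _ hfg).mpr ⟨1 - e, he.one_sub, rfl⟩)
    have hZ' : zeroLocus (Ideal.span {1 - e} : Set R) = zeroLocus (I : Set R) := by
      rw [hZ]
      ext p
      rw [zeroLocus_span, mem_zeroLocus, Set.singleton_subset_iff, SetLike.mem_coe, SetLike.mem_coe,
        mem_basicOpen]
      constructor
      · intro h h'
        have := p.asIdeal.add_mem h h'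
        rw [sub_add_cancel] at this
        exact p.isPrime.one_notMem this
      · intro h
        exact (p.isPrime.mem_or_mem (show e * (1 - e) ∈ p.asIdeal by
          rw [mul_sub, mul_one, he.eq, sub_self]; exact p.asIdeal.zero_mem)).resolve_left h
    exact ⟨h1, Ideal.zeroLocus_inj_of_pure.mp hZ' ▸ hfg⟩
  tfae_have 2 → 4
  | ⟨e, he, hI⟩ => by
    let s : (R ⧸ I) →ₗ[R] R := I.liftQ (LinearMap.mulLeft R (1 - e)) (by
      rw [hI, Ideal.span_le]
      rintro _ rfl
      simp [sub_mul, he.eq])
    refine Module.Projective.of_split s I.mkQ (LinearMap.ext fun x => ?_)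
    obtain ⟨x, rfl⟩ := I.mkQ_surjective x
    rw [LinearMap.comp_apply, LinearMap.id_apply, Submodule.mkQ_apply, Submodule.mkQ_apply]
    rw [Submodule.liftQ_apply, Submodule.Quotient.eq, LinearMap.mulLeft_apply, hI, Ideal.mem_span_singleton']
    exact ⟨-x, by ring⟩
  tfae_have 4 → 2
  | h => by
    obtain ⟨s, hs⟩ := Module.projective_lifting_property I.mkQ LinearMap.id I.mkQ_surjective
    let c := s (Submodule.Quotient.mk 1)
    have hc : ∀ x : R, s (Submodule.Quotient.mk x) = x * c := fun x => by
      rw [← smul_eq_mul x c, ← map_smul, ← Submodule.Quotient.mk_smul, smul_eq_mul, mul_one]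
    have hc1 : Submodule.Quotient.mk (p := I) c = Submodule.Quotient.mk 1 := LinearMap.congr_fun hs _
    have hcc : c * c = c := by
      rw [← hc, hc1]
    refine ⟨1 - c, IsIdempotentElem.one_sub hcc, le_antisymm (fun x hx => ?_) ?_⟩
    · have h0 : x * c = 0 := by rw [← hc, (Submodule.Quotient.mk_eq_zero I).mpr hx, map_zero]
      exact Ideal.mem_span_singleton'.mpr ⟨x, by rw [mul_sub, mul_one, h0, sub_zero]⟩
    · rw [Ideal.span_singleton_le_iff_mem]
      exact (Submodule.Quotient.eq I).mp hc1.symm
  tfae_finish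

end Groth.Agent.S6354
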