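import Groth.Statements.S6355
import Mathlib
import Groth.Agent.S6353
import Groth.Agent.S6354

set_option autoImplicit false
universe u
open CAlg

namespace Groth.Agent.S6355

/-- For a commutative ring R the following are equivalent: (1) every subset of Spec R which is closed
and stable under generalization is open; (2) every finite flat R-module is finite locally free, i.e.
(for finite modules) projective. -/
theorem result (R : Type u) [CommRing R] :
    (∀ Z : Set (PrimeSpectrum R), IsClosed Z → StableUnderGeneralization Z → IsOpen Z) ↔
      ∀ (M : Type u) [AddCommGroup M] [Module R M], Module.Finite R M → Module.Flat R M →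
        Module.Projective R M := by
  classical
  constructor
  · intro hopen M _ _ hfin hflat
    let r : PrimeSpectrum R → ℕ := Module.rankAtStalk (R := R) M
    have hupper : ∀ p : PrimeSpectrum R, ∃ a ∉ p.asIdeal, ∀ q : PrimeSpectrum R, a ∉ q.asIdeal → r q ≤ r p := by
      intro p
      let Rp := Localization.AtPrime p.asIdeal
      let g := LocalizedModule.mkLinearMap p.asIdeal.primeCompl M
      haveI : Module.Free Rp (LocalizedModule p.asIdeal.primeCompl M) := Module.free_of_flat_of_isLocalRing
      let b := Module.finBasis Rp (LocalizedModule p.asIdeal.primeCompl M)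
      choose ms hms using fun i => IsLocalizedModule.surj p.asIdeal.primeCompl g (b i)
      let v : Fin (r p) → M := fun i => (ms i).1
      let Q := M ⧸ Submodule.span R (Set.range v)
      have hQ : p ∉ Module.support R Q := by
        rw [Module.notMem_support_iff']
        intro x
        obtain ⟨x, rfl⟩ := Submodule.mkQ_surjective _ x
        have key : ∀ z : LocalizedModule p.asIdeal.primeCompl M,
            ∃ s ∉ p.asIdeal, ∃ y ∈ Submodule.span R (Set.range v), (s • z : LocalizedModule p.asIdeal.primeCompl M) = g y := by
          intro z
          induction (b.mem_span z : z ∈ Submodule.span Rp (Set.range b)) using Submodule.span_induction with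
          | mem z hz =>
            obtain ⟨i, rfl⟩ := hz
            exact ⟨(ms i).2, (ms i).2.2, v i, Submodule.subset_span ⟨i, rfl⟩, hms i⟩
          | zero => exact ⟨1, p.isPrime.one_notMem, 0, zero_mem _, by simp⟩
          | add z z' _ _ hz hz' =>
            obtain ⟨s, hs, y, hy, e⟩ := hz
            obtain ⟨s', hs', y', hy', e'⟩ := hz'
            refine ⟨s * s', fun h => (p.isPrime.mem_or_mem h).elim hs hs', s' • y + s • y',
              add_mem (Submodule.smul_mem _ _ hy) (Submodule.smul_mem _ _ hy'), ?_⟩
            rw [map_add, map_smul, map_smul, ← e, ← e', smul_add, smul_smul, smul_smul, mul_comm s' s]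
          | smul c z _ hz =>
            obtain ⟨s, hs, y, hy, e⟩ := hz
            obtain ⟨a, t, rfl⟩ := IsLocalization.exists_mk'_eq p.asIdeal.primeCompl c
            refine ⟨t * s, fun h => (p.isPrime.mem_or_mem h).elim t.2 hs, a • y,
              Submodule.smul_mem _ _ hy, ?_⟩
            rw [map_smul, ← e, mul_smul, smul_comm s, ← smul_assoc (t : R),
              Algebra.smul_def, IsLocalization.mk'_spec', algebraMap_smul]
        obtain ⟨s, hs, y, hy, e⟩ := key (g x)
        rw [← map_smul] at e
        obtain ⟨c, hc⟩ := IsLocalizedModule.exists_of_eq (S := p.asIdeal.primeCompl) e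
        refine ⟨c * s, fun h => (p.isPrime.mem_or_mem h).elim c.2 hs, ?_⟩
        rw [← map_smul, Submodule.mkQ_apply, Submodule.Quotient.mk_eq_zero, mul_smul]
        rw [show (c : R) • s • x = (c : R) • y from hc]
        exact Submodule.smul_mem _ _ hy
      rw [Module.support_eq_zeroLocus, PrimeSpectrum.mem_zeroLocus, Set.not_subset] at hQ
      obtain ⟨a, ha, hap⟩ := hQ
      refine ⟨a, hap, fun q haq => ?_⟩
      have hq : Submodule.span (Localization.AtPrime q.asIdeal)
          (Set.range fun i => LocalizedModule.mkLinearMap q.asIdeal.primeCompl M (v i)) = ⊤ := by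
        refine Submodule.eq_top_iff'.mpr fun z => ?_
        induction z using LocalizedModule.induction_on with
        | _ m t =>
          have hm : a • m ∈ Submodule.span R (Set.range v) := by
            rw [← Submodule.Quotient.mk_eq_zero, Submodule.Quotient.mk_smul]
            exact Module.mem_annihilator.mp ha _
          have hau : IsUnit (algebraMap R (Localization.AtPrime q.asIdeal) a) :=
            IsLocalization.map_units _ (⟨a, haq⟩ : q.asIdeal.primeCompl)
          rw [IsLocalizedModule.mk_eq_mk' t m]
          have e : IsLocalizedModule.mk' (LocalizedModule.mkLinearMap q.asIdeal.primeCompl M) m t =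
              (IsLocalization.mk' (Localization.AtPrime q.asIdeal) 1 t * ↑hau.unit⁻¹) •
                LocalizedModule.mkLinearMap q.asIdeal.primeCompl M (a • m) := by
            rw [map_smul, ← algebraMap_smul (Localization.AtPrime q.asIdeal) a, smul_smul, mul_assoc,
              IsUnit.val_inv_mul, mul_one, ← IsLocalizedModule.mk'_one q.asIdeal.primeCompl,
              IsLocalizedModule.mk'_smul_mk', one_smul, mul_one]
          rw [e]
          refine Submodule.smul_mem _ _ ?_
          have := Submodule.mem_map_of_mem (f := LocalizedModule.mkLinearMap q.asIdeal.primeCompl M) hm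
          rw [Submodule.map_span, ← Set.range_comp] at this
          exact Submodule.span_le_restrictScalars R _ _ this
      show Module.finrank _ (LocalizedModule q.asIdeal.primeCompl M) ≤ r p
      have h1 := finrank_range_le_card (R := Localization.AtPrime q.asIdeal)
        (fun i => LocalizedModule.mkLinearMap q.asIdeal.primeCompl M (v i))
      rw [Set.finrank, hq, finrank_top, Fintype.card_fin] at h1
      exact h1
    have hgen : ∀ p q : PrimeSpectrum R, p ≤ q → r p = r q :=
      fun p q h => Module.rankAtStalk_eq_of_le_of_finite_of_flat M h
    have hlc : ∀ p : PrimeSpectrum R, ∃ a ∉ p.asIdeal, ∀ q : PrimeSpectrum R, a ∉ q.asIdeal → r q = r p := by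
      intro p
      let Z : Set (PrimeSpectrum R) := {q | r p ≤ r q}
      have hZc : IsClosed Z := by
        rw [← isOpen_compl_iff, isOpen_iff_forall_mem_open]
        intro q hq
        obtain ⟨a, haq, ha⟩ := hupper q
        refine ⟨PrimeSpectrum.basicOpen a, fun x hx hxZ => ?_, (PrimeSpectrum.basicOpen a).2, haq⟩
        exact hq (le_trans (show r p ≤ r x from hxZ) (ha x hx))
      have hZg : StableUnderGeneralization Z := fun x y hyx hx => by
        show r p ≤ r y
        rw [hgen y x ((PrimeSpectrum.le_iff_specializes y x).mpr hyx)]
        exact hx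
      obtain ⟨a, hap, ha⟩ := hupper p
      have hO : IsOpen (Z ∩ PrimeSpectrum.basicOpen a) :=
        (hopen Z hZc hZg).inter (PrimeSpectrum.basicOpen a).2
      obtain ⟨U, ⟨c, rfl⟩, hcp, hcU⟩ :=
        PrimeSpectrum.isTopologicalBasis_basic_opens.exists_subset_of_mem_open
          (show p ∈ Z ∩ PrimeSpectrum.basicOpen a from ⟨le_refl (r p), hap⟩) hO
      exact ⟨c, hcp, fun q hq => le_antisymm (ha q (hcU hq).2) (hcU hq).1⟩
    -- local freeness
    choose a hap ha using hlc
    have hfree : ∀ p : PrimeSpectrum R, ∃ b ∉ p.asIdeal,
        Module.Free (Localization.Away b) (LocalizedModule.Away b M) := by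
      intro p
      obtain ⟨p', hp'⟩ := (IsLocalization.orderIsoOfPrime (Submonoid.powers (a p))
        (Localization.Away (a p))).surjective ⟨p.asIdeal, p.isPrime,
          (Ideal.disjoint_powers_iff_notMem_of_isPrime (a p)).mpr (hap p)⟩
      have hp'' : p'.1.comap (algebraMap R (Localization.Away (a p))) = p.asIdeal := congrArg Subtype.val hp'
      haveI := p'.2
      let Ra := Localization.Away (a p)
      let Ma := LocalizedModule.Away (a p) M
      have hbc := LocalizedModule.isBaseChange (Submonoid.powers (a p)) (M := M)
      have hr : ∀ q : PrimeSpectrum Ra, Module.rankAtStalk (R := Ra) Ma q = r p := by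
        intro q
        rw [Module.rankAtStalk_isBaseChange hbc]
        refine ha p _ fun h => q.isPrime.ne_top ?_
        exact Ideal.eq_top_of_isUnit_mem _ h (IsLocalization.Away.algebraMap_isUnit (a p))
      obtain ⟨x, hx, hfree⟩ := Module.Free.away_of_finite_of_flat_of_rankAtStalk_constant Ma p'.1
        (fun m _ => (hr ⟨m, inferInstance⟩).trans (hr ⟨p'.1, p'.2⟩).symm)
      obtain ⟨⟨y, t⟩, hyt⟩ := IsLocalization.surj (Submonoid.powers (a p)) x
      refine ⟨a p * y, fun h => ?_, ?_⟩
      · rcases p.isPrime.mem_or_mem h with h | h
        · exact hap p h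
        · rw [← hp'', Ideal.mem_comap, ← hyt] at h
          exact (p'.2.mem_or_mem h).elim hx fun ht => p'.2.ne_top
            (Ideal.eq_top_of_isUnit_mem _ ht (IsLocalization.map_units Ra t))
      · -- transport freeness
        let S := Localization.Away (a p * y)
        have hua : IsUnit (algebraMap R S (a p)) :=
          isUnit_of_dvd_unit (map_dvd _ (dvd_mul_right _ y)) (IsLocalization.Away.algebraMap_isUnit (a p * y))
        have huy : IsUnit (algebraMap R S y) :=
          isUnit_of_dvd_unit (map_dvd _ (dvd_mul_left _ (a p))) (IsLocalization.Away.algebraMap_isUnit (a p * y))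
        let ψ : Ra →+* S := IsLocalization.Away.lift (a p) hua
        letI : Algebra Ra S := ψ.toAlgebra
        haveI : IsScalarTower R Ra S := IsScalarTower.of_algebraMap_eq fun z =>
          (IsLocalization.Away.lift_eq (a p) hua z).symm
        have hux : IsUnit (algebraMap Ra S x) := by
          have h1 := congrArg (algebraMap Ra S) hyt
          rw [map_mul, ← IsScalarTower.algebraMap_apply R Ra S, ← IsScalarTower.algebraMap_apply R Ra S] at h1
          exact isUnit_of_mul_isUnit_left (h1 ▸ huy)
        let ψ' : Localization.Away x →+* S := IsLocalization.Away.lift x hux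
        letI : Algebra (Localization.Away x) S := ψ'.toAlgebra
        haveI : IsScalarTower Ra (Localization.Away x) S := ⟨fun z w v => by
          rw [Algebra.smul_def (z • w) v, Algebra.smul_def z (w • v), Algebra.smul_def w v, ← mul_assoc,
            show algebraMap Ra S z = algebraMap (Localization.Away x) S (algebraMap Ra _ z) from
              (IsLocalization.Away.lift_eq x hux z).symm, ← map_mul]
          congr 2
          exact Algebra.smul_def z w⟩
        haveI : IsScalarTower R (Localization.Away x) S :=
          IsScalarTower.of_algebraMap_eq fun (z : R) =>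
            (IsScalarTower.algebraMap_apply R Ra S z).trans
              ((IsLocalization.Away.lift_eq x hux (algebraMap R Ra z)).symm.trans
                (congrArg ψ' (IsScalarTower.algebraMap_apply R Ra (Localization.Away x) z).symm))
        have e2 := LocalizedModule.isBaseChange (Submonoid.powers x) (M := Ma)
        haveI : Module.Free (Localization.Away x) (TensorProduct R (Localization.Away x) M) :=
          Module.Free.of_equiv ((e2.equiv.symm ≪≫ₗ
            TensorProduct.AlgebraTensorModule.congr (LinearEquiv.refl (Localization.Away x) _) hbc.equiv.symm) ≪≫ₗ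
            TensorProduct.AlgebraTensorModule.cancelBaseChange R Ra (Localization.Away x) (Localization.Away x) M)
        haveI : Module.Free S (TensorProduct R S M) :=
          Module.Free.of_equiv (TensorProduct.AlgebraTensorModule.cancelBaseChange R (Localization.Away x) S S M)
        exact Module.Free.of_equiv (LocalizedModule.isBaseChange (Submonoid.powers (a p * y)) (M := M)).equiv
    choose b hbp hb using hfree
    obtain ⟨N, φ, hφ⟩ := Module.Finite.exists_fin' R M
    haveI : Module.FinitePresentation R M := by
      refine Module.finitePresentation_of_surjective φ hφ ?_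
      rw [← Module.Finite.iff_fg]
      refine Module.Finite.of_localizationSpan (M := LinearMap.ker φ) (Set.range b) ?_ ?_
      · by_contra hne
        obtain ⟨m, hm, hle⟩ := Ideal.exists_le_maximal _ hne
        exact hbp ⟨m, hm.isPrime⟩ (hle (Ideal.subset_span ⟨_, rfl⟩))
      · rintro ⟨_, p, rfl⟩
        haveI := hb p
        let φb := LocalizedModule.map (Submonoid.powers (b p)) φ
        let ιb := LocalizedModule.map (Submonoid.powers (b p)) (LinearMap.ker φ).subtype
        have hφb : Function.Surjective φb := LocalizedModule.map_surjective _ φ hφ
        have hιb : Function.Injective ιb :=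
          LocalizedModule.map_injective _ _ (LinearMap.ker φ).injective_subtype
        have hex : Function.Exact ιb φb :=
          LocalizedModule.map_exact _ _ _ (LinearMap.exact_subtype_ker_map φ)
        obtain ⟨s, hs⟩ := Module.projective_lifting_property φb LinearMap.id hφb
        have hs' : ∀ z, φb (s z) = z := fun z => LinearMap.congr_fun hs z
        let π : LocalizedModule (Submonoid.powers (b p)) (Fin N → R) →ₗ[Localization.Away (b p)]
            LinearMap.ker φb :=
          (LinearMap.id - s ∘ₗ φb).codRestrict (LinearMap.ker φb) fun z => by simp [hs']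
        haveI : Module.Finite (Localization.Away (b p)) (LinearMap.ker φb) := by
          refine Module.Finite.of_surjective π fun z => ⟨z.1, Subtype.ext ?_⟩
          show z.1 - s (φb z.1) = z.1
          rw [LinearMap.mem_ker.mp z.2, map_zero, sub_zero]
        exact Module.Finite.equiv ((LinearEquiv.ofEq _ _ hex.linearMap_ker_eq) ≪≫ₗ
          (LinearEquiv.ofInjective ιb hιb).symm)
    exact Module.Flat.projective_of_finitePresentation
  · intro hproj Z hZc hZg
    obtain ⟨I, hI, rfl⟩ := (Groth.Agent.S6353.result R).2 Z hZc hZg
    haveI : Module.Flat R (R ⧸ I) := hI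
    have hp : Module.Projective R (R ⧸ I) := hproj (R ⧸ I) inferInstance inferInstance
    obtain ⟨s, hs⟩ := Module.projective_lifting_property I.mkQ LinearMap.id I.mkQ_surjective
    let c := s (Submodule.Quotient.mk 1)
    have hc : ∀ x : R, s (Submodule.Quotient.mk x) = x * c := fun x => by
      rw [← smul_eq_mul x c, ← map_smul, ← Submodule.Quotient.mk_smul, smul_eq_mul, mul_one]
    have hc1 : Submodule.Quotient.mk (p := I) c = Submodule.Quotient.mk 1 := LinearMap.congr_fun hs _
    have hI' : ∀ x ∈ I, x * c = 0 := fun x hx => by
      rw [← hc, (Submodule.Quotient.mk_eq_zero I).mpr hx, map_zero]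
    have hc1' : 1 - c ∈ I := (Submodule.Quotient.eq I).mp hc1.symm
    have e : PrimeSpectrum.zeroLocus (I : Set R) = PrimeSpectrum.basicOpen c := by
      ext q
      rw [PrimeSpectrum.mem_zeroLocus, SetLike.mem_coe, PrimeSpectrum.mem_basicOpen]
      refine ⟨fun h hcq => q.isPrime.one_notMem ?_, fun hcq x hx => ?_⟩
      · simpa using q.asIdeal.add_mem (h hc1') hcq
      · exact (q.isPrime.mem_or_mem (show x * c ∈ q.asIdeal by rw [hI' x hx]; exact zero_mem _)).resolve_right hcq
    rw [e]
    exact (PrimeSpectrum.basicOpen c).2

end Groth.Agent.S6355
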