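import Groth.Statements.S6362
import Mathlib
-- imports

set_option autoImplicit false
universe u
open scoped TensorProduct
open Fields

namespace Groth.Agent.S6362

/-- Let K/F be a finite separable extension and L/F an extension with L algebraically closed. Then the
L-algebra map K ⊗_F L → ∏_σ L, indexed by the F-algebra maps σ : K → L and sending a ⊗ b to (σ(a)
b)_σ, is an isomorphism; stated as bijectivity of that map. -/
theorem result {F K L : Type u} [Field F] [Field K] [Field L]
    [Algebra F K] [Algebra F L] [FiniteDimensional F K] [Algebra.IsSeparable F K] [IsAlgClosed L] :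
    Function.Bijective (fun x : K ⊗[F] L => fun σ : K →ₐ[F] L =>
      Algebra.TensorProduct.lift σ (AlgHom.id F L) (fun a b => Commute.all (σ a) b) x) := by
  classical
  let b := Module.finBasis F K
  let M : (Fin (Module.finrank F K) → L) →ₗ[L] ((K →ₐ[F] L) → L) :=
    LinearMap.pi fun σ => ∑ i, σ (b i) • LinearMap.proj i
  have hM : ∀ v σ, M v σ = ∑ i, σ (b i) * v i := fun v σ => by simp [M]
  have hsurj : Function.Surjective M := by
    refine LinearMap.range_eq_top.1 (by_contra fun hne => ?_)
    obtain ⟨c, hc, hle⟩ := Submodule.exists_le_ker_of_lt_top _ (lt_top_iff_ne_top.2 hne)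
    refine hc (LinearMap.pi_ext fun σ x => ?_)
    have hli := Fintype.linearIndependent_iff.1 (linearIndependent_algHom_toLinearMap F K L)
      (fun σ => c (Pi.single σ 1)) (b.ext fun i => ?_) σ
    · rw [show (Pi.single σ x : (K →ₐ[F] L) → L) = x • (Pi.single σ 1) by
        rw [← Pi.single_smul, smul_eq_mul, mul_one], map_smul, hli, smul_zero, LinearMap.zero_apply]
    · have h1 : c (M (Pi.single i 1)) = 0 := hle (LinearMap.mem_range_self M _)
      have h2 : M (Pi.single i 1) = ∑ σ : K →ₐ[F] L, σ (b i) • (Pi.single σ 1 : (K →ₐ[F] L) → L) := by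
        funext τ; simp [hM, Pi.single_apply, Finset.sum_apply]
      rw [h2, map_sum] at h1
      simpa [mul_comm] using h1
  have hbij : Function.Bijective M :=
    ⟨(LinearMap.injective_iff_surjective_of_finrank_eq_finrank (by
      rw [Module.finrank_fintype_fun_eq_card, Module.finrank_fintype_fun_eq_card, AlgHom.card, Fintype.card_fin])).2 hsurj,
      hsurj⟩
  let bL := Algebra.TensorProduct.basis L b
  convert hbij.comp (((Algebra.TensorProduct.comm F K L).toEquiv.trans bL.equivFun.toEquiv).bijective) using 1
  funext x σ
  show _ = M (bL.equivFun (Algebra.TensorProduct.comm F K L x)) σ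
  induction x using TensorProduct.induction_on with
  | zero => simp
  | tmul a y =>
    rw [hM]
    refine Eq.trans (b := σ a * y) (Algebra.TensorProduct.lift_tmul _ _ _ _ _) ?_
    conv_lhs => rw [← b.sum_repr a]
    rw [map_sum, Finset.sum_mul]
    refine Finset.sum_congr rfl fun i _ => ?_
    rw [Algebra.TensorProduct.comm_tmul, Module.Basis.equivFun_apply, Algebra.TensorProduct.basis_repr_tmul]
    simp [Algebra.smul_def]
    ring
  | add a c ha hc => simp only [map_add, Pi.add_apply] at *; rw [ha, hc]

end Groth.Agent.S6362
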