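import Mathlib
import Groth.Statements.S6363
-- import your own Groth.Agent.* helpers here

set_option autoImplicit false
universe u
open scoped TensorProduct
open Fields

namespace Groth.Agent.S6363

/-- For a finite field extension L/K and a normal closure M of L/K, some K-algebra homomorphism from the
n-fold tensor power L ⊗_K ⋯ ⊗_K L to M is surjective, where n = [L : K]_s is the separable degree
(so n ≤ [L : K]). -/
theorem result {K L M : Type u} [Field K] [Field L] [Field M]
    [Algebra K L] [Algebra K M] [Algebra L M] [IsScalarTower K L M] [FiniteDimensional K L]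
    [IsNormalClosure K L M] :
    ∃ f : (⨂[K] _ : Fin (Field.finSepDegree K L), L) →ₐ[K] M, Function.Surjective f := by
  classical
  haveI : IsScalarTower K L M := inferInstance
  obtain ⟨hsplit, hgen⟩ := (Algebra.IsAlgebraic.isNormalClosure_iff (F := K) (K := L) (L := M)).mp inferInstance
  have hcard : Nat.card (L →ₐ[K] M) = Field.finSepDegree K L :=
    (Field.finSepDegree_eq_of_adjoin_splits K L M (IntermediateField.adjoin_univ K L)
      fun s _ => ⟨Algebra.IsIntegral.isIntegral s, hsplit s⟩).symm
  let e : Fin (Field.finSepDegree K L) ≃ (L →ₐ[K] M) := (Finite.equivFinOfCardEq hcard).symm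
  let m : MultilinearMap K (fun _ : Fin (Field.finSepDegree K L) => L) M :=
    (MultilinearMap.mkPiAlgebra K (Fin (Field.finSepDegree K L)) M).compLinearMap
      fun i => (e i).toLinearMap
  have hm : ∀ x, m x = ∏ i, e i (x i) := fun x => by simp [m]
  let f : (⨂[K] _ : Fin (Field.finSepDegree K L), L) →ₐ[K] M :=
    PiTensorProduct.liftAlgHom m (by simp [hm]) (fun x y => by simp [hm, Finset.prod_mul_distrib])
  refine ⟨f, ?_⟩
  haveI : Algebra.IsAlgebraic K M := by
    haveI := IsNormalClosure.normal (F := K) (K := L) (L := M)
    infer_instance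
  let F' : IntermediateField K M := Subalgebra.toIntermediateField' f.range
    (Subalgebra.isField_of_algebraic f.range)
  have hle : (⊤ : IntermediateField K M) ≤ F' := by
    rw [← hgen, normalClosure_def, iSup_le_iff]
    rintro σ _ ⟨x, rfl⟩
    change σ x ∈ f.range
    refine ⟨PiTensorProduct.tprod K (Pi.mulSingle (e.symm σ) x), ?_⟩
    change PiTensorProduct.lift m (PiTensorProduct.tprod K (Pi.mulSingle (e.symm σ) x)) = σ x
    rw [PiTensorProduct.lift.tprod, hm, Finset.prod_eq_single (e.symm σ)]
    · simp
    · intro j _ hj
      simp [Pi.mulSingle_eq_of_ne hj]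
    · simp
  intro z
  exact hle (IntermediateField.mem_top (F := K) (x := z))

end Groth.Agent.S6363
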