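import Groth.Statements.S6364
import Mathlib
import Mathlib.RingTheory.Norm.Basic

set_option autoImplicit false
universe u
open Fields

namespace Groth.Agent.S6364

open IntermediateField in
/-- Let L/K be a finite extension and a ∈ L with minimal polynomial P over K. Then P ^ e, with e = [L :
K(a)], is the characteristic polynomial of multiplication by a (the K-linear map x ↦ a x on L), and
e · deg P = [L : K]. -/
theorem result {K L : Type u} [Field K] [Field L] [Algebra K L] [FiniteDimensional K L]
    (a : L) :
    (Algebra.lmul K L a).charpoly = minpoly K a ^ Module.finrank K⟮a⟯ L ∧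
      Module.finrank K⟮a⟯ L * (minpoly K a).natDegree = Module.finrank K L := by
  classical
  have ha : IsIntegral K a := Algebra.IsIntegral.isIntegral a
  refine ⟨?_, ?_⟩
  · let pb := IntermediateField.adjoin.powerBasis ha
    let c := Module.finBasis K⟮a⟯ L
    rw [← LinearMap.charpoly_toMatrix _ (pb.basis.smulTower c)]
    show ((Algebra.leftMulMatrix (pb.basis.smulTower c)) a).charpoly = _
    have hga : algebraMap K⟮a⟯ L pb.gen = a := by simp [pb]
    have hblk := congrArg Matrix.charpoly (Algebra.smulTower_leftMulMatrix_algebraMap pb.basis c pb.gen)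
    rw [hga] at hblk
    rw [hblk]
    rw [Matrix.charpoly, Matrix.charmatrix, show Matrix.scalar (Fin pb.dim × Fin (Module.finrank K⟮a⟯ L)) (Polynomial.X : Polynomial K) =
        Matrix.blockDiagonal (fun _ => Matrix.scalar (Fin pb.dim) (Polynomial.X : Polynomial K)) from ?_]
    · rw [show (Polynomial.C : K →+* Polynomial K).mapMatrix
          (Matrix.blockDiagonal fun _ : Fin (Module.finrank K⟮a⟯ L) => Algebra.leftMulMatrix pb.basis pb.gen) =
          Matrix.blockDiagonal (fun _ => (Polynomial.C : K →+* Polynomial K).mapMatrix (Algebra.leftMulMatrix pb.basis pb.gen))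
        from Matrix.blockDiagonal_map _ _ (map_zero _), ← Matrix.blockDiagonal_sub, Matrix.det_blockDiagonal]
      simp only [Pi.sub_apply, Finset.prod_const, Finset.card_univ, Fintype.card_fin]
      congr 1
      have h := charpoly_leftMulMatrix pb
      rw [Matrix.charpoly, Matrix.charmatrix] at h
      rw [h, show pb.gen = IntermediateField.AdjoinSimple.gen K a from rfl, IntermediateField.minpoly_gen]
    · rw [Matrix.scalar_apply]
      simp only [Matrix.scalar_apply, Matrix.blockDiagonal_diagonal]
  · rw [← IntermediateField.adjoin.finrank ha, mul_comm]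
    exact Module.finrank_mul_finrank K K⟮a⟯ L

end Groth.Agent.S6364
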