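import Groth.Statements.S6368
import Groth.Agent.CAlgUI.Descent

set_option autoImplicit false
universe u
open scoped TensorProduct
open CAlg

namespace Groth.Agent.S6368

/-- Let R → S be faithfully flat and M an R-module. If the S-module S ⊗_R M is countably generated then
M is countably generated. -/
theorem result (R S : Type u) [CommRing R] [CommRing S] [Algebra R S]
    [Module.FaithfullyFlat R S] (M : Type u) [AddCommGroup M] [Module R M]
    (h : CAlg.IsCountablyGenerated S (S ⊗[R] M)) : CAlg.IsCountablyGenerated R M := by
  exact Groth.Agent.CAlgUI.countablyGenerated_of_baseChange (S := S) h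

end Groth.Agent.S6368
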