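import Groth.Statements.S6369
import Mathlib
import Groth.Agent.CAlgOdd.IdealFactor

set_option autoImplicit false
universe u
open CAlg

namespace Groth.Agent.S6369

/-- (1) ⇒ (3): let R be a domain such that every nonzero ideal is a product of nonzero prime ideals,
uniquely up to permutation of the factors. Then R is Noetherian, integrally closed and of dimension
at most one, i.e. a Dedekind domain in the Noetherian sense. (The converse and the description by
discrete valuation rings at maximal ideals are the standard equivalences.) -/
theorem result (R : Type u) [CommRing R] [IsDomain R]
    (h : ∀ I : Ideal R, I ≠ ⊥ → ∃! s : Multiset (Ideal R), (∀ p ∈ s, p.IsPrime ∧ p ≠ ⊥) ∧ s.prod = I) :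
    IsDedekindDomain R := by
  exact Groth.Agent.CAlgOdd.isDedekindDomain_of_unique_factorization h

end Groth.Agent.S6369
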