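import Groth.Statements.S6371
import Mathlib

set_option autoImplicit false
universe u
open CAlg

namespace Groth.Agent.S6371

/-- A ring map R → S is an epimorphism of rings if and only if for every prime p of R the localized map
R_p → S_p is an epimorphism, where S_p is S localized at the image of R ∖ p. -/
theorem result (R S : Type u) [CommRing R] [CommRing S] [Algebra R S] :
    Algebra.IsEpi R S ↔ ∀ (p : Ideal R) [p.IsPrime],
      Algebra.IsEpi (Localization.AtPrime p) (Localization (Algebra.algebraMapSubmonoid S p.primeCompl)) := by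
  open TensorProduct in
  classical
  constructor
  · intro h p _
    let Rp := Localization.AtPrime p
    let Sp := Localization (Algebra.algebraMapSubmonoid S p.primeCompl)
    refine (Algebra.isEpi_iff_forall_one_tmul_eq Rp Sp).mpr fun z => ?_
    let ι : S →ₐ[R] Sp := IsScalarTower.toAlgHom R S Sp
    let Φ : S ⊗[R] S →ₐ[R] Sp ⊗[Rp] Sp := Algebra.TensorProduct.productMap
      (((Algebra.TensorProduct.includeLeft : Sp →ₐ[Rp] Sp ⊗[Rp] Sp).restrictScalars R).comp ι)
      (((Algebra.TensorProduct.includeRight : Sp →ₐ[Rp] Sp ⊗[Rp] Sp).restrictScalars R).comp ι)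
    have hΦ : ∀ a : S, (1 : Sp) ⊗ₜ[Rp] ι a = ι a ⊗ₜ[Rp] (1 : Sp) := fun a => by
      simpa [Φ] using congrArg Φ ((Algebra.isEpi_iff_forall_one_tmul_eq R S).mp h a)
    obtain ⟨⟨a, ⟨_, t, ht, rfl⟩⟩, hz⟩ := IsLocalization.surj (Algebra.algebraMapSubmonoid S p.primeCompl) z
    have hz' : z * ι (algebraMap R S t) = ι a := hz
    have hu : IsUnit ((ι (algebraMap R S t)) ⊗ₜ[Rp] (1 : Sp)) :=
      (IsLocalization.map_units Sp (⟨_, t, ht, rfl⟩ : Algebra.algebraMapSubmonoid S p.primeCompl)).map
        (Algebra.TensorProduct.includeLeftRingHom : Sp →+* Sp ⊗[Rp] Sp)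
    refine hu.mul_right_cancel ?_
    conv_lhs => rw [← hΦ, Algebra.TensorProduct.tmul_mul_tmul, one_mul, hz', hΦ]
    rw [Algebra.TensorProduct.tmul_mul_tmul, one_mul, hz']
  · intro h
    refine (Algebra.isEpi_iff_forall_one_tmul_eq R S).mpr fun a => ?_
    rw [← sub_eq_zero]
    set z : S ⊗[R] S := (1 : S) ⊗ₜ[R] a - a ⊗ₜ[R] (1 : S) with hz
    let J : Ideal R := (Submodule.span R {z}).annihilator
    suffices hJ : J = ⊤ by
      have : (1 : R) • z = 0 := (Submodule.mem_annihilator_span_singleton _ _).mp (show (1 : R) ∈ J from hJ ▸ Submodule.mem_top)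
      rwa [one_smul] at this
    by_contra hJ
    obtain ⟨p, hp, hle⟩ := Ideal.exists_le_maximal J hJ
    haveI := hp.isPrime
    let Rp := Localization.AtPrime p
    let Sp := Localization (Algebra.algebraMapSubmonoid S p.primeCompl)
    let g : S →ₗ[R] Sp := (IsScalarTower.toAlgHom R S Sp).toLinearMap
    haveI : IsLocalizedModule p.primeCompl g := isLocalizedModule_iff_isLocalization.mpr inferInstance
    have h1 : TensorProduct.map g g z = 0 := by
      apply (IsLocalization.moduleTensorEquiv p.primeCompl Rp Sp Sp).symm.injective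
      rw [map_zero, hz, map_sub, TensorProduct.map_tmul, TensorProduct.map_tmul, map_sub, sub_eq_zero]
      show g 1 ⊗ₜ[Rp] g a = g a ⊗ₜ[Rp] g 1
      rw [show g 1 = 1 from map_one (IsScalarTower.toAlgHom R S Sp)]
      exact (Algebra.isEpi_iff_forall_one_tmul_eq Rp Sp).mp (h p) (g a)
    obtain ⟨t, ht⟩ := (IsLocalizedModule.eq_zero_iff p.primeCompl (TensorProduct.map g g)).mp h1
    exact t.2 (hle ((Submodule.mem_annihilator_span_singleton _ _).mpr ht))

end Groth.Agent.S6371
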