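import Groth.Statements.S6372
import Mathlib.RingTheory.Flat.FaithfullyFlat.Algebra
-- import your own Groth.Agent.* helpers here

set_option autoImplicit false
universe u
open CAlg

namespace Groth.Agent.S6372

/-- A faithfully flat epimorphism of rings is an isomorphism: if R → S is faithfully flat and an
epimorphism in the category of rings then it is bijective. -/
theorem result (R S : Type u) [CommRing R] [CommRing S] [Algebra R S]
    [Module.FaithfullyFlat R S] [Algebra.IsEpi R S] : Function.Bijective (algebraMap R S) := by
  refine (Module.FaithfullyFlat.lTensor_bijective_iff_bijective R S (Algebra.linearMap R S)).mp ?_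
  constructor
  · exact Module.Flat.lTensor_preserves_injective_linearMap _
      (FaithfulSMul.algebraMap_injective R S)
  · intro x
    induction x using TensorProduct.induction_on with
    | zero => exact ⟨0, map_zero _⟩
    | tmul a b =>
      refine ⟨(a * b) ⊗ₜ 1, ?_⟩
      simp only [LinearMap.lTensor_tmul, Algebra.linearMap_apply, map_one]
      calc (a * b) ⊗ₜ[R] (1 : S) = (a ⊗ₜ[R] (1 : S)) * (b ⊗ₜ[R] (1 : S)) := by simp
        _ = (a ⊗ₜ[R] (1 : S)) * ((1 : S) ⊗ₜ[R] b) := by
          rw [(Algebra.isEpi_iff_forall_one_tmul_eq R S).mp inferInstance b]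
        _ = a ⊗ₜ[R] b := by simp
    | add x y hx hy =>
      obtain ⟨u, rfl⟩ := hx; obtain ⟨v, rfl⟩ := hy
      exact ⟨u + v, map_add _ _ _⟩

end Groth.Agent.S6372
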