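import Groth.Statements.S6373
import Mathlib.LinearAlgebra.Basis.VectorSpace

set_option autoImplicit false
universe u
open CAlg

namespace Groth.Agent.S6373

/-- If k is a field and k → S is an epimorphism of rings, then S is the zero ring or k → S is an
isomorphism. -/
theorem result (k S : Type u) [Field k] [CommRing S] [Algebra k S] [Algebra.IsEpi k S] :
    Subsingleton S ∨ Function.Bijective (algebraMap k S) := by
  rcases subsingleton_or_nontrivial S with h | h
  · exact Or.inl h
  refine Or.inr ⟨(algebraMap k S).injective, fun s => ?_⟩
  obtain ⟨f, hf⟩ := LinearMap.exists_leftInverse_of_injective (Algebra.linearMap k S)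
    (LinearMap.ker_eq_bot.mpr (algebraMap k S).injective)
  refine ⟨f s, ?_⟩
  have h1 : f 1 = 1 := by simpa using LinearMap.congr_fun hf 1
  have := congrArg (TensorProduct.lid k S ∘ f.rTensor S) ((Algebra.isEpi_iff_forall_one_tmul_eq k S).mp inferInstance s)
  simp [h1] at this
  rw [Algebra.algebraMap_eq_smul_one]
  exact this.symm

end Groth.Agent.S6373
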