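import Groth.Statements.S6374
import Mathlib

set_option autoImplicit false
universe u
open CAlg

namespace Groth.Agent.S6374

/-- For an epimorphism of rings R → S, the induced map Spec S → Spec R is injective and induces trivial
residue field extensions; stated in the form the proof gives: for every prime p of R the fibre ring
S ⊗_R κ(p) is either zero or κ(p) → S ⊗_R κ(p) is bijective, together with injectivity of Spec S →
Spec R. -/
theorem result (R S : Type u) [CommRing R] [CommRing S] [Algebra R S]
    [Algebra.IsEpi R S] :
    Function.Injective (PrimeSpectrum.comap (algebraMap R S)) ∧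
      ∀ (p : Ideal R) [p.IsPrime],
        Subsingleton (p.Fiber S) ∨ Function.Bijective (algebraMap p.ResidueField (p.Fiber S)) := by
  classical
  have h11 : ∀ s : S, (1 : S) ⊗ₜ[R] s = s ⊗ₜ[R] (1 : S) := (Algebra.isEpi_iff_forall_one_tmul_eq R S).mp inferInstance
  refine ⟨fun q₁ q₂ hq => ?_, fun p _ => ?_⟩
  · suffices key : ∀ q₁ q₂ : PrimeSpectrum S, q₁.asIdeal.comap (algebraMap R S) = q₂.asIdeal.comap (algebraMap R S) →
        q₁.asIdeal ≤ q₂.asIdeal by
      exact PrimeSpectrum.ext (le_antisymm (key _ _ (congrArg PrimeSpectrum.asIdeal hq))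
        (key _ _ (congrArg PrimeSpectrum.asIdeal hq.symm)))
    intro q₁ q₂ h s hs
    let p := q₁.asIdeal.comap (algebraMap R S)
    let k := p.ResidueField
    let K₁ := q₁.asIdeal.ResidueField
    let K₂ := q₂.asIdeal.ResidueField
    letI : Algebra k K₁ := (Ideal.ResidueField.map p q₁.asIdeal (algebraMap R S) rfl).toAlgebra
    letI : Algebra k K₂ := (Ideal.ResidueField.map p q₂.asIdeal (algebraMap R S) h).toAlgebra
    haveI : IsScalarTower R k K₁ := IsScalarTower.of_algebraMap_eq fun r => by
      rw [RingHom.algebraMap_toAlgebra, IsScalarTower.algebraMap_apply R S K₁]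
      exact (Ideal.ResidueField.map_algebraMap p q₁.asIdeal (algebraMap R S) rfl r).symm
    haveI : IsScalarTower R k K₂ := IsScalarTower.of_algebraMap_eq fun r => by
      rw [RingHom.algebraMap_toAlgebra, IsScalarTower.algebraMap_apply R S K₂]
      exact (Ideal.ResidueField.map_algebraMap p q₂.asIdeal (algebraMap R S) h r).symm
    let u₁ : S →ₐ[R] TensorProduct k K₁ K₂ :=
      ((Algebra.TensorProduct.includeLeft : K₁ →ₐ[k] TensorProduct k K₁ K₂).restrictScalars R).comp
        (IsScalarTower.toAlgHom R S K₁)
    let u₂ : S →ₐ[R] TensorProduct k K₁ K₂ :=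
      ((Algebra.TensorProduct.includeRight : K₂ →ₐ[k] TensorProduct k K₁ K₂).restrictScalars R).comp
        (IsScalarTower.toAlgHom R S K₂)
    have he : u₁ s = u₂ s := by
      have := congrArg (Algebra.TensorProduct.productMap u₁ u₂) (h11 s)
      simpa using this.symm
    have h0 : algebraMap S K₁ s = 0 := Ideal.algebraMap_residueField_eq_zero.mpr hs
    have hinj : Function.Injective (Algebra.TensorProduct.includeRight : K₂ →ₐ[k] TensorProduct k K₁ K₂) :=
      Algebra.TensorProduct.includeRight_injective (algebraMap k K₁).injective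
    refine Ideal.algebraMap_residueField_eq_zero.mp (hinj ?_)
    show u₂ s = _
    rw [← he, map_zero]
    show (algebraMap S K₁ s) ⊗ₜ[k] (1 : K₂) = 0
    rw [h0, TensorProduct.zero_tmul]
  · rcases subsingleton_or_nontrivial (p.Fiber S) with hF | hF
    · exact Or.inl hF
    refine Or.inr ⟨(algebraMap p.ResidueField (p.Fiber S)).injective, ?_⟩
    let K := p.ResidueField
    let incl : S →ₐ[R] p.Fiber S := Algebra.TensorProduct.includeRight
    obtain ⟨l, hl⟩ := LinearMap.exists_leftInverse_of_injective (Algebra.linearMap K (p.Fiber S))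
      (LinearMap.ker_eq_bot.mpr (algebraMap K (p.Fiber S)).injective)
    have hl1 : l 1 = 1 := by
      have := LinearMap.congr_fun hl 1
      rwa [LinearMap.comp_apply, Algebra.linearMap_apply, map_one] at this
    intro z
    induction z using TensorProduct.induction_on with
    | zero => exact ⟨0, map_zero _⟩
    | add a b ha hb =>
      obtain ⟨x, rfl⟩ := ha
      obtain ⟨y, rfl⟩ := hb
      exact ⟨x + y, map_add _ _ _⟩
    | tmul c s =>
      refine ⟨c * l (incl s), ?_⟩
      let bil : TensorProduct R S S →ₗ[R] p.Fiber S := TensorProduct.lift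
        (((LinearMap.lsmul K (p.Fiber S)).restrictScalars₁₂ R R).compl₁₂
          (l.restrictScalars R ∘ₗ incl.toLinearMap) incl.toLinearMap)
      have := congrArg bil (h11 s)
      simp only [bil, TensorProduct.lift.tmul, LinearMap.compl₁₂_apply, LinearMap.restrictScalars₁₂_apply_apply,
        LinearMap.comp_apply, AlgHom.toLinearMap_apply, map_one, LinearMap.coe_restrictScalars,
        LinearMap.lsmul_apply, hl1, one_smul] at this
      rw [map_mul]
      have e : algebraMap K (p.Fiber S) (l (incl s)) = incl s := by
        rw [Algebra.algebraMap_eq_smul_one]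
        exact this.symm
      rw [e]
      simp [incl, Algebra.TensorProduct.algebraMap_apply]

end Groth.Agent.S6374
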