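import Groth.Statements.S6375
import Mathlib

set_option autoImplicit false
universe u
open CAlg

namespace Groth.Agent.S6375

/-- For an infinite source ring: if R → S is an epimorphism of rings with R infinite, then |S| ≤ |R| as
cardinals. (For finite R the published statement also asserts |S| ≤ |R|, but its proof only gives
that S is countable and omits the rest, so that case is not included.) -/
theorem result (R S : Type u) [CommRing R] [CommRing S] [Algebra R S] [Algebra.IsEpi R S]
    [Infinite R] : Cardinal.mk S ≤ Cardinal.mk R := by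
  open TensorProduct in
  classical
  have h11 := (Algebra.isEpi_iff_forall_one_tmul_eq R S).mp ‹_›
  let Pol := MvPolynomial S R
  let π : Pol →ₐ[R] S := MvPolynomial.aeval id
  have hπ : Function.Surjective π := fun s => ⟨MvPolynomial.X s, MvPolynomial.aeval_X _ _⟩
  -- the data attached to an element
  let W := Σ n : ℕ, Fin n × Finset (MvPolynomial (Fin n) R)
  let good : W → S → Prop := fun w s =>
    (MvPolynomial.X w.2.1 ⊗ₜ[R] (1 : MvPolynomial (Fin w.1) R) - (1 : MvPolynomial (Fin w.1) R) ⊗ₜ[R] MvPolynomial.X w.2.1) ∈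
      ((Ideal.span (w.2.2 : Set (MvPolynomial (Fin w.1) R))).map (Algebra.TensorProduct.includeLeft : MvPolynomial (Fin w.1) R →ₐ[R] MvPolynomial (Fin w.1) R ⊗[R] MvPolynomial (Fin w.1) R) ⊔
        (Ideal.span (w.2.2 : Set (MvPolynomial (Fin w.1) R))).map (Algebra.TensorProduct.includeRight : MvPolynomial (Fin w.1) R →ₐ[R] MvPolynomial (Fin w.1) R ⊗[R] MvPolynomial (Fin w.1) R)) ∧
    ∃ v : MvPolynomial (Fin w.1) R →ₐ[R] S, (∀ P ∈ w.2.2, v P = 0) ∧ v (MvPolynomial.X w.2.1) = s
  have hex : ∀ s : S, ∃ w, good w s := by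
    intro s
    let z : Pol ⊗[R] Pol := MvPolynomial.X s ⊗ₜ[R] 1 - 1 ⊗ₜ[R] MvPolynomial.X s
    let iL : Pol →ₐ[R] Pol ⊗[R] Pol := Algebra.TensorProduct.includeLeft
    let iR : Pol →ₐ[R] Pol ⊗[R] Pol := Algebra.TensorProduct.includeRight
    have hz : z ∈ (RingHom.ker π).map iL ⊔ (RingHom.ker π).map iR := by
      rw [← Algebra.TensorProduct.map_ker π π hπ hπ, RingHom.mem_ker]
      show Algebra.TensorProduct.map π π z = 0
      simp only [z, map_sub, Algebra.TensorProduct.map_tmul, map_one]
      rw [show π (MvPolynomial.X s) = s from MvPolynomial.aeval_X _ _, h11 s, sub_self]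
    have key : ∀ (i : Pol →ₐ[R] Pol ⊗[R] Pol) (x : Pol ⊗[R] Pol), x ∈ (RingHom.ker π).map i →
        ∃ K : Finset Pol, (∀ k ∈ K, π k = 0) ∧ x ∈ (Ideal.span (K : Set Pol)).map i := by
      intro i x hx
      obtain ⟨K, hK, hxK⟩ := Submodule.mem_span_finite_of_mem_span (hx : x ∈ Submodule.span _ _)
      obtain ⟨K', hK', hKK'⟩ := Finset.subset_set_image_iff.mp hK
      refine ⟨K', fun k hk => hK' (Finset.mem_coe.mpr hk), ?_⟩
      rw [Ideal.map_span, ← Finset.coe_image, hKK']
      exact hxK
    obtain ⟨x, hx, y, hy, hxy⟩ := Submodule.mem_sup.mp hz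
    obtain ⟨K₁, hK₁, hx'⟩ := key _ x hx
    obtain ⟨K₂, hK₂, hy'⟩ := key _ y hy
    let K := K₁ ∪ K₂
    let V : Finset S := insert s (K.biUnion MvPolynomial.vars)
    let ι : Fin V.card → S := fun i => (V.equivFin.symm i : S)
    let ρ : Pol →ₐ[R] MvPolynomial (Fin V.card) R :=
      MvPolynomial.aeval fun t => if ht : t ∈ V then MvPolynomial.X (V.equivFin ⟨t, ht⟩) else 0
    let v : MvPolynomial (Fin V.card) R →ₐ[R] S := MvPolynomial.aeval ι
    have hρ : ∀ P : Pol, (∀ t ∈ P.vars, t ∈ V) → v (ρ P) = π P := fun P hP => by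
      show v (MvPolynomial.aeval _ P) = _
      rw [MvPolynomial.comp_aeval_apply]
      refine MvPolynomial.eval₂Hom_congr' rfl (fun t ht _ => ?_) rfl
      simp [hP t ht, v, ι]
    have hs : s ∈ V := Finset.mem_insert_self _ _
    have hρs : ρ (MvPolynomial.X s) = MvPolynomial.X (V.equivFin ⟨s, hs⟩) :=
      (MvPolynomial.aeval_X _ _).trans (dif_pos hs)
    refine ⟨⟨V.card, V.equivFin ⟨s, hs⟩, K.image ρ⟩, ?_, v, ?_, by simp [v, ι]⟩
    · let J := Ideal.span ((K.image ρ : Finset _) : Set (MvPolynomial (Fin V.card) R))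
      have hKJ : ∀ K' : Finset Pol, K' ⊆ K → (Ideal.span (K' : Set Pol)).map ρ ≤ J := fun K' hK' => by
        rw [Ideal.map_span]
        refine Ideal.span_mono ?_
        rintro _ ⟨k, hk, rfl⟩
        exact Finset.mem_coe.mpr (Finset.mem_image_of_mem _ (hK' (Finset.mem_coe.mp hk)))
      have h1 : Algebra.TensorProduct.map ρ ρ x ∈ J.map (Algebra.TensorProduct.includeLeft : MvPolynomial (Fin V.card) R →ₐ[R] MvPolynomial (Fin V.card) R ⊗[R] MvPolynomial (Fin V.card) R) := by
        have := Ideal.mem_map_of_mem (Algebra.TensorProduct.map ρ ρ) hx'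
        rw [Ideal.map_mapₐ, Algebra.TensorProduct.map_comp_includeLeft, ← Ideal.map_mapₐ] at this
        exact Ideal.map_mono (hKJ K₁ Finset.subset_union_left) this
      have h2 : Algebra.TensorProduct.map ρ ρ y ∈ J.map (Algebra.TensorProduct.includeRight : MvPolynomial (Fin V.card) R →ₐ[R] MvPolynomial (Fin V.card) R ⊗[R] MvPolynomial (Fin V.card) R) := by
        have := Ideal.mem_map_of_mem (Algebra.TensorProduct.map ρ ρ) hy'
        rw [Ideal.map_mapₐ, Algebra.TensorProduct.map_comp_includeRight, ← Ideal.map_mapₐ] at this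
        exact Ideal.map_mono (hKJ K₂ Finset.subset_union_right) this
      have h3 := Submodule.add_mem_sup h1 h2
      rw [← map_add, hxy, map_sub, Algebra.TensorProduct.map_tmul, Algebra.TensorProduct.map_tmul, map_one, hρs] at h3
      exact h3
    · intro P hP
      obtain ⟨k, hk, rfl⟩ := Finset.mem_image.mp hP
      rw [hρ k fun t ht => Finset.mem_insert_of_mem (Finset.mem_biUnion.mpr ⟨k, hk, ht⟩)]
      rcases Finset.mem_union.mp hk with h | h
      · exact hK₁ k h
      · exact hK₂ k h
  choose w hw using hex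
  have hinj : Function.Injective w := by
    intro s s' hss
    obtain ⟨hmem, v, hv, hvs⟩ := hw s
    obtain ⟨-, v', hv', hvs'⟩ : good (w s) s' := hss ▸ hw s'
    let ev := Algebra.TensorProduct.productMap v v'
    let P' := MvPolynomial (Fin (w s).1) R
    have : ((Ideal.span ((w s).2.2 : Set P')).map (Algebra.TensorProduct.includeLeft : P' →ₐ[R] P' ⊗[R] P') ⊔
        (Ideal.span ((w s).2.2 : Set P')).map (Algebra.TensorProduct.includeRight : P' →ₐ[R] P' ⊗[R] P')) ≤ RingHom.ker ev := by
      refine sup_le ?_ ?_ <;> rw [Ideal.map_le_iff_le_comap, Ideal.span_le] <;> intro P hP <;>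
        simp [ev, Ideal.mem_comap, RingHom.mem_ker, hv P (Finset.mem_coe.mp hP), hv' P (Finset.mem_coe.mp hP)]
    have h0 := this hmem
    simp only [RingHom.mem_ker, map_sub, ev, Algebra.TensorProduct.productMap_apply_tmul, map_one, mul_one,
      one_mul, sub_eq_zero, hvs, hvs'] at h0
    exact h0
  refine (Cardinal.mk_le_of_injective hinj).trans ?_
  have hω : Cardinal.aleph0 ≤ Cardinal.mk R := Cardinal.aleph0_le_mk R
  rw [Cardinal.mk_sigma]
  refine (Cardinal.sum_le_sum _ (fun _ => Cardinal.mk R) fun n => ?_).trans (by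
    simp only [Cardinal.sum_const, Cardinal.mk_nat, Cardinal.lift_aleph0, Cardinal.lift_uzero]
    exact Cardinal.mul_le_of_le hω hω le_rfl)
  rw [Cardinal.mk_prod]
  simp only [Cardinal.lift_uzero, Cardinal.mk_fin, Cardinal.lift_natCast]
  refine Cardinal.mul_le_of_le hω ((Cardinal.natCast_le_aleph0).trans hω) ?_
  rcases Nat.eq_zero_or_pos n with rfl | hn
  · rw [Cardinal.mk_finset_of_infinite, Cardinal.mk_congr (MvPolynomial.isEmptyAlgEquiv R (Fin 0)).toEquiv]
  · haveI : Nonempty (Fin n) := ⟨⟨0, hn⟩⟩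
    rw [Cardinal.mk_finset_of_infinite]
    exact (MvPolynomial.cardinalMk_le_max_lift (σ := Fin n) (R := R)).trans (by simp [hω, (Cardinal.natCast_le_aleph0).trans hω])

end Groth.Agent.S6375
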