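import Groth.Statements.S6377
import Mathlib
import Groth.Agent.TorVanish.Flat

set_option autoImplicit false
universe u
open CategoryTheory
open scoped TensorProduct
open CAlg

namespace Groth.Agent.S6377

/-- Let A be a ring, M an A-module and I = (f_1, ..., f_r) an ideal generated by r ≥ 1 elements. If (1)
M_{f_i} is flat over A_{f_i} for each i, (2) M/IM is flat over A/I, and (3) Tor_i^A(M, A/I) = 0 for
i = 1, ..., r + 1, then M is flat over A. (The published statement adds the same with 'faithfully
flat', whose proof it omits; that variant is not included.) -/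
theorem result (A : Type u) [CommRing A] (M : Type u) [AddCommGroup M]
    [Module A M] {r : ℕ} (hr : 1 ≤ r) (f : Fin r → A)
    (h1 : ∀ i, Module.Flat (Localization.Away (f i)) (LocalizedModule (Submonoid.powers (f i)) M))
    (h2 : Module.Flat (A ⧸ Ideal.span (Set.range f)) ((A ⧸ Ideal.span (Set.range f)) ⊗[A] M))
    (h3 : ∀ i : ℕ, 1 ≤ i → i ≤ r + 1 →
      Limits.IsZero (((CategoryTheory.Tor (ModuleCat.{u} A) i).obj (ModuleCat.of A M)).obj (ModuleCat.of A (A ⧸ Ideal.span (Set.range f))))) :
    Module.Flat A M := by
  exact Groth.Agent.TorVanish.flat_of_tor_vanishes M f h1 h2 h3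

end Groth.Agent.S6377
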