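import Groth.Statements.S6378
import Mathlib
import Groth.Agent.TorBridge.Basic
import Groth.Agent.CAlgOdd.FlatDescFinite

set_option autoImplicit false
universe u
open CategoryTheory
open CAlg

namespace Groth.Agent.S6378

/-- Let (R, m, κ) be a local ring and M an R-module with Tor_1^R(κ, M) = 0. Then Tor_1^R(N, M) = 0 for
every finite length R-module N. -/
theorem result (R : Type u) [CommRing R] [IsLocalRing R]
    (M : Type u) [AddCommGroup M] [Module R M]
    (h : Limits.IsZero (((CategoryTheory.Tor (ModuleCat.{u} R) 1).obj (ModuleCat.of R (IsLocalRing.ResidueField R))).obj (ModuleCat.of R M)))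
    (N : Type u) [AddCommGroup N] [Module R N] (hN : IsFiniteLength R N) :
    Limits.IsZero (((CategoryTheory.Tor (ModuleCat.{u} R) 1).obj (ModuleCat.of R N)).obj (ModuleCat.of R M)) := by
  obtain ⟨hNoeth, hArt⟩ := isFiniteLength_iff_isNoetherian_isArtinian.1 hN
  let m := IsLocalRing.maximalIdeal R
  obtain ⟨k, hk⟩ := IsArtinian.monotone_stabilizes (R := R) (M := N)
    ⟨fun n => OrderDual.toDual (m ^ n • ⊤ : Submodule R N), fun a b hab =>
      Submodule.smul_mono_left (Ideal.pow_le_pow_right hab)⟩
  have hk' : m ^ k • (⊤ : Submodule R N) = ⊥ := by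
    refine Submodule.eq_bot_of_le_smul_of_le_jacobson_bot m _ (IsNoetherian.noetherian _) ?_
      (IsLocalRing.maximalIdeal_le_jacobson _)
    rw [← Submodule.mul_smul, ← pow_succ']
    exact le_of_eq (congrArg OrderDual.ofDual (hk (k + 1) (Nat.le_succ k)))
  let q := Finsupp.linearCombination R (id : N → N)
  have hq : Function.Surjective q := Finsupp.linearCombination_id_surjective R N
  rw [TorBridge.isZero_tor_one_iff M N q hq]
  have hm := (TorBridge.isZero_tor_one_iff M (IsLocalRing.ResidueField R)
    (Submodule.mkQ (IsLocalRing.maximalIdeal R)) (Submodule.mkQ_surjective _)).1 h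
  replace hm : Function.Injective (m.subtype.rTensor M) := by
    have e : LinearMap.ker (Submodule.mkQ m) = m := Submodule.ker_mkQ m
    exact (fun (K : Submodule R R) (e : K = m) (h : Function.Injective (K.subtype.rTensor M)) => e ▸ h) _ e hm
  refine CAlgOdd.FlatDesc.rTensor_injective_of_pow_smul_le M m hm (LocalCrit.keepsInjective_of_isMaximal m M) k _ ?_
  rw [Submodule.smul_le]
  intro a ha x _
  rw [LinearMap.mem_ker, map_smul, ← Submodule.mem_bot R, ← hk']
  exact Submodule.smul_mem_smul ha Submodule.mem_top

end Groth.Agent.S6378
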