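import Groth.Statements.S6379
import Groth.Agent.CAlgUI.FlatML

set_option autoImplicit false
universe u
open scoped TensorProduct
open CAlg

namespace Groth.Agent.S6379

/-- Let M be a flat Mittag-Leffler module over a commutative ring R, F an R-module and x ∈ F ⊗_R M. Then
among the submodules F' of F with x in the image of F' ⊗ M → F ⊗ M there is a smallest one, and it
is a finitely generated module. -/
theorem result (R : Type u) [CommRing R] (M : Type u)
    [AddCommGroup M] [Module R M] [Module.Flat R M] (hM : CAlg.IsMittagLeffler R M)
    (F : Type u) [AddCommGroup F] [Module R F] (x : F ⊗[R] M) :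
    ∃ F' : Submodule R F, F'.FG ∧ x ∈ LinearMap.range (F'.subtype.rTensor M) ∧
      ∀ F'' : Submodule R F, x ∈ LinearMap.range (F''.subtype.rTensor M) → F' ≤ F'' := by
  exact Groth.Agent.CAlgUI.exists_smallest hM x

end Groth.Agent.S6379
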