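import Groth.Statements.S6381
import Mathlib
import Groth.Agent.CAlgOdd.FiniteResidue

set_option autoImplicit false
universe u
open CAlg

namespace Groth.Agent.S6381

/-- Let R be a ring, p ⊆ R a prime and L a finite extension of the residue field κ(p). Then one can find
a ring map R → S, with S finite free over R, for which q = pS is a prime of S and the residue field
κ(q) is isomorphic to L over κ(p) (stated as a ring isomorphism κ(q) ≅ L compatible with the maps
from R, which determines compatibility with κ(p)). -/
theorem result (R : Type u) [CommRing R] (p : Ideal R) [p.IsPrime]
    (L : Type u) [Field L] [Algebra p.ResidueField L] [FiniteDimensional p.ResidueField L]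
    [Algebra R L] [IsScalarTower R p.ResidueField L] :
    ∃ (S : Type u) (_ : CommRing S) (_ : Algebra R S) (_ : Module.Finite R S) (_ : Module.Free R S)
      (_ : (p.map (algebraMap R S)).IsPrime)
      (e : (p.map (algebraMap R S)).ResidueField ≃+* L),
      ∀ r : R, e (algebraMap R (p.map (algebraMap R S)).ResidueField r) = algebraMap R L r := by
  exact Groth.Agent.CAlgOdd.FiniteResidue.exists_residueField p

end Groth.Agent.S6381
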