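import Groth.Statements.S6382
import Mathlib
import Groth.Agent.LocalCrit.Flatness

set_option autoImplicit false
universe u
open CAlg

namespace Groth.Agent.S6382

/-- Consider a commutative square of local rings and local homomorphisms R → S, R → R', S → S', R' → S',
and a finite S-module M. Assume the maps R → R' and S → S' are flat, M is flat over R, the maximal
ideal of R generates the maximal ideal of R', and R', S' are Noetherian. Then M' = M ⊗_S S' (any
base change of M along S → S') is flat over R'. -/
theorem result (R S R' S' : Type u) [CommRing R] [CommRing S]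
    [CommRing R'] [CommRing S'] [IsLocalRing R] [IsLocalRing S] [IsLocalRing R'] [IsLocalRing S']
    [Algebra R S] [Algebra R R'] [Algebra S S'] [Algebra R' S'] [Algebra R S']
    [IsScalarTower R S S'] [IsScalarTower R R' S']
    [IsLocalHom (algebraMap R S)] [IsLocalHom (algebraMap R R')] [IsLocalHom (algebraMap S S')]
    [IsLocalHom (algebraMap R' S')] [Module.Flat R R'] [Module.Flat S S']
    [IsNoetherianRing R'] [IsNoetherianRing S']
    (hm : (IsLocalRing.maximalIdeal R).map (algebraMap R R') = IsLocalRing.maximalIdeal R')
    (M : Type u) [AddCommGroup M] [Module S M] [Module R M] [IsScalarTower R S M] [Module.Finite S M]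
    [Module.Flat R M]
    (M' : Type u) [AddCommGroup M'] [Module S' M'] [Module S M'] [IsScalarTower S S' M'] [Module R' M']
    [IsScalarTower R' S' M'] (j : M →ₗ[S] M') (hj : IsBaseChange S' j) :
    Module.Flat R' M' := by
  open TensorProduct in
  let m := IsLocalRing.maximalIdeal R
  let m' := IsLocalRing.maximalIdeal R'
  -- `M'` is finite over `S'` and flat over `R`
  haveI : Module.Finite S' M' := Module.Finite.equiv hj.equiv
  letI : Module R M' := Module.compHom M' (algebraMap R R')
  haveI : IsScalarTower R R' M' := IsScalarTower.of_compHom R R' M'
  haveI : IsScalarTower R S' M' := IsScalarTower.of_algebraMap_smul fun r x => by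
    rw [IsScalarTower.algebraMap_apply R R' S', algebraMap_smul]
    rfl
  haveI : IsScalarTower R S M' := IsScalarTower.of_algebraMap_smul fun r x => by
    rw [← algebraMap_smul S' (algebraMap R S r) x, ← IsScalarTower.algebraMap_apply R S S', algebraMap_smul]
  haveI hflatM' : Module.Flat R M' := by
    rw [Module.Flat.iff_rTensor_injective']
    intro J
    have h1 : Function.Injective (J.subtype.lTensor M) :=
      Module.Flat.lTensor_preserves_injective_linearMap _ J.subtype_injective
    let u : TensorProduct R M J →ₗ[S] TensorProduct R M R :=
      TensorProduct.AlgebraTensorModule.map (LinearMap.id : M →ₗ[S] M) J.subtype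
    have h2 : Function.Injective (u.lTensor S') :=
      Module.Flat.lTensor_preserves_injective_linearMap u h1
    let e : ∀ (X : Type u) [AddCommGroup X] [Module R X],
        TensorProduct S S' (TensorProduct R M X) ≃ₗ[R] TensorProduct R X M' := fun X _ _ =>
      ((TensorProduct.AlgebraTensorModule.assoc R S S S' M X).symm.restrictScalars R).trans
        ((TensorProduct.AlgebraTensorModule.congr (hj.equiv.restrictScalars R) (LinearEquiv.refl R X)).trans
          (TensorProduct.comm R M' X))
    have he : ∀ z, J.subtype.rTensor M' (e J z) = e R (u.lTensor S' z) := by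
      intro z
      induction z using TensorProduct.induction_on with
      | zero => simp
      | add a b ha hb => simp only [map_add, ha, hb]
      | tmul s w =>
        induction w using TensorProduct.induction_on with
        | zero => simp
        | add a b ha hb => simp only [TensorProduct.tmul_add, map_add, ha, hb]
        | tmul x a => simp [e, u]
    intro x y hxy
    obtain ⟨x, rfl⟩ := (e J).surjective x
    obtain ⟨y, rfl⟩ := (e J).surjective y
    rw [he, he] at hxy
    exact congrArg _ (h2 ((e R).injective hxy))
  -- the local criterion over `R'`
  have h1 : Function.Injective ((m'.subtype).rTensor M') := by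
    let ψ : TensorProduct R R' m →ₗ[R'] R' :=
      (TensorProduct.AlgebraTensorModule.rid R R' R').toLinearMap ∘ₗ
        TensorProduct.AlgebraTensorModule.map (LinearMap.id : R' →ₗ[R'] R') m.subtype
    have hψ : ∀ (a : R') (b : m), ψ (a ⊗ₜ b) = algebraMap R R' b * a := fun a b => by simp [ψ, Algebra.smul_def]
    have hrange : ∀ z, ψ z ∈ m' := by
      intro z
      induction z using TensorProduct.induction_on with
      | zero => simp
      | add a b ha hb => rw [map_add]; exact add_mem ha hb
      | tmul a b =>
        rw [hψ]
        refine m'.mul_mem_right a ?_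
        rw [show m' = Ideal.map (algebraMap R R') m from hm.symm]
        exact Ideal.mem_map_of_mem _ b.2
    let π : TensorProduct R R' m →ₗ[R'] m' := ψ.codRestrict m' hrange
    have hπ : Function.Surjective π := by
      have hle : m' ≤ LinearMap.range ψ := by
        rw [show m' = Ideal.map (algebraMap R R') m from hm.symm, Ideal.map, Ideal.span, Submodule.span_le]
        rintro _ ⟨b, hb, rfl⟩
        exact ⟨(1 : R') ⊗ₜ ⟨b, hb⟩, by rw [hψ, mul_one]⟩
      rintro ⟨x, hx⟩
      obtain ⟨z, rfl⟩ := hle hx
      exact ⟨z, rfl⟩
    let c : TensorProduct R' M' (TensorProduct R R' m) ≃ₗ[R'] TensorProduct R M' m :=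
      TensorProduct.AlgebraTensorModule.cancelBaseChange R R' R' M' m
    have hc : ∀ z, TensorProduct.rid R' M' ((ψ.lTensor M') z) =
        TensorProduct.rid R M' ((m.subtype.lTensor M') (c z)) := by
      intro z
      induction z using TensorProduct.induction_on with
      | zero => simp
      | add a b ha hb => simp only [map_add, ha, hb]
      | tmul x w =>
        induction w using TensorProduct.induction_on with
        | zero => simp
        | add a b ha hb => simp only [TensorProduct.tmul_add, map_add, ha, hb]
        | tmul a b => simp [c, hψ, mul_smul]
    have hinjm : Function.Injective (m.subtype.lTensor M') :=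
      Module.Flat.lTensor_preserves_injective_linearMap _ m.subtype_injective
    have hψinj : Function.Injective (ψ.lTensor M') := fun a b hab =>
      c.injective (hinjm ((TensorProduct.rid R M').injective (by rw [← hc, ← hc, hab])))
    rw [← LinearMap.lTensor_inj_iff_rTensor_inj]
    intro a b hab
    obtain ⟨a, rfl⟩ := LinearMap.lTensor_surjective M' hπ a
    obtain ⟨b, rfl⟩ := LinearMap.lTensor_surjective M' hπ b
    rw [← LinearMap.comp_apply, ← LinearMap.lTensor_comp, LinearMap.subtype_comp_codRestrict,
      ← LinearMap.comp_apply, ← LinearMap.lTensor_comp, LinearMap.subtype_comp_codRestrict] at hab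
    rw [hψinj hab]
  refine LocalCrit.flat_of_le_jacobson (B := S') m' ?_ h1 (LocalCrit.keepsInjective_of_isMaximal m' M')
  refine le_trans (Ideal.map_le_iff_le_comap.2 fun x hx => ?_) (IsLocalRing.maximalIdeal_le_jacobson _)
  exact fun hu => hx (isUnit_of_map_unit (algebraMap R' S') x hu)

end Groth.Agent.S6382
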