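import Groth.Statements.S6386
import Mathlib

set_option autoImplicit false
universe u
open CAlg

namespace Groth.Agent.S6386

/-- The key step of its proof: let A be a ring, κ = max(|A|, ℵ₀), and B a flat A-algebra. Then every
A-subalgebra E ⊆ B with at most κ elements lies inside a flat A-subalgebra B' ⊆ B with at most κ
elements. Consequently B is the filtered colimit (union) of its flat A-subalgebras of cardinality at
most κ. -/
theorem result (A B : Type u) [CommRing A] [CommRing B] [Algebra A B]
    [Module.Flat A B] (E : Subalgebra A B) (hE : Cardinal.mk E ≤ max (Cardinal.mk A) Cardinal.aleph0) :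
    ∃ B' : Subalgebra A B, E ≤ B' ∧ Module.Flat A B' ∧ Cardinal.mk B' ≤ max (Cardinal.mk A) Cardinal.aleph0 := by
  classical
  set κ := max (Cardinal.mk A) Cardinal.aleph0 with hκ
  have hA : Cardinal.mk A ≤ κ := le_max_left _ _
  have hω : Cardinal.aleph0 ≤ κ := le_max_right _ _
  -- witnesses for the relations inside a subalgebra
  have hwit : ∀ (F : Subalgebra A B) (p : List (A × F)), ∃ (y : ℕ → B),
      (∑ i : Fin p.length, p[i].1 • (p[i].2 : B)) = 0 →
      ∃ (k : ℕ) (a : Fin p.length → Fin k → A), (∀ i : Fin p.length, (p[i].2 : B) = ∑ j, a i j • y j) ∧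
        ∀ j, ∑ i : Fin p.length, p[i].1 * a i j = 0 := by
    intro F p
    by_cases hp : (∑ i : Fin p.length, p[i].1 • (p[i].2 : B)) = 0
    · obtain ⟨k, a, y, h1, h2⟩ := Module.Flat.isTrivialRelation_of_sum_smul_eq_zero
        (f := fun i : Fin p.length => p[i].1) (x := fun i => (p[i].2 : B)) hp
      refine ⟨fun n => if h : n < k then y ⟨n, h⟩ else 0, fun _ => ⟨k, a, fun i => ?_, h2⟩⟩
      refine (h1 i).trans ?_
      simp
    · exact ⟨0, fun h => absurd h hp⟩
  choose y hy using hwit
  let next : Subalgebra A B → Subalgebra A B := fun F =>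
    F ⊔ Algebra.adjoin A (Set.range fun q : List (A × F) × ℕ => y F q.1 q.2)
  have hnext : ∀ F : Subalgebra A B, Cardinal.mk F ≤ κ → Cardinal.mk (next F) ≤ κ := by
    intro F hF
    have hs : Cardinal.mk (Set.range fun q : List (A × F) × ℕ => y F q.1 q.2) ≤ κ := by
      refine Cardinal.mk_range_le.trans ?_
      rw [Cardinal.mk_prod, Cardinal.lift_uzero, Cardinal.mk_nat, Cardinal.lift_aleph0]
      refine (Cardinal.mul_le_max _ _).trans (max_le (max_le ?_ hω) hω)
      refine (Cardinal.mk_list_le_max _).trans (max_le hω ?_)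
      rw [Cardinal.mk_prod, Cardinal.lift_id, Cardinal.lift_id]
      exact (Cardinal.mul_le_max _ _).trans (max_le (max_le hA hF) hω)
    have hu : Cardinal.mk ((F : Set B) ∪ Set.range fun q : List (A × F) × ℕ => y F q.1 q.2 : Set B) ≤ κ :=
      (Cardinal.mk_union_le _ _).trans ((add_le_add hF hs).trans_eq (Cardinal.add_eq_self hω))
    have : next F = Algebra.adjoin A
        ((F : Set B) ∪ Set.range fun q : List (A × F) × ℕ => y F q.1 q.2) := by
      rw [Algebra.adjoin_union, Algebra.adjoin_eq]
    rw [this]
    exact (Algebra.cardinalMk_adjoin_le A _).trans (max_le (max_le hA hu) hω)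
  let seq : ℕ → Subalgebra A B := fun n => next^[n] E
  have hmono : Monotone seq := monotone_nat_of_le_succ fun n => by
    simp only [seq, Function.iterate_succ_apply', next]
    exact le_sup_left
  have hcard : ∀ n, Cardinal.mk (seq n) ≤ κ := by
    intro n
    induction n with
    | zero => exact hE
    | succ n ih => simp only [seq, Function.iterate_succ_apply']; exact hnext _ ih
  let B' : Subalgebra A B := ⨆ n, seq n
  have hB' : (B' : Set B) = ⋃ n, (seq n : Set B) :=
    Subalgebra.coe_iSup_of_directed hmono.directed_le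
  refine ⟨B', le_iSup seq 0, ?_, ?_⟩
  · refine Module.Flat.of_forall_isTrivialRelation fun {l f x} hfx => ?_
    have hx : ∀ i, ∃ n, (x i : B) ∈ seq n := fun i => by
      have : (x i : B) ∈ (B' : Set B) := (x i).2
      rw [hB'] at this
      simpa using this
    choose n hn using hx
    let N := Finset.univ.sup n
    have hN : ∀ i, (x i : B) ∈ seq N := fun i =>
      hmono (Finset.le_sup (Finset.mem_univ i)) (hn i)
    let p : List (A × seq N) := List.ofFn fun i => (f i, ⟨x i, hN i⟩)
    have hp : p.length = l := List.length_ofFn ..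
    have hget : ∀ i : Fin p.length, p[i] = (f (i.cast hp), ⟨x (i.cast hp), hN _⟩) := fun i => by
      simp [p, Fin.cast]
    have hsum : (∑ i : Fin p.length, p[i].1 • (p[i].2 : B)) = 0 := by
      simp only [hget]
      refine (Fintype.sum_equiv (finCongr hp) _ (fun i => f i • (x i : B)) fun i => rfl).trans ?_
      simpa using congrArg Subtype.val hfx
    obtain ⟨k, a, h1, h2⟩ := hy (seq N) p hsum
    have hmem : ∀ j : Fin k, y (seq N) p j ∈ B' := fun j => by
      refine le_iSup seq (N + 1) ?_
      simp only [seq, Function.iterate_succ_apply', next]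
      exact le_sup_right (a := seq N) (Algebra.subset_adjoin ⟨(p, (j : ℕ)), rfl⟩)
    refine ⟨k, fun i => a (i.cast hp.symm), fun j => ⟨_, hmem j⟩, fun i => Subtype.ext ?_, fun j => ?_⟩
    · have := h1 (i.cast hp.symm)
      simp only [hget] at this
      simpa using this
    · have := h2 j
      simp only [hget] at this
      exact (Fintype.sum_equiv (finCongr hp) _ (fun i => f i * a (i.cast hp.symm) j)
        fun i => rfl).symm.trans this
  · change Cardinal.mk (B' : Set B) ≤ κ
    rw [hB']
    have h := Cardinal.mk_iUnion_le_lift.{u} (fun n : ℕ => (seq n : Set B))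
    simp only [Cardinal.lift_uzero, Cardinal.mk_nat, Cardinal.lift_aleph0] at h
    exact h.trans ((Cardinal.mul_le_max _ _).trans (max_le (max_le hω (ciSup_le' hcard)) hω))

end Groth.Agent.S6386
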