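import Groth.Statements.S6387
import Mathlib
import Groth.Agent.FlatModel.ChainCrit

set_option autoImplicit false
universe u
open CategoryTheory
open CAlg

namespace Groth.Agent.S6387

/-- Let R and S be Noetherian local rings, R → S a local ring map, and m the maximal ideal of R. Take a
bounded complex F_e → … → F_1 → F_0 of finitely generated S-modules, zero to the left of F_e (a
chain complex C with C_j = 0 for j > e) such that every F_j is flat over R and the complex 0 →
F_e/mF_e → … → F_0/mF_0 (C tensored over S with S/mS) is exact at F_e, …, F_1. Then 0 → F_e → … →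
F_0 is exact at F_e, …, F_1 and the cokernel of F_1 → F_0 (the homology of C in degree 0) is flat
over R. -/
theorem result {R S : Type u} [CommRing R] [CommRing S]
    [IsLocalRing R] [IsLocalRing S] [IsNoetherianRing R] [IsNoetherianRing S] [Algebra R S]
    [IsLocalHom (algebraMap R S)] (C : ChainComplex (ModuleCat.{u} S) ℕ) (e : ℕ)
    (hzero : ∀ j, e < j → Limits.IsZero (C.X j)) (hfin : ∀ j, Module.Finite S (C.X j))
    (hflat : ∀ j, Module.Flat R ((ModuleCat.restrictScalars (algebraMap R S)).obj (C.X j)))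
    (hex : ∀ j, 1 ≤ j → j ≤ e →
      (((MonoidalCategory.tensorLeft
          (ModuleCat.of S (S ⧸ (IsLocalRing.maximalIdeal R).map (algebraMap R S)))).mapHomologicalComplex
          (ComplexShape.down ℕ)).obj C).ExactAt j) :
    (∀ j, 1 ≤ j → j ≤ e → C.ExactAt j) ∧
      Module.Flat R ((ModuleCat.restrictScalars (algebraMap R S)).obj (C.homology 0)) := by
  let : ∀ j, Module R (C.X j) := fun j => Module.compHom (C.X j) (algebraMap R S)
  have : ∀ j, IsScalarTower R S (C.X j) := fun j => ⟨fun r s x => by
    show (r • s) • x = algebraMap R S r • s • x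
    rw [Algebra.smul_def, mul_smul]⟩
  have : ∀ j, Module.Flat R (C.X j) := fun j =>
    Module.Flat.of_linearEquiv (M := (ModuleCat.restrictScalars (algebraMap R S)).obj (C.X j))
      { toFun := fun x => x, invFun := fun x => x, map_add' := fun _ _ => rfl, map_smul' := fun _ _ => rfl,
        left_inv := fun _ => rfl, right_inv := fun _ => rfl }
  have : Subsingleton (C.X (e + 1)) := ModuleCat.subsingleton_of_isZero (hzero _ (Nat.lt_succ_self e))
  let I := (IsLocalRing.maximalIdeal R).map (algebraMap R S)
  obtain ⟨hexact, hfl⟩ := Groth.Agent.FlatModel.chain_exact_flat (R := R) (S := S) e (fun j => C.X j)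
    (fun j => (C.d (j + 1) j).hom) (fun j x => by
      show (C.d (j + 2) (j + 1) ≫ C.d (j + 1) j).hom x = 0
      rw [C.d_comp_d]; rfl)
    (fun j hj x hx => by
      have h := hex (j + 1) (by omega) (by omega)
      rw [HomologicalComplex.exactAt_iff' _ (j + 2) (j + 1) j (by simp) (by simp),
        ShortComplex.moduleCat_exact_iff] at h
      obtain ⟨z, hz⟩ := h ((1 : S ⧸ I) ⊗ₜ[S] x) ((S0393.one_tmul_eq_zero_iff I _).2 hx)
      obtain ⟨y, rfl⟩ := S0393.exists_one_tmul (N := C.X (j + 2)) I z
      have hz' : (1 : S ⧸ I) ⊗ₜ[S] (C.d (j + 2) (j + 1)).hom y = (1 : S ⧸ I) ⊗ₜ[S] x := hz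
      have h2 : x - (C.d (j + 2) (j + 1)).hom y ∈ I • (⊤ : Submodule S (C.X (j + 1))) := by
        rw [← S0393.one_tmul_eq_zero_iff, TensorProduct.tmul_sub, hz', sub_self]
      rw [← add_sub_cancel ((C.d (j + 2) (j + 1)).hom y) x]
      exact Submodule.add_mem_sup (LinearMap.mem_range_self _ y) h2)
  refine ⟨fun j h1 h2 => ?_, ?_⟩
  · obtain ⟨j, rfl⟩ : ∃ i, j = i + 1 := ⟨j - 1, by omega⟩
    rw [HomologicalComplex.exactAt_iff' _ (j + 2) (j + 1) j (by simp) (by simp), ShortComplex.moduleCat_exact_iff]
    intro x hx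
    exact LinearMap.mem_range.1 ((hexact j (by omega)).le (LinearMap.mem_ker.2 hx))
  · let e₁ : C.homology 0 ≅ ModuleCat.of S (C.X 0 ⧸ LinearMap.range (C.d 1 0).hom) :=
      C.isoHomologyι₀ ≪≫ ((C.opcyclesIsCokernel 1 0 (by simp)).coconePointUniqueUpToIso
        (ModuleCat.cokernelIsColimit (C.d 1 0)))
    refine Module.Flat.of_linearEquiv (M := C.X 0 ⧸ LinearMap.range (C.d 1 0).hom) ?_
    exact
      { toFun := fun x => e₁.hom.hom x
        invFun := fun x => e₁.inv.hom x
        map_add' := fun x y => map_add e₁.hom.hom x y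
        map_smul' := fun r x => (e₁.hom.hom.map_smul (algebraMap R S r) x).trans (algebraMap_smul S r _)
        left_inv := fun x => e₁.hom_inv_id_apply x
        right_inv := fun x => e₁.inv_hom_id_apply x }

end Groth.Agent.S6387
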