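import Groth.Statements.S6388
import Groth.Agent.CAlgUI.Flat

set_option autoImplicit false
universe u
open CAlg

namespace Groth.Agent.S6388

/-- Let f : M → N and g : M → M' be maps of R-modules and let N' be their pushout, realised as the
quotient of M' × N by the submodule of elements (g x, -f x). Then g dominates f — for every module Q
the kernel of f ⊗ id_Q is contained in the kernel of g ⊗ id_Q — if and only if the canonical map M'
→ N' is universally injective. -/
theorem result (R : Type u) [CommRing R] {M N M' : Type u}
    [AddCommGroup M] [Module R M] [AddCommGroup N] [Module R N] [AddCommGroup M'] [Module R M']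
    (f : M →ₗ[R] N) (g : M →ₗ[R] M') :
    (∀ (Q : Type u) [AddCommGroup Q] [Module R Q], LinearMap.ker (f.rTensor Q) ≤ LinearMap.ker (g.rTensor Q)) ↔
      CAlgX.UniversallyInjective R
        ((LinearMap.range (g.prod (-f))).mkQ ∘ₗ LinearMap.inl R M' N) := by
  exact Groth.Agent.CAlgUI.dom_iff_ui_toPushout f g

end Groth.Agent.S6388
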