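import Groth.Statements.S6390
import Groth.Agent.CAlgUI.Devissage
import Mathlib.SetTheory.Cardinal.Order

set_option autoImplicit false
universe u
open scoped Classical
open CAlg

namespace Groth.Agent.S6390

/-- An R-module M is a direct sum of countably generated modules if and only if it admits a Kaplansky
dévissage, i.e. an increasing family of submodules (M_s) indexed by a well-ordered set S with M_s =
⋃_{t<s} M_t at non-successor indices (so the first term is 0), ⋃_s M_s = M, and, whenever t is the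
successor of s, M_s a direct summand of M_t with M_t/M_s countably generated. -/
theorem result (R : Type u) [CommRing R] (M : Type u)
    [AddCommGroup M] [Module R M] :
    (∃ (ι : Type u) (N : ι → Submodule R M), DirectSum.IsInternal N ∧ ∀ i, CAlg.IsCountablyGenerated R (N i)) ↔
      ∃ (S : Type u) (_ : LinearOrder S) (_ : WellFoundedLT S) (Mf : S → Submodule R M), Monotone Mf ∧
        (∀ s : S, Order.IsSuccPrelimit s → Mf s = ⨆ t : {t : S // t < s}, Mf t.1) ∧
        (⨆ s, Mf s) = ⊤ ∧
        (∀ s t : S, s ⋖ t → ∃ C : Submodule R M, Mf s ⊓ C = ⊥ ∧ Mf s ⊔ C = Mf t ∧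
          CAlg.IsCountablyGenerated R (↥(Mf t) ⧸ Submodule.comap (Mf t).subtype (Mf s))) := by
  constructor
  · rintro ⟨ι, N, hN, hc⟩
    let : LinearOrder ι := WellOrderingRel.isWellOrder.linearOrder
    have : WellFoundedLT ι := ⟨WellOrderingRel.isWellOrder.wf⟩
    obtain ⟨Mf, hmono, hlim, htop, hstep⟩ :=
      Groth.Agent.CAlgUI.exists_devissage_of_isInternal N (by convert hN)
    refine ⟨WithTop ι, inferInstance, inferInstance, Mf, hmono, hlim, htop, fun s t hst => ?_⟩
    obtain ⟨i, h1, h2⟩ := hstep s t hst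
    exact ⟨N i, h1, h2, Groth.Agent.CAlgUI.isCountablyGenerated_of_surjective
      (Groth.Agent.CAlgUI.quotientEquivCompl (Mf s) (Mf t) (N i) h1 h2).symm.toLinearMap
      (LinearEquiv.surjective _) (hc i)⟩
  · rintro ⟨S, _, _, Mf, hmono, hlim, htop, hstep⟩
    choose C hC₁ hC₂ hC₃ using hstep
    refine ⟨{p : S × S // p.1 ⋖ p.2}, fun p => C p.1.1 p.1.2 p.2, ?_, fun p => ?_⟩
    · convert Groth.Agent.CAlgUI.devissage_isInternal Mf hmono hlim htop
        (fun p => C p.1.1 p.1.2 p.2) (fun p => hC₁ _ _ p.2) (fun p => hC₂ _ _ p.2)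
    · exact Groth.Agent.CAlgUI.isCountablyGenerated_of_surjective
        (Groth.Agent.CAlgUI.quotientEquivCompl _ _ _ (hC₁ _ _ p.2) (hC₂ _ _ p.2)).toLinearMap
        (LinearEquiv.surjective _) (hC₃ _ _ p.2)

end Groth.Agent.S6390
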