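import Groth.Statements.S6391
import Mathlib
import Groth.Agent.Hensel.Pair

set_option autoImplicit false
universe u
open CAlg

namespace Groth.Agent.S6391

/-- Let R be a ring, S and S' henselian local rings which are filtered colimits of étale R-algebras, and
K a field together with R-algebra maps S → K and S' → K identifying K with the residue field of each
(surjective with kernel the maximal ideal). Then exactly one isomorphism of R-algebras S → S'
commutes with the two maps to K. -/
theorem result (R S S' K : Type u) [CommRing R]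
    [CommRing S] [CommRing S'] [Field K] [HenselianLocalRing S] [HenselianLocalRing S']
    [Algebra R S] [Algebra R S'] [Algebra R K] (hS : EtPBC.IsIndEtale R S) (hS' : EtPBC.IsIndEtale R S')
    (u : S →ₐ[R] K) (u' : S' →ₐ[R] K) (hu : Function.Surjective u) (hu' : Function.Surjective u')
    (hku : RingHom.ker u.toRingHom = IsLocalRing.maximalIdeal S)
    (hku' : RingHom.ker u'.toRingHom = IsLocalRing.maximalIdeal S') :
    ∃! e : S ≃ₐ[R] S', u'.comp (e : S →ₐ[R] S') = u := by
  open CategoryTheory CategoryTheory.Limits in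
  have key : ∀ (B : Type u) [CommRing B] [Algebra R B], EtPBC.IsIndEtale R B →
      ∀ (C : Type u) [CommRing C] [Algebra R C] (J : Ideal C) [HenselianRing C J]
        (σ : B →ₐ[R] C ⧸ J), ∃! g : B →ₐ[R] C, (Ideal.Quotient.mkₐ R J).comp g = σ := by
    intro B _ _ hB C _ _ J _ σ
    obtain ⟨Jc, _, _, D, c, hc, hD, ⟨i⟩⟩ := hB
    let stage : ∀ j, (D.obj j).right →+* B := fun j => (c.ι.app j ≫ i.hom).right.hom
    have hw : ∀ j (r : R), stage j ((D.obj j).hom.hom r) = algebraMap R B r := fun j r =>
      ConcreteCategory.congr_hom (Under.w (c.ι.app j ≫ i.hom)) r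
    have hex : ∀ j, ∃! f : (D.obj j).right →+* C, f.comp (D.obj j).hom.hom = algebraMap R C ∧
        ∀ x, Ideal.Quotient.mk J (f x) = σ (stage j x) := by
      intro j
      letI := (D.obj j).hom.hom.toAlgebra
      haveI : Algebra.Etale R (D.obj j).right := hD j
      let σj : (D.obj j).right →ₐ[R] C ⧸ J :=
        { (σ : B →+* C ⧸ J).comp (stage j) with
          commutes' := fun r => by
            show σ (stage j ((D.obj j).hom.hom r)) = _
            rw [hw, σ.commutes] }
      obtain ⟨τ, hτ, huniq⟩ := Groth.Agent.Hensel.existsUnique_etale_lift_of_algebra J σj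
      refine ⟨τ.toRingHom, ⟨RingHom.ext τ.commutes, fun x => AlgHom.congr_fun hτ x⟩, ?_⟩
      rintro f ⟨hf, hf'⟩
      exact congrArg AlgHom.toRingHom
        (huniq ({ f with commutes' := fun r => RingHom.congr_fun hf r } : (D.obj j).right →ₐ[R] C)
          (AlgHom.ext hf'))
    choose f hf huniq using hex
    have hnat : ∀ {j k} (a : j ⟶ k), (f k).comp (D.map a).right.hom = f j := by
      intro j k a
      refine huniq j _ ⟨?_, fun x => ?_⟩
      · rw [RingHom.comp_assoc, ← (hf k).1]
        exact congrArg (RingHom.comp (f k)) (congrArg CommRingCat.Hom.hom (Under.w (D.map a)))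
      · rw [RingHom.comp_apply, (hf k).2]
        exact congrArg σ (ConcreteCategory.congr_hom
          (congrArg (fun m => m.right) (c.w_assoc a i.hom)) x)
    let c' : Cocone D :=
      { pt := Under.mk (CommRingCat.ofHom (algebraMap R C))
        ι :=
          { app := fun j => Under.homMk (CommRingCat.ofHom (f j)) (CommRingCat.hom_ext (hf j).1)
            naturality := fun j k a => by
              apply Under.UnderMorphism.ext
              apply CommRingCat.hom_ext
              exact hnat a } }
    have hc' : IsColimit c := hc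
    let m : Under.mk (CommRingCat.ofHom (algebraMap R B)) ⟶ c'.pt := i.inv ≫ hc.desc c'
    let g : B →ₐ[R] C :=
      { m.right.hom with commutes' := fun r => ConcreteCategory.congr_hom (Under.w m) r }
    have hext : ∀ (T : Type u) [CommRing T] [Algebra R T] (p q : B →ₐ[R] T),
        (∀ j x, p (stage j x) = q (stage j x)) → p = q := by
      intro T _ _ p q h
      let up : ∀ p : B →ₐ[R] T, Under.mk (CommRingCat.ofHom (algebraMap R B)) ⟶
          Under.mk (CommRingCat.ofHom (algebraMap R T)) := fun p =>
        Under.homMk (CommRingCat.ofHom p.toRingHom) (CommRingCat.hom_ext p.comp_algebraMap)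
      have h1 : i.hom ≫ up p = i.hom ≫ up q := hc.hom_ext fun j => by
        apply Under.UnderMorphism.ext
        apply CommRingCat.hom_ext
        exact RingHom.ext fun x => h j x
      have h2 := (cancel_epi i.hom).mp h1
      exact AlgHom.ext fun x => ConcreteCategory.congr_hom (congrArg (fun m => m.right) h2) x
    have hg : ∀ j x, g (stage j x) = f j x := by
      intro j x
      have h1 : (c.ι.app j ≫ i.hom) ≫ m = c'.ι.app j := by
        simp [m]
      exact ConcreteCategory.congr_hom (congrArg (fun m => m.right) h1) x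
    refine ⟨g, hext _ _ _ fun j x => ?_, fun g' hg' => hext _ _ _ fun j x => ?_⟩
    · rw [AlgHom.comp_apply, hg]
      exact (hf j).2 x
    · rw [hg]
      refine RingHom.congr_fun (huniq j ((g' : B →+* C).comp (stage j)) ⟨RingHom.ext fun r => ?_,
        fun y => AlgHom.congr_fun hg' (stage j y)⟩) x
      show g' (stage j ((D.obj j).hom.hom r)) = _
      rw [hw, g'.commutes]
  have lift : ∀ (T : Type u) [CommRing T] [Algebra R T] [HenselianLocalRing T] (v : T →ₐ[R] K),
      Function.Surjective v → RingHom.ker v.toRingHom = IsLocalRing.maximalIdeal T →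
      ∀ (B : Type u) [CommRing B] [Algebra R B], EtPBC.IsIndEtale R B → ∀ w : B →ₐ[R] K,
        ∃! g : B →ₐ[R] T, v.comp g = w := by
    intro T _ _ _ v hv hkv B _ _ hB w
    let q : (T ⧸ IsLocalRing.maximalIdeal T) →ₐ[R] K :=
      Ideal.Quotient.liftₐ _ v (fun a ha => (hkv.ge ha : a ∈ RingHom.ker v.toRingHom))
    have hq : Function.Bijective q := by
      refine ⟨(injective_iff_map_eq_zero q).mpr fun z hz => ?_, fun y => ?_⟩
      · obtain ⟨z, rfl⟩ := Ideal.Quotient.mk_surjective z
        exact Ideal.Quotient.eq_zero_iff_mem.mpr (hkv.le hz)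
      · obtain ⟨z, rfl⟩ := hv y
        exact ⟨Ideal.Quotient.mk _ z, rfl⟩
    let e := AlgEquiv.ofBijective q hq
    obtain ⟨g, hg, huniq⟩ := key B hB T (IsLocalRing.maximalIdeal T) (e.symm.toAlgHom.comp w)
    refine ⟨g, AlgHom.ext fun x => ?_, fun g' hg' => huniq g' (AlgHom.ext fun x => ?_)⟩
    · exact ((congrArg e (AlgHom.congr_fun hg x)).trans (e.apply_symm_apply _) :)
    · refine e.injective ?_
      rw [AlgHom.comp_apply, AlgHom.comp_apply]
      exact (AlgHom.congr_fun hg' x).trans (e.apply_symm_apply _).symm
  obtain ⟨g, hg, hguniq⟩ := lift S' u' hu' hku' S hS u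
  obtain ⟨g', hg', -⟩ := lift S u hu hku S' hS' u'
  have h1 : g.comp g' = AlgHom.id R S' := (lift S' u' hu' hku' S' hS' u').unique
    (by rw [← AlgHom.comp_assoc, hg, hg']) (AlgHom.comp_id _)
  have h2 : g'.comp g = AlgHom.id R S := (lift S u hu hku S hS u).unique
    (by rw [← AlgHom.comp_assoc, hg', hg]) (AlgHom.comp_id _)
  refine ⟨AlgEquiv.ofAlgHom g g' h1 h2, hg, fun e he => AlgEquiv.coe_algHom_injective ?_⟩
  exact hguniq _ he

end Groth.Agent.S6391
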