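import Groth.Statements.S6392
import Groth.Agent.CAlgUI.Colim
import Groth.Agent.CAlgUI.Closure
import Groth.Agent.CAlgUI.Limit

set_option autoImplicit false
universe u
open CAlg

namespace Groth.Agent.S6392

/-- Suppose M is the colimit of finitely presented R-modules G_i along a directed system over a nonempty
directed index set (transition maps f_ij), and M is both Mittag-Leffler and countably generated.
Then some countable directed subset I' of the indices already computes M: the canonical map from the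
colimit of the G_i with i ∈ I' to M is bijective. -/
theorem result (R : Type u) [CommRing R]
    {ι : Type u} [Preorder ι] [IsDirected ι (· ≤ ·)] [Nonempty ι] [DecidableEq ι] (G : ι → Type u)
    [∀ i, AddCommGroup (G i)] [∀ i, Module R (G i)] [∀ i, Module.FinitePresentation R (G i)]
    (f : ∀ i j, i ≤ j → G i →ₗ[R] G j) [DirectedSystem G fun i j h => f i j h]
    (hML : CAlg.IsMittagLeffler R (Module.DirectLimit G f))
    (hc : CAlg.IsCountablyGenerated R (Module.DirectLimit G f)) :
    ∃ I' : Set ι, I'.Countable ∧ DirectedOn (· ≤ ·) I' ∧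
      Function.Bijective (Module.DirectLimit.lift R I' (fun i : I' => G i.1)
        (fun (i j : I') (h : i ≤ j) => f i.1 j.1 h)
        (fun i : I' => Module.DirectLimit.of R ι G f i.1)
        (fun (i j : I') (h : i ≤ j) (x : G i.1) => Module.DirectLimit.of_f)) := by
  classical
  obtain ⟨s, hs, hspan⟩ := hc
  choose j hij hfac using Groth.Agent.CAlgUI.ml_directLimit_iff.1 hML
  choose ub hub₁ hub₂ using fun a b : ι => exists_ge_ge a b
  choose idx x hx using fun m : Module.DirectLimit G f => Module.DirectLimit.exists_of m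
  obtain ⟨i₀⟩ := ‹Nonempty ι›
  obtain ⟨S, hS₀, hSc, hSj, hSub⟩ :=
    Groth.Agent.CAlgUI.exists_countable_closed (insert i₀ (idx '' s)) ((hs.image _).insert _) j ub
  have hdir : DirectedOn (· ≤ ·) S := fun a ha b hb => ⟨ub a b, hSub a ha b hb, hub₁ a b, hub₂ a b⟩
  haveI : Nonempty S := ⟨⟨i₀, hS₀ (Set.mem_insert _ _)⟩⟩
  haveI : IsDirected S (· ≤ ·) :=
    ⟨fun a b => ⟨⟨ub a b, hSub a a.2 b b.2⟩, hub₁ _ _, hub₂ _ _⟩⟩
  refine ⟨S, hSc, hdir, ?_, ?_⟩
  · refine Groth.Agent.CAlgUI.lift_injective_of_eventually_zero (fun i : S => G i.1)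
      (fun (a b : S) (h : a ≤ b) => f a.1 b.1 h) (fun i : S => Module.DirectLimit.of R ι G f i.1)
      (fun (a b : S) (h : a ≤ b) (y : G a.1) => Module.DirectLimit.of_f) ?_
    intro i y hy
    obtain ⟨k, hik, hk⟩ := Module.DirectLimit.of.zero_exact hy
    obtain ⟨h, hh⟩ := hfac i.1 k hik
    exact ⟨⟨j i.1, hSj i.1 i.2⟩, hij i.1, by
      show f i.1 (j i.1) (hij i.1) y = 0
      rw [hh, LinearMap.comp_apply, hk, map_zero]⟩
  · rw [← LinearMap.range_eq_top, eq_top_iff, ← hspan, Submodule.span_le]
    intro m hm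
    refine ⟨Module.DirectLimit.of R S (fun i : S => G i.1) (fun (a b : S) (h : a ≤ b) => f a.1 b.1 h)
      ⟨idx m, hS₀ (Set.mem_insert_of_mem _ ⟨m, hm, rfl⟩)⟩ (x m), ?_⟩
    rw [Module.DirectLimit.lift_of]
    exact hx m

end Groth.Agent.S6392
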