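import Groth.Statements.S6400
import Groth.Agent.FibBase.Fp

set_option autoImplicit false
set_option backward.isDefEq.respectTransparency false
set_option backward.isDefEq.respectTransparency.types false
open CategoryTheory
universe v u
open FibCat

namespace Groth.Agent.S6400

/-- For fibred categories `𝒳, 𝒴, 𝒮` over `C` and functors `F : 𝒳 ⟶ 𝒮`, `G : 𝒴 ⟶ 𝒮` over `C` preserving
strongly cartesian morphisms, the 2-fibre product `𝒳 ×_𝒮 𝒴` over `C` is fibred over `C`. (The
published statement also says that this category, with its two projections, is a 2-fibre product in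
the 2-category of fibred categories over `C`; this row states only that it is fibred.) -/
theorem result {C : Type u} [Category.{v} C] {𝒳 𝒴 𝒮 : BasedCategory.{v, max u v} C} (F : 𝒳 ⥤ᵇ 𝒮) (G : 𝒴 ⥤ᵇ 𝒮) [𝒳.p.IsFibered] [𝒴.p.IsFibered] [𝒮.p.IsFibered]
    (hF : ∀ {R S : C} (f : R ⟶ S) {a b : 𝒳.obj} (φ : a ⟶ b), 𝒳.p.IsStronglyCartesian f φ → 𝒮.p.IsStronglyCartesian f (F.map φ))
    (hG : ∀ {R S : C} (f : R ⟶ S) {a b : 𝒴.obj} (φ : a ⟶ b), 𝒴.p.IsStronglyCartesian f φ → 𝒮.p.IsStronglyCartesian f (G.map φ)) :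
    (FibCat.fp F G).p.IsFibered := by
  exact Groth.Agent.FibBase.fp_isFibered inferInstance inferInstance hF hG

end Groth.Agent.S6400
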