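import Groth.Statements.S6402
import Groth.Agent.FibBase.InertiaFp

set_option autoImplicit false
set_option backward.isDefEq.respectTransparency false
set_option backward.isDefEq.respectTransparency.types false
open CategoryTheory
universe v u
open FibCat

namespace Groth.Agent.S6402

/-- For a functor `F : 𝒳 ⟶ 𝒴` of fibred categories over `C` preserving strongly cartesian morphisms, the
relative inertia `I_{𝒳/𝒴}` (pairs `(x, α)` with `α` an automorphism of `x` sent to the identity by
`F`) is equivalent over `C` to `𝒳 ×_{Δ, 𝒳 ×_𝒴 𝒳, Δ} 𝒳`, by a functor over `C` whose composite with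
either projection is the forgetful functor `(x, α) ↦ x`. (Only the two projections of the
equivalence are pinned here; its 2-cell component at `(x, α)` is `(α, 𝟙)`.) -/
theorem result {C : Type u} [Category.{v} C] {𝒳 𝒴 : BasedCategory.{v, max u v} C} [𝒳.p.IsFibered] [𝒴.p.IsFibered] (F : 𝒳 ⥤ᵇ 𝒴) (hF : FibCat.PreservesStronglyCartesian F) :
    ∃ E : FibCat.inertia F ⥤ᵇ FibCat.fp (FibCat.diag F) (FibCat.diag F),
      FibCat.IsEquivOver E ∧ BasedFunctor.comp E (FibCat.fpFst _ _) = FibCat.inertiaToBase F ∧
        BasedFunctor.comp E (FibCat.fpSnd _ _) = FibCat.inertiaToBase F := by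
  exact ⟨Groth.Agent.FibBase.inertiaToFp F, Groth.Agent.FibBase.inertiaToFp_isEquivOver F, rfl, rfl⟩

end Groth.Agent.S6402
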