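import Groth.Statements.S6403
import Groth.Agent.FibBase.Inertia

set_option autoImplicit false
set_option backward.isDefEq.respectTransparency false
set_option backward.isDefEq.respectTransparency.types false
open CategoryTheory
universe v u
open FibCat

namespace Groth.Agent.S6403

/-- For a functor `F : 𝒳 ⟶ 𝒴` of fibred categories over `C` preserving strongly cartesian morphisms, the
relative inertia `I_{𝒳/𝒴}` is a fibred category over `C`. -/
theorem result {C : Type u} [Category.{v} C] {𝒳 𝒴 : BasedCategory.{v, max u v} C} [𝒳.p.IsFibered] [𝒴.p.IsFibered] (F : 𝒳 ⥤ᵇ 𝒴) (hF : FibCat.PreservesStronglyCartesian F) :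
    (FibCat.inertia F).p.IsFibered := by
  exact Groth.Agent.FibBase.inertia_isFibered (fun f _ _ φ h => hF f φ h)

end Groth.Agent.S6403
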