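import Groth.Statements.S6406
import Groth.Agent.FibBase.Setoid
import Groth.Agent.FibBase.Cartesian
import Groth.Agent.FibBase.Comp
import Mathlib.CategoryTheory.IsomorphismClasses

set_option autoImplicit false
set_option backward.isDefEq.respectTransparency false
set_option backward.isDefEq.respectTransparency.types false
open CategoryTheory
universe v u
open FibCat

namespace Groth.Agent.S6406

/-- A category fibred in setoids over `C` admits an equivalence over `C` to a category fibred in sets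
over `C`. (The target is taken in the same universes as the slices `C/U`; its morphism sets are
essentially as small as those of `C`.) -/
theorem result {C : Type u} [Category.{v} C] {𝒳 : BasedCategory.{v, max u v} C} (h𝒳 : FibCat.IsFibSetoid 𝒳.p) :
    ∃ (𝒴 : BasedCategory.{v, max u v} C) (F : 𝒳 ⥤ᵇ 𝒴), FibCat.IsFibSet 𝒴.p ∧ FibCat.IsEquivOver F := by
  haveI := h𝒳.1
  let A := Σ U : C, Quotient (isIsomorphicSetoid (𝒳.p.Fiber U))
  let r : A → 𝒳.obj := fun a => a.2.out.1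
  let 𝒴 : BasedCategory.{v, max u v} C :=
    BasedCategory.ofFunctor (inducedFunctor r ⋙ 𝒳.p : InducedCategory 𝒳.obj r ⥤ C)
  let G : 𝒴 ⥤ᵇ 𝒳 := ⟨inducedFunctor r, rfl⟩
  have hG : FibCat.IsEquivOver G := by
    refine FibBase.isEquivOver_of_exists_iso G (fullyFaithfulInducedFunctor r).full (fullyFaithfulInducedFunctor r).faithful fun η => ?_
    obtain ⟨j⟩ := Quotient.mk_out (s := isIsomorphicSetoid (𝒳.p.Fiber (𝒳.p.obj η))) ⟨η, rfl⟩
    exact ⟨(⟨𝒳.p.obj η, Quotient.mk _ ⟨η, rfl⟩⟩ : A), FibBase.ofFiberIso j, FibBase.ofFiberIso_lift j⟩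
  obtain ⟨F, h1, h2⟩ := id hG
  refine ⟨𝒴, F, ⟨(FibBase.isFibGrpd_iff_of_isEquivOver hG).2 h𝒳.1, fun U => ?_⟩, ⟨G, h2, h1⟩⟩
  refine { subsingleton := ?_, eq_of_hom := ?_ }
  · intro a b
    refine ⟨fun φ ψ => Subtype.ext (InducedCategory.hom_ext ?_)⟩
    haveI := h𝒳.2 U
    haveI := φ.2
    haveI := ψ.2
    let a' : 𝒳.p.Fiber U := ⟨r a.1, a.2⟩
    let b' : 𝒳.p.Fiber U := ⟨r b.1, b.2⟩
    exact congrArg Subtype.val (Subsingleton.elim
      (⟨G.map φ.1, (G.isHomLift_iff _ _).2 φ.2⟩ : a' ⟶ b') ⟨G.map ψ.1, (G.isHomLift_iff _ _).2 ψ.2⟩)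
  · rintro ⟨⟨V, q⟩, hq⟩ ⟨⟨W, q'⟩, hq'⟩ φ
    obtain rfl : V = U := q.out.2.symm.trans hq
    obtain rfl : W = V := q'.out.2.symm.trans hq'
    haveI := φ.2
    haveI : 𝒳.p.IsHomLift (𝟙 W) (G.map φ.1) := (G.isHomLift_iff _ _).2 φ.2
    let φ' : q.out ⟶ q'.out := ⟨G.map φ.1, inferInstance⟩
    haveI := FibBase.fiber_isIso φ'
    have e : q = q' := by rw [← q.out_eq, ← q'.out_eq]; exact Quotient.sound ⟨asIso φ'⟩
    subst e
    rfl

end Groth.Agent.S6406
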