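import Groth.Statements.S6407
import Groth.Agent.FibBase.Setoid
import Groth.Agent.FibBase.Basic

set_option autoImplicit false
set_option backward.isDefEq.respectTransparency false
set_option backward.isDefEq.respectTransparency.types false
open CategoryTheory
universe v u
open FibCat

namespace Groth.Agent.S6407

/-- For categories `𝒳, 𝒴` fibred in setoids over `C` and functors `f, g : 𝒳 ⟶ 𝒴` over `C` that agree on
isomorphism classes of objects of each fibre category, there is a unique 2-isomorphism `f ≅ g` over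
`C`. -/
theorem result {C : Type u} [Category.{v} C] {𝒳 𝒴 : BasedCategory.{v, max u v} C} (h𝒳 : FibCat.IsFibSetoid 𝒳.p) (h𝒴 : FibCat.IsFibSetoid 𝒴.p) (f g : 𝒳 ⥤ᵇ 𝒴)
    (hfg : ∀ (U : C) (x : 𝒳.p.Fiber U), Nonempty ((FibCat.fiberFunctor f U).obj x ≅ (FibCat.fiberFunctor g U).obj x)) :
    Nonempty (Unique (f ≅ g)) := by
  haveI := (FibBase.isFibSetoid_iff.1 h𝒴).2
  have hlift : ∀ {U : C} (x : 𝒳.obj), 𝒳.p.obj x = U → ∃ i : f.obj x ≅ g.obj x, 𝒴.p.IsHomLift (𝟙 U) i.hom := by
    intro U x hx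
    obtain ⟨i⟩ := hfg U ⟨x, hx⟩
    exact ⟨FibBase.ofFiberIso i, FibBase.ofFiberIso_lift i⟩
  choose i hi using fun x : 𝒳.obj => hlift x rfl
  have hmap : ∀ x, 𝒴.p.map (i x).hom = eqToHom ((f.w_obj x).trans (g.w_obj x).symm) := fun x =>
    FibBase.map_eq_of_isHomLift_id (hi x)
  have e : f ≅ g := BasedNatIso.mkNatIso (NatIso.ofComponents i fun {a b} φ => 𝒴.p.map_injective (by
      have h1 := Functor.congr_hom f.w φ
      have h2 := Functor.congr_hom g.w φ
      simp only [Functor.comp_map] at h1 h2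
      simp [h1, h2, hmap])) hi
  refine ⟨{ default := e, uniq := fun e' => ?_ }⟩
  ext x
  apply 𝒴.p.map_injective
  exact (FibBase.map_eq_of_isHomLift_id (FibBase.isoApp_lift e' (a := x) rfl)).trans
    (FibBase.map_eq_of_isHomLift_id (FibBase.isoApp_lift e (a := x) rfl)).symm

end Groth.Agent.S6407
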