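import Groth.Statements.S6408
import Groth.Agent.FibBase.Basic

set_option autoImplicit false
set_option backward.isDefEq.respectTransparency false
set_option backward.isDefEq.respectTransparency.types false
open CategoryTheory
universe v u
open FibCat

namespace Groth.Agent.S6408

/-- Between categories fibred in sets over `C` the only 2-morphisms over `C` are identities. -/
theorem result {C : Type u} [Category.{v} C] {𝒳 𝒴 : BasedCategory.{v, max u v} C} (h𝒳 : FibCat.IsFibSet 𝒳.p) (h𝒴 : FibCat.IsFibSet 𝒴.p) {F G : 𝒳 ⥤ᵇ 𝒴} (α : F ⟶ G) :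
    ∃ h : F = G, α = eqToHom h := by
  have key : ∀ x, ∃ h : F.obj x = G.obj x, α.toNatTrans.app x = eqToHom h := by
    intro x
    let U := 𝒳.p.obj x
    let a : 𝒴.p.Fiber U := ⟨F.obj x, F.w_obj x⟩
    let b : 𝒴.p.Fiber U := ⟨G.obj x, G.w_obj x⟩
    let φ : a ⟶ b := ⟨α.toNatTrans.app x, α.isHomLift' x⟩
    haveI := h𝒴.2 U
    have e : a = b := IsDiscrete.eq_of_hom φ
    refine ⟨congrArg Subtype.val e, ?_⟩
    have : φ = eqToHom e := Subsingleton.elim _ _
    have h2 : (eqToHom e).1 = eqToHom (congrArg Subtype.val e) :=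
      (fun (c d : 𝒴.p.Fiber U) (h : c = d) => (by subst h; rfl : (eqToHom h).1 = eqToHom (congrArg Subtype.val h))) a b e
    exact (congrArg Subtype.val this).trans h2
  choose hobj happ using key
  have hF : F = G := by
    obtain ⟨F', hF'⟩ := F
    obtain ⟨G', hG'⟩ := G
    obtain rfl : F' = G' := Functor.ext hobj fun x y g => by
      have n : F'.map g ≫ α.toNatTrans.app y = α.toNatTrans.app x ≫ G'.map g := α.toNatTrans.naturality g
      rw [happ, happ] at n
      have n' := congrArg (· ≫ eqToHom (hobj y).symm) n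
      simpa using n'
    rfl
  refine ⟨hF, ?_⟩
  subst hF
  ext x
  rw [happ x]
  rfl

end Groth.Agent.S6408
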