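import Groth.Statements.S6412
import Groth.Agent.FibBase.DiagRep

set_option autoImplicit false
set_option backward.isDefEq.respectTransparency false
set_option backward.isDefEq.respectTransparency.types false
open CategoryTheory CategoryTheory.Limits
universe v u
open FibCat

namespace Groth.Agent.S6412

/-- For `C` with binary products and fibre products and `𝒮` fibred in groupoids over `C`, the diagonal
`𝒮 ⟶ 𝒮 ×_C 𝒮` is representable if and only if every functor `C/U ⟶ 𝒮` over `C` is representable.
(Representability of each base change to a slice `C/V` is taken as a category over `C`; for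
categories fibred in groupoids this agrees with representability over `C/V`.) -/
theorem result {C : Type u} [Category.{v} C] [HasBinaryProducts C] [HasPullbacks C] {𝒮 : BasedCategory.{v, max u v} C} (h𝒮 : FibCat.IsFibGrpd 𝒮.p) :
    FibCat.IsRepresentable1 (FibCat.diag (FibCat.toSelf 𝒮)) ↔ ∀ (U : C) (G : FibCat.overCat U ⥤ᵇ 𝒮), FibCat.IsRepresentable1 G := by
  exact ⟨fun hΔ U G => FibBase.rep1_of_diag hΔ U G, fun h => FibBase.rep1_diag_of_all h⟩

end Groth.Agent.S6412
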