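import Groth.Statements.S6413
import Groth.Agent.FibBase.Setoid

set_option autoImplicit false
set_option backward.isDefEq.respectTransparency false
set_option backward.isDefEq.respectTransparency.types false
open CategoryTheory
universe v u
open FibCat

namespace Groth.Agent.S6413

/-- For `𝒳, 𝒴` fibred in groupoids over `C` and `F : 𝒳 ⟶ 𝒴` over `C`, the projection `𝒳 ×_{F, 𝒴, id} 𝒴 ⟶
𝒴` is a category fibred in groupoids over `𝒴`. -/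
theorem result {C : Type u} [Category.{v} C] {𝒳 𝒴 : BasedCategory.{v, max u v} C} (h𝒳 : FibCat.IsFibGrpd 𝒳.p) (h𝒴 : FibCat.IsFibGrpd 𝒴.p) (F : 𝒳 ⥤ᵇ 𝒴) :
    FibCat.IsFibGrpd (FibCat.fpSnd F (BasedFunctor.id 𝒴)).toFunctor := by
  refine Groth.Agent.FibBase.isFibGrpd_of_transport h𝒴 ?_ ?_
  · rw [(FibCat.fpSnd F (BasedFunctor.id 𝒴)).w]
    exact Groth.Agent.FibBase.fp_isFibGrpd h𝒳 h𝒴 h𝒴
  · intro y V e he
    have hy : 𝒴.p.IsHomLift (𝟙 (𝒳.p.obj y.obj.fst)) y.obj.iso.hom := y.property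
    have hb : 𝒴.p.obj y.obj.snd = 𝒳.p.obj y.obj.fst := Groth.Agent.FibBase.snd_proj y
    have he' : 𝒴.p.IsHomLift (𝟙 (𝒳.p.obj y.obj.fst)) e.hom := Groth.Agent.FibBase.isHomLift_id_congr hb he
    have := IsHomLift.lift_id_inv 𝒴.p (𝒳.p.obj y.obj.fst) e
    let y' : (FibCat.fp F (BasedFunctor.id 𝒴)).obj := ⟨⟨y.obj.fst, V, y.obj.iso ≪≫ e.symm⟩,
      inferInstanceAs (𝒴.p.IsHomLift (𝟙 (𝒳.p.obj y.obj.fst)) (y.obj.iso.hom ≫ e.inv))⟩
    let φ : y' ⟶ y := ObjectProperty.homMk ⟨𝟙 _, e.hom, by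
      show F.map (𝟙 y.obj.fst) ≫ y.obj.iso.hom = (y.obj.iso.hom ≫ e.inv) ≫ e.hom
      simp⟩
    exact ⟨y', φ, IsHomLift.map (FibCat.fpSnd F (BasedFunctor.id 𝒴)).toFunctor φ⟩

end Groth.Agent.S6413
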