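import Groth.Statements.S6414
import Groth.Agent.FibBase.Comp

set_option autoImplicit false
set_option backward.isDefEq.respectTransparency false
set_option backward.isDefEq.respectTransparency.types false
open CategoryTheory
universe v₁ u₁ v₂ u₂ v₃ u₃
open FibCat

namespace Groth.Agent.S6414

/-- A morphism that is strongly cartesian with respect to `F : 𝒜 ⥤ ℬ` and whose image is strongly
cartesian with respect to `G : ℬ ⥤ 𝒞` is strongly cartesian with respect to `F ⋙ G`. -/
theorem result {𝒜 : Type u₁} [Category.{v₁} 𝒜] {ℬ : Type u₂} [Category.{v₂} ℬ] {𝒞 : Type u₃} [Category.{v₃} 𝒞] (F : 𝒜 ⥤ ℬ) (G : ℬ ⥤ 𝒞) {x y : 𝒜} (φ : x ⟶ y)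
    [F.IsStronglyCartesian (F.map φ) φ] [G.IsStronglyCartesian (G.map (F.map φ)) (F.map φ)] :
    (F ⋙ G).IsStronglyCartesian ((F ⋙ G).map φ) φ := by
  exact Groth.Agent.FibBase.isSC_comp_functor φ

end Groth.Agent.S6414
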