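import Groth.Statements.S6415
import Groth.Agent.FibBase.Comp

set_option autoImplicit false
set_option backward.isDefEq.respectTransparency false
set_option backward.isDefEq.respectTransparency.types false
open CategoryTheory
universe v₁ u₁ v₂ u₂ v₃ u₃
open FibCat

namespace Groth.Agent.S6415

/-- The composite of two fibred functors is fibred. -/
theorem result {𝒜 : Type u₁} [Category.{v₁} 𝒜] {ℬ : Type u₂} [Category.{v₂} ℬ] {𝒞 : Type u₃} [Category.{v₃} 𝒞] (F : 𝒜 ⥤ ℬ) (G : ℬ ⥤ 𝒞) [F.IsFibered] [G.IsFibered] : (F ⋙ G).IsFibered := by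
  exact Groth.Agent.FibBase.isFibered_comp inferInstance inferInstance

end Groth.Agent.S6415
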