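import Groth.Statements.S6417


set_option autoImplicit false
set_option backward.isDefEq.respectTransparency false
set_option backward.isDefEq.respectTransparency.types false
open CategoryTheory CategoryTheory.Limits
universe v₁ u₁ v₂ u₂
open FibCat

namespace Groth.Agent.S6417

/-- For `p : 𝒮 ⥤ C`, a strongly cartesian `φ : x ⟶ y`, any `ψ : z ⟶ y`, and a strongly cartesian `a : w
⟶ z` lying over the second projection of `p x ×_{p y} p z`, the object `w` is a fibre product `x ×_y
z`: there is `b : w ⟶ x` over the first projection with `(b, a)` a pullback square. -/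
theorem result {𝒮 : Type u₁} [Category.{v₁} 𝒮] {C : Type u₂} [Category.{v₂} C] (p : 𝒮 ⥤ C) {x y z w : 𝒮} (φ : x ⟶ y) (ψ : z ⟶ y)
    [p.IsStronglyCartesian (p.map φ) φ] [HasPullback (p.map φ) (p.map ψ)] (a : w ⟶ z)
    [p.IsStronglyCartesian (pullback.snd (p.map φ) (p.map ψ)) a] :
    ∃ b : w ⟶ x, p.IsHomLift (pullback.fst (p.map φ) (p.map ψ)) b ∧ IsPullback b a φ ψ := by
  let P := pullback (p.map φ) (p.map ψ)
  let π₁ : P ⟶ p.obj x := pullback.fst (p.map φ) (p.map ψ)
  let π₂ : P ⟶ p.obj z := pullback.snd (p.map φ) (p.map ψ)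
  haveI : p.IsHomLift π₂ a := inferInstanceAs (p.IsHomLift (pullback.snd (p.map φ) (p.map ψ)) a)
  haveI : p.IsHomLift (p.map ψ) ψ := inferInstance
  haveI : p.IsHomLift (π₂ ≫ p.map ψ) (a ≫ ψ) := inferInstance
  let b : w ⟶ x := Functor.IsStronglyCartesian.map p (p.map φ) φ (g := π₁) (f' := π₂ ≫ p.map ψ) pullback.condition.symm (a ≫ ψ)
  haveI hb : p.IsHomLift π₁ b := inferInstance
  have hfac : b ≫ φ = a ≫ ψ := Functor.IsStronglyCartesian.fac ..
  have hw : p.obj w = P := IsHomLift.domain_eq p π₂ a
  refine ⟨b, hb, ⟨⟨hfac⟩, ⟨PullbackCone.IsLimit.mk hfac (fun s => ?_) (fun s => ?_) (fun s => ?_) (fun s m h1 h2 => ?_)⟩⟩⟩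
  · exact Functor.IsStronglyCartesian.map p π₂ a
      (g := pullback.lift (p.map s.fst) (p.map s.snd) (by rw [← p.map_comp, s.condition, p.map_comp]))
      (f' := p.map s.snd) (pullback.lift_snd _ _ _).symm s.snd
  · set k := pullback.lift (p.map s.fst) (p.map s.snd) (by rw [← p.map_comp, s.condition, p.map_comp]) with hk
    set n := Functor.IsStronglyCartesian.map p π₂ a (g := k) (f' := p.map s.snd) (pullback.lift_snd _ _ _).symm s.snd with hn
    haveI : p.IsHomLift (p.map s.fst) (n ≫ b) := by
      rw [show p.map s.fst = k ≫ π₁ from (pullback.lift_fst _ _ _).symm]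
      infer_instance
    refine Functor.IsStronglyCartesian.ext p (p.map φ) φ (p.map s.fst) ?_
    rw [Category.assoc, hfac, ← Category.assoc, Functor.IsStronglyCartesian.fac, ← s.condition]
  · exact Functor.IsStronglyCartesian.fac ..
  · haveI : p.IsHomLift (pullback.lift (p.map s.fst) (p.map s.snd) (by rw [← p.map_comp, s.condition, p.map_comp])) m := by
      have em : (p.map m ≫ eqToHom hw) = pullback.lift (p.map s.fst) (p.map s.snd)
          (by rw [← p.map_comp, s.condition, p.map_comp]) := by
        refine pullback.hom_ext ?_ ?_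
        · have hb' := IsHomLift.fac' p π₁ b
          rw [pullback.lift_fst, ← h1, p.map_comp, hb']
          simp [π₁]
        · have ha' := IsHomLift.fac' p π₂ a
          rw [pullback.lift_snd, ← h2, p.map_comp, ha']
          simp [π₂]
      rw [← em]
      refine IsHomLift.of_fac' p _ m rfl hw ?_
      simp
    exact Functor.IsStronglyCartesian.map_uniq p π₂ a _ _ m h2

end Groth.Agent.S6417
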