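import Groth.Statements.S6422
import Groth.Agent.FibBase.PullbackMap

set_option autoImplicit false
set_option backward.isDefEq.respectTransparency false
set_option backward.isDefEq.respectTransparency.types false
open CategoryTheory CategoryTheory.Limits
universe v u
open FibCat

namespace Groth.Agent.S6422

/-- For a 2-commutative morphism of cospans of categories whose outer functors `X ⥤ A`, `Y ⥤ B` are
equivalences and whose middle functor `Z ⥤ C` is fully faithful, the induced functor `X ×_Z Y ⥤ A
×_C B` is an equivalence of categories. -/
theorem result {X Y Z A B C : Type u} [Category.{v} X] [Category.{v} Y] [Category.{v} Z] [Category.{v} A] [Category.{v} B] [Category.{v} C] {H : X ⥤ Z} {I : Y ⥤ Z} {F : A ⥤ C} {G : B ⥤ C} (ψ : CatCospanTransform H I F G) [ψ.left.IsEquivalence] [ψ.right.IsEquivalence] [ψ.base.Full] [ψ.base.Faithful] :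
    (FibCat.categoricalPullbackMap ψ).IsEquivalence := by
  exact Groth.Agent.FibBase.pbMap_isEquivalence ψ

end Groth.Agent.S6422
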