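import Groth.Statements.S6424
import Groth.Agent.ConnLimits.Basic

set_option autoImplicit false
set_option backward.isDefEq.respectTransparency false
set_option backward.isDefEq.respectTransparency.types false
open CategoryTheory CategoryTheory.Limits
universe v u
open CatLim

namespace Groth.Agent.S6424

/-- (2) ⇒ (1): a category with products of pairs and equalizers has all finite nonempty limits. -/
theorem result {C : Type u} [Category.{v} C] [HasBinaryProducts C] [HasEqualizers C]
    (J : Type) [SmallCategory J] [FinCategory J] [Nonempty J] : HasLimitsOfShape J C := by
  exact ⟨fun F => ConnLimits.hasLimit_of_nonempty F⟩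

end Groth.Agent.S6424
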