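import Groth.Statements.S6425
import Mathlib.CategoryTheory.Limits.Preserves.Shapes.BinaryProducts
import Mathlib.CategoryTheory.Limits.FunctorCategory.Basic
import Mathlib.CategoryTheory.Limits.Types.Colimits
import Mathlib.CategoryTheory.Limits.Types.Limits

set_option autoImplicit false
set_option backward.isDefEq.respectTransparency false
set_option backward.isDefEq.respectTransparency.types false
open CategoryTheory CategoryTheory.Limits
universe v
open CatLim

namespace Groth.Agent.S6425

/-- Over an index category in which any two objects map to a common object, the comparison map `colim (M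
× N) → colim M × colim N` for diagrams of sets is surjective. -/
theorem result {I : Type v} [SmallCategory I]
    (hI : ∀ x y : I, ∃ (z : I) (_ : x ⟶ z) (_ : y ⟶ z), True) (M N : I ⥤ Type v) :
    Function.Surjective (prodComparison (colim : (I ⥤ Type v) ⥤ Type v) M N) := by
  intro z
  obtain ⟨i, m, hm⟩ := Types.jointly_surjective' ((prod.fst :
    (colim : (I ⥤ Type v) ⥤ Type v).obj M ⨯ (colim : (I ⥤ Type v) ⥤ Type v).obj N ⟶ _) z)
  obtain ⟨j, n, hn⟩ := Types.jointly_surjective' ((prod.snd :
    (colim : (I ⥤ Type v) ⥤ Type v).obj M ⨯ (colim : (I ⥤ Type v) ⥤ Type v).obj N ⟶ _) z)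
  obtain ⟨k, a, b, -⟩ := hI i j
  let pr : PUnit.{v + 1} ⟶ (M ⨯ N).obj k := inv (prodComparison ((evaluation I (Type v)).obj k) M N) |> fun e =>
    prod.lift (↾fun _ => M.map a m) (↾fun _ => N.map b n) ≫ e
  let w := pr PUnit.unit
  refine ⟨colimit.ι (M ⨯ N) k w, ?_⟩
  have h1 : (prod.fst : M ⨯ N ⟶ M).app k w = M.map a m := by
    have : pr ≫ (prod.fst : M ⨯ N ⟶ M).app k = ↾fun _ => M.map a m := by
      simp only [pr, Category.assoc]
      rw [show (prod.fst : M ⨯ N ⟶ M).app k = ((evaluation I (Type v)).obj k).map prod.fst from rfl,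
        inv_prodComparison_map_fst]
      exact prod.lift_fst _ _
    exact ConcreteCategory.congr_hom this PUnit.unit
  have h2 : (prod.snd : M ⨯ N ⟶ N).app k w = N.map b n := by
    have : pr ≫ (prod.snd : M ⨯ N ⟶ N).app k = ↾fun _ => N.map b n := by
      simp only [pr, Category.assoc]
      rw [show (prod.snd : M ⨯ N ⟶ N).app k = ((evaluation I (Type v)).obj k).map prod.snd from rfl,
        inv_prodComparison_map_snd]
      exact prod.lift_snd _ _
    exact ConcreteCategory.congr_hom this PUnit.unit
  refine Types.limit_ext _ _ _ ?_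
  rintro ⟨⟨⟩⟩
  · refine Eq.trans ?_ hm
    show ((prodComparison (colim : (I ⥤ Type v) ⥤ Type v) M N) ≫ prod.fst) (colimit.ι (M ⨯ N) k w) = _
    rw [prodComparison_fst]
    refine (ConcreteCategory.congr_hom (colimit.ι_map (prod.fst : M ⨯ N ⟶ M) k) w).trans ?_
    exact (congrArg (colimit.ι M k) h1).trans (ConcreteCategory.congr_hom (colimit.w M a) m)
  · refine Eq.trans ?_ hn
    show ((prodComparison (colim : (I ⥤ Type v) ⥤ Type v) M N) ≫ prod.snd) (colimit.ι (M ⨯ N) k w) = _
    rw [prodComparison_snd]
    refine (ConcreteCategory.congr_hom (colimit.ι_map (prod.snd : M ⨯ N ⟶ N) k) w).trans ?_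
    exact (congrArg (colimit.ι N k) h2).trans (ConcreteCategory.congr_hom (colimit.w N b) n)

end Groth.Agent.S6425
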