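import Groth.Statements.S6426
import Mathlib.CategoryTheory.Limits.Types.Colimits
import Mathlib.Algebra.Category.Grp.Colimits
import Mathlib.GroupTheory.QuotientGroup.Defs

set_option autoImplicit false
set_option backward.isDefEq.respectTransparency false
set_option backward.isDefEq.respectTransparency.types false
open CategoryTheory CategoryTheory.Limits
universe v
open CatLim

namespace Groth.Agent.S6426

/-- Over a nonempty index category in which any two objects map to a common object, the set-theoretic
colimit of a diagram of abelian groups surjects onto its colimit in abelian groups. (The published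
statement does not require the index category to be nonempty; this row assumes it, because for the
empty index category the colimit of sets is empty while the colimit of abelian groups is the zero
group.) -/
theorem result {I : Type v} [SmallCategory I] [Nonempty I]
    (hI : ∀ x y : I, ∃ (z : I) (_ : x ⟶ z) (_ : y ⟶ z), True) (M : I ⥤ AddCommGrpCat.{v}) :
    Function.Surjective (colimit.post M (forget AddCommGrpCat.{v})) := by
  intro z
  let S : AddSubgroup (colimit M : AddCommGrpCat.{v}) :=
    { carrier := {z | ∃ (i : I) (x : M.obj i), colimit.ι M i x = z}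
      add_mem' := fun {a b} ⟨i, x, hx⟩ ⟨j, y, hy⟩ => by
        obtain ⟨k, f, g, -⟩ := hI i j
        refine ⟨k, M.map f x + M.map g y, ?_⟩
        rw [map_add, colimit.w_apply, colimit.w_apply, hx, hy]
      zero_mem' := ⟨Classical.arbitrary I, 0, map_zero _⟩
      neg_mem' := fun {a} ⟨i, x, hx⟩ => ⟨i, -x, by rw [map_neg, hx]⟩ }
  have hq : AddCommGrpCat.ofHom (QuotientAddGroup.mk' S) = 0 := by
    refine colimit.hom_ext fun i => ?_
    ext x
    exact (QuotientAddGroup.eq_zero_iff _).2 ⟨i, x, rfl⟩
  obtain ⟨i, x, hx⟩ := (QuotientAddGroup.eq_zero_iff (z : (colimit M : AddCommGrpCat.{v}))).1 (ConcreteCategory.congr_hom hq z)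
  refine ⟨colimit.ι (M ⋙ forget AddCommGrpCat.{v}) i x, ?_⟩
  refine (ConcreteCategory.congr_hom (colimit.ι_post M (forget AddCommGrpCat.{v}) i) x).trans ?_
  exact hx

end Groth.Agent.S6426
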