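import Groth.Statements.S6427
import Groth.Agent.AlmostFiltered.Basic

set_option autoImplicit false
set_option backward.isDefEq.respectTransparency false
set_option backward.isDefEq.respectTransparency.types false
open CategoryTheory CategoryTheory.Limits
universe v
open CatLim

namespace Groth.Agent.S6427

/-- Over an index category in which every pair of morphisms with common source can be completed to a
commutative square, colimits of sets preserve injective morphisms of diagrams. -/
theorem result {I : Type v} [SmallCategory I]
    (hI : ∀ ⦃x y z : I⦄ (f : x ⟶ y) (g : x ⟶ z), ∃ (w : I) (f' : y ⟶ w) (g' : z ⟶ w), f ≫ f' = g ≫ g')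
    {M N : I ⥤ Type v} (φ : M ⟶ N) (hφ : ∀ i, Function.Injective (φ.app i)) :
    Function.Injective (colimMap φ) := by
  intro a b h
  obtain ⟨i, x, rfl⟩ := Types.jointly_surjective' a
  obtain ⟨j, y, rfl⟩ := Types.jointly_surjective' b
  replace h := ((ConcreteCategory.congr_hom (ι_colimMap φ i) x).symm.trans h).trans (ConcreteCategory.congr_hom (ι_colimMap φ j) y)
  obtain ⟨k, f, g, e⟩ := (AlmostFiltered.colimit_eq_iff hI _ _).1 h
  exact (AlmostFiltered.colimit_eq_iff hI _ _).2 ⟨k, f, g, hφ k (by
    exact (ConcreteCategory.congr_hom (φ.naturality f) x).trans (e.trans (ConcreteCategory.congr_hom (φ.naturality g) y).symm))⟩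

end Groth.Agent.S6427
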