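import Groth.Statements.S6428
import Groth.Agent.CatLimB.Fibers

set_option autoImplicit false
set_option backward.isDefEq.respectTransparency false
set_option backward.isDefEq.respectTransparency.types false
open CategoryTheory CategoryTheory.Limits
universe v₁ u₁ v₂ u₂ v₃ u₃
open CatLim

namespace Groth.Agent.S6428

/-- If `F : I ⥤ I'` has connected fibre categories and is surjective on morphisms, then for every
diagram `M : I' ⥤ C` the colimit of `F ⋙ M` exists if and only if that of `M` does, and the
canonical comparison between them is then an isomorphism. -/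
theorem result {I : Type u₁} [Category.{v₁} I] {I' : Type u₂} [Category.{v₂} I'] {C : Type u₃} [Category.{v₃} C] (F : I ⥤ I')
    (h1 : ∀ x' : I', IsConnected (F.Fiber x'))
    (h2 : ∀ ⦃x' y' : I'⦄ (α' : x' ⟶ y'), ∃ (x y : I) (hx : F.obj x = x') (hy : F.obj y = y') (α : x ⟶ y), F.map α = eqToHom hx ≫ α' ≫ eqToHom hy.symm)
    (M : I' ⥤ C) :
    (HasColimit (F ⋙ M) ↔ HasColimit M) ∧ ∀ [HasColimit (F ⋙ M)] [HasColimit M], IsIso (colimit.pre M F) := by
  exact Groth.Agent.CatLimB.hasColimit_iff F h1 h2 M

end Groth.Agent.S6428
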