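import Groth.Statements.S6429


set_option autoImplicit false
open CategoryTheory CategoryTheory.MonoidalCategory
universe v u
open MonCat

namespace Groth.Agent.S6429

/-- An object `X` of a monoidal category is invertible (some `X'` has `X ⊗ X' ≅ 𝟙` and `X' ⊗ X ≅ 𝟙`) if
and only if tensoring on the left by `X` is an equivalence, if and only if tensoring on the right by
`X` is an equivalence. -/
theorem result {C : Type u} [Category.{v} C] [MonoidalCategory C] (X : C) :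
    ((tensorLeft X).IsEquivalence ↔ ∃ X' : C, Nonempty (X ⊗ X' ≅ 𝟙_ C) ∧ Nonempty (X' ⊗ X ≅ 𝟙_ C)) ∧
      ((tensorRight X).IsEquivalence ↔ ∃ X' : C, Nonempty (X ⊗ X' ≅ 𝟙_ C) ∧ Nonempty (X' ⊗ X ≅ 𝟙_ C)) := by
  constructor
  · constructor
    · intro h
      let X' := (tensorLeft X).objPreimage (𝟙_ C)
      let a : X ⊗ X' ≅ 𝟙_ C := (tensorLeft X).objObjPreimageIso (𝟙_ C)
      exact ⟨X', ⟨a⟩, ⟨(tensorLeft X).preimageIso ((α_ X X' X).symm ≪≫ whiskerRightIso a X ≪≫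
        λ_ X ≪≫ (ρ_ X).symm)⟩⟩
    · rintro ⟨X', ⟨a⟩, ⟨b⟩⟩
      let e₁ : tensorLeft X ⋙ tensorLeft X' ≅ 𝟭 C :=
        (tensorLeftTensor X' X).symm ≪≫ (curriedTensor C).mapIso b ≪≫ leftUnitorNatIso C
      let e₂ : tensorLeft X' ⋙ tensorLeft X ≅ 𝟭 C :=
        (tensorLeftTensor X X').symm ≪≫ (curriedTensor C).mapIso a ≪≫ leftUnitorNatIso C
      exact (CategoryTheory.Equivalence.mk (tensorLeft X) (tensorLeft X') e₁.symm e₂).isEquivalence_functor
  · constructor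
    · intro h
      let X' := (tensorRight X).objPreimage (𝟙_ C)
      let b : X' ⊗ X ≅ 𝟙_ C := (tensorRight X).objObjPreimageIso (𝟙_ C)
      exact ⟨X', ⟨(tensorRight X).preimageIso ((α_ X X' X) ≪≫ whiskerLeftIso X b ≪≫
        ρ_ X ≪≫ (λ_ X).symm)⟩, ⟨b⟩⟩
    · rintro ⟨X', ⟨a⟩, ⟨b⟩⟩
      let e₁ : tensorRight X ⋙ tensorRight X' ≅ 𝟭 C :=
        (tensorRightTensor X X').symm ≪≫ (curriedTensor C).flip.mapIso a ≪≫ rightUnitorNatIso C
      let e₂ : tensorRight X' ⋙ tensorRight X ≅ 𝟭 C :=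
        (tensorRightTensor X' X).symm ≪≫ (curriedTensor C).flip.mapIso b ≪≫ rightUnitorNatIso C
      exact (CategoryTheory.Equivalence.mk (tensorRight X) (tensorRight X') e₁.symm e₂).isEquivalence_functor

end Groth.Agent.S6429
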