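import Groth.Statements.S6430
import Groth.Agent.FibBase.Comp

set_option autoImplicit false
set_option backward.isDefEq.respectTransparency false
set_option backward.isDefEq.respectTransparency.types false
open CategoryTheory
universe v₂ u₂ v u
open FibCat

namespace Groth.Agent.S6430

/-- For a fibred category `p : 𝒮 ⥤ C`, the wide subcategory of `𝒮` on the strongly cartesian morphisms
is fibred in groupoids over `C`. -/
theorem result {C : Type u} [Category.{v} C] {𝒮 : Type u₂} [Category.{v₂} 𝒮] (p : 𝒮 ⥤ C) [p.IsFibered] :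
    FibCat.IsFibGrpd (FibCat.cartSubProj p) := by
  refine ⟨fun {x V} f => ?_, fun {y x} φ => ?_⟩
  · obtain ⟨b, φ, hφ⟩ := CategoryTheory.IsPreFibered.exists_isCartesian p (a := x.obj) rfl f
    have hs : FibCat.cartMor p φ := by
      have := hφ.toIsHomLift
      have : p.IsStronglyCartesian f φ := inferInstance
      show p.IsStronglyCartesian (p.map φ) φ
      obtain ⟨rfl, e₂⟩ := Groth.Agent.FibBase.lift_to hφ.toIsHomLift
      simp only [eqToHom_refl, Category.id_comp] at e₂
      subst e₂
      assumption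
    exact ⟨⟨b⟩, ⟨φ, hs⟩, IsHomLift.of_fac' _ f _ (IsHomLift.domain_eq p f φ) rfl (IsHomLift.fac' p f φ)⟩
  · open CategoryTheory.Functor in
    refine { toIsHomLift := IsHomLift.map _ _, universal_property' := fun {z} g ψ hψ => ?_ }
    have e := IsHomLift.eq_of_isHomLift (FibCat.cartSubProj p) (g ≫ (FibCat.cartSubProj p).map φ) ψ
    have := φ.property
    change p.IsStronglyCartesian _ _ at this
    have : p.IsHomLift (g ≫ p.map φ.hom) ψ.hom := e ▸ IsHomLift.map p ψ.hom
    obtain ⟨χ, ⟨h₁, h₂⟩, h₃⟩ := IsStronglyCartesian.universal_property p (p.map φ.hom) φ.hom g _ rfl ψ.hom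
    have hsc : FibCat.cartMor p χ := by
      show p.IsStronglyCartesian (p.map χ) χ
      have hψ' : p.IsStronglyCartesian (p.map χ ≫ p.map φ.hom) (χ ≫ φ.hom) := by
        rw [h₂, ← p.map_comp, h₂]; exact ψ.property
      exact IsStronglyCartesian.of_comp (p := p) (g := p.map φ.hom) (ψ := φ.hom)
    have hg : g = p.map χ := IsHomLift.eq_of_isHomLift p g χ
    refine ⟨⟨χ, hsc⟩, ⟨IsHomLift.of_fac' _ g _ rfl rfl (by simpa using hg.symm), WideSubcategory.hom_ext _ h₂⟩, ?_⟩
    rintro χ' ⟨h₄, h₅⟩
    refine WideSubcategory.hom_ext _ (h₃ χ'.hom ⟨?_, congrArg (fun t => t.hom) h₅⟩)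
    exact (IsHomLift.eq_of_isHomLift (FibCat.cartSubProj p) g χ') ▸ IsHomLift.map p χ'.hom

end Groth.Agent.S6430
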