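import Groth.Statements.S6434
import Mathlib.CategoryTheory.Localization.CalculusOfFractions
import Mathlib.CategoryTheory.Limits.Preserves.Finite
import Mathlib.Data.Fintype.Sigma

set_option autoImplicit false
open CategoryTheory
universe v u v' u'
open CatLoc

namespace Groth.Agent.S6434

/-- The localization functor at a left multiplicative system commutes with finite colimits. -/
theorem result {C : Type u} [Category.{v} C] {D : Type u'} [Category.{v'} D] (W : MorphismProperty C) (L : C ⥤ D) [L.IsLocalization W] [W.HasLeftCalculusOfFractions] :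
    Limits.PreservesFiniteColimits L := by
  have := Localization.essSurj L W
  refine ⟨fun J _ _ => ⟨fun {K} => ⟨fun {c} hc => ⟨?_⟩⟩⟩⟩
  classical
  -- common denominators
  have common : ∀ {ι : Type} [Fintype ι] {Z : C} (Y : ι → C) (s : ∀ i, Z ⟶ Y i) (_ : ∀ i, W (s i)),
      ∃ (Z' : C) (t : Z ⟶ Z') (_ : W t) (a : ∀ i, Y i ⟶ Z'), ∀ i, s i ≫ a i = t := by
    intro ι _ Z Y s hs
    suffices ∀ S : Finset ι, ∃ (Z' : C) (t : Z ⟶ Z') (_ : W t), ∀ i ∈ S, ∃ a : Y i ⟶ Z', s i ≫ a = t by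
      obtain ⟨Z', t, ht, h⟩ := this Finset.univ
      choose a ha using fun i => h i (Finset.mem_univ i)
      exact ⟨Z', t, ht, a, ha⟩
    intro S
    induction S using Finset.induction_on with
    | empty => exact ⟨Z, 𝟙 Z, W.id_mem Z, by simp⟩
    | insert i S _ ih =>
      obtain ⟨Z', t, ht, h⟩ := ih
      obtain ⟨ψ, hψ⟩ := (MorphismProperty.RightFraction.mk (s i) (hs i) t).exists_leftFraction
      dsimp at hψ
      refine ⟨ψ.Y', t ≫ ψ.s, W.comp_mem _ _ ht ψ.hs, fun k hk => ?_⟩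
      rcases Finset.mem_insert.1 hk with rfl | hk
      · exact ⟨ψ.f, hψ.symm⟩
      · obtain ⟨a, ha⟩ := h k hk
        exact ⟨a ≫ ψ.s, by rw [← ha, Category.assoc]⟩
  have equalize : ∀ {ι : Type} [Fintype ι] {Z : C} (A : ι → C) (f g : ∀ i, A i ⟶ Z) (_ : ∀ i, L.map (f i) = L.map (g i)),
      ∃ (Z' : C) (t : Z ⟶ Z') (_ : W t), ∀ i, f i ≫ t = g i ≫ t := by
    intro ι _ Z A f g h
    choose Y s hs hfg using fun i => (MorphismProperty.map_eq_iff_postcomp L W (f i) (g i)).1 (h i)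
    obtain ⟨Z', t, ht, a, ha⟩ := common Y s hs
    exact ⟨Z', t, ht, fun i => by rw [← ha i, ← Category.assoc, hfg i, Category.assoc]⟩
  have uniq : ∀ {T : D} (m₁ m₂ : L.obj c.pt ⟶ T),
      (∀ j, L.map (c.ι.app j) ≫ m₁ = L.map (c.ι.app j) ≫ m₂) → m₁ = m₂ := by
    intro T m₁ m₂ h
    rw [← cancel_mono (L.objObjPreimageIso T).inv]
    obtain ⟨φ₁, h₁⟩ := Localization.exists_leftFraction L W (m₁ ≫ (L.objObjPreimageIso T).inv)
    obtain ⟨φ₂, h₂⟩ := Localization.exists_leftFraction L W (m₂ ≫ (L.objObjPreimageIso T).inv)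
    obtain ⟨ψ, hψ⟩ := (MorphismProperty.RightFraction.mk φ₁.s φ₁.hs φ₂.s).exists_leftFraction
    dsimp at hψ
    have hu : W (φ₂.s ≫ ψ.s) := W.comp_mem _ _ φ₂.hs ψ.hs
    haveI := Localization.inverts L W _ hu
    have e₁ : φ₁.map L (Localization.inverts L W) ≫ L.map (φ₂.s ≫ ψ.s) = L.map (φ₁.f ≫ ψ.f) := by
      rw [hψ, L.map_comp, MorphismProperty.LeftFraction.map_comp_map_s_assoc, ← L.map_comp]
    have e₂ : φ₂.map L (Localization.inverts L W) ≫ L.map (φ₂.s ≫ ψ.s) = L.map (φ₂.f ≫ ψ.s) := by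
      rw [L.map_comp, MorphismProperty.LeftFraction.map_comp_map_s_assoc, ← L.map_comp]
    rw [← cancel_mono (L.map (φ₂.s ≫ ψ.s)), h₁, h₂, e₁, e₂]
    obtain ⟨Z', t, ht, htt⟩ := equalize (ι := J) (fun j => K.obj j) (fun j => c.ι.app j ≫ φ₁.f ≫ ψ.f)
      (fun j => c.ι.app j ≫ φ₂.f ≫ ψ.s) (fun j => by
        rw [L.map_comp, L.map_comp (c.ι.app j), ← e₁, ← e₂, ← h₁, ← h₂]
        simp only [Category.assoc]
        rw [reassoc_of% h j])
    have heq : (φ₁.f ≫ ψ.f) ≫ t = (φ₂.f ≫ ψ.s) ≫ t := hc.hom_ext fun j => by simpa using htt j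
    haveI := Localization.inverts L W _ ht
    rw [← cancel_mono (L.map t), ← L.map_comp, ← L.map_comp, heq]
  have hex : ∀ d : Limits.Cocone (K ⋙ L), ∃ m : L.obj c.pt ⟶ d.pt, ∀ j, L.map (c.ι.app j) ≫ m = d.ι.app j := by
    intro d
    let e := L.objObjPreimageIso d.pt
    choose φ hφ using fun j => Localization.exists_leftFraction L W (d.ι.app j ≫ e.inv : L.obj (K.obj j) ⟶ L.obj (L.objPreimage d.pt))
    obtain ⟨Z', t, ht, a, ha⟩ := common (ι := J) (fun j => (φ j).Y') (fun j => (φ j).s) (fun j => (φ j).hs)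
    haveI := Localization.inverts L W _ ht
    have hg : ∀ j, L.map ((φ j).f ≫ a j) = d.ι.app j ≫ e.inv ≫ L.map t := by
      intro j
      rw [L.map_comp, ← MorphismProperty.LeftFraction.map_comp_map_s (φ j) L (Localization.inverts L W), Category.assoc,
        ← L.map_comp, ha, ← hφ j, Category.assoc]
    obtain ⟨Z'', t', ht', htt'⟩ := equalize (ι := Σ (p : J) (q : J), (p ⟶ q)) (fun x => K.obj x.1)
      (fun x => K.map x.2.2 ≫ (φ x.2.1).f ≫ a x.2.1) (fun x => (φ x.1).f ≫ a x.1) (fun x => by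
        rw [L.map_comp, hg, hg]
        exact (Category.assoc _ _ _).symm.trans (congrArg (· ≫ e.inv ≫ L.map t) (d.w x.2.2)))
    haveI := Localization.inverts L W _ ht'
    have hnat : ∀ (p q : J) (g : p ⟶ q), K.map g ≫ ((φ q).f ≫ a q) ≫ t' = (((φ p).f ≫ a p) ≫ t') ≫ 𝟙 Z'' := by
      intro p q g
      simpa using htt' ⟨p, q, g⟩
    let d' : Limits.Cocone K :=
      { pt := Z''
        ι := { app := fun j => ((φ j).f ≫ a j) ≫ t', naturality := hnat } }
    refine ⟨L.map (hc.desc d') ≫ inv (L.map t') ≫ inv (L.map t) ≫ e.hom, fun j => ?_⟩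
    rw [← L.map_comp_assoc, hc.fac d' j]
    show L.map (((φ j).f ≫ a j) ≫ t') ≫ _ = _
    rw [L.map_comp, hg]
    simp [e]
  exact
    { desc := fun d => (hex d).choose
      fac := fun d j => (hex d).choose_spec j
      uniq := fun d m hm => uniq _ _ fun j => (hm j).trans ((hex d).choose_spec j).symm }

end Groth.Agent.S6434
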