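import Groth.Statements.S6437
import Groth.Agent.AlmostFiltered.Basic

set_option autoImplicit false
set_option backward.isDefEq.respectTransparency false
set_option backward.isDefEq.respectTransparency.types false
open CategoryTheory CategoryTheory.Limits
universe v
open CatLim

namespace Groth.Agent.S6437

/-- Over an index category in which spans can be completed to commutative squares and parallel pairs can
be coequalized (a disjoint union of filtered categories), colimits of sets commute with finite
connected limits. -/
theorem result {I : Type v} [SmallCategory I]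
    (h1 : ∀ ⦃w x y : I⦄ (a : w ⟶ x) (b : w ⟶ y), ∃ (z : I) (c : x ⟶ z) (d : y ⟶ z), a ≫ c = b ≫ d)
    (h2 : ∀ ⦃x y : I⦄ (a b : x ⟶ y), ∃ (z : I) (c : y ⟶ z), a ≫ c = b ≫ c)
    (J : Type) [SmallCategory J] [FinCategory J] [IsConnected J] :
    PreservesLimitsOfShape J (colim : (I ⥤ Type v) ⥤ Type v) := by
  exact AlmostFiltered.preservesLimitsOfShape_colim h1 h2 J

end Groth.Agent.S6437
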