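import Groth.Statements.S6438
import Groth.Agent.CatLimB.FinRep

set_option autoImplicit false
set_option backward.isDefEq.respectTransparency false
set_option backward.isDefEq.respectTransparency.types false
open CategoryTheory
universe v u
open CatLim

namespace Groth.Agent.S6438

/-- A category with finitely many objects whose morphisms are generated under composition by finitely
many of them receives a functor from a finite category which is both final and initial, the finite
category being connected (resp. nonempty) exactly when the given one is. (The published statement
says that limits and colimits of every diagram are computed after restriction along the functor;
this is expressed here through finality and initiality.) -/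
theorem result {I : Type u} [Category.{v} I] [Finite I]
    (gen : Finset (Σ x y : I, x ⟶ y))
    (hgen : ∀ P : MorphismProperty I, P.IsMultiplicative → (∀ a ∈ gen, P a.2.2) → P = ⊤) :
    ∃ (J : Type) (_ : SmallCategory J) (_ : FinCategory J) (F : J ⥤ I),
      F.Final ∧ F.Initial ∧ (IsConnected J ↔ IsConnected I) ∧ (Nonempty J ↔ Nonempty I) := by
  exact Groth.Agent.CatLimB.exists_fin gen hgen

end Groth.Agent.S6438
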