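import Groth.Statements.S6439
import Groth.Agent.FibBase.Basic

set_option autoImplicit false
set_option backward.isDefEq.respectTransparency false
set_option backward.isDefEq.respectTransparency.types false
open CategoryTheory
universe v u
open FibCat

namespace Groth.Agent.S6439

/-- For categories fibred in groupoids over `C` and equivalences `φ : 𝒮₁ ⟶ 𝒮₂`, `ψ : 𝒮₃ ⟶ 𝒮₄` over `C`,
the functor `α ↦ ψ ∘ α ∘ φ` between the categories of functors over `C` is an equivalence of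
categories. -/
theorem result {C : Type u} [Category.{v} C] {𝒮₁ 𝒮₂ 𝒮₃ 𝒮₄ : BasedCategory.{v, max u v} C}
    (h₁ : FibCat.IsFibGrpd 𝒮₁.p) (h₂ : FibCat.IsFibGrpd 𝒮₂.p) (h₃ : FibCat.IsFibGrpd 𝒮₃.p) (h₄ : FibCat.IsFibGrpd 𝒮₄.p)
    (φ : 𝒮₁ ⟶ 𝒮₂) (ψ : 𝒮₃ ⟶ 𝒮₄) (hφ : FibCat.IsEquivOver φ) (hψ : FibCat.IsEquivOver ψ) :
    (Bicategory.precomp 𝒮₃ φ ⋙ Bicategory.postcomp 𝒮₁ ψ).IsEquivalence := by
  obtain ⟨G, ⟨a⟩, ⟨b⟩⟩ := hφ
  obtain ⟨H, ⟨c⟩, ⟨d⟩⟩ := hψ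
  have e1 : (Bicategory.precomp 𝒮₃ φ).IsEquivalence := (CategoryTheory.Equivalence.mk (Bicategory.precomp 𝒮₃ φ) (Bicategory.precomp 𝒮₃ G)
    ((NatIso.ofComponents (fun α => (Bicategory.leftUnitor α)) (fun f => Bicategory.leftUnitor_naturality f)).symm ≪≫
      (Bicategory.precomposing 𝒮₂ 𝒮₂ 𝒮₃).mapIso b.symm ≪≫ Bicategory.associatorNatIsoRight G φ 𝒮₃)
    ((Bicategory.associatorNatIsoRight φ G 𝒮₃).symm ≪≫ (Bicategory.precomposing 𝒮₁ 𝒮₁ 𝒮₃).mapIso a ≪≫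
      NatIso.ofComponents (fun α => (Bicategory.leftUnitor α)) (fun f => Bicategory.leftUnitor_naturality f))).isEquivalence_functor
  have e2 : (Bicategory.postcomp 𝒮₁ ψ).IsEquivalence := (CategoryTheory.Equivalence.mk (Bicategory.postcomp 𝒮₁ ψ) (Bicategory.postcomp 𝒮₁ H)
    ((NatIso.ofComponents (fun α => (Bicategory.rightUnitor α)) (fun f => Bicategory.rightUnitor_naturality f)).symm ≪≫
      (Bicategory.postcomposing 𝒮₁ 𝒮₃ 𝒮₃).mapIso c.symm ≪≫ (Bicategory.associatorNatIsoLeft 𝒮₁ ψ H).symm)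
    ((Bicategory.associatorNatIsoLeft 𝒮₁ H ψ) ≪≫ (Bicategory.postcomposing 𝒮₁ 𝒮₄ 𝒮₄).mapIso d ≪≫
      NatIso.ofComponents (fun α => (Bicategory.rightUnitor α)) (fun f => Bicategory.rightUnitor_naturality f))).isEquivalence_functor
  infer_instance

end Groth.Agent.S6439
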