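import Groth.Statements.S6442
import Groth.Agent.ToposFinLib.Decomp

set_option autoImplicit false
set_option backward.isDefEq.respectTransparency false
set_option backward.isDefEq.respectTransparency.types false
open CategoryTheory CategoryTheory.Limits Opposite
universe u
open SiteMisc

namespace Groth.Agent.S6442

/-- An object `U` of a site is weakly contractible, i.e. for every covering sieve `S` the sheafified map
`(∐_{V → U ∈ S} h_V)^# ⟶ h_U^#` has a section, if and only if taking sections over `U` turns
epimorphisms of sheaves of sets into surjections. (Coverings are taken as covering sieves; the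
coproduct is formed in presheaves and then sheafified.) -/
theorem result {C : Type u} [SmallCategory C] (J : GrothendieckTopology C) (U : C) :
    (∀ S : Sieve U, S ∈ J U →
      IsSplitEpi ((presheafToSheaf J (Type u)).map
        (Sigma.desc (fun i : (Σ V : C, {f : V ⟶ U // S f}) => yoneda.map i.2.1) :
          (∐ fun i : (Σ V : C, {f : V ⟶ U // S f}) => yoneda.obj i.1) ⟶ yoneda.obj U))) ↔
    ∀ (F G : Sheaf J (Type u)) (φ : F ⟶ G), Epi φ → Function.Surjective (φ.hom.app (op U)) := by
  open Groth.Agent.ToposFinLib in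
  let adjA := sheafificationAdjunction J (Type _)
  constructor
  · intro h F G φ hφ s
    haveI : Sheaf.IsLocallySurjective φ := (Sheaf.isLocallySurjective_iff_epi φ).2 hφ
    let S := Presheaf.imageSieve φ.hom s
    obtain ⟨⟨σ, hσ⟩⟩ := h S (Presheaf.imageSieve_mem J φ.hom s)
    let κ := Σ V : C, {f : V ⟶ U // S.arrows f}
    let t : ∀ i : κ, F.obj.obj (op i.1) := fun i => Presheaf.localPreimage φ.hom s i.2.1 i.2.2
    let T : (presheafToSheaf J (Type _)).obj (∐ fun i : κ => yoneda.obj i.1) ⟶ F :=
      (adjA.homEquiv _ _).symm (Sigma.desc fun i => yonedaEquiv.symm (t i))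
    have hT : T ≫ φ = (presheafToSheaf J (Type _)).map (Sigma.desc fun i : κ => yoneda.map i.2.1) ≫ epsDesc s := by
      apply (adjA.homEquiv _ _).injective
      rw [adjA.homEquiv_naturality_right, adjA.homEquiv_naturality_left, Equiv.apply_symm_apply]
      refine Sigma.hom_ext _ _ fun i => ?_
      simp only [Sigma.ι_desc_assoc]
      show yonedaEquiv.symm (t i) ≫ φ.hom = yoneda.map i.2.1 ≫ adjA.homEquiv (yoneda.obj U) G (epsDesc s)
      rw [epsDesc, Equiv.apply_symm_apply]
      apply yonedaEquiv.injective
      simp only [yonedaEquiv_comp, ← yonedaEquiv_naturality, Equiv.apply_symm_apply]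
      refine (Presheaf.app_localPreimage φ.hom s i.2.1 i.2.2).trans ?_
      exact congrArg (fun r : i.1 ⟶ U => G.obj.map r.op s) (Category.id_comp i.2.1).symm
    refine ⟨(σ ≫ T).hom.app (op U) (epsGen J U), ?_⟩
    have e : (σ ≫ T) ≫ φ = epsDesc s := by
      rw [Category.assoc, hT, ← Category.assoc, hσ, Category.id_comp]
    exact (congrArg (fun r : ToposFin.eps J U ⟶ G => r.hom.app (op U) (epsGen J U)) e).trans (epsDesc_gen s)
  · intro h S hS
    let κ := Σ V : C, {f : V ⟶ U // S.arrows f}
    let q := (presheafToSheaf J (Type _)).map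
      (Sigma.desc fun i : κ => yoneda.map i.2.1 : (∐ fun i : κ => yoneda.obj i.1) ⟶ yoneda.obj U)
    have hc : Cov (fun i : κ => epsMap (J := J) i.2.1) :=
      (cov_epsMap_iff (fun i : κ => i.1) fun i => i.2.1).2 (J.superset_covering
        (fun V g hg => Sieve.ofArrows_mk _ (fun i : κ => i.2.1) ⟨V, g, hg⟩) hS)
    haveI : Epi q := epi_of_cov.{0} (hc.refine fun i => ⟨PUnit.unit,
      (presheafToSheaf J (Type _)).map (Sigma.ι (fun i : κ => yoneda.obj i.1) i), by
        rw [← Functor.map_comp, Sigma.ι_desc]⟩)
    obtain ⟨x, hx⟩ := h _ _ q inferInstance (epsGen J U)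
    exact ⟨⟨⟨epsDesc x, eps_hom_ext ((congrArg (q.hom.app (op U)) (epsDesc_gen x)).trans hx)⟩⟩⟩

end Groth.Agent.S6442
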