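import Groth.Statements.S6443
import Groth.Agent.FibBase.Slices

set_option autoImplicit false
set_option backward.isDefEq.respectTransparency false
set_option backward.isDefEq.respectTransparency.types false
open CategoryTheory
universe v u
open FibCat

namespace Groth.Agent.S6443

/-- If a category `𝒮` fibred in groupoids over `C` is represented by `X` via `j : 𝒮 ⟶ C/X` and by `X'`
via `j' : 𝒮 ⟶ C/X'` (equivalences over `C`), then there is an isomorphism `X' ≅ X` under which `j'`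
becomes 2-isomorphic to `j` over `C`. -/
theorem result {C : Type u} [Category.{v} C] {𝒮 : BasedCategory.{v, max u v} C} (h𝒮 : FibCat.IsFibGrpd 𝒮.p)
    {X X' : C} (j : 𝒮 ⥤ᵇ FibCat.overCat X) (j' : 𝒮 ⥤ᵇ FibCat.overCat X') (hj : FibCat.IsEquivOver j) (hj' : FibCat.IsEquivOver j') :
    ∃ e : X' ≅ X, Nonempty (BasedFunctor.comp j' (⟨Over.map e.hom, Over.mapForget_eq e.hom⟩ : FibCat.overCat X' ⥤ᵇ FibCat.overCat X) ≅ j) := by
  obtain ⟨g, ⟨a⟩, ⟨b⟩⟩ := hj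
  obtain ⟨g', ⟨a'⟩, ⟨b'⟩⟩ := hj'
  obtain ⟨k, ⟨ik⟩⟩ := FibBase.exists_mapB (BasedFunctor.comp g' j)
  obtain ⟨k', ⟨ik'⟩⟩ := FibBase.exists_mapB (BasedFunctor.comp g j')
  have inj : ∀ {A : C} (s : A ⟶ A), Nonempty (FibBase.mapB s ≅ BasedFunctor.id (FibCat.overCat A)) → s = 𝟙 A := by
    rintro A s ⟨i⟩
    have w := Over.w (FibBase.isoApp i (Over.mk (𝟙 A))).hom
    have hl : (FibBase.isoApp i (Over.mk (𝟙 A))).hom.left = 𝟙 A :=
      FibBase.map_eq_of_isHomLift_id (p := Over.forget A) (FibBase.isoApp_lift i rfl)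
    rw [hl] at w
    simpa [FibBase.mapB, BasedFunctor.id] using w.symm
  have cmp : ∀ {A B D : C} (s : A ⟶ B) (t : B ⟶ D),
      Nonempty (FibBase.mapB (s ≫ t) ≅ BasedFunctor.comp (FibBase.mapB s) (FibBase.mapB t)) := fun s t =>
    ⟨FibBase.overIso _ _ fun z => by simp [FibBase.mapB, BasedFunctor.comp]⟩
  have h1 : k ≫ k' = 𝟙 X' := by
    obtain ⟨c⟩ := cmp k k'
    refine inj _ ⟨c ≪≫ FibBase.whiskerRightIso ik _ ≪≫ FibBase.whiskerLeftIso _ ik' ≪≫ ?_⟩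
    exact FibBase.whiskerLeftIso g' (FibBase.whiskerRightIso a j') ≪≫ b'
  have h2 : k' ≫ k = 𝟙 X := by
    obtain ⟨c⟩ := cmp k' k
    refine inj _ ⟨c ≪≫ FibBase.whiskerRightIso ik' _ ≪≫ FibBase.whiskerLeftIso _ ik ≪≫ ?_⟩
    exact FibBase.whiskerLeftIso g (FibBase.whiskerRightIso a' j) ≪≫ b
  exact ⟨⟨k, k', h1, h2⟩, ⟨FibBase.whiskerLeftIso j' ik ≪≫ FibBase.whiskerRightIso a' j⟩⟩

end Groth.Agent.S6443
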