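import Groth.Statements.S6445


set_option autoImplicit false
set_option backward.isDefEq.respectTransparency false
set_option backward.isDefEq.respectTransparency.types false
open CategoryTheory CategoryTheory.Limits
universe v u
open FibCat

namespace Groth.Agent.S6445

/-- Associativity of 2-fibre products of categories: `(A ×_B C) ×_D E` and `A ×_B (C ×_D E)` are
isomorphic categories, by an equivalence whose functor and inverse compose to the identity functors
on both sides and whose functor sends `((a, c, φ), e, ψ)` to an object with components `a`, `c`,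
`e`. (The published statement gives the isomorphism by the formula `((a, c, φ), e, ψ) ↦ (a, (c, e,
ψ), φ)`; this row pins the components `a`, `c`, `e` of the functor on objects and asks the functor
and its inverse to be mutually inverse on the nose.) -/
theorem result {A B C D E : Type u} [Category.{v} A] [Category.{v} B] [Category.{v} C] [Category.{v} D] [Category.{v} E]
    (F : A ⥤ B) (G : C ⥤ B) (H : C ⥤ D) (K : E ⥤ D) :
    ∃ e : CategoricalPullback (CategoricalPullback.π₂ F G ⋙ H) K ≌ CategoricalPullback F (CategoricalPullback.π₁ H K ⋙ G),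
      e.functor ⋙ e.inverse = 𝟭 _ ∧ e.inverse ⋙ e.functor = 𝟭 _ ∧
      ∀ x, (e.functor.obj x).fst = x.fst.fst ∧ (e.functor.obj x).snd.fst = x.fst.snd ∧ (e.functor.obj x).snd.snd = x.snd := by
  refine ⟨{
    functor :=
      { obj := fun x => ⟨x.fst.fst, ⟨x.fst.snd, x.snd, x.iso⟩, x.fst.iso⟩
        map := fun f => ⟨f.fst.fst, ⟨f.fst.snd, f.snd, f.w⟩, f.fst.w⟩ }
    inverse :=
      { obj := fun x => ⟨⟨x.fst, x.snd.fst, x.iso⟩, x.snd.snd, x.snd.iso⟩
        map := fun f => ⟨⟨f.fst, f.snd.fst, f.w⟩, f.snd.snd, f.snd.w⟩ }
    unitIso := Iso.refl _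
    counitIso := Iso.refl _
    functor_unitIso_comp := fun x => Category.id_comp (𝟙 _) }, rfl, rfl, fun x => ⟨rfl, rfl, rfl⟩⟩

end Groth.Agent.S6445
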