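import Groth.Statements.S6446
import Mathlib.CategoryTheory.Limits.Types.Filtered
import Mathlib.CategoryTheory.Limits.Types.Colimits

set_option autoImplicit false
set_option backward.isDefEq.respectTransparency false
set_option backward.isDefEq.respectTransparency.types false
open CategoryTheory CategoryTheory.Limits Opposite
universe v u
open CatLim

namespace Groth.Agent.S6446

open CategoryTheory CategoryTheory.Limits Opposite

/-- (2) ⇒ (1): over a filtered index category, a diagram `M` with a cocone `(X, M_i → X)` inducing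
bijections `colim_i Mor(W, M_i) → Mor(W, X)` for all `W` is essentially constant as an ind-object
with value `X`. -/
theorem result {I : Type v} [SmallCategory I] [IsFiltered I] {C : Type u} [Category.{v} C]
    (M : I ⥤ C) (c : Cocone M)
    (h : ∀ W : C, Function.Bijective (colimit.desc (M ⋙ coyoneda.obj (op W)) ((coyoneda.obj (op W)).mapCocone c))) :
    CatLim.IsEssConstInd M c := by
  have hd : ∀ (W : C) (i : I) (s : W ⟶ M.obj i),
      colimit.desc (M ⋙ coyoneda.obj (op W)) ((coyoneda.obj (op W)).mapCocone c)
        (colimit.ι (M ⋙ coyoneda.obj (op W)) i s) = s ≫ c.ι.app i := fun W i s =>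
    ConcreteCategory.congr_hom (colimit.ι_desc ((coyoneda.obj (op W)).mapCocone c) i) s
  obtain ⟨x, hx⟩ := (h c.pt).2 (𝟙 c.pt)
  obtain ⟨i, s, rfl⟩ := Types.jointly_surjective' x
  rw [hd] at hx
  refine ⟨i, s, hx, fun j => ?_⟩
  have he := (h (M.obj j)).1 (a₁ := colimit.ι (M ⋙ coyoneda.obj (op (M.obj j))) i (c.ι.app j ≫ s))
    (a₂ := colimit.ι (M ⋙ coyoneda.obj (op (M.obj j))) j (𝟙 (M.obj j))) (by
      rw [hd, hd]
      exact (Category.assoc _ _ _).trans ((congrArg (c.ι.app j ≫ ·) hx).trans ((Category.comp_id _).trans (Category.id_comp _).symm)))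
  obtain ⟨k, a, b, hk⟩ := (Types.FilteredColimit.colimit_eq_iff (M ⋙ coyoneda.obj (op (M.obj j)))).1 he
  exact ⟨k, a, b, ((Category.id_comp _).symm.trans hk.symm).trans (Category.assoc _ _ _)⟩

end Groth.Agent.S6446
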