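import Groth.Statements.S6447
import Groth.Agent.FibBase.MapPb

set_option autoImplicit false
set_option backward.isDefEq.respectTransparency false
set_option backward.isDefEq.respectTransparency.types false
open CategoryTheory CategoryTheory.Limits
universe v u
open FibCat

namespace Groth.Agent.S6447

open CategoryTheory CategoryTheory.Limits

/-- For a 2-fibre product `U = X ×_Y V` of categories, the square formed by `U ⟶ X`, the diagonals `U ⟶
U ×_V U`, `X ⟶ X ×_Y X` and the induced functor `U ×_V U ⟶ X ×_Y X` is 2-cartesian. (The filling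
2-isomorphism is the one whose two components at every object are identities; it exists and is
unique with that property.) -/
theorem result {X Y V : Type u} [Category.{v} X] [Category.{v} Y] [Category.{v} V] (p : X ⥤ Y) (q : V ⥤ Y) :
    ∃ e, (∀ u, (e.hom.app u).fst = 𝟙 _ ∧ (e.hom.app u).snd = 𝟙 _) ∧ FibCat.IsTwoCart
      (CategoricalPullback.π₁ p q)
      ((CategoricalPullback.CatCommSqOver.toFunctorToCategoricalPullback (CategoricalPullback.π₂ p q) (CategoricalPullback.π₂ p q) (CategoricalPullback p q)).obj ⟨𝟭 _, 𝟭 _, Iso.refl _⟩)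
      ((CategoricalPullback.CatCommSqOver.toFunctorToCategoricalPullback p p X).obj ⟨𝟭 _, 𝟭 _, Iso.refl _⟩)
      (FibCat.categoricalPullbackMap (⟨CategoricalPullback.π₁ p q, q, CategoricalPullback.π₁ p q, ⟨(CatCommSq.iso (CategoricalPullback.π₁ p q) (CategoricalPullback.π₂ p q) p q).symm⟩, ⟨(CatCommSq.iso (CategoricalPullback.π₁ p q) (CategoricalPullback.π₂ p q) p q).symm⟩⟩ : CatCospanTransform (CategoricalPullback.π₂ p q) (CategoricalPullback.π₂ p q) p p))
      e := by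
  refine ⟨NatIso.ofComponents (fun u => CategoricalPullback.mkIso (Iso.refl _) (Iso.refl _) ?_) ?_, fun u => ⟨rfl, rfl⟩, ?_⟩
  · show p.map (𝟙 u.fst) ≫ ((FibCat.categoricalPullbackMap (Groth.Agent.FibBase.projTransform p q)).obj ⟨u, u, Iso.refl _⟩).iso.hom = 𝟙 _ ≫ p.map (𝟙 u.fst)
    rw [Groth.Agent.FibBase.mapPb_iso]
    show p.map (𝟙 u.fst) ≫ (u.iso.hom ≫ q.map (𝟙 u.snd) ≫ u.iso.inv) = 𝟙 _ ≫ p.map (𝟙 u.fst)
    simp
  · intro u u' φ
    apply CategoricalPullback.hom_ext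
    · show φ.fst ≫ 𝟙 _ = 𝟙 _ ≫ φ.fst
      simp
    · show φ.fst ≫ 𝟙 _ = 𝟙 _ ≫ φ.fst
      simp
  refine { full := ⟨fun {u u'} t => ?_⟩, faithful := ⟨fun {u u'} t t' h => ?_⟩, essSurj := ⟨fun z => ?_⟩ }
  · exact congrArg (fun k => k.snd.fst) h
  · have h1 : t.fst ≫ 𝟙 _ = 𝟙 _ ≫ t.snd.fst.fst := congrArg (fun k => k.fst) t.w
    have h2 : t.fst ≫ 𝟙 _ = 𝟙 _ ≫ t.snd.snd.fst := congrArg (fun k => k.snd) t.w
    have h3 : t.snd.fst.snd ≫ 𝟙 _ = 𝟙 _ ≫ t.snd.snd.snd := t.snd.w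
    have e : t.snd.fst = t.snd.snd := by
      apply CategoricalPullback.hom_ext
      · exact (Category.id_comp _).symm.trans (h1.symm.trans (h2.trans (Category.id_comp _)))
      · exact (Category.comp_id _).symm.trans (h3.trans (Category.id_comp _))
    refine ⟨t.snd.fst, ?_⟩
    apply CategoricalPullback.hom_ext
    · exact ((Category.comp_id _).symm.trans (h1.trans (Category.id_comp _))).symm
    · exact CategoricalPullback.hom_ext rfl e
  · let h₁ : z.fst ≅ z.snd.fst.fst := (CategoricalPullback.π₁ p p).mapIso z.iso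
    let h₂ : z.fst ≅ z.snd.snd.fst := (CategoricalPullback.π₂ p p).mapIso z.iso
    let g : z.snd.fst.snd ≅ z.snd.snd.snd := z.snd.iso
    let u : CategoricalPullback p q := ⟨z.fst, z.snd.fst.snd, p.mapIso h₁ ≪≫ z.snd.fst.iso⟩
    have hw : p.map h₁.hom ≫ (z.snd.fst.iso.hom ≫ q.map g.hom ≫ z.snd.snd.iso.inv) = 𝟙 _ ≫ p.map h₂.hom := by
      refine Eq.trans ?_ z.iso.hom.w
      show _ = p.map h₁.hom ≫ ((FibCat.categoricalPullbackMap (Groth.Agent.FibBase.projTransform p q)).obj z.snd).iso.hom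
      rw [Groth.Agent.FibBase.mapPb_iso]
    let a₁ : u ≅ z.snd.fst := CategoricalPullback.mkIso h₁ (Iso.refl _) (by simp [u])
    let a₂ : u ≅ z.snd.snd := CategoricalPullback.mkIso h₂ g (by
      show p.map h₂.hom ≫ z.snd.snd.iso.hom = (p.map h₁.hom ≫ z.snd.fst.iso.hom) ≫ q.map g.hom
      rw [← Category.id_comp (p.map h₂.hom), ← hw]
      simp)
    refine ⟨u, ⟨CategoricalPullback.mkIso (Iso.refl _) (CategoricalPullback.mkIso a₁ a₂ ?_) ?_⟩⟩
    · show (𝟙 _) ≫ g.hom = 𝟙 _ ≫ g.hom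
      rfl
    · apply CategoricalPullback.hom_ext
      · show 𝟙 _ ≫ h₁.hom = 𝟙 _ ≫ h₁.hom
        rfl
      · show 𝟙 _ ≫ h₂.hom = 𝟙 _ ≫ h₂.hom
        rfl

end Groth.Agent.S6447
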