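import Groth.Statements.S6448
import Groth.Agent.AlmostFiltered.Basic

set_option autoImplicit false
set_option backward.isDefEq.respectTransparency false
set_option backward.isDefEq.respectTransparency.types false
open CategoryTheory
universe v u
open CatLim

namespace Groth.Agent.S6448

/-- In a category where spans complete to commutative squares and parallel pairs are coequalized by a
later arrow, every connected component is filtered (so the category is a disjoint union of filtered
categories). -/
theorem result {I : Type u} [Category.{v} I]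
    (h1 : ∀ ⦃w x y : I⦄ (a : w ⟶ x) (b : w ⟶ y), ∃ (z : I) (c : x ⟶ z) (d : y ⟶ z), a ≫ c = b ≫ d)
    (h2 : ∀ ⦃x y : I⦄ (a b : x ⟶ y), ∃ (z : I) (c : y ⟶ z), a ≫ c = b ≫ c)
    (j : ConnectedComponents I) : IsFiltered j.Component := by
  have key : ∀ {a b : I}, (a ⟶ b) → ConnectedComponents.mk a = ConnectedComponents.mk b :=
    fun f => Quotient.sound' (Relation.ReflTransGen.single (Or.inl ⟨f⟩))
  haveI : IsFilteredOrEmpty j.Component :=
    { cocone_objs := fun x y => by
        obtain ⟨z, ⟨a⟩, ⟨b⟩⟩ := AlmostFiltered.joined_of_zigzag h1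
          (Quotient.exact' (x.2.trans y.2.symm) : Zigzag x.obj y.obj)
        exact ⟨⟨z, (key a).symm.trans x.2⟩, ObjectProperty.homMk a, ObjectProperty.homMk b, trivial⟩
      cocone_maps := fun x y f g => by
        obtain ⟨z, c, hc⟩ := h2 f.hom g.hom
        exact ⟨⟨z, (key c).symm.trans y.2⟩, ObjectProperty.homMk c, ObjectProperty.hom_ext _ hc⟩ }
  exact { }

end Groth.Agent.S6448
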