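import Groth.Statements.S6449
import Groth.Agent.H23.MoveLemma
-- import your own Groth.Agent.* helpers here

set_option autoImplicit false
universe u
open CategoryTheory CategoryTheory.Limits AlgebraicGeometry
attribute [local instance] HasDerivedCategory.standard
open IntMult

namespace Groth.Agent.S6449

/-- Let X be a nonsingular projective variety (a closed subscheme of some P^N_K), α an r-cycle and β an
s-cycle on X. Then there is an r-cycle α' with α' ∼_rat α such that α' and β intersect properly.
Rational equivalence is that of Chow homology (locally finite sums of principal divisors on (r +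
1)-dimensional integral closed subschemes), which on a variety agrees with the definition through
fibres over P^1. Here X is a nonsingular variety over the algebraically closed field K (smooth,
separated, quasi-compact, integral) with dimension function δ (transcendence degree over K, recorded
by Cyc.DeltaCompat to Spec K with value 0, together with Cyc.IsSetup) and n = dim X = δ of the
generic point; cycles are Mathlib AlgebraicCycles with Cyc.Zk membership, proper intersection is
IntMult.IntersectProperly and α · β is the Tor-formula intersection product on coefficient functions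
(IntMult.interProd). -/
theorem result (K : Type u) [Field K] [IsAlgClosed K] (X : Scheme.{u}) (f : X ⟶ Spec (CommRingCat.of K)) [Smooth f] [IsSeparated f] [QuasiCompact f] [IsIntegral X] (δ : X → ℤ) (hX : Cyc.IsSetup X δ) (hδ : Cyc.DeltaCompat f δ (fun _ => 0)) (n : ℤ) (hn : δ (genericPoint X) = n) (N : ℕ) (ι : X ⟶ CohB1.ProjSpace N K) [IsClosedImmersion ι] (hι : ι ≫ CohB1.ProjSpace.toSpec N K = f) (r s : ℤ) (α β : AlgebraicCycle X ℤ) (hα : α ∈ Cyc.Zk X δ r) (hβ : β ∈ Cyc.Zk X δ s) : ∃ α' : AlgebraicCycle X ℤ, α' ∈ Cyc.Zk X δ r ∧ Cyc.RatEquiv δ r α' α ∧ IntMult.IntersectProperly δ n ⇑α' ⇑β := by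
  classical
  haveI := hX.1
  haveI : CompactSpace ↥X := QuasiCompact.compactSpace_of_compactSpace f
  have hβfin : (Function.support ⇑β).Finite :=
    Groth.Agent.H23.MoveFam.finite_of_lfPts (Groth.Agent.H23.CycleClassK.lfPts_cycle β)
  obtain ⟨α', h1, h2, h3⟩ := Groth.Agent.H23.MoveLemma.exists_moved f hX hδ hn ι hι α hα hβfin.toFinset
  refine ⟨α', h1, h2, fun x y w hx hy hxw hyw => ?_⟩
  have h4 := h3 x hx y (hβfin.mem_toFinset.2 hy) w hxw hyw
  have hxr : δ x = r := by_contra fun h => hx (h1 x h)
  omega

end Groth.Agent.S6449
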