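import Groth.Statements.S6452
import Groth.Agent.H23.MultCM
-- import your own Groth.Agent.* helpers here

set_option autoImplicit false
universe u
open CategoryTheory AlgebraicGeometry
attribute [local instance] HasDerivedCategory.standard
open IntMult

namespace Groth.Agent.S6452

/-- Suppose the ideal of V in O_{X,ξ} is generated by a regular sequence g₁, …, g_c and the local ring
O_{W,ξ} is Cohen–Macaulay. Then e(X, V·W, Z) = length_{O_{X,ξ}}(O_{W,ξ}/(g₁, …, g_c)O_{W,ξ}), i.e.
the length of O_{X,ξ}/(I_{W,ξ} + I_{V,ξ}). Here X is a nonsingular variety over an algebraically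
closed field K (smooth, separated, quasi-compact, integral), V and W are closed subvarieties given
by quasi-coherent ideal sheaves with integral subschemes, of dimensions r and s with dim X = n,
intersecting properly, and ξ is the generic point of an irreducible component Z of V ∩ W (a point of
V ∩ W maximal under specialization); e(X, V·W, Z) = IntMult.mult is the alternating sum of lengths
of Tor over O_{X,ξ}, and O_{W,ξ} = O_{X,ξ}/I_{W,ξ}. -/
theorem result (K : Type u) [Field K] [IsAlgClosed K] (X : Scheme.{u}) (f : X ⟶ Spec (CommRingCat.of K)) [Smooth f] [IsSeparated f] [QuasiCompact f] [IsIntegral X] (IV IW : X.IdealSheafData) [IsIntegral IV.subscheme] [IsIntegral IW.subscheme] (n r s : ℕ) (hn : topologicalKrullDim X = n) (hr : topologicalKrullDim IV.support = r) (hs : topologicalKrullDim IW.support = s) (hprop : IntMult.ProperInt (IV.support : Set X) (IW.support : Set X) n r s) (ξ : X) (hξV : ξ ∈ IV.support) (hξW : ξ ∈ IW.support) (hmax : ∀ ξ' : X, ξ' ∈ IV.support → ξ' ∈ IW.support → ξ' ⤳ ξ → ξ' = ξ) (c :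 ℕ) (g : Fin c → ↑(X.presheaf.stalk ξ)) (hg : IntMult.stalkIdeal IV ξ = Ideal.span (Set.range g)) (hreg : RingTheory.Sequence.IsRegular (↑(X.presheaf.stalk ξ)) (List.ofFn g)) (hW : LocCoh.IsCohenMacaulayLocalRing (↑(X.presheaf.stalk ξ) ⧸ IntMult.stalkIdeal IW ξ)) : (IntMult.mult IV IW ξ : ℤ) = (Module.length (X.presheaf.stalk ξ) (↑(X.presheaf.stalk ξ) ⧸ (IntMult.stalkIdeal IW ξ ⊔ IntMult.stalkIdeal IV ξ))).toNat := by
  haveI := Groth.Agent.GrpSchLib.isRegularLocalRing_stalk_of_smooth f ξ
  exact Groth.Agent.H23.MultCM.mult_eq_length f IV IW hn hr hs hprop hξV hξW hmax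
    (fun d b hd hb => by
      rw [hg] at hb ⊢
      exact Groth.Agent.H23.MultCM.le_depth_quot_regular g hreg hd hb)
    (fun d a b _ ha _ hab => ⟨a, hab, Groth.Agent.H23.MultCM.le_depth_of_cm _ hW ha⟩)

end Groth.Agent.S6452
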