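import Groth.Statements.S6453
import Groth.Agent.H23.MultCM
-- import your own Groth.Agent.* helpers here

set_option autoImplicit false
universe u
open CategoryTheory AlgebraicGeometry
attribute [local instance] HasDerivedCategory.standard
open IntMult

namespace Groth.Agent.S6453

/-- Suppose the ideal of V in O_{X,ξ} is generated by a single nonzerodivisor g (c = 1: V is an
effective Cartier divisor at ξ). Then e(X, V·W, Z) = length_{O_{X,ξ}}(O_{W,ξ}/g O_{W,ξ}), i.e. the
length of O_{X,ξ}/(I_{W,ξ} + (g)). Here X is a nonsingular variety over an algebraically closed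
field K (smooth, separated, quasi-compact, integral), V and W are closed subvarieties given by
quasi-coherent ideal sheaves with integral subschemes, of dimensions r and s with dim X = n,
intersecting properly, and ξ is the generic point of an irreducible component Z of V ∩ W (a point of
V ∩ W maximal under specialization); e(X, V·W, Z) = IntMult.mult is the alternating sum of lengths
of Tor over O_{X,ξ}, and O_{W,ξ} = O_{X,ξ}/I_{W,ξ}. -/
theorem result (K : Type u) [Field K] [IsAlgClosed K] (X : Scheme.{u}) (f : X ⟶ Spec (CommRingCat.of K)) [Smooth f] [IsSeparated f] [QuasiCompact f] [IsIntegral X] (IV IW : X.IdealSheafData) [IsIntegral IV.subscheme] [IsIntegral IW.subscheme] (n r s : ℕ) (hn : topologicalKrullDim X = n) (hr : topologicalKrullDim IV.support = r) (hs : topologicalKrullDim IW.support = s) (hprop : IntMult.ProperInt (IV.support : Set X) (IW.support : Set X) n r s) (ξ : X) (hξV : ξ ∈ IV.support) (hξW : ξ ∈ IW.support) (hmax : ∀ ξ' : X, ξ' ∈ IV.support → ξ' ∈ IW.support → ξ' ⤳ ξ → ξ' = ξ) (g : ↑(X.presheaf.stalk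 ξ)) (hg : IntMult.stalkIdeal IV ξ = Ideal.span {g}) (hreg : IsSMulRegular (↑(X.presheaf.stalk ξ)) g) : (IntMult.mult IV IW ξ : ℤ) = (Module.length (X.presheaf.stalk ξ) (↑(X.presheaf.stalk ξ) ⧸ (IntMult.stalkIdeal IW ξ ⊔ Ideal.span {g}))).toNat := by
  haveI := Groth.Agent.GrpSchLib.isRegularLocalRing_stalk_of_smooth f ξ
  haveI hPV := Groth.Agent.H23.MultCM.isPrime_stalkIdeal IV hξV
  haveI hPW := Groth.Agent.H23.MultCM.isPrime_stalkIdeal IW hξW
  have hgm : g ∈ IsLocalRing.maximalIdeal (X.presheaf.stalk ξ) :=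
    IsLocalRing.le_maximalIdeal hPV.ne_top (hg ▸ Ideal.mem_span_singleton_self g)
  have hspan : Ideal.span {g} = Ideal.span (Set.range ![g]) := by simp
  have hr1 : RingTheory.Sequence.IsRegular (X.presheaf.stalk ξ) (List.ofFn ![g]) := by
    refine RingTheory.Sequence.IsRegular.of_isWeaklyRegular_of_mem_maximalIdeal _ ?_ ?_
    · simpa using hgm
    · simp [RingTheory.Sequence.isWeaklyRegular_cons_iff, hreg]
  rw [← hg]
  refine Groth.Agent.H23.MultCM.mult_eq_length f IV IW hn hr hs hprop hξV hξW hmax
    (fun d b hd hb => by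
      rw [hg, hspan] at hb ⊢
      exact Groth.Agent.H23.MultCM.le_depth_quot_regular ![g] hr1 hd hb)
    (fun d a b hd ha hb hab => ?_)
  have hbd : b + 1 = d := by
    have h := Module.supportDim_add_length_eq_supportDim_of_isRegular (List.ofFn ![g]) hr1
    have e : (Ideal.ofList (List.ofFn ![g]) • ⊤ : Submodule (X.presheaf.stalk ξ) (X.presheaf.stalk ξ)) =
        IntMult.stalkIdeal IV ξ := by
      rw [hg, Ideal.smul_eq_mul, Ideal.mul_top]
      simp [Ideal.ofList]
    rw [e, Module.supportDim_quotient_eq_ringKrullDim, Module.supportDim_self_eq_ringKrullDim, hb, hd,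
      List.length_ofFn] at h
    exact_mod_cast h
  refine ⟨1, by omega, ?_⟩
  obtain ⟨x, hxm, hxI⟩ : ∃ x ∈ IsLocalRing.maximalIdeal (X.presheaf.stalk ξ), x ∉ IntMult.stalkIdeal IW ξ := by
    by_contra hcon
    push Not at hcon
    have heq : IntMult.stalkIdeal IW ξ = IsLocalRing.maximalIdeal _ :=
      le_antisymm (IsLocalRing.le_maximalIdeal hPW.ne_top) hcon
    haveI : (IntMult.stalkIdeal IW ξ).IsMaximal := heq ▸ IsLocalRing.maximalIdeal.isMaximal _
    rw [ringKrullDim_eq_zero_of_isField ((Ideal.Quotient.maximal_ideal_iff_isField_quotient _).1 ‹_›)] at ha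
    have : a = 0 := by exact_mod_cast ha.symm
    omega
  refine Groth.Agent.PlanarExt.one_le_depth_of_regular hxm ?_
  rw [isSMulRegular_iff_right_eq_zero_of_smul]
  intro q hq
  obtain ⟨q, rfl⟩ := Ideal.Quotient.mk_surjective q
  exact Ideal.Quotient.eq_zero_iff_mem.2 ((hPW.mem_or_mem (Ideal.Quotient.eq_zero_iff_mem.1 hq)).resolve_left hxI)

end Groth.Agent.S6453
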