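import Groth.Statements.S6455
import Groth.Agent.H23.UnitSec
import Groth.Agent.CycLib.Envelope
-- import your own Groth.Agent.* helpers here

set_option autoImplicit false
universe u
open CategoryTheory AlgebraicGeometry
open Cyc

namespace Groth.Agent.S6455

/-- c_1(O_X) ∩ α = 0 in CH_k(X) for every (k + 1)-cycle α: computed with any nonzero rational sections
of the structure sheaf, the k-cycle c_1(O_X) ∩ α is rationally equivalent to zero. Here L(ξ) =
L_ξ/𝔪_ξ L_ξ is the space of rational sections of L on the closure of ξ, div_{L|W}(s) and c_1(L) ∩ α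
are computed as coefficient functions from chosen nonzero rational sections (Cyc.secDivFun,
Cyc.c1CapFun), and results are compared up to rational equivalence for any cycles with those
coefficients. A pair (X, δ) with Cyc.IsSetup plays the role of a scheme locally of finite type over
the base (S, δ) (X locally Noetherian with universally catenary local rings, δ a dimension
function). -/
theorem result (X : Scheme.{u}) (δ : X → ℤ) (hX : Cyc.IsSetup X δ) (k : ℤ) (α : AlgebraicCycle X ℤ) (hα : α ∈ Cyc.Zk X δ (k + 1)) (s : (ξ : X) → Cyc.secFibre (Coh.structureModule X) ξ) (hs : ∀ ξ, s ξ ≠ 0) (γ : AlgebraicCycle X ℤ) (hγ : ⇑γ = Cyc.c1CapFun δ (Coh.structureModule X) ⇑α s) : Cyc.RatEquivZero δ k γ := by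
  obtain ⟨hn, -, hd⟩ := hX
  haveI := hn
  choose φ hφ using fun ξ => Groth.Agent.H23.UnitSec.exists_rep (s ξ)
  let f : (ξ : X) → X.residueField ξ := fun ξ => X.residue ξ (φ ξ)
  have hf : ∀ ξ, f ξ ≠ 0 := fun ξ => Groth.Agent.H23.UnitSec.residue_ne_zero (hs ξ) (hφ ξ)
  have hpow : ∀ ξ (n : ℤ) (x : X), Cyc.divFun δ ξ (f ξ ^ n) x = n * Cyc.divFun δ ξ (f ξ) x := by
    intro ξ n x
    induction n using Int.induction_on with
    | zero =>
      have h1 := congrFun (Groth.Agent.CycLib.divFun_mul hd (ξ := ξ) (one_ne_zero (α := X.residueField ξ)) one_ne_zero) x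
      rw [mul_one, Pi.add_apply] at h1
      rw [zpow_zero, Int.zero_mul]
      omega
    | succ i ih =>
      rw [zpow_add₀ (hf ξ), zpow_one, Groth.Agent.CycLib.divFun_mul hd (zpow_ne_zero _ (hf ξ)) (hf ξ), Pi.add_apply, ih]
      ring
    | pred i ih =>
      rw [zpow_sub₀ (hf ξ), zpow_one, div_eq_mul_inv, Groth.Agent.CycLib.divFun_mul hd (zpow_ne_zero _ (hf ξ)) (inv_ne_zero (hf ξ)),
        Groth.Agent.CycLib.divFun_inv hd (hf ξ), Pi.add_apply, Pi.neg_apply, ih]
      ring
  refine ⟨Function.support ⇑α, fun i => i.1, fun i => f i.1 ^ α i.1, fun i => ?_, fun i => zpow_ne_zero _ (hf _), fun x => ?_, fun x => ?_⟩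
  · by_contra h
    exact i.2 (hα i.1 h)
  · obtain ⟨_, ⟨U, hU, rfl⟩, hxU, -⟩ :=
      X.isBasis_affineOpens.exists_subset_of_mem_open (Set.mem_univ x) isOpen_univ
    refine ⟨U, U.2, hxU, ((Groth.Agent.CycLib.finite_support_inter_affine α hU).preimage Subtype.val_injective.injOn).subset ?_⟩
    rintro i ⟨y, hy, hyU⟩
    exact ⟨(specializes_iff_mem_closure.mpr hy).mem_open U.2 hyU, i.2⟩
  · rw [hγ]
    show ∑ᶠ ξ : X, α ξ * Cyc.secDivFun δ (Coh.structureModule X) ξ (s ξ) x = _
    have e : ∀ ξ, α ξ * Cyc.secDivFun δ (Coh.structureModule X) ξ (s ξ) x = Cyc.divFun δ ξ (f ξ ^ α ξ) x := fun ξ => by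
      rw [hpow, Groth.Agent.H23.UnitSec.secDivFun_eq_divFun hd (hs ξ) (hφ ξ)]
    rw [finsum_congr e]
    rw [← finsum_mem_univ, finsum_mem_inter_support_eq' _ Set.univ (Function.support ⇑α) ?_, ← finsum_set_coe_eq_finsum_mem]
    intro ξ hξ
    refine iff_of_true trivial fun h0 => hξ ?_
    show Cyc.divFun δ ξ (f ξ ^ α ξ) x = 0
    rw [hpow, h0, Int.zero_mul]

end Groth.Agent.S6455
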