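import Groth.Statements.S6457
import Mathlib
-- import your own Groth.Agent.* helpers here

set_option autoImplicit false
universe u
open CategoryTheory AlgebraicGeometry
open Cyc

namespace Groth.Agent.S6457

/-- Let f : X → Y be a quasi-compact morphism of schemes and {Z_i} a locally finite collection of closed
subsets of X. Then the closures of the images f(Z_i) form a locally finite collection of closed
subsets of Y. (The published statement takes X and Y locally of finite type over a base; this row
allows arbitrary schemes, only quasi-compactness of f being used.) -/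
theorem result (X Y : Scheme.{u}) (f : X ⟶ Y) [QuasiCompact f] (ι : Type u) (Z : ι → Set X) (hZ : ∀ i, IsClosed (Z i)) (hlf : LocallyFinite Z) : LocallyFinite (fun i => closure (f '' Z i)) := by
  intro y
  obtain ⟨U, hU, hy, -⟩ := exists_isAffineOpen_mem_and_subset (x := y) (U := ⊤) trivial
  have hc : IsCompact (f ⁻¹' (U : Set Y)) := (quasiCompact_iff f).1 inferInstance U U.isOpen hU.isCompact
  refine ⟨U, U.isOpen.mem_nhds hy, (hlf.finite_nonempty_inter_compact hc).subset ?_⟩
  rintro i ⟨z, hz, hzU⟩
  obtain ⟨w, hwU, x, hx, rfl⟩ := mem_closure_iff.1 hz U U.isOpen hzU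
  exact ⟨x, hx, hwU⟩

end Groth.Agent.S6457
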