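import Groth.Statements.S6458
import Groth.Agent.CycLib.Basic
-- import your own Groth.Agent.* helpers here

set_option autoImplicit false
universe u
open CategoryTheory AlgebraicGeometry
open Cyc

namespace Groth.Agent.S6458

/-- Let X be integral with generic point η and ξ the generic point of an irreducible component of an
effective Cartier divisor on X; locally: g ∈ 𝔪_ξ ⊂ O_{X,ξ} is nonzero and O_{X,ξ}/(g) is
zero-dimensional. Then dim_δ of the closure of ξ is dim_δ(X) − 1, i.e. δ(ξ) = δ(η) − 1. Here a pair
(X, δ) with Cyc.IsSetup plays the role of a scheme locally of finite type over the base (S, δ) (X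
locally Noetherian with universally catenary local rings, δ a dimension function). -/
theorem result (X : Scheme.{u}) [IsIntegral X] (δ : X → ℤ) (hX : Cyc.IsSetup X δ) (ξ : X) (g : ↑(X.presheaf.stalk ξ)) (hg0 : g ≠ 0) (hgm : g ∈ IsLocalRing.maximalIdeal (X.presheaf.stalk ξ)) (hdim : ringKrullDim (↑(X.presheaf.stalk ξ) ⧸ Ideal.span {g}) = 0) : δ ξ = δ (genericPoint X) - 1 := by
  haveI := hX.1
  have hdom : ringKrullDim (X.presheaf.stalk ξ) = 1 := by
    refine le_antisymm ?_ ?_
    · have h := ringKrullDim_le_ringKrullDim_quotient_add_card (R := X.presheaf.stalk ξ) {g} (by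
        simpa [Set.singleton_subset_iff, IsLocalRing.ringJacobson_eq_maximalIdeal] using hgm)
      rw [Finset.coe_singleton, hdim, zero_add, Finset.card_singleton] at h
      exact_mod_cast h
    · by_contra hlt
      push Not at hlt
      haveI : Ring.KrullDimLE 0 (X.presheaf.stalk ξ) := by
        rw [Ring.krullDimLE_iff]
        revert hlt
        cases ringKrullDim (X.presheaf.stalk ξ) with
        | bot => intro _; exact bot_le
        | coe a =>
          intro h
          have h' : a < 1 := WithBot.coe_lt_coe.1 h
          rw [Order.lt_one_iff.1 h']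
          exact le_rfl
      have hf : IsField (X.presheaf.stalk ξ) := Ring.KrullDimLE.isField_of_isDomain
      have := (IsLocalRing.isField_iff_maximalIdeal_eq).1 hf
      exact hg0 (by rw [this] at hgm; exact hgm)
  rw [Groth.Agent.CycLib.ringKrullDim_stalk_eq hX.2.2, show (1 : WithBot ℕ∞) = ((1 : ℕ) : WithBot ℕ∞) from rfl] at hdom
  have h1 : (δ (genericPoint X) - δ ξ).toNat = 1 := by exact_mod_cast hdom
  omega

end Groth.Agent.S6458
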