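import Groth.Statements.S6461
import Groth.Agent.CycLib.Basic
import Groth.Agent.FibDim.Top
import Groth.Agent.CAlgOdd.CMCatenary
-- import your own Groth.Agent.* helpers here

set_option autoImplicit false
universe u
open CategoryTheory AlgebraicGeometry
open Cyc

namespace Groth.Agent.S6461

/-- If all local rings of X are Cohen–Macaulay then every x ∈ X has an open neighbourhood U and an
integer n with δ(ξ) = n for every generic point ξ of an irreducible component of U (every point of U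
maximal under specialization). Here a pair (X, δ) with Cyc.IsSetup plays the role of a scheme
locally of finite type over the base (S, δ) (X locally Noetherian with universally catenary local
rings, δ a dimension function). -/
theorem result (X : Scheme.{u}) (δ : X → ℤ) (hX : Cyc.IsSetup X δ) (hCM : ∀ x : X, LocCoh.IsCohenMacaulayLocalRing ↑(X.presheaf.stalk x)) (x : X) : ∃ (U : X.Opens) (n : ℤ), x ∈ U ∧ ∀ ξ : X, ξ ∈ U → (∀ ξ' : X, ξ' ⤳ ξ → ξ' = ξ) → δ ξ = n := by
  
  haveI := hX.1
  haveI := hCM x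
  obtain ⟨W, hxW, hW⟩ := Groth.Agent.FibDim.exists_nhd_generizing (X := X) isClosed_univ x
  let R := X.presheaf.stalk x
  have hs : Module.support R R = Set.univ := by
    rw [Module.support_eq_zeroLocus, Set.eq_univ_iff_forall]
    intro p
    refine (PrimeSpectrum.mem_zeroLocus _ _).mpr fun a ha => ?_
    have h1 : a * 1 = 0 := Module.mem_annihilator.mp ha 1
    rw [mul_one] at h1
    exact h1 ▸ p.asIdeal.zero_mem
  obtain ⟨d, hd⟩ : ∃ d : ℤ, ∀ ξ : X, (∀ z, z ⤳ ξ → z = ξ) → ξ ⤳ x → δ ξ - δ x = d := by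
    by_cases hex : ∃ ξ : X, (∀ z, z ⤳ ξ → z = ξ) ∧ ξ ⤳ x
    · obtain ⟨ξ₀, h₀, h₀x⟩ := hex
      refine ⟨δ ξ₀ - δ x, fun ξ h hx => ?_⟩
      have key : ∀ (ζ : X) (hmax : ∀ z, z ⤳ ζ → z = ζ) (hζ : ζ ⤳ x),
          (DimFormula.cd ζ x : WithBot ℕ∞) = ringKrullDim R := by
        intro ζ hmax hζ
        have e := CAlgOdd.CMCatenary.height_add_coheight (R := R) R
          (LocCoh.IsCohenMacaulayLocalRing.supportDim_eq_depth) hs (CDiv6.primeOf hζ)
        rw [CDiv6.height_primeOf, Order.coheight_eq_zero.mpr (fun z hz => (hmax z hz).le.trans le_rfl)] at e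
        have e2 := DimFormula.ringKrullDim_stalk_quotient x (CDiv6.primeOf hζ)
        rw [CDiv6.fromSpecStalk_primeOf, ringKrullDim_quotient] at e2
        rw [← e2, ← e, Order.coheight_eq_krullDim_Ici]
        simp only [WithBot.coe_zero, zero_add]
        rfl
      have hn : DimFormula.cd ξ x = DimFormula.cd ξ₀ x := by
        exact_mod_cast (key ξ h hx).trans (key ξ₀ h₀ h₀x).symm
      rw [← CycLib.cd_eq hX.2.2 hx, ← CycLib.cd_eq hX.2.2 h₀x, hn]
    · exact ⟨0, fun ξ h hx => absurd ⟨ξ, h, hx⟩ hex⟩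
  refine ⟨W, δ x + d, hxW, fun ξ hξW hmax => ?_⟩
  obtain ⟨η, -, hηx, hηξ⟩ := hW ξ hξW trivial
  obtain rfl := hmax η hηξ
  linarith [hd η hmax hηx]

end Groth.Agent.S6461
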