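import Groth.Statements.S6462
import Groth.Agent.CycLib.Basic
import Groth.Agent.DimFormula.Jacobson
-- import your own Groth.Agent.* helpers here

set_option autoImplicit false
universe u
open CategoryTheory AlgebraicGeometry
open Cyc

namespace Groth.Agent.S6462

/-- Assume in addition that X is Jacobson and δ(x) = 0 for every closed point x. For a point ξ of X with
closure Z (an integral closed subscheme whose generic point is ξ) one then has δ(ξ) = dim Z = dim
O_{Z,z} for every closed point z of Z; here Z is the closure of ξ and O_{Z,z} = O_{X,z}/𝔭_ξ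
(Cyc.LocQuot). (The published statement takes X locally of finite type over a Jacobson base with δ
zero on the base's closed points; this row assumes instead that X is Jacobson and δ vanishes on the
closed points of X, which follows from the published hypotheses.) Here a pair (X, δ) with
Cyc.IsSetup plays the role of a scheme locally of finite type over the base (S, δ) (X locally
Noetherian with universally catenary local rings, δ a dimension function). -/
theorem result (X : Scheme.{u}) [JacobsonSpace X] (δ : X → ℤ) (hX : Cyc.IsSetup X δ) (h0 : ∀ x : X, IsClosed ({x} : Set X) → δ x = 0) (ξ : X) : (topologicalKrullDim ↥(closure ({ξ} : Set X)) = ((δ ξ).toNat : WithBot ℕ∞) ∧ 0 ≤ δ ξ) ∧ ∀ (z : X) (h : ξ ⤳ z), IsClosed ({z} : Set X) → ringKrullDim (Cyc.LocQuot z ξ h) = ((δ ξ).toNat : WithBot ℕ∞) := by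
  haveI := hX.1
  have hd := hX.2.2
  obtain ⟨z₀, hz₀, hc₀⟩ := Groth.Agent.SchTop.exists_isClosed_specializes ξ
  have hnn : ∀ x : X, 0 ≤ δ x := fun x => by
    obtain ⟨z, hz, hc⟩ := Groth.Agent.SchTop.exists_isClosed_specializes x
    have := Groth.Agent.CycLib.delta_le hd hz
    rw [h0 z hc] at this
    exact this
  refine ⟨⟨?_, hnn ξ⟩, fun z h hc => ?_⟩
  · haveI : QuasiSober ↥(closure ({ξ} : Set X)) := isClosed_closure.isClosedEmbedding_subtypeVal.quasiSober
    rw [Groth.Agent.DimFormula.topologicalKrullDim_subset]
    refine le_antisymm ?_ ?_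
    · refine iSup_le fun l => ?_
      have key : ∀ i : Fin (l.length + 1), (i : ℕ) ≤ δ (l i).1 := by
        intro i
        induction i using Fin.induction with
        | zero => simpa using hnn _
        | succ j ih =>
          have hlt : l j.castSucc < l j.succ := l.step j
          have hsp : (l j.succ).1 ⤳ (l j.castSucc).1 := hlt.le
          have := Groth.Agent.CycLib.delta_lt hd hsp fun e => hlt.ne (Subtype.ext e.symm)
          simp only [Fin.val_succ, Fin.val_castSucc, Nat.cast_add, Nat.cast_one] at ih ⊢
          omega
      have h1 := key (Fin.last _)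
      have h2 := Groth.Agent.CycLib.delta_le hd (specializes_iff_mem_closure.2 (l (Fin.last _)).2 : ξ ⤳ (l (Fin.last _)).1)
      simp only [Fin.val_last] at h1
      exact_mod_cast (by omega : l.length ≤ (δ ξ).toNat)
    · obtain ⟨l, hl0, hl1, hl⟩ := Groth.Agent.DimFormula.exists_cd_series hz₀
      have hcd := Groth.Agent.CycLib.cd_eq hd hz₀
      rw [h0 z₀ hc₀, sub_zero, ← hl] at hcd
      rw [← hcd, Int.toNat_natCast]
      let l' : LTSeries ↥(closure ({ξ} : Set X)) :=
        { length := l.length
          toFun := fun i => ⟨l i, specializes_iff_mem_closure.1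
            (hl1.trans (show l.last ⤳ l i from LTSeries.monotone l (Fin.le_last i)))⟩
          step := fun i => l.step i }
      exact Order.LTSeries.length_le_krullDim l'
  · rw [Groth.Agent.CycLib.ringKrullDim_locQuot h]
    have hcd := Groth.Agent.CycLib.cd_eq hd h
    rw [h0 z hc, sub_zero] at hcd
    rw [← hcd, Int.toNat_natCast]

end Groth.Agent.S6462
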