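import Groth.Statements.S6464
import Groth.Agent.CycLib.Periodic

set_option autoImplicit false
open Groth.Agent
universe u v
open CycAlg

namespace Groth.Agent.S6464

/-- Let (M, N, φ, ψ) be a 2-periodic complex over a ring R with M and N of finite length. Then its
cohomology modules have finite length and e_R(M, N, φ, ψ) = length_R(M) − length_R(N). (The case M =
N, where the conclusion reads e_R(M, φ, ψ) = 0, is the special case and is not restated.) -/
theorem result {R : Type u} [CommRing R] {M N : Type v} [AddCommGroup M] [Module R M] [AddCommGroup N] [Module R N] (φ : M →ₗ[R] N) (ψ : N →ₗ[R] M) (h : CycAlg.IsPeriodic φ ψ) (hM : Module.length R M < ⊤) (hN : Module.length R N < ⊤) : CycAlg.FinCoh R φ ψ ∧ CycAlg.herbrand R φ ψ = ((Module.length R M).toNat : ℤ) - ((Module.length R N).toNat : ℤ) := by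
  exact CycLib.Periodic.of_finite_length h hM hN

end Groth.Agent.S6464
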