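import Groth.Statements.S6465
import Groth.Agent.H23.GysinLib
-- import your own Groth.Agent.* helpers here

set_option autoImplicit false
universe u
open CategoryTheory AlgebraicGeometry
open Cyc

namespace Groth.Agent.S6465

/-- Let (L, s, i : D → X) be a triple defining a Gysin map. Then i^* i_* : CH_k(D) → CH_{k−1}(D) sends
the class of a k-cycle α on D to c_1(L|_D) ∩ α: the (k − 1)-cycle i^*(i_* α) is rationally
equivalent on D to c_1(i^*L) ∩ α computed with any nonzero rational sections. Here i : D → X is the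
zero scheme of a global section s of the invertible module L (Cyc.IsZeroSchemeOf), the Gysin map i^*
: Z_{k+1}(X) → CH_k(D) is computed on coefficient functions as c_1(L) ∩ − with the rational sections
taken to be s where it is nonzero and a nonzero fallback elsewhere (Cyc.gysinChoice), restricted to
the points of D, and classes on D are compared up to rational equivalence on D for the restricted
dimension function; (X, δ) with Cyc.IsSetup stands for a scheme locally of finite type over the base
(S, δ). -/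
theorem result (X D : Scheme.{u}) (δ : X → ℤ) (hX : Cyc.IsSetup X δ) (L : X.Modules) (hL : PicF.IsInvertible L) (s : L.presheaf.obj (Opposite.op ⊤)) (i : D ⟶ X) [IsClosedImmersion i] (hD : Cyc.IsZeroSchemeOf i L s) (k : ℤ) (α : AlgebraicCycle D ℤ) (hα : α ∈ Cyc.Zk D (fun d => δ (i d)) k) (w : (ξ : X) → Cyc.secFibre L ξ) (hw : ∀ ξ, w ξ ≠ 0) (t : (d : D) → Cyc.secFibre ((Scheme.Modules.pullback i).obj L) d) (ht : ∀ d, t d ≠ 0) (ζ₁ ζ₂ : AlgebraicCycle D ℤ) (h₁ : ∀ d, ζ₁ d = Cyc.c1CapFun δ L ⇑(AlgebraicCycle.map i (fun d => δ (i d)) δ α) (Cyc.gysinChoice L s w) (i d)) (h₂ : ⇑ζ₂ = Cyc.c1CapFun (fun d => δ (i d)) ((Scheme.Modules.pullback i).obj L) ⇑α t) : Cyc.RatEquiv (fun d => δ (i d)) (k - 1) ζ₁ ζ₂ := by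
  
  haveI := hX.1
  haveI : IsLocallyNoetherian D := LocallyOfFiniteType.isLocallyNoetherian i
  have hdD := Groth.Agent.CycLib.isDimFun_closedImmersion i hX.2.2
  have hL' := Groth.Agent.PicClLib.isInvertible_pullback i hL
  have hv := Groth.Agent.H23.C1Pull.vPull_ne_zero (p := i) hL hw
  refine Groth.Agent.H23.RatSec.ratEquiv_c1Cap hL' hdD (α := ⇑α) (fun d hd => hα d (by simpa using hd))
    (Groth.Agent.H23.GysinLib.locFin α) hv ht ?_ h₂
  funext d
  have h3 := Groth.Agent.H23.C1Push.map_c1Cap (p := i) hL hdD hX.2.2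
    (Groth.Agent.H23.GysinLib.deltaCompat_closedImmersion i δ) α hw
  rw [h₁ d]
  have h4 : Cyc.c1CapFun δ L ⇑(AlgebraicCycle.map i (fun d => δ (i d)) δ α) (Cyc.gysinChoice L s w) =
      Cyc.c1CapFun δ L ⇑(AlgebraicCycle.map i (fun d => δ (i d)) δ α) w := by
    funext x
    refine finsum_congr fun ξ => ?_
    by_cases hξ : ξ ∈ Set.range i
    · rw [Groth.Agent.H23.GysinLib.gysinChoice_eq_of_mem hD w hξ]
    · rw [Groth.Agent.CycLib.map_apply_not_range i _ δ α hξ, zero_mul, zero_mul]
  rw [h4, ← congrFun h3 (i d), Groth.Agent.CycLib.map_preimmersion_apply]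
  rfl

end Groth.Agent.S6465
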