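import Groth.Statements.S6466
import Groth.Agent.H23.GysinComm
-- import your own Groth.Agent.* helpers here

set_option autoImplicit false
universe u
open CategoryTheory AlgebraicGeometry
open Cyc

namespace Groth.Agent.S6466

/-- Let (L, s, i : D → X) be a triple defining a Gysin map and N an invertible O_X-module. Then
i^*(c_1(N) ∩ α) = c_1(i^*N) ∩ i^*α in CH_{k−2}(D) for every k-cycle α on X: with β any (k − 1)-cycle
with the coefficients of c_1(N) ∩ α (any nonzero sections v) and γ = i^*α as a coefficient function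
on D, the cycles i^*β and c_1(i^*N) ∩ γ (any nonzero sections t of i^*N) are rationally equivalent
on D. Here i : D → X is the zero scheme of a global section s of the invertible module L
(Cyc.IsZeroSchemeOf), the Gysin map i^* : Z_{k+1}(X) → CH_k(D) is computed on coefficient functions
as c_1(L) ∩ − with the rational sections taken to be s where it is nonzero and a nonzero fallback
elsewhere (Cyc.gysinChoice), restricted to the points of D, and classes on D are compared up to
rational equivalence on D for the restricted dimension function; (X, δ) with Cyc.IsSetup stands for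
a scheme locally of finite type over the base (S, δ). -/
theorem result (X D : Scheme.{u}) (δ : X → ℤ) (hX : Cyc.IsSetup X δ) (L N : X.Modules) (hL : PicF.IsInvertible L) (hN : PicF.IsInvertible N) (s : L.presheaf.obj (Opposite.op ⊤)) (i : D ⟶ X) [IsClosedImmersion i] (hD : Cyc.IsZeroSchemeOf i L s) (k : ℤ) (α : AlgebraicCycle X ℤ) (hα : α ∈ Cyc.Zk X δ k) (w : (ξ : X) → Cyc.secFibre L ξ) (hw : ∀ ξ, w ξ ≠ 0) (v : (ξ : X) → Cyc.secFibre N ξ) (hv : ∀ ξ, v ξ ≠ 0) (t : (d : D) → Cyc.secFibre ((Scheme.Modules.pullback i).obj N) d) (ht : ∀ d, t d ≠ 0) (β : AlgebraicCycle X ℤ) (hβ : ⇑β = Cyc.c1CapFun δ N ⇑α v) (γ : D → ℤ) (hγ : γ = fun d => Cyc.c1CapFun δ L ⇑α (Cyc.gysinChoice L s w) (i d)) (ζ₁ ζ₂ : AlgebraicCycle D ℤ) (h₁ : ∀ d, ζ₁ d = Cyc.c1CapFun δ L ⇑β (Cyc.gysinChoice L s w) (i d)) (h₂ : ⇑ζ₂ = Cyc.c1CapFun (fun d => δ (i d)) ((Scheme.Modules.pullback i).obj N) γ t) : Cyc.RatEquiv (fun d => δ (i d)) (k - 2) ζ₁ ζ₂ := by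
  
  haveI := hX.1
  exact Groth.Agent.H23.GysinLib.gysin_c1Cap hL hX.2.2 hD (k := k - 2) α (fun x hx => hα x (by omega)) hw hN hv hβ
    (fun d => by rw [hγ]) ht h₁ h₂

end Groth.Agent.S6466
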