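import Groth.Statements.S6469
import Groth.Agent.H23.K0TensorInv
-- import your own Groth.Agent.* helpers here

set_option autoImplicit false
universe u
open CategoryTheory AlgebraicGeometry
open Cyc

namespace Groth.Agent.S6469

/-- Let L be invertible and F coherent with dim_δ Supp(F) ≤ k + 1. Then [F ⊗ L] − [F] ∈
K_0(Coh_{≤k+1}(X)/Coh_{≤k−1}(X)) lies in the image B_k(X) of K_0(Coh_{≤k}/Coh_{≤k−1}) and
corresponds to c_1(L) ∩ [F]_{k+1} under B_k(X) ≅ CH_k(X): for any k-cycle γ with the coefficients of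
c_1(L) ∩ [F]_{k+1} (any nonzero rational sections), [F ⊗ L] − [F] = [⊕_{n_Z>0} O_Z^{n_Z}] −
[⊕_{n_Z<0} O_Z^{−n_Z}] where γ = Σ n_Z [Z]. Tensor product: CohB1.tensorMod; K_0 model:
Cyc.K0CohQuot. Here a pair (X, δ) with Cyc.IsSetup plays the role of a scheme locally of finite type
over the base (S, δ) (X locally Noetherian with universally catenary local rings, δ a dimension
function). -/
theorem result (X : Scheme.{u}) (δ : X → ℤ) (hX : Cyc.IsSetup X δ) (k : ℤ) (L : X.Modules) (hL : PicF.IsInvertible L) (F : X.Modules) (hF : Coh.IsCoh F) (hdim : ∀ x : X, Nontrivial (F.presheaf.stalk x) → δ x ≤ k + 1) (s : (ξ : X) → Cyc.secFibre L ξ) (hs : ∀ ξ, s ξ ≠ 0) (γ : AlgebraicCycle X ℤ) (hγk : γ ∈ Cyc.Zk X δ k) (hγ : ⇑γ = Cyc.c1CapFun δ L (Cyc.sheafFun δ (k + 1) F) s) : Cyc.toK0CohQuot δ (k + 1) (k - 1) (CohB1.tensorMod F L) - Cyc.toK0CohQuot δ (k + 1) (k - 1) F = Cyc.toK0CohQuot δ (k + 1) (k - 1) (Cyc.cycleSheafPos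 ⇑γ) - Cyc.toK0CohQuot δ (k + 1) (k - 1) (Cyc.cycleSheafNeg ⇑γ) := by
  haveI := hX.1
  exact Groth.Agent.H23.K0TensorInv.tK_tensor_sub hX.2.2 hL (F := F) ⟨hF, hdim⟩ s hs γ hγk hγ

end Groth.Agent.S6469
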