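import Groth.Statements.S6474
import Groth.Agent.H23.ProjBd.VBundle
import Groth.Agent.H23.ProjBd.Proper
import Groth.Agent.H28.PBMake
import Groth.Agent.H23.OpenExtend
import Groth.Agent.H23.SetupLFT
import Groth.Agent.H23.ChowDesc
import Groth.Agent.H23.GysinLib
-- import your own Groth.Agent.* helpers here

set_option autoImplicit false
universe u
open CategoryTheory AlgebraicGeometry
open Cyc
open Groth.Agent Groth.Agent.H23

namespace Groth.Agent.S6474

/-- Injectivity; surjectivity is the affine-fibres result: suppose ℰ is an O_X-module that is locally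
free of finite rank r, and let p : E = Spec(Sym^* ℰ) → X denote the associated vector bundle. Then
p^* : CH_k(X) → CH_{k+r}(E) is injective: a k-cycle α on X with p^*α ∼_rat 0 on E is itself ∼_rat 0.
The vector bundle is given through the relative-spectrum layer: A a quasi-coherent O_X-algebra with
j : ℰ → A making A the symmetric algebra of ℰ (RelSpec.IsSymAlg, ℰ quasi-coherent), E = A.spec with
structure morphism A.π and the induced dimension function. Here a pair (X, δ) with Cyc.IsSetup plays
the role of a scheme locally of finite type over the base (S, δ) (X locally Noetherian with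
universally catenary local rings, δ a dimension function), and Cyc.DeltaCompat records that the
dimension function upstairs is the induced one. -/
theorem result (X : Scheme.{u}) (δ : X → ℤ) (hX : Cyc.IsSetup X δ) (ℰ : X.Modules) (hq : Coh.IsQCoh ℰ) (r : ℕ) (hr : FlatMod.IsFinLocFreeOfRank r ℰ) (A : RelSpec.QCAlg X) (j : ℰ ⟶ A.toModule) (hA : RelSpec.IsSymAlg ℰ A j) (δE : ↥A.spec → ℤ) (hE : Cyc.IsSetup A.spec δE) (hδ : Cyc.DeltaCompat A.π δE δ) (k : ℤ) (α : AlgebraicCycle X ℤ) (hα : α ∈ Cyc.Zk X δ k) (γ : AlgebraicCycle A.spec ℤ) (hγ : ⇑γ = Cyc.pullFun A.π δE δ r ⇑α) (h0 : Cyc.RatEquivZero δE (k + r) γ) : Cyc.RatEquivZero δ k α := by  classical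
  haveI := hX.1
  haveI := hE.1
  have hcomp : FlatMod.IsFinLocFreeOfRank (r + 1) (ProjBd.Hyper.comp ℰ) := fun x => by
    obtain ⟨V, hxV, ⟨i⟩⟩ := hr x
    obtain ⟨b, hb⟩ := Frame.exists_frame i
    exact ⟨V, hxV, Frame.exists_iso_of_frame _ (ProjBd.Hyper.isFrame_consFrame hb)⟩
  obtain ⟨P, p, O1, q, hP⟩ := H28.PBMake.exists_of_rank hcomp
  haveI := ProjBd.isProper_of_projBundle hP hcomp
  let δP : P → ℤ := fun z => δ (p z) + FibDim.rd p z
  have hδP : Cyc.DeltaCompat p δP δ := ChowDesc.deltaCompat_rd p δ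
  have hPs : Cyc.IsSetup P δP := SetupLFT.isSetup p hX hδP
  haveI := hPs.1
  have hd := hPs.2.2
  haveI := ProjBd.VBundle.isAffineHom_g hP hr
  obtain ⟨e, hei, he⟩ := ProjBd.VBundle.exists_iso hP hq hr hA
  haveI := hei
  let j : A.spec ⟶ P := inv e ≫ (ProjBd.Hyper.W₀ q).ι
  have hj : j ≫ p = A.π := by
    show (inv e ≫ (ProjBd.Hyper.W₀ q).ι) ≫ p = A.π
    rw [Category.assoc, ← cancel_epi e, IsIso.hom_inv_id_assoc]
    exact he.symm
  haveI : LocallyOfFiniteType A.π := by rw [← hj]; infer_instance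
  have hδj : Cyc.DeltaCompat j (fun w => δP (j w)) δP := fun w =>
    ⟨0, (VarDim.rdeg_preimmersion j w).trans Nat.cast_zero.symm, by simp⟩
  have hEj : δE = fun w => δP (j w) := by
    refine ChowDesc.deltaCompat_unique A.π hδ ?_
    have h := Bivar.deltaCompat_comp j p _ _ _ hδj hδP
    rwa [hj] at h
  let At := ProjBd.Hyper.atlas hP hr
  let pc := At.hasCoords.pullCycle hd hδP α
  have hlen : ∀ w, (Module.length (A.spec.presheaf.stalk w) (A.spec.presheaf.stalk w ⧸
      Ideal.map (j.stalkMap w).hom (IsLocalRing.maximalIdeal (P.presheaf.stalk (j w))))).toNat = 1 := fun w => by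
    have hs := j.stalkMap_surjective w
    haveI : IsLocalHom (j.stalkMap w).hom := j.toLRSHom.prop w
    have hm : Ideal.map (j.stalkMap w).hom (IsLocalRing.maximalIdeal (P.presheaf.stalk (j w))) =
        IsLocalRing.maximalIdeal (A.spec.presheaf.stalk w) := by
      refine le_antisymm (Ideal.map_le_iff_le_comap.2 ?_) fun x hx => ?_
      · exact ((IsLocalRing.maximalIdeal.isMaximal _).eq_of_le (Ideal.IsPrime.ne_top inferInstance)
          fun y hy => map_nonunit (j.stalkMap w).hom y hy).le
      · obtain ⟨y, rfl⟩ := hs x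
        exact Ideal.mem_map_of_mem _ fun hu => hx (hu.map (j.stalkMap w).hom)
    rw [hm, Module.length_eq_one_iff.2 ((isSimpleModule_iff_isCoatom).2
      (Ideal.isMaximal_def.1 (IsLocalRing.maximalIdeal.isMaximal _)))]
    rfl
  have hγj : ∀ w, γ w = pc (j w) := fun w => by
    have h := FlatShift.pullFun_comp_of_le j p δE δP δ (r := 0) (s := (r : ℤ)) (fun x => by simp [hEj])
      (fun z => (At.hasCoords.hasShift hd hδP).le hd z) ⇑α
    simp only [hj, add_zero] at h
    rw [hγ, ← h]
    show (if δE w = δP (j w) + 0 then pc (j w) * _ else 0) = pc (j w)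
    rw [if_pos (by simp [hEj]), hlen, Nat.cast_one, mul_one]
  obtain ⟨G', hG', hG'j⟩ := RatOn.extendOpen j (δ := δP) (fun w => congrFun hEj w) (RatOn.of_ratEquivZero h0)
  let Gc : AlgebraicCycle P ℤ :=
    { toFun := G'
      supportWithinDomain' := fun _ _ => trivial
      supportLocallyFiniteWithinDomain' := fun x _ => ProjBd.locFin_zeroOn hd hG' x }
  have hGc : Gc ∈ Cyc.Zk P δP (k + r) := fun x hx => by_contra fun h => hx (ProjBd.exists_gen_of_zeroOn hG' h).1
  refine ProjBd.Hyper.ratEquivZero_of_infty hP hr hd hδP hX hPs hα (D := Gc - pc) (fun x hx => ?_) (fun z hz hzW => ?_)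
    (by rw [add_sub_cancel]; exact RatOn.ratEquivZero hG')
  · rw [Function.locallyFinsuppWithin.coe_sub, Pi.sub_apply, hGc x hx,
      At.hasCoords.pullCycle_mem_Zk hd hδP hα x hx, sub_zero]
  · refine hz ?_
    obtain ⟨w, hw⟩ := (TopCat.homeoOfIso (asIso (inv e).base)).surjective ⟨z, hzW⟩
    have hjw : j w = z := congrArg Subtype.val hw
    rw [Function.locallyFinsuppWithin.coe_sub, Pi.sub_apply, ← hjw, ← hγj w]
    exact sub_eq_zero.2 (hG'j w)


end Groth.Agent.S6474
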