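import Groth.Statements.S6476
import Groth.Agent.CycLib.Dim1Mod
import Groth.Agent.CycLib.Periodic

set_option autoImplicit false
open Groth.Agent
universe u v
open CycAlg

namespace Groth.Agent.S6476

/-- Let A be a Noetherian local ring, M a finite A-module of dimension 1, and φ, ψ : M → M injective
with φ(ψ(M)) = ψ(φ(M)) (e.g. φ, ψ commute). Then length_A(M/φψM) is finite and (M/φψM, φ, ψ) is an
exact (2, 1)-periodic complex; here φ', ψ' denote the endomorphisms of M/φψM induced by φ and ψ, and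
exactness says both cohomology modules (CycAlg.perH) are trivial. -/
theorem result {A : Type u} [CommRing A] [IsNoetherianRing A] [IsLocalRing A] {M : Type v} [AddCommGroup M] [Module A M] [Module.Finite A M] (hdim : Module.supportDim A M = 1) (φ ψ : M →ₗ[A] M) (hφ : Function.Injective φ) (hψ : Function.Injective ψ) (hcomm : Submodule.map φ (LinearMap.range ψ) = Submodule.map ψ (LinearMap.range φ)) (φ' ψ' : (M ⧸ LinearMap.range (φ ∘ₗ ψ)) →ₗ[A] (M ⧸ LinearMap.range (φ ∘ₗ ψ))) (hφ' : φ' ∘ₗ (LinearMap.range (φ ∘ₗ ψ)).mkQ = (LinearMap.range (φ ∘ₗ ψ)).mkQ ∘ₗ φ) (hψ' : ψ' ∘ₗ (LinearMap.range (φ ∘ₗ ψ)).mkQ = (LinearMap.range (φ ∘ₗ ψ)).mkQ ∘ₗ ψ) : Module.length A (M ⧸ LinearMap.range (φ ∘ₗ ψ)) < ⊤ ∧ CycAlg.IsPeriodic φ' ψ' ∧ Subsingleton (CycAlg.perH φ' ψ') ∧ Subsingleton (CycAlg.perH ψ' φ') := by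
  have hφ'' : ∀ m, φ' ((LinearMap.range (φ ∘ₗ ψ)).mkQ m) = (LinearMap.range (φ ∘ₗ ψ)).mkQ (φ m) :=
    LinearMap.congr_fun hφ'
  have hψ'' : ∀ m, ψ' ((LinearMap.range (φ ∘ₗ ψ)).mkQ m) = (LinearMap.range (φ ∘ₗ ψ)).mkQ (ψ m) :=
    LinearMap.congr_fun hψ'
  have hz : ∀ {z : M}, (LinearMap.range (φ ∘ₗ ψ)).mkQ z = 0 ↔ ∃ w, φ (ψ w) = z := Submodule.Quotient.mk_eq_zero _
  have hsw : ∀ m, ∃ w, φ (ψ w) = ψ (φ m) := fun m => by
    obtain ⟨_, ⟨w, rfl⟩, hw⟩ := (hcomm.symm ▸ ⟨φ m, LinearMap.mem_range_self φ m, rfl⟩ :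
      ψ (φ m) ∈ Submodule.map φ (LinearMap.range ψ))
    exact ⟨w, hw⟩
  have hsw' : ∀ m, ∃ w, ψ (φ w) = φ (ψ m) := fun m => by
    obtain ⟨_, ⟨w, rfl⟩, hw⟩ := (hcomm ▸ ⟨ψ m, LinearMap.mem_range_self ψ m, rfl⟩ :
      φ (ψ m) ∈ Submodule.map ψ (LinearMap.range φ))
    exact ⟨w, hw⟩
  refine ⟨CycLib.length_coker_of_injective hdim.le _ (hφ.comp hψ), ⟨?_, ?_⟩, ⟨fun a b => ?_⟩, ⟨fun a b => ?_⟩⟩
  · refine Submodule.linearMap_qext _ (LinearMap.ext fun m => ?_)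
    show φ' (ψ' ((LinearMap.range (φ ∘ₗ ψ)).mkQ m)) = 0
    rw [hψ'', hφ'']
    exact hz.mpr ⟨m, rfl⟩
  · refine Submodule.linearMap_qext _ (LinearMap.ext fun m => ?_)
    show ψ' (φ' ((LinearMap.range (φ ∘ₗ ψ)).mkQ m)) = 0
    rw [hφ'', hψ'']
    exact hz.mpr (hsw m)
  · suffices ∀ z : CycAlg.perH φ' ψ', z = 0 by rw [this a, this b]
    intro z
    obtain ⟨⟨u, hu⟩, rfl⟩ := CycLib.Periodic.cl_surjective φ' ψ' z
    obtain ⟨m, rfl⟩ := Submodule.mkQ_surjective _ u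
    rw [LinearMap.mem_ker, hφ''] at hu
    obtain ⟨w, hw⟩ := hz.mp hu
    exact CycLib.Periodic.cl_eq_zero.mpr ⟨(LinearMap.range (φ ∘ₗ ψ)).mkQ w, by rw [hψ'', hφ hw]⟩
  · suffices ∀ z : CycAlg.perH ψ' φ', z = 0 by rw [this a, this b]
    intro z
    obtain ⟨⟨u, hu⟩, rfl⟩ := CycLib.Periodic.cl_surjective ψ' φ' z
    obtain ⟨m, rfl⟩ := Submodule.mkQ_surjective _ u
    rw [LinearMap.mem_ker, hψ''] at hu
    obtain ⟨w, hw⟩ := hz.mp hu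
    obtain ⟨w', hw'⟩ := hsw' w
    exact CycLib.Periodic.cl_eq_zero.mpr ⟨(LinearMap.range (φ ∘ₗ ψ)).mkQ w', by rw [hφ'', hψ (hw'.trans hw)]⟩

end Groth.Agent.S6476
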