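import Groth.Statements.S6480
import Groth.Agent.TameKey.Fraction

set_option autoImplicit false
open Groth.Agent
universe u
open CycAlg

namespace Groth.Agent.S6480

/-- Let A be a Noetherian local ring of dimension 1, a, b ∈ A nonzerodivisors, A without embedded
primes, M a finite A-module without embedded associated primes and with Supp(M) = Spec(A). Put I =
{x ∈ A | x·(a/b) ∈ A}, and write 𝔮_1, …, 𝔮_t for the minimal prime ideals of A. The conclusion is
that M contains (a/b)IM, and that the difference length_A(M/(a/b)IM) minus length_A(M/IM) equals the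
sum over i of length_{A_{𝔮_i}}(M_{𝔮_i}) multiplied by ord_{A/𝔮_i}(a/b). Encoding: I is the ideal
quotient (bA : aA); '(a/b)IM ⊂ M' is aIM ⊆ bM; (a/b)IM is the submodule of m with bm ∈ aIM (b acts
injectively on M); ord_{A/𝔮}(a/b) is CycAlg.ordFrac on κ(𝔮) = Frac(A/𝔮); lengths are truncated to ℕ
(they are finite here). -/
theorem result {A : Type u} [CommRing A] [IsNoetherianRing A] [IsLocalRing A] (hA : ringKrullDim A = 1) {M : Type u} [AddCommGroup M] [Module A M] [Module.Finite A M] (a b : A) (ha : a ∈ nonZeroDivisors A) (hb : b ∈ nonZeroDivisors A) (hAemb : ∀ p ∈ associatedPrimes A A, p ∈ minimalPrimes A) (hMemb : ∀ p ∈ associatedPrimes A M, p ∈ minimalPrimes A) (hsupp : Module.support A M = Set.univ) (I : Ideal A) (hI : I = (Ideal.span {b}).colon (Ideal.span {a})) (P : Submodule A M) (hP : P = Submodule.comap (LinearMap.lsmul A M b) ((Ideal.span {a} * I) • (⊤ : Submodule A M))) : (Ideal.span {a} * I) • (⊤ : Submodule A M) ≤ LinearMap.range (LinearMap.lsmul A M b) ∧ ((Module.length A (M ⧸ P)).toNat : ℤ) - ((Module.length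 A (M ⧸ I • (⊤ : Submodule A M))).toNat : ℤ) = ∑ᶠ (q : PrimeSpectrum A) (_ : q.asIdeal ∈ minimalPrimes A), ((Module.length (Localization.AtPrime q.asIdeal) (LocalizedModule q.asIdeal.primeCompl M)).toNat : ℤ) * CycAlg.ordFrac (A ⧸ q.asIdeal) q.asIdeal.ResidueField (algebraMap A q.asIdeal.ResidueField a / algebraMap A q.asIdeal.ResidueField b) := by
  exact TameKey.length_sub_length hA a b ha hb hMemb I hI P hP

end Groth.Agent.S6480
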