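import Groth.Statements.S6483
import Groth.Agent.CycLib.Envelope
-- import your own Groth.Agent.* helpers here

set_option autoImplicit false
universe u
open CategoryTheory AlgebraicGeometry
open CategoryTheory.Limits
open Cyc

namespace Groth.Agent.S6483

/-- Let f : Y → X be an envelope and p, q : Y ×_X Y → Y the two projections. If a k-cycle β on Y has
f_*β ∼_rat 0 on X, then β ∼_rat p_*γ − q_*γ for some k-cycle γ on Y ×_X Y. Together with
surjectivity of f_* and f_* p_* = f_* q_*, this is the exact sequence CH_k(Y ×_X Y) → CH_k(Y) →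
CH_k(X) → 0. An envelope is a proper, completely decomposed morphism (every point of the target has
a point over it with trivial residue field extension; this prelude's Cyc.IsCompletelyDecomposed).
Here a pair (X, δ) with Cyc.IsSetup plays the role of a scheme locally of finite type over the base
(S, δ) (X locally Noetherian with universally catenary local rings, δ a dimension function), and
Cyc.DeltaCompat records that the dimension function upstairs is the induced one. -/
theorem result (X Y : Scheme.{u}) (δ : X → ℤ) (δY : Y → ℤ) (hX : Cyc.IsSetup X δ) (hY : Cyc.IsSetup Y δY) (f : Y ⟶ X) [IsProper f] (hcd : Cyc.IsCompletelyDecomposed f) (hδ : Cyc.DeltaCompat f δY δ) (δ2 : ↥(pullback f f) → ℤ) (h2 : Cyc.IsSetup (pullback f f) δ2) (hδ2 : Cyc.DeltaCompat (pullback.fst f f) δ2 δY) (k : ℤ) (β : AlgebraicCycle Y ℤ) (hβ : β ∈ Cyc.Zk Y δY k) (h0 : Cyc.RatEquivZero δ k (AlgebraicCycle.map f δY δ β)) : ∃ γ : AlgebraicCycle (pullback f f) ℤ, γ ∈ Cyc.Zk (pullback f f) δ2 k ∧ Cyc.RatEquiv δY k β (AlgebraicCycle.map (pullback.fst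 f f) δ2 δY γ - AlgebraicCycle.map (pullback.snd f f) δ2 δY γ) := by
  classical
  haveI := hX.1
  haveI := hY.1
  haveI := h2.1
  have hsur := hcd
  choose s hs hsurj using hsur
  have hδs : ∀ x, δY (s x) = δ x := fun x =>
    (Groth.Agent.CycLib.delta_eq_of_surjective f hδ (hsurj x)).trans (by rw [hs])
  obtain ⟨ι, ξ, g, hξ, hg, hloc, hsum⟩ := h0
  let g' : (i : ι) → Y.residueField (s (ξ i)) := fun i =>
    (f.residueFieldMap (s (ξ i))).hom ((X.residueFieldCongr (hs (ξ i)).symm).hom (g i))
  have hg' : ∀ i, g' i ≠ 0 := fun i =>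
    (map_ne_zero (f.residueFieldMap (s (ξ i))).hom).2
      ((map_ne_zero (X.residueFieldCongr (hs (ξ i)).symm).hom.hom).2 (hg i))
  have hlocY : ∀ y : Y, ∃ U : Set Y, IsOpen U ∧ y ∈ U ∧ {i | (closure {s (ξ i)} ∩ U).Nonempty}.Finite := fun y => by
    obtain ⟨U, hUo, hyU, hfin⟩ := hloc (f y)
    refine ⟨f ⁻¹' U, hUo.preimage f.continuous, hyU, hfin.subset ?_⟩
    rintro i ⟨z, hz, hzU⟩
    refine ⟨f z, ?_, hzU⟩
    have := ((specializes_iff_mem_closure.2 hz).map f.continuous).mem_closure
    rwa [hs] at this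
  let β1 := Groth.Agent.CycLib.sumDiv hY.2.2 (fun i => s (ξ i)) g' hg' hlocY
  have hβ1 : Cyc.RatEquivZero δY k β1 :=
    ⟨ι, fun i => s (ξ i), g', fun i => (hδs _).trans (hξ i), hg', hlocY, fun y => rfl⟩
  have hmap1 : AlgebraicCycle.map f δY δ β1 = AlgebraicCycle.map f δY δ β := by
    ext x
    rw [Groth.Agent.CycLib.map_sumDiv f hY.2.2 hX.2.2 hδ _ g' hg' hlocY (fun z => by simpa only [hs] using hloc z)
      (fun i => by rw [hδs, hs]) x, hsum]
    exact finsum_congr fun i => by
      rw [Groth.Agent.CycLib.normGen_of_surjective f (hsurj _)]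
      exact congrFun (Groth.Agent.CycLib.divFun_congr (hs (ξ i)).symm (g i)) x
  set β' := β - β1 with hβ'
  have h0' : ∀ x, AlgebraicCycle.map f δY δ β' x = 0 := fun x => by
    rw [hβ', Groth.Agent.CycLib.map_sub', hmap1, sub_self]
    rfl
  have hzk : ∀ y, δY y ≠ k → β' y = 0 := fun y hy => by
    rw [hβ', Function.locallyFinsuppWithin.coe_sub, Pi.sub_apply, hβ y hy, zero_sub, neg_eq_zero]
    show ∑ᶠ i, Cyc.divFun δY (s (ξ i)) (g' i) y = 0
    refine finsum_eq_zero_of_forall_eq_zero fun i => ?_
    exact Groth.Agent.CycLib.divFun_eq_zero_of_delta δY _ (by rw [hδs, hξ]; omega)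
  choose t ht1 ht2 htsurj using fun y =>
    Groth.Agent.CycLib.exists_pullback_point f (y := y) (y0 := s (f y)) (hs (f y)) (hsurj (f y))
  have hδt : ∀ y, δ2 (t y) = δY y := fun y =>
    (Groth.Agent.CycLib.delta_eq_of_surjective _ hδ2 (htsurj y)).trans (by rw [ht1])
  refine ⟨Groth.Agent.CycLib.liftCycle (pullback.fst f f) t β', fun z hz => ?_, ?_⟩
  · rw [Groth.Agent.CycLib.liftCycle_apply]
    split_ifs with h
    · refine hzk _ fun h' => hz ?_
      rw [← h, hδt, h']
    · rfl
  have hp : AlgebraicCycle.map (pullback.fst f f) δ2 δY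
      (Groth.Agent.CycLib.liftCycle (pullback.fst f f) t β') = β' := by
    ext y
    rw [Groth.Agent.CycLib.map_liftCycle _ t ht1, AlgebraicCycle.mapCoeff,
      if_pos (show δ2 (t y) = δY (pullback.fst f f (t y)) by rw [hδt, ht1]),
      Groth.Agent.CycLib.residueDegree_of_surjective _ (htsurj y), Nat.cast_one, mul_one]
  have hdeg : ∀ y, (pullback.snd f f).residueDegree (t y) = f.residueDegree y := fun y => by
    have e1 := Groth.Agent.CycLib.residueDegree_comp (pullback.fst f f) f (t y)
    have e2 := Groth.Agent.CycLib.residueDegree_comp (pullback.snd f f) f (t y)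
    rw [Groth.Agent.CycLib.residueDegree_congr pullback.condition, e2, ht1, ht2,
      Groth.Agent.CycLib.residueDegree_of_surjective _ (htsurj y),
      Groth.Agent.CycLib.residueDegree_of_surjective f (hsurj (f y)), one_mul, mul_one] at e1
    exact e1
  have hq : AlgebraicCycle.map (pullback.snd f f) δ2 δY
      (Groth.Agent.CycLib.liftCycle (pullback.fst f f) t β') = 0 := by
    ext y1
    show _ = (0 : ℤ)
    rw [Groth.Agent.CycLib.map_apply']
    by_cases hy1 : s (f y1) = y1
    · have htinj : Function.Injective t := fun a b h => by rw [← ht1 a, h, ht1]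
      refine Eq.trans ?_ (h0' (f y1))
      rw [Groth.Agent.CycLib.map_apply']
      refine Eq.trans ?_ (Eq.trans (finsum_mem_image (s := f ⁻¹' {f y1}) (g := t)
        (f := fun z => Groth.Agent.CycLib.liftCycle (pullback.fst f f) t β' z *
          (AlgebraicCycle.mapCoeff (pullback.snd f f) δ2 δY z : ℤ)) htinj.injOn) (finsum_mem_congr rfl ?_))
      · refine finsum_mem_inter_support_eq' _ _ _ fun z hz => ?_
        have hz1 : Groth.Agent.CycLib.liftCycle (pullback.fst f f) t β' z ≠ 0 := left_ne_zero_of_mul hz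
        rw [Groth.Agent.CycLib.liftCycle_apply] at hz1
        obtain ⟨htz, -⟩ : t (pullback.fst f f z) = z ∧ True := ⟨by by_contra hn; exact hz1 (if_neg hn), trivial⟩
        simp only [Set.mem_preimage, Set.mem_singleton_iff, Set.mem_image]
        constructor
        · intro hzy
          refine ⟨_, ?_, htz⟩
          rw [← hzy, ← htz, ht2, ht1, hs]
        · rintro ⟨y, hy, rfl⟩
          rw [ht2, hy, hy1]
      · intro y hy
        rw [Groth.Agent.CycLib.liftCycle_apply, ht1, if_pos rfl, AlgebraicCycle.mapCoeff, AlgebraicCycle.mapCoeff,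
          hdeg]
        congr 2
        show (if δ2 (t y) = δY (pullback.snd f f (t y)) then f.residueDegree y else 0) =
          if δY y = δ (f y) then f.residueDegree y else 0
        simp only [hδt, ht2, hδs]
    · refine finsum_mem_eq_zero_of_forall_eq_zero fun z hz => ?_
      rw [Groth.Agent.CycLib.liftCycle_apply]
      split_ifs with htz
      · refine absurd ?_ hy1
        rw [← (show pullback.snd f f z = y1 from hz), ← htz, ht2, hs]
      · rw [zero_mul]
  rw [hp, hq, sub_zero]
  show Cyc.RatEquivZero δY k (β - β')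
  rw [hβ', sub_sub_cancel]
  exact hβ1

end Groth.Agent.S6483
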