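import Groth.Statements.S6486
import Groth.Agent.H23.ConeStrict
-- import your own Groth.Agent.* helpers here

set_option autoImplicit false
universe u
open CategoryTheory CategoryTheory.Limits AlgebraicGeometry
attribute [local instance] HasDerivedCategory.standard
open IntMult
open MvPolynomial (aeval)
open Groth.Agent Groth.Agent.H23

namespace Groth.Agent.S6486

/-- Inside P^N over the algebraically closed field K let X be a nonsingular closed subvariety, n = dim
X, and fix integers 0 ≤ d, d' < n, a closed subvariety Z of X with dim Z = d, and finitely many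
closed subvarieties T_i of X (i ∈ I), each of dimension d'. Then some subvariety C of P^N meets X
properly with C · X = [Z] + Σ_j m_j [Z_j], where the Z_j ⊂ X are irreducible of dimension d and
different from Z, and for every i and j one has dim(Z_j ∩ T_i) ≤ max(dim(Z ∩ T_i), d + d' − n), and
moreover dim(Z_j ∩ T_i) < dim(Z ∩ T_i) whenever Z and T_i do not meet properly in X. (The published
statement asks dim(Z_j ∩ T_i) ≤ dim(Z ∩ T_i), which can fail when Z ∩ T_i is empty and d + d′ ≥ n;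
this row asks dim(Z_j ∩ T_i) ≤ max(dim(Z ∩ T_i), d + d′ − n), the same bound whenever Z ∩ T_i is
nonempty.) Encoding: P^N = CohB1.ProjSpace N K with dimension function δP (transcendence degree),
subvarieties are given by their generic points and prime cycles by indicator functions, C · X is the
Tor-formula product on the nonsingular variety P^N (IntMult.interProd with dim P^N = N), the Z_j are
the other points in the support of C · X, dimensions of intersections are Krull dimensions of the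
closed subsets of P^N, and 'properly in X' is IntMult.ProperInt with dim X = n. -/
theorem result (K : Type u) [Field K] [IsAlgClosed K] (N : ℕ) (δP : ↥(CohB1.ProjSpace N K) → ℤ) (hP : Cyc.IsSetup (CohB1.ProjSpace N K) δP) (hδP : Cyc.DeltaCompat (CohB1.ProjSpace.toSpec N K) δP (fun _ => 0)) (X : Scheme.{u}) (f : X ⟶ Spec (CommRingCat.of K)) [Smooth f] [IsSeparated f] [QuasiCompact f] [IsIntegral X] (ι : X ⟶ CohB1.ProjSpace N K) [IsClosedImmersion ι] (hι : ι ≫ CohB1.ProjSpace.toSpec N K = f) (n d d' : ℕ) (hn : δP (ι (genericPoint X)) = n) (hd : d < n) (hd' : d' < n) (ξZ : X) (hZ : δP (ι ξZ) = d) (m : ℕ) (T : Fin m → X) (hT : ∀ i, δP (ι (T i)) = d') : ∃ (ξC : ↥(CohB1.ProjSpace N K)) (γ : ↥(CohB1.ProjSpace N K) → ℤ), IntMult.IntersectProperly δP N (Set.indicator {ξC} 1) (Set.indicator {ι (genericPoint X)} 1) ∧ γ = IntMult.interProd δP N (Set.indicator {ξC} 1) (Set.indicator {ι (genericPoint X)} 1) ∧ γ (ι ξZ) = 1 ∧ ∀ ζ : ↥(CohB1.ProjSpace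 N K), γ ζ ≠ 0 → ζ ≠ ι ξZ → ∀ i : Fin m, topologicalKrullDim ↥(closure {ζ} ∩ closure {ι (T i)}) ≤ max (topologicalKrullDim ↥(closure {ι ξZ} ∩ closure {ι (T i)})) (if n ≤ d + d' then ((d + d' - n : ℕ) : WithBot ℕ∞) else ⊥) ∧ (¬ IntMult.ProperInt (closure ({ι ξZ} : Set ↥(CohB1.ProjSpace N K))) (closure {ι (T i)}) n d d' → topologicalKrullDim ↥(closure {ζ} ∩ closure {ι (T i)}) < topologicalKrullDim ↥(closure {ι ξZ} ∩ closure {ι (T i)})) := by
  classical
  have := PnCoh.Chow.isProper_toSpec N K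
  have := PnChart.isIntegral_projSpace N K
  set ξX := ι (genericPoint X)
  have hspecX : ∀ x : X, ξX ⤳ ι x := fun x => (genericPoint_specializes x).map ι.continuous
  obtain ⟨L0, _, _, _, a, j0, ha, hpnt, htr, hgen⟩ := Cone.exists_coords hδP (ι ξZ) hZ
  have hcZ : δP (MoveLine.pnt (K := K) j0 a (IsLocalRing.closedPoint L0)) = d := by rw [hpnt, hZ]
  have hXZ : ξX ⤳ MoveLine.pnt (K := K) j0 a (IsLocalRing.closedPoint L0) := by rw [hpnt]; exact hspecX ξZ
  have hnN : n ≤ N := by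
    have h2 : (n : WithBot ℕ∞) ≤ topologicalKrullDim ↥(CohB1.ProjSpace N K) :=
      (Cone.le_dim_of_mem hδP isClosed_univ (Set.mem_univ ξX) hn).trans
        (topologicalKrullDim_subspace_le _ _)
    rw [S10829.result K N] at h2
    exact_mod_cast h2
  -- the top points of `Z ∩ T i`
  let S : Fin m → Set ↥(CohB1.ProjSpace N K) := fun i => closure {ι ξZ} ∩ closure {ι (T i)}
  let W : Fin m → Set ↥(CohB1.ProjSpace N K) := fun i =>
    {w | w ∈ S i ∧ ∀ w' ∈ S i, w' ⤳ w → w' = w}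
  have hWfin : (⋃ i, W i).Finite := Set.finite_iUnion fun i => Cone.finite_maximal _ _
  have := hWfin.fintype
  -- data at the top points
  have hWd : ∀ w : (⋃ i, W i : Set ↥(CohB1.ProjSpace N K)), ∃ h : MvPolynomial (ULift.{u} (Fin (n + 1) × Fin (N + 1))) K,
      h ≠ 0 ∧ ∀ g : Fin (n + 1) → Fin (N + 1) → K, aeval (fun p : ULift.{u} _ => g p.down.1 p.down.2) h ≠ 0 →
      ∀ {s : ℕ} (e : Fin s → Fin (N + 1) → K) (l0 : Fin (n + 1)), Cone.Pv g a l0 ≠ 0 →
        (∀ i l, ∑ q, g l q * e i q = 0) → Cone.Avoid a g → ∀ ζ : ↥(CohB1.ProjSpace N K),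
        Cone.xiC g a j0 e l0 ⤳ ζ → ξX ⤳ ζ → ζ ⤳ w.1 →
          MoveLine.pnt (K := K) j0 a (IsLocalRing.closedPoint L0) ⤳ ζ := by
    intro w
    obtain ⟨i, hwS, -⟩ := Set.mem_iUnion.1 w.2
    obtain ⟨t, ht⟩ := Cone.exists_nat_delta hδP w.1
    obtain ⟨Lw, _, _, _, aw, jw, haw, hpw, htrw, hgw⟩ := Cone.exists_coords hδP w.1 ht
    have hXw : ξX ⤳ MoveLine.pnt (K := K) jw aw (IsLocalRing.closedPoint Lw) := by
      rw [hpw]; exact (hspecX ξZ).trans (specializes_iff_mem_closure.2 hwS.1)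
    obtain ⟨pX, φ, h1, h1ne, hpX, hφ, H1⟩ := Cone.exists_good_point f ι hι hδP hn aw jw haw hXw
    have hwt : δP (MoveLine.pnt (K := K) jw aw (IsLocalRing.closedPoint Lw)) = t := by rw [hpw, ht]
    obtain ⟨h2, h2ne, H2⟩ := Cone.exists_pair_bound (r := n + 1) a j0 ha hδP hcZ
      (MoveLine.pnt (K := K) jw aw (IsLocalRing.closedPoint Lw)) hwt (e := t) (by omega)
    refine ⟨h1 * h2, mul_ne_zero h1ne h2ne, fun g hg s e l0 hc he hav ζ hC hX hw => ?_⟩
    rw [map_mul] at hg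
    exact Cone.specializes_of_good g a j0 e l0 ha hc he hav aw jw haw pX φ hφ (H1 g (left_ne_zero_of_mul hg)).1
      hgw (by rw [hpX]; exact hXZ) hwt (H2 g (right_ne_zero_of_mul hg)) hC (by rw [hpX]; exact hX)
      (by rw [hpw]; exact hw)
  choose hW hWne HW using hWd
  -- the general conditions
  obtain ⟨pX, φ, hA, hAne, hpX, hφ, HA⟩ := Cone.exists_good_point f ι hι hδP hn a j0 ha hXZ
  obtain ⟨hV, hVne, HV⟩ := Cone.exists_avoid (r := n + 1) a j0 ha hδP hcZ (by omega)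
  obtain ⟨hX, hXne, HX⟩ := Cone.exists_pair_bound (r := n + 1) a j0 ha hδP hcZ ξX hn (e := d + 1) (by omega)
  obtain ⟨hK, hKne, HK⟩ := Cone.exists_kernel_basis (K := K) (N := N) (r := n + 1) (s := N - n) (by omega)
  have HT := fun i => Cone.exists_pair_bound (r := n + 1) a j0 ha hδP hcZ (ι (T i)) (hT i)
    (e := d + d' + 1 - n) (by omega)
  choose hT' hTne HT using HT
  obtain ⟨g0, hg0⟩ := MoveLine.exists_eval_ne_zero (k := K)
    (Sum.elim (fun i : Fin 4 => ![hA, hV, hX, hK] i) (Sum.elim hT' hW)) (by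
      rintro (i | i | w)
      · fin_cases i
        exacts [hAne, hVne, hXne, hKne]
      · exact hTne i
      · exact hWne w)
  let g : Fin (n + 1) → Fin (N + 1) → K := fun l q => g0 ⟨(l, q)⟩
  obtain ⟨hgood, l0, hc⟩ := HA g (hg0 (Sum.inl 0))
  have hav := HV g (hg0 (Sum.inl 1))
  obtain ⟨e, Q, he, hQ⟩ := HK g (hg0 (Sum.inl 3))
  set ξC := Cone.xiC g a j0 e l0
  have hxc : ∀ q, φ (Ideal.Quotient.mk pX.asIdeal (Cone.xc (K := K) j0 q)) = a q := fun q => by
    rw [hφ, Cone.evj_xc j0 a (by simp [ha]), ha, div_one]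
  have halg : ∀ x : L0, IsAlgebraic (Algebra.adjoin K (Set.range fun l => Cone.Pv g a l / Cone.Pv g a l0)) x :=
    Cone.isAlgebraic_ratios g j0 pX.asIdeal φ hgood l0 a hxc hc fun x => by
      obtain ⟨p, q, hq, he⟩ := hgen x
      exact ⟨p, q, by rwa [hφ], by rwa [hφ, hφ]⟩
  have hC : δP ξC = d + (N - n : ℕ) := Cone.delta_xiC g a j0 e l0 ha hc he hδP d htr Q hQ halg
  have hCZ : ξC ⤳ ι ξZ := hpnt ▸ Cone.specializes_xiC g a j0 e l0 ha hc he
  -- points off `Z`
  have hmono : ∀ {x y : ↥(CohB1.ProjSpace N K)}, x ⤳ y → δP y ≤ δP x := fun {x y} hxy => by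
    rcases eq_or_ne x y with rfl | hne
    · exact le_rfl
    · exact (CycLib.delta_lt hP.2.2 hxy hne).le
  have hoff : ∀ z, ξC ⤳ z → ξX ⤳ z → δP z ≤ d := fun z h1 h2 => by
    by_cases hzZ : ι ξZ ⤳ z
    · exact (hmono hzZ).trans hZ.le
    · have := Cone.delta_lt_of_off g a j0 e l0 ha hc he (δP := δP) ξX (HX g (hg0 (Sum.inl 2))) hav h1 h2
        (by rwa [hpnt])
      omega
  have hoffT : ∀ i z, ξC ⤳ z → ι (T i) ⤳ z → ¬ ι ξZ ⤳ z → n ≤ d + d' ∧ δP z ≤ (d + d' - n : ℕ) :=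
    fun i z h1 h2 hzZ => by
      have := Cone.delta_lt_of_off g a j0 e l0 ha hc he (δP := δP) (ι (T i)) (HT i g (hg0 (Sum.inr (Sum.inl i)))) hav
        h1 h2 (by rwa [hpnt])
      obtain ⟨mz, hmz⟩ := Cone.exists_nat_delta hδP z
      omega
  -- the product
  have hγ : ∀ ζ, interProd δP N (Set.indicator {ξC} 1) (Set.indicator {ξX} 1) ζ ≠ 0 →
      ξC ⤳ ζ ∧ ξX ⤳ ζ ∧ δP ζ = d := by
    intro ζ hne
    obtain ⟨⟨⟨x, y⟩, hx, hy, hxy⟩, hne'⟩ := not_forall.1 fun h => hne (finsum_eq_zero_of_forall_eq_zero h)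
    have hx0 := left_ne_zero_of_mul (left_ne_zero_of_mul hne')
    have hy0 := right_ne_zero_of_mul (left_ne_zero_of_mul hne')
    obtain rfl : x = ξC := by_contra fun h => hx0 (Set.indicator_of_notMem (by simpa using h) _)
    obtain rfl : y = ξX := by_contra fun h => hy0 (Set.indicator_of_notMem (by simpa using h) _)
    refine ⟨hx, hy, ?_⟩
    simp only [hC, hn] at hxy
    omega
  refine ⟨ξC, _, fun x y ζ hx hy h1 h2 => ?_, rfl, ?_, fun ζ hζ hne i => ?_⟩
  · obtain rfl : x = ξC := by_contra fun h => hx (Set.indicator_of_notMem (by simpa using h) _)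
    obtain rfl : y = ξX := by_contra fun h => hy (Set.indicator_of_notMem (by simpa using h) _)
    have := hoff ζ h1 h2
    rw [hC, hn]
    omega
  · rw [IntMult.interProd, finsum_eq_single _ ⟨(ξC, ξX), hCZ, hspecX ξZ, by rw [hC, hn, hZ]; omega⟩]
    · rw [Set.indicator_of_mem (Set.mem_singleton ξC), Set.indicator_of_mem (Set.mem_singleton ξX), Pi.one_apply,
        Pi.one_apply, one_mul, one_mul]
      show mult (ptIdeal ξC) (ptIdeal ξX) (ι ξZ) = 1
      rw [← hpnt]
      exact Cone.mult_eq_one g a j0 e l0 ha hc he ι hP hδP hn hcZ pX hpX hXZ φ hφ hgood hgen hC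
        (by omega) hoff
    · rintro ⟨⟨x, y⟩, hp⟩ hne'
      by_cases hx : x = ξC
      · have hy : y ≠ ξX := fun hy => hne' (Subtype.ext (Prod.ext hx hy))
        simp [hy]
      · simp [hx]
  obtain ⟨hζC, hζX, hζd⟩ := hγ ζ hζ
  have hζZ : ¬ ι ξZ ⤳ ζ := fun h => by
    have := CycLib.delta_lt hP.2.2 h hne.symm
    omega
  have hcl : IsClosed (closure {ζ} ∩ closure {ι (T i)}) := isClosed_closure.inter isClosed_closure
  have hclS : IsClosed (S i) := isClosed_closure.inter isClosed_closure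
  refine ⟨Cone.dim_le_of_delta hδP hcl fun y hy => ?_, fun hnp => ?_⟩
  · obtain ⟨my, hmy⟩ := Cone.exists_nat_delta hδP y
    refine ⟨my, hmy, ?_⟩
    by_cases hyZ : ι ξZ ⤳ y
    · exact le_max_of_le_left (Cone.le_dim_of_mem hδP hclS ⟨specializes_iff_mem_closure.1 hyZ, hy.2⟩ hmy)
    · obtain ⟨hnd, hle⟩ := hoffT i y (hζC.trans (specializes_iff_mem_closure.2 hy.1))
        (specializes_iff_mem_closure.2 hy.2) hyZ
      refine le_max_of_le_right ?_
      rw [if_pos hnd]
      exact_mod_cast (show my ≤ d + d' - n by omega)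
  -- strictness
  obtain ⟨⟨y0, hy0⟩, hnp'⟩ : (S i).Nonempty ∧
      ¬ (n ≤ d + d' ∧ topologicalKrullDim ↥(S i) ≤ ((d + d' - n : ℕ) : WithBot ℕ∞)) := by
    simpa [IntMult.ProperInt] using hnp
  have hSd : ∀ y ∈ S i, ∃ my : ℕ, δP y = my ∧ my ≤ d := fun y hy => by
    obtain ⟨my, hmy⟩ := Cone.exists_nat_delta hδP y
    have := hmono (specializes_iff_mem_closure.2 hy.1)
    exact ⟨my, hmy, by omega⟩
  let P : ℕ → Prop := fun k => ∃ y ∈ S i, δP y = k
  obtain ⟨t, ⟨w, hwS, hwt⟩, htmax⟩ : ∃ t, P t ∧ ∀ k, P k → k ≤ t := by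
    refine ⟨Nat.findGreatest P d, ?_, fun k hk => Nat.le_findGreatest ?_ hk⟩
    · obtain ⟨m0, hm0, hle⟩ := hSd y0 hy0
      exact Nat.findGreatest_spec hle ⟨y0, hy0, hm0⟩
    · obtain ⟨y, hy, hyk⟩ := hk
      obtain ⟨my, hmy, hle⟩ := hSd y hy
      omega
  have hdimS : topologicalKrullDim ↥(S i) = t := by
    refine le_antisymm (Cone.dim_le_of_delta hδP hclS fun y hy => ?_) (Cone.le_dim_of_mem hδP hclS hwS hwt)
    obtain ⟨my, hmy, -⟩ := hSd y hy
    exact ⟨my, hmy, by exact_mod_cast htmax my ⟨y, hy, hmy⟩⟩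
  rw [hdimS] at hnp'
  show topologicalKrullDim _ < topologicalKrullDim ↥(S i)
  rw [hdimS]
  refine Cone.dim_lt_of_delta_lt hδP hcl fun y hy => ?_
  by_cases hyZ : ι ξZ ⤳ y
  · have hyS : y ∈ S i := ⟨specializes_iff_mem_closure.1 hyZ, hy.2⟩
    obtain ⟨my, hmy, -⟩ := hSd y hyS
    have h1 := htmax my ⟨y, hyS, hmy⟩
    rcases h1.lt_or_eq with h1 | rfl
    · omega
    · have hyW : y ∈ W i := by
        refine ⟨hyS, fun w' hw' hsp => by_contra fun hne' => ?_⟩
        have := CycLib.delta_lt hP.2.2 hsp hne'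
        obtain ⟨mw, hmw, -⟩ := hSd w' hw'
        have := htmax mw ⟨w', hw', hmw⟩
        omega
      refine absurd ?_ hζZ
      rw [← hpnt]
      exact HW ⟨y, Set.mem_iUnion.2 ⟨i, hyW⟩⟩ g (hg0 (Sum.inr (Sum.inr _))) e l0 hc he hav ζ hζC hζX
        (specializes_iff_mem_closure.2 hy.1)
  · obtain ⟨hnd, hle⟩ := hoffT i y (hζC.trans (specializes_iff_mem_closure.2 hy.1))
      (specializes_iff_mem_closure.2 hy.2) hyZ
    have : ¬ t ≤ d + d' - n := fun h => hnp' ⟨hnd, by exact_mod_cast h⟩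
    omega


end Groth.Agent.S6486
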