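import Groth.Statements.S6490
import Groth.Agent.H23.ProjBd.Indep
import Groth.Agent.H23.ProjBd.OfRelProj
-- import your own Groth.Agent.* helpers here

set_option autoImplicit false
universe u
open CategoryTheory CategoryTheory.Limits AlgebraicGeometry TopologicalSpace Opposite
open scoped HomogeneousIdeal
open Cyc
open Groth.Agent Groth.Agent.H23

namespace Groth.Agent.S6490

/-- The map ⊕_{i=0}^{r−1} CH_{k+i}(X) → CH_{k+r−1}(P), (α_0, …, α_{r−1}) ↦ π^*α_0 + c_1(O_P(1)) ∩ π^*α_1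
+ … + c_1(O_P(1))^{r−1} ∩ π^*α_{r−1}, is injective: if the sum is ∼_rat 0 on P then each α_i ∼_rat 0
on X. Projective bundle data: ℰ quasi-coherent, finite locally free of rank r ≥ 1; 𝒮 = Sym(ℰ) as a
graded quasi-coherent algebra (RelProj.IsGrSymAlg); (P, p, chart) its relative Proj
(RelProj.IsRelProj); (O1, lam) its O_P(1) (RelProj.IsRelTwist with n = 1); O_P(1) invertible and p
proper, which hold for projective bundles, are carried as hypotheses; δP is the induced dimension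
function (Cyc.IsSetup, Cyc.DeltaCompat). π^* is Cyc.pullFun with relative dimension r − 1, π_* is
Mathlib's pushforward of cycles, and c_1(O_P(1))^s ∩ − is the s-fold iterate of Cyc.c1CapFun with
any nonzero rational sections. Here a pair (X, δ) with Cyc.IsSetup plays the role of a scheme
locally of finite type over the base (S, δ) (X locally Noetherian with universally catenary local
rings, δ a dimension function), and Cyc.DeltaCompat records that the dimension function upstairs is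
the induced one. -/
theorem result (X : Scheme.{u}) (δ : X → ℤ) (hX : Cyc.IsSetup X δ) (E : X.Modules) (hq : Coh.IsQCoh E) (r : ℕ) (hr : 1 ≤ r) (hE : FlatMod.IsFinLocFreeOfRank r E) (𝒮 : RelProj.QCGrAlg X) (j : E ⟶ 𝒮.toModule) (hS : RelProj.IsGrSymAlg E 𝒮 j) (P : Scheme.{u}) (p : P ⟶ X) (chart : ∀ (U : X.Opens) (hU : IsAffineOpen U), (((p ⁻¹ᵁ U : P.Opens) : Scheme.{u}) ≅ Proj (𝒮.deg U hU))) (hP : RelProj.IsRelProj 𝒮 p chart) (O1 : P.Modules) (lam : ∀ (U : X.Opens) (hU : IsAffineOpen U), O1 ⟶ (Scheme.Modules.pushforward (RelProj.emb p chart U hU)).obj (GrTwist.twist (𝒮.deg U hU) 1)) (hO1 : RelProj.IsRelTwist 𝒮 p chart 1 O1 lam) (hinv : PicF.IsInvertible O1) [IsProper p] (δP : P → ℤ) (hPs : Cyc.IsSetup P δP) (hδ : Cyc.DeltaCompat p δP δ) (k : ℤ) (α : Fin r → AlgebraicCycle X ℤ) (hα : ∀ i : Fin r, α i ∈ Cyc.Zk X δ (k + ((i : ℕ) : ℤ))) (t : Fin r → ℕ → (ξ : P) → Cyc.secFibre O1 ξ) (ht : ∀ i m ξ, t i m ξ ≠ 0) (γ : Fin r → ℕ →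 P → ℤ) (hγ0 : ∀ i : Fin r, γ i 0 = Cyc.pullFun p δP δ ((r : ℤ) - 1) ⇑(α i)) (hγs : ∀ (i : Fin r) (m : ℕ), γ i (m + 1) = Cyc.c1CapFun δP O1 (γ i m) (t i m)) (β : AlgebraicCycle P ℤ) (hβ : ∀ x, β x = ∑ i : Fin r, γ i (i : ℕ) x) (h0 : Cyc.RatEquivZero δP (k + r - 1) β) : ∀ i : Fin r, Cyc.RatEquivZero δ (k + ((i : ℕ) : ℤ)) (α i) := by  classical
  obtain ⟨n, rfl⟩ : ∃ n, r = n + 1 := ⟨r - 1, by omega⟩
  have hn : ((n + 1 : ℕ) : ℤ) - 1 = (n : ℤ) := by push_cast; ring
  simp only [hn] at hγ0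
  have e : k + ((n + 1 : ℕ) : ℤ) - 1 = k + n := by push_cast; ring
  rw [e] at h0
  exact (ProjBd.hasCoords_of_relProj hP hq hE hS hO1 hinv).independent hX hPs hδ α hα t ht γ hγ0 hγs β hβ h0


end Groth.Agent.S6490
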