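import Groth.Statements.S6494
import Groth.Agent.H23.P1Cut
-- import your own Groth.Agent.* helpers here

set_option autoImplicit false
universe u
open CategoryTheory CategoryTheory.Limits AlgebraicGeometry
attribute [local instance] HasDerivedCategory.standard
open IntMult
open Groth.Agent Groth.Agent.H23

namespace Groth.Agent.S6494

/-- Let X → P be a closed immersion of nonsingular varieties and C' ⊂ P × P^1 a closed subvariety of
dimension r + 1 with (1) the fibre C = C'_0 of dimension r (C' → P^1 dominant), (2) C' and X × P^1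
intersecting properly, (3) [C]_r and X intersecting properly. Then, with α = [C]_r · X and β = C' ·
(X × P^1), one has α = pr_{X,*}(β · (X × 0)). Stated on P × P^1: α = pr_*((C' · (X × P^1)) · (P ×
0)) as cycles on P. (The published statement takes the product of β with X × 0 on X × P^1 and pushes
it forward along X × P^1 → X; this row takes the product of C′ · (X × P^1) with P × 0 on P × P^1 and
pushes it forward along P × P^1 → P, which is the same cycle on P.) Encoding: P × P^1 =
CohB1.ProjSpaceOver 1 P with projection pr and zero section P1.sect P 0; dimension functions δP, δ'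
(transcendence degree); C'_0 is the pullback of C' along the zero section and [C]_r its r-cycle
(Cyc.subschemeFun); X × P^1 and P × 0 enter as the prime cycles of their generic points; products
are IntMult.interProd on P (dim N_P) and on P × P^1 (dim N_P + 1). Here P and X are nonsingular
varieties over the algebraically closed field K (smooth, separated, quasi-compact, integral), δP is
the dimension function on P (transcendence degree over K, recorded by Cyc.DeltaCompat to Spec K with
value 0, together with Cyc.IsSetup), N_P = δP of the generic point of P and n = δP of the generic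
point of X; proper intersection is IntMult.IntersectProperly / IntMult.ProperInt and products are
IntMult.interProd. -/
theorem result (K : Type u) [Field K] [IsAlgClosed K] (P : Scheme.{u}) (fP : P ⟶ Spec (CommRingCat.of K)) [Smooth fP] [IsSeparated fP] [QuasiCompact fP] [IsIntegral P] (δP : P → ℤ) (hP : Cyc.IsSetup P δP) (hδP : Cyc.DeltaCompat fP δP (fun _ => 0)) (NP : ℕ) (hNP : δP (genericPoint P) = NP) (δ' : ↥(CohB1.ProjSpaceOver 1 P) → ℤ) (hP' : Cyc.IsSetup (CohB1.ProjSpaceOver 1 P) δ') (hδ' : Cyc.DeltaCompat (CohB1.ProjSpaceOver.toBase 1 P) δ' δP) [QuasiCompact (CohB1.ProjSpaceOver.toBase 1 P)] (X : Scheme.{u}) (fX : X ⟶ Spec (CommRingCat.of K)) [Smooth fX] [IsSeparated fX] [QuasiCompact fX] [IsIntegral X] (ι : X ⟶ P) [IsClosedImmersion ι] (hι : ι ≫ fP = fX) (n : ℕ) (hn : δP (ι (genericPoint X)) = n) (ζX : ↥(CohB1.ProjSpaceOver 1 P)) (hζ1 : CohB1.ProjSpaceOver.toBase 1 P ζX = ι (genericPoint X)) (hζ2 : δ' ζX = n + 1) (C' : Scheme.{u}) [IsIntegral C'] (ι' : C' ⟶ CohB1.ProjSpaceOver 1 P) [IsClosedImmersion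 ι'] (r : ℕ) (hr : δ' (ι' (genericPoint C')) = r + 1) (hC0 : ∀ w : ↥(pullback ι' (P1.sect P 0)), δP (pullback.snd ι' (P1.sect P 0) w) ≤ r) (hC0ne : Nonempty ↥(pullback ι' (P1.sect P 0))) (h2 : IntMult.ProperInt (closure {ι' (genericPoint C')}) (⇑(CohB1.ProjSpaceOver.toBase 1 P) ⁻¹' Set.range ⇑ι) (NP + 1) (r + 1) (n + 1)) (h3 : IntMult.IntersectProperly δP NP (Cyc.subschemeFun δP r (pullback.snd ι' (P1.sect P 0))) (Set.indicator {ι (genericPoint X)} 1)) (B : AlgebraicCycle (CohB1.ProjSpaceOver 1 P) ℤ) (hB : ⇑B = IntMult.interProd δ' (NP + 1) (IntMult.interProd δ' (NP + 1) (Set.indicator {ι' (genericPoint C')} 1) (Set.indicator {ζX} 1)) (Set.indicator {P1.sect P 0 (genericPoint P)} 1)) : ⇑(AlgebraicCycle.map (CohB1.ProjSpaceOver.toBase 1 P) δ' δP B) = IntMult.interProd δP NP (Cyc.subschemeFun δP r (pullback.snd ι' (P1.sect P 0))) (Set.indicator {ι (genericPoint X)} 1) := by  classical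
  haveI : IsLocallyNoetherian P := hP.1
  have hdP := hP'.2.2
  let ξW := ι' (genericPoint C')
  have hW : δ' ξW = (r : ℤ) + 1 := hr
  have h0r : ξW ∉ Set.range (P1.sect P 0) := fun ⟨x, hx⟩ => by
    obtain ⟨z, -, hz⟩ := Scheme.Pullback.exists_preimage_pullback (f := ι') (g := P1.sect P 0) (genericPoint C') x hx.symm
    have := hC0 z
    rw [hz, ← P1Fam.delta_sect hδ' 0 x, hx, hW] at this
    omega
  have hξrange : ∀ j : Fin (1 + 1), ξW ∉ Set.range (P1.sect P j) := fun j => by
    have hj01 : j = 0 ∨ j = 1 := by fin_cases j <;> simp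
    rcases hj01 with rfl | rfl
    · exact h0r
    rintro ⟨x, hx⟩
    obtain ⟨z⟩ := hC0ne
    have hz : P1.sect P 1 x ⤳ P1.sect P 0 (pullback.snd ι' (P1.sect P 0) z) := by
      rw [hx, ← Scheme.Hom.comp_apply, ← pullback.condition, Scheme.Hom.comp_apply]
      exact (genericPoint_specializes _).map ι'.continuous
    exact P1Vert.sect_ne_sect _ _ (P1Vert.eq_sect_of_specializes hz)
  obtain ⟨ζ, hζv, hζd, hζgen⟩ := P1Vert.exists_vert fP hP hδP hNP hδ' (ι (genericPoint X))
  rw [hn] at hζd
  have hζ : ζ = ζX := CycLib.eq_of_delta_le hdP (hζgen ζX (specializes_of_eq hζ1.symm)) (by omega)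
  subst hζ
  set w := Cyc.subschemeFun δP r (pullback.snd ι' (P1.sect P 0)) with hw
  have key : ∀ x, B (P1.sect P 0 x) = IntMult.interProd δP NP w (Set.indicator {ι (genericPoint X)} 1) x := fun x => by
    rw [hB, InterAssoc.interProd_comm δ' ((NP : ℤ) + 1) (Set.indicator {ι' (genericPoint C')} 1) (Set.indicator {ζ} 1),
      InterAssoc.interProd_comm δP (NP : ℤ) w]
    exact P1Cut.interProd_fibre fP hP hδP hNP hδ' ι' hW hξrange 0 hn
      (fun a b c ha hb hac hbc => by have := h3 b a c hb ha hbc hac; omega) hζv hζd hζgen x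
  funext x
  rw [CycLib.map_apply', finsum_mem_def, finsum_eq_single _ (P1.sect P 0 x) fun z hz => ?_,
    Set.indicator_of_mem (show P1.sect P 0 x ∈ (CohB1.ProjSpaceOver.toBase 1 P) ⁻¹' {x} from P1Vert.toBase_sect 0 x),
    P1Fam.mapCoeff_sect hδ', Nat.cast_one, mul_one, key]
  refine Set.indicator_apply_eq_zero.2 fun hzx => mul_eq_zero_of_left ?_ _
  rw [hB]
  refine finsum_eq_zero_of_forall_eq_zero fun ⟨⟨a, b⟩, _, hb, _⟩ => ?_
  by_contra hne
  obtain rfl : b = P1.sect P 0 (genericPoint P) := Set.mem_singleton_iff.1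
    (Set.mem_of_indicator_ne_zero (right_ne_zero_of_mul (left_ne_zero_of_mul hne)))
  have e := P1Vert.eq_sect_of_specializes hb
  rw [show CohB1.ProjSpaceOver.toBase 1 P z = x from hzx] at e
  exact hz e


end Groth.Agent.S6494
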