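import Groth.Statements.S6501
import Mathlib.Tactic.Ring
import Mathlib.Tactic.LinearCombination
import Mathlib.RingTheory.DividedPowers.RatAlgebra

set_option autoImplicit false
universe u
open DPow

namespace Groth.Agent.S6501
theorem cancel {A : Type u} [CommRing A] [IsAddTorsionFree A] {k : ℕ} (hk : k ≠ 0) {a b : A}
    (h : (k : A) * a = (k : A) * b) : a = b :=
  nsmul_right_injective hk (by simpa [nsmul_eq_mul] using h)

theorem exists_dp {A : Type u} [CommRing A] [IsAddTorsionFree A] (I : Ideal A)
    (h : ∀ x ∈ I, ∀ n : ℕ, n ≠ 0 → ∃ y ∈ I, (n.factorial : A) * y = x ^ n) : Nonempty (DividedPowers I) := by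
  classical
  have h' : ∀ x ∈ I, ∀ n : ℕ, ∃ y : A, (n ≠ 0 → y ∈ I) ∧ (n.factorial : A) * y = x ^ n := by
    intro x hx n
    rcases eq_or_ne n 0 with rfl | hn
    · exact ⟨1, fun h0 => absurd rfl h0, by simp⟩
    · obtain ⟨y, hy, e⟩ := h x hx n hn
      exact ⟨y, fun _ => hy, e⟩
  choose y hmem heq using h'
  let d : ℕ → A → A := fun n x => if hx : x ∈ I then y x hx n else 0
  have hd : ∀ (n : ℕ) (x : A), x ∈ I → (n.factorial : A) * d n x = x ^ n := fun n x hx => by
    simp only [d, dif_pos hx]; exact heq x hx n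
  have hdI : ∀ (n : ℕ) (x : A), n ≠ 0 → x ∈ I → d n x ∈ I := fun n x hn hx => by
    simp only [d, dif_pos hx]; exact hmem x hx n hn
  have hf : ∀ n : ℕ, n.factorial ≠ 0 := Nat.factorial_ne_zero
  refine ⟨{
    dpow := d
    dpow_null := fun hx => dif_neg hx
    dpow_zero := fun {x} hx => cancel (hf 0) (by rw [hd 0 x hx, pow_zero, mul_one, Nat.factorial_zero, Nat.cast_one])
    dpow_one := fun {x} hx => cancel (hf 1) (by rw [hd 1 x hx, pow_one, Nat.factorial_one, Nat.cast_one, one_mul])
    dpow_mem := fun {n x} hn hx => hdI n x hn hx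
    dpow_add := ?_
    dpow_mul := fun {n a x} hx => cancel (hf n) (by
      rw [hd n _ (I.mul_mem_left a hx), mul_left_comm, hd n x hx, mul_pow])
    mul_dpow := ?_
    dpow_comp := ?_ }⟩
  · intro n x z hx hz
    refine cancel (hf n) ?_
    rw [hd n _ (I.add_mem hx hz), Finset.mul_sum, (Commute.all x z).add_pow']
    refine Finset.sum_congr rfl fun k hk => ?_
    rw [Finset.HasAntidiagonal.mem_antidiagonal] at hk
    subst hk
    rw [← hd k.1 x hx, ← hd k.2 z hz, nsmul_eq_mul,
      ← Nat.add_choose_mul_factorial_mul_factorial k.1 k.2, Nat.choose_symm_add, Nat.cast_mul, Nat.cast_mul]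
    ring
  · intro m n x hx
    refine cancel (Nat.mul_ne_zero (hf m) (hf n)) ?_
    have e : ((m.factorial * n.factorial * (m + n).choose m : ℕ) : A) = ((m + n).factorial : A) := by
      rw [← Nat.add_choose_mul_factorial_mul_factorial m n, Nat.choose_symm_add]; congr 1; ring
    calc ((m.factorial * n.factorial : ℕ) : A) * (d m x * d n x)
        = ((m.factorial : A) * d m x) * ((n.factorial : A) * d n x) := by push_cast; ring
      _ = ((m + n).factorial : A) * d (m + n) x := by rw [hd m x hx, hd n x hx, hd (m + n) x hx, pow_add]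
      _ = _ := by rw [← e]; push_cast; ring
  · intro m n x hn hx
    refine cancel (Nat.mul_ne_zero (hf m) (pow_ne_zero m (hf n))) ?_
    have e := Nat.uniformBell_mul_eq m hn
    calc ((m.factorial * n.factorial ^ m : ℕ) : A) * d m (d n x)
        = ((n.factorial : A) ^ m) * ((m.factorial : A) * d m (d n x)) := by push_cast; ring
      _ = ((m * n).factorial : A) * d (m * n) x := by
          rw [hd m _ (hdI n x hn hx), ← mul_pow, hd n x hx, hd (m * n) x hx, ← pow_mul, mul_comm n m]
      _ = _ := by rw [← e]; push_cast; ring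


/-- Let A be a commutative ring whose additive group is torsion free and I an ideal of A. Then I carries
at most one divided power structure, and it carries one if and only if I is generated by a set S
such that for every x in S and every n ≥ 1 the power x^n lies in the ideal generated by the products
of n! with elements of I. -/
theorem result {A : Type u} [CommRing A] [IsAddTorsionFree A] (I : Ideal A) :
    Subsingleton (DividedPowers I) ∧
    (Nonempty (DividedPowers I) ↔ ∃ S : Set A, Ideal.span S = I ∧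
      ∀ x ∈ S, ∀ n : ℕ, 1 ≤ n → x ^ n ∈ Ideal.span {(Nat.factorial n : A)} * I) := by
  constructor
  · refine ⟨fun γ δ => DividedPowers.ext _ _ fun {n x} hx => ?_⟩
    exact cancel (Nat.factorial_ne_zero n)
      ((γ.factorial_mul_dpow_eq_pow hx).trans (δ.factorial_mul_dpow_eq_pow hx).symm)
  constructor
  · rintro ⟨γ⟩
    refine ⟨I, Ideal.span_eq I, fun x hx n hn => Ideal.mem_span_singleton_mul.2
      ⟨γ.dpow n x, γ.dpow_mem (by omega) hx, γ.factorial_mul_dpow_eq_pow hx⟩⟩
  · rintro ⟨S, hS, h⟩
    refine exists_dp I fun x hx => ?_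
    suffices hx' : x ∈ I ∧ ∀ n : ℕ, n ≠ 0 → ∃ y ∈ I, (n.factorial : A) * y = x ^ n from hx'.2
    rw [← hS] at hx
    induction hx using Submodule.span_induction with
    | mem g hg =>
      exact ⟨hS ▸ Ideal.subset_span hg,
        fun n hn => Ideal.mem_span_singleton_mul.1 (h g hg n (by omega))⟩
    | zero => exact ⟨I.zero_mem, fun n hn => ⟨0, I.zero_mem, by rw [mul_zero, zero_pow hn]⟩⟩
    | smul a g _ hg =>
      refine ⟨I.mul_mem_left a hg.1, fun n hn => ?_⟩
      obtain ⟨y, hy, e⟩ := hg.2 n hn
      exact ⟨a ^ n * y, I.mul_mem_left _ hy, by rw [smul_eq_mul, mul_pow, mul_left_comm, e]⟩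
    | add p q _ _ hp hq =>
      refine ⟨I.add_mem hp.1 hq.1, fun n hn => ?_⟩
      have ex : ∀ (z : A), (∀ n : ℕ, n ≠ 0 → ∃ y ∈ I, (n.factorial : A) * y = z ^ n) → ∀ k : ℕ,
          ∃ y : A, (k ≠ 0 → y ∈ I) ∧ (k.factorial : A) * y = z ^ k := by
        intro z hz k
        rcases eq_or_ne k 0 with rfl | hk
        · exact ⟨1, fun h0 => absurd rfl h0, by simp⟩
        · obtain ⟨y, hy, e⟩ := hz k hk
          exact ⟨y, fun _ => hy, e⟩
      choose u hu hu' using ex p hp.2
      choose v hv hv' using ex q hq.2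
      refine ⟨(Finset.antidiagonal n).sum fun k => u k.1 * v k.2, sum_mem fun k hk => ?_, ?_⟩
      · rw [Finset.HasAntidiagonal.mem_antidiagonal] at hk
        by_cases hk1 : k.1 = 0
        · exact I.mul_mem_left _ (hv _ (by omega))
        · exact I.mul_mem_right _ (hu _ hk1)
      · rw [Finset.mul_sum, (Commute.all p q).add_pow']
        refine Finset.sum_congr rfl fun k hk => ?_
        rw [Finset.HasAntidiagonal.mem_antidiagonal] at hk
        subst hk
        rw [← hu' k.1, ← hv' k.2, nsmul_eq_mul,
          ← Nat.add_choose_mul_factorial_mul_factorial k.1 k.2, Nat.choose_symm_add, Nat.cast_mul, Nat.cast_mul]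
        ring


end Groth.Agent.S6501
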