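import Groth.Statements.S6502
import Groth.Agent.AvramovLib.Localize

set_option autoImplicit false
universe u
open LCI

namespace Groth.Agent.S6502

/-- A Noetherian ring A is a local complete intersection (every localization A_p at a prime is a
complete intersection, that is, its completion is a regular complete local ring modulo a regular
sequence) exactly when, for each maximal ideal m of A, the localization A_m is itself a complete
intersection. -/
theorem result {A : Type u} [CommRing A] [IsNoetherianRing A] :
    (∀ (p : Ideal A) [p.IsPrime], Pi1.IsCompleteIntersection (Localization.AtPrime p)) ↔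
    (∀ (m : Ideal A) [m.IsMaximal], Pi1.IsCompleteIntersection (Localization.AtPrime m)) := by
  refine ⟨fun h m _ => h m, fun h p _ => ?_⟩
  obtain ⟨m, hm, hpm⟩ := Ideal.exists_le_maximal p (Ideal.IsPrime.ne_top inferInstance)
  haveI := hm
  let Am := Localization.AtPrime m
  haveI : IsNoetherianRing Am := IsLocalization.isNoetherianRing m.primeCompl Am inferInstance
  let P : Ideal Am := p.map (algebraMap A Am)
  have hdisj : Disjoint (m.primeCompl : Set A) (p : Set A) :=
    Set.disjoint_left.2 fun x hx hxp => hx (hpm hxp)
  haveI : P.IsPrime := IsLocalization.isPrime_of_isPrime_disjoint m.primeCompl Am p inferInstance hdisj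
  have hcomap : P.comap (algebraMap A Am) = p :=
    IsLocalization.comap_map_of_isPrime_disjoint m.primeCompl Am (inferInstance : p.IsPrime) hdisj
  haveI : IsNoetherianRing (Localization.AtPrime P) :=
    IsLocalization.isNoetherianRing P.primeCompl _ inferInstance
  haveI : IsNoetherianRing (Localization.AtPrime p) :=
    IsLocalization.isNoetherianRing p.primeCompl _ inferInstance
  have key : ∀ (q : Ideal A) (hq : q.IsPrime), q = P.comap (algebraMap A Am) →
      @IsLocalization.AtPrime A _ (Localization.AtPrime P) _ _ q hq := by
    rintro _ _ rfl
    exact IsLocalization.isLocalization_isLocalization_atPrime_isLocalization m.primeCompl (Localization.AtPrime P) P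
  haveI := key p inferInstance hcomap.symm
  have e : Localization.AtPrime P ≃ₐ[A] Localization.AtPrime p :=
    IsLocalization.algEquiv p.primeCompl (Localization.AtPrime P) (Localization.AtPrime p)
  exact (Groth.Agent.AvramovLib.isCI_ringEquiv_iff e.toRingEquiv).1
    (Groth.Agent.AvramovLib.isCI_localization (h m) P)


end Groth.Agent.S6502
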