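import Groth.Statements.S6503
import Groth.Agent.DiagSmooth.Main
import Mathlib

set_option autoImplicit false
universe u
open TensorProduct
open LCI

namespace Groth.Agent.S6503

/-- Suppose A and B are Noetherian local rings and A → B is a local homomorphism making B a flat
A-algebra that is essentially of finite type, and regard B as an algebra over B ⊗_A B via the
multiplication map. If B has finite Tor-dimension over B ⊗_A B (the diagonal is a perfect ring map),
then there are a smooth A-algebra C and a prime ideal q of C such that B is an A-algebra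
localization of C at q. -/
theorem result {A B : Type u} [CommRing A] [CommRing B]
    [Algebra A B] [IsNoetherianRing A] [IsNoetherianRing B] [IsLocalRing A] [IsLocalRing B]
    [IsLocalHom (algebraMap A B)] [Module.Flat A B] [Algebra.EssFiniteType A B]
    [Algebra (B ⊗[A] B) B]
    (hmul : ∀ x y : B, algebraMap (B ⊗[A] B) B (x ⊗ₜ[A] y) = x * y)
    (h : DRing.HasFiniteTorDim (B ⊗[A] B) B) :
    ∃ (C : Type u) (_ : CommRing C) (_ : Algebra A C) (_ : Algebra C B) (_ : IsScalarTower A C B)
      (q : Ideal C) (_ : q.IsPrime), Algebra.Smooth A C ∧ IsLocalization.AtPrime B q := by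
  classical
  let C₀ := Algebra.EssFiniteType.subalgebra A B
  let M := Algebra.EssFiniteType.submonoid A B
  let q : Ideal C₀ := (IsLocalRing.maximalIdeal B).comap (algebraMap C₀ B)
  have hunit : ∀ x : C₀, x ∉ q → IsUnit (algebraMap C₀ B x) := fun x hx => IsLocalRing.notMem_maximalIdeal.1 hx
  have hdisj : Disjoint (M : Set C₀) (q : Set C₀) := Set.disjoint_left.2 fun x hx hxq =>
    (IsLocalRing.mem_maximalIdeal _).1 hxq (IsLocalization.map_units B (⟨x, hx⟩ : M))
  haveI : Algebra.FinitePresentation A C₀ := Algebra.FinitePresentation.of_finiteType.1 inferInstance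
  have hsm := Groth.Agent.DiagSmooth.isSmoothAt_of_localization (C := C₀) M hmul h q hdisj
  haveI := hsm
  obtain ⟨g, hg, hsmooth⟩ := Algebra.IsSmoothAt.exists_notMem_smooth (R := A) q
  let C := Localization.Away g
  let f : C →ₐ[C₀] B := IsLocalization.liftAlgHom (M := Submonoid.powers g) (f := Algebra.ofId C₀ B)
    (by
      rintro ⟨_, k, rfl⟩
      simpa using (hunit g hg).pow k)
  letI : Algebra C B := f.toRingHom.toAlgebra
  haveI : IsScalarTower C₀ C B := IsScalarTower.of_algebraMap_eq fun c => (f.commutes c).symm
  haveI : IsScalarTower A C B := .to₁₃₄ A C₀ C B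
  haveI hB : IsLocalization q.primeCompl B := IsLocalization.of_le M q.primeCompl
    (fun x hx hxq => Set.disjoint_left.1 hdisj hx hxq) (fun x hx => hunit x hx)
  have hle : Submonoid.powers g ≤ q.primeCompl := by
    rintro _ ⟨k, rfl⟩
    exact q.primeCompl.pow_mem hg k
  haveI := IsLocalization.isLocalization_of_submonoid_le C B (Submonoid.powers g) q.primeCompl hle
  let q' : Ideal C := (IsLocalRing.maximalIdeal B).comap (algebraMap C B)
  refine ⟨C, inferInstance, inferInstance, inferInstance, inferInstance, q', inferInstance, hsmooth, ?_⟩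
  refine IsLocalization.of_le (q.primeCompl.map (algebraMap C₀ C)) q'.primeCompl ?_
    (fun x hx => IsLocalRing.notMem_maximalIdeal.1 hx)
  rintro _ ⟨x, hx, rfl⟩ hx'
  exact hx (show algebraMap C₀ B x ∈ IsLocalRing.maximalIdeal B by rw [IsScalarTower.algebraMap_apply C₀ C B]; exact hx')


end Groth.Agent.S6503
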