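import Groth.Statements.S6507
import Groth.Agent.HyperLib.Refine

set_option autoImplicit false
set_option backward.isDefEq.respectTransparency false
set_option backward.isDefEq.respectTransparency.types false
universe u
open CategoryTheory
open Hyper

namespace Groth.Agent.S6507

open Opposite CategoryTheory.Limits in
/-- With presheaves taken on the localized site C/X: let C be a small site with fibre products, X an
object, K a hypercovering of X and n ≥ 0. Let u : P → F(K_n) be a morphism of presheaves of sets on
C/X, where F(K_n) is the coproduct of the presheaves represented by the members of the family K_n,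
and assume u is locally surjective. Then there exist a hypercovering L of X and a morphism f : L → K
such that F(f_n) : F(L_n) → F(K_n) factors through u. -/
theorem result {C : Type u} [SmallCategory C] [HasPullbacks C]
    (J : GrothendieckTopology C) (X : C)
    [∀ (n : ℕ) (F : (SimplexCategory.Truncated n)ᵒᵖ ⥤ Limits.FormalCoproduct.{u} (Over X)),
      (SimplexCategory.Truncated.inclusion n).op.HasRightKanExtension F]
    (K : SimplicialObject (FormalCoproduct.{u} (Over X))) (hK : Hyper.IsHypercovering J X K) (n : ℕ)
    (P : (Over X)ᵒᵖ ⥤ Type u) (u : P ⟶ FormalCoproduct.yoneda.obj (K.obj (op (SimplexCategory.mk n))))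
    (hu : Presheaf.IsLocallySurjective (J.over X) u) :
    ∃ (L : SimplicialObject (FormalCoproduct.{u} (Over X))) (f : L ⟶ K)
      (g : FormalCoproduct.yoneda.obj (L.obj (op (SimplexCategory.mk n))) ⟶ P),
      Hyper.IsHypercovering J X L ∧ g ≫ u = FormalCoproduct.yoneda.map (f.app (op (SimplexCategory.mk n))) := by
  open Groth.Agent.HyperLib Opposite CategoryTheory.Limits CategoryTheory.Limits.FormalCoproduct in
  let e := Groth.Agent.HyperLib.yonedaIsoEl (C := Over X)
  let Kn := K.obj (op (SimplexCategory.mk n))
  let Z : FormalCoproduct.{u} (Over X) := ⟨Σ U : Over X, P.obj (op U), fun i => i.1⟩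
  let v : Z ⟶ Kn :=
    Groth.Agent.HyperLib.descPts fun i => (e.hom.app Kn).app (op i.1) (u.app (op i.1) i.2)
  have hv : Hyper.IsSRCovering (J.over X) v := by
    rw [Groth.Agent.HyperLib.isSRCovering_iff]
    intro U y
    refine (J.over X).superset_covering ?_ (hu.1 ((e.inv.app Kn).app (op U) y))
    rintro V g ⟨t, ht⟩
    refine ⟨Groth.Agent.HyperLib.pt Z ⟨V, t⟩,
      (Groth.Agent.HyperLib.pt_descPts _ _).trans ?_⟩
    refine (congrArg _ ht).trans ?_
    refine ((e.hom.app Kn).naturality_apply g.op _).trans ?_
    exact congrArg _ (ConcreteCategory.congr_hom (congr_app (e.inv_hom_id_app Kn) (op U)) y)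
  obtain ⟨L, f, g, hL, hg⟩ := Groth.Agent.HyperLib.exists_refinement (J.over X) K
    ((Groth.Agent.HyperLib.isHypercovering_iff J X K).1 hK) n v hv
  let q : (Groth.Agent.HyperLib.el (C := Over X)).obj Z ⟶ P :=
    { app := fun V => ↾fun x => P.map (x.φ PUnit.unit).op (x.f PUnit.unit).2
      naturality := fun V W k => by
        ext x
        exact (congrArg (fun h => h (x.f PUnit.unit).2)
          (P.map_comp (x.φ PUnit.unit).op k) :) }
  refine ⟨L, f, e.hom.app _ ≫ Groth.Agent.HyperLib.el.map g ≫ q,
    (Groth.Agent.HyperLib.isHypercovering_iff J X L).2 hL, ?_⟩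
  have hq : q ≫ u = Groth.Agent.HyperLib.el.map v ≫ e.inv.app Kn := by
    ext ⟨V⟩ x
    obtain ⟨i, a, rfl⟩ : ∃ (i : Z.I) (a : V ⟶ Z.obj i),
        x = (FormalCoproduct.incl _).map a ≫ Groth.Agent.HyperLib.pt Z i :=
      ⟨_, _, Groth.Agent.HyperLib.fromIncl_eq x⟩
    show u.app (op V) (P.map (a ≫ 𝟙 i.1).op i.2) =
      (e.inv.app Kn).app (op V) (((FormalCoproduct.incl _).map a ≫
        Groth.Agent.HyperLib.pt Z i) ≫ v)
    rw [Category.comp_id, Category.assoc, Groth.Agent.HyperLib.pt_descPts]
    refine (u.naturality_apply a.op i.2).trans ?_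
    refine Eq.trans ?_ ((e.inv.app Kn).naturality_apply a.op _).symm
    exact congrArg _
      (ConcreteCategory.congr_hom (congr_app (e.hom_inv_id_app Kn) (op i.1)) _).symm
  simp only [Category.assoc]
  erw [hq, ← Groth.Agent.HyperLib.el.map_comp_assoc, hg, ← e.hom.naturality_assoc]
  simp [e]
  rfl

end Groth.Agent.S6507
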