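import Groth.Statements.S6508
import Groth.Agent.KFlatLib.Scheme.RpushRestrict
-- import your own Groth.Agent.* helpers here

set_option autoImplicit false
universe u
open CategoryTheory
attribute [local instance] HasDerivedCategory.standard
open DCoh

namespace Groth.Agent.S6508

open AlgebraicGeometry CategoryTheory.Limits in
/-- Let f : X → Y be a morphism of schemes, V ⊆ Y open, U = f⁻¹(V) and g : U → V the induced morphism.
Then (Rf_* E)|_V ≅ Rg_*(E|_U) naturally in E ∈ D(O_X); asserted here as the existence of an
isomorphism between the two composite functors D(O_X) → D(O_V), the derived functors being assumed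
to exist. (The published statement is for ringed spaces; this row is for schemes.) -/
theorem result {X Y : Scheme.{u}} (f : X ⟶ Y) (V : Y.Opens)
    [DCoh.HasRpush f] [DCoh.HasRpush (f ∣_ V)]
    [PreservesFiniteLimits (Scheme.Modules.restrictFunctor V.ι)]
    [PreservesFiniteLimits (Scheme.Modules.restrictFunctor (f ⁻¹ᵁ V).ι)] :
    Nonempty (DCoh.Rpush f ⋙ DCoh.restrictD V.ι ≅ DCoh.restrictD (f ⁻¹ᵁ V).ι ⋙ DCoh.Rpush (f ∣_ V)) := Groth.Agent.KFlatLib.nonempty_rpush_restrictD_iso f V

end Groth.Agent.S6508
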