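import Groth.Statements.S6513
import Groth.Agent.KFlatLib.Scheme.MayerVietoris
-- import your own Groth.Agent.* helpers here

set_option autoImplicit false
universe u
open CategoryTheory
attribute [local instance] HasDerivedCategory.standard
open DCoh

namespace Groth.Agent.S6513

open AlgebraicGeometry CategoryTheory.Limits in
/-- If a scheme X is the union of two opens U and V, then for every E ∈ D(O_X) there is a distinguished
triangle j_{U∩V,!}(E|_{U∩V}) → j_{U,!}(E|_U) ⊕ j_{V,!}(E|_V) → E → j_{U∩V,!}(E|_{U∩V})[1] in D(O_X),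
where j_! is extension by zero computed termwise (its exactness is carried as an instance
hypothesis). The objects are the stated ones; the morphisms are only asserted to exist. (The
published statement is for ringed spaces; this row is for schemes.) -/
theorem result {X : Scheme.{u}} (U V : X.Opens) (hUV : U ⊔ V = ⊤)
    [PreservesFiniteLimits (CxOX.extZero U.ι)] [PreservesFiniteLimits (CxOX.extZero V.ι)]
    [PreservesFiniteLimits (CxOX.extZero (U ⊓ V).ι)] (E : DCoh.D X) :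
    ∃ (a : (CxOX.extZeroD (U ⊓ V).ι).obj ((DCoh.restrictD (U ⊓ V).ι).obj E) ⟶ ((CxOX.extZeroD U.ι).obj ((DCoh.restrictD U.ι).obj E) ⊞ (CxOX.extZeroD V.ι).obj ((DCoh.restrictD V.ι).obj E))) (b : ((CxOX.extZeroD U.ι).obj ((DCoh.restrictD U.ι).obj E) ⊞ (CxOX.extZeroD V.ι).obj ((DCoh.restrictD V.ι).obj E)) ⟶ E) (c : E ⟶ ((CxOX.extZeroD (U ⊓ V).ι).obj ((DCoh.restrictD (U ⊓ V).ι).obj E))⟦(1 : ℤ)⟧),
      Pretriangulated.Triangle.mk a b c ∈ Pretriangulated.distinguishedTriangles := by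
  obtain ⟨a, b, c, h⟩ := Groth.Agent.KFlatLib.exists_mv_triangle U V hUV (DerivedCategory.Q.objPreimage E)
  let eE := DerivedCategory.Q.objObjPreimageIso E
  obtain ⟨eW⟩ := Groth.Agent.KFlatLib.nonempty_extZeroD_restrictD_iso (U ⊓ V) (DerivedCategory.Q.objPreimage E)
  obtain ⟨eU⟩ := Groth.Agent.KFlatLib.nonempty_extZeroD_restrictD_iso U (DerivedCategory.Q.objPreimage E)
  obtain ⟨eV⟩ := Groth.Agent.KFlatLib.nonempty_extZeroD_restrictD_iso V (DerivedCategory.Q.objPreimage E)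
  let e1 := (CxOX.extZeroD (U ⊓ V).ι).mapIso ((DCoh.restrictD (U ⊓ V).ι).mapIso eE.symm) ≪≫ eW
  let e2 := biprod.mapIso ((CxOX.extZeroD U.ι).mapIso ((DCoh.restrictD U.ι).mapIso eE.symm) ≪≫ eU)
    ((CxOX.extZeroD V.ι).mapIso ((DCoh.restrictD V.ι).mapIso eE.symm) ≪≫ eV)
  refine ⟨e1.hom ≫ a ≫ e2.inv, e2.hom ≫ b ≫ eE.hom, eE.inv ≫ c ≫ e1.inv⟦(1 : ℤ)⟧', ?_⟩
  refine Pretriangulated.isomorphic_distinguished _ h _ ?_
  refine Pretriangulated.Triangle.isoMk _ _ e1 e2 eE.symm ?_ ?_ ?_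
  · show (e1.hom ≫ a ≫ e2.inv) ≫ e2.hom = e1.hom ≫ a
    simp
  · show (e2.hom ≫ b ≫ eE.hom) ≫ eE.inv = e2.hom ≫ b
    simp
  · show (eE.inv ≫ c ≫ e1.inv⟦(1 : ℤ)⟧') ≫ e1.hom⟦(1 : ℤ)⟧' = eE.inv ≫ c
    rw [Category.assoc, Category.assoc, ← CategoryTheory.Functor.map_comp, Iso.inv_hom_id, CategoryTheory.Functor.map_id]
    erw [Category.comp_id]

end Groth.Agent.S6513
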