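import Groth.Statements.S6515
import Groth.Agent.KFlatLib.Scheme.RHomLocal
-- import your own Groth.Agent.* helpers here

set_option autoImplicit false
universe u
open CategoryTheory
attribute [local instance] HasDerivedCategory.standard
open DCoh

namespace Groth.Agent.S6515

open AlgebraicGeometry in
/-- For a scheme X, internal hom in D(O_X) commutes with restriction to an open U: RHom(K, M)|_U ≅
RHom(K|_U, M|_U). Here RHom(K, −) and RHom(K|_U, −) are the right adjoints of − ⊗^L K and − ⊗^L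
K|_U, taken under existence binders, and the assertion is the existence of an isomorphism in D(O_U).
(The published statement is for ringed spaces; this row is for schemes.) -/
theorem result {X : Scheme.{u}} (U : X.Opens) (K : CochainComplex X.Modules ℤ)
    [DCoh.HasLTensorCx K] [DCoh.HasRSheafHom K]
    [DCoh.HasLTensorCx ((DCoh.restrictCx U).obj K)] [DCoh.HasRSheafHom ((DCoh.restrictCx U).obj K)]
    [CategoryTheory.Limits.PreservesFiniteLimits (Scheme.Modules.restrictFunctor U.ι)] (M : DCoh.D X) :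
    Nonempty ((DCoh.restrictD U.ι).obj ((DCoh.RSheafHom K).obj M) ≅
      (DCoh.RSheafHom ((DCoh.restrictCx U).obj K)).obj ((DCoh.restrictD U.ι).obj M)) := by
  obtain ⟨I, hI, hinj, ⟨eM⟩⟩ := KFlatLib.exists_kInjective_rep M
  haveI := hI
  haveI : ((KFlatLib.rCx U.ι).obj I).IsKInjective := KFlatLib.isKInjective_rCx U.ι I
  haveI : ∀ n, Injective (((KFlatLib.rCx U.ι).obj I).X n) := KFlatLib.injective_rCx U.ι I
  obtain ⟨e⟩ := KFlatLib.nonempty_RSheafHom_iso K I
  obtain ⟨e'⟩ := KFlatLib.nonempty_RSheafHom_iso ((DCoh.restrictCx U).obj K) ((KFlatLib.rCx U.ι).obj I)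
  obtain ⟨e₁⟩ := KFlatLib.nonempty_rho_iHom U.ι K I
  exact ⟨(KFlatLib.rho U.ι).mapIso ((DCoh.RSheafHom K).mapIso eM ≪≫ e) ≪≫ e₁ ≪≫ e'.symm ≪≫
    (DCoh.RSheafHom ((DCoh.restrictCx U).obj K)).mapIso
      (((KFlatLib.rhoQ U.ι).app I).symm ≪≫ (KFlatLib.rho U.ι).mapIso eM.symm)⟩

end Groth.Agent.S6515
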