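import Groth.Statements.S6519
import Groth.Agent.KFlatLib.Scheme.SupportPush
-- import your own Groth.Agent.* helpers here

set_option autoImplicit false
universe u
open CategoryTheory
attribute [local instance] HasDerivedCategory.standard
open DCoh

namespace Groth.Agent.S6519

open AlgebraicGeometry in
/-- Let j : U → X be the inclusion of an open subscheme, and let T ⊆ U be a closed subset whose image
j(T) is also closed in X. Suppose E in D(O_U) is perfect and every cohomology sheaf of E has support
contained in T. In that case the derived pushforward Rj_*E is perfect as an object of D(O_X). (The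
published statement is for ringed spaces; this row is for schemes.) -/
theorem result {X : Scheme.{u}} (U : X.Opens) [DCoh.HasRpush U.ι]
    (E : DCoh.D (U : Scheme.{u})) (hE : DCoh.IsPerfect E) (T : Set (U : Scheme.{u}))
    (hT : IsClosed T) (hjT : IsClosed ((fun x : (U : Scheme.{u}) => U.ι.base x) '' T))
    (hsupp : ∀ i : ℤ, CohB1.support (DCoh.HD E i) ⊆ T) :
    DCoh.IsPerfect ((DCoh.Rpush U.ι).obj E) := Groth.Agent.KFlatLib.isPerfect_rpush_of_support U E hE T hjT hsupp

end Groth.Agent.S6519
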