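import Groth.Statements.S6530
import Mathlib.RingTheory.AdicCompletion.Algebra
import Mathlib.Tactic

set_option autoImplicit false
universe u
open DPow

namespace Groth.Agent.S6530
section completion

open AdicCompletion

variable {A : Type u} [CommRing A] {P : Ideal A}

/-- Evaluations at lower levels. -/
theorem eval_down {z : AdicCompletion P A} {l L : ℕ} (hl : l ≤ L) {a : A}
    (h : evalₐ P L z = Ideal.Quotient.mk (P ^ L) a) : evalₐ P l z = Ideal.Quotient.mk (P ^ l) a := by
  obtain ⟨c, rfl⟩ := AdicCompletion.mk_surjective P A z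
  rw [evalₐ_mk, Ideal.Quotient.mk_eq_mk_iff_sub_mem] at h
  rw [evalₐ_mk, Ideal.Quotient.mk_eq_mk_iff_sub_mem]
  have h2 : c.val L - c.val l ∈ P ^ l := by
    have := (SModEq.sub_mem.1 (c.property hl).symm)
    rwa [smul_eq_mul, Ideal.mul_top] at this
  have : c.val l - a = (c.val L - a) - (c.val L - c.val l) := by ring
  rw [this]
  exact (P ^ l).sub_mem (Ideal.pow_le_pow_right hl h) h2

theorem exists_rep (z : AdicCompletion P A) (L : ℕ) : ∃ a, evalₐ P L z = Ideal.Quotient.mk (P ^ L) a :=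
  ⟨_, (Ideal.Quotient.mk_surjective _).choose_spec.symm⟩

variable {I : Ideal A} (γ : DividedPowers I) (p : A)

/-- Divided powers respect congruences modulo powers of `p`, with a shift by `t`. -/
theorem dpow_sub_mem {t : ℕ} (ht : Ideal.span {p} ^ t ≤ I) {s : ℕ} {a a' : A} (ha' : a' ∈ I)
    (h : a - a' ∈ Ideal.span {p} ^ (s + t)) (m : ℕ) :
    γ.dpow m a - γ.dpow m a' ∈ Ideal.span {p} ^ s := by
  obtain ⟨b, hb⟩ := Ideal.mem_span_singleton'.1 (Ideal.span_singleton_pow p (s + t) ▸ h)
  have hd : p ^ t * b ∈ I := I.mul_mem_right _ (ht (Ideal.pow_mem_pow (Ideal.mem_span_singleton_self p) t))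
  have ha : a = a' + p ^ s * (p ^ t * b) := by linear_combination (-1 : A) * hb - (pow_add p s t) * b
  rw [ha, γ.dpow_add ha' (I.mul_mem_left _ hd),
    ← Finset.add_sum_erase _ _ (show (m, 0) ∈ Finset.HasAntidiagonal.antidiagonal m by simp),
    γ.dpow_zero (I.mul_mem_left _ hd), mul_one, add_sub_cancel_left]
  refine sum_mem fun k hk => ?_
  obtain ⟨hk1, hk2⟩ := Finset.mem_erase.1 hk
  rw [Finset.HasAntidiagonal.mem_antidiagonal] at hk2
  have hk' : k.2 ≠ 0 := fun h0 => hk1 (Prod.ext (by rw [h0, add_zero] at hk2; exact hk2) h0)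
  rw [γ.dpow_mul hd, ← pow_mul]
  refine Ideal.mul_mem_left _ _ (Ideal.mul_mem_right _ _
    (Ideal.pow_le_pow_right (Nat.le_mul_of_pos_right s (Nat.pos_of_ne_zero hk')) ?_))
  exact Ideal.pow_mem_pow (Ideal.mem_span_singleton_self p) _

/-- The divided powers on the kernel. -/
theorem exists_dp_completion (t : ℕ) (ht : Ideal.span {p} ^ t ≤ I) (K : Ideal (AdicCompletion (Ideal.span {p}) A))
    (hK : ∀ z, z ∈ K ↔ ∀ a, evalₐ (Ideal.span {p}) t z = Ideal.Quotient.mk _ a → a ∈ I) :
    ∃ δ : DividedPowers K, γ.IsDPMorphism δ (algebraMap A (AdicCompletion (Ideal.span {p}) A)) := by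
  classical
  have hof : ∀ (a : A) n, evalₐ (Ideal.span {p}) n (algebraMap A _ a) = Ideal.Quotient.mk _ a := fun a n => by
    rw [AlgHom.commutes]; rfl
  have hI : ∀ z ∈ K, ∀ L, t ≤ L → ∀ a, evalₐ (Ideal.span {p}) L z = Ideal.Quotient.mk _ a → a ∈ I :=
    fun z hz L hL a ha => (hK z).1 hz a (eval_down hL ha)
  have hrep : ∀ z ∈ K, ∀ L, ∃ a ∈ I, ∀ l ≤ L + t, evalₐ (Ideal.span {p}) l z = Ideal.Quotient.mk _ a := fun z hz L => by
    obtain ⟨a, ha⟩ := exists_rep z (L + t)
    exact ⟨a, hI z hz _ (Nat.le_add_left _ _) a ha, fun l hl => eval_down hl ha⟩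
  have hval : ∀ z ∈ K, ∀ m : ℕ, ∃ w : AdicCompletion (Ideal.span {p}) A, ∀ (s : ℕ) (a : A), a ∈ I →
      evalₐ (Ideal.span {p}) (s + t) z = Ideal.Quotient.mk _ a → evalₐ (Ideal.span {p}) s w = Ideal.Quotient.mk _ (γ.dpow m a) := by
    intro z hz m
    choose r hr hr' using hrep z hz
    have hcong : ∀ s, ∀ a ∈ I, evalₐ (Ideal.span {p}) (s + t) z = Ideal.Quotient.mk _ a →
        γ.dpow m (r s) - γ.dpow m a ∈ (Ideal.span {p}) ^ s := fun s a haI ha =>
      dpow_sub_mem γ p ht haI (Ideal.Quotient.mk_eq_mk_iff_sub_mem _ _ |>.1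
        ((hr' s (s + t) le_rfl).symm.trans ha)) m
    refine ⟨AdicCompletion.mk (Ideal.span {p}) A (AdicCauchySequence.mk (Ideal.span {p}) A (fun s => γ.dpow m (r s)) fun s => ?_), ?_⟩
    · rw [SModEq.sub_mem, smul_eq_mul, Ideal.mul_top]
      exact hcong s _ (hr (s + 1)) (hr' (s + 1) (s + t) (by omega))
    · intro s a haI ha
      rw [evalₐ_mk, Ideal.Quotient.mk_eq_mk_iff_sub_mem]
      exact hcong s a haI ha
  choose w hw using hval
  let d : ℕ → AdicCompletion (Ideal.span {p}) A → AdicCompletion (Ideal.span {p}) A := fun m z => if hz : z ∈ K then w z hz m else 0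
  have key : ∀ (m : ℕ) z, z ∈ K → ∀ (s : ℕ) (a : A), a ∈ I → evalₐ (Ideal.span {p}) (s + t) z = Ideal.Quotient.mk _ a →
      evalₐ (Ideal.span {p}) s (d m z) = Ideal.Quotient.mk _ (γ.dpow m a) := fun m z hz s a haI ha => by
    simp only [d, dif_pos hz]; exact hw z hz m s a haI ha
  have hdK : ∀ {m : ℕ} {z}, m ≠ 0 → z ∈ K → d m z ∈ K := fun {m z} hm hz => by
    obtain ⟨a, haI, ha⟩ := hrep z hz t
    refine (hK _).2 fun c hc => ?_
    rw [key m z hz t a haI (ha _ le_rfl), Ideal.Quotient.mk_eq_mk_iff_sub_mem] at hc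
    have := I.sub_mem (γ.dpow_mem hm haI) (ht hc)
    rwa [sub_sub_cancel] at this
  have halg : ∀ a ∈ I, algebraMap A (AdicCompletion (Ideal.span {p}) A) a ∈ K := fun a ha => (hK _).2 fun c hc => by
    rw [hof, Ideal.Quotient.mk_eq_mk_iff_sub_mem] at hc
    have := I.sub_mem ha (ht hc)
    rwa [sub_sub_cancel] at this
  refine ⟨{
    dpow := d
    dpow_null := fun hz => dif_neg hz
    dpow_zero := fun {z} hz => ext_evalₐ fun s => by
      obtain ⟨a, haI, ha⟩ := hrep z hz s
      rw [key 0 z hz s a haI (ha _ le_rfl), γ.dpow_zero haI, map_one, map_one]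
    dpow_one := fun {z} hz => ext_evalₐ fun s => by
      obtain ⟨a, haI, ha⟩ := hrep z hz s
      rw [key 1 z hz s a haI (ha _ le_rfl), γ.dpow_one haI, ha s (Nat.le_add_right _ _)]
    dpow_mem := hdK
    dpow_add := fun {n z z'} hz hz' => ext_evalₐ fun s => by
      obtain ⟨a, haI, ha⟩ := hrep z hz s
      obtain ⟨a', haI', ha'⟩ := hrep z' hz' s
      rw [key n _ (K.add_mem hz hz') s (a + a') (I.add_mem haI haI')
        (by rw [map_add, map_add, ha _ le_rfl, ha' _ le_rfl]), γ.dpow_add haI haI', map_sum, map_sum]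
      refine Finset.sum_congr rfl fun k _ => ?_
      rw [map_mul, map_mul, key k.1 z hz s a haI (ha _ le_rfl), key k.2 z' hz' s a' haI' (ha' _ le_rfl)]
    dpow_mul := fun {n c z} hz => ext_evalₐ fun s => by
      obtain ⟨a, haI, ha⟩ := hrep z hz s
      obtain ⟨b, hb⟩ := exists_rep c (s + t)
      rw [key n _ (K.mul_mem_left c hz) s (b * a) (I.mul_mem_left b haI)
        (by rw [map_mul, map_mul, ha _ le_rfl, hb]), γ.dpow_mul haI, map_mul, map_mul, map_pow, map_pow,
        key n z hz s a haI (ha _ le_rfl), eval_down (Nat.le_add_right s t) hb]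
    mul_dpow := fun {m n z} hz => ext_evalₐ fun s => by
      obtain ⟨a, haI, ha⟩ := hrep z hz s
      rw [map_mul, map_mul, map_natCast, key m z hz s a haI (ha _ le_rfl), key n z hz s a haI (ha _ le_rfl),
        key _ z hz s a haI (ha _ le_rfl), ← map_mul, γ.mul_dpow haI, map_mul, map_natCast]
    dpow_comp := fun {m n z} hn hz => ext_evalₐ fun s => by
      obtain ⟨a, haI, ha⟩ := hrep z hz (s + t)
      rw [map_mul, map_natCast, key _ z hz s a haI (ha _ (Nat.le_add_right _ _)),
        key m _ (hdK hn hz) s (γ.dpow n a) (γ.dpow_mem hn haI) (key n z hz _ a haI (ha _ le_rfl)),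
        γ.dpow_comp hn haI, map_mul, map_natCast] }, ⟨Ideal.map_le_iff_le_comap.2 halg, fun {n} a ha =>
      ext_evalₐ fun s => ?_⟩⟩
  show evalₐ (Ideal.span {p}) s (d n (algebraMap A _ a)) = _
  rw [key n _ (halg a ha) s a ha (hof a _), hof]

end completion


/-- Let (A, I, γ) be a divided power ring and p a prime number with p^t A ⊆ I for some t ≥ 0, so that p
is nilpotent in A/I. Let A^∧ be the p-adic completion of A and π : A^∧ → A/I the composite of the
evaluation A^∧ → A/p^tA with the projection A/p^tA → A/I. Then π is surjective, and there is a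
divided power structure on Ker(π) (this kernel is the p-adic completion of I) such that the
canonical map A → A^∧ is a homomorphism of divided power rings. -/
theorem result {A : Type u} [CommRing A] {I : Ideal A}
    (γ : DividedPowers I) (p : ℕ) [Fact p.Prime] (t : ℕ) (ht : Ideal.span {(p : A)} ^ t ≤ I) :
    Function.Surjective ((Ideal.Quotient.factor ht).comp
      (AdicCompletion.evalₐ (Ideal.span {(p : A)}) t).toRingHom) ∧
    ∃ δ : DividedPowers (RingHom.ker ((Ideal.Quotient.factor ht).comp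
      (AdicCompletion.evalₐ (Ideal.span {(p : A)}) t).toRingHom)),
      γ.IsDPMorphism δ (algebraMap A (AdicCompletion (Ideal.span {(p : A)}) A)) := by
  constructor
  · intro y
    obtain ⟨a, rfl⟩ := Ideal.Quotient.mk_surjective y
    refine ⟨algebraMap A _ a, ?_⟩
    show Ideal.Quotient.factor ht (AdicCompletion.evalₐ _ t (algebraMap A _ a)) = _
    rw [AlgHom.commutes]
    rfl
  · refine exists_dp_completion γ (p : A) t ht _ fun z => ?_
    rw [RingHom.mem_ker]
    show Ideal.Quotient.factor ht (AdicCompletion.evalₐ _ t z) = 0 ↔ _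
    obtain ⟨c, hc⟩ := exists_rep z t
    rw [hc, Ideal.Quotient.factor_mk, Ideal.Quotient.eq_zero_iff_mem]
    refine ⟨fun h a ha => ?_, fun h => h c rfl⟩
    have := I.sub_mem h (ht ((Ideal.Quotient.mk_eq_mk_iff_sub_mem c a).1 ha))
    rwa [sub_sub_cancel] at this


end Groth.Agent.S6530
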