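import Groth.Statements.S6532
import Groth.Agent.TorObstr.Main
import Mathlib

set_option autoImplicit false
universe u
open LCI

namespace Groth.Agent.S6532

/-- Let R' → R be a surjection of Noetherian rings whose kernel is generated by a single element f and
has square zero; let I ⊆ R be the image of the annihilator of f. Let S = R[x_1, …, x_n]/(f_1, …,
f_m) and let ∑ r_j f_j = 0 be a relation in R[x_1, …, x_n] such that (1) every coefficient of every
r_j lies in I, and (2) there are lifts r'_j, f'_j in R'[x_1, …, x_n] and an element g with ∑ r'_j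
f'_j = f g, where g maps to a non-nilpotent element of S/IS. Under these hypotheses, the
Tor-dimension of S over R is infinite (so S fails to be a perfect R-algebra). -/
theorem result {R' R : Type u} [CommRing R'] [CommRing R]
    [IsNoetherianRing R'] [IsNoetherianRing R] (π : R' →+* R) (hπ : Function.Surjective π)
    (f : R') (hker : RingHom.ker π = Ideal.span {f}) (hf : f * f = 0)
    {n m : ℕ} (fs r : Fin m → MvPolynomial (Fin n) R) (hrel : ∑ j, r j * fs j = 0)
    (h1 : ∀ (j : Fin m) (d : Fin n →₀ ℕ),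
      MvPolynomial.coeff d (r j) ∈ ((Ideal.span {f}).annihilator).map π)
    (r' f' : Fin m → MvPolynomial (Fin n) R') (g : MvPolynomial (Fin n) R')
    (hr' : ∀ j, MvPolynomial.map π (r' j) = r j) (hf' : ∀ j, MvPolynomial.map π (f' j) = fs j)
    (hsum : ∑ j, r' j * f' j = MvPolynomial.C f * g)
    (hg : ¬ IsNilpotent (Ideal.Quotient.mk
      (Ideal.span (Set.range fs) ⊔ (((Ideal.span {f}).annihilator).map π).map MvPolynomial.C)
      (MvPolynomial.map π g))) :
    ¬ DRing.HasFiniteTorDim R (MvPolynomial (Fin n) R ⧸ Ideal.span (Set.range fs)) := by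
  classical
  intro hfin
  obtain ⟨D, hD⟩ := hfin
  set I : Ideal R := ((Ideal.span {f}).annihilator).map π with hI
  obtain ⟨p, e, he⟩ := Submodule.fg_iff_exists_fin_generating_family.1 (IsNoetherian.noetherian I)
  let ρ : MvPolynomial (Fin n) R' →+* MvPolynomial (Fin n) R := MvPolynomial.map π
  have hρ : Function.Surjective ρ := MvPolynomial.map_surjective π hπ
  have hker' : RingHom.ker ρ = Ideal.span {MvPolynomial.C f} := by
    show RingHom.ker (MvPolynomial.map π) = _
    rw [MvPolynomial.ker_map, hker, Ideal.map_span, Set.image_singleton]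
  have hF₀ : MvPolynomial.C (σ := Fin n) f * MvPolynomial.C f = 0 := by rw [← map_mul, hf, map_zero]
  have hIP : I.map (MvPolynomial.C (σ := Fin n)) =
      Ideal.span (Set.range fun l => algebraMap R (MvPolynomial (Fin n) R) (e l)) := by
    rw [← he]
    show Ideal.map MvPolynomial.C (Ideal.span (Set.range e)) = _
    rw [Ideal.map_span, ← Set.range_comp]
    rfl
  have hann : ∀ a : R', f * a = 0 → a ∈ (Ideal.span {f}).annihilator := fun a ha => by
    rw [Submodule.mem_annihilator]
    intro x hx
    obtain ⟨c, rfl⟩ := Ideal.mem_span_singleton'.1 hx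
    rw [smul_eq_mul, mul_left_comm, mul_comm a, ha, mul_zero]
  have hK₁ : ∀ u, MvPolynomial.C f * u = 0 → ρ u ∈ I.map (MvPolynomial.C (σ := Fin n)) := by
    intro u hu
    rw [MvPolynomial.mem_map_C_iff]
    intro d
    show MvPolynomial.coeff d (MvPolynomial.map π u) ∈ I
    rw [MvPolynomial.coeff_map]
    refine Ideal.mem_map_of_mem π (hann _ ?_)
    rw [← MvPolynomial.coeff_C_mul, hu, MvPolynomial.coeff_zero]
  have hK₂ : ∀ y ∈ I.map (MvPolynomial.C (σ := Fin n)), ∃ u, MvPolynomial.C f * u = 0 ∧ ρ u = y := by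
    intro y hy
    rw [hI, Ideal.map_map, ← MvPolynomial.map_comp_C, ← Ideal.map_map] at hy
    obtain ⟨u, hu, rfl⟩ := (Ideal.mem_map_iff_of_surjective _ hρ).1 hy
    refine ⟨u, MvPolynomial.ext _ _ fun d => ?_, rfl⟩
    rw [MvPolynomial.coeff_C_mul, MvPolynomial.coeff_zero, mul_comm]
    exact Submodule.mem_annihilator.1 (MvPolynomial.mem_map_C_iff.1 hu d) f (Ideal.mem_span_singleton_self f)
  have hr : ∀ j, r j ∈ I.map (MvPolynomial.C (σ := Fin n)) := fun j => MvPolynomial.mem_map_C_iff.2 (h1 j)
  have hT := Groth.Agent.Synt29.torExactFrom_of_hasTorDimLE hD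
  have key := Groth.Agent.TorObstr.pow_mem_sup (R := R) ρ hρ (MvPolynomial.C f) hker' hF₀ e _ hIP hK₁ hK₂
    fs r hr hrel r' f' hr' hf' g hsum (D := D) (fun N Q i hi => hT N Q i (by omega))
  exact hg ⟨D + 1, by rw [← map_pow, Ideal.Quotient.eq_zero_iff_mem]; exact key⟩


end Groth.Agent.S6532
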