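import Groth.Statements.S6534
import Groth.Agent.H9Misc.FilTel

set_option autoImplicit false
universe w v u
open CategoryTheory
open CohDer
open Groth.Agent.H9Misc

namespace Groth.Agent.S6534

open CategoryTheory.Limits in
/-- Let A be a Grothendieck abelian category, E ∈ D(A), and … → E^{i+1} → E^i → … → E an inverse system
in D(A) over ℤ with compatible maps to E. Then there exists a filtered complex K of A such that K
represents E and F^iK represents E^i, compatibly: there are isomorphisms in D(A) from the images of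
K and of the subcomplexes F^iK to E and E^i under which the inclusions F^iK → K and F^{i+1}K → F^iK
correspond to the given maps E^i → E and E^{i+1} → E^i. -/
theorem result {A : Type u} [Category.{v} A] [Abelian A]
    [IsGrothendieckAbelian.{v} A] [HasDerivedCategory.{w} A]
    (E : DerivedCategory A) (Es : ℤ → DerivedCategory A) (t : ∀ i : ℤ, Es (i + 1) ⟶ Es i)
    (a : ∀ i : ℤ, Es i ⟶ E) (hat : ∀ i : ℤ, t i ≫ a i = a (i + 1)) :
    ∃ (K : SpSeq.FilCx A) (e : DerivedCategory.Q.obj K.obj ≅ E)
      (ei : ∀ i : ℤ, DerivedCategory.Q.obj (K.step i) ≅ Es i),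
      (∀ i : ℤ, DerivedCategory.Q.map (K.fil i).arrow ≫ e.hom = (ei i).hom ≫ a i) ∧
      (∀ i : ℤ, DerivedCategory.Q.map (K.stepLE (le_of_lt (Int.lt_succ_self i))) ≫ (ei i).hom =
        (ei (i + 1)).hom ≫ t i) := by
  have hrep : ∀ X : DerivedCategory A, ∃ (L : CochainComplex A ℤ), L.IsKInjective ∧
      Nonempty (DerivedCategory.Q.obj L ≅ X) := fun X => by
    obtain ⟨L, f, hL, hf, -, -⟩ :=
      Groth.Agent.TriCat.exists_kInjective_resolution'.{v} (DerivedCategory.Q.objPreimage X)
    haveI := (DerivedCategory.isIso_Q_map_iff_quasiIso _ f).2 hf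
    exact ⟨L, hL, ⟨(asIso (DerivedCategory.Q.map f)).symm ≪≫ DerivedCategory.Q.objObjPreimageIso X⟩⟩
  obtain ⟨L, hL, ⟨eL⟩⟩ := hrep E
  choose I hI eI using fun i => hrep (Es i)
  let eI' := fun i => (eI i).some
  haveI := hL
  haveI := hI
  choose a' ha' using fun i => FilTel.exists_lift ((eI' i).hom ≫ a i ≫ eL.inv)
  choose t' ht' using fun i => FilTel.exists_lift ((eI' (i + 1)).hom ≫ t i ≫ (eI' i).inv)
  obtain ⟨K, e, ei, h1, h2⟩ := FilTel.exists_filCx I t' L a' (fun i => by
    rw [Functor.map_comp, ht', ha', ha', ← hat i]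
    simp only [Category.assoc, Iso.inv_hom_id_assoc])
  refine ⟨K, e ≪≫ eL, fun i => ei i ≪≫ eI' i, fun i => ?_, fun i => ?_⟩
  · rw [Iso.trans_hom, ← Category.assoc, h1, ha', Iso.trans_hom]
    simp only [Category.assoc, Iso.inv_hom_id, Category.comp_id]
  · rw [Iso.trans_hom, ← Category.assoc, h2, ht', Iso.trans_hom]
    exact (Category.assoc _ _ _).trans ((congrArg ((ei (i + 1)).hom ≫ ·) (show ((eI' (i + 1)).hom ≫ t i ≫ (eI' i).inv) ≫
      (eI' i).hom = (eI' (i + 1)).hom ≫ t i by simp)).trans (Category.assoc _ _ _).symm)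

end Groth.Agent.S6534
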