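import Groth.Statements.S6535
import Groth.Agent.HyperLib.Pullback

set_option autoImplicit false
set_option backward.isDefEq.respectTransparency false
set_option backward.isDefEq.respectTransparency.types false
universe u
open CategoryTheory
open Hyper

namespace Groth.Agent.S6535

open Opposite CategoryTheory.Limits in
/-- Let C be a small site with fibre products, X an object, K, L, M simplicial semi-representable
objects over X with morphisms a : K → L and b : M → L, and P = K ×_L M a fibre product (a pullback
square of simplicial objects). Assume (1) K is a hypercovering of X, (2) M_0 → L_0 is a covering,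
and (3) for every n ≥ 0 the canonical morphism γ : M_{n+1} → L_{n+1} ×_{(cosk_n sk_n L)_{n+1}}
(cosk_n sk_n M)_{n+1} is a covering (stated for every fibre product of that cospan and the induced
γ). Then P is a hypercovering of X. -/
theorem result {C : Type u} [SmallCategory C] [HasPullbacks C]
    (J : GrothendieckTopology C) (X : C)
    [∀ (n : ℕ) (F : (SimplexCategory.Truncated n)ᵒᵖ ⥤ Limits.FormalCoproduct.{u} (Over X)),
      (SimplexCategory.Truncated.inclusion n).op.HasRightKanExtension F]
    {K L M P : SimplicialObject (FormalCoproduct.{u} (Over X))} (a : K ⟶ L) (b : M ⟶ L)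
    (p1 : P ⟶ K) (p2 : P ⟶ M) (hP : IsPullback p1 p2 a b)
    (hK : Hyper.IsHypercovering J X K)
    (h0 : Hyper.IsSRCovering (J.over X) (b.app (op (SimplexCategory.mk 0))))
    (hγ : ∀ (n : ℕ) (Q : FormalCoproduct.{u} (Over X))
      (q1 : Q ⟶ L.obj (op (SimplexCategory.mk (n + 1))))
      (q2 : Q ⟶ ((SimplicialObject.truncation n ⋙ SimplicialObject.Truncated.cosk n).obj M).obj
        (op (SimplexCategory.mk (n + 1))))
      (γ : M.obj (op (SimplexCategory.mk (n + 1))) ⟶ Q),
      IsPullback q1 q2 (((SimplicialObject.coskAdj n).unit.app L).app (op (SimplexCategory.mk (n + 1))))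
        (((SimplicialObject.truncation n ⋙ SimplicialObject.Truncated.cosk n).map b).app
          (op (SimplexCategory.mk (n + 1)))) →
      γ ≫ q1 = b.app (op (SimplexCategory.mk (n + 1))) →
      γ ≫ q2 = ((SimplicialObject.coskAdj n).unit.app M).app (op (SimplexCategory.mk (n + 1))) →
      Hyper.IsSRCovering (J.over X) γ) :
    Hyper.IsHypercovering J X P := by
  open Groth.Agent.HyperLib Opposite CategoryTheory.Limits CategoryTheory.Limits.FormalCoproduct in
  refine (isHypercovering_iff J X P).2
    (isLocTrivial_pullback (J.over X) hP ((isHypercovering_iff J X K).1 hK) h0 fun n => ?_)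
  intro U y hy l hl
  obtain ⟨h, hh⟩ := Groth.Agent.HyperLib.exists_bd M y hy
  let u := ((SimplicialObject.coskAdj n).unit.app L).app (op (SimplexCategory.mk (n + 1)))
  let v := ((SimplicialObject.truncation n ⋙ SimplicialObject.Truncated.cosk n).map b).app
    (op (SimplexCategory.mk (n + 1)))
  let γ : M.obj (op (SimplexCategory.mk (n + 1))) ⟶ Limits.pullback u v :=
    pullback.lift (b.app _) (((SimplicialObject.coskAdj n).unit.app M).app _)
      (congr_app ((SimplicialObject.coskAdj n).unit.naturality b) _)
  have hγ' := hγ n _ _ _ γ (IsPullback.of_hasPullback u v) (pullback.lift_fst _ _ _)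
    (pullback.lift_snd _ _ _)
  rw [Groth.Agent.HyperLib.isSRCovering_iff] at hγ'
  have hz : l ≫ u = h ≫ v := by
    refine Groth.Agent.HyperLib.bd_injective L fun i => ?_
    refine (Groth.Agent.HyperLib.bd_unit L l i).trans ((hl i).trans ?_)
    rw [← hh i]
    exact (Groth.Agent.HyperLib.bd_map b h i).symm
  refine ⟨_, hγ' U (pullback.lift l h hz), ?_⟩
  rintro V g ⟨m, hm⟩
  refine ⟨m, fun i => ?_, ?_⟩
  · have e : m ≫ ((SimplicialObject.coskAdj n).unit.app M).app _ =
        (FormalCoproduct.incl (Over X)).map g ≫ h := by
      simpa [γ] using congrArg (fun z => z ≫ pullback.snd u v) hm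
    rw [← hh i, ← Groth.Agent.HyperLib.bd_comp M _ h i, ← e]
    exact (Groth.Agent.HyperLib.bd_unit M m i).symm
  · simpa [γ] using congrArg (fun z => z ≫ pullback.fst u v) hm

end Groth.Agent.S6535
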