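import Groth.Statements.S6537
import Groth.Agent.CurveCover.SquareNG
import Groth.Agent.SeesawX.PnSpec
import Groth.Agent.AmpleX.Pow
-- import your own Groth.Agent.* helpers here

set_option autoImplicit false
set_option backward.isDefEq.respectTransparency false
set_option backward.isDefEq.respectTransparency.types false
universe u
open CategoryTheory CategoryTheory.Limits AlgebraicGeometry
open Curves

namespace Groth.Agent.S6537

/-- Let X be proper over the field k, of dimension one, with H^0(X, O_X) = k, and let L be an invertible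
O_X-module generated by its global sections, with H^1(X, L) = 0 and L ample. Then the tensor square
L^{⊗2} is very ample on X over k: some closed immersion i : X → P^n_k over k has i^* O(1) ≅ L^{⊗2}. -/
theorem result (k : Type u) [Field k] (X : Scheme.{u}) [X.Over (Spec (CommRingCat.of k))]
    [IsProper (X ↘ (Spec (CommRingCat.of k)))] (hdim : topologicalKrullDim X = 1)
    (h0 : Module.finrank k (Coh.HH X (Coh.structureModule X) 0) = 1) (L : X.Modules) (hL : PicF.IsInvertible L)
    (hgg : Curv2.IsGloballyGenerated L) (h1 : Subsingleton (Coh.HH X L 1)) (hample : CohB1.IsAmple L) :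
    ∃ (n : ℕ) (i : X ⟶ CohB1.ProjSpace n k), IsClosedImmersion i ∧ i ≫ CohB1.ProjSpace.toSpec n k = X ↘ (Spec (CommRingCat.of k)) ∧
      Nonempty ((Scheme.Modules.pullback i).obj (Twist.twistProjSpace n k 1) ≅ CohB1.tensorPow L 2) := by
  obtain ⟨n, i, hi, hc, ⟨e⟩⟩ := Groth.Agent.CurveCover.NormGen.isRelVeryAmplePn_of_normGenerated
    (X ↘ (Spec (CommRingCat.of k))) (Groth.Agent.AmpleX.isAmple_tensorPow hample two_pos)
    (Groth.Agent.CurveCover.SquareNG.normGenerated k hdim.le hL hgg h1)
  obtain ⟨a, ha, ⟨τ⟩⟩ := Groth.Agent.SeesawX.PnSpec.exists_iso n k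
  have hc' : (i ≫ a.hom) ≫ CohB1.ProjSpace.toSpec n k = X ↘ (Spec (CommRingCat.of k)) := by
    rw [Category.assoc, ha]
    exact hc
  haveI : IsProper (CohB1.ProjSpace.toSpec n k) := Groth.Agent.PnCoh.Chow.isProper_toSpec n k
  haveI : IsProper ((i ≫ a.hom) ≫ CohB1.ProjSpace.toSpec n k) := by rw [hc']; infer_instance
  haveI : IsProper (i ≫ a.hom) := IsProper.of_comp (i ≫ a.hom) (CohB1.ProjSpace.toSpec n k)
  refine ⟨n, i ≫ a.hom, ?_, hc', ⟨?_⟩⟩
  · exact IsClosedImmersion.of_isPreimmersion _ (i ≫ a.hom).isClosedMap.isClosed_range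
  · exact ((Scheme.Modules.pullbackComp i a.hom).app _).symm ≪≫
      (Scheme.Modules.pullback i).mapIso τ ≪≫ e.symm

end Groth.Agent.S6537
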