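import Groth.Statements.S6536
import Groth.Agent.CurveEmbed.Sextic
import Groth.Agent.S6537
import Groth.Agent.AmpleX.Pow
import Groth.Agent.AmpleX.RelAffine

set_option autoImplicit false
universe u
open CategoryTheory CategoryTheory.Limits AlgebraicGeometry
open Curves

namespace Groth.Agent.S6536

/-- Let X be proper over the field k, of dimension one, with H^0(X, O_X) = k, and let L be an invertible
O_X-module which has a regular global section (a monomorphism O_X → L), satisfies H^1(X, L) = 0 and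
is ample. Then L^{⊗6} is very ample on X over k: there is a closed immersion i : X → P^n_k over k
with i^* O(1) ≅ L^{⊗6}. -/
theorem result (k : Type u) [Field k] (X : Scheme.{u}) [X.Over (Spec (CommRingCat.of k))]
    [IsProper (X ↘ (Spec (CommRingCat.of k)))] (hdim : topologicalKrullDim X = 1)
    (h0 : Module.finrank k (Coh.HH X (Coh.structureModule X) 0) = 1) (L : X.Modules) (hL : PicF.IsInvertible L)
    (hs : ∃ s : Coh.structureModule X ⟶ L, Mono s) (h1 : Subsingleton (Coh.HH X L 1)) (hample : CohB1.IsAmple L) :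
    ∃ (n : ℕ) (i : X ⟶ CohB1.ProjSpace n k), IsClosedImmersion i ∧ i ≫ CohB1.ProjSpace.toSpec n k = X ↘ (Spec (CommRingCat.of k)) ∧
      Nonempty ((Scheme.Modules.pullback i).obj (Twist.twistProjSpace n k 1) ≅ CohB1.tensorPow L 6) := by

  obtain ⟨s, _⟩ := hs
  open Groth.Agent in
  obtain ⟨hgg, h13⟩ := CurveEmbed.Sextic.cube k hdim hL s h1
  open Groth.Agent in
  obtain ⟨e3⟩ : Nonempty (CohB1.tensorPow L 3 ≅ CohB1.tensorMod (CohB1.tensorMod L L) L) :=
    H23.PicMul.cl_eq_iff.1 (by
      simp only [H23.PicMul.cl_tensorPow, H23.PicMul.cl_tensor, pow_succ, pow_zero, one_mul])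
  have hL3 : PicF.IsInvertible (CohB1.tensorMod (CohB1.tensorMod L L) L) :=
    Groth.Agent.InvX.isInvertible_tensorMod (Groth.Agent.InvX.isInvertible_tensorMod hL hL) hL
  obtain ⟨n, i, hi, hcomp, ⟨e⟩⟩ := Groth.Agent.S6537.result k X hdim h0 _ hL3 hgg h13
    (Groth.Agent.AmpleX.isAmple_of_iso e3 (Groth.Agent.AmpleX.isAmple_tensorPow hample (by norm_num : 0 < 3)))
  refine ⟨n, i, hi, hcomp, ?_⟩
  open Groth.Agent in
  obtain ⟨e6⟩ : Nonempty (CohB1.tensorPow (CohB1.tensorMod (CohB1.tensorMod L L) L) 2 ≅ CohB1.tensorPow L 6) :=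
    H23.PicMul.cl_eq_iff.1 (by
      simp only [H23.PicMul.cl_tensorPow, H23.PicMul.cl_tensor, pow_succ, pow_zero, one_mul, mul_assoc])
  exact ⟨e ≪≫ e6⟩


end Groth.Agent.S6536
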