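import Groth.Statements.S6538
import Groth.Agent.CurveDual.Support
import Groth.Agent.BlowPointH1.Sections
import Groth.Agent.H28.PBExist
import Groth.Agent.InvX.Tensor
import Groth.Agent.H23.InvStalk
import Groth.Agent.H23.PicMul
import Mathlib.RingTheory.Nakayama

set_option autoImplicit false
universe u
open CategoryTheory CategoryTheory.Limits AlgebraicGeometry
attribute [local instance] HasDerivedCategory.standard
open Curves

namespace Groth.Agent.S6538

set_option backward.isDefEq.respectTransparency false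
set_option backward.isDefEq.respectTransparency.types false
set_option synthInstance.maxHeartbeats 200000
set_option maxHeartbeats 2000000
attribute [local instance] HasDerivedCategory.standard

namespace Groth.Agent.S6538
open Groth.Agent

variable {X : Scheme.{u}}

theorem hom_eq_zero_stalks {F G : X.Modules} (φ : F ⟶ G) (h : ∀ (x : X) a, TFOneX.sm φ x a = 0) : φ = 0 := by
  refine Scheme.Modules.hom_ext _ _ fun U => ?_
  ext s
  refine TopCat.Presheaf.section_ext (show TopCat.Sheaf AddCommGrpCat.{u} X.toPresheafedSpace.carrier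
    from ⟨G.presheaf, G.isSheaf⟩) U _ _ fun x hx => ?_
  show G.presheaf.germ U x hx (φ.app U s) = G.presheaf.germ U x hx 0
  rw [map_zero, ← DerSch.stalkFunctor_map_germ x φ U hx s]
  exact h x _

/-- Twisting by a section not generating at `x` lands in `𝔪`. -/
theorem range_le {L ω : X.Modules} (hL : PicF.IsInvertible L) (s : Coh.structureModule X ⟶ L) (x : X)
    (hs : ¬ Function.Surjective (TFOneX.sm s x))
    (w : (DerSch.stalkFunctor X x).obj ((DCoh.tensorBi.obj ω).obj (Coh.structureModule X))) :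
    TFOneX.sm ((DCoh.tensorBi.obj ω).map s) x w ∈
      IsLocalRing.maximalIdeal (X.presheaf.stalk x) •
        (⊤ : Submodule (X.presheaf.stalk x) ((DerSch.stalkFunctor X x).obj ((DCoh.tensorBi.obj ω).obj L))) := by
  classical
  obtain ⟨e⟩ := H23.InvStalk.exists_stalk_equiv hL x
  have h := KFlatLib.stalkTensorIso_naturality (x := x) (𝟙 ω) s
  rw [(DerSch.stalkFunctor X x).map_id, CategoryTheory.Functor.map_id, NatTrans.id_app,
    Category.id_comp, MonoidalCategory.id_tensorHom] at h
  obtain ⟨t, rfl⟩ := (KFlatLib.stalkTensorIso x ω (Coh.structureModule X)).toLinearEquiv.surjective w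
  have ht : (KFlatLib.stalkTensorIso x ω L).toLinearEquiv ((TFOneX.sm s x).lTensor _ t) =
      TFOneX.sm ((DCoh.tensorBi.obj ω).map s) x ((KFlatLib.stalkTensorIso x ω (Coh.structureModule X)).toLinearEquiv t) :=
    congrArg (fun ψ => ψ.hom t) h
  rw [← ht]
  clear ht h
  induction t using TensorProduct.induction_on with
  | zero => rw [map_zero, map_zero]; exact zero_mem _
  | tmul w o =>
    have hm : e (TFOneX.sm s x o) ∈ IsLocalRing.maximalIdeal (X.presheaf.stalk x) := by
      by_contra hu
      obtain ⟨u, hu'⟩ := IsLocalRing.notMem_maximalIdeal.1 hu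
      refine hs fun l => ⟨(e l * (↑u⁻¹ : X.presheaf.stalk x)) • o, e.injective ?_⟩
      rw [LinearMap.map_smul, LinearEquiv.map_smul, smul_eq_mul, mul_assoc, ← hu', Units.inv_mul, mul_one]
    have hl : TFOneX.sm s x o = e (TFOneX.sm s x o) • e.symm 1 := e.injective (by
      rw [LinearEquiv.map_smul, LinearEquiv.apply_symm_apply, smul_eq_mul, mul_one])
    rw [LinearMap.lTensor_tmul, hl, TensorProduct.tmul_smul, LinearEquiv.map_smul]
    exact Submodule.smul_mem_smul hm Submodule.mem_top
  | add a b ha hb => rw [map_add, map_add]; exact add_mem ha hb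

end Groth.Agent.S6538


/-- Let X be proper over the field k, of dimension one, with H^0(X, O_X) = k, and let ω_X be its
dualizing module (the degree -1 cohomology sheaf of f^! O for the structure morphism f, assuming
Rf_* on D_QCoh and its right adjoint exist). If L is an invertible O_X-module generated by its
global sections and L is not isomorphic to O_X, then ω_X ⊗ L has no first cohomology: H^1(X, ω_X ⊗
L) = 0. -/
theorem result (k : Type u) [Field k] (X : Scheme.{u}) [X.Over (Spec (CommRingCat.of k))] [IsProper (X ↘ (Spec (CommRingCat.of k)))] (hdim : topologicalKrullDim X = 1)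
    (h0 : Module.finrank k (Coh.HH X (Coh.structureModule X) 0) = 1)
    [DCoh.HasRpush (X ↘ (Spec (CommRingCat.of k)))] (h : DCoh.RpushPreservesQCoh (X ↘ (Spec (CommRingCat.of k)))) [DCoh.HasShriek (X ↘ (Spec (CommRingCat.of k))) h]
    (OY : DCoh.DQCoh (Spec (CommRingCat.of k))) (hOY : Nonempty (OY.obj ≅ DCoh.inD (Spec (CommRingCat.of k)) (Coh.structureModule (Spec (CommRingCat.of k)))))
    (L : X.Modules) (hL : PicF.IsInvertible L) (hgg : Curv2.IsGloballyGenerated L) (hnt : IsEmpty (L ≅ Coh.structureModule X)) :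
    Subsingleton (Coh.HH X (CohB1.tensorMod (DCoh.dualizingMod (X ↘ (Spec (CommRingCat.of k))) h OY 1) L) 1) := by
  classical
  haveI := Groth.Agent.CurveCohLib.isNoetherian_of_proper (k := k) (X := X)
  obtain ⟨t, ht, hc⟩ := Groth.Agent.CurveDual.exists_dual hdim.le h OY hOY
  generalize DCoh.dualizingMod (X ↘ (Spec (CommRingCat.of k))) h OY 1 = ω at t ht hc ⊢
  have hsupp := Groth.Agent.CurveDual.support_eq_univ ht hc hdim h0
  have hwL : Coh.IsCoh (CohB1.tensorMod ω L) :=
    Groth.Agent.ParShLib.isCoh_tensorMod hc (Groth.Agent.CurveDeg.isCoh_of_isInvertible hL)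
  refine Groth.Agent.CurveDual.subsingleton_H1_of_hom ht hwL.1 fun φ0 => ?_
  suffices hall : ∀ φ : (DCoh.tensorBi.obj ω).obj L ⟶ ω, φ = 0 from hall φ0
  intro φ
  obtain ⟨ι, ts, hts⟩ := Groth.Agent.BlowPointH1.exists_generatedBy hgg
  refine Groth.Agent.S6538.hom_eq_zero_stalks φ fun x => ?_
  obtain ⟨e⟩ := Groth.Agent.H23.InvStalk.exists_stalk_equiv hL x
  obtain ⟨i, hi⟩ : ∃ i, IsUnit (e ((L.presheaf.germ ⊤ x trivial).hom (ts i))) := by
    by_contra hcon
    simp only [not_exists] at hcon
    have hle : Submodule.span (X.presheaf.stalk x)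
        (Set.range fun i => (L.presheaf.germ ⊤ x trivial).hom (ts i)) ≤
        Submodule.comap e.toLinearMap (IsLocalRing.maximalIdeal (X.presheaf.stalk x)) :=
      Submodule.span_le.2 (by rintro _ ⟨i, rfl⟩; exact hcon i)
    have h1 := hle (show e.symm 1 ∈ _ from (hts x).symm ▸ Submodule.mem_top)
    have h2 : e (e.symm 1) = 1 := e.apply_symm_apply 1
    rw [Submodule.mem_comap] at h1
    replace h1 : (1 : X.presheaf.stalk x) ∈ IsLocalRing.maximalIdeal (X.presheaf.stalk x) := h2 ▸ h1
    exact (Ideal.ne_top_iff_one _).1 (IsLocalRing.maximalIdeal.isMaximal (X.presheaf.stalk x)).ne_top h1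
  let s := Groth.Agent.InvX.ofSect (ts i)
  have hsx : Function.Surjective (Groth.Agent.TFOneX.sm s x) := fun l => by
    obtain ⟨o, ho⟩ : ∃ o, Groth.Agent.TFOneX.sm s x o = (L.presheaf.germ ⊤ x trivial).hom (ts i) :=
      ⟨(Coh.structureModule X).presheaf.germ ⊤ x trivial (1 : Γ(X, ⊤)),
        (DerSch.stalkFunctor_map_germ x s ⊤ trivial _).trans
          (congrArg _ (Groth.Agent.InvX.one_ofSect (ts i)))⟩
    obtain ⟨v, hv⟩ := hi
    refine ⟨(e l * (↑v⁻¹ : X.presheaf.stalk x)) • o, e.injective ?_⟩
    rw [LinearMap.map_smul, ho, LinearEquiv.map_smul, smul_eq_mul, mul_assoc, ← hv, Units.inv_mul, mul_one]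
  obtain ⟨u⟩ := Groth.Agent.H23.PicMul.unit ω
  let u' : (DCoh.tensorBi.obj ω).obj (Coh.structureModule X) ≅ ω := u
  obtain ⟨c, hcs⟩ := Groth.Agent.CurveDual.exists_smul_id ht hc hdim h0
    (u'.inv ≫ (DCoh.tensorBi.obj ω).map s ≫ φ)
  by_cases hc0 : c = 0
  · rw [hc0, zero_smul] at hcs
    have hz : (DCoh.tensorBi.obj ω).map s ≫ φ = 0 := (cancel_epi u'.inv).1 (by rw [← hcs, comp_zero])
    obtain ⟨e'⟩ := Groth.Agent.H23.InvStalk.exists_stalk_equiv
      (Groth.Agent.H23.InvStalk.isInvertible_structureModule (X := X)) x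
    intro a
    have hsur : Function.Surjective (Groth.Agent.TFOneX.sm ((DCoh.tensorBi.obj ω).map s) x) := by
      have hnat := Groth.Agent.KFlatLib.stalkTensorIso_naturality (x := x) (𝟙 ω) s
      rw [(DerSch.stalkFunctor X x).map_id, CategoryTheory.Functor.map_id, NatTrans.id_app,
        Category.id_comp, MonoidalCategory.id_tensorHom] at hnat
      intro b
      obtain ⟨tb, rfl⟩ := (Groth.Agent.KFlatLib.stalkTensorIso x ω L).toLinearEquiv.surjective b
      obtain ⟨ta, rfl⟩ := LinearMap.lTensor_surjective ((DerSch.stalkFunctor X x).obj ω) hsx tb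
      exact ⟨(Groth.Agent.KFlatLib.stalkTensorIso x ω (Coh.structureModule X)).toLinearEquiv ta,
        (congrArg (fun ψ => ψ.hom ta) hnat).symm⟩
    obtain ⟨w, rfl⟩ := hsur a
    rw [← Groth.Agent.TFOneX.sm_comp, hz, Groth.Agent.TFOneX.sm_zero]
  · exfalso
    have hall : ∀ y : X, Function.Surjective (Groth.Agent.TFOneX.sm s y) := fun y => by
      by_contra hy
      have hid : (c⁻¹ • u'.inv) ≫ (DCoh.tensorBi.obj ω).map s ≫ φ = 𝟙 ω := by
        rw [Linear.smul_comp, ← hcs, smul_smul, inv_mul_cancel₀ hc0, one_smul]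
      have htop : (⊤ : Submodule (X.presheaf.stalk y) ((DerSch.stalkFunctor X y).obj ω)) ≤
          IsLocalRing.maximalIdeal (X.presheaf.stalk y) • ⊤ := fun w _ => by
        have h2 := Groth.Agent.S6538.range_le hL s y hy (Groth.Agent.TFOneX.sm (c⁻¹ • u'.inv) y w)
        have h3 := Submodule.mem_map_of_mem (f := Groth.Agent.TFOneX.sm φ y) h2
        rw [Submodule.map_smul''] at h3
        rw [← Groth.Agent.TFOneX.sm_comp, ← Groth.Agent.TFOneX.sm_comp, hid, Groth.Agent.TFOneX.sm_id] at h3
        exact Submodule.smul_mono le_rfl le_top h3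
      haveI : Module.Finite (X.presheaf.stalk y) ((DerSch.stalkFunctor X y).obj ω) :=
        Groth.Agent.QCoh.finite_stalk_of_isFT hc.1 hc.2 y
      have hbot : (⊤ : Submodule (X.presheaf.stalk y) ((DerSch.stalkFunctor X y).obj ω)) = ⊥ :=
        Submodule.eq_bot_of_le_smul_of_le_jacobson_bot _ _ Module.Finite.fg_top htop
          (IsLocalRing.maximalIdeal_le_jacobson _)
      refine (show y ∈ CohB1.support ω from hsupp ▸ trivial) ?_
      exact subsingleton_of_forall_eq 0 fun w =>
        (Submodule.mem_bot _).1 (hbot.le (Submodule.mem_top (x := w)))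
    haveI : Epi s := ⟨fun a b hab => sub_eq_zero.1 (Groth.Agent.S6538.hom_eq_zero_stalks _ fun y v => by
      obtain ⟨o, rfl⟩ := hall y v
      rw [← Groth.Agent.TFOneX.sm_comp, Preadditive.comp_sub, hab, sub_self, Groth.Agent.TFOneX.sm_zero])⟩
    haveI := Groth.Agent.H28.PBExist.isIso_of_epi_line s
      (Groth.Agent.InvEnd.isFinLocFreeOfRank_one Groth.Agent.CurveDeg.isInvertible_structureModule)
      (Groth.Agent.InvEnd.isFinLocFreeOfRank_one hL)
    exact hnt.false (asIso s).symm


end Groth.Agent.S6538
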