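import Groth.Statements.S6540
import Groth.Agent.CurveCohLib.Nonspecial
-- import your own Groth.Agent.* helpers here

set_option autoImplicit false
universe u
open CategoryTheory CategoryTheory.Limits AlgebraicGeometry
open Curves

namespace Groth.Agent.S6540

/-- Let X be a proper curve over the field k (proper, integral, of dimension one) with H^0(X, O_X) = k
and genus 0. Then every invertible O_X-module of degree 0 is trivial, i.e. isomorphic to O_X. -/
theorem result (k : Type u) [Field k] (X : Scheme.{u}) [X.Over (Spec (CommRingCat.of k))]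
    [IsIntegral X] [IsProper (X ↘ (Spec (CommRingCat.of k)))] (hdim : topologicalKrullDim X = 1)
    (h0 : Module.finrank k (Coh.HH X (Coh.structureModule X) 0) = 1) (hg : Curv2.genus k X = 0)
    (L : X.Modules) (hL : PicF.IsInvertible L) (hdeg : Curv2.deg k X L 1 = 0) :
    Nonempty (L ≅ Coh.structureModule X) := by
  haveI := Groth.Agent.CurveCohLib.isNoetherian_of_proper (k := k) (X := X)
  have hO := Groth.Agent.CurveCohLib.Nonspecial.euler_structure k hdim h0
  have hh := Groth.Agent.CurveRR.euler_eq_h0_sub_h1 k hdim.le (Groth.Agent.CurveDeg.isCoh_of_isInvertible hL).1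
  have hdeg' := hdeg
  unfold Curv2.deg at hdeg'
  obtain ⟨s, hs⟩ := Groth.Agent.CurveRR.exists_hom_ne_zero (P := L) k (by push_cast at hdeg'; omega)
  obtain ⟨h1, h2⟩ := Groth.Agent.CurveDeg.deg_le_and_isIso k hdim.le
    Groth.Agent.CurveDeg.isInvertible_structureModule hL s hs
  rw [Groth.Agent.CurveDeg.deg_structureModule] at h1 h2
  haveI := h2 hdeg.symm
  exact ⟨(asIso s).symm⟩

end Groth.Agent.S6540
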