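import Groth.Statements.S6543
import Groth.Agent.CurveGor.Gor
import Groth.Agent.CurveGor.Existence
import Groth.Agent.CurveGor.Bridge
import Groth.Agent.CurveDual.Support
import Groth.Agent.CurveEmbed.Line
import Groth.Agent.Lib.CurveRR
import Groth.Agent.H23.PicInv

set_option autoImplicit false
universe u
open CategoryTheory CategoryTheory.Limits AlgebraicGeometry
open Curves

namespace Groth.Agent.S6543
set_option backward.isDefEq.respectTransparency false
set_option backward.isDefEq.respectTransparency.types false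
set_option linter.style.haveILetI false
set_option maxHeartbeats 1000000
attribute [local instance] HasDerivedCategory.standard
open Groth.Agent


/-- Let X be a proper curve over the field k (proper, integral, of dimension one) with H^0(X, O_X) = k,
genus 0 and Gorenstein local rings. If X has an invertible O_X-module of odd degree, then X is
isomorphic to P^1_k over k. -/
theorem result (k : Type u) [Field k] (X : Scheme.{u}) [X.Over (Spec (CommRingCat.of k))]
    [IsIntegral X] [IsProper (X ↘ (Spec (CommRingCat.of k)))] (hdim : topologicalKrullDim X = 1)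
    (h0 : Module.finrank k (Coh.HH X (Coh.structureModule X) 0) = 1) (hg : Curv2.genus k X = 0) (hgor : ∀ x : X, LocCoh.IsGorensteinLocalRing (X.presheaf.stalk x))
    (L : X.Modules) (hL : PicF.IsInvertible L) (hodd : Odd (Curv2.deg k X L 1)) :
    ∃ e : X ≅ CohB1.ProjSpace 1 k, e.hom ≫ CohB1.ProjSpace.toSpec 1 k = X ↘ (Spec (CommRingCat.of k)) := by
  haveI := CurveCohLib.isNoetherian_of_proper (k := k) (X := X)
  let f := X ↘ Spec (CommRingCat.of k)
  haveI : DCoh.HasRpush f := KFlatLib.hasRpush_scheme f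
  have h : DCoh.RpushPreservesQCoh f := fun K hK => S0998.result f K hK
  haveI : DCoh.HasShriek f h := S1766.result _ _ f h
  let Y := Spec (CommRingCat.of k)
  let OY : DCoh.DQCoh Y := ⟨DCoh.inD Y (Coh.structureModule Y), RelPC17.isQCohD_structure⟩
  obtain ⟨t, ht, -⟩ := CurveDual.exists_dual hdim.le h OY ⟨Iso.refl _⟩
  let ω := DCoh.dualizingMod f h OY 1
  have hΩ : PicF.IsInvertible ω := CurveGor.isInvertible_dualizing f h OY ⟨Iso.refl _⟩ hgor
    (CurveDual.support_eq_univ ht (CurveDual.isCoh_dualizingMod _ h OY ⟨Iso.refl _⟩ 1) hdim h0)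
  haveI := CurveCohLib.finite_HH (k := k) (QCoh.isCoh_structureModule' (X := X)) 1
  have h1 : Subsingleton (Coh.HH X (Coh.structureModule X) 1) := Module.finrank_zero_iff.1 hg
  have hd : Curv2.deg k X ω 1 = -2 := by
    rw [CurveGor.deg_dualizing hdim.le (CurveGor.notClosed_of_generic (k := k) hdim) ht hΩ,
      CurveRR.euler_eq_h0_sub_h1 k hdim.le QCoh.isQCoh_structureModule, h0,
      show Module.finrank k (Coh.HH X (Coh.structureModule X) 1) = 0 from hg]
    norm_num
  obtain ⟨m, hm⟩ := hodd
  have hpow : ∀ j : ℕ, ∀ M : X.Modules, PicF.IsInvertible M →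
      ∃ N : X.Modules, PicF.IsInvertible N ∧ Curv2.deg k X N 1 = j * Curv2.deg k X M 1 := by
    intro j
    induction j with
    | zero => exact fun M _ => ⟨_, CurveDeg.isInvertible_structureModule,
        by rw [CurveDeg.deg_structureModule]; simp⟩
    | succ j ih =>
      intro M hM
      obtain ⟨N, hN, hd⟩ := ih M hM
      refine ⟨_, InvX.isInvertible_tensorMod hN hM, ?_⟩
      refine (CurveRR.deg_tensor k hdim hN hM).trans ?_
      rw [hd]; push_cast; ring
  obtain ⟨Ω', hΩ', ⟨e⟩⟩ := H23.PicInv.exists_inverse hΩ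
  have hd' : Curv2.deg k X Ω' 1 = 2 := by
    have h1 := CurveRR.deg_tensor k hdim hΩ hΩ'
    have h2 : Curv2.deg k X ((DCoh.tensorBi.obj _).obj Ω') 1 = Curv2.deg k X (Coh.structureModule X) 1 :=
      CurveRR.deg_congr k e 1
    rw [CurveDeg.deg_structureModule] at h2
    have h3 : Curv2.deg k X _ 1 + Curv2.deg k X Ω' 1 = 0 := h1.symm.trans h2
    omega
  rcases le_total 0 m with hm0 | hm0
  · lift m to ℕ using hm0
    obtain ⟨N, hN, hNd⟩ := hpow m _ hΩ
    refine CurveEmbed.exists_iso_line k hdim h1 (InvX.isInvertible_tensorMod hL hN) ?_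
    refine (CurveRR.deg_tensor k hdim hL hN).trans ?_
    rw [hNd, hd, hm]; ring
  · obtain ⟨j, rfl⟩ : ∃ j : ℕ, m = -(j : ℤ) := ⟨(-m).toNat, by rw [Int.toNat_of_nonneg (by omega)]; ring⟩
    obtain ⟨N, hN, hNd⟩ := hpow j _ hΩ'
    refine CurveEmbed.exists_iso_line k hdim h1 (InvX.isInvertible_tensorMod hL hN) ?_
    refine (CurveRR.deg_tensor k hdim hL hN).trans ?_
    rw [hNd, hd', hm]; ring


end Groth.Agent.S6543
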