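import Groth.Statements.S6546
import Groth.Agent.PicCurve.TorsCard

set_option autoImplicit false
set_option linter.style.haveILetI false
set_option linter.unusedSectionVars false
set_option backward.isDefEq.respectTransparency false
set_option backward.isDefEq.respectTransparency.types false
set_option maxHeartbeats 1000000
set_option synthInstance.maxHeartbeats 400000
universe u
open CategoryTheory CategoryTheory.Limits AlgebraicGeometry
open Curves

namespace Groth.Agent.S6546

/-- Let k be an algebraically closed field of characteristic p > 0 and X a smooth proper curve over k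
(proper, smooth, integral, of dimension one) of genus g. Then there is an integer f with 0 ≤ f ≤ g
such that, for every m ≥ 1, exactly p^{mf} isomorphism classes of invertible O_X-modules M satisfy
M^{⊗p^m} ≅ O_X. (The published statement takes X projective and gives Pic(X)[p^m] ≅ (Z/p^mZ)^f; this
row takes X proper, the same for curves over a field, and states the numbers of classes, which for
all m together is equivalent.) -/
theorem result (k : Type u) [Field k] (X : Scheme.{u}) [X.Over (Spec (CommRingCat.of k))] [IsAlgClosed k]
    (p : ℕ) [Fact p.Prime] [CharP k p]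
    [IsIntegral X] [IsProper (X ↘ (Spec (CommRingCat.of k)))] [Smooth (X ↘ (Spec (CommRingCat.of k)))] (hdim : topologicalKrullDim X = 1) :
    ∃ f : ℕ, f ≤ Curv2.genus k X ∧ ∀ m : ℕ, 1 ≤ m →
      Nat.card {c : PicF.Cl (X) | ∃ M : Scheme.Modules (X), PicF.cl M = c ∧ PicF.IsInvertible M ∧ Nonempty (CohB1.tensorPow M (p ^ m) ≅ Coh.structureModule (X))} = p ^ (m * f) := by
  obtain ⟨σ, hσ, hc, hs⟩ := Groth.Agent.PicCurve.curve_of_isAlgClosed (X ↘ (Spec (CommRingCat.of k))) hdim
  haveI := hc
  haveI := hs
  obtain ⟨J, hG, hp', hgi, hcomm, hd, hcard⟩ :=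
    Groth.Agent.PicCurve.exists_tors_av (X ↘ (Spec (CommRingCat.of k))) σ hσ
  letI := hG
  haveI := hp'
  haveI := hgi
  haveI := hcomm
  obtain ⟨r, hr, hrm⟩ := Groth.Agent.PicCurve.exists_p_rank hd p
  exact ⟨r, hr, fun m _ => (hcard _ (pow_pos (Fact.out : p.Prime).pos m)).trans (hrm m)⟩

end Groth.Agent.S6546
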