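import Groth.Statements.S6548
import Groth.Agent.PicCurve.TorsField

set_option autoImplicit false
set_option linter.style.haveILetI false
set_option linter.unusedSectionVars false
set_option backward.isDefEq.respectTransparency false
set_option backward.isDefEq.respectTransparency.types false
set_option maxHeartbeats 1000000
set_option synthInstance.maxHeartbeats 400000
universe u
open CategoryTheory CategoryTheory.Limits AlgebraicGeometry
open Curves

namespace Groth.Agent.S6548

/-- Let k be a field, n a natural number invertible in k, and X a smooth proper curve over k (proper,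
smooth, integral, of dimension one) with H^0(X, O_X) = k and genus 1. Then over some finite
separable field extension k′ of k the base change X_{k′} acquires a point rational over k′ (a
section of X_{k′} → Spec k′) and has exactly n^2 isomorphism classes of invertible modules M with
M^{⊗n} ≅ O. (The published statement gives Pic(X_{k′})[n] ≅ (Z/nZ)^2; this row states the number of
classes, which is equivalent because pullback embeds Pic(X_{k′}) into the Picard group over an
algebraic closure.) -/
theorem result (k : Type u) [Field k] (X : Scheme.{u}) [X.Over (Spec (CommRingCat.of k))]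
    [IsIntegral X] [IsProper (X ↘ (Spec (CommRingCat.of k)))] [Smooth (X ↘ (Spec (CommRingCat.of k)))] (hdim : topologicalKrullDim X = 1)
    (h0 : Module.finrank k (Coh.HH X (Coh.structureModule X) 0) = 1) (hg : Curv2.genus k X = 1)
    (n : ℕ) (hn : IsUnit (n : k)) :
    ∃ (k' : Type u) (_ : Field k') (_ : Algebra k k'), FiniteDimensional k k' ∧ Algebra.IsSeparable k k' ∧
      (∃ x : Spec (CommRingCat.of k') ⟶ Curv2.bc k X k', x ≫ Curv2.bcSnd k X k' = 𝟙 _) ∧
      Nat.card {c : PicF.Cl (Curv2.bc k X k') | ∃ M : Scheme.Modules (Curv2.bc k X k'), PicF.cl M = c ∧ PicF.IsInvertible M ∧ Nonempty (CohB1.tensorPow M (n) ≅ Coh.structureModule (Curv2.bc k X k'))} = n ^ 2 := by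
  let f := X ↘ (Spec (CommRingCat.of k))
  haveI : GeometricallyConnected f := by
    refine Groth.Agent.SteinConn.geometricallyConnected_of_bijective_app f fun W _ => ?_
    haveI : Subsingleton ↥(Spec (CommRingCat.of k)) := inferInstanceAs (Subsingleton (PrimeSpectrum k))
    by_cases hW : (IsLocalRing.closedPoint k : PrimeSpectrum k) ∈ W
    · obtain rfl : W = ⊤ := top_le_iff.1 fun x _ =>
        (Subsingleton.elim (α := ↥(Spec (CommRingCat.of k))) (IsLocalRing.closedPoint k : PrimeSpectrum k) x) ▸ hW
      exact Groth.Agent.H23.AlbFormal.bijective_appTop_of_finrank X h0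
    · obtain rfl : W = ⊥ := le_bot_iff.1 fun x hx =>
        (hW ((Subsingleton.elim (α := ↥(Spec (CommRingCat.of k))) x (IsLocalRing.closedPoint k : PrimeSpectrum k)) ▸ hx)).elim
      haveI : Subsingleton Γ(Spec (CommRingCat.of k), ⊥) := inferInstance
      haveI : Subsingleton Γ(X, f ⁻¹ᵁ ⊥) := by
        rw [Scheme.Hom.preimage_bot]
        infer_instance
      exact ⟨fun a b _ => Subsingleton.elim a b, fun b => ⟨0, Subsingleton.elim _ b⟩⟩
  haveI : SmoothOfRelativeDimension 1 f :=
    Groth.Agent.CurveFin.smoothOfRelativeDimension_of_dim f (by exact_mod_cast hdim)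
  obtain ⟨k1, _, _, hfin1, hsep1, t, ht, -⟩ :=
    Groth.Agent.SmoothSecLib.exists_separable_point f ⊤ (x := genericPoint X) trivial
  let h1 : Spec (CommRingCat.of k1) ⟶ Spec (CommRingCat.of k) := Spec.map (CommRingCat.ofHom (algebraMap k k1))
  let f1 := pullback.snd f h1
  let σ1 : Spec (CommRingCat.of k1) ⟶ pullback f h1 := pullback.lift t (𝟙 _) (by rw [ht, Category.id_comp])
  have hσ1 : σ1 ≫ f1 = 𝟙 _ := pullback.lift_snd _ _ _
  have hgen : (letI : (pullback f h1).Over (Spec (CommRingCat.of k1)) := ⟨f1⟩; Curv2.genus k1 (pullback f h1)) = 1 := by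
    letI : (pullback f h1).Over (Spec (CommRingCat.of k1)) := ⟨f1⟩
    haveI : CompactSpace X := QuasiCompact.compactSpace_of_compactSpace f
    haveI : X.IsSeparated := ⟨by rw [← Limits.terminal.comp_from f]; infer_instance⟩
    exact ((Groth.Agent.CurveBC.finrank_hh_unit (X := X) k k1 (pullback.fst f h1)
      (IsPullback.of_hasPullback f h1) 1)).trans hg
  have hn1 : (n : k1) ≠ 0 := fun h => hn.ne_zero ((algebraMap k k1).injective (by rw [map_natCast, map_zero]; exact h))
  obtain ⟨L, hLf, hLs, hL⟩ := Groth.Agent.PicCurve.exists_full_pic_torsion f1 σ1 hσ1 hgen n hn1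
  haveI : IsScalarTower k k1 L := inferInstance
  haveI : FiniteDimensional k k1 := hfin1
  haveI : FiniteDimensional k L := Module.Finite.trans k1 (L : Type u)
  haveI : Algebra.IsSeparable k L := Algebra.IsSeparable.trans k k1 L
  let hL1 : Spec (CommRingCat.of L) ⟶ Spec (CommRingCat.of k1) := Spec.map (CommRingCat.ofHom (algebraMap k1 L))
  have hcomp : hL1 ≫ h1 = Spec.map (CommRingCat.ofHom (algebraMap k L)) := by
    rw [← Spec.map_comp, ← CommRingCat.ofHom_comp, ← IsScalarTower.algebraMap_eq]
  refine ⟨L, inferInstance, inferInstance, inferInstance, inferInstance,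
    ⟨pullback.lift (hL1 ≫ t) (𝟙 _) (by rw [Category.assoc, ht, hcomp, Category.id_comp]), pullback.lift_snd _ _ _⟩, ?_⟩
  rw [Groth.Agent.PicCurve.tors_set_eq', ← hL]
  exact Groth.Agent.PicCurve.card_tors_iso
    ((pullbackLeftPullbackSndIso f h1 hL1).trans (pullback.congrHom rfl hcomp)) n

end Groth.Agent.S6548
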