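import Groth.Statements.S6551
import Groth.Agent.NodeFam.NodePullback
import Groth.Agent.S2075
-- import your own Groth.Agent.* helpers here

set_option autoImplicit false
universe u
open CategoryTheory AlgebraicGeometry
open Curves

set_option backward.isDefEq.respectTransparency false
set_option backward.isDefEq.respectTransparency.types false
set_option linter.style.haveILetI false

namespace Groth.Agent.S6551

open CategoryTheory.Limits (pullback)

/-- Let S = lim S_i be the limit of a cofiltered system of schemes with affine transition morphisms, i₀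
an index with S_{i₀} quasi-compact and quasi-separated, and f₀ : X₀ → Y₀ a morphism of quasi-compact
quasi-separated schemes over S_{i₀} which is locally of finite presentation. Write f : X → Y for the
pullback of f₀ along S → S_{i₀}. Assuming f to be at-worst-nodal, with relative dimension 1, there
exists an index i mapping to i₀ for which the pullback f_i : X_i → Y_i of f₀ to S_i is likewise
at-worst-nodal of relative dimension 1. -/
theorem result {I : Type u} [SmallCategory I] [IsCofiltered I]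
    (D : I ⥤ Scheme.{u}) (c : Limits.Cone D) (hc : Limits.IsLimit c)
    [∀ (i j : I) (f : i ⟶ j), IsAffineHom (D.map f)] (i₀ : I) [CompactSpace (D.obj i₀)]
    [QuasiSeparatedSpace (D.obj i₀)] {X₀ Y₀ : Scheme.{u}} (f₀ : X₀ ⟶ Y₀) (g₀ : Y₀ ⟶ D.obj i₀)
    [CompactSpace X₀] [QuasiSeparatedSpace X₀] [CompactSpace Y₀] [QuasiSeparatedSpace Y₀]
    {X Y : Scheme.{u}} (f : X ⟶ Y) (g : Y ⟶ c.pt) (qY : Y ⟶ Y₀) (qX : X ⟶ X₀)
    (hY : IsPullback qY g g₀ (c.π.app i₀)) (hX : IsPullback qX f f₀ qY) [LocallyOfFinitePresentation f₀]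
    (hf : Curv2.IsNodalFamily f) :
    ∃ (i : I) (φ : i ⟶ i₀) (Xi Yi : Scheme.{u}) (fi : Xi ⟶ Yi) (gi : Yi ⟶ D.obj i) (pY : Yi ⟶ Y₀)
      (pX : Xi ⟶ X₀), IsPullback pY gi g₀ (D.map φ) ∧ IsPullback pX fi f₀ pY ∧ Curv2.IsNodalFamily fi := by
  haveI : Flat f := ((NodeFam.isNodalFamily_iff f).1 hf).1
  haveI : LocallyOfFinitePresentation f := MorphismProperty.of_isPullback hX inferInstance
  obtain ⟨i, φ, Xi, Yi, fi, gi, pY, pX, hYi, hXi, hflat⟩ :=
    S2075.result D c hc i₀ f₀ g₀ f g qY qX hY hX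
  haveI := hflat
  haveI : LocallyOfFinitePresentation fi := MorphismProperty.of_isPullback hXi inferInstance
  haveI : IsAffineHom pY := MorphismProperty.of_isPullback hYi.flip (inferInstanceAs (IsAffineHom (D.map φ)))
  haveI : IsAffineHom pX := MorphismProperty.of_isPullback hXi.flip (inferInstance : IsAffineHom pY)
  haveI : CompactSpace Xi := QuasiCompact.compactSpace_of_compactSpace pX
  let qYi : Y ⟶ Yi := hYi.lift qY (g ≫ c.π.app i) (by rw [Category.assoc, c.w]; exact hY.w)
  have hqY : IsPullback qYi g gi (c.π.app i) := by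
    refine IsPullback.of_right ?_ (hYi.lift_snd _ _ _) hYi
    rw [hYi.lift_fst, c.w]; exact hY
  let qXi : X ⟶ Xi := hXi.lift qX (f ≫ qYi) (by rw [Category.assoc, hYi.lift_fst]; exact hX.w)
  have hqX : IsPullback qXi f fi qYi := by
    refine IsPullback.of_right ?_ (hXi.lift_snd _ _ _) hXi
    rw [hXi.lift_fst, hYi.lift_fst]; exact hX
  have hXX := hqX.paste_vert hqY
  let G : Xi.Opens := ⟨{x | NodeFam.FamGood fi x}, NodeFam.isOpen_famGood fi⟩
  haveI : ∀ {j k : Over i} (a : j ⟶ k), IsAffineHom ((MorLib.BC.diag D (fi ≫ gi)).map a) := fun a => by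
    haveI : ∀ {i j : I} (f : i ⟶ j), IsAffineHom (D.map f) := fun {i j} f => inferInstance
    exact MorLib.BC.isAffineHom_map D (fi ≫ gi) a
  haveI : ∀ j : Over i, CompactSpace ((MorLib.BC.diag D (fi ≫ gi)).obj j) := fun j => by
    haveI : ∀ {i j : I} (f : i ⟶ j), IsAffineHom (D.map f) := fun {i j} f => inferInstance
    exact MorLib.BC.compactSpace_obj D (fi ≫ gi) j
  let T : Over i := Over.mk (𝟙 i)
  obtain ⟨j, a, hja⟩ := exists_map_eq_top (MorLib.BC.diag D (fi ≫ gi)) (MorLib.BC.cone D (fi ≫ gi) hXX)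
    (MorLib.BC.isLimitCone D (fi ≫ gi) hXX hc) (i := T)
    (pullback.fst (fi ≫ gi) (D.map (𝟙 i)) ⁻¹ᵁ G) (by
      refine top_le_iff.1 fun x _ => ?_
      have key : pullback.fst (fi ≫ gi) (D.map (𝟙 i)) (MorLib.BC.proj D (fi ≫ gi) hXX T x) = qXi x :=
        congrArg (fun h : X ⟶ Xi => h x) (MorLib.BC.proj_fst D (fi ≫ gi) hXX T)
      refine (congrArg (NodeFam.FamGood fi) key).mpr ?_
      rw [← NodeFam.famGood_iff_of_isPullback fi hqX]
      exact (NodeFam.isNodalFamily_iff_forall f).1 hf x)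
  have hgood : ∀ x, NodeFam.FamGood fi (pullback.fst (fi ≫ gi) (D.map j.hom) x) := fun x => by
    have hx : x ∈ (MorLib.BC.diag D (fi ≫ gi)).map a ⁻¹ᵁ (pullback.fst (fi ≫ gi) (D.map (𝟙 i)) ⁻¹ᵁ G) :=
      hja.symm ▸ trivial
    have hx' : NodeFam.FamGood fi (pullback.fst (fi ≫ gi) (D.map (𝟙 i))
        ((MorLib.BC.diag D (fi ≫ gi)).map a x)) := hx
    exact (congrArg (NodeFam.FamGood fi)
      (congrArg (fun h : pullback (fi ≫ gi) (D.map j.hom) ⟶ Xi => h x) (MorLib.BC.map_fst D (fi ≫ gi) a))).mp hx'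
  let fj : pullback (fi ≫ gi) (D.map j.hom) ⟶ pullback gi (D.map j.hom) :=
    pullback.map _ _ _ _ fi (𝟙 _) (𝟙 _) (by simp) (by simp)
  have hfj : IsPullback (pullback.fst (fi ≫ gi) (D.map j.hom)) fj fi (pullback.fst gi (D.map j.hom)) :=
    IsPullback.of_bot (by simpa [fj] using IsPullback.of_hasPullback (fi ≫ gi) (D.map j.hom))
      (by simp [fj]) (IsPullback.of_hasPullback gi (D.map j.hom))
  haveI : LocallyOfFinitePresentation fj := MorphismProperty.of_isPullback hfj inferInstance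
  haveI : Flat fj := MorphismProperty.of_isPullback hfj inferInstance
  refine ⟨j.left, j.hom ≫ φ, _, _, fj, pullback.snd gi (D.map j.hom), pullback.fst gi (D.map j.hom) ≫ pY,
    pullback.fst (fi ≫ gi) (D.map j.hom) ≫ pX, ?_, hfj.paste_horiz hXi, ?_⟩
  · rw [D.map_comp]
    exact (IsPullback.of_hasPullback gi (D.map j.hom)).paste_horiz hYi
  · exact (NodeFam.isNodalFamily_iff_forall fj).2 fun x => (NodeFam.famGood_iff_of_isPullback fi hfj x).2 (hgood x)


end Groth.Agent.S6551
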