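import Groth.Statements.S6552
import Groth.Agent.NodeFam.Node

set_option autoImplicit false
universe u
open CategoryTheory CategoryTheory.Limits AlgebraicGeometry
open Curves

namespace Groth.Agent.S6552

/-- Let k be a field, X a scheme locally of finite type over k of dimension 1, π : Y → X an étale
morphism, and y ∈ Y a point with image x. Then x is a closed point of X which is a node if and only
if y is a closed point of Y which is a node (Y being a k-scheme through π). -/
theorem result (k : Type u) [Field k] (X : Scheme.{u}) [X.Over (Spec (CommRingCat.of k))] [LocallyOfFiniteType (X ↘ (Spec (CommRingCat.of k)))] (hdim : topologicalKrullDim X = 1)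
    {Y : Scheme.{u}} (π : Y ⟶ X) [Etale π] (y : Y) :
    Curv2.IsNode k X (π y) ↔ @Curv2.IsNode k _ Y ⟨π ≫ (X ↘ (Spec (CommRingCat.of k)))⟩ y := by
  letI : Y.Over (Spec (CommRingCat.of k)) := ⟨π ≫ (X ↘ Spec (CommRingCat.of k))⟩
  rw [NodeFam.isNode_iff, NodeFam.isNode_iff]
  exact NodeFam.nodeVia_iff_of_etale (AlgebraicClosure k) π _ _ rfl y

end Groth.Agent.S6552
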