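import Groth.Statements.S6554
import Groth.Agent.S9566
import Groth.Agent.StalkLoc7.Basic
import Groth.Agent.Lib.CurveBundle
import Mathlib.RingTheory.Finiteness.Basic
import Mathlib.FieldTheory.Separable

set_option autoImplicit false
universe u
open CategoryTheory CategoryTheory.Limits AlgebraicGeometry
open Curves

namespace Groth.Agent.S6554

theorem finite_sep_iff {A₁ B₁ A₂ B₂ : Type u} [Field A₁] [Field B₁] [Field A₂] [Field B₂]
    (f : A₁ →+* B₁) (g : A₂ →+* B₂) (eA : A₁ ≃+* A₂) (eB : B₁ ≃+* B₂)
    (h : g.comp eA.toRingHom = eB.toRingHom.comp f) :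
    (letI := f.toAlgebra; Module.Finite A₁ B₁ ∧ Algebra.IsSeparable A₁ B₁) ↔
      (letI := g.toAlgebra; Module.Finite A₂ B₂ ∧ Algebra.IsSeparable A₂ B₂) := by
  refine and_congr ?_ ?_
  · change f.Finite ↔ g.Finite
    constructor
    · intro hf
      have : g = (eB.toRingHom.comp f).comp eA.symm.toRingHom := by
        rw [← h, RingHom.comp_assoc]; ext; simp
      rw [this]
      exact ((RingHom.Finite.of_surjective _ eB.surjective).comp hf).comp (RingHom.Finite.of_surjective _ eA.symm.surjective)
    · intro hg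
      have : f = eB.symm.toRingHom.comp (g.comp eA.toRingHom) := by
        rw [h, ← RingHom.comp_assoc]; ext; simp
      rw [this]
      exact (RingHom.Finite.of_surjective _ eB.symm.surjective).comp (hg.comp (RingHom.Finite.of_surjective _ eA.surjective))
  · let _ := f.toAlgebra
    let _ := g.toAlgebra
    exact Algebra.IsSeparable.iff_of_equiv_equiv eA eB h



/-- (3) ⇔ (4) ⇔ (5): let k be a field and f : X → Y a morphism over k of smooth curves over k (integral,
separated, of finite type and smooth over k, of dimension one) which is nonconstant: f(ξ_X) = ξ_Y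
for the generic points ξ_X of X and ξ_Y of Y (hypothesis e), so that the function field k(Y) maps
into k(X). Then: some nonempty open U ⊆ X has f|_U unramified if and only if some nonempty open U ⊆
X has f|_U étale; and the latter holds if and only if k(X)/k(Y) is a finite separable extension.
(The published statement also lists two further equivalent conditions, that df : f^*Ω_{Y/k} →
Ω_{X/k} is nonzero and that Ω_{X/Y} is supported on a proper closed subset; this row omits them. For
a constant f every condition stated here fails, so assuming f nonconstant loses nothing.) -/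
theorem result (k : Type u) [Field k]
    (X Y : Scheme.{u}) [X.Over (Spec (CommRingCat.of k))] [Y.Over (Spec (CommRingCat.of k))]
    [IsIntegral X] [IsSeparated (X ↘ (Spec (CommRingCat.of k)))] [LocallyOfFiniteType (X ↘ (Spec (CommRingCat.of k)))] [QuasiCompact (X ↘ (Spec (CommRingCat.of k)))] (hdX : topologicalKrullDim X = 1) [Smooth (X ↘ (Spec (CommRingCat.of k)))]
    [IsIntegral Y] [IsSeparated (Y ↘ (Spec (CommRingCat.of k)))] [LocallyOfFiniteType (Y ↘ (Spec (CommRingCat.of k)))] [QuasiCompact (Y ↘ (Spec (CommRingCat.of k)))] (hdY : topologicalKrullDim Y = 1) [Smooth (Y ↘ (Spec (CommRingCat.of k)))]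
    (f : X ⟶ Y) (hf : f ≫ (Y ↘ (Spec (CommRingCat.of k))) = X ↘ (Spec (CommRingCat.of k))) (e : f (genericPoint X) = genericPoint Y) :
    letI := ((Y.presheaf.stalkSpecializes (specializes_of_eq e) ≫ f.stalkMap (genericPoint X)).hom).toAlgebra
    ((∃ U : X.Opens, (U : Set X).Nonempty ∧ FormallyUnramified (U.ι ≫ f)) ↔
      (∃ U : X.Opens, (U : Set X).Nonempty ∧ Etale (U.ι ≫ f))) ∧
    ((∃ U : X.Opens, (U : Set X).Nonempty ∧ Etale (U.ι ≫ f)) ↔
      (FiniteDimensional Y.functionField X.functionField ∧ Algebra.IsSeparable Y.functionField X.functionField)) := by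
  set ξ := genericPoint X
  haveI : LocallyOfFiniteType f := by
    haveI : LocallyOfFiniteType (f ≫ (Y ↘ Spec (CommRingCat.of k))) := hf ▸ inferInstance
    exact locallyOfFiniteType_of_comp f (Y ↘ Spec (CommRingCat.of k))
  haveI : IsLocallyNoetherian Y := LocallyOfFiniteType.isLocallyNoetherian (Y ↘ Spec (CommRingCat.of k))
  haveI hA : IsIso (Y.presheaf.stalkSpecializes (specializes_of_eq e)) :=
    (Y.presheaf.stalkCongr (.of_eq e.symm)).isIso_hom
  have hX : IsField (X.presheaf.stalk ξ) := Groth.Agent.CurveBundle.isField_stalk_generic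
  have hY : IsField (Y.presheaf.stalk (f.base ξ)) :=
    (asIso (Y.presheaf.stalkSpecializes (specializes_of_eq e))).commRingCatIsoToRingEquiv.symm.toMulEquiv.isField
      Groth.Agent.CurveBundle.isField_stalk_generic
  have hmem : ∀ U : X.Opens, (U : Set X).Nonempty → ξ ∈ U := fun U hU =>
    (genericPoint_spec X).mem_open_set_iff U.isOpen |>.2 (by simpa using hU)
  have hflat : (f.stalkMap ξ).hom.Flat := by
    letI := hY.toField
    algebraize [(f.stalkMap ξ).hom]
    exact (inferInstance : Module.Flat (Y.presheaf.stalk (f.base ξ)) (X.presheaf.stalk ξ))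
  have hEt : (∃ U : X.Opens, ξ ∈ U ∧ Etale (U.ι ≫ f)) ↔
      (∃ U : X.Opens, (U : Set X).Nonempty ∧ Etale (U.ι ≫ f)) :=
    ⟨fun ⟨U, h, h'⟩ => ⟨U, ⟨ξ, h⟩, h'⟩, fun ⟨U, h, h'⟩ => ⟨U, hmem U h, h'⟩⟩
  have hres := Groth.Agent.S9566.result f ξ
  have hFU := Groth.Agent.StalkLoc7.stalkMap_formallyUnramified_iff f ξ
  constructor
  · refine ⟨fun ⟨U, hU, hU'⟩ => hEt.1 (hres.2 ⟨hflat, hFU.1 ?_⟩), fun ⟨U, hU, hU'⟩ => ⟨U, hU, inferInstance⟩⟩
    exact (Groth.Agent.StalkLoc7.stalkMap_openImmersion_comp f U ⟨ξ, hmem U hU⟩).mpr (FormallyUnramified.stalkMap _ _)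
  · rw [← hEt, hres, and_iff_right hflat]
    have hm : (IsLocalRing.maximalIdeal (Y.presheaf.stalk (f.base ξ))).map (f.stalkMap ξ).hom =
        IsLocalRing.maximalIdeal (X.presheaf.stalk ξ) := by
      rw [IsLocalRing.isField_iff_maximalIdeal_eq.1 hX, IsLocalRing.isField_iff_maximalIdeal_eq.1 hY, Ideal.map_bot]
    rw [and_iff_right hm]
    have hbY : Function.Bijective (Y.residue (f.base ξ)).hom := by
      refine ⟨?_, Y.residue_surjective _⟩
      letI := hY.toField
      exact RingHom.injective _
    have hbX : Function.Bijective (X.residue ξ).hom := by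
      refine ⟨?_, X.residue_surjective _⟩
      letI := hX.toField
      exact RingHom.injective _
    refine (finite_sep_iff (Y.presheaf.stalkSpecializes (specializes_of_eq e) ≫ f.stalkMap ξ).hom (f.residueFieldMap ξ).hom
      ((asIso (Y.presheaf.stalkSpecializes (specializes_of_eq e))).commRingCatIsoToRingEquiv.trans (RingEquiv.ofBijective _ hbY))
      (RingEquiv.ofBijective _ hbX) ?_).symm
    refine RingHom.ext fun a => ?_
    exact ConcreteCategory.congr_hom (Scheme.residue_residueFieldMap f ξ) ((Y.presheaf.stalkSpecializes (specializes_of_eq e)).hom a)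

end Groth.Agent.S6554
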