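import Groth.Statements.S6556
import Groth.Agent.InsepPoint.Algebra
import Groth.Agent.CurveTwoBranch.Basic
import Groth.Agent.GeomConn5.Point

set_option autoImplicit false
universe u
open CategoryTheory CategoryTheory.Limits AlgebraicGeometry
attribute [local instance] Curv2.resAlgebra
open Curves

namespace Groth.Agent.S6556
open Groth.Agent Groth.Agent.H23.FiniteFibreSum
open TensorProduct
set_option maxHeartbeats 1000000
set_option backward.isDefEq.respectTransparency false
set_option backward.isDefEq.respectTransparency.types false
set_option linter.style.haveILetI false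


/-- Let X be a smooth curve over the field k (integral, separated, of finite type and smooth over k, of
dimension one), k̄ an algebraic closure of k, x̄ ∈ X_{k̄} a closed point and x ∈ X its image. Then
the ramification index of the extension of discrete valuation rings O_{X,x} → O_{X_{k̄}, x̄} (the
length of O_{X_{k̄},x̄} modulo the ideal generated by the maximal ideal of O_{X,x}) equals the
inseparable degree [κ(x) : k]_i. -/
theorem result (k : Type u) [Field k] (X : Scheme.{u}) [X.Over (Spec (CommRingCat.of k))]
    [IsIntegral X] [IsSeparated (X ↘ (Spec (CommRingCat.of k)))] [LocallyOfFiniteType (X ↘ (Spec (CommRingCat.of k)))] [QuasiCompact (X ↘ (Spec (CommRingCat.of k)))] (hdX : topologicalKrullDim X = 1) [Smooth (X ↘ (Spec (CommRingCat.of k)))]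
    (xb : Curv2.bc k X (AlgebraicClosure k)) (hxb : IsClosed ({xb} : Set (Curv2.bc k X (AlgebraicClosure k)))) :
    letI := ((Curv2.bcFst k X (AlgebraicClosure k)).stalkMap xb).hom.toAlgebra
    Ideal.ramificationIdx (IsLocalRing.maximalIdeal ((Curv2.bc k X (AlgebraicClosure k)).presheaf.stalk xb))
        (X.presheaf.stalk (Curv2.bcFst k X (AlgebraicClosure k) xb)) =
      Field.finInsepDegree k (X.residueField (Curv2.bcFst k X (AlgebraicClosure k) xb)) := by
  let K := AlgebraicClosure k
  let p := Curv2.bcFst k X K
  haveI : IsIntegralHom (Spec.map (CommRingCat.ofHom (algebraMap k K))) :=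
    IsIntegralHom.SpecMap_iff.2 (algebraMap_isIntegral_iff.2 inferInstance)
  haveI : IsIntegralHom p := MorphismProperty.pullback_fst _ _ inferInstance
  have hx : IsClosed ({p xb} : Set X) := by
    rw [← Set.image_singleton]; exact p.isClosedMap _ hxb
  haveI : Module.Finite k (X.residueField (p xb)) :=
    NodeFam.finite_residueField_of_isClosed (X ↘ Spec (CommRingCat.of k)) hx fun _ => rfl
  refine (CurveTwoBranch.ram_eq_fibreLen p xb).trans ?_
  obtain ⟨x, hxe⟩ : ∃ x, p xb = x := ⟨_, rfl⟩
  have hgoal : Field.finInsepDegree k (X.residueField (p xb)) = Field.finInsepDegree k (X.residueField x) := by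
    subst hxe; rfl
  refine Eq.trans ?_ hgoal.symm
  haveI : Module.Finite k (X.residueField x) := by subst hxe; infer_instance
  obtain ⟨w, hw⟩ : xb ∈ Set.range (p.fiberι x) := by rw [Scheme.Hom.range_fiberι]; exact hxe
  subst hw
  rw [fibreLen_fiberι]
  have hr : X.fromSpecResidueField x ≫ (X ↘ Spec (CommRingCat.of k)) =
      Spec.map (CommRingCat.ofHom (algebraMap k (X.residueField x))) :=
    GeomConn5.spec_resMap x
  have hW : IsPullback (p.fiberι x) (p.fiberToSpecResidueField x) p (X.fromSpecResidueField x) :=
    IsPullback.of_hasPullback _ _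
  have hbig := hW.paste_horiz (IsPullback.of_hasPullback (X ↘ Spec (CommRingCat.of k))
    (Spec.map (CommRingCat.ofHom (algebraMap k K)))).flip
  rw [hr] at hbig
  let e := hbig.isoPullback ≪≫ pullbackSpecIso k K (X.residueField x)
  let v : PrimeSpectrum (K ⊗[k] X.residueField x) := e.hom w
  have h1 := length_self_of_bijective _ (ConcreteCategory.bijective_of_isIso (e.hom.stalkMap w))
  have h2 := length_self_of_bijective (Spec.stalkIso (CommRingCat.of (K ⊗[k] X.residueField x)) v).hom.hom
    (ConcreteCategory.bijective_of_isIso _)
  rw [← h1]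
  exact (congrArg ENat.toNat h2).trans (InsepPoint.length_localization k K (X.residueField x) v.asIdeal)


end Groth.Agent.S6556
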