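import Groth.Statements.S6557
import Groth.Agent.S0220
import Groth.Agent.S0115

set_option autoImplicit false
universe u
open CategoryTheory CategoryTheory.Limits AlgebraicGeometry
open Curves

namespace Groth.Agent.S6557

/-- Let k be a field and f : X → Y a surjective morphism over k of curves over k (integral, separated,
of finite type over k, of dimension one). If X is smooth over k and every local ring of Y is an
integrally closed domain, then Y is also smooth over k. -/
theorem result (k : Type u) [Field k]
    (X Y : Scheme.{u}) [X.Over (Spec (CommRingCat.of k))] [Y.Over (Spec (CommRingCat.of k))]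
    [IsIntegral X] [IsSeparated (X ↘ (Spec (CommRingCat.of k)))] [LocallyOfFiniteType (X ↘ (Spec (CommRingCat.of k)))] [QuasiCompact (X ↘ (Spec (CommRingCat.of k)))] (hdX : topologicalKrullDim X = 1) [IsIntegral Y] [IsSeparated (Y ↘ (Spec (CommRingCat.of k)))] [LocallyOfFiniteType (Y ↘ (Spec (CommRingCat.of k)))] [QuasiCompact (Y ↘ (Spec (CommRingCat.of k)))] (hdY : topologicalKrullDim Y = 1)
    (f : X ⟶ Y) (hf : f ≫ (Y ↘ (Spec (CommRingCat.of k))) = X ↘ (Spec (CommRingCat.of k))) [Surjective f]
    [Smooth (X ↘ (Spec (CommRingCat.of k)))] (hY : Pi1.IsNormalScheme Y) :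
    Smooth (Y ↘ (Spec (CommRingCat.of k))) := by
  haveI := LocallyOfFiniteType.isLocallyNoetherian (Y ↘ Spec (CommRingCat.of k))
  have hnc : (Set.range f.base).Nontrivial := by
    rw [f.surjective.range_eq]
    by_contra h
    rw [Set.not_nontrivial_iff, Set.subsingleton_univ_iff] at h
    haveI : DiscreteTopology Y := inferInstance
    have h0 : topologicalKrullDim Y ≤ 0 := (topologicalKrullDim_zero_of_discreteTopology Y)
    rw [hdY] at h0
    exact absurd h0 (by decide)
  haveI : Flat f := S0220.result k X Y (X ↘ Spec (CommRingCat.of k)) (Y ↘ Spec (CommRingCat.of k)) hdX hdY hY f hf hnc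
  haveI : LocallyOfFiniteType (f ≫ (Y ↘ Spec (CommRingCat.of k))) := by rw [hf]; infer_instance
  haveI : LocallyOfFiniteType f := locallyOfFiniteType_of_comp f (Y ↘ Spec (CommRingCat.of k))
  haveI : LocallyOfFinitePresentation f := LocallyOfFinitePresentation.iff_locallyOfFiniteType.2 inferInstance
  haveI : Smooth (f ≫ (Y ↘ Spec (CommRingCat.of k))) := by rw [hf]; infer_instance
  exact S0115.result f _

end Groth.Agent.S6557
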