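import Groth.Statements.S6559
import Groth.Agent.H23.RatExtend

set_option autoImplicit false
universe u
open CategoryTheory CategoryTheory.Limits AlgebraicGeometry
open Curves

namespace Groth.Agent.S6559

/-- Let k be a field, X a curve over k (integral, separated and of finite type over k, of dimension
one), Y a proper variety over k (integral, proper over k), U ⊆ X a nonempty open and f : U → Y a
morphism over k. If the local ring of X at a closed point x is a discrete valuation ring, then f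
extends to a k-morphism U' → Y on some open U' ⊇ U of X containing x. -/
theorem result (k : Type u) [Field k]
    (X Y : Scheme.{u}) [X.Over (Spec (CommRingCat.of k))] [Y.Over (Spec (CommRingCat.of k))]
    [IsIntegral X] [IsSeparated (X ↘ (Spec (CommRingCat.of k)))] [LocallyOfFiniteType (X ↘ (Spec (CommRingCat.of k)))] [QuasiCompact (X ↘ (Spec (CommRingCat.of k)))] (hdX : topologicalKrullDim X = 1)
    [IsIntegral Y] [IsProper (Y ↘ (Spec (CommRingCat.of k)))]
    (U : X.Opens) (hU : (U : Set X).Nonempty) (f : (U : Scheme.{u}) ⟶ Y) (hf : f ≫ (Y ↘ (Spec (CommRingCat.of k))) = U.ι ≫ (X ↘ (Spec (CommRingCat.of k))))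
    (x : X) (hx : IsClosed ({x} : Set X)) (hdvr : IsDiscreteValuationRing (X.presheaf.stalk x)) :
    ∃ (U' : X.Opens) (hUU' : U ≤ U') (f' : (U' : Scheme.{u}) ⟶ Y), x ∈ U' ∧
      f' ≫ (Y ↘ (Spec (CommRingCat.of k))) = U'.ι ≫ (X ↘ (Spec (CommRingCat.of k))) ∧ X.homOfLE hUU' ≫ f' = f := by
  open Groth.Agent.H23 in
  have hη : genericPoint X ∈ U := RatExtend.genericPoint_mem U hU.choose_spec
  let φ₀ : Spec (X.presheaf.stalk (genericPoint X)) ⟶ Y := U.fromSpecStalkOfMem (genericPoint X) hη ≫ f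
  have h₀ : φ₀ ≫ (Y ↘ Spec (CommRingCat.of k)) = X.fromSpecStalk _ ≫ (X ↘ Spec (CommRingCat.of k)) := by
    rw [Category.assoc, hf, Scheme.Opens.fromSpecStalkOfMem_ι_assoc]
  haveI : Y.IsSeparated := by
    constructor
    rw [← terminal.comp_from (Y ↘ Spec (CommRingCat.of k))]
    infer_instance
  obtain ⟨W, hg, H, hTW, hH, hH0⟩ := Groth.Agent.H23.RatExtend.extend (X ↘ Spec (CommRingCat.of k))
    (Y ↘ Spec (CommRingCat.of k)) φ₀ h₀ ((U : Set X) ∪ {x}) (by
    rintro p (hp | hp)
    · refine ⟨U.fromSpecStalkOfMem p hp ≫ f, by rw [Category.assoc, hf, Scheme.Opens.fromSpecStalkOfMem_ι_assoc], ?_⟩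
      rw [← Category.assoc, Groth.Agent.H23.RatExtend.specializes_comp_fromSpecStalkOfMem U _ hp hη]
    · obtain rfl : p = x := hp
      haveI := hdvr
      exact Groth.Agent.H23.RatExtend.exists_lift (X ↘ Spec (CommRingCat.of k)) (Y ↘ Spec (CommRingCat.of k)) φ₀ h₀ p
        inferInstance)
  refine ⟨W, fun p hp => hTW (Or.inl hp), H, hTW (Or.inr rfl), hH, ?_⟩
  haveI := Groth.Agent.H23.RatExtend.isDominant_fromSpecStalkOfMem U hη
  refine ext_of_isDominant (U.fromSpecStalkOfMem (genericPoint X) hη) ?_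
  have e : U.fromSpecStalkOfMem (genericPoint X) hη ≫ X.homOfLE (fun p hp => hTW (Or.inl hp)) =
      W.fromSpecStalkOfMem (genericPoint X) hg := by
    rw [← cancel_mono W.ι, Category.assoc, Scheme.homOfLE_ι, Scheme.Opens.fromSpecStalkOfMem_ι,
      Scheme.Opens.fromSpecStalkOfMem_ι]
  rw [reassoc_of% e, hH0]

end Groth.Agent.S6559
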