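import Groth.Statements.S6563
import Groth.Agent.S2266
import Groth.Agent.CurveCover.SmoothCompletion

set_option autoImplicit false
set_option backward.isDefEq.respectTransparency false
set_option backward.isDefEq.respectTransparency.types false
set_option linter.style.haveILetI false
set_option maxHeartbeats 1000000
universe u
open CategoryTheory CategoryTheory.Limits AlgebraicGeometry
open Curves

namespace Groth.Agent.S6563

/-- Let k be a field and f : X → Y a morphism over k of varieties over k, with X a curve (integral,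
separated and of finite type over k, of dimension one) and Y proper over k (and integral). Then f
extends over a projective completion of X: there are a projective curve X̄ over k (integral, of
dimension one, admitting a closed immersion over k into some P^n_k), an open immersion j : X → X̄
over k and a k-morphism g : X̄ → Y with g ∘ j = f. -/
theorem result (k : Type u) [Field k]
    (X Y : Scheme.{u}) [X.Over (Spec (CommRingCat.of k))] [Y.Over (Spec (CommRingCat.of k))]
    [IsIntegral X] [IsSeparated (X ↘ (Spec (CommRingCat.of k)))] [LocallyOfFiniteType (X ↘ (Spec (CommRingCat.of k)))] [QuasiCompact (X ↘ (Spec (CommRingCat.of k)))] (hdX : topologicalKrullDim X = 1)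
    [IsIntegral Y] [IsProper (Y ↘ (Spec (CommRingCat.of k)))]
    (f : X ⟶ Y) (hf : f ≫ (Y ↘ (Spec (CommRingCat.of k))) = X ↘ (Spec (CommRingCat.of k))) :
    ∃ (Xb : Scheme.{u}) (_ : Xb.Over (Spec (CommRingCat.of k))) (j : X ⟶ Xb) (g : Xb ⟶ Y),
      IsOpenImmersion j ∧ j ≫ g = f ∧ j ≫ (Xb ↘ (Spec (CommRingCat.of k))) = X ↘ (Spec (CommRingCat.of k)) ∧ g ≫ (Y ↘ (Spec (CommRingCat.of k))) = Xb ↘ (Spec (CommRingCat.of k)) ∧
      IsIntegral Xb ∧ topologicalKrullDim Xb = 1 ∧
      ∃ (n : ℕ) (i : Xb ⟶ CohB1.ProjSpace n k), IsClosedImmersion i ∧ i ≫ CohB1.ProjSpace.toSpec n k = Xb ↘ (Spec (CommRingCat.of k)) := by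
  obtain ⟨d, P, c, j, hc, hj, hcomp, -, -, -, -⟩ := S1625.result k X hdX.le
  haveI := PnCoh.Chow.isProper_toSpec d k
  let p : P ⟶ Spec (CommRingCat.of k) := c ≫ CohB1.ProjSpace.toSpec d k
  haveI : IsProper p := inferInstanceAs (IsProper (c ≫ CohB1.ProjSpace.toSpec d k))
  have hjp : j ≫ p = X ↘ Spec (CommRingCat.of k) := hcomp
  let pr : pullback p (Y ↘ Spec (CommRingCat.of k)) ⟶ Spec (CommRingCat.of k) :=
    pullback.fst p (Y ↘ Spec (CommRingCat.of k)) ≫ p
  haveI : IsProper pr := inferInstanceAs (IsProper (pullback.fst p (Y ↘ Spec (CommRingCat.of k)) ≫ p))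
  let s : X ⟶ pullback p (Y ↘ Spec (CommRingCat.of k)) := pullback.lift j f (hjp.trans hf.symm)
  haveI : QuasiCompact s := by
    haveI : QuasiCompact (s ≫ pr) := by
      rw [pullback.lift_fst_assoc, hjp]; infer_instance
    exact QuasiCompact.of_comp s pr
  haveI : IsLocallyNoetherian (pullback p (Y ↘ Spec (CommRingCat.of k))) :=
    LocallyOfFiniteType.isLocallyNoetherian pr
  haveI : AlgebraicGeometry.IsReduced s.image := (S2266.result s).1
  haveI : IrreducibleSpace s.image := (S2266.result s).2 inferInstance inferInstance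
  haveI : IsIntegral s.image := isIntegral_of_irreducibleSpace_of_isReduced s.image
  let q : s.image ⟶ P := s.imageι ≫ pullback.fst p (Y ↘ Spec (CommRingCat.of k))
  have hsq : s.toImage ≫ q = j := by
    show s.toImage ≫ s.imageι ≫ _ = _
    rw [s.toImage_imageι_assoc, pullback.lift_fst]
  let U : P.Opens := j.opensRange
  have hle : Set.range s.toImage ⊆ Set.range (q ⁻¹ᵁ U).ι := by
    rw [Scheme.Opens.range_ι]
    rintro _ ⟨z, rfl⟩
    show q (s.toImage z) ∈ U
    rw [← Scheme.Hom.comp_apply, hsq]
    exact ⟨z, rfl⟩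
  let σ := IsOpenImmersion.lift (q ⁻¹ᵁ U).ι s.toImage hle
  have hσι : σ ≫ (q ⁻¹ᵁ U).ι = s.toImage := IsOpenImmersion.lift_fac _ _ _
  have hσ : σ ≫ (q ∣_ U) = j.isoOpensRange.hom := by
    rw [← cancel_mono U.ι, Category.assoc, morphismRestrict_ι, reassoc_of% hσι, hsq]
    exact (Scheme.Hom.isoOpensRange_hom_ι j).symm
  haveI : IsClosedImmersion σ := by
    haveI : IsClosedImmersion (σ ≫ (q ∣_ U)) := by rw [hσ]; infer_instance
    exact IsClosedImmersion.of_comp σ (q ∣_ U)
  haveI : Surjective σ := ⟨fun w => by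
    have hd : DenseRange s.toImage := s.toImage.denseRange
    have h1 : w.1 ∈ closure (Set.range s.toImage) := by rw [hd.closure_range]; trivial
    have hr : Set.range s.toImage = (q ⁻¹ᵁ U).ι '' Set.range σ := by
      rw [← Set.range_comp, ← hσι]; rfl
    have h2 : w ∈ closure (Set.range σ) := by
      rw [(q ⁻¹ᵁ U).ι.isOpenEmbedding.isInducing.closure_eq_preimage_closure_image, ← hr]
      exact h1
    rw [σ.isClosedEmbedding.isClosed_range.closure_eq] at h2
    exact h2⟩
  haveI := isIso_of_isClosedImmersion_of_surjective σ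
  haveI hopen : IsOpenImmersion s.toImage := hσι ▸ inferInstance
  letI : s.image.Over (Spec (CommRingCat.of k)) := ⟨s.imageι ≫ pr⟩
  haveI : IsProper (s.image ↘ Spec (CommRingCat.of k)) := inferInstanceAs (IsProper (s.imageι ≫ pr))
  have hdim : topologicalKrullDim s.image = 1 := by
    rw [← CurveCover.SmoothCompletion.topologicalKrullDim_eq s.toImage (s.image ↘ Spec (CommRingCat.of k))]
    exact hdX
  refine ⟨s.image, inferInstance, s.toImage, s.imageι ≫ pullback.snd _ _, hopen, ?_, ?_, ?_, inferInstance, hdim,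
    S7645.result k s.image hdim.le⟩
  · rw [s.toImage_imageι_assoc, pullback.lift_snd]
  · show s.toImage ≫ s.imageι ≫ pullback.fst _ _ ≫ p = _
    rw [s.toImage_imageι_assoc, pullback.lift_fst_assoc, hjp]
  · show (s.imageι ≫ pullback.snd _ _) ≫ _ = s.imageι ≫ pullback.fst _ _ ≫ p
    rw [Category.assoc, pullback.condition]

end Groth.Agent.S6563
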