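import Groth.Statements.S6564


set_option autoImplicit false
universe u
open CategoryTheory CategoryTheory.Limits AlgebraicGeometry
open Curves

namespace Groth.Agent.S6564

/-- Let X be proper over the field k of dimension at most 1. If X has a g^r_d (an invertible module L of
degree d with an ordered family of r + 1 global sections linearly independent over k), then X has a
g^s_d for every 0 ≤ s ≤ r. -/
theorem result (k : Type u) [Field k] (X : Scheme.{u}) [X.Over (Spec (CommRingCat.of k))] [IsProper (X ↘ (Spec (CommRingCat.of k)))] (hdim : topologicalKrullDim X ≤ 1)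
    (d r : ℕ) (L : X.Modules) (σ : Fin (r + 1) → LinSer.Sect X L) (hL : LinSer.IsLinSer k X L d r σ)
    (s : ℕ) (hs : s ≤ r) :
    ∃ (L' : X.Modules) (τ : Fin (s + 1) → LinSer.Sect X L'), LinSer.IsLinSer k X L' d s τ := by
  obtain ⟨h1, h2, h3⟩ := hL
  have hs' : s + 1 ≤ r + 1 := Nat.succ_le_succ hs
  refine ⟨L, σ ∘ Fin.castLE hs', h1, h2, fun c hc => ?_⟩
  classical
  let c' : Fin (r + 1) → k := fun i => if h : i.1 < s + 1 then c ⟨i, h⟩ else 0
  have hc' : ∀ i : Fin (s + 1), c' (Fin.castLE hs' i) = c i := fun i => dif_pos i.2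
  have h : c' = 0 := h3 c' (by
    rw [← hc]
    symm
    refine Finset.sum_of_injOn (Fin.castLE hs') (Fin.castLE_injective hs').injOn (by simp) (fun i _ hi => ?_) (fun i _ => by rw [hc']; rfl)
    have : ¬ i.1 < s + 1 := fun h => hi ⟨⟨i, h⟩, by simp, rfl⟩
    simp only [c', dif_neg this, map_zero]; exact zero_smul _ _)
  funext i
  rw [← hc', h]; rfl

end Groth.Agent.S6564
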