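import Groth.Statements.S6566
import Groth.Agent.CurveDual.Props
import Groth.Agent.RelPC17.DimOne
import Groth.Agent.NefH1.Field

set_option autoImplicit false
universe u
open CategoryTheory CategoryTheory.Limits AlgebraicGeometry
attribute [local instance] HasDerivedCategory.standard
open Curves

namespace Groth.Agent.S6566

set_option backward.isDefEq.respectTransparency false
set_option backward.isDefEq.respectTransparency.types false
set_option synthInstance.maxHeartbeats 200000
set_option maxHeartbeats 1000000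
attribute [local instance] HasDerivedCategory.standard
open Groth.Agent.RelPC17 in


/-- Let X be proper over the field k, of dimension one, with H^0(X, O_X) = k, and ω_X its dualizing
module (the degree -1 cohomology sheaf of f^! O for the structure morphism f, assuming Rf_* on
D_QCoh and its right adjoint exist). For coherent O_X-modules F and Q and an exact sequence ω_X → F
→ Q → 0 in which Q has no first cohomology, F has no first cohomology unless the map ω_X → F admits
a retraction (so that F splits as ω_X ⊕ Q): that is, H^1(X, F) = 0 or ω_X → F has a left inverse. -/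
theorem result (k : Type u) [Field k] (X : Scheme.{u}) [X.Over (Spec (CommRingCat.of k))] [IsProper (X ↘ (Spec (CommRingCat.of k)))] (hdim : topologicalKrullDim X = 1)
    (h0 : Module.finrank k (Coh.HH X (Coh.structureModule X) 0) = 1)
    [DCoh.HasRpush (X ↘ (Spec (CommRingCat.of k)))] (h : DCoh.RpushPreservesQCoh (X ↘ (Spec (CommRingCat.of k)))) [DCoh.HasShriek (X ↘ (Spec (CommRingCat.of k))) h]
    (OY : DCoh.DQCoh (Spec (CommRingCat.of k))) (hOY : Nonempty (OY.obj ≅ DCoh.inD (Spec (CommRingCat.of k)) (Coh.structureModule (Spec (CommRingCat.of k)))))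
    (F Q : X.Modules) (hF : Coh.IsCoh F) (hQ : Coh.IsCoh Q)
    (f : DCoh.dualizingMod (X ↘ (Spec (CommRingCat.of k))) h OY 1 ⟶ F) (g : F ⟶ Q) [Epi g] (w : f ≫ g = 0) (hex : (ShortComplex.mk f g w).Exact)
    (hQ1 : Subsingleton (Coh.HH X Q 1)) :
    Subsingleton (Coh.HH X F 1) ∨ ∃ r : F ⟶ DCoh.dualizingMod (X ↘ (Spec (CommRingCat.of k))) h OY 1, f ≫ r = 𝟙 (DCoh.dualizingMod (X ↘ (Spec (CommRingCat.of k))) h OY 1) := by
  classical
  haveI := Groth.Agent.CurveCohLib.isNoetherian_of_proper (k := k) (X := X)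
  obtain ⟨t, ht, hc⟩ := Groth.Agent.CurveDual.exists_dual hdim.le h OY hOY
  by_cases hs : Subsingleton (Coh.HH X F 1)
  · exact Or.inl hs
  obtain ⟨x, hx⟩ : ∃ x : Coh.HH X F 1, x ≠ 0 := by
    by_contra hcon
    exact hs (subsingleton_of_forall_eq 0 fun y => not_not.1 fun hy => hcon ⟨y, hy⟩)
  obtain ⟨φ, hφ⟩ := Groth.Agent.CurveDual.exists_hom_ne ht hF.1 hx
  have hS : (ShortComplex.mk (kernel.ι g) g (kernel.condition g)).ShortExact :=
    { exact := ShortComplex.exact_of_f_is_kernel _ (kernelIsKernel g) }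
  obtain ⟨y, hy⟩ := DimOne.exact_middle (QCoh.toAb_shortExact hS) 1 x hQ1
  haveI : Epi (kernel.lift g f w) := (ShortComplex.exact_iff_epi_kernel_lift (ShortComplex.mk f g w)).1 hex
  obtain ⟨z, hz⟩ := DimOne.hmap_surjective (X ↘ Spec (CommRingCat.of k))
    (Groth.Agent.NefH1.fibre_dim k hdim.le) (kernel.lift g f w) hc.1
    (Groth.Agent.QCoh.isCoh_kernel hF hQ g).1 y
  have hxz : DimOne.hmap f 1 z = x := by
    conv_rhs => rw [← hy, ← hz]
    exact (congrArg (fun e => DimOne.hmap e 1 z) (kernel.lift_ι g f w).symm).trans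
      (DimOne.hmap_comp _ _ 1 z).symm
  have hne : f ≫ φ ≠ 0 := fun he => hφ (by
    have h1 : DimOne.hmap φ 1 x = 0 := by
      rw [← hxz, DimOne.hmap_comp, he]
      show Canon.HHlin k (0 : _ ⟶ _) 1 z = 0
      rw [← zero_smul k (0 : DCoh.dualizingMod (X ↘ Spec (CommRingCat.of k)) h OY 1 ⟶
        DCoh.dualizingMod (X ↘ Spec (CommRingCat.of k)) h OY 1), Groth.Agent.CurveDual.HHlin_smul, zero_smul]
    show t (DimOne.hmap φ 1 x) = 0
    rw [h1, map_zero])
  haveI := Groth.Agent.CurveDual.isIso_of_ne_zero ht hc hdim h0 _ hne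
  exact Or.inr ⟨φ ≫ inv (f ≫ φ), by rw [← Category.assoc, IsIso.hom_inv_id]⟩


end Groth.Agent.S6566
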