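import Groth.Statements.S6568
import Groth.Agent.CurveDual18.Bidual
import Groth.Agent.CurveDual18.Quotient

set_option autoImplicit false
universe u
open CategoryTheory CategoryTheory.Limits AlgebraicGeometry
attribute [local instance] HasDerivedCategory.standard
open Curves

namespace Groth.Agent.S6568

open CategoryTheory CategoryTheory.Limits AlgebraicGeometry TopologicalSpace
open Groth.Agent.PnCoh.Finite (mapLin)

set_option backward.isDefEq.respectTransparency false
set_option backward.isDefEq.respectTransparency.types false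
set_option maxHeartbeats 1000000
set_option linter.style.haveILetI false


open Groth.Agent

theorem gen_of_tf {k : Type u} [Field k] {X : Scheme.{u}} [X.Over (Spec (CommRingCat.of k))]
    [IsIntegral X] [IsProper (X ↘ Spec (CommRingCat.of k))] (hdim : topologicalKrullDim X = 1)
    (h0 : Module.finrank k (Coh.HH X (Coh.structureModule X) 0) = 1)
    {ω : X.Modules} {t : Coh.HH X ω 1 →ₗ[k] k} (hω : Canon.IsRDualOver k X 1 ω t) (hωc : Coh.IsCoh ω)
    {F Q : X.Modules} (hF : Coh.IsCoh F) (hQ : Coh.IsCoh Q) (f : ω ⟶ F) (g : F ⟶ Q) (w : f ≫ g = 0)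
    (hex : (ShortComplex.mk f g w).ShortExact) (htf : TorSh.IsTorsionFree F)
    (hQ0 : topologicalKrullDim (CohB1.support Q) ≤ 0) (hQ2 : 2 ≤ Module.finrank k (Coh.HH X Q 0)) :
    Curv2.IsGloballyGenerated F := by
  haveI := CurveCohLib.isNoetherian_of_proper (k := k) (X := X)
  let η := genericPoint X
  have hgen : ∀ y ∈ genericPoints (X : Type u), y = η := fun y hy =>
    (TFCurvLib.eq_of_specializes_of_isField (NormAmpleX.isField_stalk_of_generic hy) (genericPoint_specializes y)).symm
  letI := (CurveBundle.isField_stalk_generic (X := X)).toField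
  haveI : Mono f := hex.mono_f
  haveI : Epi g := hex.epi_g
  have hωt := CurveDual18.isTorsionFree_dualizing hdim hω hωc
  have hωrk : Module.finrank (X.presheaf.stalk η) (ω.presheaf.stalk η) = 1 :=
    CurveDual18.rk_dualizing hdim hω hωc
  -- the quotient is supported at closed points
  have hQcl : ∀ x ∈ CohB1.support Q, IsClosed ({x} : Set X) := fun x hx => by
    rw [← Euler.closure_eq_self_of_dim_le_zero (QCoh.isClosed_support_of_isFT hQ.1 hQ.2) hQ0 hx]
    exact isClosed_closure
  have hηcl : ¬ IsClosed ({η} : Set X) := fun hcl => by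
    have h1 : closure ({η} : Set X) = Set.univ := genericPoint_spec X
    rw [hcl.closure_eq] at h1
    haveI : Subsingleton X := ⟨fun a b => by
      have ha : a ∈ ({η} : Set X) := h1 ▸ trivial
      have hb : b ∈ ({η} : Set X) := h1 ▸ trivial
      exact (Set.mem_singleton_iff.1 ha).trans (Set.mem_singleton_iff.1 hb).symm⟩
    haveI : Nonempty (X : Type u) := ⟨η⟩
    have h2 : topologicalKrullDim X ≤ 0 := topologicalKrullDim_zero_of_discreteTopology (X : Type u)
    rw [hdim] at h2
    exact absurd h2 (by norm_num)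
  have hf : Function.Bijective (TFOneX.sm f η) := ⟨TFOneX.injective_sm f η, fun b =>
    ((ShortComplex.moduleCat_exact_iff _).1 ((hex.map_of_exact (DerSch.stalkFunctor X η)).exact)) b
      (TFOneX.eq_zero_of_notMem (fun h => hηcl (hQcl η h)) _)⟩
  have hFrk : Module.finrank (X.presheaf.stalk η) (F.presheaf.stalk η) = 1 :=
    (LinearEquiv.ofBijective (TFOneX.sm f η) hf).finrank_eq.symm.trans hωrk
  -- Euler characteristics
  have hadd := CurveCohLib.euler_additive (k := k) hex hωc hF hQ
  dsimp only at hadd
  rw [NefH1.euler_eq k hdim.le hωc.1, NefH1.euler_eq k hdim.le hF.1,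
    CurveCohLib.euler_eq_finrank_zero (k := k) hQ hQcl,
    (CurveDual.finrank_H1 hdim.le (CurveDual.depth_of_h0 hdim h0) hω hωc).trans h0] at hadd
  haveI := CurveCohLib.finite_HH (k := k) hωc 0
  haveI := CurveCohLib.finite_HH (k := k) hF 0
  -- the submodule generated by the sections
  let P : (SheafOfModules.free (Coh.structureModule X ⟶ F) : X.Modules) ⟶ F :=
    Sigma.desc fun s : Coh.structureModule X ⟶ F => s
  refine ⟨_, P, ?_⟩
  let M : X.Modules := Limits.image P
  let j : M ⟶ F := Limits.image.ι P
  have hfq : Coh.IsQCoh (SheafOfModules.free (Coh.structureModule X ⟶ F) : X.Modules) :=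
    QCoh.isQCoh_colimit _ fun _ => QCoh.isQCoh_structureModule
  have hMc : Coh.IsCoh M := QCoh.isCoh_of_mono j hF
    ((QCoh.isQCoh_iff_iso (Abelian.imageIsoImage P)).1
      (QCoh.isQCoh_kernel hF.1 (QCoh.isQCoh_cokernel hfq hF.1 P) _))
  haveI := CurveCohLib.finite_HH (k := k) hMc 0
  have hj : Function.Surjective (mapLin k j 0) := fun y => by
    obtain ⟨s, hs⟩ := CurveDual18.exists_mapLin_oneH k F y
    refine ⟨mapLin k (Sigma.ι (fun _ : (Coh.structureModule X ⟶ F) => Coh.structureModule X) s ≫
      Limits.factorThruImage P) 0 CurveDual.oneH, ?_⟩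
    rw [CurveDual18.mapLin_comp, Category.assoc, Limits.image.fac,
      show Sigma.ι (fun _ : (Coh.structureModule X ⟶ F) => Coh.structureModule X) s ≫ P = s from Sigma.ι_desc _ _, hs]
  let S := ShortComplex.mk j (cokernel.π j) (cokernel.condition j)
  haveI : Mono S.f := inferInstanceAs (Mono (Limits.image.ι P))
  haveI : Epi S.g := inferInstanceAs (Epi (cokernel.π j))
  have hS : S.ShortExact := { exact := ShortComplex.exact_cokernel j }
  -- the submodule is generically everything
  have hsurj : Function.Surjective (TFOneX.sm j η) := by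
    have hrange : LinearMap.range (TFOneX.sm j η) ≠ ⊥ := fun hbot => by
      have hj0 : j = 0 := TFOneX.hom_eq_zero hF.1 htf j fun y hy _ a => by
        obtain rfl := hgen y hy
        exact LinearMap.congr_fun (LinearMap.range_eq_bot.1 hbot) a
      have : Module.finrank k (Coh.HH X F 0) = 0 := by
        haveI : Subsingleton (Coh.HH X F 0) := subsingleton_of_forall_eq 0 fun y => by
          obtain ⟨z, rfl⟩ := hj y
          rw [hj0, CurveDual18.mapLin_zero]
        exact Module.finrank_zero_of_subsingleton
      omega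
    exact LinearMap.range_eq_top.1 ((isSimpleModule_iff_finrank_eq_one.2 hFrk).1.eq_bot_or_eq_top _ |>.resolve_left hrange)
  have hinj : Function.Injective (TFOneX.sm j η) := TFOneX.injective_sm j η
  have hMrk : Module.finrank (X.presheaf.stalk η) (M.presheaf.stalk η) = 1 :=
    (LinearEquiv.ofBijective (TFOneX.sm j η) ⟨hinj, hsurj⟩).finrank_eq.trans hFrk
  -- the submodule has no first cohomology
  have hM1 : Subsingleton (Coh.HH X M 1) := by
    by_contra hcon
    rw [not_subsingleton_iff_nontrivial] at hcon
    obtain ⟨x, hx⟩ := exists_ne (0 : Coh.HH X M 1)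
    obtain ⟨ψ, hψ⟩ := CurveDual.exists_hom_ne hω hMc.1 hx
    have hψ0 : ψ ≠ 0 := fun h => hψ (by
      rw [CurveDual.HHlin_apply, h]
      refine Eq.trans (congrArg t ?_) (map_zero t)
      exact CurveDual18.mapLin_zero k 1 x)
    have hψη : Function.Injective (TFOneX.sm ψ η) := by
      rw [← LinearMap.ker_eq_bot]
      refine ((isSimpleModule_iff_finrank_eq_one.2 hMrk).1.eq_bot_or_eq_top _).resolve_right fun h => ?_
      refine hψ0 (TFOneX.hom_eq_zero hωc.1 hωt ψ fun y hy _ a => ?_)
      obtain rfl := hgen y hy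
      exact LinearMap.mem_ker.1 (h ▸ Submodule.mem_top)
    haveI : Mono ψ := Preadditive.mono_of_cancel_zero _ fun {Z} a ha => by
      rw [← cancel_mono j, zero_comp]
      refine TFOneX.hom_eq_zero hF.1 htf _ fun y hy _ b => ?_
      obtain rfl := hgen y hy
      rw [TFOneX.sm_comp]
      rw [show TFOneX.sm a η b = 0 from hψη (by
        rw [← TFOneX.sm_comp, ha, TFOneX.sm_zero, map_zero]), map_zero]
    let T := ShortComplex.mk ψ (cokernel.π ψ) (cokernel.condition ψ)
    haveI : Mono T.f := ‹Mono ψ›
    haveI : Epi T.g := inferInstanceAs (Epi (cokernel.π ψ))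
    have hT : T.ShortExact := { exact := ShortComplex.exact_cokernel ψ }
    have h1 := LinearMap.finrank_le_finrank_of_injective (CurveCohLib.mapLin_f_zero_injective (A := k) hT)
    have h2 := LinearMap.finrank_le_finrank_of_surjective (f := mapLin k j 0) hj
    change Module.finrank k (Coh.HH X M 0) ≤ Module.finrank k (Coh.HH X ω 0) at h1
    omega
  -- the cokernel has no sections, and finite support
  have hCs : ∀ x ∈ CohB1.support (cokernel j), closure {x} = ({x} : Set X) := fun x hx => by
    refine (CurveDual18.isClosed_of_ne_generic hdim fun h => ?_).closure_eq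
    subst h
    refine hx (subsingleton_of_forall_eq 0 fun q => ?_)
    obtain ⟨b, rfl⟩ := TFOneX.surjective_sm (cokernel.π j) η q
    obtain ⟨v, rfl⟩ := hsurj b
    rw [← TFOneX.sm_comp, cokernel.condition, TFOneX.sm_zero]
  have hgood := Euler.good_of_support (QCoh.isCoh_cokernel hMc.1 hF j) hCs
  have hC0 : ∀ y : Coh.HH X (cokernel j) 0, y = 0 := fun y => by
    obtain ⟨z, rfl⟩ := (CurveCohLib.ker_deltaLin k hS 0).le (LinearMap.mem_ker.2 (hM1.elim _ _) : y ∈ _)
    obtain ⟨z', rfl⟩ := hj z
    show mapLin k (cokernel.π j) 0 (mapLin k j 0 z') = 0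
    rw [CurveDual18.mapLin_comp, cokernel.condition, CurveDual18.mapLin_zero]
  have hπ : cokernel.π j = 0 := by
    have hid : 𝟙 (cokernel j) = 0 := hgood.2 _ _ fun s => by
      rw [Category.comp_id]
      haveI : HasExt.{u} X.Modules := IsGrothendieckAbelian.hasExt _
      exact (CurveDual.bijective_extH₀ _).1 ((hC0 _).trans (hC0 _).symm)
    rw [← Category.comp_id (cokernel.π j), hid, comp_zero]
  haveI : Epi j := Abelian.epi_of_cokernel_π_eq_zero _ hπ
  rw [← Limits.image.fac P]
  exact epi_comp _ _



/-- Let X be proper and integral over the field k, of dimension one, with H^0(X, O_X) = k, and ω_X its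
dualizing module (the degree -1 cohomology sheaf of f^! O for the structure morphism f, assuming
Rf_* on D_QCoh and its right adjoint exist). Suppose F is a torsion-free coherent O_X-module
(stalkwise: a · m = 0 forces a = 0 or m = 0) containing ω_X as a submodule, with coherent quotient Q
= F/ω_X supported in dimension zero and with dim_k H^0(X, Q) ≥ 2 (so 0 → ω_X → F → Q → 0 is short
exact). Then F is generated by its global sections. -/
theorem result (k : Type u) [Field k] (X : Scheme.{u}) [X.Over (Spec (CommRingCat.of k))] [IsIntegral X] [IsProper (X ↘ (Spec (CommRingCat.of k)))] (hdim : topologicalKrullDim X = 1)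
    (h0 : Module.finrank k (Coh.HH X (Coh.structureModule X) 0) = 1)
    [DCoh.HasRpush (X ↘ (Spec (CommRingCat.of k)))] (h : DCoh.RpushPreservesQCoh (X ↘ (Spec (CommRingCat.of k)))) [DCoh.HasShriek (X ↘ (Spec (CommRingCat.of k))) h]
    (OY : DCoh.DQCoh (Spec (CommRingCat.of k))) (hOY : Nonempty (OY.obj ≅ DCoh.inD (Spec (CommRingCat.of k)) (Coh.structureModule (Spec (CommRingCat.of k)))))
    (F Q : X.Modules) (hF : Coh.IsCoh F) (hQ : Coh.IsCoh Q)
    (f : DCoh.dualizingMod (X ↘ (Spec (CommRingCat.of k))) h OY 1 ⟶ F) (g : F ⟶ Q) (w : f ≫ g = 0) (hex : (ShortComplex.mk f g w).ShortExact)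
    (htf : ∀ (x : X) (a : X.presheaf.stalk x) (m : F.presheaf.stalk x), a • m = 0 → a = 0 ∨ m = 0)
    (hQ0 : topologicalKrullDim (CohB1.support Q) ≤ 0) (hQ2 : 2 ≤ Module.finrank k (Coh.HH X Q 0)) :
    Curv2.IsGloballyGenerated F := by
  obtain ⟨t, ht, hc⟩ := Groth.Agent.CurveDual.exists_dual hdim.le h OY hOY
  exact Groth.Agent.S6568.gen_of_tf hdim h0 ht hc hF hQ f g w hex
    (fun x => Module.IsTorsionFree.of_smul_eq_zero fun a m ham => htf x a m ham) hQ0 hQ2


end Groth.Agent.S6568
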