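import Groth.Statements.S6572
import Groth.Agent.DiffLength.DVR
import Groth.Agent.CurveTwoBranch.Basic
import Groth.Agent.S6555
import Groth.Agent.S9346
import Groth.Agent.FrobDiff16.Power
import Groth.Agent.CurveFin.RelDim
import Groth.Agent.CurveEmbed.Points
import Groth.Agent.NodeFam.QuadStalk

set_option autoImplicit false
universe u
open CategoryTheory CategoryTheory.Limits AlgebraicGeometry
open Curves

namespace Groth.Agent.S6572
set_option backward.isDefEq.respectTransparency false
set_option backward.isDefEq.respectTransparency.types false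
set_option maxHeartbeats 1000000
set_option synthInstance.maxHeartbeats 200000
attribute [local instance] Curv2.stalkAlgebra Curv2.resAlgebra
open IsLocalRing


/-- Let k be a field and f : X → Y a morphism over k of smooth proper curves over k (proper, smooth,
integral, of dimension one) which is generically étale (étale on a nonempty open of X) and
nonconstant (f(ξ_X) = ξ_Y for the generic points), with H^0(X, O_X) = H^0(Y, O_Y) = k. For a closed
point x ∈ X with image y, write e_x for the ramification index of the extension of discrete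
valuation rings O_{Y,y} → O_{X,x} and d_x for the length of the O_{X,x}-module Ω_{O_{X,x}/O_{Y,y}}.
Then e_x − 1 ≤ d_x, with equality exactly when O_{Y,y} → O_{X,x} is tame: the residue field
extension κ(x)/κ(y) is separable and e_x is not divisible by the characteristic of κ(y) (e_x ≠ 0 in
κ(y)). (The published statement also identifies d_x with the multiplicity of x in the ramification
divisor; this row takes the length of Ω_{O_{X,x}/O_{Y,y}}, the stalk of Ω_{X/Y} at x, as the
definition of d_x.) -/
theorem result (k : Type u) [Field k]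
    (X Y : Scheme.{u}) [X.Over (Spec (CommRingCat.of k))] [Y.Over (Spec (CommRingCat.of k))]
    [IsIntegral X] [IsProper (X ↘ (Spec (CommRingCat.of k)))] [Smooth (X ↘ (Spec (CommRingCat.of k)))] (hdX : topologicalKrullDim X = 1)
    [IsIntegral Y] [IsProper (Y ↘ (Spec (CommRingCat.of k)))] [Smooth (Y ↘ (Spec (CommRingCat.of k)))] (hdY : topologicalKrullDim Y = 1)
    (hX0 : Module.finrank k (Coh.HH X (Coh.structureModule X) 0) = 1) (hY0 : Module.finrank k (Coh.HH Y (Coh.structureModule Y) 0) = 1)
    (f : X ⟶ Y) (hf : f ≫ (Y ↘ (Spec (CommRingCat.of k))) = X ↘ (Spec (CommRingCat.of k))) (e : f (genericPoint X) = genericPoint Y)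
    (het : ∃ U : X.Opens, (U : Set X).Nonempty ∧ Etale (U.ι ≫ f))
    (x : X) (hx : IsClosed ({x} : Set X)) :
    letI := (f.stalkMap x).hom.toAlgebra
    letI := (f.residueFieldMap x).hom.toAlgebra
    ((((Ideal.ramificationIdx (IsLocalRing.maximalIdeal (X.presheaf.stalk x)) (Y.presheaf.stalk (f x)) - 1 : ℕ) : ℕ∞) ≤ Module.length (X.presheaf.stalk x) (KaehlerDifferential (Y.presheaf.stalk (f x)) (X.presheaf.stalk x))) ∧
      ((Module.length (X.presheaf.stalk x) (KaehlerDifferential (Y.presheaf.stalk (f x)) (X.presheaf.stalk x)) = ((Ideal.ramificationIdx (IsLocalRing.maximalIdeal (X.presheaf.stalk x)) (Y.presheaf.stalk (f x)) - 1 : ℕ) : ℕ∞)) ↔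
        (Algebra.IsSeparable (Y.residueField (f x)) (X.residueField x) ∧ ((Ideal.ramificationIdx (IsLocalRing.maximalIdeal (X.presheaf.stalk x)) (Y.presheaf.stalk (f x)) : ℕ) : Y.residueField (f x)) ≠ 0))) := by
  letI := (f.stalkMap x).hom.toAlgebra
  letI := (f.residueFieldMap x).hom.toAlgebra
  haveI : IsLocalHom (algebraMap (Y.presheaf.stalk (f x)) (X.presheaf.stalk x)) :=
    (inferInstance : IsLocalHom (f.stalkMap x).hom)
  have hy : IsClosed ({f x} : Set Y) := by
    haveI : IsProper (f ≫ (Y ↘ Spec (CommRingCat.of k))) := by rw [hf]; infer_instance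
    haveI : IsProper f := IsProper.of_comp f (Y ↘ Spec (CommRingCat.of k))
    have h := f.isClosedMap _ hx
    rwa [Set.image_singleton] at h
  have hnX := FrobDiff16.isNormal_of_smooth_field (X ↘ Spec (CommRingCat.of k))
  have hnY := FrobDiff16.isNormal_of_smooth_field (Y ↘ Spec (CommRingCat.of k))
  haveI : IsDomain (X.presheaf.stalk x) := (hnX x).1
  haveI : IsDomain (Y.presheaf.stalk (f x)) := (hnY (f x)).1
  haveI : IsDiscreteValuationRing (X.presheaf.stalk x) := CurveEmbed.isDVR_of_normal k hdX hx (hnX x).2
  haveI : IsDiscreteValuationRing (Y.presheaf.stalk (f x)) := CurveEmbed.isDVR_of_normal k hdY hy (hnY (f x)).2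
  haveI : IsDominant f := ((S9346.result f).out 0 1).2 e
  have hinj : Function.Injective (algebraMap (Y.presheaf.stalk (f x)) (X.presheaf.stalk x)) :=
    S9346.stalkMap_injective f x
  obtain ⟨t, ht⟩ := IsDiscreteValuationRing.exists_irreducible (Y.presheaf.stalk (f x))
  obtain ⟨π, hπ⟩ := IsDiscreteValuationRing.exists_irreducible (X.presheaf.stalk x)
  have htm : maximalIdeal (Y.presheaf.stalk (f x)) = Ideal.span {t} := ht.maximalIdeal_eq
  obtain ⟨n, hn⟩ := IsDiscreteValuationRing.ideal_eq_span_pow_irreducible
    (s := (maximalIdeal (Y.presheaf.stalk (f x))).map (algebraMap _ (X.presheaf.stalk x)))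
    (fun h => IsDiscreteValuationRing.not_a_field _ ((Ideal.map_eq_bot_iff_of_injective hinj).1 h)) hπ
  have hram : Ideal.ramificationIdx (maximalIdeal (X.presheaf.stalk x)) (Y.presheaf.stalk (f x)) = n := by
    refine (CurveTwoBranch.ram_eq_fibreLen f x).trans ?_
    show (Module.length (X.presheaf.stalk x) (X.presheaf.stalk x ⧸
      (maximalIdeal (Y.presheaf.stalk (f x))).map (algebraMap _ (X.presheaf.stalk x)))).toNat = n
    rw [hn, H26.IdealFactor.length_quotient_pow hπ.ne_zero hπ.maximalIdeal_eq, ENat.toNat_coe]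
  have hnpos : 0 < n := Nat.pos_of_ne_zero fun h0 => by
    rw [h0, pow_zero, Ideal.span_singleton_one] at hn
    exact (IsLocalRing.maximalIdeal.isMaximal (X.presheaf.stalk x)).ne_top
      (top_le_iff.1 (hn.ge.trans (Ideal.map_le_iff_le_comap.2 (IsLocalRing.maximalIdeal_comap _).ge)))
  -- the base field
  have hk : ∀ c : k, algebraMap (Y.presheaf.stalk (f x)) (X.presheaf.stalk x) (Curv2.stalkMap k Y (f x) c) =
      Curv2.stalkMap k X x c := fun c => by
    show (f.stalkMap x).hom ((Y.presheaf.germ ⊤ (f x) trivial).hom (Coh.toGlobal (Y ↘ Spec (CommRingCat.of k)) c)) =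
      (X.presheaf.germ ⊤ x trivial).hom (Coh.toGlobal (X ↘ Spec (CommRingCat.of k)) c)
    rw [← hf]
    exact Scheme.Hom.germ_stalkMap_apply f ⊤ x trivial _
  haveI : IsScalarTower k (Y.presheaf.stalk (f x)) (X.presheaf.stalk x) :=
    IsScalarTower.of_algebraMap_eq fun c => (hk c).symm
  -- the residue fields
  haveI : Module.Finite (ResidueField (Y.presheaf.stalk (f x))) (ResidueField (X.presheaf.stalk x)) := by
    haveI : Module.Finite k (X.residueField x) :=
      NodeFam.finite_residueField_of_isClosed (X ↘ Spec (CommRingCat.of k)) hx fun _ => rfl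
    letI : Algebra k (ResidueField (Y.presheaf.stalk (f x))) := Curv2.resAlgebra k Y (f x)
    letI : Algebra k (ResidueField (X.presheaf.stalk x)) := Curv2.resAlgebra k X x
    haveI : IsScalarTower k (ResidueField (Y.presheaf.stalk (f x))) (ResidueField (X.presheaf.stalk x)) :=
      IsScalarTower.of_algebraMap_eq fun c => congrArg (residue (X.presheaf.stalk x)) (hk c).symm
    haveI : Module.Finite k (ResidueField (X.presheaf.stalk x)) := ‹Module.Finite k (X.residueField x)›
    exact Module.Finite.of_restrictScalars_finite k _ _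
  -- the differentials
  have hcyc : ∃ ω : KaehlerDifferential (Y.presheaf.stalk (f x)) (X.presheaf.stalk x),
      ∀ z, ∃ a : X.presheaf.stalk x, a • ω = z := by
    haveI hs1 := CurveFin.smoothOfRelativeDimension_of_dim (X ↘ Spec (CommRingCat.of k)) (d := 1) hdX
    haveI : SmoothOfRelativeDimension 1 ((⊤ : X.Opens).ι ≫ (X ↘ Spec (CommRingCat.of k))) :=
      inferInstanceAs (SmoothOfRelativeDimension (0 + 1) ((⊤ : X.Opens).ι ≫ (X ↘ Spec (CommRingCat.of k))))
    obtain ⟨-, -, hfree, hfin, hrk⟩ := S6555.free_rank_one k X ⊤ x trivial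
    let b := Module.finBasisOfFinrankEq (X.presheaf.stalk x) _ hrk
    let θ := KaehlerDifferential.map k (Y.presheaf.stalk (f x)) (X.presheaf.stalk x) (X.presheaf.stalk x)
    refine ⟨θ (b 0), fun z => ?_⟩
    obtain ⟨w, rfl⟩ := KaehlerDifferential.map_surjective k (Y.presheaf.stalk (f x)) (X.presheaf.stalk x) z
    refine ⟨b.repr w 0, ?_⟩
    rw [← map_smul, show b.repr w 0 • b 0 = w by simpa using b.sum_repr w]
  have main := DiffLength.length_dichotomy hπ.ne_zero hπ.maximalIdeal_eq hnpos hn htm hcyc
  have halg : (inferInstance : Algebra (ResidueField (Y.presheaf.stalk (f x))) (ResidueField (X.presheaf.stalk x))) =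
      (f.residueFieldMap x).hom.toAlgebra := by
    refine Algebra.algebra_ext _ _ fun r => ?_
    obtain ⟨r, rfl⟩ := IsLocalRing.residue_surjective r
    rfl
  rw [hram]
  refine ⟨main.1, main.2.trans ?_⟩
  show (@Algebra.IsSeparable (ResidueField (Y.presheaf.stalk (f x))) (ResidueField (X.presheaf.stalk x)) _ _
    inferInstance ∧ _) ↔ _
  rw [halg]
  rfl


end Groth.Agent.S6572
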