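import Groth.Statements.S6575
import Mathlib

set_option autoImplicit false
universe u
open Curves

namespace Groth.Agent.S6575

private lemma minors_le {K R : Type*} [CommRing K] [CommRing R] [Algebra K R] {n m l r : ℕ}
    (D : Fin n → Derivation K R R) (f : Fin m → R) (g : Fin l → R)
    (hfg : Ideal.span (Set.range g) ≤ Ideal.span (Set.range f)) :
    Ideal.span {d : R | ∃ (ρ : Fin r → Fin l) (γ : Fin r → Fin n), Function.Injective ρ ∧ Function.Injective γ ∧
          d = ((Matrix.of fun (j : Fin l) (i : Fin n) => D i (g j)).submatrix ρ γ).det} ⊔ Ideal.span (Set.range g) ≤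
      Ideal.span {d : R | ∃ (ρ : Fin r → Fin m) (γ : Fin r → Fin n), Function.Injective ρ ∧ Function.Injective γ ∧
          d = ((Matrix.of fun (j : Fin m) (i : Fin n) => D i (f j)).submatrix ρ γ).det} ⊔ Ideal.span (Set.range f) := by
  classical
  refine sup_le (Ideal.span_le.2 ?_) (hfg.trans le_sup_right)
  rintro _ ⟨ρ, γ, hρ, hγ, rfl⟩
  have ha : ∀ j, ∃ c : Fin m → R, ∑ t, c t * f t = g j := fun j =>
    Ideal.mem_span_range_iff_exists_fun.1 (hfg (Ideal.subset_span ⟨j, rfl⟩))
  choose a ha using ha
  let I := Ideal.span (Set.range f)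
  let π := Ideal.Quotient.mk I
  set S := Ideal.span {d : R | ∃ (ρ : Fin r → Fin m) (γ : Fin r → Fin n), Function.Injective ρ ∧ Function.Injective γ ∧
          d = ((Matrix.of fun (j : Fin m) (i : Fin n) => D i (f j)).submatrix ρ γ).det} with hS
  suffices h : π (((Matrix.of fun (j : Fin l) (i : Fin n) => D i (g j)).submatrix ρ γ).det) ∈ S.map π by
    have := Ideal.mem_comap.2 h
    rwa [Ideal.comap_map_of_surjective _ Ideal.Quotient.mk_surjective, ← RingHom.ker_eq_comap_bot,
      Ideal.mk_ker] at this
  rw [RingHom.map_det]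
  have hM : π.mapMatrix ((Matrix.of fun (j : Fin l) (i : Fin n) => D i (g j)).submatrix ρ γ) =
      fun s => ∑ t, π (a (ρ s) t) • fun c => π (D (γ c) (f t)) := by
    funext s c
    simp only [RingHom.mapMatrix_apply, Matrix.map_apply, Matrix.submatrix_apply, Matrix.of_apply,
      Finset.sum_apply, Pi.smul_apply, smul_eq_mul]
    rw [← ha (ρ s), map_sum, map_sum]
    refine Finset.sum_congr rfl fun t _ => ?_
    rw [Derivation.leibniz, map_add, smul_eq_mul, smul_eq_mul, map_mul, map_mul,
      Ideal.Quotient.eq_zero_iff_mem.2 (Ideal.subset_span ⟨t, rfl⟩ : f t ∈ I), zero_mul, add_zero]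
  rw [hM]
  show (Matrix.detRowAlternating (n := Fin r) (R := R ⧸ I)).toMultilinearMap _ ∈ _
  rw [MultilinearMap.map_sum]
  refine Ideal.sum_mem _ fun σ _ => ?_
  rw [MultilinearMap.map_smul_univ]
  refine Ideal.mul_mem_left _ _ ?_
  by_cases hσ : Function.Injective σ
  · have := Ideal.mem_map_of_mem π (Ideal.subset_span ⟨σ, γ, hσ, hγ, rfl⟩ :
      ((Matrix.of fun (j : Fin m) (i : Fin n) => D i (f j)).submatrix σ γ).det ∈ S)
    rw [RingHom.map_det] at this
    exact this
  · obtain ⟨i, j, hij, hne⟩ := Function.not_injective_iff.1 hσ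
    have h0 : Matrix.det (fun s c => π (D (γ c) (f (σ s)))) = 0 :=
      Matrix.det_zero_of_row_eq hne (by funext c; rw [hij])
    show Matrix.det (fun s c => π (D (γ c) (f (σ s)))) ∈ S.map π
    rw [h0]
    exact Ideal.zero_mem _


/-- Let k be a field, A = k[[x_1, …, x_n]] and I ⊆ A an ideal generated by f_1, …, f_m and also by g_1,
…, g_l. Then for every r ≥ 0 the ideal of A/I generated by the r × r minors of (∂f_j/∂x_i) equals
the one generated by the r × r minors of (∂g_s/∂x_i); stated in A as equality of the ideals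
generated by the minors together with I. (The published result also asserts independence of the
regular system of parameters x_1, …, x_n, which is not stated here.) -/
theorem result (k : Type u) [Field k] (n m l r : ℕ)
    (f : Fin m → MvPowerSeries (Fin n) k) (g : Fin l → MvPowerSeries (Fin n) k)
    (hfg : Ideal.span (Set.range f) = Ideal.span (Set.range g)) :
    Ideal.span {d : MvPowerSeries (Fin n) k | ∃ (ρ : Fin r → Fin m) (γ : Fin r → Fin n), Function.Injective ρ ∧ Function.Injective γ ∧
          d = ((Matrix.of fun (j : Fin m) (i : Fin n) => MvPowerSeries.pderiv k i (f j)).submatrix ρ γ).det} ⊔ Ideal.span (Set.range f) =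
      Ideal.span {d : MvPowerSeries (Fin n) k | ∃ (ρ : Fin r → Fin l) (γ : Fin r → Fin n), Function.Injective ρ ∧ Function.Injective γ ∧
          d = ((Matrix.of fun (j : Fin l) (i : Fin n) => MvPowerSeries.pderiv k i (g j)).submatrix ρ γ).det} ⊔ Ideal.span (Set.range g) := by
  exact le_antisymm (minors_le (MvPowerSeries.pderiv k) g f hfg.le) (minors_le (MvPowerSeries.pderiv k) f g hfg.ge)

end Groth.Agent.S6575
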