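import Groth.Statements.S6579
import Groth.Agent.CurveCover.Line
import Groth.Agent.LinSerLib.Morphism
import Groth.Agent.Lib.DegPullFinite
import Groth.Agent.PicClLib.Basic
import Groth.Agent.ExistEasy.PP.PullSec
import Groth.Agent.FlatG.Gamma
import Groth.Agent.InvX.Frame
import Groth.Agent.CurveCohLib.Skyscraper

set_option autoImplicit false
set_option backward.isDefEq.respectTransparency false
set_option backward.isDefEq.respectTransparency.types false
set_option linter.style.haveILetI false
set_option maxHeartbeats 1000000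
universe u
open CategoryTheory CategoryTheory.Limits AlgebraicGeometry
open Curves

namespace Groth.Agent.S6579

open TopologicalSpace Opposite in
/-- Over a field of constants a morphism to the line with one-point image pulls the coordinates back to
multiples of one section. -/
theorem exists_proportional (k : Type u) [Field k] (X : Scheme.{u}) [X.Over (Spec (CommRingCat.of k))]
    [IsIntegral X] [IsProper (X ↘ (Spec (CommRingCat.of k)))]
    (h0 : Module.finrank k (Coh.HH X (Coh.structureModule X) 0) = 1)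
    (φ : X ⟶ CohB1.ProjSpace 1 k) (p : CohB1.ProjSpace 1 k) (hp : Set.range φ ⊆ {p})
    (T : Fin 2 → Γ(Twist.twistProjSpace 1 k 1, ⊤)) :
    ∃ (c : Fin 2 → k) (ε : Γ((Scheme.Modules.pullback φ).obj (Twist.twistProjSpace 1 k 1), ⊤)),
      ∀ i, QCoh.pullSec φ (Twist.twistProjSpace 1 k 1) (le_top (a := (⊤ : X.Opens))) (T i) =
        (show Γ(X, ⊤) from Coh.toGlobal (X ↘ Spec (CommRingCat.of k)) (c i)) • ε := by
  obtain ⟨U, hpU, e, he⟩ := InvX.exists_frame (CurveCover.isInvertible_twist k 1) p
  have hle : (⊤ : X.Opens) ≤ φ ⁻¹ᵁ U := fun x _ => by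
    show φ x ∈ U
    rw [Set.mem_singleton_iff.1 (hp ⟨x, rfl⟩)]
    exact hpU
  choose g hg using fun i => he.exists_coord le_rfl (AModX.res _ (le_top : U ≤ ⊤) (T i))
  let h0e := FlatG.h0Equiv k (Coh.structureModule X)
  letI : Module k Γ(Coh.structureModule X, ⊤) := FlatG.Pol.secR k (Coh.structureModule X) ⊤
  have hrk : Module.finrank k Γ(Coh.structureModule X, ⊤) = 1 := h0e.finrank_eq.symm.trans h0
  have hconst : ∀ a : Γ(X, ⊤), ∃ c : k, Coh.toGlobal (X ↘ Spec (CommRingCat.of k)) c = a := fun a => by
    obtain ⟨c, hc⟩ := (finrank_eq_one_iff_of_nonzero' (K := k) (V := Γ(Coh.structureModule X, ⊤))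
      (show Γ(Coh.structureModule X, ⊤) from (1 : Γ(X, ⊤))) (one_ne_zero (α := Γ(X, ⊤)))).1 hrk a
    exact ⟨c, (mul_one _).symm.trans ((congrArg (· * (1 : Γ(X, ⊤)))
      (ConcreteCategory.congr_hom (X.presheaf.map_id (op ⊤)) (Coh.toGlobal (X ↘ Spec (CommRingCat.of k)) c)).symm).trans hc)⟩
  choose c hc using fun i => hconst (φ.appLE U ⊤ hle (g i))
  refine ⟨c, QCoh.pullSec φ _ hle e, fun i => ?_⟩
  have h1 := ExistEasy.pullSec_res φ (Twist.twistProjSpace 1 k 1) (le_top : U ≤ ⊤) (le_refl (⊤ : X.Opens))
    (le_top (a := (⊤ : X.Opens))) hle (T i)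
  rw [hc, ← QCoh.pullSec_smul]
  refine Eq.trans (AModX.res_self _).symm (h1.trans ?_)
  refine congrArg (QCoh.pullSec φ _ hle) ((hg i).trans ?_)
  rw [AModX.res_self]

/-- Let k be a field and X a proper curve over k all of whose local rings are regular (X integral,
proper, of dimension one), (L, V) a g^1_d on X with ordered basis s_0, s_1 of V, and φ : X → P^1_k a
morphism over k together with α : φ^*O(1) → L sending φ^*T_i to s_i (the morphism attached to the
linear series). Then either (1) φ is nonconstant and has degree at most d — here: φ does not factor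
through a closed point, and k(X) has dimension at most d over the local ring of P^1_k at the image
of the generic point of X (that image is then the generic point, so this is [k(X) : k(P^1_k)] ≤ d) —
or (2) φ maps X (set-theoretically) to a single closed point of P^1_k, and in that case H^0(X, O_X)
is bigger than k. -/
theorem result (k : Type u) [Field k] (X : Scheme.{u}) [X.Over (Spec (CommRingCat.of k))]
    [IsIntegral X] [IsProper (X ↘ (Spec (CommRingCat.of k)))] (hdim : topologicalKrullDim X = 1) (hreg : ∀ x : X, IsRegularLocalRing (X.presheaf.stalk x))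
    (d : ℕ) (L : X.Modules) (s : Fin (1 + 1) → LinSer.Sect X L) (hL : LinSer.IsLinSer k X L d 1 s)
    (φ : X ⟶ CohB1.ProjSpace 1 k) (α : (Scheme.Modules.pullback φ).obj (Twist.twistProjSpace 1 k 1) ⟶ L)
    (hφ : φ ≫ CohB1.ProjSpace.toSpec 1 k = X ↘ (Spec (CommRingCat.of k)) ∧
        ∀ i : Fin (1 + 1), (α.val.app (Opposite.op ⊤)).hom (OmegaSh.pullSect φ (Twist.twistProjSpace 1 k 1) ⊤ (Twist.globalOf (CohB1.polyGrading 1 k) (⟨MvPolynomial.X i, MvPolynomial.isHomogeneous_X k i⟩ : (CohB1.polyGrading 1 k) 1))) = s i) :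
    ((¬ ∃ p : CohB1.ProjSpace 1 k, IsClosed ({p} : Set (CohB1.ProjSpace 1 k)) ∧ Set.range φ ⊆ {p}) ∧
      (letI := (φ.stalkMap (genericPoint X)).hom.toAlgebra
       Module.finrank ((CohB1.ProjSpace 1 k).presheaf.stalk (φ (genericPoint X))) X.functionField ≤ d)) ∨
    ((∃ p : CohB1.ProjSpace 1 k, IsClosed ({p} : Set (CohB1.ProjSpace 1 k)) ∧ Set.range φ ⊆ {p}) ∧
      Module.finrank k (Coh.HH X (Coh.structureModule X) 0) ≠ 1) := by
  classical
  haveI := CurveCohLib.isNoetherian_of_proper (k := k) (X := X)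
  haveI := CurveCover.isProper_line k
  haveI := CurveCover.isIntegral_line k
  haveI := CurveCohLib.isNoetherian_of_proper (k := k) (X := CohB1.ProjSpace 1 k)
  obtain ⟨hLi, hdeg, hind⟩ := hL
  obtain ⟨hφk, hα⟩ := hφ
  have hne : s 0 ≠ 0 := fun h0 => by
    have h := hind (Pi.single 0 1) (by
      refine Finset.sum_eq_zero fun i _ => ?_
      by_cases hi : i = 0
      · subst hi; rw [h0, smul_zero]
      · rw [Pi.single_eq_of_ne hi, map_zero, zero_smul])
    exact one_ne_zero ((Pi.single_eq_same (M := fun _ : Fin (1 + 1) => k) 0 1).symm.trans (congrFun h 0))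
  by_cases hp : ∃ p : CohB1.ProjSpace 1 k, IsClosed ({p} : Set (CohB1.ProjSpace 1 k)) ∧ Set.range φ ⊆ {p}
  · refine Or.inr ⟨hp, fun h0 => ?_⟩
    obtain ⟨p, -, hrange⟩ := hp
    obtain ⟨c, ε, hc⟩ := exists_proportional k X h0 φ p hrange
      (fun i => ProjUP.coord 1 k i)
    let t : Γ(L, ⊤) := α.app ⊤ ε
    have hs : ∀ i, s i = (show Γ(X, ⊤) from Coh.toGlobal (X ↘ Spec (CommRingCat.of k)) (c i)) • t := fun i => by
      refine (hα i).symm.trans ?_
      refine Eq.trans (congrArg (α.app ⊤) ?_) (Scheme.Modules.Hom.app_smul α _ _)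
      exact (AModX.res_self _).symm.trans (hc i)
    have h1 := hind ![c 1, -(c 0)] (by
      rw [Fin.sum_univ_two, hs 0, hs 1]
      simp only [Matrix.cons_val_zero, Matrix.cons_val_one, map_neg]
      rw [smul_smul, neg_smul, smul_smul]
      refine (sub_eq_add_neg _ _).symm.trans (sub_eq_zero.2 (congrArg (fun r : Γ(X, ⊤) => r • t) ?_))
      exact mul_comm (G := Γ(X, ⊤)) _ _)
    have hc0 : c 0 = 0 := by simpa using congrFun h1 1
    exact hne (by rw [hs 0, hc0, map_zero, zero_smul])
  · refine Or.inl ⟨hp, ?_⟩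
    have hgen : φ (genericPoint X) = genericPoint (CohB1.ProjSpace 1 k) := by
      by_contra h
      have hcl : IsClosed ({φ (genericPoint X)} : Set (CohB1.ProjSpace 1 k)) := by_contra fun hc =>
        h (CurveCohLib.eq_genericPoint_of_not_isClosed (CurveCover.dim_line k) hc)
      refine hp ⟨_, hcl, ?_⟩
      rintro _ ⟨x, rfl⟩
      exact (((genericPoint_spec X).specializes (Set.mem_univ x)).map φ.continuous).mem_closed hcl rfl
    have hα0 : α ≠ 0 := fun h => hne (by
      rw [← hα 0, h]
      rfl)
    have hle := (CurveDeg.deg_le_and_isIso k hdim.le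
      (PicClLib.isInvertible_pullback φ (CurveCover.isInvertible_twist k 1)) hLi α hα0).1
    rw [DegPull.deg_pullback k hdim (CurveCover.dim_line k) φ hφk hgen
      (InvEnd.isFinLocFreeOfRank_one (CurveCover.isInvertible_twist k 1)), CurveCover.deg_twist_one, mul_one,
      hdeg, Nat.cast_le] at hle
    refine le_of_eq_of_le ?_ hle
    have hb : ∀ {Z : Scheme.{u}} [IsIntegral Z] (z : Z), z = genericPoint Z →
        Function.Bijective (IsLocalRing.residue (Z.presheaf.stalk z)) := fun z hz => by
      subst hz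
      refine ⟨(injective_iff_map_eq_zero _).2 fun a ha => ?_, IsLocalRing.residue_surjective⟩
      rw [IsLocalRing.residue_eq_zero_iff, IsLocalRing.isField_iff_maximalIdeal_eq.1
        CurveBundle.isField_stalk_generic] at ha
      exact ha
    letI := (φ.stalkMap (genericPoint X)).hom.toAlgebra
    letI := (φ.residueFieldMap (genericPoint X)).hom.toAlgebra
    show _ = Module.finrank ((CohB1.ProjSpace 1 k).residueField (φ (genericPoint X))) (X.residueField (genericPoint X))
    refine Algebra.finrank_eq_of_equiv_equiv (RingEquiv.ofBijective _ (hb _ hgen))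
      (RingEquiv.ofBijective _ (hb _ rfl)) ?_
    ext a
    rfl

end Groth.Agent.S6579
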