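import Groth.Statements.S6580
import Mathlib.Tactic.NoncommRing

set_option autoImplicit false
universe v u
open CategoryTheory CategoryTheory.Limits
open CohDer

namespace Groth.Agent.S6580

open CategoryTheory.Pretriangulated in
/-- Let (X, Y, Z, f, g, h) be a distinguished triangle of a pretriangulated category, and let a : X ⟶ X
and c : Z ⟶ Z be idempotents with h ≫ a⟦1⟧ = c ≫ h. Then there is an idempotent b : Y ⟶ Y such that
(a, b, c) is an endomorphism of the triangle. -/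
theorem result {D : Type u} [Category.{v} D] [Preadditive D] [HasZeroObject D] [HasShift D ℤ]
    [∀ n : ℤ, (shiftFunctor D n).Additive] [Pretriangulated D]
    (T : Triangle D) (hT : T ∈ distinguishedTriangles) (a : T.obj₁ ⟶ T.obj₁) (c : T.obj₃ ⟶ T.obj₃)
    (ha : a ≫ a = a) (hc : c ≫ c = c) (comm : T.mor₃ ≫ (shiftFunctor D (1 : ℤ)).map a = c ≫ T.mor₃) :
    ∃ b : T.obj₂ ⟶ T.obj₂, b ≫ b = b ∧ T.mor₁ ≫ b = a ≫ T.mor₁ ∧ T.mor₂ ≫ c = b ≫ T.mor₂ := by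
  obtain ⟨b₀, hb₁, hb₂⟩ := complete_distinguished_triangle_morphism₂ T T hT hT a c comm
  obtain ⟨k, hk⟩ := T.yoneda_exact₂ hT (b₀ ≫ b₀ - b₀) (by
    rw [Preadditive.comp_sub, reassoc_of% hb₁, hb₁, reassoc_of% ha, sub_self])
  obtain ⟨l, hl⟩ := T.coyoneda_exact₂ hT (b₀ ≫ b₀ - b₀) (by
    rw [Preadditive.sub_comp, Category.assoc, ← hb₂, ← reassoc_of% hb₂, hc, sub_self])
  have hd : (b₀ ≫ b₀ - b₀) ≫ (b₀ ≫ b₀ - b₀) = 0 := by
    have h0 : T.mor₁ ≫ T.mor₂ = 0 := comp_distTriang_mor_zero₁₂ _ hT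
    conv_lhs => rw [show (b₀ ≫ b₀ - b₀) ≫ (b₀ ≫ b₀ - b₀) = (l ≫ T.mor₁) ≫ (T.mor₂ ≫ k) from
      congrArg₂ (· ≫ ·) hl hk]
    rw [Category.assoc, reassoc_of% h0, Limits.zero_comp, Limits.comp_zero]
  let B : CategoryTheory.End T.obj₂ := b₀
  have hd' : (B * B - B) * (B * B - B) = 0 := hd
  have hpoly : (3 * B * B - 2 * B * B * B) * (3 * B * B - 2 * B * B * B) - (3 * B * B - 2 * B * B * B)
      = ((B * B - B) * (B * B - B)) * (4 * B * B - 4 * B - 3) := by noncomm_ring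
  rw [hd', zero_mul, sub_eq_zero] at hpoly
  have h3 : (3 : CategoryTheory.End T.obj₂) = 1 + 1 + 1 := by norm_num
  have h2 : (2 : CategoryTheory.End T.obj₂) = 1 + 1 := by norm_num
  refine ⟨(b₀ ≫ b₀ + b₀ ≫ b₀ + b₀ ≫ b₀) - (b₀ ≫ b₀ ≫ b₀ + b₀ ≫ b₀ ≫ b₀), ?_, ?_, ?_⟩
  · have key : (3 * B * B - 2 * B * B * B : CategoryTheory.End T.obj₂) =
        ((b₀ ≫ b₀ + b₀ ≫ b₀ + b₀ ≫ b₀) - (b₀ ≫ b₀ ≫ b₀ + b₀ ≫ b₀ ≫ b₀) : T.obj₂ ⟶ T.obj₂) := by
      have e : (3 * B * B - 2 * B * B * B : CategoryTheory.End T.obj₂)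
          = (B * B + B * B + B * B) - (B * B * B + B * B * B) := by rw [h3, h2]; noncomm_ring
      exact e
    rw [key] at hpoly
    exact hpoly
  · simp only [Preadditive.comp_sub, Preadditive.comp_add, reassoc_of% hb₁, hb₁, reassoc_of% ha]
    abel
  · simp only [Preadditive.sub_comp, Preadditive.add_comp, Category.assoc, ← hb₂,
      ← reassoc_of% hb₂, hc]
    abel

end Groth.Agent.S6580
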