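import Groth.Statements.S6581
import Groth.Agent.TriCat.Sums

set_option autoImplicit false
universe v u
open CategoryTheory CategoryTheory.Limits
open CohDer

namespace Groth.Agent.S6581

open CategoryTheory.Pretriangulated in
/-- Let T = (X, Y, Z, f, g, h) and T' = (X', Y', Z', f', g', h') be triangles in a pretriangulated
category. The direct sum triangle (X ⊞ X', Y ⊞ Y', Z ⊞ Z', f ⊕ f', g ⊕ g', h ⊕ h') (whose third map
Z ⊞ Z' ⟶ (X ⊞ X')⟦1⟧ has components h ≫ inl⟦1⟧ and h' ≫ inr⟦1⟧) is distinguished if and only if T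
and T' are both distinguished. -/
theorem result {D : Type u} [Category.{v} D] [Preadditive D] [HasZeroObject D] [HasShift D ℤ]
    [∀ n : ℤ, (shiftFunctor D n).Additive] [Pretriangulated D]
    (T T' : Triangle D) :
    Triangle.mk (biprod.map T.mor₁ T'.mor₁) (biprod.map T.mor₂ T'.mor₂)
        (biprod.desc (T.mor₃ ≫ (shiftFunctor D (1 : ℤ)).map biprod.inl) (T'.mor₃ ≫ (shiftFunctor D (1 : ℤ)).map biprod.inr)) ∈ distinguishedTriangles ↔
      (T ∈ distinguishedTriangles ∧ T' ∈ distinguishedTriangles) := by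
  exact Groth.Agent.TriCat.biprodTriangle_distinguished_iff T T'

end Groth.Agent.S6581
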