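import Groth.Statements.S6585
import Mathlib.CategoryTheory.Triangulated.Orthogonal


set_option autoImplicit false
universe v u
open CategoryTheory CategoryTheory.Limits
open CohDer

namespace Groth.Agent.S6585

open CategoryTheory.Pretriangulated in
/-- Let D be a triangulated category and E, K objects of D. Then Hom(E, K⟦i⟧) = 0 for all integers i if
and only if Hom(E', K) = 0 for every E' in ⟨E⟩, the smallest strictly full saturated triangulated
subcategory of D containing E (the objects obtained from E by shifts, finite direct sums, direct
summands and extensions). -/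
theorem result {D : Type u} [Category.{v} D] [Preadditive D] [HasZeroObject D] [HasShift D ℤ]
    [∀ n : ℤ, (shiftFunctor D n).Additive] [Pretriangulated D] [IsTriangulated D]
    (E K : D) :
    (∀ (i : ℤ) (f : E ⟶ (shiftFunctor D i).obj K), f = 0) ↔
      ∀ (E' : D), (ObjectProperty.singleton E).triangEnvelope E' → ∀ f : E' ⟶ K, f = 0 := by
  constructor
  · intro h E' hE'
    have hle : (ObjectProperty.singleton E).triangEnvelope ≤ (fun E' : D => ∀ (i : ℤ) (f : E' ⟶ (shiftFunctor D i).obj K), f = 0) := by
      let P : ObjectProperty D := fun E' => ∀ (i : ℤ) (f : E' ⟶ (shiftFunctor D i).obj K), f = 0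
      have eP : P = ObjectProperty.leftOrthogonal (ObjectProperty.ofObj fun i : ℤ => (shiftFunctor D i).obj K) := by
        ext X
        constructor
        · rintro hX Y f ⟨i⟩; exact hX i f
        · intro hX i f; exact hX f (ObjectProperty.ofObj_apply _ i)
      change _ ≤ P
      haveI hs : P.IsStableUnderShift ℤ := ⟨fun n => ⟨fun X hX i f => by
        apply (shiftFunctor D (-n)).map_injective
        rw [Functor.map_zero]
        have := hX (i + -n) (((shiftFunctorCompIsoId D n (-n) (add_neg_cancel n)).app X).inv ≫
          (shiftFunctor D (-n)).map f ≫ ((shiftFunctorAdd D i (-n)).app K).inv)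
        rw [← cancel_epi ((shiftFunctorCompIsoId D n (-n) (add_neg_cancel n)).app X).inv,
          ← cancel_mono ((shiftFunctorAdd D i (-n)).app K).inv, Category.assoc, this]
        simp⟩⟩
      haveI : P.IsTriangulatedClosed₂ := eP ▸ inferInstance
      haveI : P.IsClosedUnderIsomorphisms := eP ▸ inferInstance
      haveI : P.IsTriangulated :=
        { exists_zero := ⟨_, Classical.choose_spec HasZeroObject.zero, fun i f => (Classical.choose_spec HasZeroObject.zero).eq_zero_of_src f⟩ }
      haveI : P.IsStableUnderRetracts := ⟨fun r hY i f => by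
        rw [← Category.id_comp f, ← r.retract, Category.assoc, hY i (r.r ≫ f), comp_zero]⟩
      rw [ObjectProperty.triangEnvelope_le_iff]
      rintro _ ⟨⟩
      exact h
    intro f
    have := hle E' hE' 0 (f ≫ ((shiftFunctorZero D ℤ).app K).inv)
    rwa [← cancel_mono ((shiftFunctorZero D ℤ).app K).inv, zero_comp]
  · intro h i f
    have hE : (ObjectProperty.singleton E).triangEnvelope ((shiftFunctor D (-i)).obj E) :=
      (ObjectProperty.singleton E).triangEnvelope.le_shift (-i) _
        (ObjectProperty.le_triangEnvelope _ _ ⟨⟨⟩⟩)
    have := h _ hE ((shiftFunctor D (-i)).map f ≫ ((shiftFunctorCompIsoId D i (-i) (add_neg_cancel i)).app K).hom)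
    apply (shiftFunctor D (-i)).map_injective
    rwa [Functor.map_zero, ← cancel_mono ((shiftFunctorCompIsoId D i (-i) (add_neg_cancel i)).app K).hom, zero_comp]

end Groth.Agent.S6585
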