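import Groth.Statements.S6586
import Mathlib.CategoryTheory.Triangulated.Orthogonal

set_option autoImplicit false
universe v u
open CategoryTheory CategoryTheory.Limits
open CohDer

namespace Groth.Agent.S6586

/-- Fix a triangulated category D together with an object E in it. Suppose E classically generates D,
i.e. ⟨E⟩ = D; then E is a generator of D: an object K with Hom(E, K⟦n⟧) = 0 for all n is zero. -/
theorem result {D : Type u} [Category.{v} D] [Preadditive D] [HasZeroObject D] [HasShift D ℤ]
    [∀ n : ℤ, (shiftFunctor D n).Additive] [Pretriangulated D] [IsTriangulated D]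
    (E : D) (hE : (ObjectProperty.singleton E).IsClassicalTriangulatedGenerator) :
    CohDer.Generates (fun _ : PUnit.{1} => E) := by
  intro K hK
  have h₀ : ObjectProperty.singleton E ≤ fun E' => ∀ (i : ℤ) (f : E' ⟶ (shiftFunctor D i).obj K), f = 0 := by
    rintro _ ⟨⟩ i f
    exact hK ⟨⟩ i f
  haveI hs : ObjectProperty.IsStableUnderShift (fun E' : D => ∀ (i : ℤ) (f : E' ⟶ (shiftFunctor D i).obj K), f = 0) ℤ :=
    ⟨fun n => ⟨fun X hX i f => by
      apply (shiftFunctor D (-n)).map_injective
      rw [Functor.map_zero]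
      have := hX (i + -n) (((shiftFunctorCompIsoId D n (-n) (add_neg_cancel n)).app X).inv ≫
        (shiftFunctor D (-n)).map f ≫ ((shiftFunctorAdd D i (-n)).app K).inv)
      rw [← cancel_epi ((shiftFunctorCompIsoId D n (-n) (add_neg_cancel n)).app X).inv,
        ← cancel_mono ((shiftFunctorAdd D i (-n)).app K).inv, Category.assoc, this]
      simp⟩⟩
  haveI : ObjectProperty.IsTriangulated (fun E' : D => ∀ (i : ℤ) (f : E' ⟶ (shiftFunctor D i).obj K), f = 0) :=
    { exists_zero := ⟨_, Classical.choose_spec HasZeroObject.zero, fun i f => (Classical.choose_spec HasZeroObject.zero).eq_zero_of_src f⟩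
      toIsTriangulatedClosed₂ := ⟨fun T hT h₁ h₃ => ⟨T.obj₂, fun i f => by
        obtain ⟨g, hg⟩ := Pretriangulated.Triangle.yoneda_exact₂ _ hT f (h₁ i _)
        rw [hg, h₃ i g, comp_zero], ⟨Iso.refl _⟩⟩⟩ }
  haveI : ObjectProperty.IsStableUnderRetracts (fun E' : D => ∀ (i : ℤ) (f : E' ⟶ (shiftFunctor D i).obj K), f = 0) :=
    ⟨fun r hY i f => by rw [← Category.id_comp f, ← r.retract, Category.assoc, hY i (r.r ≫ f), comp_zero]⟩
  have h := (ObjectProperty.triangEnvelope_le_iff _).2 h₀ K (by rw [hE]; trivial) 0 ((shiftFunctorZero D ℤ).app K).inv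
  rw [IsZero.iff_id_eq_zero]
  exact (Iso.inv_hom_id ((shiftFunctorZero D ℤ).app K)).symm.trans
    ((congrArg (· ≫ ((shiftFunctorZero D ℤ).app K).hom) h).trans zero_comp)

end Groth.Agent.S6586
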