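import Groth.Statements.S6589
import Groth.Agent.TowerLib.ProIso

set_option autoImplicit false
universe w v u
open CategoryTheory CategoryTheory.Limits Opposite
open CohDer

namespace Groth.Agent.S6589

/-- Let A be an abelian category and (X_n) an ℕ-indexed inverse system of objects of D(A). Assume (1)
there are a ≤ b with Hⁱ(X_n) = 0 for all n and all i outside [a, b], and (2) for every i the inverse
system Hⁱ(X_n) of A is essentially constant. Then (X_n) is an essentially constant inverse system of
D(A). (The published statement also identifies Hⁱ of the value with the value of the system Hⁱ(X_n);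
this row does not assert that identification.) -/
theorem result {A : Type u} [Category.{v} A] [Abelian A] [HasDerivedCategory.{w} A]
    (X : ARSys.PS (DerivedCategory A)) (a b : ℤ) (hab : a ≤ b)
    (hX : ∀ (n : ℕ) (i : ℤ), i < a ∨ b < i → IsZero ((DerivedCategory.homologyFunctor A i).obj (X.obj (op n))))
    (hH : ∀ i : ℤ, ∃ (B : A) (c : (Functor.const ℕᵒᵖ).obj B ⟶ X ⋙ DerivedCategory.homologyFunctor A i),
      DerCA.IsEssConstant (X ⋙ DerivedCategory.homologyFunctor A i) B c) :
    ∃ (L : DerivedCategory A) (c : (Functor.const ℕᵒᵖ).obj L ⟶ X), DerCA.IsEssConstant X L c := by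
  exact Groth.Agent.TowerLib.Amplitude.essConstant a (b - a).toNat X (fun n i hi => hX n i (by omega)) hH

end Groth.Agent.S6589
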