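import Groth.Statements.S6594


set_option autoImplicit false
universe v u
open CategoryTheory CategoryTheory.Limits
open CohDer

namespace Groth.Agent.S6594

open CategoryTheory.Pretriangulated in
/-- (1) ⇔ (3): let D be a pretriangulated category and f : X ⟶ Y a morphism. Then f has a kernel if and
only if f is isomorphic to a composite K ⊞ Z → Z → Z ⊞ Q of a projection and a coprojection for some
objects K, Z, Q. -/
theorem result {D : Type u} [Category.{v} D] [Preadditive D] [HasZeroObject D] [HasShift D ℤ]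
    [∀ n : ℤ, (shiftFunctor D n).Additive] [Pretriangulated D]
    {X Y : D} (f : X ⟶ Y) :
    HasKernel f ↔ ∃ (K Z Q : D) (e₁ : X ≅ K ⊞ Z) (e₂ : Y ≅ Z ⊞ Q),
      f = e₁.hom ≫ biprod.snd ≫ biprod.inl ≫ e₂.inv := by
  constructor
  · intro hk
    let K := kernel f
    obtain ⟨Z, g, δ, hT⟩ := distinguished_cocone_triangle (kernel.ι f)
    have hδ : δ = 0 := Triangle.mor₃_eq_zero_of_mono₁ _ hT (inferInstanceAs (Mono (kernel.ι f)))
    obtain ⟨e₁, he₁, he₁'⟩ := exists_iso_binaryBiproduct_of_distTriang _ hT hδ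
    obtain ⟨fb, hfb⟩ : ∃ fb : Z ⟶ Y, f = g ≫ fb :=
      Triangle.yoneda_exact₂ _ hT f (kernel.condition f)
    have hm : Mono fb := by
      refine Preadditive.mono_of_cancel_zero _ fun {W} u hu => ?_
      obtain ⟨u', hu'⟩ : ∃ u' : W ⟶ X, u = u' ≫ g :=
        Triangle.coyoneda_exact₃ _ hT u (show u ≫ δ = 0 by rw [hδ, comp_zero])
      have h0 : u' ≫ f = 0 := by rw [hfb, ← Category.assoc, ← hu', hu]
      have hgk : kernel.ι f ≫ g = 0 := comp_distTriang_mor_zero₁₂ _ hT
      rw [hu', ← kernel.lift_ι f u' h0, Category.assoc, hgk, comp_zero]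
    obtain ⟨Q, q, δ', hT'⟩ := distinguished_cocone_triangle fb
    obtain ⟨e₂, he₂, -⟩ := exists_iso_binaryBiproduct_of_distTriang _ hT'
      (Triangle.mor₃_eq_zero_of_mono₁ _ hT' hm)
    let e₁' : X ≅ kernel f ⊞ Z := e₁
    let e₂' : Y ≅ Z ⊞ Q := e₂
    refine ⟨kernel f, Z, Q, e₁', e₂', ?_⟩
    have h1 : fb ≫ e₂'.hom = biprod.inl := he₂
    have h2 : g = e₁'.hom ≫ biprod.snd := he₁'
    refine hfb.trans ?_
    rw [h2, ← h1, Category.assoc, Category.assoc, Iso.hom_inv_id, Category.comp_id]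
  · rintro ⟨K, Z, Q, e₁, e₂, rfl⟩
    refine HasLimit.mk ⟨_, KernelFork.IsLimit.ofι (biprod.inl ≫ e₁.inv) (by simp) (fun k _ => k ≫ e₁.hom ≫ biprod.fst) ?_ ?_⟩
    · intro W k hk
      have h0 : (k ≫ e₁.hom ≫ biprod.snd) ≫ biprod.inl ≫ e₂.inv = 0 := by simpa using hk
      have : k ≫ e₁.hom ≫ biprod.snd = 0 := by
        have := congrArg (fun m => m ≫ e₂.hom ≫ biprod.fst) h0
        simpa using this
      rw [← cancel_mono e₁.hom]
      apply biprod.hom_ext <;> simp [this]
    · intro W k hk m hm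
      rw [← hm]
      simp

end Groth.Agent.S6594
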