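import Groth.Statements.S6598
import Mathlib.Algebra.Homology.HomotopyCategory.MappingCone
import Mathlib.Algebra.Homology.HomologicalComplexBiprod
import Mathlib.Algebra.Homology.Embedding.CochainComplex

set_option autoImplicit false
universe v u
open CategoryTheory CategoryTheory.Limits
open CohDer

namespace Groth.Agent.S6598

/-- Let α : K ⟶ L be a morphism of cochain complexes over an additive category. There is a factorization
K ⟶ L' ⟶ L of α such that (1) K ⟶ L' is a termwise split injection (in each degree isomorphic to the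
inclusion of a direct summand) and (2) L' ⟶ L admits a section s : L ⟶ L' (s followed by L' ⟶ L is
the identity) such that L' ⟶ L followed by s is homotopic to the identity of L'. Moreover if K and L
are both bounded below, resp. both bounded above, then L' may be chosen bounded below, resp. bounded
above. -/
theorem result {V : Type u} [Category.{v} V] [Preadditive V] [HasBinaryBiproducts V] [HasZeroObject V]
    (K L : CochainComplex V ℤ) (α : K ⟶ L) :
    ∃ (L' : CochainComplex V ℤ) (α' : K ⟶ L') (π : L' ⟶ L) (s : L ⟶ L'),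
      α' ≫ π = α ∧ s ≫ π = 𝟙 L ∧ Nonempty (Homotopy (π ≫ s) (𝟙 L')) ∧
      (∀ n : ℤ, ∃ (C : V) (e : L'.X n ≅ K.X n ⊞ C), α'.f n ≫ e.hom = biprod.inl) ∧
      (∀ a : ℤ, K.IsStrictlyGE a → L.IsStrictlyGE a → ∃ a' : ℤ, L'.IsStrictlyGE a') ∧
      (∀ a : ℤ, K.IsStrictlyLE a → L.IsStrictlyLE a → ∃ a' : ℤ, L'.IsStrictlyLE a') := by
  let C := CochainComplex.mappingCone (𝟙 K)
  let h₀ : Homotopy (𝟙 C) 0 :=
    CochainComplex.mappingCone.liftHomotopy _ _ _ (CochainComplex.mappingCone.snd _) 0 (by simp [C]) (by simp [C])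
  let α' : K ⟶ L ⊞ C := biprod.lift α (CochainComplex.mappingCone.inr (𝟙 K))
  let hh : Homotopy ((biprod.fst : L ⊞ C ⟶ L) ≫ biprod.inl) (𝟙 (L ⊞ C)) :=
    ((Homotopy.ofEq (biprod.total (X := L) (Y := C)).symm).trans
      (((Homotopy.refl ((biprod.fst : L ⊞ C ⟶ L) ≫ (biprod.inl : L ⟶ L ⊞ C))).add
        ((Homotopy.ofEq (by simp : (biprod.snd : L ⊞ C ⟶ C) ≫ biprod.inr = biprod.snd ≫ 𝟙 C ≫ biprod.inr)).trans
          ((((h₀.compRight (biprod.inr : C ⟶ L ⊞ C))).compLeft (biprod.snd : L ⊞ C ⟶ C)).trans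
            (Homotopy.ofEq (by simp : (biprod.snd : L ⊞ C ⟶ C) ≫ (0 : C ⟶ C) ≫ biprod.inr = (0 : L ⊞ C ⟶ L ⊞ C)))))).trans
        (Homotopy.ofEq (add_zero _)))).symm
  have hC : ∀ n, IsZero (L.X n) → IsZero (K.X n) → IsZero (K.X (n + 1)) → IsZero ((L ⊞ C).X n) := fun n h1 h2 h3 => by
    refine IsZero.of_iso ?_ ((HomologicalComplex.eval V (ComplexShape.up ℤ) n).mapBiprod L C)
    rw [biprod_isZero_iff]
    refine ⟨h1, IsZero.of_iso ?_ (HomologicalComplex.homotopyCofiber.XIsoBiprod (𝟙 K) n (n + 1) rfl)⟩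
    rw [biprod_isZero_iff]
    exact ⟨h3, h2⟩
  refine ⟨L ⊞ C, α', biprod.fst, biprod.inl, biprod.lift_fst _ _, biprod.inl_fst, ⟨hh⟩, fun n => ?_, ?_, ?_⟩
  · let s₂ : (L ⊞ C).X n ⟶ K.X n := (biprod.snd : L ⊞ C ⟶ C).f n ≫ (CochainComplex.mappingCone.snd (𝟙 K)).v n n (add_zero n)
    let s₁ : (L ⊞ C).X n ⟶ K.X (n + 1) := (biprod.snd : L ⊞ C ⟶ C).f n ≫ (CochainComplex.mappingCone.fst (𝟙 K)).1.v n (n + 1) rfl
    let i₁ : K.X (n + 1) ⟶ (L ⊞ C).X n :=
      (CochainComplex.mappingCone.inl (𝟙 K)).v (n + 1) n (by omega) ≫ (biprod.inr : C ⟶ L ⊞ C).f n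
    have e1 : α'.f n ≫ (biprod.fst : L ⊞ C ⟶ L).f n = α.f n := by rw [← HomologicalComplex.comp_f, biprod.lift_fst]
    have e2 : α'.f n ≫ (biprod.snd : L ⊞ C ⟶ C).f n = (CochainComplex.mappingCone.inr (𝟙 K)).f n := by
      rw [← HomologicalComplex.comp_f, biprod.lift_snd]
    have e3 : (biprod.inl : L ⟶ L ⊞ C).f n ≫ (biprod.fst : L ⊞ C ⟶ L).f n = 𝟙 _ := by
      rw [← HomologicalComplex.comp_f, biprod.inl_fst, HomologicalComplex.id_f]
    have e4 : (biprod.inl : L ⟶ L ⊞ C).f n ≫ (biprod.snd : L ⊞ C ⟶ C).f n = 0 := by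
      rw [← HomologicalComplex.comp_f, biprod.inl_snd, HomologicalComplex.zero_f]
    have e5 : (biprod.inr : C ⟶ L ⊞ C).f n ≫ (biprod.fst : L ⊞ C ⟶ L).f n = 0 := by
      rw [← HomologicalComplex.comp_f, biprod.inr_fst, HomologicalComplex.zero_f]
    have e6 : (biprod.inr : C ⟶ L ⊞ C).f n ≫ (biprod.snd : L ⊞ C ⟶ C).f n = 𝟙 _ := by
      rw [← HomologicalComplex.comp_f, biprod.inr_snd, HomologicalComplex.id_f]
    refine ⟨L.X n ⊞ K.X (n + 1),
      { hom := biprod.lift s₂ (biprod.lift ((biprod.fst : L ⊞ C ⟶ L).f n - s₂ ≫ α.f n) s₁)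
        inv := biprod.desc (α'.f n) (biprod.desc ((biprod.inl : L ⟶ L ⊞ C).f n) i₁)
        hom_inv_id := ?_
        inv_hom_id := ?_ }, ?_⟩
    · have t1 : 𝟙 ((L ⊞ C).X n) = (biprod.fst : L ⊞ C ⟶ L).f n ≫ (biprod.inl : L ⟶ L ⊞ C).f n +
          (biprod.snd : L ⊞ C ⟶ C).f n ≫ (biprod.inr : C ⟶ L ⊞ C).f n := by
        rw [← HomologicalComplex.comp_f, ← HomologicalComplex.comp_f, ← HomologicalComplex.add_f_apply, biprod.total,
          HomologicalComplex.id_f]
      have t2 : α'.f n = α.f n ≫ (biprod.inl : L ⟶ L ⊞ C).f n +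
          (CochainComplex.mappingCone.inr (𝟙 K)).f n ≫ (biprod.inr : C ⟶ L ⊞ C).f n := by
        rw [← e1, ← e2, Category.assoc, Category.assoc, ← Preadditive.comp_add, ← t1, Category.comp_id]
      have t3 := CochainComplex.mappingCone.id_X (𝟙 K) n (n + 1) rfl
      rw [biprod.lift_desc, biprod.lift_desc, t1, t2]
      conv_rhs => rw [← Category.comp_id ((biprod.snd : L ⊞ C ⟶ C).f n), ← t3]
      simp only [s₁, s₂, i₁, Preadditive.sub_comp, Preadditive.comp_add, Preadditive.add_comp, Category.assoc]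
      abel
    · ext <;> simp [s₁, s₂, i₁, e1, reassoc_of% e2, e3, reassoc_of% e4, e5, reassoc_of% e6]
    · ext <;> simp [s₁, s₂, e1, reassoc_of% e2]
  · intro a hK hL
    refine ⟨a - 1, (CochainComplex.isStrictlyGE_iff _ _).2 fun i hi => ?_⟩
    exact hC i (L.isZero_of_isStrictlyGE a _ (by omega)) (K.isZero_of_isStrictlyGE a _ (by omega))
      (K.isZero_of_isStrictlyGE a _ (by omega))
  · intro a hK hL
    refine ⟨a, (CochainComplex.isStrictlyLE_iff _ _).2 fun i hi => ?_⟩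
    exact hC i (L.isZero_of_isStrictlyLE a _ (by omega)) (K.isZero_of_isStrictlyLE a _ (by omega))
      (K.isZero_of_isStrictlyLE a _ (by omega))

end Groth.Agent.S6598
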