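import Groth.Statements.S6599
import Mathlib.Algebra.Homology.HomotopyCategory.Pretriangulated
import Mathlib.Algebra.Homology.HomologicalComplexBiprod
import Mathlib.Algebra.Homology.Embedding.CochainComplex

set_option autoImplicit false
universe v u
open CategoryTheory CategoryTheory.Limits
open CohDer

namespace Groth.Agent.S6599

/-- Let α : K ⟶ L be a morphism of cochain complexes over an additive category. There is a factorization
K ⟶ K' ⟶ L of α such that (1) K' ⟶ L is a termwise split surjection (in each degree isomorphic to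
the projection onto a direct summand) and (2) K ⟶ K' admits a retraction s : K' ⟶ K (K ⟶ K' followed
by s is the identity) such that s followed by K ⟶ K' is homotopic to the identity of K'. Moreover if
K and L are both bounded below, resp. both bounded above, then K' may be chosen bounded below, resp.
bounded above. -/
theorem result {V : Type u} [Category.{v} V] [Preadditive V] [HasBinaryBiproducts V] [HasZeroObject V]
    (K L : CochainComplex V ℤ) (α : K ⟶ L) :
    ∃ (K' : CochainComplex V ℤ) (i : K ⟶ K') (α' : K' ⟶ L) (s : K' ⟶ K),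
      i ≫ α' = α ∧ i ≫ s = 𝟙 K ∧ Nonempty (Homotopy (s ≫ i) (𝟙 K')) ∧
      (∀ n : ℤ, ∃ (C : V) (e : K'.X n ≅ C ⊞ L.X n), e.inv ≫ α'.f n = biprod.snd) ∧
      (∀ a : ℤ, K.IsStrictlyGE a → L.IsStrictlyGE a → ∃ a' : ℤ, K'.IsStrictlyGE a') ∧
      (∀ a : ℤ, K.IsStrictlyLE a → L.IsStrictlyLE a → ∃ a' : ℤ, K'.IsStrictlyLE a') := by
  let L₁ : CochainComplex V ℤ := (CategoryTheory.shiftFunctor (CochainComplex V ℤ) (-1 : ℤ)).obj L
  let C := CochainComplex.mappingCone (𝟙 L₁)
  let h₀ : Homotopy (𝟙 C) 0 :=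
    CochainComplex.mappingCone.liftHomotopy _ _ _ (CochainComplex.mappingCone.snd _) 0 (by simp [C]) (by simp [C])
  let eL : (CategoryTheory.shiftFunctor (CochainComplex V ℤ) (1 : ℤ)).obj L₁ ≅ L :=
    (shiftFunctorCompIsoId (CochainComplex V ℤ) (-1 : ℤ) (1 : ℤ) (by omega)).app L
  let pr : C ⟶ L := CochainComplex.HomComplex.Cocycle.homOf ((-CochainComplex.mappingCone.fst (𝟙 L₁)).rightShift 1 0 (zero_add 1)) ≫ eL.hom
  let α' : K ⊞ C ⟶ L := biprod.desc α pr
  let hh : Homotopy ((biprod.fst : K ⊞ C ⟶ K) ≫ biprod.inl) (𝟙 (K ⊞ C)) :=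
    ((Homotopy.ofEq (biprod.total (X := K) (Y := C)).symm).trans
      (((Homotopy.refl ((biprod.fst : K ⊞ C ⟶ K) ≫ (biprod.inl : K ⟶ K ⊞ C))).add
        ((Homotopy.ofEq (by simp : (biprod.snd : K ⊞ C ⟶ C) ≫ biprod.inr = biprod.snd ≫ 𝟙 C ≫ biprod.inr)).trans
          ((((h₀.compRight (biprod.inr : C ⟶ K ⊞ C))).compLeft (biprod.snd : K ⊞ C ⟶ C)).trans
            (Homotopy.ofEq (by simp : (biprod.snd : K ⊞ C ⟶ C) ≫ (0 : C ⟶ C) ≫ biprod.inr = (0 : K ⊞ C ⟶ K ⊞ C)))))).trans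
        (Homotopy.ofEq (add_zero _)))).symm
  have hC : ∀ n, IsZero (K.X n) → IsZero (L.X n) → IsZero (L.X (n - 1)) → IsZero ((K ⊞ C).X n) := fun n h1 h2 h3 => by
    refine IsZero.of_iso ?_ ((HomologicalComplex.eval V (ComplexShape.up ℤ) n).mapBiprod K C)
    rw [biprod_isZero_iff]
    refine ⟨h1, IsZero.of_iso ?_ (HomologicalComplex.homotopyCofiber.XIsoBiprod (𝟙 L₁) n (n + 1) rfl)⟩
    rw [biprod_isZero_iff]
    exact ⟨h2.of_iso (L.shiftFunctorObjXIso (-1) (n + 1) n (by omega)),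
      h3.of_iso (L.shiftFunctorObjXIso (-1) n (n - 1) (by omega))⟩
  refine ⟨K ⊞ C, biprod.inl, α', biprod.fst, biprod.inl_desc _ _, biprod.inl_fst, ⟨hh⟩, fun n => ?_, ?_, ?_⟩
  · let π : L₁.X (n + 1) ≅ L.X n :=
      (L₁.shiftFunctorObjXIso 1 n (n + 1) rfl).symm ≪≫ (HomologicalComplex.eval V (ComplexShape.up ℤ) n).mapIso eL
    have hpr : pr.f n = (CochainComplex.mappingCone.fst (𝟙 L₁)).1.v n (n + 1) rfl ≫ (-π.hom) := by
      rw [CochainComplex.mappingCone.ext_from_iff _ (n + 1) n rfl]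
      have e : pr.f n = ((-CochainComplex.mappingCone.fst (𝟙 L₁)).1.rightShift 1 0 (zero_add 1)).v n n (add_zero n) ≫ eL.hom.f n := rfl
      rw [e, CochainComplex.HomComplex.Cochain.rightShift_v _ 1 0 (zero_add 1) n n (add_zero n) (n + 1) rfl]
      constructor <;> simp [π] <;> erw [Category.comp_id, Preadditive.neg_comp, Preadditive.comp_neg] <;> simp <;> erw [Category.id_comp]
    let t : L.X n ⟶ (K ⊞ C).X n :=
      (-π.inv) ≫ (CochainComplex.mappingCone.inl (𝟙 L₁)).v (n + 1) n (by omega) ≫ (biprod.inr : C ⟶ K ⊞ C).f n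
    have e1 : (biprod.inl : K ⟶ K ⊞ C).f n ≫ α'.f n = α.f n := by rw [← HomologicalComplex.comp_f, biprod.inl_desc]
    have e2 : (biprod.inr : C ⟶ K ⊞ C).f n ≫ α'.f n = pr.f n := by rw [← HomologicalComplex.comp_f, biprod.inr_desc]
    have e3 : (biprod.inl : K ⟶ K ⊞ C).f n ≫ (biprod.fst : K ⊞ C ⟶ K).f n = 𝟙 _ := by
      rw [← HomologicalComplex.comp_f, biprod.inl_fst, HomologicalComplex.id_f]
    have e4 : (biprod.inl : K ⟶ K ⊞ C).f n ≫ (biprod.snd : K ⊞ C ⟶ C).f n = 0 := by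
      rw [← HomologicalComplex.comp_f, biprod.inl_snd, HomologicalComplex.zero_f]
    have e5 : (biprod.inr : C ⟶ K ⊞ C).f n ≫ (biprod.fst : K ⊞ C ⟶ K).f n = 0 := by
      rw [← HomologicalComplex.comp_f, biprod.inr_fst, HomologicalComplex.zero_f]
    have e6 : (biprod.inr : C ⟶ K ⊞ C).f n ≫ (biprod.snd : K ⊞ C ⟶ C).f n = 𝟙 _ := by
      rw [← HomologicalComplex.comp_f, biprod.inr_snd, HomologicalComplex.id_f]
    refine ⟨K.X n ⊞ L₁.X n,
      { hom := biprod.lift (biprod.lift ((biprod.fst : K ⊞ C ⟶ K).f n)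
            ((biprod.snd : K ⊞ C ⟶ C).f n ≫ (CochainComplex.mappingCone.snd (𝟙 L₁)).v n n (add_zero n))) (α'.f n)
        inv := biprod.desc (biprod.desc ((biprod.inl : K ⟶ K ⊞ C).f n - α.f n ≫ t)
            ((CochainComplex.mappingCone.inr (𝟙 L₁)).f n ≫ (biprod.inr : C ⟶ K ⊞ C).f n)) t
        hom_inv_id := ?_
        inv_hom_id := ?_ }, ?_⟩
    · have t1 : 𝟙 ((K ⊞ C).X n) = (biprod.fst : K ⊞ C ⟶ K).f n ≫ (biprod.inl : K ⟶ K ⊞ C).f n +
          (biprod.snd : K ⊞ C ⟶ C).f n ≫ (biprod.inr : C ⟶ K ⊞ C).f n := by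
        rw [← HomologicalComplex.comp_f, ← HomologicalComplex.comp_f, ← HomologicalComplex.add_f_apply, biprod.total,
          HomologicalComplex.id_f]
      have t2 : α'.f n = (biprod.fst : K ⊞ C ⟶ K).f n ≫ α.f n + (biprod.snd : K ⊞ C ⟶ C).f n ≫ pr.f n := by
        rw [← Category.id_comp (α'.f n), t1, Preadditive.add_comp, Category.assoc, Category.assoc, e1, e2]
      have t3 := CochainComplex.mappingCone.id_X (𝟙 L₁) n (n + 1) rfl
      rw [biprod.lift_desc, biprod.lift_desc, t1, t2, hpr]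
      conv_rhs => rw [← Category.comp_id ((biprod.snd : K ⊞ C ⟶ C).f n), ← t3]
      simp only [t, Preadditive.comp_sub, Preadditive.comp_add, Preadditive.add_comp, Category.assoc, Preadditive.neg_comp,
        Preadditive.comp_neg, neg_neg, π.hom_inv_id_assoc]
      abel
    · ext <;> simp [t, e1, e2, hpr, e3, reassoc_of% e4, e5, reassoc_of% e6]
    · ext <;> simp [t, e1, e2, hpr]
  · intro a hK hL
    refine ⟨a, (CochainComplex.isStrictlyGE_iff _ _).2 fun i hi => ?_⟩
    exact hC i (K.isZero_of_isStrictlyGE a _ (by omega)) (L.isZero_of_isStrictlyGE a _ (by omega))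
      (L.isZero_of_isStrictlyGE a _ (by omega))
  · intro a hK hL
    refine ⟨a + 1, (CochainComplex.isStrictlyLE_iff _ _).2 fun i hi => ?_⟩
    exact hC i (K.isZero_of_isStrictlyLE a _ (by omega)) (L.isZero_of_isStrictlyLE a _ (by omega))
      (L.isZero_of_isStrictlyLE a _ (by omega))

end Groth.Agent.S6599
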