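import Groth.Statements.S6600
import Mathlib.CategoryTheory.Triangulated.Orthogonal

set_option autoImplicit false
universe v u
open CategoryTheory CategoryTheory.Limits
open CohDer

namespace Groth.Agent.S6600

open CategoryTheory.Pretriangulated in
/-- Let D be a triangulated category, A ⊂ D a full subcategory invariant under all shifts, and X → Y → Z
→ X⟦1⟧ a distinguished triangle. Then Z lies in the right orthogonal A^⊥ if and only if Hom(A, X) →
Hom(A, Y) is bijective for every object A of A. -/
theorem result {D : Type u} [Category.{v} D] [Preadditive D] [HasZeroObject D] [HasShift D ℤ]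
    [∀ n : ℤ, (shiftFunctor D n).Additive] [Pretriangulated D] [IsTriangulated D]
    (P : ObjectProperty D) [P.IsStableUnderShift ℤ] (T : Triangle D) (hT : T ∈ distinguishedTriangles) :
    P.rightOrthogonal T.obj₃ ↔ ∀ A : D, P A → Function.Bijective (fun u : A ⟶ T.obj₁ => u ≫ T.mor₁) := by
  constructor
  · intro h A hA
    refine ⟨fun u u' e => ?_, fun g => ?_⟩
    · rw [← sub_eq_zero]
      have e' : (u - u') ≫ T.mor₁ = 0 := by rw [Preadditive.sub_comp, sub_eq_zero]; exact e
      obtain ⟨a, ha⟩ := Triangle.coyoneda_exact₂ T.invRotate (inv_rot_of_distTriang _ hT) _ e'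
      rw [ha]
      have : a = 0 := (P.rightOrthogonal.le_shift (-1 : ℤ) _ h) a hA
      rw [this]; exact zero_comp
    · obtain ⟨a, ha⟩ := Triangle.coyoneda_exact₂ _ hT g (h _ hA)
      exact ⟨a, ha.symm⟩
  · intro h A f hA
    have h1 : f ≫ T.mor₃ = 0 := by
      let e := (shiftFunctorCompIsoId D (-1 : ℤ) 1 (by omega)).app A
      obtain ⟨v, hv⟩ : ∃ v, (shiftFunctor D (1 : ℤ)).map v = e.hom ≫ f ≫ T.mor₃ :=
        (shiftFunctor D (1 : ℤ)).map_surjective _
      have h2 : v ≫ T.mor₁ = 0 := (shiftFunctor D (1 : ℤ)).map_injective (by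
        rw [Functor.map_comp, hv, Functor.map_zero, Category.assoc, Category.assoc,
          comp_distTriang_mor_zero₃₁ _ hT, comp_zero, comp_zero])
      have : v = 0 := (h _ (P.le_shift (-1 : ℤ) _ hA)).1 (h2.trans zero_comp.symm)
      rw [this, Functor.map_zero] at hv
      exact (cancel_epi e.hom).1 (hv.symm.trans comp_zero.symm)
    obtain ⟨a, ha⟩ := Triangle.coyoneda_exact₃ _ hT f h1
    obtain ⟨b, rfl⟩ := (h A hA).2 a
    rw [ha, Category.assoc, comp_distTriang_mor_zero₁₂ _ hT, comp_zero]

end Groth.Agent.S6600
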