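import Groth.Statements.S6601
import Mathlib.CategoryTheory.Triangulated.Orthogonal

set_option autoImplicit false
universe v u
open CategoryTheory CategoryTheory.Limits
open CohDer

namespace Groth.Agent.S6601

open CategoryTheory.Pretriangulated in
/-- Let D be a triangulated category, B ⊂ D a full subcategory invariant under all shifts, and X → Y → Z
→ X⟦1⟧ a distinguished triangle. Then X lies in the left orthogonal ^⊥B if and only if Hom(Z, B) →
Hom(Y, B) is bijective for every object B of B. -/
theorem result {D : Type u} [Category.{v} D] [Preadditive D] [HasZeroObject D] [HasShift D ℤ]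
    [∀ n : ℤ, (shiftFunctor D n).Additive] [Pretriangulated D] [IsTriangulated D]
    (P : ObjectProperty D) [P.IsStableUnderShift ℤ] (T : Triangle D) (hT : T ∈ distinguishedTriangles) :
    P.leftOrthogonal T.obj₁ ↔ ∀ B : D, P B → Function.Bijective (fun u : T.obj₃ ⟶ B => T.mor₂ ≫ u) := by
  constructor
  · intro h B hB
    refine ⟨fun u u' e => ?_, fun g => ?_⟩
    · rw [← sub_eq_zero]
      have e' : T.mor₂ ≫ (u - u') = 0 := by rw [Preadditive.comp_sub, sub_eq_zero]; exact e
      obtain ⟨a, ha⟩ := Triangle.yoneda_exact₃ _ hT _ e'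
      rw [ha, (P.leftOrthogonal.le_shift (1 : ℤ) _ h) a hB, comp_zero]
    · obtain ⟨a, ha⟩ := Triangle.yoneda_exact₂ _ hT g (h _ hB)
      exact ⟨a, ha.symm⟩
  · intro h B f hB
    have hB' := P.le_shift (1 : ℤ) _ hB
    have h1 : T.mor₃ ≫ (shiftFunctor D (1 : ℤ)).map f = 0 := (h _ hB').1 (by
      simp only [comp_zero]
      rw [← Category.assoc, comp_distTriang_mor_zero₂₃ _ hT, zero_comp])
    obtain ⟨a, ha⟩ := Triangle.yoneda_exact₂ T.rotate.rotate (rot_of_distTriang _ (rot_of_distTriang _ hT)) _ h1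
    obtain ⟨a, rfl⟩ := (shiftFunctor D (1 : ℤ)).map_surjective a
    obtain ⟨b, rfl⟩ := (h B hB).2 a
    apply (shiftFunctor D (1 : ℤ)).map_injective
    rw [ha, Functor.map_zero]
    change (-(shiftFunctor D (1 : ℤ)).map T.mor₁) ≫ (shiftFunctor D (1 : ℤ)).map (T.mor₂ ≫ b) = 0
    rw [Preadditive.neg_comp, ← Functor.map_comp, ← Category.assoc, comp_distTriang_mor_zero₁₂ _ hT,
      zero_comp, Functor.map_zero, neg_zero]

end Groth.Agent.S6601
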