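import Groth.Statements.S6602
import Groth.Agent.TriCat.Admissible

set_option autoImplicit false
universe v u
open CategoryTheory CategoryTheory.Limits
open CohDer

namespace Groth.Agent.S6602

open CategoryTheory.Pretriangulated in
/-- (1) ⇔ (2): let D be a triangulated category and B a full triangulated subcategory. The inclusion
functor B → D has a left adjoint if and only if for every X in D there is a distinguished triangle A
→ X → B → A⟦1⟧ with B in B and A in the left orthogonal ^⊥B. (The published statement further
asserts that B is then saturated and, when strictly full, equals the right orthogonal of its left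
orthogonal; this row asserts only the equivalence.) -/
theorem result {D : Type u} [Category.{v} D] [Preadditive D] [HasZeroObject D] [HasShift D ℤ]
    [∀ n : ℤ, (shiftFunctor D n).Additive] [Pretriangulated D] [IsTriangulated D]
    (P : ObjectProperty D) [P.IsTriangulated] :
    P.ι.IsRightAdjoint ↔ ∀ X : D, ∃ (A B : D) (f : A ⟶ X) (g : X ⟶ B) (h : B ⟶ (shiftFunctor D (1 : ℤ)).obj A),
      Triangle.mk f g h ∈ distinguishedTriangles ∧ P B ∧ P.leftOrthogonal A := by
  exact Groth.Agent.TriCat.isRightAdjoint_ι_iff P

end Groth.Agent.S6602
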