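import Groth.Statements.S6604
import Groth.Agent.TriCat.Localization

set_option autoImplicit false
universe v u v' u'
open CategoryTheory CategoryTheory.Limits
open CohDer

namespace Groth.Agent.S6604

/-- Let D be a triangulated category, B a full triangulated subcategory and Q : D → D/B the quotient
functor. Q sends an object Z of D to zero (Q(Z) = 0, i.e. Z belongs to the kernel of Q) exactly
when, for a suitable object Z' of D, the direct sum Z ⊞ Z' is isomorphic to some object lying in B;
put differently, the kernel is the smallest saturated, strictly full triangulated subcategory that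
contains B. -/
theorem result {D : Type u} [Category.{v} D] [Preadditive D] [HasZeroObject D] [HasShift D ℤ]
    [∀ n : ℤ, (shiftFunctor D n).Additive] [Pretriangulated D] [IsTriangulated D]
    (B : ObjectProperty D) [B.IsTriangulated]
    {E : Type u'} [Category.{v'} E] (Q : D ⥤ E) [Q.IsLocalization B.trW] (Z : D) :
    IsZero (Q.obj Z) ↔ ∃ (Z' Y : D), B Y ∧ Nonempty (Z ⊞ Z' ≅ Y) := by
  constructor
  · intro h
    obtain ⟨Z', X, Y, f, g, k, hT, hf⟩ := Groth.Agent.TriCat.exists_biprod_cone_of_isZero_obj B.trW Q h
    rw [← B.trW_isoClosure] at hf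
    obtain ⟨Y', hY', ⟨e⟩⟩ := (B.isoClosure.trW_iff_of_distinguished _ hT).1 hf
    exact ⟨Z', Y', hY', ⟨e⟩⟩
  · rintro ⟨Z', Y, hY, ⟨e⟩⟩
    refine Groth.Agent.TriCat.isZero_obj_of_biprod_cone B.trW Q
      (Pretriangulated.contractible_distinguished₁ (Z ⊞ Z')) ?_
    rw [← B.trW_isoClosure]
    exact ObjectProperty.trW.mk _ (Pretriangulated.contractible_distinguished₁ (Z ⊞ Z')) ⟨Y, hY, ⟨e⟩⟩

end Groth.Agent.S6604
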