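import Groth.Statements.S6606
import Groth.Agent.H9Misc.ProjVanish
import Mathlib

set_option autoImplicit false
universe v u
open CategoryTheory CategoryTheory.Limits
open CohDer

namespace Groth.Agent.S6606

/-- Let A be an abelian category, β : P ⟶ L and α : E ⟶ L morphisms of cochain complexes and n an
integer. Assume P is a bounded complex of projective objects with Pⁱ = 0 for i < n, and that Hⁱ(α)
is an isomorphism for i > n and an epimorphism for i = n. Then there is γ : P ⟶ E such that γ ≫ α is
homotopic to β. -/
theorem result {A : Type u} [Category.{v} A] [Abelian A]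
    (P E L : CochainComplex A ℤ) (β : P ⟶ L) (α : E ⟶ L) (n b : ℤ) [P.IsStrictlyGE n] [P.IsStrictlyLE b]
    (hP : ∀ i : ℤ, Projective (P.X i))
    (hiso : ∀ i : ℤ, n < i → IsIso (HomologicalComplex.homologyMap α i)) (hepi : Epi (HomologicalComplex.homologyMap α n)) :
    ∃ γ : P ⟶ E, Nonempty (Homotopy (γ ≫ α) β) := by
  let q := HomotopyCategory.quotient A (ComplexShape.up ℤ)
  have hC : ∀ i : ℤ, n ≤ i → IsZero ((CochainComplex.mappingCone α).homology i) := by
    intro i hi
    letI := HasDerivedCategory.standard A
    let T := DerivedCategory.Q.mapTriangle.obj (CochainComplex.mappingCone.triangle α)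
    have hT : T ∈ Pretriangulated.distinguishedTriangles := DerivedCategory.mappingCone_triangle_distinguished α
    let nat := fun j : ℤ => ((Functor.mapArrowFunctor _ _).mapIso
      (DerivedCategory.homologyFunctorFactors A j)).app (Arrow.mk α)
    have hm : ∀ j : ℤ, n < j → Mono ((DerivedCategory.homologyFunctor A j).map T.mor₁) := fun j hj =>
      ((MorphismProperty.monomorphisms A).arrow_mk_iso_iff (nat j)).2 (by
        show Mono (HomologicalComplex.homologyMap α j); haveI := hiso j hj; infer_instance)
    have he : Epi ((DerivedCategory.homologyFunctor A i).map T.mor₁) :=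
      ((MorphismProperty.epimorphisms A).arrow_mk_iso_iff (nat i)).2 (by
        show Epi (HomologicalComplex.homologyMap α i)
        rcases hi.eq_or_lt with rfl | hlt
        · exact hepi
        · haveI := hiso i hlt; infer_instance)
    refine IsZero.of_iso ?_ ((DerivedCategory.homologyFunctorFactors A i).app (CochainComplex.mappingCone α)).symm
    exact (DerivedCategory.HomologySequence.exact₃ T hT i (i + 1) rfl).isZero_X₂
      ((DerivedCategory.HomologySequence.epi_homologyMap_mor₁_iff _ hT i).1 he)
      ((DerivedCategory.HomologySequence.mono_homologyMap_mor₁_iff _ hT i (i + 1) rfl).1 (hm (i + 1) (by omega)))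
  obtain ⟨g, hg⟩ := Pretriangulated.Triangle.coyoneda_exact₂ _
    (HomotopyCategory.mappingCone_triangleh_distinguished α) (q.map β)
    (Groth.Agent.H9Misc.ProjVanish.eq_zero_Kh P _ n b hP hC _)
  obtain ⟨γ, rfl⟩ := q.map_surjective g
  exact ⟨γ, ⟨HomotopyCategory.homotopyOfEq _ _ ((q.map_comp γ α).trans hg.symm)⟩⟩

end Groth.Agent.S6606
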