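import Groth.Statements.S6612


set_option autoImplicit false
universe v u
open CategoryTheory CategoryTheory.Limits
open CohDer

namespace Groth.Agent.S6612

/-- Let A be an additive category and 0 → A₂ → B₂ → C₂ → 0 a termwise split exact sequence of complexes.
Given a chain map b from a complex B₁ into B₂ and a chain map b' from B₂ into a complex B₃, suppose
that both composites b ≫ (B₂ → C₂) and (A₂ → B₂) ≫ b' are null-homotopic. Then b ≫ b' is homotopic
to zero. (The published statement has three termwise split sequences Aᵢ → Bᵢ → Cᵢ and asks both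
squares of each diagram to commute up to homotopy; this row keeps only the middle sequence and the
two conditions at B₂ that the argument uses, so it is more general.) -/
theorem result {V : Type u} [Category.{v} V] [Preadditive V] [HasBinaryBiproducts V]
    (S : ShortComplex (CochainComplex V ℤ))
    (σ : ∀ n : ℤ, (S.map (HomologicalComplex.eval V (ComplexShape.up ℤ) n)).Splitting)
    {B₁ B₃ : CochainComplex V ℤ} (b : B₁ ⟶ S.X₂) (b' : S.X₂ ⟶ B₃)
    (hb : Nonempty (Homotopy (b ≫ S.g) 0)) (hb' : Nonempty (Homotopy (S.f ≫ b') 0)) :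
    Nonempty (Homotopy (b ≫ b') 0) := by
  obtain ⟨h⟩ := hb
  obtain ⟨h'⟩ := hb'
  let s : ∀ n, S.X₃.X n ⟶ S.X₂.X n := fun n => (σ n).s
  let r : ∀ n, S.X₂.X n ⟶ S.X₁.X n := fun n => (σ n).r
  have id1 : ∀ n, r n ≫ S.f.f n + S.g.f n ≫ s n = 𝟙 _ := fun n => (σ n).id
  have sg : ∀ n, s n ≫ S.g.f n = 𝟙 _ := fun n => (σ n).s_g
  have fr : ∀ n, S.f.f n ≫ r n = 𝟙 _ := fun n => (σ n).f_r
  let N : B₁ ⟶ S.X₂ := Homotopy.nullHomotopicMap fun i j => h.hom i j ≫ s j
  have hN0 : Homotopy N 0 := Homotopy.nullHomotopy _ fun i j hij => by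
    rw [h.zero i j hij, Limits.zero_comp]
  have hNg : N ≫ S.g = b ≫ S.g := by
    rw [Homotopy.nullHomotopicMap_comp]
    simp only [Category.assoc, sg, Category.comp_id]
    ext i
    rw [h.comm i]
    simp [Homotopy.nullHomotopicMap]
  let b₁ := b - N
  have hb₁ : b₁ ≫ S.g = 0 := by simp [b₁, Preadditive.sub_comp, hNg]
  have hfac : ∀ i, b₁.f i = (b₁.f i ≫ r i) ≫ S.f.f i := fun i => by
    have h0 : b₁.f i ≫ S.g.f i = 0 := by rw [← HomologicalComplex.comp_f, hb₁]; rfl
    have := congrArg (fun t => b₁.f i ≫ t) (id1 i)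
    simpa [Preadditive.comp_add, reassoc_of% h0] using this.symm
  let c : B₁ ⟶ S.X₁ :=
    { f := fun i => b₁.f i ≫ r i
      comm' := fun i j _ => by
        have : Mono (S.f.f j) := mono_of_mono_fac (fr j)
        calc (b₁.f i ≫ r i) ≫ S.X₁.d i j
            = ((b₁.f i ≫ r i) ≫ S.f.f i) ≫ S.X₂.d i j ≫ r j := by
              rw [Category.assoc (b₁.f i ≫ r i), S.f.comm_assoc, fr, Category.comp_id]
          _ = B₁.d i j ≫ b₁.f j ≫ r j := by rw [← hfac i, b₁.comm_assoc] }
  have hc : b₁ = c ≫ S.f := by ext i; exact hfac i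
  have H1 : Homotopy (b ≫ b') (b₁ ≫ b') :=
    (Homotopy.equivSubZero.symm ((Homotopy.ofEq (show b - b₁ = N by simp [b₁])).trans hN0)).compRight b'
  exact ⟨H1.trans ((Homotopy.ofEq (by rw [hc, Category.assoc])).trans
    ((h'.compLeft c).trans (Homotopy.ofEq Limits.comp_zero)))⟩

end Groth.Agent.S6612
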