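import Groth.Statements.S6613


set_option autoImplicit false
universe v u v' u'
open CategoryTheory CategoryTheory.Limits
open CohDer

namespace Groth.Agent.S6613

/-- Let D be a pretriangulated category, D' ⊂ D a full pretriangulated subcategory, S a saturated
multiplicative system of D compatible with the triangulated structure and Q : D → S⁻¹D the
localization. Assume every X in D admits some s : X' ⟶ X in S with X' in D'. Then, with S' = S ∩
Arrows(D'), the functor (S')⁻¹D' → S⁻¹D is an equivalence; equivalently the composite D' → D → S⁻¹D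
is a localization of D' at S'. (The published result additionally claims that the intersection S' =
S ∩ Arrows(D') forms a multiplicative system on D' which is saturated and respects the triangulated
structure of D'; this row asserts only the localization property.) -/
theorem result {D : Type u} [Category.{v} D] [Preadditive D] [HasZeroObject D] [HasShift D ℤ]
    [∀ n : ℤ, (shiftFunctor D n).Additive] [Pretriangulated D]
    (P : ObjectProperty D) [P.IsTriangulated]
    (S : MorphismProperty D) [S.HasLeftCalculusOfFractions] [S.HasRightCalculusOfFractions] [S.IsCompatibleWithTriangulation]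
    {E : Type u'} [Category.{v'} E] (Q : D ⥤ E) [Q.IsLocalization S]
    (hsat : ∀ {X Y : D} (f : X ⟶ Y), IsIso (Q.map f) → S f)
    (hP : ∀ X : D, ∃ (X' : D) (s : X' ⟶ X), P X' ∧ S s) :
    (P.ι ⋙ Q).IsLocalization (S.inverseImage P.ι) := by
  let W := S.inverseImage P.ι
  have : W.IsMultiplicative := inferInstance
  have refine' : ∀ (Z : D), ∃ (Z' : P.FullSubcategory) (s : Z'.obj ⟶ Z), S s := fun Z => by
    obtain ⟨X', s, h1, h2⟩ := hP Z
    exact ⟨⟨X', h1⟩, s, h2⟩
  have : W.HasRightCalculusOfFractions := by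
    refine { exists_rightFraction := fun X Y φ => ?_, ext := fun X Y Y' f₁ f₂ s hs h => ?_ }
    · obtain ⟨ψ, hψ⟩ := (MorphismProperty.LeftFraction.mk (W := S) φ.f.hom φ.s.hom φ.hs).exists_rightFraction
      obtain ⟨Z', t, ht⟩ := refine' ψ.X'
      refine ⟨MorphismProperty.RightFraction.mk (X' := Z') (ObjectProperty.homMk (t ≫ ψ.s)) (S.comp_mem _ _ ht ψ.hs)
        (ObjectProperty.homMk (t ≫ ψ.f)), ?_⟩
      ext1
      show (t ≫ ψ.s) ≫ φ.f.hom = (t ≫ ψ.f) ≫ φ.s.hom
      rw [Category.assoc, Category.assoc]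
      exact congrArg (t ≫ ·) hψ
    · obtain ⟨Z, t, ht, e⟩ := MorphismProperty.HasRightCalculusOfFractions.ext f₁.hom f₂.hom s.hom hs
        (congrArg (fun m => m.hom) h)
      obtain ⟨Z', t', ht'⟩ := refine' Z
      refine ⟨Z', ObjectProperty.homMk (t' ≫ t), S.comp_mem _ _ ht' ht, ?_⟩
      ext1
      show (t' ≫ t) ≫ f₁.hom = (t' ≫ t) ≫ f₂.hom
      rw [Category.assoc, Category.assoc, e]
  have hinv : W.IsInvertedBy (P.ι ⋙ Q) := fun X Y f hf => Localization.inverts Q S _ hf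
  let F : W.Localization ⥤ E := Localization.lift (P.ι ⋙ Q) hinv W.Q
  let e : W.Q ⋙ F ≅ P.ι ⋙ Q := Localization.fac _ _ _
  have : Localization.Lifting W.Q W (P.ι ⋙ Q) F := ⟨e⟩
  have := Localization.essSurj Q S
  have := Localization.essSurj W.Q W
  have hEss : F.EssSurj := ⟨fun T => by
    obtain ⟨Z', s, hs⟩ := refine' (Q.objPreimage T)
    have := Localization.inverts Q S s hs
    exact ⟨W.Q.obj Z', ⟨e.app Z' ≪≫ asIso (Q.map s) ≪≫ Q.objObjPreimageIso T⟩⟩⟩
  have key : ∀ {X Y : P.FullSubcategory} (a b : X ⟶ Y),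
      F.map (W.Q.map a) = F.map (W.Q.map b) → W.Q.map a = W.Q.map b := by
    intro X Y a b hab
    have h1 : Q.map a.hom = Q.map b.hom := by
      have := e.hom.naturality a
      have h2 := e.hom.naturality b
      rw [← cancel_epi (e.hom.app X)]
      exact this.symm.trans ((congrArg (· ≫ e.hom.app Y) hab).trans h2)
    obtain ⟨Z, t, ht, et⟩ := (MorphismProperty.map_eq_iff_precomp Q S a.hom b.hom).1 h1
    obtain ⟨Z', t', ht'⟩ := refine' Z
    refine (MorphismProperty.map_eq_iff_precomp W.Q W a b).2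
      ⟨Z', ObjectProperty.homMk (t' ≫ t), S.comp_mem _ _ ht' ht, ?_⟩
    ext1
    show (t' ≫ t) ≫ a.hom = (t' ≫ t) ≫ b.hom
    rw [Category.assoc, Category.assoc, et]
  have hFull : F.Full := by
    refine ⟨fun {T T'} g => ?_⟩
    obtain ⟨X, ⟨eX⟩⟩ : ∃ X, Nonempty (W.Q.obj X ≅ T) := ⟨_, ⟨W.Q.objObjPreimageIso T⟩⟩
    obtain ⟨Y, ⟨eY⟩⟩ : ∃ Y, Nonempty (W.Q.obj Y ≅ T') := ⟨_, ⟨W.Q.objObjPreimageIso T'⟩⟩
    obtain ⟨φ, hφ⟩ := Localization.exists_rightFraction Q S
      (e.inv.app X ≫ F.map eX.hom ≫ g ≫ F.map eY.inv ≫ e.hom.app Y)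
    obtain ⟨Z', t, ht⟩ := refine' φ.X'
    let s' : Z' ⟶ X := ObjectProperty.homMk (t ≫ φ.s)
    let f' : Z' ⟶ Y := ObjectProperty.homMk (t ≫ φ.f)
    have hs' : W s' := S.comp_mem _ _ ht φ.hs
    have := Localization.inverts W.Q W s' hs'
    have key2 : Q.map (t ≫ φ.s) ≫
        (e.inv.app X ≫ F.map eX.hom ≫ g ≫ F.map eY.inv ≫ e.hom.app Y) = Q.map (t ≫ φ.f) := by
      rw [hφ, Functor.map_comp, Functor.map_comp, Category.assoc,
        MorphismProperty.RightFraction.map_s_comp_map]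
    refine ⟨eX.inv ≫ inv (W.Q.map s') ≫ W.Q.map f' ≫ eY.hom, ?_⟩
    have e1 : F.map (W.Q.map f') = F.map (W.Q.map s') ≫ F.map eX.hom ≫ g ≫ F.map eY.inv := by
      rw [← cancel_mono (e.hom.app Y)]
      have n1 : F.map (W.Q.map f') ≫ e.hom.app Y = e.hom.app Z' ≫ Q.map (t ≫ φ.f) := e.hom.naturality f'
      have n2 : F.map (W.Q.map s') ≫ e.hom.app X = e.hom.app Z' ≫ Q.map (t ≫ φ.s) := e.hom.naturality s'
      refine n1.trans ?_
      rw [← key2, ← reassoc_of% n2, Iso.hom_inv_id_app_assoc]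
      simp only [Category.assoc]
    simp only [Functor.map_comp, Functor.map_inv, e1, Category.assoc, IsIso.inv_hom_id_assoc]
    rw [← Functor.map_comp, Iso.inv_hom_id, CategoryTheory.Functor.map_id, Category.comp_id,
      ← Functor.map_comp_assoc, Iso.inv_hom_id, CategoryTheory.Functor.map_id, Category.id_comp]
  have hFaith : F.Faithful := by
    refine ⟨fun {T T'} g₁ g₂ h => ?_⟩
    obtain ⟨X, ⟨eX⟩⟩ : ∃ X, Nonempty (W.Q.obj X ≅ T) := ⟨_, ⟨W.Q.objObjPreimageIso T⟩⟩
    obtain ⟨Y, ⟨eY⟩⟩ : ∃ Y, Nonempty (W.Q.obj Y ≅ T') := ⟨_, ⟨W.Q.objObjPreimageIso T'⟩⟩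
    obtain ⟨φ₁, hφ₁⟩ := Localization.exists_rightFraction W.Q W (eX.hom ≫ g₁ ≫ eY.inv)
    obtain ⟨φ₂, hφ₂⟩ := Localization.exists_rightFraction W.Q W (eX.hom ≫ g₂ ≫ eY.inv)
    obtain ⟨ψ, hψ⟩ := (MorphismProperty.LeftFraction.mk (W := W) φ₂.s φ₁.s φ₁.hs).exists_rightFraction
    have hψ' : ψ.s ≫ φ₂.s = ψ.f ≫ φ₁.s := hψ
    have := Localization.inverts W.Q W _ φ₂.hs
    have := Localization.inverts W.Q W _ ψ.hs
    have h1 : W.Q.map (ψ.s ≫ φ₂.s) ≫ eX.hom ≫ g₁ ≫ eY.inv = W.Q.map (ψ.f ≫ φ₁.f) := by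
      rw [hψ', hφ₁, Functor.map_comp, Functor.map_comp, Category.assoc,
        MorphismProperty.RightFraction.map_s_comp_map]
    have h2 : W.Q.map (ψ.s ≫ φ₂.s) ≫ eX.hom ≫ g₂ ≫ eY.inv = W.Q.map (ψ.s ≫ φ₂.f) := by
      rw [hφ₂, Functor.map_comp, Functor.map_comp, Category.assoc,
        MorphismProperty.RightFraction.map_s_comp_map]
    have h3 := key _ _ (show F.map (W.Q.map (ψ.f ≫ φ₁.f)) = F.map (W.Q.map (ψ.s ≫ φ₂.f)) by
      rw [← h1, ← h2]
      simp only [Functor.map_comp, h])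
    rw [← h1, ← h2] at h3
    have : IsIso (W.Q.map (ψ.s ≫ φ₂.s)) := by rw [Functor.map_comp]; infer_instance
    rwa [cancel_epi, cancel_epi, cancel_mono] at h3
  have : F.IsEquivalence := {}
  exact Functor.IsLocalization.of_equivalence_target W.Q W (P.ι ⋙ Q) F.asEquivalence e

end Groth.Agent.S6613
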