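import Groth.Statements.S6616
import Groth.Agent.H9Misc.RightResSystem

set_option autoImplicit false
universe v u
open CategoryTheory CategoryTheory.Limits
open CohDer

namespace Groth.Agent.S6616

/-- Let I be a class of objects of an abelian category, closed under isomorphisms, containing 0, closed
under binary products, and such that every object is a subobject of an object of I. For any cochain
complex K there are bounded below complexes Iₙ (n ≥ 0) with terms in I, termwise injective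
quasi-isomorphisms πₙ : τ_{≥ -n}K ⟶ Iₙ and termwise split surjections pₙ : Iₙ₊₁ ⟶ Iₙ with termwise
kernels in I, such that K ⟶ τ_{≥ -(n+1)}K ⟶ Iₙ₊₁ ⟶ Iₙ equals K ⟶ τ_{≥ -n}K ⟶ Iₙ. (The published
system starts at τ_{≥ -1}K; this row starts at n = 0 with τ_{≥ 0}K. Closure of I under isomorphisms
is assumed so that closure under binary products has a meaning for a class of objects.) -/
theorem result {A : Type u} [Category.{v} A] [Abelian A] (I : ObjectProperty A) [I.IsClosedUnderIsomorphisms]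
    (hI0 : ∃ Z : A, IsZero Z ∧ I Z) (hIprod : ∀ X Y : A, I X → I Y → I (X ⊞ Y))
    (hI : ∀ X : A, ∃ (Y : A) (ι : X ⟶ Y), I Y ∧ Mono ι) (K : CochainComplex A ℤ) :
    ∃ (Q : ℕ → CochainComplex A ℤ) (p : ∀ n, Q (n + 1) ⟶ Q n) (π : ∀ n : ℕ, K.truncGE (-(n : ℤ)) ⟶ Q n),
      (∀ n, QuasiIso (π n) ∧ ∀ i, Mono ((π n).f i)) ∧
      (∀ n, ∃ a : ℤ, (Q n).IsStrictlyGE a) ∧ (∀ n i, I ((Q n).X i)) ∧
      (∀ n i, (∃ s : (Q n).X i ⟶ (Q (n + 1)).X i, s ≫ (p n).f i = 𝟙 _) ∧ I (kernel ((p n).f i))) ∧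
      (∀ n : ℕ, K.πTruncGE (-((n + 1 : ℕ) : ℤ)) ≫ π (n + 1) ≫ p n = K.πTruncGE (-(n : ℤ)) ≫ π n) := by
  exact H9Misc.RightResSystem.exists_system I hI0 hIprod hI K

end Groth.Agent.S6616
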