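import Groth.Statements.S6617
import Mathlib.Algebra.Homology.HomotopyCategory.Pretriangulated
import Mathlib.Algebra.Homology.HomologicalComplexBiprod
import Mathlib.Algebra.Homology.Embedding.CochainComplex
import Mathlib.Tactic.Abel

set_option autoImplicit false
universe v u
open CategoryTheory CategoryTheory.Limits
open CohDer

namespace Groth.Agent.S6617

section
variable {V : Type u} [Category.{v} V] [Preadditive V] [HasBinaryBiproducts V] [HasZeroObject V]

open CochainComplex CategoryTheory.Pretriangulated in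
theorem nonempty_fstEquiv (W B : CochainComplex V ℤ) :
    ∃ e : HomotopyEquiv (W ⊞ mappingCone (𝟙 B)) W, e.hom = biprod.fst := by
  let C := mappingCone (𝟙 B)
  let q := HomotopyCategory.quotient V (ComplexShape.up ℤ)
  have hz : IsZero (q.obj C) :=
    (Triangle.isZero₃_iff_isIso₁ _ (HomotopyCategory.mappingCone_triangleh_distinguished (𝟙 B))).2
      (inferInstanceAs (IsIso (q.map (𝟙 B))))
  have h2 : q.map ((biprod.snd : W ⊞ C ⟶ C) ≫ (biprod.inr : C ⟶ W ⊞ C)) = 0 := by
    rw [Functor.map_comp, hz.eq_of_tgt (q.map biprod.snd) 0, zero_comp]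
  have h3 : q.map ((biprod.fst : W ⊞ C ⟶ W) ≫ biprod.inl) = q.map (𝟙 _) := by
    rw [← biprod.total, Functor.map_add, h2, add_zero]
  exact ⟨{ hom := biprod.fst, inv := biprod.inl,
           homotopyHomInvId := HomotopyCategory.homotopyOfEq _ _ h3,
           homotopyInvHomId := Homotopy.ofEq biprod.inl_fst }, rfl⟩

open CochainComplex in
/-- One step of the replacement. -/
theorem exists_step {B W : CochainComplex V ℤ} (g : B ⟶ W) :
    ∃ (B' : CochainComplex V ℤ) (b : B ⟶ B') (e : HomotopyEquiv B' W), b ≫ e.hom = g ∧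
      (∀ n : ℤ, ∃ (C : V) (ε : B'.X n ≅ B.X n ⊞ C), b.f n ≫ ε.hom = biprod.inl) ∧
      ((∃ m : ℤ, B.IsStrictlyGE m) → (∃ m : ℤ, W.IsStrictlyGE m) → ∃ m : ℤ, B'.IsStrictlyGE m) ∧
      ((∃ m : ℤ, B.IsStrictlyLE m) → (∃ m : ℤ, W.IsStrictlyLE m) → ∃ m : ℤ, B'.IsStrictlyLE m) := by
  obtain ⟨e, he⟩ := nonempty_fstEquiv W B
  let C := mappingCone (𝟙 B)
  let b : B ⟶ W ⊞ C := biprod.lift g (mappingCone.inr (𝟙 B))
  have hz : ∀ i : ℤ, IsZero (B.X i) → IsZero (B.X (i + 1)) → IsZero (W.X i) → IsZero ((W ⊞ C).X i) :=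
    fun i h0 h1 h2 => by
    have hC : IsZero (C.X i) := by
      rw [IsZero.iff_id_eq_zero, mappingCone.ext_from_iff _ (i + 1) i rfl]
      exact ⟨h1.eq_of_src _ _, h0.eq_of_src _ _⟩
    rw [IsZero.iff_id_eq_zero, ← HomologicalComplex.biprod_total_f W C i]
    rw [h2.eq_of_tgt ((biprod.fst : W ⊞ C ⟶ W).f i) 0, hC.eq_of_tgt ((biprod.snd : W ⊞ C ⟶ C).f i) 0]
    simp
  refine ⟨W ⊞ C, b, e, by rw [he]; exact biprod.lift_fst _ _, fun n => ?_, ?_, ?_⟩
  · let p : (W ⊞ C).X n ⟶ W.X n := (biprod.fst : W ⊞ C ⟶ W).f n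
    let q : (W ⊞ C).X n ⟶ C.X n := (biprod.snd : W ⊞ C ⟶ C).f n
    let c0 : C.X n ⟶ B.X n := (mappingCone.snd (𝟙 B)).v n n (add_zero n)
    let c1 : C.X n ⟶ B.X (n + 1) := (mappingCone.fst (𝟙 B)).1.v n (n + 1) rfl
    let i0 : B.X n ⟶ C.X n := (mappingCone.inr (𝟙 B)).f n
    let i1 : B.X (n + 1) ⟶ C.X n := (mappingCone.inl (𝟙 B)).v (n + 1) n (by omega)
    let jW : W.X n ⟶ (W ⊞ C).X n := (biprod.inl : W ⟶ W ⊞ C).f n
    let jC : C.X n ⟶ (W ⊞ C).X n := (biprod.inr : C ⟶ W ⊞ C).f n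
    have a1 : jW ≫ p = 𝟙 _ := by simp [jW, p]
    have a2 : jW ≫ q = 0 := by simp [jW, q]
    have a3 : jC ≫ p = 0 := by simp [jC, p]
    have a4 : jC ≫ q = 𝟙 _ := by simp [jC, q]
    have a5 : i0 ≫ c0 = 𝟙 _ := by simp [i0, c0]
    have a6 : i0 ≫ c1 = 0 := by simp [i0, c1]
    have a7 : i1 ≫ c0 = 0 := by simp [i1, c0]
    have a8 : i1 ≫ c1 = 𝟙 _ := by simp [i1, c1]
    have a9 : c1 ≫ i1 + c0 ≫ i0 = 𝟙 _ := mappingCone.id_X (𝟙 B) n (n + 1) rfl
    have a10 : p ≫ jW + q ≫ jC = 𝟙 _ := HomologicalComplex.biprod_total_f W C n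
    have b1 : b.f n ≫ p = g.f n := by
      rw [← HomologicalComplex.comp_f]; simp [b]
    have b2 : b.f n ≫ q = i0 := by
      rw [← HomologicalComplex.comp_f]; simp [b, i0]
    have hb : b.f n = g.f n ≫ jW + i0 ≫ jC := by
      conv_lhs => rw [← Category.comp_id (b.f n), ← a10, Preadditive.comp_add, ← Category.assoc, ← Category.assoc, b1, b2]
    refine ⟨W.X n ⊞ B.X (n + 1),
      { hom := biprod.lift (q ≫ c0) (biprod.lift (p - q ≫ c0 ≫ g.f n) (q ≫ c1))
        inv := biprod.desc (b.f n) (biprod.desc jW (i1 ≫ jC))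
        hom_inv_id := ?_
        inv_hom_id := ?_ }, ?_⟩
    · rw [biprod.lift_desc, biprod.lift_desc, hb]
      simp only [Preadditive.comp_add, Preadditive.sub_comp, Category.assoc]
      calc _ = p ≫ jW + q ≫ (c1 ≫ i1 + c0 ≫ i0) ≫ jC := by
            simp only [Preadditive.comp_add, Preadditive.add_comp, Category.assoc]; abel
        _ = _ := by rw [a9, Category.id_comp, a10]
    · apply biprod.hom_ext' <;> apply biprod.hom_ext
      · simp [reassoc_of% b2, a5]
      · simp only [biprod.inl_desc_assoc, Category.assoc, biprod.lift_snd, Category.comp_id, biprod.inl_snd]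
        apply biprod.hom_ext <;>
          simp [Preadditive.comp_sub, b1, reassoc_of% b2, a6, reassoc_of% a5]
      · apply biprod.hom_ext' <;>
          simp [reassoc_of% a2, reassoc_of% a4, a7]
      · simp only [biprod.inr_desc_assoc, Category.assoc, biprod.lift_snd, Category.comp_id, biprod.inr_snd]
        apply biprod.hom_ext' <;> apply biprod.hom_ext <;>
          simp [Preadditive.comp_sub, a1, a3, reassoc_of% a2, reassoc_of% a4, reassoc_of% a7, a8]
    · apply biprod.hom_ext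
      · simp [reassoc_of% b2, a5]
      · apply biprod.hom_ext <;> simp [Preadditive.comp_sub, b1, reassoc_of% b2, a6, reassoc_of% a5]
  · rintro ⟨m, hm⟩ ⟨m', hm'⟩
    refine ⟨min m m' - 1, (CochainComplex.isStrictlyGE_iff _ _).2 fun i hi => hz i
      (B.isZero_of_isStrictlyGE m i (by omega)) (B.isZero_of_isStrictlyGE m (i + 1) (by omega))
      (W.isZero_of_isStrictlyGE m' i (by omega))⟩
  · rintro ⟨m, hm⟩ ⟨m', hm'⟩
    refine ⟨max m m', (CochainComplex.isStrictlyLE_iff _ _).2 fun i hi => hz i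
      (B.isZero_of_isStrictlyLE m i (by omega)) (B.isZero_of_isStrictlyLE m (i + 1) (by omega))
      (W.isZero_of_isStrictlyLE m' i (by omega))⟩

end

/-- Let A be an additive category and A₀ → A₁ → A₂ → … a sequence of composable morphisms of complexes.
There are complexes Bᵢ, homotopy equivalences Bᵢ ⟶ Aᵢ and termwise split injections Bᵢ ⟶ Bᵢ₊₁
forming a commutative ladder over the given sequence. Moreover if all Aᵢ are bounded below, resp.
bounded above, then the Bᵢ may be chosen bounded below, resp. bounded above. (The published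
statement is for finite sequences A₁ → … → A_n; this row takes a sequence indexed by ℕ, built by the
same step-by-step construction.) -/
theorem result {V : Type u} [Category.{v} V] [Preadditive V] [HasBinaryBiproducts V] [HasZeroObject V]
    (X : ℕ → CochainComplex V ℤ) (a : ∀ i, X i ⟶ X (i + 1)) :
    ∃ (B : ℕ → CochainComplex V ℤ) (b : ∀ i, B i ⟶ B (i + 1)) (e : ∀ i, HomotopyEquiv (B i) (X i)),
      (∀ i, b i ≫ (e (i + 1)).hom = (e i).hom ≫ a i) ∧
      (∀ (i : ℕ) (n : ℤ), ∃ (C : V) (ε : (B (i + 1)).X n ≅ (B i).X n ⊞ C), (b i).f n ≫ ε.hom = biprod.inl) ∧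
      ((∀ i, ∃ m : ℤ, (X i).IsStrictlyGE m) → ∀ i, ∃ m : ℤ, (B i).IsStrictlyGE m) ∧
      ((∀ i, ∃ m : ℤ, (X i).IsStrictlyLE m) → ∀ i, ∃ m : ℤ, (B i).IsStrictlyLE m) := by
  choose nB nb ne hnc hns hnge hnle using fun (B : CochainComplex V ℤ) (W : CochainComplex V ℤ) (g : B ⟶ W) => exists_step g
  let S : ∀ i, Σ B : CochainComplex V ℤ, HomotopyEquiv B (X i) := fun i =>
    Nat.rec (motive := fun i => Σ B : CochainComplex V ℤ, HomotopyEquiv B (X i)) ⟨X 0, HomotopyEquiv.refl _⟩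
      (fun i p => ⟨nB p.1 (X (i + 1)) (p.2.hom ≫ a i), ne p.1 (X (i + 1)) (p.2.hom ≫ a i)⟩) i
  refine ⟨fun i => (S i).1, fun i => nb (S i).1 (X (i + 1)) ((S i).2.hom ≫ a i), fun i => (S i).2,
    fun i => hnc _ _ _, fun i n => hns _ _ _ n, fun h i => ?_, fun h i => ?_⟩
  · induction i with
    | zero => exact h 0
    | succ i ih => exact hnge _ _ _ ih (h _)
  · induction i with
    | zero => exact h 0
    | succ i ih => exact hnle _ _ _ ih (h _)

end Groth.Agent.S6617
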