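import Groth.Statements.S6619
import Groth.Agent.TriCat.AcyclicObj

set_option autoImplicit false
universe v v' u u'
open CategoryTheory CategoryTheory.Limits
open CohDer

namespace Groth.Agent.S6619

/-- In the case where A has enough injectives (an object X is right acyclic for the left exact functor F
when RⁱF(X) = 0 for all i > 0): suppose A and B are abelian categories, A has enough injectives, F :
A ⥤ B is left exact, and 0 → X₁ → X₂ → X₃ → 0 is a short exact sequence of A. (1) If X₁, X₃ are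
right acyclic so is X₂; (2) if X₁, X₂ are right acyclic so is X₃; (3) if X₂, X₃ are right acyclic
and F(X₂) ⟶ F(X₃) is surjective then X₁ is right acyclic. In each of the three cases 0 → F(X₁) →
F(X₂) → F(X₃) → 0 is short exact. -/
theorem result {A : Type u} [Category.{v} A] [Abelian A] [EnoughInjectives A]
    {B : Type u'} [Category.{v'} B] [Abelian B] (F : A ⥤ B) [F.Additive] [PreservesFiniteLimits F]
    (S : ShortComplex A) (hS : S.ShortExact) :
    ((∀ i : ℕ, 0 < i → IsZero ((F.rightDerived i).obj S.X₁)) → (∀ i : ℕ, 0 < i → IsZero ((F.rightDerived i).obj S.X₃)) →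
      (∀ i : ℕ, 0 < i → IsZero ((F.rightDerived i).obj S.X₂)) ∧ (S.map F).ShortExact) ∧
    ((∀ i : ℕ, 0 < i → IsZero ((F.rightDerived i).obj S.X₁)) → (∀ i : ℕ, 0 < i → IsZero ((F.rightDerived i).obj S.X₂)) →
      (∀ i : ℕ, 0 < i → IsZero ((F.rightDerived i).obj S.X₃)) ∧ (S.map F).ShortExact) ∧
    ((∀ i : ℕ, 0 < i → IsZero ((F.rightDerived i).obj S.X₂)) → (∀ i : ℕ, 0 < i → IsZero ((F.rightDerived i).obj S.X₃)) →
      Epi (F.map S.g) → (∀ i : ℕ, 0 < i → IsZero ((F.rightDerived i).obj S.X₁)) ∧ (S.map F).ShortExact) := by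
  refine ⟨fun h₁ h₃ => ⟨Groth.Agent.TriCat.acyclic₂ hS h₁ h₃,
      Groth.Agent.TriCat.shortExact_map_of_subsingleton hS (h₁ 1 one_pos)⟩,
    fun h₁ h₂ => ⟨Groth.Agent.TriCat.acyclic₃ hS h₁ h₂,
      Groth.Agent.TriCat.shortExact_map_of_subsingleton hS (h₁ 1 one_pos)⟩,
    fun h₂ h₃ he => ?_⟩
  have h₁ := Groth.Agent.TriCat.acyclic₁ hS h₂ h₃ he
  exact ⟨h₁, Groth.Agent.TriCat.shortExact_map_of_subsingleton hS (h₁ 1 one_pos)⟩

end Groth.Agent.S6619
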