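import Groth.Statements.S6631
import Groth.Agent.EtFound.PropPush
-- import your own Groth.Agent.* helpers here

set_option autoImplicit false
open CategoryTheory CategoryTheory.Limits AlgebraicGeometry Opposite
universe u
open EtDesc

namespace Groth.Agent.S6631

/-- Let f : X ⟶ Y be a morphism of schemes satisfying condition (C) (for every etale U ⟶ X there are an
etale V ⟶ Y and a surjective X-morphism X ×_Y V ⟶ U). Then the direct image of sheaves of sets on
the small etale sites along f reflects monomorphisms and epimorphisms. -/
theorem result {X Y : Scheme.{u}} (f : X ⟶ Y) (hC : BigSite.PropC f) :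
    (EtDesc.pushSh f).ReflectsMonomorphisms ∧ (EtDesc.pushSh f).ReflectsEpimorphisms := by
  refine ⟨⟨fun {F G} φ h => ?_⟩, ⟨fun {F G} φ h => ?_⟩⟩
  · have h1 : Mono ((EtDesc.pushSh f).map φ).hom := inferInstanceAs
      (Mono ((sheafToPresheaf _ _).map ((EtDesc.pushSh f).map φ)))
    have : Mono φ.hom := by
      refine (NatTrans.mono_iff_mono_app _).2 fun U => (mono_iff_injective _).2 ?_
      exact EtFound.injective_of_propC f hC φ
        (fun V => (mono_iff_injective _).1 ((NatTrans.mono_iff_mono_app _).1 h1 (op V))) U.unop
    exact (sheafToPresheaf _ _).mono_of_mono_map (inferInstanceAs (Mono φ.hom))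
  · have := (Sheaf.isLocallySurjective_iff_epi ((EtDesc.pushSh f).map φ)).2 h
    exact (Sheaf.isLocallySurjective_iff_epi φ).1 (EtFound.isLocallySurjective_of_propC f hC φ)

end Groth.Agent.S6631
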