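import Groth.Statements.S6632
import Groth.Agent.EtFound.PropPush
-- import your own Groth.Agent.* helpers here

set_option autoImplicit false
open CategoryTheory CategoryTheory.Limits AlgebraicGeometry Opposite
universe u
open EtCore

namespace Groth.Agent.S6632

/-- Let f : X ⟶ Y be a morphism of schemes such that, for every etale V ⟶ Y, the base change X ×_Y V ⟶ V
satisfies condition (C) (for every etale U ⟶ X ×_Y V there are an etale V' ⟶ V and a surjective
morphism from the base change of V' to U over X ×_Y V) and is closed as a map of topological spaces.
Then the base change functor V ↦ X ×_Y V from the small etale site of Y to that of X is almost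
cocontinuous: every covering sieve of X ×_Y V contains the images of the members of some covering
sieve of V, except for members V' for which X ×_Y V' is covered by the empty sieve. -/
theorem result {X Y : Scheme.{u}} (f : X ⟶ Y)
    (hC : ∀ (V : Scheme.{u}) (v : V ⟶ Y) [Etale v], BigSite.PropC (pullback.snd f v))
    (hcl : ∀ (V : Scheme.{u}) (v : V ⟶ Y) [Etale v], IsClosedMap (pullback.snd f v).base) :
    BigSite.IsAlmostCocontinuous (EtCoh.bc f) Y.smallEtaleTopology X.smallEtaleTopology := EtFound.isAlmostCocontinuous_of_propC f hC hcl

end Groth.Agent.S6632
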