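import Groth.Statements.S6639
import Groth.Agent.LangLib.Semilinear
import Mathlib.RingTheory.TensorProduct.Free
-- import your own Groth.Agent.* helpers here

set_option autoImplicit false
universe u
open scoped TensorProduct
open EtBase

namespace Groth.Agent.S6639

/-- Let k ⟶ k' be a homomorphism of algebraically closed fields of characteristic p > 0 (an extension of
algebraically closed fields), V a finite-dimensional k-vector space, F : V ⟶ V additive with F(c •
v) = c^p • F(v), and F' the additive endomorphism of V' = k' ⊗_k V satisfying F'(c ⊗ v) = c^p ⊗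
F(v). Then v ↦ 1 ⊗ v maps the fixed vectors of F bijectively onto the fixed vectors of F'. -/
theorem result {k k' V : Type u} [Field k] [IsAlgClosed k] [Field k']
    [IsAlgClosed k'] [Algebra k k'] (p : ℕ) [Fact p.Prime] [CharP k p]
    [AddCommGroup V] [Module k V] [FiniteDimensional k V] (F : V →+ V)
    (hF : ∀ (c : k) (v : V), F (c • v) = c ^ p • F v)
    (F' : k' ⊗[k] V →+ k' ⊗[k] V) (hF' : ∀ (c : k') (v : V), F' (c ⊗ₜ[k] v) = (c ^ p) ⊗ₜ[k] F v) :
    Set.BijOn (fun v : V => (1 : k') ⊗ₜ[k] v) {v : V | F v = v} {w : k' ⊗[k] V | F' w = w} := by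
  classical
  let b := Module.finBasis k V
  let b' := Algebra.TensorProduct.basis k' b
  have hinj : Function.Injective (fun v : V => (1 : k') ⊗ₜ[k] v) := by
    intro v v' h
    apply b.ext_elem
    intro i
    have h1 := congrArg (fun x => b'.repr x i) h
    simpa [b'] using h1
  refine ⟨fun v hv => ?_, hinj.injOn, fun w hw => ?_⟩
  · change F' ((1 : k') ⊗ₜ[k] v) = (1 : k') ⊗ₜ[k] v
    rw [hF', one_pow, show F v = v from hv]
  · let c : Fin (Module.finrank k V) → k' := fun i => b'.repr w i
    let a : Fin (Module.finrank k V) → Fin (Module.finrank k V) → k := fun i j => b.repr (F (b j)) i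
    have hw0 : w = ∑ j, c j ⊗ₜ[k] b j := by
      conv_lhs => rw [← b'.sum_repr w]
      exact Finset.sum_congr rfl fun j _ => by simp [b', c, TensorProduct.smul_tmul', Algebra.TensorProduct.basis_apply]
    have hc : ∀ i, c i = ∑ j, algebraMap k k' (a i j) * c j ^ p := by
      intro i
      have h1 : F' w = ∑ j, (c j ^ p) ⊗ₜ[k] F (b j) := by
        conv_lhs => rw [hw0]
        rw [map_sum]
        exact Finset.sum_congr rfl fun j _ => hF' _ _
      have h2 : b'.repr (F' w) i = c i := by rw [show F' w = w from hw]
      rw [← h2, h1, map_sum, Finsupp.finsetSum_apply]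
      refine Finset.sum_congr rfl fun j _ => ?_
      simp [b', a, Algebra.smul_def, mul_comm]
    choose r hr using fun i => LangLib.mem_range_of_system p a c hc i
    refine ⟨∑ i, r i • b i, ?_, ?_⟩
    · apply hinj
      have e : (1 : k') ⊗ₜ[k] (∑ i, r i • b i) = w := by
        conv_rhs => rw [hw0]
        rw [TensorProduct.tmul_sum]
        exact Finset.sum_congr rfl fun i _ => by
          rw [← hr i, Algebra.algebraMap_eq_smul_one, TensorProduct.smul_tmul]
      change (1 : k') ⊗ₜ[k] F (∑ i, r i • b i) = _
      have h3 : F' w = w := hw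
      rw [← e, hF', one_pow] at h3
      exact h3
    · change (1 : k') ⊗ₜ[k] (∑ i, r i • b i) = w
      conv_rhs => rw [hw0]
      rw [TensorProduct.tmul_sum]
      exact Finset.sum_congr rfl fun i _ => by
        rw [← hr i, Algebra.algebraMap_eq_smul_one, TensorProduct.smul_tmul]

end Groth.Agent.S6639
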