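import Groth.Statements.S6640
import Groth.Agent.EtFound.ConstSub

set_option autoImplicit false
open CategoryTheory CategoryTheory.Limits AlgebraicGeometry Opposite
universe u
open EtCore

namespace Groth.Agent.S6640

/-- Let X be an irreducible scheme, ξ a geometric point over its generic point, A' an additive subgroup
of an abelian group A, and G an abelian sheaf on the small etale site of X with monomorphisms a :
const A' ⟶ G and b : G ⟶ const A whose composite is the map of constant sheaves induced by the
inclusion. If the stalk of a at ξ is an isomorphism, then a is an isomorphism. -/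
theorem result {X : Scheme.{u}} [IrreducibleSpace ↥X]
    {Ω : Type u} [Field Ω] [IsSepClosed Ω] (ξ : Spec (CommRingCat.of Ω) ⟶ X)
    (hξ : ξ.base default = genericPoint ↥X)
    (A : Type) [AddCommGroup A] (A' : AddSubgroup A) (G : EtCoh.Ab X)
    (a : EtCoh.const X ↥A' ⟶ G) (b : G ⟶ EtCoh.const X A) [Mono a] [Mono b]
    (hab : a ≫ b = (constantSheaf X.smallEtaleTopology AddCommGrpCat.{u + 1}).map
      (AddCommGrpCat.ofHom (AddEquiv.ulift.symm.toAddMonoidHom.comp (A'.subtype.comp AddEquiv.ulift.toAddMonoidHom))))
    (hst : IsIso ((EtCoh.stalk ξ).map a)) : IsIso a := by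
  have hinj : ∀ {F F' : EtCoh.Ab X} (f : F ⟶ F') [Mono f] (k : Type u) (_ : Field k) (_ : IsSepClosed k)
      (ζ : Spec (CommRingCat.of k) ⟶ X), Function.Injective ((Scheme.pointSmallEtale ζ).presheafFiber.map f.hom) := by
    intro F F' f _ k _ _ ζ
    have : Mono f.hom := (sheafToPresheaf _ _).map_mono f
    have : Presheaf.IsLocallyInjective X.smallEtaleTopology f.hom :=
      Presheaf.isLocallyInjective_of_injective _ _ fun U =>
        ConcreteCategory.injective_of_mono_of_preservesPullback (f.hom.app U)
    exact (Scheme.pointSmallEtale ζ).toPresheafFiber_map_injective f.hom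
  exact EtFound.isIso_of_generic_stalk ξ hξ _ a b hab (hinj a) (hinj b)
    ((ConcreteCategory.bijective_of_isIso ((EtCoh.stalk ξ).map a)).2)

end Groth.Agent.S6640
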