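import Groth.Statements.S6641
import Groth.Agent.Curve11.SuppVanish

set_option autoImplicit false
open CategoryTheory CategoryTheory.Limits AlgebraicGeometry Opposite
universe u
open Curves

namespace Groth.Agent.S6641

/-- Let X be a smooth curve over an algebraically closed field k (here: X integral of dimension one,
smooth, separated and of finite type over k), and for a closed point x let i_x : Spec κ(x) ⟶ X be
its inclusion. Then H^q of the direct sum, over all closed points x, of the sheaves (i_x)_* Z (given
here as any colimit cofan of that family) vanishes for every q ≥ 1. -/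
theorem result (k : Type u) [Field k] [IsAlgClosed k] (X : Scheme.{u})
    (f : X ⟶ Spec (CommRingCat.of k)) [Smooth f] [IsSeparated f] [LocallyOfFiniteType f] [QuasiCompact f] [IsIntegral X]
    (hdim : topologicalKrullDim ↥X = 1)
    (c : Cofan fun x : {x : ↥X // IsClosed ({x} : Set ↥X)} =>
      (EtCoh.push (X.fromSpecResidueField x.1)).obj (EtCoh.const (Spec (X.residueField x.1)) ℤ))
    (hc : IsColimit c) (q : ℕ) (hq : 1 ≤ q) :
    Subsingleton (EtCoh.H X c.pt q) := by
  obtain ⟨n, rfl⟩ : ∃ n, q = n + 1 := ⟨q - 1, by omega⟩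
  have hgp : ¬ IsClosed ({genericPoint ↥X} : Set ↥X) := fun h => by
    have hs : Subsingleton ↥X := ⟨fun a b =>
      ((genericPoint_specializes a).mem_closed h rfl : a = genericPoint ↥X).trans
        ((genericPoint_specializes b).mem_closed h rfl : b = genericPoint ↥X).symm⟩
    have h0 : topologicalKrullDim ↥X = 0 := by
      haveI : Subsingleton (TopologicalSpace.IrreducibleCloseds ↥X) := ⟨fun a b => by
        refine TopologicalSpace.IrreducibleCloseds.ext (Set.ext fun z => ?_)
        obtain ⟨x, hx⟩ := a.isIrreducible.nonempty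
        obtain ⟨y, hy⟩ := b.isIrreducible.nonempty
        exact ⟨fun _ => hs.elim y z ▸ hy, fun _ => hs.elim x z ▸ hx⟩⟩
      haveI : Nonempty (TopologicalSpace.IrreducibleCloseds ↥X) :=
        ⟨⟨{genericPoint ↥X}, isIrreducible_singleton, h⟩⟩
      exact Order.krullDim_eq_zero
    rw [hdim] at h0
    exact one_ne_zero h0
  refine Groth.Agent.Curve11.subsingleton_H_of_stalk_generic f hdim.le c.pt (fun Ω _ _ ξ hξ => ?_) n
  have hη : ξ.base (default : Spec (CommRingCat.of Ω)) = genericPoint ↥X :=
    (Groth.Agent.MorLib.Birat.eq_of_specializes_generic hξ (genericPoint_specializes _)).symm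
  haveI : PreservesColimitsOfShape (Discrete {x : ↥X // IsClosed ({x} : Set ↥X)}) (EtCoh.stalk ξ) := inferInstance
  have hz : ∀ j, IsZero ((EtCoh.stalk ξ).obj ((Discrete.functor fun x : {x : ↥X // IsClosed ({x} : Set ↥X)} =>
      (EtCoh.push (X.fromSpecResidueField x.1)).obj (EtCoh.const (Spec (X.residueField x.1)) ℤ)).obj j)) := fun j => by
    refine Groth.Agent.Curve11.isZero_stalk_push_of_notMem _ j.as.2 ?_ _ ξ ?_
    · rw [Scheme.range_fromSpecResidueField]
    · rw [hη]
      exact fun h => hgp (by rw [Set.mem_singleton_iff.1 h]; exact j.as.2)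
  exact (IsZero.iff_id_eq_zero _).2 ((isColimitOfPreserves (EtCoh.stalk ξ) hc).hom_ext fun j => (hz j).eq_of_src _ _)


end Groth.Agent.S6641
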