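import Groth.Statements.S6647
import Groth.Agent.EtFound.FLCAb
import Groth.Agent.EtFound.PullConst
-- import your own Groth.Agent.* helpers here

set_option autoImplicit false
open CategoryTheory CategoryTheory.Limits AlgebraicGeometry Opposite
universe u
open EtCore

namespace Groth.Agent.S6647

/-- Let φ : F ⟶ G be a map of locally constant abelian sheaves on the small etale site of a scheme X,
with F finite locally constant. Then on the members of some etale covering of X the restriction of φ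
is, up to isomorphisms with constant sheaves on both sides, the map of constant sheaves induced by a
homomorphism of abelian groups. -/
theorem result {X : Scheme.{u}} (F G : EtCoh.Ab X) (φ : F ⟶ G)
    (hF : EtCoh.IsFiniteLocallyConstant F) (hG : EtRest.IsLocallyConstant G) :
    ∃ (ι : Type u) (U : ι → X.Etale), EtCoh.Covers U ∧ ∀ i, ∃ (M N : Type (u + 1)) (_ : AddCommGroup M) (_ : AddCommGroup N)
      (h : M →+ N)
      (α : EtCoh.restr F (U i) ≅ (constantSheaf (X.smallEtaleTopology.over (U i)) AddCommGrpCat.{u + 1}).obj (AddCommGrpCat.of M))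
      (β : EtCoh.restr G (U i) ≅ (constantSheaf (X.smallEtaleTopology.over (U i)) AddCommGrpCat.{u + 1}).obj (AddCommGrpCat.of N)),
      (X.smallEtaleTopology.overPullback AddCommGrpCat.{u + 1} (U i)).map φ ≫ β.hom = α.hom ≫ (constantSheaf (X.smallEtaleTopology.over (U i)) AddCommGrpCat.{u + 1}).map (AddCommGrpCat.ofHom h) := by
  obtain ⟨ι₁, U₁, hU₁, h₁⟩ := hF
  obtain ⟨ι₂, U₂, hU₂, h₂⟩ := hG
  suffices key : ∀ x : X, ∃ (V : X.Etale), x ∈ Set.range V.hom.base ∧
      ∃ (M N : Type (u + 1)) (_ : AddCommGroup M) (_ : AddCommGroup N) (h : M →+ N)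
      (α : EtCoh.restr F V ≅ (constantSheaf (X.smallEtaleTopology.over V) AddCommGrpCat.{u + 1}).obj (AddCommGrpCat.of M))
      (β : EtCoh.restr G V ≅ (constantSheaf (X.smallEtaleTopology.over V) AddCommGrpCat.{u + 1}).obj (AddCommGrpCat.of N)),
      (X.smallEtaleTopology.overPullback AddCommGrpCat.{u + 1} V).map φ ≫ β.hom = α.hom ≫
        (constantSheaf (X.smallEtaleTopology.over V) AddCommGrpCat.{u + 1}).map (AddCommGrpCat.ofHom h) by
    choose V hx rest using key
    exact ⟨X, V, fun x => ⟨x, hx x⟩, rest⟩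
  intro x
  obtain ⟨i, p₁, hp₁⟩ := hU₁ x
  obtain ⟨j, p₂, hp₂⟩ := hU₂ x
  obtain ⟨M, iM, fM, ⟨eM⟩⟩ := h₁ i
  obtain ⟨N, iN, ⟨eN⟩⟩ := h₂ j
  obtain ⟨φM, hM⟩ := EtFound.exists_constBy eM
  obtain ⟨φN, hN⟩ := EtFound.exists_constBy eN
  obtain ⟨Ω, _, _, ξ, u₁, hu₁⟩ := EtFound.exists_algClosed_point (U₁ i) p₁
  have hξ : ξ.base (default : Spec (CommRingCat.of Ω)) = x :=
    (EtFound.base_of_point u₁).symm.trans ((congrArg _ hu₁).trans hp₁)
  obtain ⟨u₂, -⟩ := Scheme.pointSmallEtaleFiberObjToPreimage_surjective ξ hξ (U₂ j) ⟨p₂, hp₂⟩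
  obtain ⟨⟨W, w⟩, ⟨a, -⟩, ⟨b, -⟩, -⟩ := IsCofilteredOrEmpty.cone_objs
    ((Scheme.pointSmallEtale ξ).fiber.elementsMk (U₁ i) u₁) ((Scheme.pointSmallEtale ξ).fiber.elementsMk (U₂ j) u₂)
  have hM' := hM.restrict a
  have hN' := hN.restrict b
  let φW := φM ≫ F.obj.map a.op
  let ψW := φN ≫ G.obj.map b.op
  choose hn hhn using fun m : ULift.{u + 1} M => (hN' Ω ξ w).2
    ((Scheme.pointSmallEtale ξ).toPresheafFiber W w G.obj (φ.hom.app (op W) (φW m)))
  have : Finite (ULift.{u + 1} M) := inferInstance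
  obtain ⟨V, g, v, -, hg⟩ := EtFound.exists_forall_eq G.obj w (fun m : ULift.{u + 1} M => φ.hom.app (op W) (φW m))
    (fun m => ψW (hn m)) (fun m => ((hhn m).symm.trans (ConcreteCategory.comp_apply _ _ _)))
  have hadd : ∀ m m', hn (m + m') = hn m + hn m' := fun m m' => (hN' Ω ξ w).1 (by
    refine (hhn (m + m')).trans ?_
    rw [map_add]
    refine Eq.trans ?_ (map_add (ψW ≫ (Scheme.pointSmallEtale ξ).toPresheafFiber W w G.obj).hom (hn m) (hn m')).symm
    refine Eq.trans ?_ (congrArg₂ (· + ·) (hhn m) (hhn m')).symm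
    exact (congrArg _ (map_add (φ.hom.app (op W)).hom _ _)).trans
      (map_add ((Scheme.pointSmallEtale ξ).toPresheafFiber W w G.obj).hom _ _))
  let h : ULift.{u + 1} M →+ N := AddMonoidHom.mk' hn hadd
  have hMV := hM'.restrict g
  have hNV := hN'.restrict g
  have := EtFound.isIso_constMap hMV
  have := EtFound.isIso_constMap hNV
  have e : (φW ≫ F.obj.map g.op) ≫ φ.hom.app (op V) = AddCommGrpCat.ofHom h ≫ ψW ≫ G.obj.map g.op := by
    refine ConcreteCategory.hom_ext _ _ fun m => ?_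
    exact ((NatTrans.naturality_apply φ.hom g.op (φW m)).trans (hg m))
  refine ⟨V, ⟨_, (EtFound.base_of_point v).trans hξ⟩, ULift.{u + 1} M, N, inferInstance, iN, h,
    (asIso (EtFound.constMap (φW ≫ F.obj.map g.op))).symm, (asIso (EtFound.constMap (ψW ≫ G.obj.map g.op))).symm, ?_⟩
  simp only [Iso.symm_hom, asIso_inv]
  rw [IsIso.comp_inv_eq, Category.assoc, IsIso.eq_inv_comp]
  exact EtFound.constMap_natural φ (AddCommGrpCat.ofHom h) e

end Groth.Agent.S6647
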