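import Groth.Statements.S6648
import Groth.Agent.EtFound.Germ
import Mathlib.AlgebraicGeometry.Morphisms.UniversallyOpen

set_option autoImplicit false
open CategoryTheory CategoryTheory.Limits AlgebraicGeometry Opposite
universe u
open EtCore

namespace Groth.Agent.S6648

/-- For a sheaf of (commutative) rings O on the small etale site of a scheme S, the set of points s of S
over which some geometric stalk of O is a nonzero ring is closed in S. (Rings are taken in the
universe of the schemes, as for the structure presheaf of the prelude.) -/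
theorem result {S : Scheme.{u}} (O : Sheaf S.smallEtaleTopology CommRingCat.{u}) :
    IsClosed {s : ↥S | ∃ (Ω : Type u) (_ : Field Ω) (_ : IsSepClosed Ω) (ξ : Spec (CommRingCat.of Ω) ⟶ S),
      ξ.base default = s ∧ Nontrivial ↑((Scheme.pointSmallEtale ξ).presheafFiber.obj O.obj)} := by
  rw [← isOpen_compl_iff, isOpen_iff_forall_mem_open]
  intro x hx
  obtain ⟨Ω, _, _, ξ, z, hz⟩ := EtFound.exists_point_through (EtCoh.top S) x
  have hzξ : (z.left : Spec (CommRingCat.of Ω) ⟶ S) = ξ :=
    (Category.comp_id _).symm.trans (CategoryTheory.Over.w z)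
  have hξ : ξ.base default = x :=
    (congrArg (fun a : Spec (CommRingCat.of Ω) ⟶ S => a.base default) hzξ.symm).trans (hz default)
  have : Subsingleton ↑((Scheme.pointSmallEtale ξ).presheafFiber.obj O.obj) :=
    not_nontrivial_iff_subsingleton.1 fun h => hx ⟨Ω, _, _, ξ, hξ, h⟩
  obtain ⟨V, g, v, hv, h10⟩ := ((Scheme.pointSmallEtale ξ).toPresheafFiber_eq_iff' _ z (1 : O.obj.obj (op (EtCoh.top S))) 0).1
    (Subsingleton.elim _ _)
  have := EtFound.etale_left g
  refine ⟨Set.range g.left.base, ?_, g.left.isOpenMap.isOpen_range,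
    ⟨(v.left : Spec (CommRingCat.of Ω) ⟶ V.left).base (default : Spec (CommRingCat.of Ω)), ?_⟩⟩
  · rintro y ⟨w, rfl⟩ ⟨Ω', _, _, ζ, hζ, hnt⟩
    let z' : (Scheme.pointSmallEtale ζ).fiber.obj (EtCoh.top S) :=
      CategoryTheory.Over.homMk ζ (Category.comp_id _)
    obtain ⟨v', hv', -⟩ := EtFound.exists_lift_point g z' w hζ.symm
    have e : (Scheme.pointSmallEtale ζ).toPresheafFiber V v' O.obj (O.obj.map g.op 1) =
        (Scheme.pointSmallEtale ζ).toPresheafFiber V v' O.obj (O.obj.map g.op 0) := congrArg _ h10
    rw [map_one, map_zero, map_one, map_zero] at e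
    exact one_ne_zero e
  · subst hv
    exact hz default

end Groth.Agent.S6648
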