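import Groth.Statements.S6649
import Groth.Agent.VarDim.Top
import Groth.Agent.TsenLib.Norm

set_option autoImplicit false
open CategoryTheory CategoryTheory.Limits AlgebraicGeometry Opposite
universe u
open Curves

namespace Groth.Agent.S6649

/-- For a curve C over an algebraically closed field k (C integral of dimension one, separated and of
finite type over k) the Brauer group of the function field of C is zero: every finite-dimensional
central division algebra over the function field has dimension one. -/
theorem result (k : Type u) [Field k] [IsAlgClosed k] (C : Scheme.{u})
    (f : C ⟶ Spec (CommRingCat.of k)) [IsSeparated f] [LocallyOfFiniteType f] [QuasiCompact f] [IsIntegral C]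
    (hdim : topologicalKrullDim ↥C = 1)
    (D : Type u) [DivisionRing D] [Algebra ↑C.functionField D] [Algebra.IsCentral ↑C.functionField D]
    [FiniteDimensional ↑C.functionField D] : Module.finrank ↑C.functionField D = 1 := by
  have hd : VarDim.deg f (genericPoint C) = 1 := by
    have h := VarDim.topologicalKrullDim_eq_deg_genericPoint f
    rw [hdim] at h
    exact_mod_cast h.symm
  letI : Algebra k (C.residueField (genericPoint C)) := (VarDim.resHom f (genericPoint C)).toAlgebra
  have htr : Algebra.trdeg k (C.residueField (genericPoint C)) = ((1 : ℕ) : Cardinal) := by
    rw [← hd]
    exact (VarDim.deg_eq_tdeg f (genericPoint C)).symm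
  have hbij : Function.Bijective (C.residue (genericPoint C)).hom :=
    ⟨RingHom.injective (C.residue (genericPoint C)).hom (R := C.functionField),
      C.residue_surjective _⟩
  have hK : Curves.IsCi (↑C.functionField) 1 :=
    TsenLib.isCi_of_ringEquiv (RingEquiv.ofBijective (C.residue (genericPoint C)).hom hbij).symm
      (TsenLib.tsen_lang htr)
  exact TsenLib.finrank_eq_one_of_isCr_one (TsenLib.isCr_one_of_isCi hK)

end Groth.Agent.S6649
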