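import Groth.Statements.S6655
import Groth.Agent.EtFound.FLCAb
import Groth.Agent.EtFound.PullConst

set_option autoImplicit false
open CategoryTheory CategoryTheory.Limits AlgebraicGeometry Opposite
universe u
open EtModW

namespace Groth.Agent.S6655

/-- Part (3): with both sheaves of finite type: let Λ be a commutative ring and φ : F ⟶ G a map of
finite type locally constant sheaves of Λ-modules on the small etale site of a scheme X. Then on the
members of some etale covering of X the restriction of φ is, up to isomorphisms with constant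
sheaves on both sides, the map of constant sheaves induced by a Λ-linear map. (The published
statement allows G to be any locally constant sheaf of Λ-modules; this row assumes G of finite type
as well.) -/
theorem result (Λ : Type (u + 1)) [CommRing Λ] {X : Scheme.{u}} (F G : EtModW.Mod Λ X)
    (φ : F ⟶ G) (hF : EtModW.IsFTLocConst Λ F) (hG : EtModW.IsFTLocConst Λ G) :
    ∃ (ι : Type u) (U : ι → X.Etale), EtCoh.Covers U ∧ ∀ i, ∃ (M N : Type (u + 1)) (_ : AddCommGroup M) (_ : AddCommGroup N)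
      (_ : Module Λ M) (_ : Module Λ N) (h : M →ₗ[Λ] N)
      (α : EtModW.restr Λ F (U i) ≅ (constantSheaf (X.smallEtaleTopology.over (U i)) (ModuleCat.{u + 1} Λ)).obj (ModuleCat.of Λ M))
      (β : EtModW.restr Λ G (U i) ≅ (constantSheaf (X.smallEtaleTopology.over (U i)) (ModuleCat.{u + 1} Λ)).obj (ModuleCat.of Λ N)),
      (X.smallEtaleTopology.overPullback (ModuleCat.{u + 1} Λ) (U i)).map φ ≫ β.hom =
        α.hom ≫ (constantSheaf (X.smallEtaleTopology.over (U i)) (ModuleCat.{u + 1} Λ)).map (ModuleCat.ofHom h) := by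
  haveI : PreservesFilteredColimitsOfSize.{u, u} (forget (ModuleCat.{u + 1} Λ)) :=
    preservesFilteredColimitsOfSize_of_univLE.{u + 1, u + 1, u, u} _
  haveI : HasLimitsOfSize.{u, u} (ModuleCat.{u + 1} Λ) := ModuleCat.hasLimitsOfSize.{u, u, u + 1, u + 1}
  haveI : HasProducts.{u} (ModuleCat.{u + 1} Λ) := fun J => inferInstance
  obtain ⟨ι₁, U₁, hU₁, h₁⟩ := hF
  obtain ⟨ι₂, U₂, hU₂, h₂⟩ := hG
  suffices key : ∀ x : X, ∃ (V : X.Etale), x ∈ Set.range V.hom.base ∧
      ∃ (M N : Type (u + 1)) (_ : AddCommGroup M) (_ : AddCommGroup N) (_ : Module Λ M) (_ : Module Λ N)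
      (h : M →ₗ[Λ] N)
      (α : EtModW.restr Λ F V ≅ (constantSheaf (X.smallEtaleTopology.over V) (ModuleCat.{u + 1} Λ)).obj (ModuleCat.of Λ M))
      (β : EtModW.restr Λ G V ≅ (constantSheaf (X.smallEtaleTopology.over V) (ModuleCat.{u + 1} Λ)).obj (ModuleCat.of Λ N)),
      (X.smallEtaleTopology.overPullback (ModuleCat.{u + 1} Λ) V).map φ ≫ β.hom = α.hom ≫
        (constantSheaf (X.smallEtaleTopology.over V) (ModuleCat.{u + 1} Λ)).map (ModuleCat.ofHom h) by
    choose V hx rest using key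
    exact ⟨X, V, fun x => ⟨x, hx x⟩, rest⟩
  intro x
  obtain ⟨i, p₁, hp₁⟩ := hU₁ x
  obtain ⟨j, p₂, hp₂⟩ := hU₂ x
  obtain ⟨M, iM, mM, fM, ⟨eM⟩⟩ := h₁ i
  obtain ⟨N, iN, mN, fN, ⟨eN⟩⟩ := h₂ j
  obtain ⟨φM, hM⟩ := Groth.Agent.EtFound.exists_constBy eM
  obtain ⟨φN, hN⟩ := Groth.Agent.EtFound.exists_constBy eN
  obtain ⟨Ω, _, _, ξ, u₁, hu₁⟩ := Groth.Agent.EtFound.exists_algClosed_point (U₁ i) p₁
  have hξ : ξ.base (default : Spec (CommRingCat.of Ω)) = x :=
    (Groth.Agent.EtFound.base_of_point u₁).symm.trans ((congrArg _ hu₁).trans hp₁)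
  obtain ⟨u₂, -⟩ := Scheme.pointSmallEtaleFiberObjToPreimage_surjective ξ hξ (U₂ j) ⟨p₂, hp₂⟩
  obtain ⟨⟨W, w⟩, ⟨a, -⟩, ⟨b, -⟩, -⟩ := IsCofilteredOrEmpty.cone_objs
    ((Scheme.pointSmallEtale ξ).fiber.elementsMk (U₁ i) u₁) ((Scheme.pointSmallEtale ξ).fiber.elementsMk (U₂ j) u₂)
  have hM' := hM.restrict a
  have hN' := hN.restrict b
  let φW : ModuleCat.of Λ M ⟶ F.obj.obj (op W) := φM ≫ F.obj.map a.op
  let ψW : ModuleCat.of Λ N ⟶ G.obj.obj (op W) := φN ≫ G.obj.map b.op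
  have hk : IsIso (ψW ≫ (Scheme.pointSmallEtale ξ).toPresheafFiber W w G.obj) :=
    (ConcreteCategory.isIso_iff_bijective _).2 (hN' Ω ξ w)
  let h : ModuleCat.of Λ M ⟶ ModuleCat.of Λ N :=
    φW ≫ φ.hom.app (op W) ≫ (Scheme.pointSmallEtale ξ).toPresheafFiber W w G.obj ≫
      inv (ψW ≫ (Scheme.pointSmallEtale ξ).toPresheafFiber W w G.obj)
  obtain ⟨S, hS⟩ := Module.Finite.fg_top (R := Λ) (M := M)
  have hh : ∀ m : M, (Scheme.pointSmallEtale ξ).toPresheafFiber W w G.obj (φ.hom.app (op W) (φW m)) =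
      (Scheme.pointSmallEtale ξ).toPresheafFiber W w G.obj (ψW (h m)) := fun m => by
    have e : h ≫ ψW ≫ (Scheme.pointSmallEtale ξ).toPresheafFiber W w G.obj =
        φW ≫ φ.hom.app (op W) ≫ (Scheme.pointSmallEtale ξ).toPresheafFiber W w G.obj := by
      simp only [h, Category.assoc, IsIso.inv_hom_id, Category.comp_id]
    exact (ConcreteCategory.congr_hom e m).symm
  obtain ⟨V, g, v, -, hg⟩ := Groth.Agent.EtFound.exists_forall_eq G.obj w
    (fun m : (S : Set M) => φ.hom.app (op W) (φW m.1)) (fun m => ψW (h m.1)) (fun m => hh m.1)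
  have hMV := hM'.restrict g
  have hNV := hN'.restrict g
  have := Groth.Agent.EtFound.isIso_constMap hMV
  have := Groth.Agent.EtFound.isIso_constMap hNV
  have e : (φW ≫ F.obj.map g.op) ≫ φ.hom.app (op V) = h ≫ ψW ≫ G.obj.map g.op := by
    refine ModuleCat.hom_ext (LinearMap.ext_on hS fun m hm => ?_)
    exact (NatTrans.naturality_apply φ.hom g.op (φW m)).trans (hg ⟨m, hm⟩)
  refine ⟨V, ⟨_, (Groth.Agent.EtFound.base_of_point v).trans hξ⟩, M, N, iM, iN, mM, mN, h.hom,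
    (asIso (Groth.Agent.EtFound.constMap (φW ≫ F.obj.map g.op))).symm, (asIso (Groth.Agent.EtFound.constMap (ψW ≫ G.obj.map g.op))).symm, ?_⟩
  simp only [Iso.symm_hom, asIso_inv]
  rw [IsIso.comp_inv_eq, Category.assoc, IsIso.eq_inv_comp]
  exact Groth.Agent.EtFound.constMap_natural φ h e

end Groth.Agent.S6655
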