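import Groth.Statements.S6656
import Groth.Agent.EtFound.CoprodSections
import Groth.Agent.EtFound.CechInjGen
import Mathlib.Data.Finset.Lattice.Fold
-- import your own Groth.Agent.* helpers here

set_option autoImplicit false
open CategoryTheory CategoryTheory.Limits AlgebraicGeometry Opposite
universe u
open EtCore

namespace Groth.Agent.S6656

/-- Let F be an abelian sheaf on the small etale site of a scheme X, U an etale X-scheme, {U_i ⟶ U} a
finite family of etale X-schemes over U, and V ⟶ U an etale X-scheme over U with U-morphisms U_i ⟶ V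
making the underlying scheme of V the coproduct (disjoint union) of the U_i. Then the Čech complex
of F for the family {U_i ⟶ U} and the Čech complex of F for the single morphism {V ⟶ U} are
isomorphic cochain complexes (existence of an isomorphism; fibre products over U in the small etale
site are carried as the finite-products binder of the Čech complex). (The published statement is for
a standard covering, whose members are affine; this row allows any finite family with V their
disjoint union, which the same argument covers.) -/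
theorem result {X : Scheme.{u}} (F : EtCoh.Ab X) (U : X.Etale)
    [HasFiniteProducts (Over U)] {ι : Type (u + 1)} [Finite ι] (Uf : ι → Over U)
    (V : Over U) (incl : ∀ i, Uf i ⟶ V)
    (hV : IsColimit (Cofan.mk V.left.left fun i => (incl i).left.left)) :
    Nonempty (EtCech.cechComplex Uf F.obj ≅ EtCech.cechComplex (fun _ : PUnit.{u + 2} => V) F.obj) := by
  haveI : LocallySmall.{u + 1} X.Etale := ⟨fun _ _ => inferInstance⟩
  obtain ⟨hcov, hdisj, hmono, hoi⟩ := Groth.Agent.EtFound.cover_disjoint_mono_of_isColimit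
    (fun i => (Uf i).left) (fun i => (incl i).left) hV
  haveI hm : ∀ i, Mono (incl i) := fun i => (CategoryTheory.Over.forget U).mono_of_mono_map (hmono i)
  let Vc : PUnit.{u + 2} → Over U := fun _ => V
  let q : ∀ {n : ℕ} (i : Fin (n + 1) → ι), (∏ᶜ fun k => Uf (i k)) ⟶ ∏ᶜ fun _ : Fin (n + 1) => V :=
    fun i => Limits.Pi.map fun k => incl (i k)
  have hq : ∀ {n : ℕ} (i : Fin (n + 1) → ι) (k : Fin (n + 1)),
      (q i).left ≫ (Pi.π (fun _ : Fin (n + 1) => V) k).left =
        (Pi.π (fun k => Uf (i k)) k).left ≫ (incl (i k)).left := fun i k =>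
    congrArg Over.Hom.left (Limits.Pi.map_π (fun k => incl (i k)) k)
  have hqm : ∀ {n : ℕ} (i : Fin (n + 1) → ι), Mono (q i).left := fun {n} i => by
    refine ⟨fun {Z} a b hab => Groth.Agent.EtFound.CechInjGen.hom_ext_prod (Uf := Uf) i a b fun k => ?_⟩
    rw [← cancel_mono (incl (i k)).left, Category.assoc, Category.assoc, ← hq i k, ← Category.assoc,
      ← Category.assoc, hab]
  have hqc : ∀ {n : ℕ} (x : (∏ᶜ fun _ : Fin (n + 1) => V).left.left),
      ∃ (i : Fin (n + 1) → ι) (z : (∏ᶜ fun k => Uf (i k)).left.left), (q i).left.left.base z = x := by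
    intro n x
    let W := (∏ᶜ fun _ : Fin (n + 1) => V).left
    choose i y hy using fun k : Fin (n + 1) => hcov ((Pi.π (fun _ : Fin (n + 1) => V) k).left.left.base x)
    haveI := fun j => hoi j
    let O : W.left.Opens := Finset.univ.inf fun k : Fin (n + 1) =>
      (Pi.π (fun _ : Fin (n + 1) => V) k).left.left ⁻¹ᵁ (incl (i k)).left.left.opensRange
    have hO : ∀ k, O ≤ (Pi.π (fun _ : Fin (n + 1) => V) k).left.left ⁻¹ᵁ (incl (i k)).left.left.opensRange :=
      fun k => Finset.inf_le (Finset.mem_univ k)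
    have hxO : x ∈ O := by
      have hmem : ∀ s : Finset (Fin (n + 1)), x ∈ s.inf fun k : Fin (n + 1) =>
          (Pi.π (fun _ : Fin (n + 1) => V) k).left.left ⁻¹ᵁ (incl (i k)).left.left.opensRange := by
        intro s
        induction s using Finset.induction with
        | empty => exact TopologicalSpace.Opens.mem_top x
        | @insert k s _ ih =>
          rw [Finset.inf_insert]
          exact ⟨⟨y k, hy k⟩, ih⟩
      exact hmem _
    haveI : AlgebraicGeometry.Etale W.hom := W.prop
    let Wo : X.Etale := Scheme.Etale.mk (O.ι ≫ W.hom)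
    let j : Wo ⟶ W := MorphismProperty.Over.homMk O.ι rfl trivial
    have hle : ∀ k, Set.range (O.ι ≫ (Pi.π (fun _ : Fin (n + 1) => V) k).left.left).base ⊆
        Set.range (incl (i k)).left.left.base := fun k => by
      rintro _ ⟨a, rfl⟩
      exact hO k a.2
    let l : ∀ k, Wo ⟶ (Uf (i k)).left := fun k => MorphismProperty.Over.homMk
      (IsOpenImmersion.lift (incl (i k)).left.left (O.ι ≫ (Pi.π (fun _ : Fin (n + 1) => V) k).left.left)
        (hle k)) (by
        refine (congrArg (_ ≫ ·) (MorphismProperty.Over.w (incl (i k)).left).symm).trans ?_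
        refine (IsOpenImmersion.lift_fac_assoc _ _ _ _).trans ?_
        refine (Category.assoc _ _ _).trans ?_
        exact congrArg (O.ι ≫ ·) (MorphismProperty.Over.w (Pi.π (fun _ : Fin (n + 1) => V) k).left)) trivial
    have hl : ∀ k, l k ≫ (incl (i k)).left = j ≫ (Pi.π (fun _ : Fin (n + 1) => V) k).left := fun k =>
      MorphismProperty.Over.Hom.ext (IsOpenImmersion.lift_fac _ _ _)
    let T : Over U := CategoryTheory.Over.mk (j ≫ (∏ᶜ fun _ : Fin (n + 1) => V).hom)
    let m : T ⟶ ∏ᶜ fun k => Uf (i k) := Pi.lift fun k => CategoryTheory.Over.homMk (l k) (by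
      show l k ≫ (Uf (i k)).hom = j ≫ (∏ᶜ fun _ : Fin (n + 1) => V).hom
      rw [← CategoryTheory.Over.w (incl (i k)), ← Category.assoc, hl, Category.assoc, CategoryTheory.Over.w])
    have hmq : m.left ≫ (q i).left = j :=
      Groth.Agent.EtFound.CechInjGen.hom_ext_prod (Uf := Vc) (fun _ => PUnit.unit) _ _ fun k => by
        rw [Category.assoc]
        refine (congrArg (m.left ≫ ·) (hq i k)).trans ?_
        rw [← Category.assoc]
        have hmk : m.left ≫ (Pi.π (fun k => Uf (i k)) k).left = l k :=
          congrArg Over.Hom.left (Pi.lift_π _ k)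
        rw [hmk]
        exact hl k
    refine ⟨i, m.left.left.base ⟨x, hxO⟩, ?_⟩
    show (m.left ≫ (q i).left).left.base ⟨x, hxO⟩ = x
    rw [hmq]
    rfl
  have hqd : ∀ {n : ℕ} (i i' : Fin (n + 1) → ι), i ≠ i' → ∀ a b,
      (q i).left.left.base a ≠ (q i').left.left.base b := by
    intro n i i' hne a b hab
    obtain ⟨k, hk⟩ := Function.ne_iff.1 hne
    refine hdisj _ _ hk ((Pi.π (fun k => Uf (i k)) k).left.left.base a)
      ((Pi.π (fun k => Uf (i' k)) k).left.left.base b) ?_
    show ((Pi.π (fun k => Uf (i k)) k).left ≫ (incl (i k)).left).left.base a =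
      ((Pi.π (fun k => Uf (i' k)) k).left ≫ (incl (i' k)).left).left.base b
    rw [← hq i k, ← hq i' k]
    exact congrArg (Pi.π (fun _ : Fin (n + 1) => V) k).left.left.base hab
  have hb : ∀ n, Function.Bijective
      (fun (s : F.obj.obj (op (∏ᶜ fun _ : Fin (n + 1) => V).left)) (i : Fin (n + 1) → ι) =>
        F.obj.map (q i).left.op s) := fun n => by
    haveI := fun i : Fin (n + 1) → ι => hqm i
    exact Groth.Agent.EtFound.bijective_sections_of_disjoint F _ (fun i => (q i).left) hqc hqd
  let φ : ∀ n, (EtCech.cechComplex Vc F.obj).X n ⟶ (EtCech.cechComplex Uf F.obj).X n := fun n =>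
    Pi.lift fun i : Fin (n + 1) → ι =>
      Pi.π (fun j : Fin (n + 1) → PUnit.{u + 2} => F.obj.obj (op (∏ᶜ fun k => Vc (j k)).left))
        (fun _ => PUnit.unit) ≫ F.obj.map (q i).left.op
  have hφ : ∀ n i x, Groth.Agent.EtFound.CechInjGen.cev Uf F.obj n i ((φ n).hom x) =
      (F.obj.map (q i).left.op).hom
        (Groth.Agent.EtFound.CechInjGen.cev Vc F.obj n (fun _ => PUnit.unit) x) := fun n i x =>
    ConcreteCategory.congr_hom (Pi.lift_π _ i) x
  have hiso : ∀ n, IsIso (φ n) := fun n => by
    refine (ConcreteCategory.isIso_iff_bijective _).2 ⟨fun a b hab => ?_, fun y => ?_⟩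
    · refine Groth.Agent.EtFound.CechInjGen.cev_ext Vc F.obj fun j => ?_
      have hj : j = fun _ => PUnit.unit := funext fun _ => rfl
      subst hj
      exact (hb n).1 (funext fun i => (hφ n i a).symm.trans
        ((congrArg (Groth.Agent.EtFound.CechInjGen.cev Uf F.obj n i) hab).trans (hφ n i b)))
    · obtain ⟨s, hs⟩ := (hb n).2 fun i => Groth.Agent.EtFound.CechInjGen.cev Uf F.obj n i y
      obtain ⟨x, hx⟩ := Groth.Agent.EtFound.CechInjGen.exists_cev Vc F.obj (n := n) fun _ => s
      exact ⟨x, Groth.Agent.EtFound.CechInjGen.cev_ext Uf F.obj fun i =>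
        (hφ n i x).trans ((congrArg (F.obj.map (q i).left.op).hom (hx _)).trans (congrFun hs i))⟩
  refine ⟨(HomologicalComplex.Hom.isoOfComponents (fun n => @asIso _ _ _ _ (φ n) (hiso n)) ?_).symm⟩
  rintro n p (rfl : n + 1 = p)
  refine AddCommGrpCat.hom_ext (AddMonoidHom.ext fun x =>
    Groth.Agent.EtFound.CechInjGen.cev_ext Uf F.obj fun i => ?_)
  show Groth.Agent.EtFound.CechInjGen.cev Uf F.obj (n + 1) i
      (((EtCech.cechComplex Uf F.obj).d n (n + 1)).hom ((φ n).hom x)) =
    Groth.Agent.EtFound.CechInjGen.cev Uf F.obj (n + 1) i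
      ((φ (n + 1)).hom (((EtCech.cechComplex Vc F.obj).d n (n + 1)).hom x))
  rw [hφ, Groth.Agent.EtFound.CechInjGen.cev_d, Groth.Agent.EtFound.CechInjGen.cev_d]
  refine Eq.trans ?_ (map_sum _ _ _).symm
  refine Finset.sum_congr rfl fun j _ => ?_
  rw [hφ]
  refine Eq.trans ?_ (map_zsmul _ _ _).symm
  refine congrArg (fun z => (-1 : ℤ) ^ (j : ℕ) • z) ?_
  refine ((ConcreteCategory.congr_hom (F.obj.map_comp (q (i ∘ j.succAbove)).left.op
    (Groth.Agent.EtFound.CechInjGen.tmap Uf i j).left.op) _).symm.trans ?_).trans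
    (ConcreteCategory.congr_hom (F.obj.map_comp
      (Groth.Agent.EtFound.CechInjGen.tmap Vc (fun _ => PUnit.unit) j).left.op (q i).left.op) _)
  refine congrArg (fun m : (∏ᶜ fun k => Uf (i k)).left ⟶ (∏ᶜ fun _ : Fin (n + 1) => V).left =>
    (F.obj.map m.op).hom _) ?_
  refine Groth.Agent.EtFound.CechInjGen.hom_ext_prod (Uf := Vc) (fun _ => PUnit.unit) _ _ fun k => ?_
  rw [Category.assoc, Category.assoc]
  refine (congrArg (_ ≫ ·) (hq (i ∘ j.succAbove) k)).trans ?_
  rw [← Category.assoc]
  have ht : (Groth.Agent.EtFound.CechInjGen.tmap Uf i j).left ≫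
      (Pi.π (fun k => Uf ((i ∘ j.succAbove) k)) k).left = (Pi.π (fun k => Uf (i k)) (j.succAbove k)).left :=
    congrArg Over.Hom.left (Pi.lift_π (fun k => Pi.π (fun k => Uf (i k)) (j.succAbove k)) k)
  refine (congrArg (· ≫ (incl (i (j.succAbove k))).left) ht).trans ?_
  refine (hq i (j.succAbove k)).symm.trans ?_
  exact congrArg ((q i).left ≫ ·) (congrArg Over.Hom.left
    (Pi.lift_π (fun k => Pi.π (fun _ : Fin (n + 2) => V) (j.succAbove k)) k).symm)

end Groth.Agent.S6656
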