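import Groth.Statements.S6658
import Groth.Agent.EtFound.LocCoh
-- import your own Groth.Agent.* helpers here

set_option autoImplicit false
universe u
open CategoryTheory CategoryTheory.Limits AlgebraicGeometry Opposite
open EtDual

namespace Groth.Agent.S6658

/-- The exact sequence and the isomorphisms: let j : U → X be an open immersion of schemes with closed
complement Z and F an abelian sheaf on the small etale site of X. Write H^q_Z(F) for the q-th local
cohomology sheaf of F with support in Z, kept as a sheaf on X (the q-th right derived functor of G ↦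
ker(G → j_* j⁻¹ G)). Then the cokernel of the unit F → j_* j⁻¹ F is isomorphic to H^1_Z(F), and for
every p ≥ 1 the higher direct image R^p j_* (j⁻¹ F) is isomorphic to H^{p+1}_Z(F). (The published
statement also gives the distinguished triangle behind these isomorphisms and identifies them with
its connecting maps; this row asserts only that isomorphisms exist.) -/
theorem result {X U : Scheme.{u}} (j : U ⟶ X) [IsOpenImmersion j]
    (F : EtCoh.Ab X) :
    Nonempty (cokernel (EtDual.unitApp j F) ≅ (EtDual.locCoh j 1).obj F) ∧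
      ∀ p : ℕ, 1 ≤ p →
        Nonempty ((EtCoh.Rpush j p).obj ((EtCoh.pull j).obj F) ≅ (EtDual.locCoh j (p + 1)).obj F) := by
  have key : ∀ G : EtCoh.Ab X, Nonempty (cokernel (EtDual.unitApp j G) ≅ (EtDual.locCoh j 1).obj G) := fun G =>
    haveI : Injective (EtMVLib.injSES G).X₂ := inferInstanceAs (Injective (Injective.under G))
    EtFound.nonempty_cokernel_iso_locCoh_one j (EtMVLib.injSES G) (EtMVLib.injSES_shortExact G)
  refine ⟨key F, fun p hp => ?_⟩
  obtain ⟨p, rfl⟩ := Nat.exists_eq_add_of_le hp
  rw [show 1 + p = p + 1 from Nat.add_comm 1 p]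
  induction p generalizing F with
  | zero =>
    haveI : Injective (EtMVLib.injSES F).X₂ := inferInstanceAs (Injective (Injective.under F))
    obtain ⟨a⟩ := EtFound.nonempty_cokernel_iso_Rpush_one j (EtMVLib.injSES F) (EtMVLib.injSES_shortExact F)
    obtain ⟨b⟩ := key (EtMVLib.injSES F).X₃
    obtain ⟨c⟩ := EtFound.nonempty_locCoh_iso_succ j (EtMVLib.injSES F) (EtMVLib.injSES_shortExact F) 0
    exact ⟨a.symm ≪≫ b ≪≫ c⟩
  | succ p ih =>
    haveI : Injective (EtMVLib.injSES F).X₂ := inferInstanceAs (Injective (Injective.under F))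
    obtain ⟨a⟩ := EtFound.nonempty_Rpush_iso_succ j (EtMVLib.injSES F) (EtMVLib.injSES_shortExact F) p
    obtain ⟨b⟩ := ih (F := (EtMVLib.injSES F).X₃) (by omega)
    obtain ⟨c⟩ := EtFound.nonempty_locCoh_iso_succ j (EtMVLib.injSES F) (EtMVLib.injSES_shortExact F) (p + 1)
    exact ⟨a.symm ≪≫ b ≪≫ c⟩

end Groth.Agent.S6658
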