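import Groth.Statements.S6661
import Groth.Agent.EtBC.MonoBcQ
import Groth.Agent.EtBC.VPasteIn
import Groth.Agent.S0655
import Groth.Agent.EtFound.Detect
-- import your own Groth.Agent.* helpers here

set_option autoImplicit false
universe u
open CategoryTheory CategoryTheory.Limits AlgebraicGeometry Opposite
open EtBC

namespace Groth.Agent.S6661

set_option linter.style.haveILetI false
set_option backward.isDefEq.respectTransparency.types false

/-- Let f : X → S be a morphism of schemes, n and q ≥ 1 integers, and assume BC(f, n, q − 1). Here BC(f,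
n, q − 1) means: for every base change f₁ : X₁ → S₁ of f along a morphism S₁ → S, every cartesian
square Y₁ = X₁ ×_{S₁} T₁ over a quasi-compact quasi-separated g₁ : T₁ → S₁ (with h₁ : Y₁ → X₁, e₁ :
Y₁ → T₁), and every abelian sheaf G on the small etale site of T₁ killed by n, the base change map
f₁⁻¹ R^a g₁,_* G → R^a h₁,_* e₁⁻¹ G is an isomorphism for all a ≤ q − 1. Let f' : X' → S' be a base
change of f, Y = X' ×_{S'} T a cartesian square over a quasi-compact quasi-separated g : T → S' (h :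
Y → X', e : Y → T), π : T' → T integral and surjective, Y' = Y ×_T T' (π' : Y' → Y, e' : Y' → T'),
so that the composite square Y' → X' over T' → S' is cartesian too, and F an abelian sheaf on the
small etale site of T killed by n. If the degree-q base change map for the composite square and the
sheaf π⁻¹ F is an isomorphism, then the degree-q base change map f'⁻¹ R^q g_* F → R^q h_* e⁻¹ F is
an isomorphism. -/
theorem result {X S : Scheme.{u}} (f : X ⟶ S) (n q : ℕ) (hq : 1 ≤ q)
    (hBC : (∀ ⦃S₁ X₁ T₁ Y₁ : Scheme.{u}⦄ (p₁ : S₁ ⟶ S) (f₁ : X₁ ⟶ S₁) (r₁ : X₁ ⟶ X),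
        IsPullback r₁ f₁ f p₁ →
        ∀ (g₁ : T₁ ⟶ S₁) (h₁ : Y₁ ⟶ X₁) (e₁ : Y₁ ⟶ T₁) (c₁ : IsPullback e₁ h₁ g₁ f₁)
          [QuasiCompact g₁] [QuasiSeparated g₁] [PreservesFiniteLimits (EtCoh.pull e₁)]
          (G₁ : EtCoh.Ab T₁), EtCoh.KilledBy n G₁ →
          ∀ q₁ : ℕ, q₁ ≤ q - 1 → IsIso (EtBC.bcQ g₁ f₁ h₁ e₁ c₁.w q₁ G₁)))
    {S' X' T Y T' Y' : Scheme.{u}} (p : S' ⟶ S) (f' : X' ⟶ S') (r : X' ⟶ X) (hX : IsPullback r f' f p)
    (g : T ⟶ S') (h : Y ⟶ X') (e : Y ⟶ T) (c : IsPullback e h g f') [QuasiCompact g] [QuasiSeparated g]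
    (π : T' ⟶ T) [IsIntegralHom π] [Surjective π] (π' : Y' ⟶ Y) (e' : Y' ⟶ T') (c' : IsPullback e' π' π e)
    (c'' : IsPullback e' (π' ≫ h) (π ≫ g) f')
    [PreservesFiniteLimits (EtCoh.pull e)] [PreservesFiniteLimits (EtCoh.pull e')]
    (F : EtCoh.Ab T) (hF : EtCoh.KilledBy n F)
    (hiso : IsIso (EtBC.bcQ (π ≫ g) f' (π' ≫ h) e' c''.w q ((EtCoh.pull π).obj F))) :
    IsIso (EtBC.bcQ g f' h e c.w q F) := by
  obtain ⟨k, rfl⟩ : ∃ k, q = k + 1 := ⟨q - 1, by omega⟩
  have hk : ∀ G, EtCoh.KilledBy n G → IsIso (EtBC.bcQ g f' h e c.w k G) :=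
    fun G hG => hBC p f' r hX g h e c G hG k (by omega)
  haveI : IsIntegralHom π' := MorphismProperty.of_isPullback c' inferInstance
  haveI := EtFound.push_preservesFiniteColimits π
  haveI := EtFound.push_preservesFiniteColimits π'
  haveI : PreservesFiniteLimits (EtCoh.pull π) := EtFound.pull_preservesFiniteLimits _
  haveI : PreservesFiniteLimits (EtCoh.pull π') := EtFound.pull_preservesFiniteLimits _
  let G := (EtCoh.pull π).obj F
  let H := (EtCoh.push π).obj G
  have hH : IsIso (EtBC.bcQ g f' h e c.w (k + 1) H) := by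
    haveI : IsIso (EtCoh.baseChange0 π e π' e' c'.w G) := Groth.Agent.S0655.result π e π' e' c' G
    haveI := Groth.Agent.EtBC.isIso_lerayEdgeIn π' h (k + 1) ((EtCoh.pull e').obj G)
    haveI := Groth.Agent.EtBC.isIso_lerayEdgeIn π g (k + 1) G
    have hs := Groth.Agent.EtBC.bcQ_stack_in (a := π) (b := g) (g := f') (a' := π') (b' := h) c.w c'.w c''.w (k + 1) G
    refine @IsIso.of_isIso_fac_right _ _ _ _ _ _ _ _ ?_ ?_ hs.symm
    · infer_instance
    · exact IsIso.comp_isIso' inferInstance hiso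
  have hη : Mono ((EtCoh.pullPushAdj π).unit.app F) := by
    haveI : (EtCoh.pull π).Faithful := EtFound.pullback_faithful π
    exact Adjunction.unit_mono_of_L_faithful _ _
  have hm := Groth.Agent.EtBC.mono_cokernel_map_bcQ c.w n k hk ((EtCoh.pullPushAdj π).unit.app F)
    (Groth.Agent.EtBC.killedBy_push π (Groth.Agent.EtBC.killedBy_pull π hF))
  haveI := Groth.Agent.EtBC.mono_bcQ_succ c.w n k hk F hF
  haveI : Epi (EtBC.bcQ g f' h e c.w (k + 1) F) := by
    refine Abelian.epi_of_cokernel_π_eq_zero _ ?_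
    haveI := hH
    exact @zero_of_comp_mono _ _ _ _ _ _ _ _ hm
      ((isZero_cokernel_of_epi (EtBC.bcQ g f' h e c.w (k + 1) H)).eq_of_tgt _ _)
  exact isIso_of_mono_of_epi _

end Groth.Agent.S6661
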