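import Groth.Statements.S6662
import Groth.Agent.EtBC.Devissage
import Groth.Agent.EtBC.VPaste
import Groth.Agent.S0655
import Groth.Agent.EtFound.PushExact
-- import your own Groth.Agent.* helpers here

set_option autoImplicit false
universe u
open CategoryTheory CategoryTheory.Limits AlgebraicGeometry Opposite
open EtBC

namespace Groth.Agent.S6662

set_option linter.style.haveILetI false
set_option backward.isDefEq.respectTransparency.types false

/-- Let f : X → S be a morphism of schemes, n and q ≥ 1 integers, and assume BC(f, n, q − 1). Here BC(f,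
n, q − 1) means: for every base change f₁ : X₁ → S₁ of f along a morphism S₁ → S, every cartesian
square Y₁ = X₁ ×_{S₁} T₁ over a quasi-compact quasi-separated g₁ : T₁ → S₁ (with h₁ : Y₁ → X₁, e₁ :
Y₁ → T₁), and every abelian sheaf G on the small etale site of T₁ killed by n, the base change map
f₁⁻¹ R^a g₁,_* G → R^a h₁,_* e₁⁻¹ G is an isomorphism for all a ≤ q − 1. Let f' : X' → S' be a base
change of f, π : S'' → S' an integral morphism with base change f'' : X'' = X' ×_{S'} S'' → S'' (π'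
: X'' → X'), g' : T → S'' quasi-compact and quasi-separated, Y = X'' ×_{S''} T (h' : Y → X'', e : Y
→ T), so that the outer square Y → X' over T → S' (with maps h' ≫ π' and g' ≫ π) is cartesian too,
and F an abelian sheaf on the small etale site of T killed by n. If the degree-q base change map for
the outer square is an isomorphism, then the degree-q base change map f''⁻¹ R^q g'_* F → R^q h'_*
e⁻¹ F is an isomorphism. -/
theorem result {X S : Scheme.{u}} (f : X ⟶ S) (n q : ℕ) (hq : 1 ≤ q)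
    (hBC : (∀ ⦃S₁ X₁ T₁ Y₁ : Scheme.{u}⦄ (p₁ : S₁ ⟶ S) (f₁ : X₁ ⟶ S₁) (r₁ : X₁ ⟶ X),
        IsPullback r₁ f₁ f p₁ →
        ∀ (g₁ : T₁ ⟶ S₁) (h₁ : Y₁ ⟶ X₁) (e₁ : Y₁ ⟶ T₁) (c₁ : IsPullback e₁ h₁ g₁ f₁)
          [QuasiCompact g₁] [QuasiSeparated g₁] [PreservesFiniteLimits (EtCoh.pull e₁)]
          (G₁ : EtCoh.Ab T₁), EtCoh.KilledBy n G₁ →
          ∀ q₁ : ℕ, q₁ ≤ q - 1 → IsIso (EtBC.bcQ g₁ f₁ h₁ e₁ c₁.w q₁ G₁)))
    {S' X' S'' X'' T Y : Scheme.{u}} (p : S' ⟶ S) (f' : X' ⟶ S') (r : X' ⟶ X) (hX : IsPullback r f' f p)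
    (π : S'' ⟶ S') [IsIntegralHom π] (f'' : X'' ⟶ S'') (π' : X'' ⟶ X') (hX'' : IsPullback π' f'' f' π)
    (g' : T ⟶ S'') [QuasiCompact g'] [QuasiSeparated g'] (h' : Y ⟶ X'') (e : Y ⟶ T)
    (c : IsPullback e h' g' f'') (c' : IsPullback e (h' ≫ π') (g' ≫ π) f')
    [PreservesFiniteLimits (EtCoh.pull e)] (F : EtCoh.Ab T) (hF : EtCoh.KilledBy n F)
    (hiso : IsIso (EtBC.bcQ (g' ≫ π) f' (h' ≫ π') e c'.w q F)) :
    IsIso (EtBC.bcQ g' f'' h' e c.w q F) := by
  haveI : IsIntegralHom π' := MorphismProperty.of_isPullback hX''.flip inferInstance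
  haveI : PreservesFiniteLimits (EtCoh.pull f'') := EtFound.pull_preservesFiniteLimits _
  haveI := EtFound.push_preservesFiniteColimits π
  haveI := EtFound.push_preservesFiniteColimits π'
  let A := (EtCoh.Rpush g' q).obj F
  haveI : IsIso (EtCoh.baseChange0 π f' π' f'' hX''.flip.w A) := Groth.Agent.S0655.result π f' π' f'' hX''.flip A
  haveI h1 : IsIso (EtBC.lerayEdgeOut g' π q F) := by
    haveI := Groth.Agent.EtBC.isIso_edgeOut (EtCoh.push g') (EtCoh.push π) q F
    dsimp only [EtBC.lerayEdgeOut]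
    infer_instance
  haveI h2 : IsIso (EtBC.lerayEdgeOut h' π' q ((EtCoh.pull e).obj F)) := by
    haveI := Groth.Agent.EtBC.isIso_edgeOut (EtCoh.push h') (EtCoh.push π') q ((EtCoh.pull e).obj F)
    dsimp only [EtBC.lerayEdgeOut]
    infer_instance
  have hs := Groth.Agent.EtBC.bcQ_stack_out (a := g') (b := π) (g := f') (a' := h') (b' := π') hX''.flip.w c.w c'.w q F
  haveI : IsIso ((EtCoh.push π').map (EtBC.bcQ g' f'' h' e c.w q F)) := by
    haveI := hiso
    haveI : IsIso ((EtCoh.pull f').map (EtBC.lerayEdgeOut g' π q F) ≫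
        EtCoh.baseChange0 π f' π' f'' hX''.flip.w A ≫ (EtCoh.push π').map (EtBC.bcQ g' f'' h' e c.w q F)) := by
      rw [← hs]
      infer_instance
    haveI := IsIso.of_isIso_comp_left ((EtCoh.pull f').map (EtBC.lerayEdgeOut g' π q F))
      (EtCoh.baseChange0 π f' π' f'' hX''.flip.w A ≫ (EtCoh.push π').map (EtBC.bcQ g' f'' h' e c.w q F))
    exact IsIso.of_isIso_comp_left (EtCoh.baseChange0 π f' π' f'' hX''.flip.w A) _
  exact Groth.Agent.EtBC.push_reflectsIso π' _

end Groth.Agent.S6662
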