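import Groth.Statements.S6668
import Groth.Agent.EtBC.Local
-- import your own Groth.Agent.* helpers here

set_option autoImplicit false
universe u
open CategoryTheory CategoryTheory.Limits AlgebraicGeometry Opposite
open EtBC

namespace Groth.Agent.S6668

set_option backward.isDefEq.respectTransparency.types false

/-- Let Y = X ×_S T be a cartesian square of schemes with f : X → S, g : T → S, h : Y → X, e : Y → T,
let F be an abelian sheaf on the small etale site of T and q ≥ 0. Let (U_i → X) be a jointly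
surjective family of etale X-schemes such that every U_i → S factors as a_i : U_i → V_i followed by
an etale V_i → S, and let T_i = V_i ×_S T (projections g_i : T_i → V_i, t_i : T_i → T) and Y_i = U_i
×_{V_i} T_i (projections h_i : Y_i → U_i, e_i : Y_i → T_i). If for every i the degree-q base change
map a_i⁻¹ R^q g_i,_* (t_i⁻¹ F) → R^q h_i,_* e_i⁻¹ (t_i⁻¹ F) is an isomorphism, then the degree-q
base change map f⁻¹ R^q g_* F → R^q h_* e⁻¹ F is an isomorphism. -/
theorem result {X S Y T : Scheme.{u}} (f : X ⟶ S) (g : T ⟶ S) (h : Y ⟶ X) (e : Y ⟶ T)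
    (c : IsPullback e h g f) [PreservesFiniteLimits (EtCoh.pull e)] (F : EtCoh.Ab T) (q : ℕ)
    {ι : Type u} (U : ι → X.Etale) (hU : EtCoh.Covers U) (V : ι → S.Etale)
    (a : ∀ i, (U i).left ⟶ (V i).left) (ha : ∀ i, a i ≫ (V i).hom = (U i).hom ≫ f)
    (Ti Yi : ι → Scheme.{u}) (gi : ∀ i, Ti i ⟶ (V i).left) (ti : ∀ i, Ti i ⟶ T)
    (cT : ∀ i, IsPullback (ti i) (gi i) g (V i).hom)
    (hi : ∀ i, Yi i ⟶ (U i).left) (ei : ∀ i, Yi i ⟶ Ti i) (cY : ∀ i, IsPullback (ei i) (hi i) (gi i) (a i))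
    [∀ i, PreservesFiniteLimits (EtCoh.pull (ei i))]
    (hloc : ∀ i, IsIso (EtBC.bcQ (gi i) (a i) (hi i) (ei i) (cY i).w q ((EtCoh.pull (ti i)).obj F))) :
    IsIso (EtBC.bcQ g f h e c.w q F) := by
  refine (EtFound.isIso_iff_stalks _).2 fun Ω _ _ ξ => ?_
  obtain ⟨i, u, hu⟩ := hU (ξ.base default)
  haveI : AlgebraicGeometry.Etale (U i).hom := (U i).prop
  haveI : AlgebraicGeometry.Etale (V i).hom := (V i).prop
  obtain ⟨η, hη, -⟩ := Scheme.exists_fac_of_etale_of_isSepClosed (U i).hom ξ u hu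
  have w1 : (ei i ≫ ti i) ≫ g = (hi i ≫ (U i).hom) ≫ f := by
    rw [Category.assoc, Category.assoc, (cT i).w, ← ha i, ← Category.assoc, ← Category.assoc, (cY i).w]
  let k : Yi i ⟶ Y := c.lift (ei i ≫ ti i) (hi i ≫ (U i).hom) w1
  have hk1 : k ≫ e = ei i ≫ ti i := c.lift_fst _ _ _
  have hk2 : k ≫ h = hi i ≫ (U i).hom := c.lift_snd _ _ _
  have cBig : IsPullback (ei i ≫ ti i) (hi i) g ((U i).hom ≫ f) := by
    rw [← ha i]
    exact (cY i).paste_horiz (cT i) |>.flip.flip
  have c₂ : IsPullback k (hi i) h (U i).hom := by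
    refine IsPullback.of_right ?_ hk2 c
    rw [hk1]
    exact cBig
  haveI : PreservesFiniteLimits (EtCoh.pull (ti i)) := EtFound.pull_preservesFiniteLimits _
  haveI : PreservesFiniteLimits (EtCoh.pull (ei i ≫ ti i)) := EtFound.pull_preservesFiniteLimits _
  have hB : IsIso (EtBC.bcQ g ((U i).hom ≫ f) (hi i) (ei i ≫ ti i) cBig.w q F) :=
    EtBC.isIso_bcQ_comp (cT i).w (cY i).w (ha i) rfl cBig.w q F (EtBC.isIso_bcQ_etale (cT i) q F) (hloc i)
  exact EtBC.isIso_stalk_of_pull (U i).hom _ ((EtBC.isIso_pull_bcQ_iff c.w rfl hk1 cBig.w c₂ q F).1 hB) ξ η hη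

end Groth.Agent.S6668
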