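import Groth.Statements.S6669
import Groth.Agent.EtBC.Local
-- import your own Groth.Agent.* helpers here

set_option autoImplicit false
universe u
open CategoryTheory CategoryTheory.Limits AlgebraicGeometry Opposite
open EtBC

namespace Groth.Agent.S6669

set_option backward.isDefEq.respectTransparency.types false

/-- The statement for an abelian sheaf in degree q: consider a tower of cartesian squares of schemes, Y
= X ×_S T with f : X → S, g : T → S, h : Y → X, e : Y → T, and Z = W ×_X Y with i : W → X, j : Z →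
W, k : Z → Y, so that the outer rectangle Z = W ×_S T is cartesian. Let F be an abelian sheaf on the
small etale site of T and q ≥ 0. If the degree-q base change maps f⁻¹ R^q g_* F → R^q h_* e⁻¹ F and
i⁻¹ R^q h_* (e⁻¹ F) → R^q j_* k⁻¹ (e⁻¹ F) are isomorphisms, then the degree-q base change map (f ∘
i)⁻¹ R^q g_* F → R^q j_* (e ∘ k)⁻¹ F of the outer rectangle is an isomorphism. -/
theorem result {X S Y T W Z : Scheme.{u}} (f : X ⟶ S) (g : T ⟶ S) (h : Y ⟶ X) (e : Y ⟶ T)
    (c : IsPullback e h g f) (i : W ⟶ X) (j : Z ⟶ W) (k : Z ⟶ Y) (c' : IsPullback k j h i)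
    (c'' : IsPullback (k ≫ e) j g (i ≫ f))
    [PreservesFiniteLimits (EtCoh.pull e)] [PreservesFiniteLimits (EtCoh.pull k)]
    [PreservesFiniteLimits (EtCoh.pull (k ≫ e))] (F : EtCoh.Ab T) (q : ℕ)
    (h1 : IsIso (EtBC.bcQ g f h e c.w q F)) (h2 : IsIso (EtBC.bcQ h i j k c'.w q ((EtCoh.pull e).obj F))) :
    IsIso (EtBC.bcQ g (i ≫ f) j (k ≫ e) c''.w q F) := EtBC.isIso_bcQ_comp c.w c'.w rfl rfl c''.w q F h1 h2

end Groth.Agent.S6669
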