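import Groth.Statements.S6681
import Groth.Agent.GabberAff13.BigDesc.Push

set_option autoImplicit false
set_option backward.isDefEq.respectTransparency false
set_option backward.isDefEq.respectTransparency.types false
universe u
open CategoryTheory CategoryTheory.Limits AlgebraicGeometry Opposite
open HTop

namespace Groth.Agent.S6681

/-- Let X be a scheme and F a torsion abelian sheaf on the small etale site of X. Write a_X⁻¹ F for its
pullback to the big h site of X, ε_X,_* for restriction from the big h site to the big etale site of
X (the identity on underlying presheaves) and π_X⁻¹ F for the pullback of F to the big etale site.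
Then ε_X,_* (a_X⁻¹ F) is isomorphic to π_X⁻¹ F (existence of an isomorphism) and R^i ε_X,_* (a_X⁻¹
F) = 0 for every i > 0. (Continuity of the comparison functors is carried as instance hypotheses.) -/
theorem result (X : Scheme.{u}) [HTop.AHCont X] [HTop.EpsHCont X] (F : EtCoh.Ab X)
    (hF : EtCoh.IsTorsion F) :
    Nonempty ((HTop.epsHPush X).obj ((HTop.aHPull X).obj F) ≅
      ((Scheme.Etale.forget X).sheafPullback AddCommGrpCat.{u + 1} X.smallEtaleTopology
        (Scheme.etaleTopology.over X)).obj F) ∧
    ∀ i : ℕ, 0 < i → IsZero ((HTop.RepsHPush X i).obj ((HTop.aHPull X).obj F)) := by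
  haveI : BigSite.AEtCont HTop.hPrecoverage.{u} X := ‹_›
  exact ⟨GabberAff13.BigDesc.nonempty_epsK_piEt (K := HTop.hPrecoverage.{u}) BigSiteLib.etale_le_h BigSiteLib.refinedByV_h F,
    fun i hi => GabberAff13.BigDesc.isZero_RepsK_piEt (K := HTop.hPrecoverage.{u}) BigSiteLib.etale_le_h BigSiteLib.refinedByV_h GabberAff13.BigDesc.refines_h F hF i hi⟩

end Groth.Agent.S6681
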