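import Groth.Statements.S6682
import Groth.Agent.GabberAff13.BigDesc.Push

set_option autoImplicit false
set_option backward.isDefEq.respectTransparency false
set_option backward.isDefEq.respectTransparency.types false
universe u
open CategoryTheory CategoryTheory.Limits AlgebraicGeometry Opposite
open HTop

namespace Groth.Agent.S6682

/-- Let f : X → Y be a proper morphism of schemes, F a torsion abelian sheaf on the small etale site of
X and i ≥ 0. Then a_Y⁻¹ (R^i f_* F) and R^i f_{big,h,*} (a_X⁻¹ F) are isomorphic abelian sheaves on
the big h site of Y (existence of an isomorphism; continuity of the comparison functors carried as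
instance hypotheses). -/
theorem result {X Y : Scheme.{u}} (f : X ⟶ Y) [IsProper f]
    [HTop.AHCont X] [HTop.AHCont Y] [HTop.PullHCont f] (F : EtCoh.Ab X) (hF : EtCoh.IsTorsion F) (i : ℕ) :
    Nonempty ((HTop.aHPull Y).obj ((EtCoh.Rpush f i).obj F) ≅
      (HTop.RpushBigH f i).obj ((HTop.aHPull X).obj F)) := by
  haveI : BigSite.AEtCont HTop.hPrecoverage.{u} X := ‹_›
  haveI : BigSite.AEtCont HTop.hPrecoverage.{u} Y := ‹_›
  exact GabberAff13.BigDesc.nonempty_piEt_Rpush_iso (K := HTop.hPrecoverage.{u}) BigSiteLib.etale_le_h BigSiteLib.refinedByV_h GabberAff13.BigDesc.refines_h f F hF i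

end Groth.Agent.S6682
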