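import Groth.Statements.S6686
import Groth.Agent.BigSiteLib.Along
-- import your own Groth.Agent.* helpers here

set_option autoImplicit false
universe u
open CategoryTheory CategoryTheory.Limits AlgebraicGeometry Opposite
open BigSite

namespace Groth.Agent.S6686

/-- Part (3): for an abelian sheaf and degree by degree: let f : T → S be a morphism of schemes, g : S'
→ S a scheme over S and T' = S' ×_S T with projections g' : T' → T and f' : T' → S'. For an abelian
sheaf F on the big etale site of T and every q ≥ 0, the restriction i_g⁻¹ (R^q f_{big,*} F) to the
small etale site of S' is isomorphic to R^q f'_{small,*} (i_{g'}⁻¹ F), where i_h⁻¹ restricts a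
big-etale sheaf over a base to the small etale site of a scheme h over that base. (Existence of an
isomorphism only: the comparison map is not constructed here. For g the identity of S this gives
(R^q f_{big,*} F)|_{S_et} ≅ R^q f_{small,*} (F|_{T_et}).) -/
theorem result {T S T' S' : Scheme.{u}} (f : T ⟶ S) (g : S' ⟶ S)
    (g' : T' ⟶ T) (f' : T' ⟶ S') (c : IsPullback g' f' f g) (F : BigSite.Ab Scheme.etalePrecoverage T) (q : ℕ) :
    Nonempty ((BigSite.resEtAlong Scheme.etalePrecoverage g).obj ((BigSite.RpushBig Scheme.etalePrecoverage f q).obj F) ≅
      (EtCoh.Rpush f' q).obj ((BigSite.resEtAlong Scheme.etalePrecoverage g').obj F)) := by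
  exact ⟨(Groth.Agent.BigSiteLib.resAlongRpushIso f c q).app F⟩

end Groth.Agent.S6686
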