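import Groth.Statements.S6693
import Groth.Agent.UnitStalk.Fibre
-- import your own Groth.Agent.* helpers here

set_option autoImplicit false
universe u
open CategoryTheory CategoryTheory.Limits AlgebraicGeometry Opposite
open EtBC

namespace Groth.Agent.S6693

/-- For a single abelian sheaf (a bounded below complex concentrated in degree 0): let f : X → S be a
morphism of schemes and F an abelian sheaf on the small etale site of X such that f is locally
acyclic relative to F. Let s be a point of S, R_S a strict henselization of the local ring of S at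
s, X' = X ×_S Spec R_S with projection p : X' → X, t̄ : Spec Ω → Spec R_S a geometric point with Ω
algebraically closed, h : X_t̄ = X' ×_{Spec R_S} Spec Ω → X' and i : X_s̄ = X' ×_{Spec R_S} Spec
κ(R_S) → X' the fibres over t̄ and over the closed point. Put F' = p⁻¹ F. Then the restriction along
i of the unit F' → h_* h⁻¹ F' is an isomorphism, and i⁻¹ R^q h_* (h⁻¹ F') is zero for every q > 0;
together these say that i⁻¹ applied to β : F' → Rh_* (F'|X_t̄) is an isomorphism. -/
theorem result {X S : Scheme.{u}} (f : X ⟶ S) (F : EtCoh.Ab X)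
    (hla : SGA4h.IsLARel f F) (s : S) (RS : Type u) [CommRing RS] [IsLocalRing RS] [Algebra (S.presheaf.stalk s) RS]
      [IsLocalHom (algebraMap (S.presheaf.stalk s) RS)] [Hensel.IsStrictHenselization (S.presheaf.stalk s) RS]
    (X' : Scheme.{u}) (f' : X' ⟶ Spec (CommRingCat.of RS)) (p : X' ⟶ X) (cX : IsPullback p f' f (Hens2.specOf S s RS))
    (Ω : Type u) [Field Ω] [IsAlgClosed Ω] (τ : RS →+* Ω)
    (Xt : Scheme.{u}) (h : Xt ⟶ X') (ft : Xt ⟶ Spec (CommRingCat.of Ω))
    (ct : IsPullback h ft f' (Spec.map (CommRingCat.ofHom τ)))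
    (Xs : Scheme.{u}) (i : Xs ⟶ X') (fs : Xs ⟶ Spec (CommRingCat.of (IsLocalRing.ResidueField RS)))
    (cs : IsPullback i fs f' (Spec.map (CommRingCat.ofHom (IsLocalRing.residue RS)))) :
    IsIso ((EtCoh.pull i).map ((EtCoh.pullPushAdj h).unit.app ((EtCoh.pull p).obj F))) ∧
      ∀ q : ℕ, 0 < q →
        IsZero ((EtCoh.pull i).obj ((EtCoh.Rpush h q).obj ((EtCoh.pull h).obj ((EtCoh.pull p).obj F)))) := by
  haveI : IsAffineHom h := MorphismProperty.of_isPullback ct.flip inferInstance
  have key : ∀ (k : Type u) [Field k] [IsSepClosed k] (η : Spec (CommRingCat.of k) ⟶ Xs),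
      IsIso ((EtCoh.stalk η).map ((EtCoh.pull i).map ((EtCoh.pullPushAdj h).unit.app ((EtCoh.pull p).obj F)))) ∧
      ∀ q : ℕ, 0 < q → IsZero ((EtCoh.stalk η).obj
        ((EtCoh.pull i).obj ((EtCoh.Rpush h q).obj ((EtCoh.pull h).obj ((EtCoh.pull p).obj F))))) := by
    intro k _ _ η
    let ξ := η ≫ i
    let x' : X' := ξ (default : Spec (CommRingCat.of k))
    have hx' : f' x' = IsLocalRing.closedPoint RS := by
      show f' ((η ≫ i) default) = _
      rw [← Scheme.Hom.comp_apply, Category.assoc, cs.w, ← Category.assoc]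
      refine (Scheme.Hom.comp_apply _ _ _).trans ?_
      have hz := IsLocalRing.comap_closedPoint (IsLocalRing.residue RS)
      rw [Subsingleton.elim ((η ≫ fs) default) (IsLocalRing.closedPoint (IsLocalRing.ResidueField RS))]
      exact hz
    have hs : f (p x') = s := by
      rw [← Scheme.Hom.comp_apply, cX.w, Scheme.Hom.comp_apply, hx']
      exact UnitStalk.specMap_closed s (algebraMap (S.presheaf.stalk s) RS)
    obtain ⟨RX, i1, i2, i3, i4, i5, i6, i7, i8, ψ, i9, hq, hψ, hbase⟩ := UnitStalk.exists_strict f cX x' hx' hs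
    haveI : HenselianLocalRing RX := i8.henselian
    haveI : IsSepClosed (IsLocalRing.ResidueField RX) := i8.isSepClosure.sep_closed
    obtain ⟨P⟩ := EtLimit.nonempty_etPres_specOf X' x' RX
    obtain ⟨τk, hτk⟩ := UnitStalk.exists_resPt ξ rfl RX
    have hz := EtBC.liftsUniquely_strict RX (Hens2.specOf X' x' RX) _ (EtBC.resPt_base RX τk)
    haveI := EtFound.pull_preservesFiniteLimits (pullback.snd h (Hens2.specOf X' x' RX))
    haveI := EtFound.pull_preservesFiniteLimits h
    have hbij := fun n => UnitStalk.bijective_fibre (hla (p x')) hs RX ψ hq hψ hbase τ h ft ct n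
    let e : EtCoh.stalk (EtBC.resPt RX τk ≫ Hens2.specOf X' x' RX) ≅ EtCoh.pull i ⋙ EtCoh.stalk η :=
      EtBC.stalkToPull hτk.symm
    refine ⟨?_, fun q hq' => ?_⟩
    · exact (NatIso.isIso_map_iff e _).1 (UnitStalk.isIso_stalk_unit h P hz _ (hbij 0))
    · exact (UnitStalk.isZero_stalk_Rpush h P hz _ q hq' (hbij q)).of_iso (e.app _).symm
  exact ⟨(EtFound.isIso_iff_stalks _).2 fun k _ _ η => (key k η).1,
    fun q hq => (EtFound.isZero_iff_stalks _).2 fun k _ _ η => (key k η).2 q hq⟩

end Groth.Agent.S6693
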