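import Groth.Statements.S6694
import Groth.Agent.BcBridge.Paste
-- import your own Groth.Agent.* helpers here

set_option autoImplicit false
universe u
open CategoryTheory CategoryTheory.Limits AlgebraicGeometry Opposite
attribute [local instance] HasDerivedCategory.standard
open EtBC

open Groth.Agent.BcBridge

namespace Groth.Agent.S6694

set_option backward.isDefEq.respectTransparency.types false

/-- Consider a tower of cartesian squares of schemes, Y = X ×_S T with f : X → S, g : T → S, h : Y → X,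
e : Y → T, and Z = W ×_X Y with i : W → X, j : Z → W, k : Z → Y, so that Z = W ×_S T is cartesian.
Let K be an object of D(T_et). If the base change morphisms f⁻¹ Rg_* K → Rh_* e⁻¹ K and i⁻¹ Rh_*
(e⁻¹ K) → Rj_* k⁻¹ (e⁻¹ K) are isomorphisms, then the base change morphism (f ∘ i)⁻¹ Rg_* K → Rj_*
(e ∘ k)⁻¹ K of the outer rectangle is an isomorphism. (The unbounded derived direct images exist
under the stated binders; each base change morphism is the transpose under an adjunction between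
inverse image and derived direct image on derived categories, supplied as data; left exactness of
the inverse image functors is carried as instance hypotheses.) -/
theorem result {X S Y T W Z : Scheme.{u}} (f : X ⟶ S) (g : T ⟶ S) (h : Y ⟶ X) (e : Y ⟶ T)
    (c : IsPullback e h g f) (i : W ⟶ X) (j : Z ⟶ W) (k : Z ⟶ Y) (c' : IsPullback k j h i)
    (c'' : IsPullback (k ≫ e) j g (i ≫ f))
    [PreservesFiniteLimits (EtCoh.pull f)] [PreservesFiniteLimits (EtCoh.pull i)]
    [PreservesFiniteLimits (EtCoh.pull (i ≫ f))] [PreservesFiniteLimits (EtCoh.pull e)]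
    [PreservesFiniteLimits (EtCoh.pull k)] [PreservesFiniteLimits (EtCoh.pull (k ≫ e))]
    [DCoh.HasRpushEt T g] [DCoh.HasRpushEt Y h] [DCoh.HasRpushEt Z j] [DCoh.HasRpushEt X f]
    [DCoh.HasRpushEt W i] [DCoh.HasRpushEt W (i ≫ f)]
    (adj₁ : EtBC.pullD f ⊣ DCoh.RpushEt X f) (adj₂ : EtBC.pullD i ⊣ DCoh.RpushEt W i)
    (adj₃ : EtBC.pullD (i ≫ f) ⊣ DCoh.RpushEt W (i ≫ f)) (K : DCoh.DEt T)
    (h1 : IsIso (EtBC.bcMap g f h e c.w adj₁ K))
    (h2 : IsIso (EtBC.bcMap h i j k c'.w adj₂ ((EtBC.pullD e).obj K))) :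
    IsIso (EtBC.bcMap g (i ≫ f) j (k ≫ e) c''.w adj₃ K) := by
  obtain ⟨I, hI, ⟨eK⟩⟩ := exists_model T K
  obtain ⟨J, σ, hJ, hσ⟩ := exists_pull_model e I
  obtain ⟨L, σ₂, hL, hσ₂⟩ := exists_pull_model k J
  haveI := quasiIso_compMapσ (c := k ≫ e) rfl σ σ₂
  refine (isIso_bcMap_iff g (i ≫ f) j (k ≫ e) c''.w adj₃ I L (compMapσ rfl σ σ₂) eK).2 ?_
  refine quasiIso_bcChain_comp c.w c'.w (g₂ := i) rfl rfl c''.w σ σ₂ ?_ ?_
  · exact (isIso_bcMap_iff g f h e c.w adj₁ I J σ eK).1 h1
  · exact (isIso_bcMap_iff h i j k c'.w adj₂ J L σ₂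
      ((EtBC.pullD e).mapIso eK ≪≫ pullModelIso e σ)).1 h2

end Groth.Agent.S6694
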