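import Groth.Statements.S6698
import Groth.Agent.BcBridge.Local
-- import your own Groth.Agent.* helpers here

set_option autoImplicit false
universe u
open CategoryTheory CategoryTheory.Limits AlgebraicGeometry Opposite
attribute [local instance] HasDerivedCategory.standard
open EtBC

open Groth.Agent.BcBridge Groth.Agent.EtFound

namespace Groth.Agent.S6698

set_option backward.isDefEq.respectTransparency.types false
set_option maxHeartbeats 1000000

/-- Let Y = X ×_S T be a cartesian square of schemes with f : X → S, g : T → S, h : Y → X, e : Y → T,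
and K an object of D(T_et). Let (U_i → X) be a jointly surjective family of etale X-schemes such
that every U_i → S factors as a_i : U_i → V_i followed by an etale V_i → S, and let T_i = V_i ×_S T
(projections g_i, t_i) and Y_i = U_i ×_{V_i} T_i (projections h_i, e_i). If for every i the base
change morphism a_i⁻¹ Rg_i,_* (t_i⁻¹ K) → Rh_i,_* e_i⁻¹ (t_i⁻¹ K) is an isomorphism, then the base
change morphism f⁻¹ Rg_* K → Rh_* e⁻¹ K is an isomorphism. (Unbounded derived direct images exist
under the stated binders; each base change morphism is the transpose under an adjunction between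
inverse image and derived direct image on derived categories, supplied as data; left exactness of
the inverse images is carried as instance hypotheses.) -/
theorem result {X S Y T : Scheme.{u}} (f : X ⟶ S) (g : T ⟶ S) (h : Y ⟶ X) (e : Y ⟶ T)
    (c : IsPullback e h g f) [PreservesFiniteLimits (EtCoh.pull e)] [PreservesFiniteLimits (EtCoh.pull f)]
    [DCoh.HasRpushEt T g] [DCoh.HasRpushEt Y h] [DCoh.HasRpushEt X f] (adj : EtBC.pullD f ⊣ DCoh.RpushEt X f)
    (K : DCoh.DEt T)
    {ι : Type u} (U : ι → X.Etale) (hU : EtCoh.Covers U) (V : ι → S.Etale)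
    (a : ∀ i, (U i).left ⟶ (V i).left) (ha : ∀ i, a i ≫ (V i).hom = (U i).hom ≫ f)
    (Ti Yi : ι → Scheme.{u}) (gi : ∀ i, Ti i ⟶ (V i).left) (ti : ∀ i, Ti i ⟶ T)
    (cT : ∀ i, IsPullback (ti i) (gi i) g (V i).hom)
    (hi : ∀ i, Yi i ⟶ (U i).left) (ei : ∀ i, Yi i ⟶ Ti i) (cY : ∀ i, IsPullback (ei i) (hi i) (gi i) (a i))
    [∀ i, PreservesFiniteLimits (EtCoh.pull (ei i))] [∀ i, PreservesFiniteLimits (EtCoh.pull (a i))]
    [∀ i, PreservesFiniteLimits (EtCoh.pull (ti i))]
    [∀ i, DCoh.HasRpushEt (Ti i) (gi i)] [∀ i, DCoh.HasRpushEt (Yi i) (hi i)] [∀ i, DCoh.HasRpushEt (U i).left (a i)]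
    (adji : ∀ i, EtBC.pullD (a i) ⊣ DCoh.RpushEt (U i).left (a i))
    (hloc : ∀ i, IsIso (EtBC.bcMap (gi i) (a i) (hi i) (ei i) (cY i).w (adji i) ((EtBC.pullD (ti i)).obj K))) :
    IsIso (EtBC.bcMap g f h e c.w adj K) := by
  obtain ⟨I, hI, ⟨eK⟩⟩ := exists_model T K
  obtain ⟨J, σ, hJ, hσ⟩ := exists_pull_model e I
  refine (isIso_bcMap_iff g f h e c.w adj I J σ eK).2 ?_
  refine quasiIso_of_covers U hU _ fun i => ?_
  haveI : AlgebraicGeometry.Etale (U i).hom := (U i).prop
  haveI : AlgebraicGeometry.Etale (V i).hom := (V i).prop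
  haveI : AlgebraicGeometry.Etale (ti i) := MorphismProperty.of_isPullback (cT i).flip inferInstance
  have w1 : (ei i ≫ ti i) ≫ g = (hi i ≫ (U i).hom) ≫ f := by
    rw [Category.assoc, Category.assoc, (cT i).w, ← ha i, ← Category.assoc, ← Category.assoc, (cY i).w]
  let k : Yi i ⟶ Y := c.lift (ei i ≫ ti i) (hi i ≫ (U i).hom) w1
  have hk1 : k ≫ e = ei i ≫ ti i := c.lift_fst _ _ _
  have hk2 : k ≫ h = hi i ≫ (U i).hom := c.lift_snd _ _ _
  have cBig : IsPullback (ei i ≫ ti i) (hi i) g ((U i).hom ≫ f) := by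
    rw [← ha i]
    exact (cY i).paste_horiz (cT i) |>.flip.flip
  have c₂ : IsPullback k (hi i) h (U i).hom := by
    refine IsPullback.of_right ?_ hk2 c
    rw [hk1]
    exact cBig
  haveI : AlgebraicGeometry.Etale k := MorphismProperty.of_isPullback c₂.flip inferInstance
  haveI := pull_preservesFiniteLimits k
  haveI := pull_preservesFiniteLimits (U i).hom
  haveI := isKInjective_pull (ti i) I
  haveI := isKInjective_pull k J
  let gc' := ei i ≫ ti i
  haveI : PreservesFiniteLimits (EtCoh.pull gc') := pull_preservesFiniteLimits _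
  let σc := compMapσ (c := gc') hk1 σ (𝟙 (((EtCoh.pull k).mapHomologicalComplex (ComplexShape.up ℤ)).obj J))
  haveI : QuasiIso σc := quasiIso_compMapσ hk1 σ _
  let τ := (θCx (ei i) (ti i) gc' rfl I).hom ≫ σc
  haveI : QuasiIso τ := inferInstance
  let eT : (EtBC.pullD (ti i)).obj K ≅ qq (((EtCoh.pull (ti i)).mapHomologicalComplex (ComplexShape.up ℤ)).obj I) :=
    (EtBC.pullD (ti i)).mapIso eK ≪≫ pullModelIso (ti i) (𝟙 _)
  have h2 := (isIso_bcMap_iff (gi i) (a i) (hi i) (ei i) (cY i).w (adji i) _ _ τ eT).1 (hloc i)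
  haveI := pull_preservesFiniteLimits (a i)
  have hR : QuasiIso (bcChain g ((U i).hom ≫ f) (hi i) gc' cBig.w σc) := by
    have hq := quasiIso_bcChain_comp (cT i).w (cY i).w (ha i) rfl cBig.w _ τ (quasiIso_bcChain_etale (cT i) I) h2
    have e1 : compMapσ (c := gc') (rfl : ei i ≫ ti i = gc')
        (𝟙 (((EtCoh.pull (ti i)).mapHomologicalComplex (ComplexShape.up ℤ)).obj I)) τ = σc := by
      unfold compMapσ
      rw [CategoryTheory.Functor.map_id, Category.id_comp, Iso.inv_hom_id_assoc]
    rwa [e1] at hq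
  have e2 := bcChain_paste c.w c₂.w rfl hk1 cBig.w σ
    (𝟙 (((EtCoh.pull k).mapHomologicalComplex (ComplexShape.up ℤ)).obj J))
  haveI := hR
  have hX : QuasiIso ((θCx (U i).hom f _ rfl (((EtCoh.push g).mapHomologicalComplex (ComplexShape.up ℤ)).obj I)).hom ≫
      bcChain g ((U i).hom ≫ f) (hi i) gc' cBig.w σc) := inferInstance
  have hY : QuasiIso (((EtCoh.pull (U i).hom).mapHomologicalComplex (ComplexShape.up ℤ)).map (bcChain g f h e c.w σ) ≫
      bcChain h (U i).hom (hi i) k c₂.w (𝟙 (((EtCoh.pull k).mapHomologicalComplex (ComplexShape.up ℤ)).obj J))) :=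
    cast (congrArg (fun t => QuasiIso t) e2) hX
  exact quasiIso_of_comp_right (hφ := quasiIso_bcChain_etale c₂ J) (hφφ' := hY)

end Groth.Agent.S6698
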