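import Groth.Statements.S6703
import Groth.Agent.KFlatLib.SpanningClass
-- import your own Groth.Agent.* helpers here

set_option autoImplicit false
universe v v' u u'
open CategoryTheory
open DEquiv

namespace Groth.Agent.S6703

open CategoryTheory.Limits CategoryTheory.Pretriangulated in
/-- Let F : D ⥤ D' be an exact functor of triangulated categories admitting both a left and a right
adjoint, and let S be a set of objects of D such that an object K of D is zero as soon as Hom(E,
K⟦i⟧) = 0 for all E ∈ S and i ∈ ℤ, and also as soon as Hom(K, E⟦i⟧) = 0 for all E ∈ S and i ∈ ℤ. If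
for all E, E' ∈ S and i ∈ ℤ the map Hom(E, E'⟦i⟧) → Hom(F E, F (E'⟦i⟧)) given by F is bijective,
then F is full and faithful. -/
theorem result
    {D : Type u} [Category.{v} D] [Preadditive D] [HasZeroObject D] [HasShift D ℤ]
    [∀ n : ℤ, (shiftFunctor D n).Additive] [Pretriangulated D] [IsTriangulated D]
    {D' : Type u'} [Category.{v'} D'] [Preadditive D'] [HasZeroObject D'] [HasShift D' ℤ]
    [∀ n : ℤ, (shiftFunctor D' n).Additive] [Pretriangulated D'] [IsTriangulated D']
    (F : D ⥤ D') [F.CommShift ℤ] [F.IsTriangulated] [F.IsLeftAdjoint] [F.IsRightAdjoint]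
    (S : Set D)
    (h2 : ∀ K : D, (∀ E ∈ S, ∀ (i : ℤ) (f : E ⟶ (shiftFunctor D i).obj K), f = 0) → IsZero K)
    (h3 : ∀ K : D, (∀ E ∈ S, ∀ (i : ℤ) (f : K ⟶ (shiftFunctor D i).obj E), f = 0) → IsZero K)
    (h4 : ∀ E ∈ S, ∀ E' ∈ S, ∀ i : ℤ,
      Function.Bijective (fun f : E ⟶ (shiftFunctor D i).obj E' => F.map f)) :
    F.Full ∧ F.Faithful := Groth.Agent.KFlatLib.Spanning.full_faithful F S (Adjunction.ofIsRightAdjoint F) (Adjunction.ofIsLeftAdjoint F) h2 h3 h4

end Groth.Agent.S6703
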