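import Groth.Statements.S6704
import Groth.Agent.H9Misc.SibIso

set_option autoImplicit false
universe w v u v' u'
open CategoryTheory
open DEquiv
open Groth.Agent.H9Misc
open scoped ZeroObject

set_option maxHeartbeats 1000000

namespace Groth.Agent.S6704

open CategoryTheory.Limits CategoryTheory.Pretriangulated in
/-- Let A be an abelian category, D a triangulated category, and F, F' : D^b(A) ⥤ D exact functors of
triangulated categories whose restrictions to A (objects placed in degree 0) are isomorphic. If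
Hom(F X, (F Y)⟦q⟧) = 0 for all objects X, Y of A and all q < 0, then F K and F' K are isomorphic for
every object K of D^b(A); that is, F and F' are siblings. -/
theorem result
    {A : Type u} [Category.{v} A] [Abelian A] [HasDerivedCategory.{w} A]
    {D : Type u'} [Category.{v'} D] [Preadditive D] [HasZeroObject D] [HasShift D ℤ]
    [∀ n : ℤ, (shiftFunctor D n).Additive] [Pretriangulated D] [IsTriangulated D]
    (F F' : DerivedCategory.Bounded A ⥤ D) [F.CommShift ℤ] [F.IsTriangulated]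
    [F'.CommShift ℤ] [F'.IsTriangulated]
    (h1 : Nonempty (DEquiv.singleB A ⋙ F ≅ DEquiv.singleB A ⋙ F'))
    (h2 : ∀ (X Y : A) (q : ℤ), q < 0 →
      ∀ f : F.obj ((DEquiv.singleB A).obj X) ⟶ (shiftFunctor D q).obj (F.obj ((DEquiv.singleB A).obj Y)),
        f = 0)
    (K : DerivedCategory.Bounded A) : Nonempty (F.obj K ≅ F'.obj K) := by
  obtain ⟨e⟩ := h1
  let s := DEquiv.singleB A
  let e0 : ∀ M : A, F.obj (s.obj M) ≅ F'.obj (s.obj M) := fun M => e.app M
  let ΦS : ∀ (a : ℤ) (M : A), F.obj (BoundedDev.S a M) ≅ F'.obj (BoundedDev.S a M) := fun a M =>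
    SibIso.sh (e0 M) (-a)
  have hsingle : ∀ (a : ℤ) (Y M : A) (h : BoundedDev.S a Y ⟶ BoundedDev.S a M),
      SibIso.Compat (ΦS a Y) (ΦS a M) h := fun a Y M h => by
    obtain ⟨f, rfl⟩ := (shiftFunctor (DerivedCategory.Bounded A) (-a)).map_surjective h
    obtain ⟨u, rfl⟩ := s.map_surjective f
    exact SibIso.Compat.shift (Φ := e0 Y) (Ψ := e0 M) (e.hom.naturality u) (-a)
  have hvan : ∀ (j a : ℤ), j < a → ∀ (Y M : A) (f : F.obj (BoundedDev.S j Y) ⟶ F.obj (BoundedDev.S a M)), f = 0 :=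
    fun j a hja Y M f => by
    let eY := (F.commShiftIso (-j)).app (s.obj Y)
    let eM := (F.commShiftIso (-a)).app (s.obj M) ≪≫ (shiftFunctorAdd' D (j - a) (-j) (-a) (by omega)).app (F.obj (s.obj M))
    obtain ⟨g, hg⟩ := (shiftFunctor D (-j)).map_surjective (eY.inv ≫ f ≫ eM.hom)
    rw [h2 Y M (j - a) (by omega) g, Functor.map_zero] at hg
    rw [← cancel_epi eY.inv, ← cancel_mono eM.hom, Category.assoc, ← hg]
    simp
  suffices main : ∀ (n : ℕ) (a : ℤ) (K : DerivedCategory.Bounded A), K.obj.IsGE a → K.obj.IsLE (a + n) →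
      (∀ (Y : A) (j : ℤ), j < a → ∀ f : F.obj (BoundedDev.S j Y) ⟶ F.obj K, f = 0) ∧
      ∃ Φ : F.obj K ≅ F'.obj K, ∀ (Y : A) (h : BoundedDev.S a Y ⟶ K), SibIso.Compat (ΦS a Y) Φ h by
    obtain ⟨a, n, hGE, hLE⟩ := BoundedDev.exists_interval K
    obtain ⟨-, Φ, -⟩ := main n a K hGE hLE
    exact ⟨Φ⟩
  intro n
  induction n with
  | zero =>
    intro a K hGE hLE
    haveI := hGE
    haveI : K.obj.IsLE a := by simpa using hLE
    obtain ⟨M, ⟨i⟩⟩ := BoundedDev.exists_iso_single K a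
    refine ⟨fun Y j hj f => ?_, F.mapIso i ≪≫ ΦS a M ≪≫ F'.mapIso i.symm, fun Y h => ?_⟩
    · rw [← cancel_mono (F.map i.hom), hvan j a hj Y M (f ≫ F.map i.hom)]
      simp
    · have := (hsingle a Y M (h ≫ i.hom)).comp (SibIso.compat_conj (ΦS a M) i).2
      rwa [Category.assoc, i.hom_inv_id, Category.comp_id] at this
  | succ n ih =>
    intro a K hGE hLE
    haveI := hGE
    haveI := hLE
    obtain ⟨M, K', i, q, δ, hT, h1', h2'⟩ := BoundedDev.exists_step K a (a + (n + 1 : ℕ)) (by omega)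
    obtain ⟨hv', Φ', hΦ'⟩ := ih (a + 1) K' h1' (by rwa [show a + 1 + (n : ℤ) = a + (n + 1 : ℕ) by omega])
    have hFT := F.map_distinguished _ hT
    refine ⟨fun Y j hj f => ?_, ?_⟩
    · obtain ⟨g, hg⟩ := Pretriangulated.Triangle.coyoneda_exact₂ _ hFT f (hvan j a hj Y M _)
      rw [hv' Y j (by omega) g] at hg
      exact hg.trans zero_comp
    let ψ : BoundedDev.S a M ≅ (BoundedDev.S (a + 1) M)⟦(1 : ℤ)⟧ :=
      (shiftFunctorAdd' _ (-(a + 1)) 1 (-a) (by omega)).app (s.obj M)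
    have hψ : SibIso.Compat (ΦS a M) (SibIso.sh (ΦS (a + 1) M) 1) ψ.hom :=
      SibIso.compat_add (e0 M) (-(a + 1)) 1 (-a) (by omega)
    obtain ⟨h', hh'⟩ := (shiftFunctor (DerivedCategory.Bounded A) (1 : ℤ)).map_surjective (ψ.inv ≫ δ)
    have hδ : SibIso.Compat (ΦS a M) (SibIso.sh Φ' 1) δ := by
      have := hψ.comp ((hΦ' M h').shift 1)
      rwa [hh', ψ.hom_inv_id_assoc] at this
    obtain ⟨b, hb₁, hb₂⟩ := Pretriangulated.complete_distinguished_triangle_morphism₂ _ _ hFT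
      (F'.map_distinguished _ hT) Φ'.hom (ΦS a M).hom (by
        show (F.map δ ≫ (F.commShiftIso (1 : ℤ)).hom.app K') ≫ Φ'.hom⟦(1 : ℤ)⟧' =
          (ΦS a M).hom ≫ F'.map δ ≫ (F'.commShiftIso (1 : ℤ)).hom.app K'
        rw [← Category.assoc (ΦS a M).hom, ← hδ]
        simp [SibIso.sh])
    let φ : F.mapTriangle.obj (Pretriangulated.Triangle.mk i q δ) ⟶ F'.mapTriangle.obj (Pretriangulated.Triangle.mk i q δ) :=
      { hom₁ := Φ'.hom, hom₂ := b, hom₃ := (ΦS a M).hom, comm₁ := hb₁, comm₂ := hb₂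
        comm₃ := by
          show (F.map δ ≫ (F.commShiftIso (1 : ℤ)).hom.app K') ≫ Φ'.hom⟦(1 : ℤ)⟧' =
            (ΦS a M).hom ≫ F'.map δ ≫ (F'.commShiftIso (1 : ℤ)).hom.app K'
          rw [← Category.assoc (ΦS a M).hom, ← hδ]
          simp [SibIso.sh] }
    haveI : IsIso φ.hom₂ := Pretriangulated.isIso₂_of_isIso₁₃ φ hFT (F'.map_distinguished _ hT)
      (inferInstanceAs (IsIso Φ'.hom)) (inferInstanceAs (IsIso (ΦS a M).hom))
    let b' : F.obj K ⟶ F'.obj K := b
    let Φ : F.obj K ≅ F'.obj K := @asIso _ _ _ _ b' ‹_›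
    refine ⟨Φ, fun Y h => ?_⟩
    show F.map h ≫ b' = (ΦS a Y).hom ≫ F'.map h
    rw [← sub_eq_zero]
    obtain ⟨z, hz⟩ := Pretriangulated.Triangle.coyoneda_exact₂ _ (F'.map_distinguished _ hT)
      (F.map h ≫ b' - (ΦS a Y).hom ≫ F'.map h) (by
        show (F.map h ≫ b' - (ΦS a Y).hom ≫ F'.map h) ≫ F'.map q = 0
        have hc : F.map (h ≫ q) ≫ (ΦS a M).hom = (ΦS a Y).hom ≫ F'.map (h ≫ q) := hsingle a Y M (h ≫ q)
        rw [Functor.map_comp, Functor.map_comp, Category.assoc] at hc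
        rw [Preadditive.sub_comp, Category.assoc, Category.assoc, ← hc, sub_eq_zero]
        exact congrArg (F.map h ≫ ·) hb₂.symm)
    rw [hz, show z = 0 from (cancel_mono Φ'.inv).1 ((hv' Y a (by omega) (z ≫ Φ'.inv)).trans zero_comp.symm)]
    exact zero_comp

end Groth.Agent.S6704
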