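import Groth.Statements.S6705
import Groth.Agent.H9Misc.BoundedDev
import Groth.Agent.H9Misc.SibGen

set_option autoImplicit false
universe w v u v' u'
open CategoryTheory
open DEquiv
open Groth.Agent.H9Misc

set_option maxHeartbeats 1000000

namespace Groth.Agent.S6705

open CategoryTheory.Limits CategoryTheory.Pretriangulated in
/-- Let A be an abelian category, D a triangulated category, and F, F' : D^b(A) ⥤ D exact functors of
triangulated categories which are siblings: their restrictions to A (objects in degree 0) are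
isomorphic functors and F K ≅ F' K for every K. If F is fully faithful, then F' is fully faithful.
(That essential surjectivity likewise passes from F to F' is immediate from the second sibling
condition and is not stated.) -/
theorem result
    {A : Type u} [Category.{v} A] [Abelian A] [HasDerivedCategory.{w} A]
    {D : Type u'} [Category.{v'} D] [Preadditive D] [HasZeroObject D] [HasShift D ℤ]
    [∀ n : ℤ, (shiftFunctor D n).Additive] [Pretriangulated D] [IsTriangulated D]
    (F F' : DerivedCategory.Bounded A ⥤ D) [F.CommShift ℤ] [F.IsTriangulated]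
    [F'.CommShift ℤ] [F'.IsTriangulated]
    (h1 : Nonempty (DEquiv.singleB A ⋙ F ≅ DEquiv.singleB A ⋙ F'))
    (h2 : ∀ K : DerivedCategory.Bounded A, Nonempty (F.obj K ≅ F'.obj K))
    [F.Full] [F.Faithful] : F'.Full ∧ F'.Faithful := by
  obtain ⟨e⟩ := h1
  have e2 : ∀ K, F.obj K ≅ F'.obj K := fun K => (h2 K).some
  let s := DEquiv.singleB A
  -- degree-shifted single objects
  have key : ∀ (q : ℤ) (X Y : A), SibGen.B F' (s.obj X) ((s.obj Y)⟦q⟧) := by
    have h0 : ∀ X Y : A, SibGen.B F' (s.obj X) ((s.obj Y)⟦(0 : ℤ)⟧) := fun X Y => by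
      have hb : SibGen.B F' (s.obj X) (s.obj Y) := by
        refine ⟨fun f f' hf => ?_, fun ω => ?_⟩
        · obtain ⟨u, rfl⟩ := s.map_surjective f
          obtain ⟨u', rfl⟩ := s.map_surjective f'
          refine congrArg s.map ((s ⋙ F).map_injective ?_)
          rw [← cancel_mono (e.hom.app Y)]
          exact (e.hom.naturality u).trans ((congrArg (e.hom.app X ≫ ·) hf).trans (e.hom.naturality u').symm)
        · obtain ⟨f, hf⟩ := F.map_surjective (e.hom.app X ≫ ω ≫ e.inv.app Y)
          obtain ⟨u, rfl⟩ := s.map_surjective f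
          refine ⟨s.map u, ?_⟩
          rw [← cancel_epi (e.hom.app X)]
          refine (e.hom.naturality u).symm.trans ?_
          show F.map (s.map u) ≫ e.hom.app Y = _
          rw [hf, Category.assoc, Category.assoc, e.inv_hom_id_app]
          exact congrArg (e.hom.app X ≫ ·) (Category.comp_id _)
      exact hb.of_iso (Iso.refl _) ((shiftFunctorZero _ ℤ).app _).symm
    have hneg : ∀ q : ℤ, q < 0 → ∀ X Y : A, SibGen.B F' (s.obj X) ((s.obj Y)⟦q⟧) := fun q hq X Y => by
      refine ⟨fun f f' _ => (BoundedDev.hom_eq_zero X Y q hq f).trans (BoundedDev.hom_eq_zero X Y q hq f').symm,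
        fun ω => ⟨0, ?_⟩⟩
      obtain ⟨f, hf⟩ := F.map_surjective ((e2 _).hom ≫ ω ≫ (e2 _).inv)
      rw [BoundedDev.hom_eq_zero X Y q hq f, Functor.map_zero] at hf
      show F'.map 0 = ω
      rw [Functor.map_zero, ← cancel_mono (e2 _).inv, ← cancel_epi (e2 _).hom, ← hf]
      simp
    intro q
    induction q using Int.negInduction with
    | nat n =>
      induction n with
      | zero => exact h0
      | succ n ih =>
        intro X Y
        let L := (s.obj Y)⟦((n + 1 : ℕ) : ℤ)⟧
        have hB : ∀ M : A, SibGen.B F' ((s.obj M)⟦(1 : ℤ)⟧) L := fun M => ((ih M Y).shift 1).of_iso (Iso.refl _)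
          (((shiftFunctorAdd' _ (n : ℤ) 1 ((n + 1 : ℕ) : ℤ) (by push_cast; rfl)).app _).symm)
        refine ⟨(injective_iff_map_eq_zero (F'.mapAddHom : (s.obj X ⟶ L) →+ _)).2 fun ξ hξ => ?_, fun ω => ?_⟩
        · obtain ⟨X', p, hp, h⟩ := BoundedDev.exists_epi_kill X Y n ξ
          let T := ShortComplex.mk _ _ (Limits.kernel.condition p)
          have hT : T.ShortExact := { exact := ShortComplex.exact_kernel p }
          obtain ⟨δ, hd⟩ := BoundedDev.exists_triangle hT
          exact SibGen.inj_eff (Pretriangulated.Triangle.mk (s.map p) δ _) (Pretriangulated.rot_of_distTriang _ hd)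
            (hB _) (hB _) ξ h hξ
        · obtain ⟨ξ, hξ⟩ := F.map_surjective (e.hom.app X ≫ ω ≫ (e2 L).inv)
          obtain ⟨X', p, hp, h⟩ := BoundedDev.exists_epi_kill X Y n ξ
          let T := ShortComplex.mk _ _ (Limits.kernel.condition p)
          have hT : T.ShortExact := { exact := ShortComplex.exact_kernel p }
          obtain ⟨δ, hd⟩ := BoundedDev.exists_triangle hT
          refine SibGen.surj_eff (Pretriangulated.Triangle.mk (s.map p) δ _) (Pretriangulated.rot_of_distTriang _ hd)
            (hB _) ω ?_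
          show F'.map (s.map p) ≫ ω = 0
          rw [← cancel_epi (e.hom.app X'), ← cancel_mono (e2 L).inv]
          have h' : F.map (s.map p) ≫ e.hom.app X = e.hom.app X' ≫ F'.map (s.map p) := e.hom.naturality p
          calc (e.hom.app X' ≫ F'.map (s.map p) ≫ ω) ≫ (e2 L).inv
              = (e.hom.app X' ≫ F'.map (s.map p)) ≫ ω ≫ (e2 L).inv := by simp only [Category.assoc]
            _ = F.map (s.map p) ≫ F.map ξ := by rw [← h', hξ, Category.assoc]
            _ = _ := by rw [← Functor.map_comp, h, Functor.map_zero]; simp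
    | neg ih n =>
      rcases n.eq_zero_or_pos with rfl | hn
      · simpa using h0
      · exact hneg _ (by omega)
  have hQ : ∀ (L : DerivedCategory.Bounded A) (X : A) (n m : ℤ), SibGen.B F' ((s.obj X)⟦n⟧) (L⟦m⟧) := fun L => by
    refine BoundedDev.induction (fun L => ∀ (X : A) (n m : ℤ), SibGen.B F' ((s.obj X)⟦n⟧) (L⟦m⟧)) ?_ ?_ ?_ L
    · intro K L i h X n m
      exact (h X n m).of_iso (Iso.refl _) ((shiftFunctor _ m).mapIso i)
    · intro a M X n m
      exact ((key (-a + m - n) X M).shift n).of_iso (Iso.refl _)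
        (((shiftFunctorAdd' _ (-a + m - n) n (-a + m) (by omega)).app _).symm ≪≫
          (shiftFunctorAdd' _ (-a) m (-a + m) rfl).app _)
    · intro T hT h1 h3 X n m
      refine SibGen.B.of_triangle_right _ (Pretriangulated.Triangle.shift_distinguished T hT m) (h1 X n m) (h3 X n m) ?_ ?_
      · exact (h3 X n (m + -1)).of_iso (Iso.refl _) ((shiftFunctorAdd' _ m (-1) (m + -1) rfl).app _)
      · exact (h1 X n (m + 1)).of_iso (Iso.refl _) ((shiftFunctorAdd' _ m 1 (m + 1) rfl).app _)
  have hR : ∀ (K : DerivedCategory.Bounded A) (L : DerivedCategory.Bounded A) (m : ℤ), SibGen.B F' (K⟦m⟧) L := fun K => by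
    refine BoundedDev.induction (fun K => ∀ L (m : ℤ), SibGen.B F' (K⟦m⟧) L) ?_ ?_ ?_ K
    · intro K K' i h L m
      exact (h L m).of_iso ((shiftFunctor _ m).mapIso i) (Iso.refl _)
    · intro a M L m
      exact (hQ L M (-a + m) 0).of_iso ((shiftFunctorAdd' _ (-a) m (-a + m) rfl).app _)
        ((shiftFunctorZero _ ℤ).app _)
    · intro T hT h1 h3 L m
      refine SibGen.B.of_triangle_left _ (Pretriangulated.Triangle.shift_distinguished T hT m) (h1 L m) (h3 L m) ?_ ?_
      · exact (h3 L (m + -1)).of_iso ((shiftFunctorAdd' _ m (-1) (m + -1) rfl).app _) (Iso.refl _)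
      · exact (h1 L (m + 1)).of_iso ((shiftFunctorAdd' _ m 1 (m + 1) rfl).app _) (Iso.refl _)
  have hall : ∀ K L, SibGen.B F' K L := fun K L => (hR K L 0).of_iso ((shiftFunctorZero _ ℤ).app K) (Iso.refl _)
  exact ⟨⟨fun {K L} => (hall K L).2⟩, ⟨fun {K L} => @(hall K L).1⟩⟩

end Groth.Agent.S6705
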