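import Groth.Statements.S6708


set_option autoImplicit false
universe v u
open CategoryTheory
open DEquiv

namespace Groth.Agent.S6708

open CategoryTheory.Limits CategoryTheory.Pretriangulated in
lemma aux {D : Type u} [Category.{v} D] [Preadditive D] [HasZeroObject D] [HasShift D ℤ]
    [∀ n : ℤ, (shiftFunctor D n).Additive] [Pretriangulated D] (P : ObjectProperty D) [P.IsTriangulated]
    {A B X : D} (hA : P A) (hB : P B) :
    (∀ (a : A ⟶ X) (b : B ⟶ X), ∃ (C : D) (_ : P C) (c : C ⟶ X) (i : A ⟶ C) (j : B ⟶ C), i ≫ c = a ∧ j ≫ c = b) ∧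
    (∀ (b : B ⟶ X) (f : A ⟶ B), f ≫ b = 0 → ∃ (C : D) (_ : P C) (c : C ⟶ X) (g : B ⟶ C), g ≫ c = b ∧ f ≫ g = 0) := by
  refine ⟨fun a b => ?_, fun b f hf => ?_⟩
  · obtain ⟨E, i₁, i₂, h⟩ := distinguished_cocone_triangle₂ (0 : B ⟶ A⟦(1 : ℤ)⟧)
    obtain ⟨E', hE', ⟨ε⟩⟩ := ObjectProperty.ext_of_isTriangulatedClosed₂' P _ h hA hB
    change E ≅ E' at ε
    obtain ⟨j, hj⟩ := Triangle.coyoneda_exact₃ _ h (𝟙 B) Limits.comp_zero
    obtain ⟨q, hq⟩ := Triangle.yoneda_exact₂ _ (inv_rot_of_distTriang _ h) a (by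
      show (-(shiftFunctor D (-1 : ℤ)).map (0 : B ⟶ A⟦(1 : ℤ)⟧) ≫ _) ≫ a = 0
      rw [Functor.map_zero, zero_comp, neg_zero, zero_comp])
    change B ⟶ E at j
    change E ⟶ X at q
    replace hj : 𝟙 B = j ≫ i₂ := hj
    replace hq : a = i₁ ≫ q := hq
    have h0 : i₁ ≫ i₂ = 0 := comp_distTriang_mor_zero₁₂ _ h
    refine ⟨E', hE', ε.inv ≫ (q + i₂ ≫ (b - j ≫ q)), i₁ ≫ ε.hom, j ≫ ε.hom, ?_, ?_⟩
    · simp [hq, reassoc_of% h0]
    · simp only [Category.assoc, Iso.hom_inv_id_assoc, Preadditive.comp_add]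
      rw [← Category.assoc j i₂, ← hj, Category.id_comp]
      abel
  · obtain ⟨C, g, h, hd⟩ := distinguished_cocone_triangle f
    obtain ⟨C', hC', ⟨ε⟩⟩ := ObjectProperty.ext_of_isTriangulatedClosed₃' P _ hd hA hB
    change C ≅ C' at ε
    obtain ⟨c, hc⟩ := Triangle.yoneda_exact₂ _ hd b hf
    change C ⟶ X at c
    replace hc : b = g ≫ c := hc
    have h0 : f ≫ g = 0 := comp_distTriang_mor_zero₁₂ _ hd
    exact ⟨C', hC', ε.inv ≫ c, g ≫ ε.hom, by simp [hc], by simp [reassoc_of% h0]⟩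

open CategoryTheory.Limits CategoryTheory.Pretriangulated in
/-- Let D be a pretriangulated category, D' ⊆ D a full triangulated subcategory (given as a property of
objects that is triangulated in Mathlib's sense) and X an object of D. Then the category of arrows E
⟶ X with E in D' is filtered. -/
theorem result
    {D : Type u} [Category.{v} D] [Preadditive D] [HasZeroObject D] [HasShift D ℤ]
    [∀ n : ℤ, (shiftFunctor D n).Additive] [Pretriangulated D]
    (P : ObjectProperty D) [P.IsTriangulated] (X : D) :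
    IsFiltered (CostructuredArrow P.ι X) := by
  haveI : Nonempty (CostructuredArrow P.ι X) := by
    obtain ⟨Z, hZ, hPZ⟩ := P.exists_prop_of_containsZero
    exact ⟨CostructuredArrow.mk (Y := (⟨Z, hPZ⟩ : P.FullSubcategory)) (hZ.to_ X : P.ι.obj ⟨Z, hPZ⟩ ⟶ X)⟩
  haveI : IsFilteredOrEmpty (CostructuredArrow P.ι X) := by
    refine ⟨fun A B => ?_, fun A B u v => ?_⟩
    · obtain ⟨C, hC, c, i, j, hi, hj⟩ := (aux P A.left.property B.left.property).1 A.hom B.hom
      exact ⟨CostructuredArrow.mk (S := P.ι) (Y := (⟨C, hC⟩ : P.FullSubcategory)) (c : P.ι.obj ⟨C, hC⟩ ⟶ X), CostructuredArrow.homMk (ObjectProperty.homMk i) hi,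
        CostructuredArrow.homMk (ObjectProperty.homMk j) hj, trivial⟩
    · have hw : (u.left.hom - v.left.hom) ≫ B.hom = (0 : A.left.obj ⟶ X) := by
        rw [Preadditive.sub_comp, sub_eq_zero]
        exact (CostructuredArrow.w u).trans (CostructuredArrow.w v).symm
      obtain ⟨C, hC, c, g, hg, hfg⟩ := (aux P A.left.property B.left.property).2 B.hom _ hw
      refine ⟨CostructuredArrow.mk (S := P.ι) (Y := (⟨C, hC⟩ : P.FullSubcategory)) (c : P.ι.obj ⟨C, hC⟩ ⟶ X), CostructuredArrow.homMk (ObjectProperty.homMk g) hg,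
        CostructuredArrow.hom_ext _ _ (ObjectProperty.hom_ext _ ?_)⟩
      rw [Preadditive.sub_comp, sub_eq_zero] at hfg
      exact hfg
  exact {}

end Groth.Agent.S6708
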