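import Groth.Statements.S6709
import Groth.Agent.H9Misc.BrownFinDim

set_option autoImplicit false
universe w v u
open CategoryTheory
open DEquiv
open Groth.Agent.H9Misc

namespace Groth.Agent.S6709

open CategoryTheory.Limits CategoryTheory.Pretriangulated Opposite in
/-- Let k be a field and D a k-linear triangulated category with arbitrary direct sums which is
compactly generated; write D_c for the full subcategory of compact objects. Let H be a contravariant
k-linear functor from D_c to k-vector spaces which is cohomological (for every distinguished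
triangle X ⟶ Y ⟶ Z of D with X, Y, Z compact, H(Z) ⟶ H(Y) ⟶ H(X) is exact) and such that every H(X)
is finite-dimensional. One can then find an object Y of D for which H becomes isomorphic to X ↦
Hom(X, Y), the functor represented by Y on compact objects (existence of such Y and of an
isomorphism of functors). -/
theorem result
    {k : Type w} [Field k]
    {D : Type u} [Category.{v} D] [Preadditive D] [Linear k D] [HasZeroObject D] [HasShift D ℤ]
    [∀ n : ℤ, (shiftFunctor D n).Additive] [∀ n : ℤ, (shiftFunctor D n).Linear k]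
    [Pretriangulated D] [IsTriangulated D] [HasCoproducts.{v} D]
    (hD : CohDer.IsCompactlyGenerated D)
    (H : (ObjectProperty.FullSubcategory (fun K : D => CohDer.IsCompactObject K))ᵒᵖ ⥤ ModuleCat.{v} k)
    [H.Additive]
    (hlin : ∀ (X Y : ObjectProperty.FullSubcategory (fun K : D => CohDer.IsCompactObject K))
      (r : k) (f : X ⟶ Y), H.map (r • f).op = r • H.map f.op)
    (hcoh : ∀ T ∈ distTriang D, ∀ (h₁ : CohDer.IsCompactObject T.obj₁)
      (h₂ : CohDer.IsCompactObject T.obj₂) (h₃ : CohDer.IsCompactObject T.obj₃)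
      (y : H.obj (op ⟨T.obj₂, h₂⟩)),
      H.map (ObjectProperty.homMk T.mor₁ : (⟨T.obj₁, h₁⟩ : ObjectProperty.FullSubcategory
          (fun K : D => CohDer.IsCompactObject K)) ⟶ ⟨T.obj₂, h₂⟩).op y = 0 →
        ∃ z : H.obj (op ⟨T.obj₃, h₃⟩),
          H.map (ObjectProperty.homMk T.mor₂ : (⟨T.obj₂, h₂⟩ : ObjectProperty.FullSubcategory
            (fun K : D => CohDer.IsCompactObject K)) ⟶ ⟨T.obj₃, h₃⟩).op z = y)
    (hfin : ∀ X, Module.Finite k (H.obj X)) :
    ∃ Y : D, Nonempty (H ≅ (ObjectProperty.ι _).op ⋙ (linearYoneda k D).obj Y) := by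
  haveI : HasColimitsOfShape (Discrete ℕ) D := Groth.Agent.TriCat.hasCountableCoproducts_of_hasCoproducts D
  obtain ⟨κ, G, hG⟩ := CompactSmall.exists_small hD
  haveI : ∀ X, Small.{v} (BrownFinDim.Ext H X) := fun X => BrownFinDim.small_ext H G hG X
  haveI := BrownFinDim.isHomological_extFunctor H hcoh hfin
  haveI := BrownFinDim.preservesLimits_extFunctor H
  obtain ⟨Y, ⟨e⟩⟩ := (Groth.Agent.TriCat.isRepresentable_of_isCompactlyGenerated hD
    (BrownFinDim.extFunctor H)).has_representation
  let y : BrownFinDim.Ext H Y := (equivShrink _).symm (e.homEquiv (𝟙 Y))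
  have hg : ∀ (X : D) (g : X ⟶ Y), (equivShrink _).symm (e.homEquiv g) = BrownFinDim.Ext.map H g y :=
    fun X g => by
    rw [e.homEquiv_eq g]
    exact Equiv.symm_apply_apply _ _
  have hbij : ∀ C, Function.Bijective fun f : C.obj ⟶ Y => y.1 C f := fun C => by
    have h1 : Function.Bijective fun f : C.obj ⟶ Y => (equivShrink _).symm (e.homEquiv f) :=
      (equivShrink _).symm.bijective.comp e.homEquiv.bijective
    have h := (BrownFinDim.bijective_eval H C).comp h1
    convert h using 1
    funext f
    show y.1 C f = _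
    rw [Function.comp_apply, hg]
    exact congrArg (y.1 C) (Category.id_comp f).symm
  have hsmul : ∀ (C : BrownFinDim.Dc D) (r : k) (x : H.obj (op C)),
      BrownFinDim.res H (r • 𝟙 C.obj) x = r • x := fun C r x => by
    show (H.map (r • 𝟙 C : C ⟶ C).op).hom x = r • x
    rw [hlin, op_id, H.map_id]
    rfl
  let ev : ∀ C : BrownFinDim.Dc D, (C.obj ⟶ Y) →ₗ[k] H.obj (op C) := fun C =>
    { toFun := fun f => y.1 C f
      map_add' := BrownFinDim.Ext.add H y C
      map_smul' := fun r f => by
        have h2 : r • f = (r • 𝟙 C.obj) ≫ f := by rw [Linear.smul_comp, Category.id_comp]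
        show y.1 C (r • f) = r • y.1 C f
        rw [BrownFinDim.Ext.nat' H y (r • 𝟙 C.obj) f (r • f) h2.symm, hsmul] }
  refine ⟨Y, ⟨(NatIso.ofComponents (fun C => (LinearEquiv.ofBijective (ev C.unop) (hbij C.unop)).toModuleIso)
    ?_).symm⟩⟩
  intro C C' u
  refine ModuleCat.hom_ext (LinearMap.ext fun f => ?_)
  exact BrownFinDim.Ext.nat H y (C := C'.unop) (C' := C.unop) u.unop.hom f

end Groth.Agent.S6709
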