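import Groth.Statements.S6710
import Mathlib

set_option autoImplicit false
universe u v
open CategoryTheory
open FunMor

namespace Groth.Agent.S6710

universe w w'

theorem exists_killed {S : Type w} {N : Type w'} [CommRing S] [AddCommGroup N] [Module S N] {x : N} (hx : x ≠ 0)
    (t : Finset S) (hrad : ∀ a ∈ t, ∃ k : ℕ, a ^ k • x = 0) :
    ∃ r : S, r • x ≠ 0 ∧ ∀ a ∈ t, a • r • x = 0 := by
  classical
  induction t using Finset.induction with
  | empty => exact ⟨1, by simpa, by simp⟩
  | insert a t _ ih =>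
    obtain ⟨r, hr, hrt⟩ := ih fun b hb => hrad b (Finset.mem_insert_of_mem hb)
    obtain ⟨k, hk⟩ := hrad a (Finset.mem_insert_self a t)
    have hex : ∃ k, a ^ k • r • x = 0 := ⟨k, by rw [smul_comm, hk, smul_zero]⟩
    have h0 : Nat.find hex ≠ 0 := fun e => hr (by simpa [e] using Nat.find_spec hex)
    refine ⟨a ^ (Nat.find hex - 1) * r, ?_, fun b hb => ?_⟩
    · rw [mul_smul]; exact Nat.find_min hex (by omega)
    · rcases Finset.mem_insert.1 hb with rfl | hb
      · rw [mul_smul, ← mul_smul b, ← pow_succ', Nat.sub_add_cancel (by omega)]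
        exact Nat.find_spec hex
      · rw [mul_smul, smul_comm b, hrt b hb, smul_zero]

theorem exists_ne_zero {S : Type w} {N : Type w'} [CommRing S] [IsLocalRing S] [AddCommGroup N] [Module S N]
    (M : Type w') [AddCommGroup M] [Module S M] [Module.FinitePresentation S M] [Nontrivial M]
    {x : N} (hx : x ≠ 0) (hrad : ∀ a ∈ IsLocalRing.maximalIdeal S, ∃ k : ℕ, a ^ k • x = 0) :
    ∃ f : M →ₗ[S] N, f ≠ 0 := by
  classical
  have hex : ∃ n : ℕ, ∃ s : Finset M, s.card = n ∧ Submodule.span S (s : Set M) = ⊤ := by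
    obtain ⟨s, hs⟩ := Module.Finite.fg_top (R := S) (M := M)
    exact ⟨_, s, rfl, hs⟩
  obtain ⟨s, hcard, hs⟩ := Nat.find_spec hex
  obtain ⟨e, he⟩ : s.Nonempty := by
    rcases s.eq_empty_or_nonempty with h | h
    · simp [h] at hs
    · exact h
  let W := Submodule.span S ((s.erase e : Finset M) : Set M)
  have hW : W ≠ ⊤ := fun h => Nat.find_min hex (m := (s.erase e).card)
    (by rw [← hcard]; exact Finset.card_erase_lt_of_mem he) ⟨_, rfl, h⟩
  have hfp : Module.FinitePresentation S (M ⧸ W) :=
    Module.finitePresentation_of_surjective W.mkQ W.mkQ_surjective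
      (by rw [Submodule.ker_mkQ]; exact ⟨_, rfl⟩)
  let π : S →ₗ[S] M ⧸ W := LinearMap.toSpanSingleton S _ (W.mkQ e)
  have hπ : Function.Surjective π := by
    rw [← LinearMap.range_eq_top, ← top_le_iff, ← W.range_mkQ, ← Submodule.map_top, ← hs,
      Submodule.map_span, Submodule.span_le]
    rintro _ ⟨m, hm, rfl⟩
    by_cases hme : m = e
    · exact ⟨1, by simp [π, hme]⟩
    · exact ⟨0, by
        rw [map_zero, eq_comm, Submodule.mkQ_apply, Submodule.Quotient.mk_eq_zero]
        exact Submodule.subset_span (Finset.mem_erase.2 ⟨hme, hm⟩)⟩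
  obtain ⟨t, ht⟩ := Module.FinitePresentation.fg_ker π hπ
  have htm : ∀ a ∈ t, a ∈ IsLocalRing.maximalIdeal S := by
    intro a ha
    have : (LinearMap.ker π : Ideal S) ≠ ⊤ := fun e0 => hW (Submodule.Quotient.subsingleton_iff.1 ⟨fun u v => by
      obtain ⟨u, rfl⟩ := hπ u
      obtain ⟨v, rfl⟩ := hπ v
      rw [LinearMap.mem_ker.1 (e0 ▸ Submodule.mem_top : u ∈ LinearMap.ker π),
        LinearMap.mem_ker.1 (e0 ▸ Submodule.mem_top : v ∈ LinearMap.ker π)]⟩)
    exact IsLocalRing.le_maximalIdeal this (ht ▸ Submodule.subset_span ha)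
  obtain ⟨r, hr, hrt⟩ := exists_killed hx t fun a ha => hrad a (htm a ha)
  let g : S →ₗ[S] N := LinearMap.toSpanSingleton S N (r • x)
  have hg : LinearMap.ker π ≤ LinearMap.ker g := by
    rw [← ht, Submodule.span_le]
    intro a ha
    exact LinearMap.mem_ker.2 (hrt a ha)
  let gbar := (LinearMap.ker π).liftQ g hg ∘ₗ (π.quotKerEquivOfSurjective hπ).symm.toLinearMap
  refine ⟨gbar ∘ₗ W.mkQ, fun h0 => hr ?_⟩
  have h1 : gbar (π 1) = 0 := by
    rw [show π 1 = W.mkQ e by simp [π]]
    exact LinearMap.congr_fun h0 e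
  have h2 : (π.quotKerEquivOfSurjective hπ).symm (π 1) = Submodule.Quotient.mk 1 :=
    (LinearEquiv.symm_apply_eq _).2 rfl
  change gbar (π 1) = 0 at h1
  simp only [gbar, LinearMap.comp_apply, LinearEquiv.coe_coe, h2, Submodule.liftQ_apply] at h1
  simpa [g] using h1

/-- The statement for an affine scheme written in terms of modules: let A be a commutative ring, M a
finitely presented A-module and N a nonzero A-module with Supp(N) ⊆ Supp(M). Then Hom_A(M, N) is
nonzero. -/
theorem result
    (A : Type u) [CommRing A] (M : Type v) [AddCommGroup M] [Module A M]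
    [Module.FinitePresentation A M] (N : Type v) [AddCommGroup N] [Module A N] [Nontrivial N]
    (h : Module.support A N ⊆ Module.support A M) : Nontrivial (M →ₗ[A] N) := by
  obtain ⟨n, hn⟩ := exists_ne (0 : N)
  let J := (Submodule.span A {n}).annihilator
  have hJ : J ≠ ⊤ := fun e => hn (by
    simpa using Submodule.mem_annihilator.1 (e ▸ Submodule.mem_top : (1 : A) ∈ J) n
      (Submodule.mem_span_singleton_self n))
  obtain ⟨p, hp⟩ := Ideal.nonempty_minimalPrimes hJ
  haveI := hp.isPrime
  have hpN : (⟨p, hp.isPrime⟩ : PrimeSpectrum A) ∈ Module.support A N := by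
    rw [Module.mem_support_iff']
    refine ⟨n, fun r hr h0 => hr (hp.le (Submodule.mem_annihilator.2 fun y hy => ?_))⟩
    obtain ⟨a, rfl⟩ := Submodule.mem_span_singleton.1 hy
    rw [smul_comm, h0, smul_zero]
  haveI : Nontrivial (LocalizedModule p.primeCompl M) := Module.mem_support_iff.1 (h hpN)
  let S := Localization.AtPrime p
  let MS := LocalizedModule p.primeCompl M
  let NS := LocalizedModule p.primeCompl N
  let gN := LocalizedModule.mkLinearMap p.primeCompl N
  haveI : Module.FinitePresentation S MS := inferInstance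
  have hx : gN n ≠ 0 := by
    intro h0
    obtain ⟨c, hc⟩ := (IsLocalizedModule.eq_zero_iff p.primeCompl gN).1 h0
    refine c.2 (hp.le (Submodule.mem_annihilator.2 fun y hy => ?_))
    obtain ⟨a, rfl⟩ := Submodule.mem_span_singleton.1 hy
    rw [smul_comm, show (c : A) • n = 0 from hc, smul_zero]
  have hrad : ∀ a ∈ IsLocalRing.maximalIdeal S, ∃ k : ℕ, a ^ k • gN n = 0 := by
    intro a ha
    have h1 := IsLocalization.AtPrime.radical_map_of_mem_minimalPrimes (A := S) p J hp
    rw [IsLocalization.AtPrime.map_eq_maximalIdeal p S] at h1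
    obtain ⟨k, hk⟩ := (h1 ▸ ha : a ∈ (J.map (algebraMap A S)).radical)
    refine ⟨k, ?_⟩
    have key : J.map (algebraMap A S) ≤ (Submodule.span S {gN n}).annihilator := by
      rw [Ideal.map_le_iff_le_comap]
      intro r hr
      rw [Ideal.mem_comap, Submodule.mem_annihilator_span_singleton, algebraMap_smul, ← map_smul,
        Submodule.mem_annihilator.1 hr n (Submodule.mem_span_singleton_self n), map_zero]
    exact (Submodule.mem_annihilator_span_singleton _ _).1 (key hk)
  obtain ⟨f, hf⟩ := exists_ne_zero MS hx hrad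
  by_contra hne
  rw [not_nontrivial_iff_subsingleton] at hne
  apply hf
  obtain ⟨⟨g, c⟩, hgc⟩ := IsLocalizedModule.surj p.primeCompl
    (IsLocalizedModule.map p.primeCompl (LocalizedModule.mkLinearMap p.primeCompl M) gN)
    (f.restrictScalars A)
  rw [Subsingleton.elim g 0, map_zero] at hgc
  apply LinearMap.ext
  intro z
  have h2 : (c : A) • f z = 0 := LinearMap.congr_fun hgc z
  have hu : IsUnit (algebraMap A S c) := IsLocalization.map_units S c
  rw [← algebraMap_smul S] at h2
  exact hu.smul_eq_zero.1 h2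

end Groth.Agent.S6710
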