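import Groth.Statements.S6711
import Groth.Agent.FunMorK.AcyclicFinite
import Groth.Agent.H9Misc.RpushZero
import Mathlib.AlgebraicGeometry.ZariskisMainTheorem

set_option backward.isDefEq.respectTransparency false
set_option backward.isDefEq.respectTransparency.types false
set_option linter.style.haveILetI false

set_option autoImplicit false
universe u
open CategoryTheory AlgebraicGeometry
open FunMor Groth.Agent

namespace Groth.Agent.S6711

open Groth.Agent.FunMorK.AcyclicFinite TopologicalSpace CategoryTheory.Limits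

/-- The case of an affine base. -/
theorem isFinite_of_affine {V X : Scheme.{u}} [IsAffine X] (f : V ⟶ X)
    [LocallyQuasiFinite f] [LocallyOfFiniteType f] [QuasiCompact f] [IsSeparated f]
    {A : Type u} [CommRing A] [IsNoetherianRing A] (κ : A →+* Γ(X, ⊤))
    (K : V.Modules) (hK : Coh.IsQCoh K) (hsupp : CohB1.support K = Set.univ)
    (hvan : ∀ q : ℕ, 0 < q → Subsingleton (Coh.HH V K q))
    {M : Type u} [AddCommGroup M] [Module A M] [Module.Finite A M]
    (τ : M →+ Γ(K, ⊤)) (hτ : Function.Bijective τ)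
    (hτs : ∀ (a : A) (m : M), τ (a • m) = f.appTop (κ a) • τ m) : IsFinite f := by
  haveI : CompactSpace V := QuasiCompact.compactSpace_of_compactSpace f
  haveI : QuasiSeparatedSpace V := quasiSeparatedSpace_of_quasiSeparated f
  haveI : IsAffine f.normalization := isAffine_of_isAffineHom f.fromNormalization
  let j := f.toNormalization
  let ψ : Γ(f.normalization, ⊤) →+* Γ(V, ⊤) := j.appTop.hom
  have hadd : ∀ (g h : Γ(f.normalization, ⊤)) (y : f.normalization),
      y ∈ f.normalization.basicOpen (g + h) →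
        y ∈ f.normalization.basicOpen g ∨ y ∈ f.normalization.basicOpen h := fun g h y hy => by
    rw [Scheme.mem_basicOpen_top, map_add] at hy
    simpa only [Scheme.mem_basicOpen_top] using IsLocalRing.isUnit_or_isUnit_of_isUnit_add hy
  let I : Ideal Γ(f.normalization, ⊤) :=
    { carrier := {g | f.normalization.basicOpen g ≤ j.opensRange}
      add_mem' := fun {g h} hg hh y hy => (hadd g h y hy).elim (@hg y) (@hh y)
      zero_mem' := by simp
      smul_mem' := fun c g hg => by
        show f.normalization.basicOpen (c * g) ≤ j.opensRange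
        rw [Scheme.basicOpen_mul]
        exact inf_le_right.trans hg }
  have hpre : ∀ g, j ⁻¹ᵁ f.normalization.basicOpen g = V.basicOpen (ψ g) := fun g =>
    Scheme.preimage_basicOpen j g
  have hcov : ∀ x : V, ∃ g ∈ I, x ∈ V.basicOpen (ψ g) := fun x => by
    obtain ⟨g, hg, hxg⟩ := (isAffineOpen_top f.normalization).exists_basicOpen_le
      (V := j.opensRange) ⟨j x, ⟨x, rfl⟩⟩ trivial
    exact ⟨g, hg, (hpre g).le hxg⟩
  have haff : ∀ g ∈ I, IsAffineOpen (V.basicOpen (ψ g)) := fun g hg => by
    rw [← hpre g]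
    exact ((isAffineOpen_top f.normalization).basicOpen g).preimage_of_isOpenImmersion j hg
  have hfac : ∀ a, ψ (f.fromNormalization.appTop a) = f.appTop a := fun a => by
    have := congr($(congrArg Scheme.Hom.appTop f.toNormalization_fromNormalization) a)
    rwa [Scheme.Hom.comp_appTop] at this
  let σ : Submodule Γ(f.normalization, ⊤) (SecB ψ K) → Submodule A M := fun N =>
    { carrier := {m | (show SecB ψ K from τ m) ∈ N}
      add_mem' := fun {a b} ha hb => by
        show (show SecB ψ K from τ (a + b)) ∈ N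
        rw [map_add]; exact N.add_mem ha hb
      zero_mem' := by
        show (show SecB ψ K from τ 0) ∈ N
        rw [map_zero]; exact N.zero_mem
      smul_mem' := fun a m hm => by
        show (show SecB ψ K from τ (a • m)) ∈ N
        rw [hτs, ← hfac]
        exact N.smul_mem (f.fromNormalization.appTop (κ a)) hm }
  haveI : IsNoetherian Γ(f.normalization, ⊤) (SecB ψ K) := by
    refine isNoetherian_iff'.2 (StrictMono.wellFoundedGT (f := σ) fun N N' h => ?_)
    obtain ⟨hle, s, hs, hs'⟩ := SetLike.lt_iff_le_and_exists.1 h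
    refine SetLike.lt_iff_le_and_exists.2 ⟨fun m hm => hle hm, ?_⟩
    obtain ⟨m, rfl⟩ := hτ.2 s
    exact ⟨m, hs, hs'⟩
  have hIM := smul_top_eq_top (ψ := ψ) I hK hvan hcov haff
  obtain ⟨r, hr, hr0⟩ := Submodule.exists_sub_one_mem_and_smul_eq_zero_of_fg_of_le_smul I
    (⊤ : Submodule Γ(f.normalization, ⊤) (SecB ψ K)) (IsNoetherian.noetherian _) hIM.ge
  have hrange : Set.range j = (f.normalization.basicOpen r : Set f.normalization)ᶜ := by
    refine Set.Subset.antisymm ?_ fun y hy => ?_
    · rintro _ ⟨x, rfl⟩ hxr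
      exact notMem_basicOpen_of_smul_eq_zero (ψ := ψ) I hK hcov haff (ψ r) (fun t => hr0 t trivial)
        (hsupp ▸ Set.mem_univ x) ((hpre r).le hxr)
    · by_contra hy'
      have h1 : y ∈ f.normalization.basicOpen (r + (1 - r)) := by
        rw [add_sub_cancel, Scheme.basicOpen_of_isUnit _ isUnit_one]; trivial
      have hmem : 1 - r ∈ I := by
        rw [← neg_sub r 1]; exact I.neg_mem hr
      exact (hadd r (1 - r) y h1).elim hy fun h => hy' (hmem h)
  haveI : IsClosedImmersion f.toNormalization :=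
    IsClosedImmersion.of_isPreimmersion _ (hrange ▸ (f.normalization.basicOpen r).2.isClosed_compl)
  haveI : IsIntegralHom f := by
    rw [← f.toNormalization_fromNormalization]; infer_instance
  exact (IsFinite.iff_isIntegralHom_and_locallyOfFiniteType _).mpr ⟨inferInstance, inferInstance⟩

/-- Scalars on the sections of a restriction. -/
theorem smul_restrict_top {V : Scheme.{u}} (U : V.Opens) (K : V.Modules) (r : Γ(V, U.ι ''ᵁ ⊤))
    (y : Γ(K, U.ι ''ᵁ ⊤)) :
    (show Γ(K, U.ι ''ᵁ ⊤) from (show Γ((U : Scheme.{u}), ⊤) from r) • (show Γ(K.restrict U.ι, ⊤) from y)) =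
      (show Γ(K, U.ι ''ᵁ ⊤) from r • y) := by
  refine (congr($(Scheme.Modules.smul_restrictAppIso_hom U.ι K ⊤ r) y)).trans ?_
  rw [Scheme.Opens.ι_appIso]
  rfl

end Groth.Agent.S6711

namespace Groth.Agent.S6711

open CategoryTheory.Limits in
/-- Suppose V and X are Noetherian schemes and f : V ⟶ X is separated and quasi-finite (quasi-finite
meaning locally quasi-finite and of finite type). If there is a coherent O_V-module K whose support
is all of V such that f_* K is coherent and R^q f_* K = 0 for every q > 0, then f is finite. -/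
theorem result
    {V X : Scheme.{u}} [IsNoetherian V] [IsNoetherian X] (f : V ⟶ X)
    [LocallyQuasiFinite f] [LocallyOfFiniteType f] [QuasiCompact f] [IsSeparated f]
    [HasInjectiveResolutions V.Modules]
    (K : V.Modules) (hK : Coh.IsCoh K) (hsupp : CohB1.support K = Set.univ)
    (hpush : Coh.IsCoh ((Coh.push f).obj K))
    (hvan : ∀ q : ℕ, 0 < q → IsZero ((Coh.Rpush f q).obj K)) : IsFinite f := by
  refine IsZariskiLocalAtTarget.of_iSup_eq_top (P := @IsFinite)
    (fun W : X.affineOpens => W.1) (iSup_affineOpens_eq_top X) fun W => ?_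
  haveI : IsAffine (W.1 : Scheme.{u}) := W.2
  let W₀ : X.Opens := W.1.ι ''ᵁ ⊤
  have hW₀ : IsAffineOpen W₀ := by
    show IsAffineOpen (W.1.ι ''ᵁ ⊤)
    rw [Scheme.Opens.ι_image_top]; exact W.2
  haveI hnoeth : IsNoetherianRing Γ(X, W₀) := IsLocallyNoetherian.component_noetherian ⟨W₀, hW₀⟩
  haveI : Module.Finite Γ(X, W₀) Γ((Coh.push f).obj K, W₀) := QCoh.finite_sections hpush hW₀
  have e : (f ⁻¹ᵁ W.1).ι ''ᵁ ((f ∣_ W.1) ⁻¹ᵁ ⊤) = f ⁻¹ᵁ W₀ := image_morphismRestrict_preimage f W.1 ⊤
  refine isFinite_of_affine (f ∣_ W.1) (A := Γ(X, W₀)) (RingHom.id _ : Γ(X, W₀) →+* Γ(X, W₀)) (K.restrict (f ⁻¹ᵁ W.1).ι) (QCoh.isQCoh_restrict _ hK.1) ?_ ?_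
    (M := Γ((Coh.push f).obj K, W₀))
    (K.presheaf.map (eqToHom e).op).hom ?_ ?_
  · refine Set.eq_univ_of_forall fun x hx => ?_
    have h' : (f ⁻¹ᵁ W.1).ι x ∈ CohB1.support K := hsupp ▸ Set.mem_univ _
    haveI : Subsingleton ((K.restrict (f ⁻¹ᵁ W.1).ι).presheaf.stalk x) := hx
    exact h' (@Equiv.subsingleton _ _ ((((Scheme.Modules.restrictStalkNatIso (f ⁻¹ᵁ W.1).ι x).app K).addCommGroupIsoToAddEquiv).symm.toEquiv) hx)
  · intro q hq
    letI := QCoh.modHH (QCoh.rhoV f W.1) (K.restrict (f ⁻¹ᵁ W.1).ι) q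
    obtain ⟨l⟩ := QCoh.nonempty_sections_HH (f := f) hK.1 W.2 q
    haveI : Subsingleton Γ((Coh.Rpush f q).obj K, W.1) := subsingleton_of_forall_eq 0 fun s => by
      have := congr($(congrArg (fun φ => Scheme.Modules.Hom.app φ W.1)
        ((hvan q hq).eq_of_src (𝟙 _) 0)) s)
      exact this
    exact l.symm.toEquiv.subsingleton
  · exact ConcreteCategory.bijective_of_isIso (K.presheaf.map (eqToHom e).op)
  · intro a m
    refine (K.map_smul _ (f.app W₀ a) m).trans ?_
    rw [morphismRestrict_appTop]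
    exact (smul_restrict_top _ K _ _).symm

end Groth.Agent.S6711
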