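import Groth.Statements.S6712
import Groth.Agent.H9Misc.IsoNearFibre

set_option autoImplicit false
universe u
open CategoryTheory AlgebraicGeometry
open DEquiv

namespace Groth.Agent.S6712

open CategoryTheory.Limits in
/-- Let S be a Noetherian scheme, s ∈ S, and p : X ⟶ Y a morphism over S where X ⟶ S and Y ⟶ S are
proper and X ⟶ S is flat. If the fibre X_s ⟶ Y_s of p is an isomorphism, then there is an open
neighbourhood U of s such that the base change X_U ⟶ Y_U of p is an isomorphism. -/
theorem result
    {S X Y : Scheme.{u}} [IsNoetherian S] (s : S) (g : X ⟶ S) (h : Y ⟶ S) (p : X ⟶ Y)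
    (w : p ≫ h = g) [IsProper g] [IsProper h] [Flat g]
    (hs : IsIso (pullback.map g (S.fromSpecResidueField s) h (S.fromSpecResidueField s) p (𝟙 _)
      (𝟙 _) ((Category.comp_id g).trans w.symm)
      ((Category.comp_id _).trans (Category.id_comp _).symm))) :
    ∃ U : S.Opens, s ∈ U ∧
      IsIso (pullback.map g U.ι h U.ι p (𝟙 _) (𝟙 _) ((Category.comp_id g).trans w.symm)
        ((Category.comp_id _).trans (Category.id_comp _).symm)) := by
  haveI : IsIso (CohIII.fiberMapOver p g h w s) := hs
  obtain ⟨U, hsU, hU⟩ := Groth.Agent.H9Misc.IsoNearFibre.main p g h w s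
  refine ⟨U, hsU, ?_⟩
  let m := pullback.map g U.ι h U.ι p (𝟙 _) (𝟙 _) ((Category.comp_id g).trans w.symm)
    ((Category.comp_id _).trans (Category.id_comp _).symm)
  have sq : IsPullback m (pullback.fst g U.ι) (pullback.fst h U.ι) p := by
    refine (IsPullback.of_bot ?_ (pullback.lift_fst _ _ _).symm
      (IsPullback.of_hasPullback h U.ι)).flip
    rw [show m ≫ pullback.snd h U.ι = pullback.snd g U.ι from
      (pullback.lift_snd _ _ _).trans (Category.comp_id _), w]
    exact IsPullback.of_hasPullback g U.ι
  have hr : (pullback.fst h U.ι).opensRange = h ⁻¹ᵁ U := by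
    rw [Scheme.Hom.opensRange_pullbackFst, Scheme.Opens.opensRange_ι]
  rw [← hr] at hU
  have hiso : IsIso (pullback.snd p (pullback.fst h U.ι)) :=
    (MorphismProperty.arrow_mk_iso_iff (.isomorphisms Scheme.{u})
      (morphismRestrictOpensRange p (pullback.fst h U.ι))).1 hU
  show IsIso m
  rw [← sq.flip.isoPullback_hom_snd]
  infer_instance

end Groth.Agent.S6712
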