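import Groth.Statements.S6713
import Groth.Agent.H9Misc.BoundedDev

set_option autoImplicit false
universe w v u
open CategoryTheory
open DEquiv
open Groth.Agent.H9Misc

set_option maxHeartbeats 1000000

namespace Groth.Agent.S6713

/-- Let A be an abelian category which is countable: Hom(X, Y) is countable for all objects X, Y and
there are countably many isomorphism classes of objects. Then the bounded derived category D^b(A) is
countable in the same sense. -/
theorem result
    {A : Type u} [Category.{v} A] [Abelian A] [HasDerivedCategory.{w} A]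
    (hhom : ∀ X Y : A, Countable (X ⟶ Y))
    (hiso : ∃ e : ℕ → A, ∀ X : A, ∃ n : ℕ, Nonempty (X ≅ e n)) :
    (∀ K L : DerivedCategory.Bounded A, Countable (K ⟶ L)) ∧
      ∃ e : ℕ → DerivedCategory.Bounded A, ∀ K : DerivedCategory.Bounded A,
        ∃ n : ℕ, Nonempty (K ≅ e n) := by
  obtain ⟨e, he⟩ := hiso
  let s := DEquiv.singleB A
  let T := DerivedCategory.Bounded A
  have hext : ∀ (q : ℤ) (X Y : A), Countable (s.obj X ⟶ (s.obj Y)⟦q⟧) := by
    intro q
    induction q using Int.negInduction with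
    | nat n =>
      induction n with
      | zero =>
        intro X Y
        haveI := hhom X Y
        refine Function.Surjective.countable
          (f := fun u : X ⟶ Y => s.map u ≫ (shiftFunctorZero T ℤ).inv.app (s.obj Y)) fun g => ?_
        obtain ⟨u, hu⟩ := s.map_surjective (g ≫ (shiftFunctorZero T ℤ).hom.app (s.obj Y))
        refine ⟨u, ?_⟩
        show s.map u ≫ _ = g
        exact (congrArg (fun x => x ≫ (shiftFunctorZero T ℤ).inv.app (s.obj Y)) hu).trans
          ((Category.assoc _ _ _).trans ((congrArg (g ≫ ·) (Iso.hom_inv_id_app _ _)).trans (Category.comp_id g)))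
      | succ n ih =>
        intro X Y
        -- the data of an effacement
        let I := Σ p : (Σ m : ℕ, (e m ⟶ X)), PLift (Epi p.2)
        haveI : ∀ m, Countable (e m ⟶ X) := fun m => hhom _ _
        haveI : Countable I := Function.Injective.countable (f := fun i : I => i.1) (by
          rintro ⟨p, ⟨h⟩⟩ ⟨p', ⟨h'⟩⟩ hpp; cases hpp; rfl)
        have hδ : ∀ i : I, ∃ δ : s.obj X ⟶ (s.obj (Limits.kernel i.1.2))⟦(1 : ℤ)⟧,
            Pretriangulated.Triangle.mk (s.map (Limits.kernel.ι i.1.2)) (s.map i.1.2) δ ∈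
              Pretriangulated.distinguishedTriangles := fun i => by
          haveI := i.2.down
          exact BoundedDev.exists_triangle (T := ShortComplex.mk _ _ (Limits.kernel.condition i.1.2))
            { exact := ShortComplex.exact_kernel _ }
        choose δ hT using hδ
        let Φ : (Σ i : I, (s.obj (Limits.kernel i.1.2) ⟶ (s.obj Y)⟦(n : ℤ)⟧)) →
            (s.obj X ⟶ (s.obj Y)⟦((n + 1 : ℕ) : ℤ)⟧) := fun p => δ p.1 ≫ (shiftFunctor T (1 : ℤ)).map p.2 ≫
              (shiftFunctorAdd' T (n : ℤ) 1 ((n + 1 : ℕ) : ℤ) (by push_cast; rfl)).inv.app _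
        haveI : ∀ i : I, Countable (s.obj (Limits.kernel i.1.2) ⟶ (s.obj Y)⟦(n : ℤ)⟧) := fun i => ih _ _
        refine Function.Surjective.countable (f := Φ) fun ξ => ?_
        obtain ⟨X', p, hp, hk⟩ := BoundedDev.exists_epi_kill X Y n ξ
        obtain ⟨m, ⟨j⟩⟩ := he X'
        let i : I := ⟨⟨m, j.inv ≫ p⟩, ⟨epi_comp' inferInstance hp⟩⟩
        obtain ⟨η, hη⟩ : ∃ η : (s.obj (Limits.kernel i.1.2))⟦(1 : ℤ)⟧ ⟶ (s.obj Y)⟦((n + 1 : ℕ) : ℤ)⟧, ξ = δ i ≫ η :=
          Pretriangulated.Triangle.yoneda_exact₃ _ (hT i) ξ (by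
          show s.map (j.inv ≫ p) ≫ ξ = 0
          rw [Functor.map_comp, Category.assoc, hk, Limits.comp_zero])
        obtain ⟨η', hη'⟩ := (shiftFunctor T (1 : ℤ)).map_surjective
          (η ≫ (shiftFunctorAdd' T (n : ℤ) 1 ((n + 1 : ℕ) : ℤ) (by push_cast; rfl)).hom.app _)
        refine ⟨⟨i, η'⟩, ?_⟩
        show δ i ≫ (shiftFunctor T (1 : ℤ)).map η' ≫ _ = ξ
        rw [hη', hη, Category.assoc, Iso.hom_inv_id_app]
        exact congrArg (δ i ≫ ·) (Category.comp_id η)
    | neg ih n =>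
      intro X Y
      rcases n.eq_zero_or_pos with rfl | hn
      · simpa using ih 0 X Y
      · exact Function.Injective.countable (f := fun _ => ()) (fun f g _ =>
          (BoundedDev.hom_eq_zero X Y _ (by omega) f).trans (BoundedDev.hom_eq_zero X Y _ (by omega) g).symm)
  -- extensions of countable Hom sets
  have mid : ∀ (U V W : Type _) [AddCommGroup U] [AddCommGroup V] [AddCommGroup W] (f : U →+ V) (g : V →+ W),
      Countable U → Countable W → (∀ v, g v = 0 → ∃ u, f u = v) → Countable V := fun U V W _ _ _ f g hU hW h => by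
    haveI := hU
    haveI := hW
    classical
    let c : W → V := fun w => if hw : ∃ v, g v = w then hw.choose else 0
    refine Function.Surjective.countable (f := fun p : U × W => f p.1 + c p.2) fun v => ?_
    have hc : g (c (g v)) = g v := by
      simp only [c, dif_pos (show ∃ v', g v' = g v from ⟨v, rfl⟩)]
      exact (show ∃ v', g v' = g v from ⟨v, rfl⟩).choose_spec
    obtain ⟨u, hu⟩ := h (v - c (g v)) (by rw [map_sub, hc, sub_self])
    exact ⟨(u, g v), by simp [hu]⟩
  have hS : ∀ (L : T) (X : A) (n : ℤ), Countable ((s.obj X)⟦n⟧ ⟶ L) := fun L => by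
    refine BoundedDev.induction (fun L => ∀ (X : A) (n : ℤ), Countable ((s.obj X)⟦n⟧ ⟶ L)) ?_ ?_ ?_ L
    · intro L L' i h X n
      haveI := h X n
      exact Function.Surjective.countable (f := fun f => f ≫ i.hom) fun g => ⟨g ≫ i.inv, by simp⟩
    · intro a M X n
      haveI := hext (-a - n) X M
      refine Function.Surjective.countable (f := fun g : s.obj X ⟶ (s.obj M)⟦-a - n⟧ =>
        (shiftFunctor T n).map g ≫ (shiftFunctorAdd' T (-a - n) n (-a) (by omega)).inv.app _) fun h => ?_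
      obtain ⟨g, hg⟩ := (shiftFunctor T n).map_surjective (h ≫ (shiftFunctorAdd' T (-a - n) n (-a) (by omega)).hom.app _)
      refine ⟨g, ?_⟩
      show (shiftFunctor T n).map g ≫ _ = h
      rw [hg, Category.assoc, Iso.hom_inv_id_app]
      exact Category.comp_id h
    · intro Tr hTr h1 h3 X n
      exact mid _ _ _ (Preadditive.rightComp ((s.obj X)⟦n⟧) Tr.mor₁) (Preadditive.rightComp ((s.obj X)⟦n⟧) Tr.mor₂)
        (h1 X n) (h3 X n) fun v hv => (Pretriangulated.Triangle.coyoneda_exact₂ _ hTr v hv).imp fun u hu => hu.symm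
  have hH : ∀ K L : T, Countable (K ⟶ L) := fun K => by
    refine BoundedDev.induction (fun K => ∀ L : T, Countable (K ⟶ L)) ?_ ?_ ?_ K
    · intro K K' i h L
      haveI := h L
      exact Function.Surjective.countable (f := fun f => i.inv ≫ f) fun g => ⟨i.hom ≫ g, by simp⟩
    · intro a M L
      exact hS L M (-a)
    · intro Tr hTr h1 h3 L
      exact mid _ _ _ (Preadditive.leftComp L Tr.mor₂) (Preadditive.leftComp L Tr.mor₁)
        (h3 L) (h1 L) fun v hv => (Pretriangulated.Triangle.yoneda_exact₂ _ hTr v hv).imp fun u hu => hu.symm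
  refine ⟨hH, ?_⟩
  have hn : ∀ (n : ℕ) (a : ℤ), ∃ f : ℕ → T, ∀ K : T, K.obj.IsGE a → K.obj.IsLE (a + n) → ∃ m, Nonempty (K ≅ f m) := by
    intro n
    induction n with
    | zero =>
      intro a
      refine ⟨fun m => BoundedDev.S a (e m), fun K h1 h2 => ?_⟩
      haveI := h1
      haveI : K.obj.IsLE a := by simpa using h2
      obtain ⟨M, ⟨i⟩⟩ := BoundedDev.exists_iso_single K a
      obtain ⟨m, ⟨j⟩⟩ := he M
      exact ⟨m, ⟨i ≪≫ (shiftFunctor T (-a)).mapIso (s.mapIso j)⟩⟩
    | succ n ih =>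
      intro a
      obtain ⟨f, hf⟩ := ih (a + 1)
      haveI this_p : ∀ p : ℕ × ℕ, Countable (BoundedDev.S a (e p.1) ⟶ (f p.2)⟦(1 : ℤ)⟧) := fun p => hH _ _
      let J := Σ p : ℕ × ℕ, (BoundedDev.S a (e p.1) ⟶ (f p.2)⟦(1 : ℤ)⟧)
      haveI : Nonempty J := ⟨⟨(0, 0), 0⟩⟩
      haveI : Countable J := @instCountableSigma _ _ _ this_p
      obtain ⟨φ, hφ⟩ := exists_surjective_nat J
      choose E i' q' hE using fun x : J => Pretriangulated.distinguished_cocone_triangle₂ x.2
      refine ⟨fun k => E (φ k), fun K h1 h2 => ?_⟩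
      haveI := h1
      haveI := h2
      obtain ⟨M, K', i, q, δ, hT, g1, g2⟩ := BoundedDev.exists_step K a (a + (n + 1 : ℕ)) (by omega)
      obtain ⟨l, ⟨j'⟩⟩ := hf K' g1 (by rwa [show a + 1 + (n : ℤ) = a + (n + 1 : ℕ) by omega])
      obtain ⟨m, ⟨j⟩⟩ := he M
      let jS : BoundedDev.S a M ≅ BoundedDev.S a (e m) := (shiftFunctor T (-a)).mapIso (s.mapIso j)
      let x : J := ⟨(m, l), jS.inv ≫ δ ≫ j'.hom⟦(1 : ℤ)⟧'⟩
      obtain ⟨k, hk⟩ := hφ x
      refine ⟨k, ?_⟩
      show Nonempty (K ≅ E (φ k))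
      rw [hk]
      obtain ⟨b, hb₁, hb₂⟩ := Pretriangulated.complete_distinguished_triangle_morphism₂ _ _ hT (hE x) j'.hom jS.hom
        (by show δ ≫ j'.hom⟦(1 : ℤ)⟧' = jS.hom ≫ (jS.inv ≫ δ ≫ j'.hom⟦(1 : ℤ)⟧'); exact (jS.hom_inv_id_assoc _).symm)
      let ψ : Pretriangulated.Triangle.mk i q δ ⟶ Pretriangulated.Triangle.mk (i' x) (q' x) x.2 :=
        { hom₁ := j'.hom, hom₂ := b, hom₃ := jS.hom, comm₁ := hb₁, comm₂ := hb₂, comm₃ := by show δ ≫ j'.hom⟦(1 : ℤ)⟧' = jS.hom ≫ (jS.inv ≫ δ ≫ j'.hom⟦(1 : ℤ)⟧'); exact (jS.hom_inv_id_assoc _).symm }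
      have hb : IsIso ψ.hom₂ := Pretriangulated.isIso₂_of_isIso₁₃ ψ hT (hE x)
        (inferInstanceAs (IsIso j'.hom)) (inferInstanceAs (IsIso jS.hom))
      exact ⟨@asIso _ _ _ _ b hb⟩
  choose f hf using fun p : ℕ × ℤ => hn p.1 p.2
  obtain ⟨φ, hφ⟩ := exists_surjective_nat ((ℕ × ℤ) × ℕ)
  refine ⟨fun k => f (φ k).1 (φ k).2, fun K => ?_⟩
  obtain ⟨a, n, g1, g2⟩ := BoundedDev.exists_interval K
  obtain ⟨m, hm⟩ := hf (n, a) K g1 g2
  obtain ⟨k, hk⟩ := hφ ((n, a), m)
  refine ⟨k, ?_⟩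
  show Nonempty (K ≅ f (φ k).1 (φ k).2)
  rw [hk]
  exact hm

end Groth.Agent.S6713
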