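import Groth.Statements.S6718
import Groth.Agent.H9Misc.SerreRep

set_option autoImplicit false
universe w v u
open CategoryTheory
open DEquiv
open Groth.Agent.H9Misc.SerreRep

namespace Groth.Agent.S6718

open CategoryTheory.Limits CategoryTheory.Pretriangulated in
/-- Let k be a field and T a k-linear (pre)triangulated category with dim_k Hom(X, Y) < ∞ for all X, Y.
The following are equivalent: (1) there are a k-linear equivalence S : T ⥤ T and k-linear
isomorphisms c_{X,Y} : Hom(X, Y) ≅ Hom(Y, S X)^∨ natural in X and in Y; (2) for every object X the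
functor Y ↦ Hom(X, Y)^∨ is representable and the functor Y ↦ Hom(Y, X)^∨ is corepresentable, by
k-linear isomorphisms natural in Y. (Here V^∨ is the k-linear dual.) -/
theorem result
    {k : Type w} [Field k]
    {T : Type u} [Category.{v} T] [Preadditive T] [Linear k T] [HasZeroObject T] [HasShift T ℤ]
    [∀ n : ℤ, (shiftFunctor T n).Additive] [∀ n : ℤ, (shiftFunctor T n).Linear k] [Pretriangulated T]
    [∀ X Y : T, Module.Finite k (X ⟶ Y)] :
    (∃ (S : T ≌ T) (_ : S.functor.Additive) (_ : S.functor.Linear k)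
        (c : ∀ X Y : T, (X ⟶ Y) ≃ₗ[k] Module.Dual k (Y ⟶ S.functor.obj X)),
        (∀ (X Y Y' : T) (f : X ⟶ Y) (g : Y ⟶ Y'),
          c X Y' (f ≫ g) = (c X Y f) ∘ₗ Linear.leftComp k (S.functor.obj X) g) ∧
        (∀ (X' X Y : T) (a : X' ⟶ X) (f : X ⟶ Y),
          c X' Y (a ≫ f) = (c X Y f) ∘ₗ Linear.rightComp k Y (S.functor.map a))) ↔
    ((∀ X : T, ∃ (SX : T) (e : ∀ Y : T, (Y ⟶ SX) ≃ₗ[k] Module.Dual k (X ⟶ Y)),
        ∀ (Y Y' : T) (g : Y' ⟶ Y) (f : Y ⟶ SX),
          e Y' (g ≫ f) = (e Y f) ∘ₗ Linear.rightComp k X g) ∧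
      (∀ X : T, ∃ (RX : T) (e : ∀ Y : T, (RX ⟶ Y) ≃ₗ[k] Module.Dual k (Y ⟶ X)),
        ∀ (Y Y' : T) (g : Y ⟶ Y') (f : RX ⟶ Y),
          e Y' (f ≫ g) = (e Y f) ∘ₗ Linear.leftComp k X g)) := by
  constructor
  · rintro ⟨S, _, _, c, hc₁, hc₂⟩
    refine ⟨fun X => ⟨S.functor.obj X, fun Y => LinearEquiv.ofBijective _ (bijective_flip _ (c X Y).bijective),
      fun Y Y' g f => ?_⟩, fun X => ?_⟩
    · refine LinearMap.ext fun h => ?_
      show c X Y' h (g ≫ f) = c X Y (h ≫ g) f
      rw [hc₁]; rfl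
    · let u : S.functor.obj (S.inverse.obj X) ≅ X := S.counitIso.app X
      refine ⟨S.inverse.obj X, fun Y => (c _ Y).trans (Linear.homCongr k (Iso.refl Y) u.symm).dualMap,
        fun Y Y' g f => ?_⟩
      refine LinearMap.ext fun h => ?_
      show c (S.inverse.obj X) Y' (f ≫ g) _ = c (S.inverse.obj X) Y f _
      rw [hc₁]
      simp [Linear.homCongr_apply, Linear.leftComp_apply]
  · rintro ⟨hS, hR⟩
    choose SX e he using hS
    have hrep : ∀ X, IsRep (e X (SX X) (𝟙 _)) := fun X => exists_isRep (e X) (he X)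
    let t : ∀ X : T, (X ⟶ SX X) →ₗ[k] k := fun X => e X (SX X) (𝟙 _)
    choose Sm hSm using fun (X X' : T) (a : X ⟶ X') =>
      (hrep X').exists_hom ((t X) ∘ₗ Linear.leftComp k (SX X) a)
    replace hSm : ∀ (X X' : T) (a : X ⟶ X') (x : X' ⟶ SX X), t X' (x ≫ Sm X X' a) = t X (a ≫ x) := hSm
    let F : T ⥤ T :=
      { obj := SX
        map := fun a => Sm _ _ a
        map_id := fun X => (hrep X).ext fun x => by
          refine (hSm _ _ _ _).trans ?_
          rw [Category.id_comp, Category.comp_id]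
        map_comp := fun {X X' X''} a b => (hrep X'').ext fun x => by
          refine (hSm _ _ _ _).trans ?_
          rw [Category.assoc, ← Category.assoc x]
          exact ((hSm X' X'' b _).trans ((congrArg _ (Category.assoc b x (Sm X X' a)).symm).trans (hSm X X' a _))).symm }
    have hadd : F.Additive := ⟨fun {X X'} {a b} => (hrep X').ext fun x => by
      show t X' (x ≫ Sm X X' (a + b)) = t X' (x ≫ (Sm X X' a + Sm X X' b))
      rw [hSm, Preadditive.comp_add, map_add, hSm, hSm, Preadditive.add_comp, map_add]⟩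
    have hlin : F.Linear k := ⟨fun {X X'} a r => (hrep X').ext fun x => by
      show t X' (x ≫ Sm X X' (r • a)) = t X' (x ≫ (r • Sm X X' a))
      rw [hSm, Linear.smul_comp, map_smul, Linear.comp_smul, map_smul, hSm]⟩
    have hbij : ∀ X X' : T, Function.Bijective (F.map : (X ⟶ X') → _) := by
      intro X X'
      have h2 : Function.Bijective ((pairing (t X) X').flip) := bijective_flip _ (hrep X X')
      have h3 := hrep X' (SX X)
      refine ⟨fun a b h => h2.1 (LinearMap.ext fun x => ?_), fun m => ?_⟩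
      · show t X (a ≫ x) = t X (b ≫ x)
        rw [← hSm X X' a x, ← hSm X X' b x]
        exact congrArg (fun m => t X' (x ≫ m)) h
      · obtain ⟨a, ha⟩ := h2.2 (pairing (t X') (SX X) m)
        exact ⟨a, h3.1 (LinearMap.ext fun x => (hSm X X' a x).trans (LinearMap.congr_fun ha x))⟩
    haveI : F.Faithful := ⟨fun h => (hbij _ _).1 h⟩
    haveI : F.Full := ⟨fun m => (hbij _ _).2 m⟩
    haveI : F.EssSurj := ⟨fun X => by
      obtain ⟨RX, eR, heR⟩ := hR X
      let r : (RX ⟶ X) →ₗ[k] k := (LinearMap.flip (eR X).toLinearMap) (𝟙 X)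
      have hr : IsRep r := by
        intro Y
        have : pairing r Y = (eR Y).toLinearMap.flip := by
          refine LinearMap.ext fun f => LinearMap.ext fun h => ?_
          show eR X (h ≫ f) (𝟙 X) = eR Y h f
          rw [heR]; simp
        rw [this]; exact bijective_flip _ (eR Y).bijective
      obtain ⟨ε, -⟩ := (hrep RX).exists_iso hr
      exact ⟨RX, ⟨ε⟩⟩⟩
    haveI : F.IsEquivalence := {}
    refine ⟨F.asEquivalence, hadd, hlin, fun X Y => LinearEquiv.ofBijective _ (bijective_flip _ (hrep X Y)),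
      fun X Y Y' f g => LinearMap.ext fun ψ => ?_, fun X' X Y a f => LinearMap.ext fun ψ => ?_⟩
    · show t X ((f ≫ g) ≫ ψ) = t X (f ≫ (g ≫ ψ))
      rw [Category.assoc]
    · show t X' ((a ≫ f) ≫ ψ) = t X (f ≫ (ψ ≫ Sm X' X a))
      exact (congrArg (t X') (Category.assoc a f ψ)).trans
        ((hSm X' X a _).symm.trans (congrArg (t X) (Category.assoc f ψ (Sm X' X a))))

end Groth.Agent.S6718
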