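import Groth.Statements.S6719
import Groth.Agent.H9Misc.SkyPush
import Groth.Agent.H9Misc.SkyHom

set_option autoImplicit false
universe u
open CategoryTheory AlgebraicGeometry
attribute [local instance] HasDerivedCategory.standard
open DEquiv

namespace Groth.Agent.S6719

/-- Let X be a Noetherian scheme, x ∈ X a closed point and O_x the skyscraper sheaf at x with value κ(x)
(the direct image of the structure sheaf of Spec κ(x)). Let K be a bounded object of D(O_X) with
coherent cohomology sheaves and b ∈ ℤ. Then H^i(K)_x = 0 for all i > b if and only if Hom(K,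
O_x⟦-i⟧) = 0 for all i > b. -/
theorem result
    (X : Scheme.{u}) [IsNoetherian X] (x : X) (hx : IsClosed ({x} : Set X))
    (K : DCoh.D X) (hK : DCoh.IsCohD K) (a c : ℤ) [DerivedCategory.IsGE K a]
    [DerivedCategory.IsLE K c] (b : ℤ) :
    (∀ i : ℤ, b < i → x ∉ CohB1.support (DCoh.HD K i)) ↔
      ∀ i : ℤ, b < i → ∀ φ : K ⟶ (shiftFunctor (DCoh.D X) (-i)).obj (DCoh.inD X ((Coh.push (X.fromSpecResidueField x)).obj (Coh.structureModule _))),
        φ = 0 := by
  obtain ⟨e⟩ := H9Misc.SkyPush.nonempty_push_iso x hx
  exact H9Misc.SkyHom.forall_sky_iff x K hK c b e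

end Groth.Agent.S6719
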