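import Groth.Statements.S6722
import Groth.Agent.FunMorK.SerreSupp

set_option autoImplicit false
set_option backward.isDefEq.respectTransparency false
set_option backward.isDefEq.respectTransparency.types false
universe u
open CategoryTheory AlgebraicGeometry
open FunMor

namespace Groth.Agent.S6722

open CategoryTheory.Limits in
/-- Let X be a quasi-compact and quasi-separated scheme and F a finitely presented (quasi-coherent)
O_X-module. Then every quasi-coherent O_X-module E with Supp(E) ⊆ Supp(F) lies in the smallest Serre
subcategory of QCoh(O_X) containing F which is closed under extensions and arbitrary direct sums.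
Stated as: E has every property P of O_X-modules such that P holds for F, P is a Serre class on
quasi-coherent modules (in a short exact sequence of quasi-coherent modules the middle term has P
iff the outer terms do), and P is closed under direct sums of quasi-coherent modules. (The reverse
inclusion, that such modules form a class of this kind, is not restated.) -/
theorem result
    (X : Scheme.{u}) [CompactSpace X] [QuasiSeparatedSpace X]
    (F : X.Modules) (hFq : Coh.IsQCoh F) (hF : CohB1.IsFP F)
    (P : ObjectProperty X.Modules) (hPF : P F)
    (hSerre : ∀ S : ShortComplex X.Modules, S.ShortExact → Coh.IsQCoh S.X₁ → Coh.IsQCoh S.X₂ →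
      Coh.IsQCoh S.X₃ → (P S.X₂ ↔ P S.X₁ ∧ P S.X₃))
    (hsum : ∀ (ι : Type u) (M : ι → X.Modules), (∀ i, Coh.IsQCoh (M i)) → (∀ i, P (M i)) →
      P (∐ M))
    (E : X.Modules) (hE : Coh.IsQCoh E) (hsupp : CohB1.support E ⊆ CohB1.support F) :
    P E := by
  exact FunMorK.SerreSupp.mem hSerre hsum hFq hF hPF hE hsupp

end Groth.Agent.S6722
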