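import Groth.Statements.S6729
import Groth.Agent.H9Misc.BoxSurj
import Groth.Agent.H9Misc.CoverRes
import Groth.Agent.QCoh.Support
import Groth.Agent.KFlatLib.Scheme.CohD
import Groth.Agent.Synt29.PnEuler
import Groth.Agent.H28.PushLocFree

set_option autoImplicit false
universe u
open CategoryTheory AlgebraicGeometry
open DEquiv

namespace Groth.Agent.S6729

open CategoryTheory.Limits in
/-- Let R be a Noetherian ring and X a separated scheme of finite type over R which has the resolution
property. Let O_Δ = Δ_* O_X on X ×_R X, where Δ is the diagonal. Then there is a resolution ⋯ ⟶ E_1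
⊠ G_1 ⟶ E_0 ⊠ G_0 ⟶ O_Δ ⟶ 0 with every E_i and G_i a finite locally free O_X-module: an ℕ-indexed
chain complex with a quasi-isomorphism to O_Δ in degree 0, each of whose terms is isomorphic to
pr_1^* E_i ⊗ pr_2^* G_i. -/
theorem result
    (R : Type u) [CommRing R] [IsNoetherianRing R] (X : Scheme.{u}) [X.Over (Spec (.of R))]
    [IsSeparated (X ↘ Spec (.of R))] [LocallyOfFiniteType (X ↘ Spec (.of R))] [CompactSpace X]
    (hX : PerfAux.HasResolutionProperty X) :
    ∃ (C : ChainComplex (pullback (X ↘ Spec (.of R)) (X ↘ Spec (.of R))).Modules ℕ)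
      (π : C ⟶ (ChainComplex.single₀ _).obj
        ((Coh.push (pullback.diagonal (X ↘ Spec (.of R)))).obj (Coh.structureModule X))),
      QuasiIso π ∧ ∀ n : ℕ, ∃ (E G : X.Modules), FlatMod.IsFinLocFree E ∧ FlatMod.IsFinLocFree G ∧
        Nonempty (C.X n ≅ CohB1.tensorMod
          ((Scheme.Modules.pullback (pullback.fst (X ↘ Spec (.of R)) (X ↘ Spec (.of R)))).obj E)
          ((Scheme.Modules.pullback (pullback.snd (X ↘ Spec (.of R)) (X ↘ Spec (.of R)))).obj G)) := by
  let s := X ↘ Spec (.of R)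
  haveI : IsLocallyNoetherian (Spec (.of R)) := inferInstance
  haveI : IsLocallyNoetherian (pullback s s) :=
    LocallyOfFiniteType.isLocallyNoetherian (pullback.fst s s ≫ s)
  haveI : IsLocallyNoetherian X := LocallyOfFiniteType.isLocallyNoetherian s
  haveI : QuasiCompact s := quasiCompact_of_compactSpace s
  haveI : CompactSpace (pullback s s : Scheme.{u}) := by
    haveI : QuasiCompact (pullback.fst s s ≫ s) := inferInstance
    exact QuasiCompact.compactSpace_of_compactSpace (pullback.fst s s ≫ s)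
  haveI : QuasiSeparatedSpace X := IsLocallyNoetherian.quasiSeparatedSpace
  let P : (pullback s s).Modules → Prop := fun M => ∃ (E G : X.Modules), FlatMod.IsFinLocFree E ∧ FlatMod.IsFinLocFree G ∧
      Nonempty (M ≅ CohB1.tensorMod ((Scheme.Modules.pullback (pullback.fst s s)).obj E)
        ((Scheme.Modules.pullback (pullback.snd s s)).obj G))
  have hM : Coh.IsCoh ((Coh.push (pullback.diagonal s)).obj (Coh.structureModule X)) :=
    QCoh.isCoh_pushforward_finite (pullback.diagonal s) QCoh.isCoh_structureModule'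
  obtain ⟨C, π, hπ, hC⟩ := H9Misc.CoverRes.exists_res (P := P) (Q := fun M => Coh.IsCoh M)
    (fun e ⟨E, G, hE, hG, ⟨e'⟩⟩ => ⟨E, G, hE, hG, ⟨e.symm ≪≫ e'⟩⟩)
    (fun e h => KFlatLib.isCoh_of_iso e h) (fun f hA hB => QCoh.isCoh_kernel hA hB f)
    (fun A hA => by
      obtain ⟨E, G, hE, hG, p, hp⟩ := H9Misc.BoxSurj.exists_box_surj s s hX hX A hA.1 hA.2
      exact ⟨_, p, ⟨E, G, hE, hG, ⟨Iso.refl _⟩⟩, H28.PushLocFree.isCoh_of_isFinLocFree
        (Synt29.PnEuler.isFinLocFree_tensorMod (KFlatLib.isFinLocFree_pullback _ hE) (KFlatLib.isFinLocFree_pullback _ hG)), hp⟩)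
    _ hM
  exact ⟨C, π, hπ, hC⟩

end Groth.Agent.S6729
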