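import Groth.Statements.S6734
import Groth.Agent.S6729
import Groth.Agent.S1109
import Groth.Agent.H9Misc.EnvTerms
import Groth.Agent.KZ.RegPerf
import Groth.Agent.KFlatLib.Scheme.DQCohCompact
import Groth.Agent.KFlatLib.Scheme.QCohDerived
import Groth.Agent.GrpSchLib.SmoothRegular
import Groth.Agent.H28.PushLocFree
import Groth.Agent.Synt29.PnEuler
import Groth.Agent.KExact.AmpleFamily

set_option autoImplicit false
universe u
open CategoryTheory AlgebraicGeometry
attribute [local instance] HasDerivedCategory.standard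
open DEquiv

namespace Groth.Agent.S6734

open CategoryTheory.Limits in
/-- Let X be a quasi-compact separated smooth scheme over a field k. Then one can find a pair E, G of
finite locally free O_X-modules for which O_Δ = Δ_* O_X belongs to ⟨E ⊠ G⟩, the smallest
triangulated subcategory of D(O_{X ×_k X}) containing pr_1^* E ⊗ pr_2^* G and closed under direct
summands (Mathlib's triangulated envelope). -/
theorem result
    (k : Type u) [Field k] (X : Scheme.{u}) [X.Over (Spec (.of k))] [CompactSpace X] [IsSeparated (X ↘ Spec (.of k))] [Smooth (X ↘ Spec (.of k))] :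
    ∃ (E G : X.Modules), FlatMod.IsFinLocFree E ∧ FlatMod.IsFinLocFree G ∧
      ObjectProperty.triangEnvelope
        (ObjectProperty.ofObj (fun _ : PUnit.{u + 1} => DCoh.inD (pullback (X ↘ Spec (.of k)) (X ↘ Spec (.of k))) (CohB1.tensorMod ((Scheme.Modules.pullback (pullback.fst (X ↘ Spec (.of k)) (X ↘ Spec (.of k)))).obj E)
            ((Scheme.Modules.pullback (pullback.snd (X ↘ Spec (.of k)) (X ↘ Spec (.of k)))).obj G))))
        (DCoh.inD (pullback (X ↘ Spec (.of k)) (X ↘ Spec (.of k))) ((Coh.push (pullback.diagonal (X ↘ Spec (.of k)))).obj (Coh.structureModule X))) := by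
  classical
  let s := X ↘ Spec (.of k)
  let Z : Scheme.{u} := pullback s s
  haveI : IsLocallyNoetherian (Spec (.of k)) := inferInstance
  haveI : IsLocallyNoetherian X := LocallyOfFiniteType.isLocallyNoetherian s
  haveI : QuasiCompact s := quasiCompact_of_compactSpace s
  haveI : IsLocallyNoetherian Z := LocallyOfFiniteType.isLocallyNoetherian (pullback.fst s s ≫ s)
  haveI : CompactSpace Z := QuasiCompact.compactSpace_of_compactSpace (pullback.fst s s ≫ s)
  haveI : QuasiSeparatedSpace Z := IsLocallyNoetherian.quasiSeparatedSpace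
  have hdiag : IsAffineHom (pullback.diagonal s) := inferInstance
  have hres : PerfAux.HasResolutionProperty X :=
    S1109.result X (GrpSchLib.isRegularLocalRing_stalk_of_smooth s)
      fun U V hU hV => isAffineHom_diagonal_iff.1 hdiag ⊤ (isAffineOpen_top _) U (by simp) V (by simp) hU hV
  have hM : Coh.IsCoh ((Coh.push (pullback.diagonal s)).obj (Coh.structureModule X)) :=
    QCoh.isCoh_pushforward_finite (pullback.diagonal s) QCoh.isCoh_structureModule'
  obtain ⟨C, π, hπ, hC⟩ := S6729.result k X hres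
  choose E G hE hG eC using hC
  let e := ComplexShape.embeddingDownNat
  let F : CochainComplex Z.Modules ℤ := C.extend e
  let π' : F ⟶ (HomologicalComplex.single Z.Modules (ComplexShape.up ℤ) 0).obj
      ((Coh.push (pullback.diagonal s)).obj (Coh.structureModule X)) :=
    HomologicalComplex.extendMap π e ≫ (HomologicalComplex.extendSingleIso _ _ _ _ (by simp [e])).hom
  haveI := hπ
  haveI : QuasiIso π' := by dsimp [π']; infer_instance
  let MΔ := DCoh.inD Z ((Coh.push (pullback.diagonal s)).obj (Coh.structureModule X))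
  let iΔ : DerivedCategory.Q.obj F ≅ MΔ := asIso (DerivedCategory.Q.map π') ≪≫
    ((DerivedCategory.singleFunctorIsoCompQ Z.Modules 0).app _).symm
  have hperf : DCoh.IsPerfect MΔ :=
    KZ.isPerfect_of_isCoh (GrpSchLib.isRegularLocalRing_stalk_of_smooth (pullback.fst s s ≫ s)) _ hM
  obtain ⟨b, hb⟩ := KFlatLib.DQCompact.exists_bound ((KFlatLib.isPerfect_iff _).1 hperf)
  let m : ℤ := min b (-1) + 1
  have hFX : ∀ i : ℤ, Coh.IsQCoh (F.X i) := fun i => by
    by_cases h : i ≤ 0
    · obtain ⟨n, rfl⟩ := Int.exists_eq_neg_ofNat h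
      exact KFlatLib.isQCoh_of_iso ((C.extendXIso e (i := n) (by simp [e])) ≪≫ (eC n).some).symm
        (H28.PushLocFree.isCoh_of_isFinLocFree (Synt29.PnEuler.isFinLocFree_tensorMod
          (KFlatLib.isFinLocFree_pullback _ (hE n)) (KFlatLib.isFinLocFree_pullback _ (hG n)))).1
    · exact QCoh.isQCoh_of_isZero (CochainComplex.isZero_of_isStrictlyLE F 0 i (by omega))
  obtain ⟨r⟩ := H9Misc.EnvTerms.nonempty_retract_sigmaGE F m fun φ => by
    haveI := KFlatLib.isStrictlyLE_sigmaSES_X₃ F m
    have hq : DCoh.IsQCohD (DerivedCategory.Q.obj (KFlatLib.sigmaSES F m).X₃) :=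
      (KFlatLib.isQCohD_Q_iff _).2 (KFlatLib.isQCoh_homology_of_terms _ fun i => by
        by_cases h : i < m
        · exact KFlatLib.isQCoh_of_iso (KFlatLib.nonempty_sigmaSES_X₃_iso F m i h).some (hFX i)
        · exact QCoh.isQCoh_of_isZero (CochainComplex.isZero_of_isStrictlyLE _ (m - 1) i (by omega)))
    have hle : (DerivedCategory.Q.obj (KFlatLib.sigmaSES F m).X₃).IsLE b := by
      haveI : CochainComplex.IsLE (KFlatLib.sigmaSES F m).X₃ (m - 1) := inferInstance
      haveI : (DerivedCategory.Q.obj (KFlatLib.sigmaSES F m).X₃).IsLE (m - 1) := inferInstance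
      exact DerivedCategory.TStructure.t.isLE_of_le _ (m - 1) b (by omega)
    exact (cancel_epi iΔ.inv).1 ((hb _ hq hle _).trans comp_zero.symm)
  let N : ℕ := (-m).toNat
  let E' : X.Modules := ⨁ fun j : Fin (N + 1) => E j.1
  let G' : X.Modules := ⨁ fun j : Fin (N + 1) => G j.1
  refine ⟨E', G', KExact.AmpleFamily.isFinLocFree_biproduct _ fun j => hE _,
    KExact.AmpleFamily.isFinLocFree_biproduct _ fun j => hG _, ?_⟩
  let P := CohB1.tensorMod ((Scheme.Modules.pullback (pullback.fst s s)).obj E')
    ((Scheme.Modules.pullback (pullback.snd s s)).obj G')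
  let S := ObjectProperty.triangEnvelope (ObjectProperty.ofObj (fun _ : PUnit.{u + 1} => DCoh.inD Z P))
  haveI : S.IsTriangulated := inferInstance
  haveI : S.IsClosedUnderIsomorphisms := inferInstance
  have hP : S (DCoh.inD Z P) := ObjectProperty.le_triangEnvelope _ _ ⟨PUnit.unit⟩
  let B := DCoh.tensorBi (X := Z)
  let p₁ := Scheme.Modules.pullback (pullback.fst s s)
  let p₂ := Scheme.Modules.pullback (pullback.snd s s)
  have hj : ∀ j : Fin (N + 1), Retract ((B.obj (p₁.obj (E j.1))).obj (p₂.obj (G j.1))) P := fun j =>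
    let rE : Retract (E j.1) E' := ⟨biproduct.ι (fun j : Fin (N + 1) => E j.1) j, biproduct.π _ j, biproduct.ι_π_self _ j⟩
    let rG : Retract (G j.1) G' := ⟨biproduct.ι (fun j : Fin (N + 1) => G j.1) j, biproduct.π _ j, biproduct.ι_π_self _ j⟩
    (((rE.map p₁).map B).map ((evaluation _ _).obj (p₂.obj (G j.1)))).trans ((rG.map p₂).map (B.obj _))
  have hS : S (DerivedCategory.Q.obj (F.stupidTrunc (ComplexShape.embeddingUpIntGE m))) := by
    have hz : ∀ i, (i < m ∨ 1 ≤ i) → IsZero ((F.stupidTrunc (ComplexShape.embeddingUpIntGE m)).X i) := fun i hi => by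
      by_cases h : i < m
      · exact KFlatLib.isZero_stupidTrunc_of_lt F m i h
      · haveI := KFlatLib.isIso_sigmaGEι_f F m i (by omega)
        exact (CochainComplex.isZero_of_isStrictlyLE F 0 i (by omega)).of_iso (asIso ((KFlatLib.sigmaGEι F m).f i))
    refine H9Misc.EnvTerms.mem_of_terms S (N + 1) m _ (fun i hi => hz i (by omega)) fun i => ?_
    by_cases h : i < m ∨ 1 ≤ i
    · exact S.prop_of_isZero ((DerivedCategory.singleFunctor Z.Modules 0).map_isZero (hz i h))
    · obtain ⟨n, rfl⟩ := Int.exists_eq_neg_ofNat (show i ≤ 0 by omega)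
      haveI := KFlatLib.isIso_sigmaGEι_f F m (-(n : ℤ)) (by omega)
      refine S.prop_of_iso ((DerivedCategory.singleFunctor Z.Modules 0).mapIso
        (asIso ((KFlatLib.sigmaGEι F m).f (-(n : ℤ))) ≪≫ C.extendXIso e (i := n) (by simp [e]) ≪≫ (eC n).some).symm) ?_
      exact S.prop_of_retract ((hj ⟨n, by omega⟩).map (DerivedCategory.singleFunctor Z.Modules 0)) hP
  exact S.prop_of_iso iΔ (S.prop_of_retract r hS)

end Groth.Agent.S6734
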