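import Groth.Statements.S6730
import Groth.Agent.QCohAb.CohExt

set_option autoImplicit false
universe u
open CategoryTheory CategoryTheory.Limits AlgebraicGeometry
open FunMor

namespace Groth.Agent.S6730

/-- Let X and Y be Noetherian schemes and F : Coh(O_X) ⥤ Coh(O_Y) a functor. Then F extends to a functor
F' : QCoh(O_X) ⥤ QCoh(O_Y) which commutes with filtered colimits, uniquely up to isomorphism;
moreover for any such extension F': if F is additive, F' commutes with arbitrary direct sums, and if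
F is left exact (resp. right exact), so is F'. -/
theorem result
    (X Y : Scheme.{u}) [IsNoetherian X] [IsNoetherian Y]
    (F : ObjectProperty.FullSubcategory (fun M : X.Modules => Coh.IsCoh M) ⥤ ObjectProperty.FullSubcategory (fun M : Y.Modules => Coh.IsCoh M)) :
    (∃ F' : QCohCat.QCoh X ⥤ QCohCat.QCoh Y, PreservesFilteredColimitsOfSize.{u, u} F' ∧
      Nonempty ((ObjectProperty.ιOfLE (P := (fun M : X.Modules => Coh.IsCoh M)) (P' := QCohCat.isQCoh X) (fun _ h => h.1)) ⋙ F' ≅ F ⋙ (ObjectProperty.ιOfLE (P := (fun M : Y.Modules => Coh.IsCoh M)) (P' := QCohCat.isQCoh Y) (fun _ h => h.1)))) ∧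
    (∀ F₁ F₂ : QCohCat.QCoh X ⥤ QCohCat.QCoh Y, PreservesFilteredColimitsOfSize.{u, u} F₁ →
      PreservesFilteredColimitsOfSize.{u, u} F₂ →
      Nonempty ((ObjectProperty.ιOfLE (P := (fun M : X.Modules => Coh.IsCoh M)) (P' := QCohCat.isQCoh X) (fun _ h => h.1)) ⋙ F₁ ≅ F ⋙ (ObjectProperty.ιOfLE (P := (fun M : Y.Modules => Coh.IsCoh M)) (P' := QCohCat.isQCoh Y) (fun _ h => h.1))) →
      Nonempty ((ObjectProperty.ιOfLE (P := (fun M : X.Modules => Coh.IsCoh M)) (P' := QCohCat.isQCoh X) (fun _ h => h.1)) ⋙ F₂ ≅ F ⋙ (ObjectProperty.ιOfLE (P := (fun M : Y.Modules => Coh.IsCoh M)) (P' := QCohCat.isQCoh Y) (fun _ h => h.1))) → Nonempty (F₁ ≅ F₂)) ∧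
    ∀ F' : QCohCat.QCoh X ⥤ QCohCat.QCoh Y, PreservesFilteredColimitsOfSize.{u, u} F' →
      Nonempty ((ObjectProperty.ιOfLE (P := (fun M : X.Modules => Coh.IsCoh M)) (P' := QCohCat.isQCoh X) (fun _ h => h.1)) ⋙ F' ≅ F ⋙ (ObjectProperty.ιOfLE (P := (fun M : Y.Modules => Coh.IsCoh M)) (P' := QCohCat.isQCoh Y) (fun _ h => h.1))) →
      (F.Additive → ∀ J : Type u, PreservesColimitsOfShape (Discrete J) F') ∧
      (PreservesFiniteLimits F → PreservesFiniteLimits F') ∧
      (PreservesFiniteColimits F → PreservesFiniteColimits F') := by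
  haveI := fun (J : Type u) [SmallCategory J] [IsFiltered J] =>
    (inferInstance : HasExactColimitsOfShape J (QCohCat.QCoh X))
  haveI : HasFiniteBiproducts (QCohCat.QCoh Y) := HasFiniteBiproducts.of_hasFiniteProducts
  refine ⟨IndExt.exists_extension (QCohAb.cohι X) (F ⋙ QCohAb.cohι Y), ?_, ?_⟩
  · intro F₁ F₂ _ _ ⟨e₁⟩ ⟨e₂⟩
    exact IndExt.extension_unique (QCohAb.cohι X) F₁ F₂ (e₁ ≪≫ e₂.symm)
  · intro F' _ ⟨e⟩
    refine ⟨fun hF J => ?_, fun hF => ?_, fun hF => ?_⟩
    · haveI : (F ⋙ QCohAb.cohι Y).Additive := inferInstance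
      haveI : (QCohAb.cohι X ⋙ F').Additive := Functor.additive_of_iso e.symm
      haveI := IndExt.additive_of_restriction (QCohAb.cohι X) F'
      exact IndExt.preservesCoproducts_of_finite_of_filtered F' J
    · haveI : PreservesFiniteLimits (F ⋙ QCohAb.cohι Y) := inferInstance
      haveI : PreservesFiniteLimits (QCohAb.cohι X ⋙ F') := preservesFiniteLimits_of_natIso e.symm
      exact (IndExt.leftExact_of_compact (QCohAb.cohι X)
        (fun J _ _ => inferInstance) (fun J _ _ => inferInstance) F').2.1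
    · haveI : PreservesFiniteColimits (F ⋙ QCohAb.cohι Y) := inferInstance
      haveI : PreservesFiniteColimits (QCohAb.cohι X ⋙ F') :=
        ⟨fun J _ _ => preservesColimitsOfShape_of_natIso e.symm⟩
      exact (IndExt.rightExact_of_compact (QCohAb.cohι X) F').2.1

end Groth.Agent.S6730
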