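import Groth.Statements.S6732
import Groth.Agent.H9Misc.SerreExact

set_option autoImplicit false
universe w v u
open CategoryTheory
open DEquiv

namespace Groth.Agent.S6732

open CategoryTheory.Limits CategoryTheory.Pretriangulated in
/-- Let k be a field and T a k-linear triangulated category with dim_k Hom(X, Y) < ∞ for all X, Y, and
let (S, c) be a Serre functor: a k-linear equivalence T ⥤ T with k-linear isomorphisms c_{X,Y} :
Hom(X, Y) ≅ Hom(Y, S X)^∨ natural in X and Y. Then S is an exact functor of triangulated categories: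
there is an isomorphism of functors S ∘ ⟦1⟧ ≅ ⟦1⟧ ∘ S such that for every distinguished triangle (A,
B, C, f, g, h) the triangle (S A, S B, S C, S f, S g, S h followed by that isomorphism at A) is
distinguished. -/
theorem result
    {k : Type w} [Field k]
    {T : Type u} [Category.{v} T] [Preadditive T] [Linear k T] [HasZeroObject T] [HasShift T ℤ]
    [∀ n : ℤ, (shiftFunctor T n).Additive] [∀ n : ℤ, (shiftFunctor T n).Linear k] [Pretriangulated T]
    [IsTriangulated T] [∀ X Y : T, Module.Finite k (X ⟶ Y)]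
    (S : T ≌ T) [S.functor.Additive] [S.functor.Linear k]
    (c : ∀ X Y : T, (X ⟶ Y) ≃ₗ[k] Module.Dual k (Y ⟶ S.functor.obj X))
    (hc₁ : ∀ (X Y Y' : T) (f : X ⟶ Y) (g : Y ⟶ Y'),
      c X Y' (f ≫ g) = (c X Y f) ∘ₗ Linear.leftComp k (S.functor.obj X) g)
    (hc₂ : ∀ (X' X Y : T) (a : X' ⟶ X) (f : X ⟶ Y),
      c X' Y (a ≫ f) = (c X Y f) ∘ₗ Linear.rightComp k Y (S.functor.map a)) :
    ∃ e : shiftFunctor T (1 : ℤ) ⋙ S.functor ≅ S.functor ⋙ shiftFunctor T (1 : ℤ),
      ∀ T' ∈ distTriang T,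
        Triangle.mk (S.functor.map T'.mor₁) (S.functor.map T'.mor₂)
          (S.functor.map T'.mor₃ ≫ e.hom.app T'.obj₁) ∈ distTriang T := by
  exact ⟨Groth.Agent.H9Misc.SerreExact.eIso S c hc₁ hc₂, fun T' hT =>
    Groth.Agent.H9Misc.SerreExact.distinguished S c hc₁ hc₂ T' hT⟩

end Groth.Agent.S6732
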