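import Groth.Statements.S6733
import Groth.Agent.H9Misc.FibreAtPoint
import Groth.Agent.H9Misc.RGammaHom
import Groth.Agent.H9Misc.SkyDual
import Groth.Agent.KFlatLib.Scheme.DualPerfect
import Groth.Agent.KFlatLib.Scheme.TensorAssoc
import Groth.Agent.KFlatLib.Scheme.RHomExists
import Groth.Agent.KExact.External
import Groth.Agent.KZ.RegPerf
import Groth.Agent.QCoh.Support
import Groth.Agent.QCoh.DevissageP
import Groth.Agent.H9Misc.CorrAdjoint
-- import your own Groth.Agent.* helpers here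

set_option autoImplicit false
universe u
open CategoryTheory AlgebraicGeometry
attribute [local instance] HasDerivedCategory.standard
open DEquiv

set_option linter.style.haveILetI false
set_option backward.isDefEq.respectTransparency false
set_option backward.isDefEq.respectTransparency.types false
set_option maxHeartbeats 800000

namespace Groth.Agent.S6733

theorem isKFlat_shift {X : Scheme.{u}} {E : CochainComplex X.Modules ℤ} (hE : DCoh.IsKFlat E) (n : ℤ) :
    DCoh.IsKFlat (E⟦n⟧) := fun L hL j =>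
  (hE L hL (n + j)).of_iso ((HomologicalComplex.homologyFunctor X.Modules (ComplexShape.up ℤ) j).mapIso
    (((DCoh.tensorCx.obj L).commShiftIso n).app E) ≪≫
    ((HomologicalComplex.homologyFunctor X.Modules (ComplexShape.up ℤ) 0).shiftIso n j (n + j) rfl).app _)

/-- Part one: the derived fibre at a closed point detects cohomology. -/
theorem fibre_part {X : Scheme.{u}} [IsLocallyNoetherian X] (x : X) (hx : IsClosed ({x} : Set X))
    (P : X.Modules) (eP : P ≅ (KFlatLib.sky x).obj (H9Misc.FibreAtPoint.res (X.presheaf.stalk x)))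
    [DCoh.HasLTensorMod P] [DCoh.HasRΓ X]
    (C : CochainComplex X.Modules ℤ) (hC : DCoh.IsKFlat C) (hcoh : DCoh.IsCohD (DerivedCategory.Q.obj C))
    {c : ℤ} [(DerivedCategory.Q.obj C).IsLE c] {K : DCoh.D X} (e : DerivedCategory.Q.obj C ≅ K) (i : ℤ)
    (h : Limits.IsZero ((DerivedCategory.homologyFunctor AddCommGrpCat.{u} i).obj
      ((DCoh.RΓ X).obj ((DCoh.LTensorMod P).obj K)))) :
    x ∉ CohB1.support (DCoh.HD (DerivedCategory.Q.obj C) i) := by
  haveI := KFlatLib.isIso_ltensorModComparison P hC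
  let S0 := (HomologicalComplex.single X.Modules (ComplexShape.up ℤ) 0).obj P
  let eT : (DCoh.LTensorMod P).obj K ≅ DerivedCategory.Q.obj ((DCoh.tensorCx.obj C).obj S0) :=
    (DCoh.LTensorMod P).mapIso e.symm ≪≫ asIso ((KFlatLib.ltensorModComparison P).app C) ≪≫
      DerivedCategory.Q.mapIso (((KFlatLib.singleIso (DCoh.tensorBi (X := X)) P).app C).symm)
  exact H9Misc.FibreAtPoint.hom_ne_zero_of_fibre x hx C hC hcoh (c := c) P eP i fun φ =>
    H9Misc.RGammaHom.hom_eq_zero_of_RΓ _ i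
      (h.of_iso ((DerivedCategory.homologyFunctor AddCommGrpCat.{u} i).mapIso ((DCoh.RΓ X).mapIso eT.symm))) φ

/-- `Hom(O, (K ⊗ P)[i-d])` injects into `Hom(P, K[i])`. -/
theorem dual_part {X : Scheme.{u}} [IsNoetherian X] (hreg : Models.IsRegularScheme X)
    (x : X) (hx : IsClosed ({x} : Set X)) (d : ℕ) (hd : ringKrullDim (X.presheaf.stalk x) = d)
    (C : CochainComplex X.Modules ℤ) {K : DCoh.D X} (eC : DerivedCategory.Q.obj C ≅ K)
    (hC : DCoh.IsKFlat C) (i : ℤ)
    (h : ∀ φ : DCoh.inD X ((Coh.push (X.fromSpecResidueField x)).obj (Coh.structureModule _)) ⟶ (shiftFunctor (DCoh.D X) i).obj K, φ = 0)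
    (φ : DCoh.inD X (Coh.structureModule X) ⟶ (shiftFunctor (DCoh.D X) (i - d)).obj
      (DerivedCategory.Q.obj ((DCoh.tensorCx.obj C).obj ((HomologicalComplex.single X.Modules (ComplexShape.up ℤ) 0).obj
        ((Coh.push (X.fromSpecResidueField x)).obj (Coh.structureModule _)))))) : φ = 0 := by
  let P := (Coh.push (X.fromSpecResidueField x)).obj (Coh.structureModule _)
  haveI : IsClosedImmersion (X.fromSpecResidueField x) := isClosed_singleton_iff_isClosedImmersion.mp hx
  let S0 := (HomologicalComplex.single X.Modules (ComplexShape.up ℤ) 0).obj P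
  haveI := KFlatLib.hasLTensorCx S0
  let Sk := (KFlatLib.kRes X).obj S0
  let ψ := (KFlatLib.flatCover X).ψ.app S0
  haveI : QuasiIso ψ := (KFlatLib.flatCover X).quasiIso_ψ S0
  haveI := KFlatLib.isIso_Q_map ψ inferInstance
  have hSk : DCoh.IsKFlat Sk := KFlatLib.isKFlat_kRes S0
  haveI := KFlatLib.hasLTensorCx Sk
  haveI := KFlatLib.hasRSheafHom_of_isKFlat Sk hSk
  let eS : DerivedCategory.Q.obj Sk ≅ DCoh.inD X P :=
    asIso (DerivedCategory.Q.map ψ) ≪≫ ((DerivedCategory.singleFunctorIsoCompQ X.Modules 0).app P).symm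
  have hP : DCoh.IsPerfect (DerivedCategory.Q.obj Sk) :=
    (KFlatLib.isPerfect_iff _).2 (((KFlatLib.isPerfect_iff _).1 ((KZ.isPerfect_iff_of_regular hreg (DCoh.inD X P)).2
      ⟨fun j => by
        by_cases hj : j = 0
        · subst hj
          exact SheafHomX.isCoh_of_iso ((DerivedCategory.singleFunctorCompHomologyFunctorIso X.Modules 0).app P).symm
            (QCoh.isCoh_push_structure (X.fromSpecResidueField x))
        · exact KFlatLib.isCoh_of_isZero ((lt_or_gt_of_ne hj).elim (fun hl => DerivedCategory.isZero_of_isGE (DCoh.inD X P) 0 j hl) (fun hl => DerivedCategory.isZero_of_isLE (DCoh.inD X P) 0 j hl)),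
       0, 0, inferInstance, inferInstance⟩)).of_iso eS.symm)
  let eψ : DerivedCategory.Q.obj Sk ≅ DerivedCategory.Q.obj S0 := asIso (DerivedCategory.Q.map ψ)
  obtain ⟨cS⟩ := KFlatLib.nonempty_LTensorCx_congr_D eψ
  haveI : DCoh.HasRSheafHom S0 := by
    exact ((DCoh.RSheafHomAdj Sk).ofNatIsoLeft cS).isLeftAdjoint
  let eR : DCoh.RSheafHom Sk ≅ DCoh.RSheafHom S0 :=
    ((DCoh.RSheafHomAdj Sk).ofNatIsoLeft cS).rightAdjointUniq (DCoh.RSheafHomAdj S0)
  obtain ⟨eD⟩ := H9Misc.SkyDual.nonempty_dual_point hreg hx hd P (Iso.refl _)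
  let Sd : CochainComplex X.Modules ℤ := Sk⟦(-(d : ℤ))⟧
  have hSd : DCoh.IsKFlat Sd := isKFlat_shift hSk _
  haveI := KFlatLib.hasLTensorCx Sd
  let eSd : DerivedCategory.Q.obj Sd ≅ (DCoh.RSheafHom Sk).obj (DCoh.inD X (Coh.structureModule X)) :=
    (DerivedCategory.Q.commShiftIso (-(d : ℤ))).app Sk ≪≫ (shiftFunctor (DCoh.D X) (-(d : ℤ))).mapIso eS ≪≫
      (((DerivedCategory.singleFunctors X.Modules).shiftIso (-(d : ℤ)) (d : ℤ) 0 (by omega)).app P) ≪≫
      eD.symm ≪≫ (eR.app _).symm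
  let M := (shiftFunctor (DCoh.D X) i).obj K
  obtain ⟨t⟩ := KFlatLib.nonempty_ltensor_dual_iso Sk hSk hP Sd hSd ⟨eSd⟩ M
  let eM : M ≅ DerivedCategory.Q.obj (C⟦i⟧) :=
    (shiftFunctor (DCoh.D X) i).mapIso eC.symm ≪≫ ((DerivedCategory.Q.commShiftIso i).app C).symm
  haveI hcn := KFlatLib.isIso_LTensorCx_counit_of_isKFlat_right Sd hSd (C⟦i⟧)
  let sy := fun E => (KFlatLib.symmIso (KFlatLib.tensorBiFlipIso X) C).app E
  haveI := KFlatLib.isIso_Q_map ((DCoh.tensorCx.map ψ).app C) (S0949.result C hC ψ)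
  let e1 : DerivedCategory.Q.obj ((DCoh.tensorCx.obj (C⟦i⟧)).obj Sd) ≅ (shiftFunctor (DCoh.D X) i).obj
      (DerivedCategory.Q.obj ((DCoh.tensorCx.obj C).obj Sd)) :=
    DerivedCategory.Q.mapIso (((DCoh.tensorCx.flip.obj Sd).commShiftIso i).app C) ≪≫
      (DerivedCategory.Q.commShiftIso i).app _
  let e2 : DerivedCategory.Q.obj ((DCoh.tensorCx.obj C).obj Sd) ≅ (shiftFunctor (DCoh.D X) (-(d : ℤ))).obj
      (DerivedCategory.Q.obj ((DCoh.tensorCx.obj C).obj S0)) :=
    DerivedCategory.Q.mapIso ((sy Sd).symm ≪≫ ((DCoh.tensorCx.flip.obj C).commShiftIso (-(d : ℤ))).app Sk) ≪≫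
      (DerivedCategory.Q.commShiftIso (-(d : ℤ))).app _ ≪≫ (shiftFunctor (DCoh.D X) (-(d : ℤ))).mapIso
        (asIso (DerivedCategory.Q.map ((DCoh.tensorCx.map ψ).app C)) ≪≫ DerivedCategory.Q.mapIso (sy S0))
  let T : (DCoh.LTensorCx Sd).obj M ≅ (shiftFunctor (DCoh.D X) (i - d)).obj
      (DerivedCategory.Q.obj ((DCoh.tensorCx.obj C).obj S0)) :=
    (DCoh.LTensorCx Sd).mapIso eM ≪≫ @asIso _ _ _ _ _ hcn ≪≫ e1 ≪≫ (shiftFunctor (DCoh.D X) i).mapIso e2 ≪≫
      ((shiftFunctorAdd' (DCoh.D X) (-(d : ℤ)) i (i - d) (by ring)).symm).app _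
  let O₀ := (HomologicalComplex.single X.Modules (ComplexShape.up ℤ) 0).obj (Coh.structureModule X)
  let ψO := (KFlatLib.flatCover X).ψ.app O₀
  haveI : QuasiIso ψO := (KFlatLib.flatCover X).quasiIso_ψ O₀
  haveI := KFlatLib.isIso_Q_map ψO inferInstance
  haveI := KFlatLib.isIso_Q_map ((DCoh.tensorCx.map ψO).app Sk) (S0949.result Sk hSk ψO)
  let w : DCoh.inD X P ≅ (DCoh.LTensorCx Sk).obj (DCoh.inD X (Coh.structureModule X)) :=
    eS.symm ≪≫ ((DCoh.LTensorCx Sk).mapIso
        ((DerivedCategory.singleFunctorIsoCompQ X.Modules 0).app (Coh.structureModule X) ≪≫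
          (asIso (DerivedCategory.Q.map ψO)).symm) ≪≫ KFlatLib.ltensorCxIso Sk (KFlatLib.isKFlat_kRes O₀) ≪≫
      asIso (DerivedCategory.Q.map ((DCoh.tensorCx.map ψO).app Sk)) ≪≫
      DerivedCategory.Q.mapIso ((Classical.choice (KExact.DualConn.nonempty_unitTensorIso X)).app Sk)).symm
  have h0 : ((DCoh.RSheafHomAdj Sk).homEquiv _ M).symm (φ ≫ T.inv ≫ t.hom) = 0 :=
    Limits.zero_of_epi_comp w.hom (h _)
  rw [Equiv.symm_apply_eq, Adjunction.homEquiv_unit, Functor.map_zero, Limits.comp_zero, ← Category.assoc] at h0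
  exact Limits.zero_of_comp_mono T.inv (Limits.zero_of_comp_mono t.hom h0)


/-- Let X be a scheme of finite type over a field k which is regular, x ∈ X a closed point, O_x the
skyscraper sheaf at x with value κ(x), d = dim O_{X,x}, and K a perfect object of D(O_X); the
derived functors - ⊗^L O_x and RΓ(X, -) are assumed to exist (instance binders). (5) If H^i(X, K ⊗^L
O_x) = 0 then H^i(K) vanishes on an open neighbourhood of x. (6) If H^i(X, K ⊗^L O_x) = 0 for all i
then every cohomology sheaf of K vanishes on an open neighbourhood of x. (1) If Hom(O_x, K⟦i⟧) = 0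
then H^{i-d}(K) vanishes on an open neighbourhood of x. (Vanishing on U: no point of U lies in the
support.) -/
theorem result
    (k : Type u) [Field k] (X : Scheme.{u}) [X.Over (Spec (.of k))]
    [LocallyOfFiniteType (X ↘ Spec (.of k))] [CompactSpace X]
    (hreg : Models.IsRegularScheme X) (x : X) (hx : IsClosed ({x} : Set X))
    (d : ℕ) (hd : ringKrullDim (X.presheaf.stalk x) = d)
    (K : DCoh.D X) (hK : DCoh.IsPerfect K)
    [DCoh.HasLTensorMod ((Coh.push (X.fromSpecResidueField x)).obj (Coh.structureModule _))] [DCoh.HasRΓ X] :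
    (∀ i : ℤ, Limits.IsZero ((DerivedCategory.homologyFunctor AddCommGrpCat.{u} i).obj
          ((DCoh.RΓ X).obj ((DCoh.LTensorMod ((Coh.push (X.fromSpecResidueField x)).obj (Coh.structureModule _))).obj K))) →
      ∃ U : X.Opens, x ∈ U ∧ ∀ y : X, y ∈ U → y ∉ CohB1.support (DCoh.HD K i)) ∧
    ((∀ i : ℤ, Limits.IsZero ((DerivedCategory.homologyFunctor AddCommGrpCat.{u} i).obj
          ((DCoh.RΓ X).obj ((DCoh.LTensorMod ((Coh.push (X.fromSpecResidueField x)).obj (Coh.structureModule _))).obj K)))) →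
      ∃ U : X.Opens, x ∈ U ∧ ∀ (i : ℤ) (y : X), y ∈ U → y ∉ CohB1.support (DCoh.HD K i)) ∧
    (∀ i : ℤ, (∀ φ : DCoh.inD X ((Coh.push (X.fromSpecResidueField x)).obj (Coh.structureModule _)) ⟶ (shiftFunctor (DCoh.D X) i).obj K, φ = 0) →
      ∃ U : X.Opens, x ∈ U ∧ ∀ y : X, y ∈ U → y ∉ CohB1.support (DCoh.HD K (i - d))) := by
  haveI : IsLocallyNoetherian X := LocallyOfFiniteType.isLocallyNoetherian (X ↘ Spec (CommRingCat.of k))
  haveI : IsNoetherian X := {}
  obtain ⟨eP⟩ := H9Misc.SkyPush.nonempty_push_iso x hx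
  set P := (Coh.push (X.fromSpecResidueField x)).obj (Coh.structureModule _) with hP
  obtain ⟨hc, lo, hi, hlo, hhi⟩ := (KZ.isPerfect_iff_of_regular hreg K).1 hK
  haveI := hhi
  haveI := hlo
  obtain ⟨C, hC, ⟨eC⟩⟩ := KFlatLib.exists_kFlat_rep K
  have hcoh : DCoh.IsCohD (DerivedCategory.Q.obj C) := fun j =>
    SheafHomX.isCoh_of_iso ((DerivedCategory.homologyFunctor X.Modules j).mapIso eC.symm) (hc j)
  haveI : (DerivedCategory.Q.obj C).IsLE hi := DerivedCategory.TStructure.t.isLE_of_iso eC.symm hi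
  have hnhd : ∀ j : ℤ, x ∉ CohB1.support (DCoh.HD (DerivedCategory.Q.obj C) j) →
      ∃ U : X.Opens, x ∈ U ∧ ∀ y : X, y ∈ U → y ∉ CohB1.support (DCoh.HD K j) := fun j hj =>
    ⟨⟨(CohB1.support (DCoh.HD K j))ᶜ, (QCoh.isClosed_support_of_isFT (hc j).1 (hc j).2).isOpen_compl⟩,
      fun hm => hj (fun hs => hm (@Equiv.subsingleton _ _ (((DerSch.stalkFunctor X x).mapIso
        ((DerivedCategory.homologyFunctor X.Modules j).mapIso eC)).toLinearEquiv.toEquiv.symm) hs)),
      fun y hy => hy⟩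
  have h1 := fun i h => fibre_part x hx P eP C hC hcoh (c := hi) eC i h
  refine ⟨fun i h => hnhd i (h1 i h), fun h => ?_, fun i h => ?_⟩
  · choose U hxU hU using fun i => hnhd i (h1 i (h i))
    refine ⟨(Finset.Icc lo hi).inf U, ?_, fun i y hy => ?_⟩
    · refine Finset.inf_induction (p := fun V : X.Opens => x ∈ V) trivial (fun _ ha _ hb => ⟨ha, hb⟩) fun j _ => hxU j
    · by_cases hij : i ∈ Finset.Icc lo hi
      · exact hU i y ((Finset.inf_le (f := U) hij : (Finset.Icc lo hi).inf U ≤ U i) hy)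
      · rw [Finset.mem_Icc, not_and_or, not_le, not_le] at hij
        have hz : Limits.IsZero (DCoh.HD K i) := hij.elim (fun hl => DerivedCategory.isZero_of_isGE K lo i hl)
          (fun hl => DerivedCategory.isZero_of_isLE K hi i hl)
        exact fun hs => hs (ModuleCat.subsingleton_of_isZero ((DerSch.stalkFunctor X y).map_isZero hz))
  · exact hnhd _ (H9Misc.FibreAtPoint.hom_ne_zero_of_fibre x hx C hC hcoh (c := hi) P eP (i - d)
      fun φ => dual_part hreg x hx d hd C eC hC i h φ)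

end Groth.Agent.S6733
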