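import Groth.Statements.S6741
import Groth.Agent.H9Misc.FibreAtPoint
import Groth.Agent.KFlatLib.Scheme.DualPerfect
import Groth.Agent.KFlatLib.Scheme.TensorAssoc
import Groth.Agent.KFlatLib.Scheme.RHomExists
import Groth.Agent.KExact.External
import Groth.Agent.KZ.RegPerf
import Groth.Agent.QCoh.Support
import Groth.Agent.H9Misc.CorrAdjoint

set_option autoImplicit false
universe u
open CategoryTheory AlgebraicGeometry
attribute [local instance] HasDerivedCategory.standard
open DEquiv

namespace Groth.Agent.S6741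

/-- Let X be a scheme of finite type over a field k which is regular, x ∈ X a closed point, O_x the
skyscraper sheaf at x with value κ(x), and K a perfect object of D(O_X), given by a complex E of
O_X-modules; the derived functors - ⊗^L E and its right adjoint RHom(E, -) are assumed to exist
(instance binders), and K^∨ = RHom(E, O_X). If Hom(K, O_x⟦i⟧) = 0 then H^i(K^∨) vanishes on an open
neighbourhood of x (no point of it lies in the support). -/
theorem result
    (k : Type u) [Field k] (X : Scheme.{u}) [X.Over (Spec (.of k))]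
    [LocallyOfFiniteType (X ↘ Spec (.of k))] [CompactSpace X]
    (hreg : Models.IsRegularScheme X) (x : X) (hx : IsClosed ({x} : Set X))
    (E : CochainComplex X.Modules ℤ) (hK : DCoh.IsPerfect (DCoh.toD X E))
    [DCoh.HasLTensorCx E] [DCoh.HasRSheafHom E] (i : ℤ)
    (h : ∀ φ : DCoh.toD X E ⟶ (shiftFunctor (DCoh.D X) i).obj (DCoh.inD X ((Coh.push (X.fromSpecResidueField x)).obj (Coh.structureModule _))), φ = 0) :
    ∃ U : X.Opens, x ∈ U ∧ ∀ y : X, y ∈ U →
      y ∉ CohB1.support (DCoh.HD ((DCoh.RSheafHom E).obj (DCoh.inD X (Coh.structureModule X))) i) := by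
  haveI : IsLocallyNoetherian X := LocallyOfFiniteType.isLocallyNoetherian (X ↘ Spec (CommRingCat.of k))
  haveI : IsNoetherian X := {}
  obtain ⟨eP⟩ := H9Misc.SkyPush.nonempty_push_iso x hx
  set P := (Coh.push (X.fromSpecResidueField x)).obj (Coh.structureModule _)
  let E' := (KFlatLib.kRes X).obj E
  let eE : DCoh.toD X E' ≅ DCoh.toD X E := (KFlatLib.resQIso X).app E
  have hE' : DCoh.IsKFlat E' := KFlatLib.isKFlat_kRes E
  haveI := KFlatLib.hasLTensorCx E'
  haveI := KFlatLib.hasRSheafHom_of_isKFlat E' hE'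
  have hE'p : DCoh.IsPerfect (DCoh.toD X E') :=
    (KFlatLib.isPerfect_iff _).2 (((KFlatLib.isPerfect_iff _).1 hK).of_iso eE.symm)
  obtain ⟨cE⟩ := KFlatLib.nonempty_LTensorCx_congr_D eE
  let eR : DCoh.RSheafHom E' ≅ DCoh.RSheafHom E :=
    ((DCoh.RSheafHomAdj E').ofNatIsoLeft cE).rightAdjointUniq (DCoh.RSheafHomAdj E)
  set D := (DCoh.RSheafHom E).obj (DCoh.inD X (Coh.structureModule X))
  have hDp : DCoh.IsPerfect D := (KFlatLib.isPerfect_iff _).2 (((KFlatLib.isPerfect_iff _).1
    (KFlatLib.isPerfect_RSheafHom_structure E' hE'p)).of_iso (eR.app _))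
  obtain ⟨hc, lo, hi, hlo, hhi⟩ := (KZ.isPerfect_iff_of_regular hreg D).1 hDp
  haveI := hhi
  obtain ⟨C, hC, ⟨eC⟩⟩ := KFlatLib.exists_kFlat_rep D
  haveI := KFlatLib.hasLTensorCx C
  have hcoh : DCoh.IsCohD (DerivedCategory.Q.obj C) := fun j =>
    SheafHomX.isCoh_of_iso ((DerivedCategory.homologyFunctor X.Modules j).mapIso eC.symm) (hc j)
  haveI : (DerivedCategory.Q.obj C).IsLE hi := DerivedCategory.TStructure.t.isLE_of_iso eC.symm hi
  have hx0 : x ∉ CohB1.support (DCoh.HD D i) := by
    have hC0 := H9Misc.FibreAtPoint.hom_ne_zero_of_fibre x hx C hC hcoh (c := hi) P eP i (fun φ => by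
      let S := (HomologicalComplex.single X.Modules (ComplexShape.up ℤ) 0).obj P
      let M := (shiftFunctor (DCoh.D X) i).obj (DCoh.inD X P)
      obtain ⟨d⟩ := KFlatLib.nonempty_ltensor_dual_iso E' hE' hE'p C hC ⟨eC ≪≫ (eR.app _).symm⟩ M
      let eM : M ≅ DerivedCategory.Q.obj (S⟦i⟧) :=
        (shiftFunctor (DCoh.D X) i).mapIso ((DerivedCategory.singleFunctorIsoCompQ X.Modules 0).app P) ≪≫
          ((DerivedCategory.Q.commShiftIso i).app S).symm
      haveI hcn := KFlatLib.isIso_LTensorCx_counit_of_isKFlat_right C hC (S⟦i⟧)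
      let eT : (DCoh.LTensorCx C).obj M ≅ (shiftFunctor (DCoh.D X) i).obj
          (DerivedCategory.Q.obj ((DCoh.tensorCx.obj C).obj S)) :=
        (DCoh.LTensorCx C).mapIso eM ≪≫ @asIso _ _ _ _ _ hcn ≪≫
          DerivedCategory.Q.mapIso (((DCoh.tensorCx.flip.obj C).commShiftIso i).app S) ≪≫
          (DerivedCategory.Q.commShiftIso i).app _ ≪≫
          (shiftFunctor (DCoh.D X) i).mapIso (DerivedCategory.Q.mapIso
            ((KFlatLib.symmIso (KFlatLib.tensorBiFlipIso X) C).app S))
      let O₀ := (HomologicalComplex.single X.Modules (ComplexShape.up ℤ) 0).obj (Coh.structureModule X)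
      let ψ := (KFlatLib.flatCover X).ψ.app O₀
      haveI : QuasiIso ψ := (KFlatLib.flatCover X).quasiIso_ψ O₀
      haveI := KFlatLib.isIso_Q_map ψ inferInstance
      haveI := KFlatLib.isIso_Q_map ((DCoh.tensorCx.map ψ).app E') (S0949.result E' hE' ψ)
      let w : DCoh.toD X E ≅ (DCoh.LTensorCx E').obj (DCoh.inD X (Coh.structureModule X)) :=
        eE.symm ≪≫ ((DCoh.LTensorCx E').mapIso
            ((DerivedCategory.singleFunctorIsoCompQ X.Modules 0).app (Coh.structureModule X) ≪≫
              (asIso (DerivedCategory.Q.map ψ)).symm) ≪≫ KFlatLib.ltensorCxIso E' (KFlatLib.isKFlat_kRes O₀) ≪≫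
          asIso (DerivedCategory.Q.map ((DCoh.tensorCx.map ψ).app E')) ≪≫
          DerivedCategory.Q.mapIso ((Classical.choice (KExact.DualConn.nonempty_unitTensorIso X)).app E')).symm
      have h0 : ((DCoh.RSheafHomAdj E').homEquiv _ M).symm (φ ≫ eT.inv ≫ d.hom) = 0 :=
        Limits.zero_of_epi_comp w.hom (h _)
      rw [Equiv.symm_apply_eq, Adjunction.homEquiv_unit, Functor.map_zero, Limits.comp_zero, ← Category.assoc] at h0
      exact Limits.zero_of_comp_mono eT.inv (Limits.zero_of_comp_mono d.hom h0))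
    intro hm
    exact hC0 (fun hs => hm (@Equiv.subsingleton _ _ (((DerSch.stalkFunctor X x).mapIso
      ((DerivedCategory.homologyFunctor X.Modules i).mapIso eC)).toLinearEquiv.toEquiv.symm) hs))
  exact ⟨⟨(CohB1.support (DCoh.HD D i))ᶜ, (QCoh.isClosed_support_of_isFT (hc i).1 (hc i).2).isOpen_compl⟩, hx0,
    fun y hy => hy⟩

end Groth.Agent.S6741
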