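import Groth.Statements.S6745
import Groth.Agent.H9Misc.PerfRep
import Groth.Agent.S6743

set_option autoImplicit false
universe u
open CategoryTheory AlgebraicGeometry
attribute [local instance] HasDerivedCategory.standard
open DEquiv

namespace Groth.Agent.S6745

open CategoryTheory.Limits CategoryTheory.Pretriangulated Opposite in
/-- Let X be a scheme over a field k whose structure morphism is H-projective (X is a closed subscheme
of some P^n_k) and write D_perf(O_X) for the full subcategory of perfect objects of D(O_X) (the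
instance hypothesis records that it is a triangulated subcategory). Let H be a contravariant functor
from D_perf(O_X) to k-vector spaces which is k-linear, cohomological (for every distinguished
triangle A ⟶ B ⟶ C of D(O_X) with perfect vertices the sequence H(C) ⟶ H(B) ⟶ H(A) is exact) and
such that for every perfect E the spaces H(E⟦n⟧) are finite-dimensional for all n ∈ ℤ and nonzero
for only finitely many n. Then H is isomorphic to the functor E ↦ Hom(E, K) for some object K of
D(O_X) which is bounded with coherent cohomology sheaves (existence of K and of an isomorphism of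
functors). -/
theorem result
    (k : Type u) [Field k] (X : Scheme.{u}) [X.Over (Spec (.of k))]
    (hproj : RelProj.IsHProjective (X ↘ Spec (.of k)))
    [(SGA6.perfP X).IsTriangulated]
    (H : ((SGA6.perfP X).FullSubcategory)ᵒᵖ ⥤ ModuleCat.{u + 1} k) [H.Additive]
    (hlin : ∀ (A B : (SGA6.perfP X).FullSubcategory) (r : k) (f : A ⟶ B), H.map (r • f).op = r • H.map f.op)
    (hcoh : ∀ T ∈ distTriang (DCoh.D X), ∀ (h₁ : DCoh.IsPerfect T.obj₁)
      (h₂ : DCoh.IsPerfect T.obj₂) (h₃ : DCoh.IsPerfect T.obj₃)
      (y : H.obj (op ⟨T.obj₂, h₂⟩)),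
      H.map (ObjectProperty.homMk T.mor₁ : (⟨T.obj₁, h₁⟩ : (SGA6.perfP X).FullSubcategory) ⟶ ⟨T.obj₂, h₂⟩).op y = 0 →
        ∃ z : H.obj (op ⟨T.obj₃, h₃⟩),
          H.map (ObjectProperty.homMk T.mor₂ : (⟨T.obj₂, h₂⟩ : (SGA6.perfP X).FullSubcategory) ⟶ ⟨T.obj₃, h₃⟩).op z = y)
    (hfin : ∀ E : (SGA6.perfP X).FullSubcategory,
      (∀ n : ℤ, Module.Finite k (H.obj (op ((shiftFunctor ((SGA6.perfP X).FullSubcategory) n).obj E)))) ∧
      Set.Finite {n : ℤ | Nontrivial (H.obj (op ((shiftFunctor ((SGA6.perfP X).FullSubcategory) n).obj E)))}) :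
    ∃ K : DCoh.D X, SGA6.cohbP X K ∧
      Nonempty (H ≅ (ObjectProperty.ι (SGA6.perfP X)).op ⋙ (linearYoneda k (DCoh.D X)).obj K) := by
  haveI : IsProper (X ↘ Spec (CommRingCat.of k)) := by
    obtain ⟨n, i, hi, hi'⟩ := hproj
    haveI : IsProper (CohB1.ProjSpaceOver.toBase n (Spec (CommRingCat.of k))) :=
      Groth.Agent.P1Sym.isProper_toBase n _
    rw [← hi']
    infer_instance
  obtain ⟨Y, hY, e, hf⟩ := Groth.Agent.H9Misc.PerfRep.exists_qcoh_represent k X H hlin hcoh hfin
  exact ⟨Y, (Groth.Agent.S6743.result k X hproj Y hY).2 hf, e⟩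

end Groth.Agent.S6745
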