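import Groth.Statements.S6750
import Groth.Agent.H9Misc.PointFF
import Groth.Agent.S6749

set_option autoImplicit false
universe u
open CategoryTheory AlgebraicGeometry
attribute [local instance] HasDerivedCategory.standard
open DEquiv

namespace Groth.Agent.S6750

/-- Let X be a scheme proper over a field k which is regular (all local rings regular), and let F :
D_perf(O_X) ⥤ D_perf(O_X) be a k-linear exact functor on the full subcategory of perfect objects
(the instance hypothesis records that it is a triangulated subcategory). Assume that for every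
coherent O_X-module M whose support has dimension 0 (a nonempty finite set of closed points) there
is an isomorphism M ≅ F(M), where M is viewed in degree 0 (a perfect object since X is regular; the
statement quantifies over a proof of this). Then F is fully faithful. -/
theorem result
    (k : Type u) [Field k] (X : Scheme.{u}) [X.Over (Spec (.of k))] [IsProper (X ↘ Spec (.of k))]
    (hreg : Models.IsRegularScheme X) [(SGA6.perfP X).IsTriangulated]
    (F : (SGA6.perfP X).FullSubcategory ⥤ (SGA6.perfP X).FullSubcategory) [F.Additive] [F.Linear k]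
    [F.CommShift ℤ] [F.IsTriangulated]
    (h : ∀ (M : X.Modules), Coh.IsCoh M → (CohB1.support M).Finite → (CohB1.support M).Nonempty →
        (∀ x ∈ CohB1.support M, IsClosed ({x} : Set X)) →
        ∀ (hM : DCoh.IsPerfect (DCoh.inD X M)),
          Nonempty ((⟨DCoh.inD X M, hM⟩ : (SGA6.perfP X).FullSubcategory) ≅ F.obj ⟨DCoh.inD X M, hM⟩)) :
    F.Full ∧ F.Faithful := by
  have hfix : ∀ (M : X.Modules) (hM : Coh.IsCoh M) (x : X), IsClosed ({x} : Set X) →
      Groth.Agent.H9Misc.PointFF.AtPt x M →
      Nonempty (Groth.Agent.H9Misc.PointFF.ob k hreg M hM ≅ F.obj (Groth.Agent.H9Misc.PointFF.ob k hreg M hM)) :=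
    fun M hM x hx hat => by
      by_cases hne : (CohB1.support M).Nonempty
      · have hsub : CohB1.support M ⊆ {x} := fun y hy => by
          by_contra hyx
          exact hy (hat.2 y hyx)
        exact h M hM ((Set.finite_singleton x).subset hsub) hne
          (fun y hy => by rw [Set.mem_singleton_iff.1 (hsub hy)]; exact hx) _
      · have hstalk : ∀ y, Subsingleton (M.presheaf.stalk y) := fun y => not_not.1 fun hy => hne ⟨y, hy⟩
        haveI : IsIso (0 : M ⟶ M) := Groth.Agent.KFlatLib.isIso_of_stalk _ fun y =>
          (ConcreteCategory.isIso_iff_bijective _).2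
            ⟨fun a b _ => @Subsingleton.elim (M.presheaf.stalk y) (hstalk y) a b,
              fun b => ⟨0, @Subsingleton.elim (M.presheaf.stalk y) (hstalk y) _ _⟩⟩
        have hz : Limits.IsZero M := by
          rw [Limits.IsZero.iff_id_eq_zero]
          exact (cancel_epi (0 : M ⟶ M)).1 (by simp)
        have hz' : Limits.IsZero (Groth.Agent.H9Misc.PointFF.ob k hreg M hM) := by
          rw [Limits.IsZero.iff_id_eq_zero]
          exact ObjectProperty.hom_ext _
            (((DerivedCategory.singleFunctor X.Modules 0).map_isZero hz).eq_of_src _ _)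
        exact ⟨hz'.iso (F.map_isZero hz')⟩
  refine (Groth.Agent.S6749.result k X X hreg F).2 fun x x' hx hx' hpx hpx' i => ?_
  have hP := Groth.Agent.H9Misc.PointFF.atPt_pt k (X := X) hx
  have hP' := Groth.Agent.H9Misc.PointFF.atPt_pt k (X := X) hx'
  by_cases he : x' = x
  · subst he
    exact Groth.Agent.H9Misc.PointFF.bijective_point k hreg F hfix hx' hP' i
  · obtain ⟨θ⟩ := hfix _ hP.1 x hx hP
    obtain ⟨θ'⟩ := hfix _ hP'.1 x' hx' hP'
    have hv : ∀ f : Groth.Agent.H9Misc.PointFF.ob k hreg _ hP.1 ⟶
        (shiftFunctor ((SGA6.perfP X).FullSubcategory) i).obj (Groth.Agent.H9Misc.PointFF.ob k hreg _ hP'.1),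
        f = 0 := fun f => by
      let E := ((SGA6.perfP X).ι.commShiftIso i).app (Groth.Agent.H9Misc.PointFF.ob k hreg _ hP'.1)
      exact ObjectProperty.hom_ext _ (Limits.zero_of_comp_mono E.hom
        (Groth.Agent.H9Misc.PointFF.hom_eq_zero_of_ne k hreg hx hx' he hpx i (f.hom ≫ E.hom)))
    refine ⟨fun a b _ => (hv a).trans (hv b).symm, fun g => ⟨0, ?_⟩⟩
    let m : (shiftFunctor ((SGA6.perfP X).FullSubcategory) i).obj (Groth.Agent.H9Misc.PointFF.ob k hreg _ hP'.1) ≅
        F.obj ((shiftFunctor ((SGA6.perfP X).FullSubcategory) i).obj (Groth.Agent.H9Misc.PointFF.ob k hreg _ hP'.1)) :=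
      (shiftFunctor ((SGA6.perfP X).FullSubcategory) i).mapIso θ' ≪≫ ((F.commShiftIso i).app _).symm
    exact (F.map_zero _ _).trans (Limits.zero_of_comp_mono m.inv (Limits.zero_of_epi_comp θ.hom (hv (θ.hom ≫ g ≫ m.inv)))).symm

end Groth.Agent.S6750
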