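import Groth.Statements.S6751
import Groth.Agent.H9Misc.PointSpan
import Groth.Agent.S6748

set_option autoImplicit false
universe u
open CategoryTheory AlgebraicGeometry
attribute [local instance] HasDerivedCategory.standard
open DEquiv

namespace Groth.Agent.S6751

/-- Let X and Y be schemes proper over a field k with X regular (all local rings regular), and let F, G
: D_perf(O_X) ⥤ D_perf(O_Y) be k-linear exact functors between the full subcategories of perfect
objects (the instance hypotheses record that these are triangulated subcategories). Assume that F(M)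
≅ G(M) for every coherent O_X-module M whose support has dimension 0 (a nonempty finite set of
closed points; M viewed in degree 0, a perfect object since X is regular, the statement quantifying
over a proof of this), and suppose moreover that the functor F is both full and faithful. Under
these conditions, for each perfect object M on X the object G(M) is isomorphic to F applied to some
perfect object, i.e. everything G hits lies in F's essential image. -/
theorem result
    (k : Type u) [Field k] (X Y : Scheme.{u}) [X.Over (Spec (.of k))] [Y.Over (Spec (.of k))]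
    [IsProper (X ↘ Spec (.of k))] [IsProper (Y ↘ Spec (.of k))] (hreg : Models.IsRegularScheme X)
    [(SGA6.perfP X).IsTriangulated] [(SGA6.perfP Y).IsTriangulated]
    (F : (SGA6.perfP X).FullSubcategory ⥤ (SGA6.perfP Y).FullSubcategory) [F.Additive] [F.Linear k]
    [F.CommShift ℤ] [F.IsTriangulated]
    (G : (SGA6.perfP X).FullSubcategory ⥤ (SGA6.perfP Y).FullSubcategory) [G.Additive] [G.Linear k]
    [G.CommShift ℤ] [G.IsTriangulated]
    (h1 : ∀ (M : X.Modules), Coh.IsCoh M → (CohB1.support M).Finite → (CohB1.support M).Nonempty →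
        (∀ x ∈ CohB1.support M, IsClosed ({x} : Set X)) →
        ∀ (hM : DCoh.IsPerfect (DCoh.inD X M)),
          Nonempty (F.obj ⟨DCoh.inD X M, hM⟩ ≅ G.obj ⟨DCoh.inD X M, hM⟩))
    [F.Full] [F.Faithful] (M : (SGA6.perfP X).FullSubcategory) :
    F.essImage (G.obj M) := by
  obtain ⟨hFl, -⟩ := Groth.Agent.S6748.result k X Y hreg F
  obtain ⟨hGl, -⟩ := Groth.Agent.S6748.result k X Y hreg G
  haveI := hFl
  haveI := hGl
  let adj := Adjunction.ofIsLeftAdjoint F
  let adjG := Adjunction.ofIsLeftAdjoint G
  obtain ⟨C, q, δ, hT⟩ := CategoryTheory.Pretriangulated.distinguished_cocone_triangle (adj.counit.app (G.obj M))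
  have horth : ∀ (A : (SGA6.perfP X).FullSubcategory) (g : F.obj A ⟶ C), g = 0 := fun A g => by
    let A' := (shiftFunctor ((SGA6.perfP X).FullSubcategory) (-1 : ℤ)).obj A
    let e := (shiftFunctorCompIsoId ((SGA6.perfP X).FullSubcategory) (-1 : ℤ) 1 (by simp)).app A
    let m : (shiftFunctor ((SGA6.perfP Y).FullSubcategory) (1 : ℤ)).obj (F.obj A') ≅ F.obj A :=
      ((F.commShiftIso (1 : ℤ)).app A').symm ≪≫ F.mapIso e
    obtain ⟨ψ, hψ⟩ := (shiftFunctor ((SGA6.perfP Y).FullSubcategory) (1 : ℤ)).map_surjective (m.hom ≫ g ≫ δ)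
    have h1 : ψ ≫ adj.counit.app (G.obj M) = 0 :=
      (shiftFunctor ((SGA6.perfP Y).FullSubcategory) (1 : ℤ)).map_injective (by
      rw [Functor.map_comp, hψ, Category.assoc, Category.assoc,
        show δ ≫ (shiftFunctor ((SGA6.perfP Y).FullSubcategory) (1 : ℤ)).map (adj.counit.app (G.obj M)) = 0 from
          CategoryTheory.Pretriangulated.comp_distTriang_mor_zero₃₁ _ hT,
        Limits.comp_zero, Limits.comp_zero, Functor.map_zero])
    obtain ⟨a, rfl⟩ := F.map_surjective ψ
    haveI := adj.right_adjoint_additive
    have h2 : a = 0 := by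
      apply (adj.homEquiv A' (G.obj M)).symm.injective
      rw [Adjunction.homEquiv_counit, Adjunction.homEquiv_counit, Functor.map_zero, Limits.zero_comp]
      exact h1
    rw [h2, Functor.map_zero, Functor.map_zero] at hψ
    obtain ⟨h, hh⟩ : ∃ h : F.obj A ⟶ G.obj M, g = h ≫ q :=
      CategoryTheory.Pretriangulated.Triangle.coyoneda_exact₃ _ hT g
        ((cancel_epi m.hom).1 (hψ.symm.trans Limits.comp_zero.symm))
    obtain ⟨b, rfl⟩ := (adj.homEquiv A (G.obj M)).symm.surjective h
    rw [hh, Adjunction.homEquiv_counit, Category.assoc,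
      show adj.counit.app (G.obj M) ≫ q = 0 from CategoryTheory.Pretriangulated.comp_distTriang_mor_zero₁₂ _ hT,
      Limits.comp_zero]
  have hq : q = 0 := by
    have hz : Limits.IsZero (G.rightAdjoint.obj C) :=
      Groth.Agent.H9Misc.PointSpan.isZero_of_hom_from k hreg _ fun E ⟨x, hx, hE⟩ i f => by
        haveI := adjG.right_adjoint_additive
        let E' := (shiftFunctor ((SGA6.perfP X).FullSubcategory) (-i)).obj E
        have key : ∀ g : G.obj E' ⟶ C, g = 0 := fun g => by
          haveI : IsNoetherian X := Groth.Agent.KExact.BCNat.isNoetherian_of_ft (X ↘ Spec (CommRingCat.of k))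
          haveI : IsClosedImmersion (X.fromSpecResidueField x) := isClosed_singleton_iff_isClosedImmersion.mp hx
          obtain ⟨E0, hE0⟩ := E
          obtain rfl : E0 = DCoh.inD X (Groth.Agent.H9Misc.PointSerre.pt x) := hE
          have hsub : CohB1.support (Groth.Agent.H9Misc.PointSerre.pt x) ⊆ {x} := fun y hy => by
            by_contra hyx
            exact hy (Groth.Agent.H9Misc.PointSerre.subsingleton_pt hx hyx)
          have hne : (CohB1.support (Groth.Agent.H9Misc.PointSerre.pt x)).Nonempty := ⟨x, fun hs => by
            obtain ⟨e'⟩ := Groth.Agent.H9Misc.SkyPush.nonempty_push_iso x hx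
            haveI : Subsingleton (X.presheaf.stalk x ⧸ IsLocalRing.maximalIdeal (X.presheaf.stalk x)) :=
              @Equiv.subsingleton _ _ (((DerSch.stalkFunctor X x).mapIso e' ≪≫
                (Groth.Agent.KFlatLib.skyStalkIso x).app _).toLinearEquiv).toEquiv.symm hs
            haveI : Nontrivial (X.presheaf.stalk x ⧸ IsLocalRing.maximalIdeal (X.presheaf.stalk x)) :=
              Ideal.Quotient.nontrivial_iff.2 (IsLocalRing.maximalIdeal.isMaximal _).ne_top
            exact false_of_nontrivial_of_subsingleton
              (X.presheaf.stalk x ⧸ IsLocalRing.maximalIdeal (X.presheaf.stalk x))⟩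
          obtain ⟨e0⟩ := h1 _ (Groth.Agent.QCoh.isCoh_push_structure (X.fromSpecResidueField x))
            ((Set.finite_singleton x).subset hsub) hne (fun y hy => by rw [Set.mem_singleton_iff.1 (hsub hy)]; exact hx) hE0
          let θ : F.obj E' ≅ G.obj E' := (F.commShiftIso (-i)).app _ ≪≫
            (shiftFunctor ((SGA6.perfP Y).FullSubcategory) (-i)).mapIso e0 ≪≫ ((G.commShiftIso (-i)).app _).symm
          exact Limits.zero_of_epi_comp θ.hom (horth E' (θ.hom ≫ g))
        refine ((shiftEquiv ((SGA6.perfP X).FullSubcategory) i).symm.toAdjunction.homEquiv _ _).symm.injective ?_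
        apply (adjG.homEquiv E' C).symm.injective
        exact (key _).trans (key _).symm
    have h0 := congrArg (adjG.homEquiv M C).symm (hz.eq_of_tgt (adjG.homEquiv M C q) 0)
    haveI := adjG.right_adjoint_additive
    rw [Equiv.symm_apply_apply, Adjunction.homEquiv_counit, Functor.map_zero, Limits.zero_comp] at h0
    exact h0
  have hC : Limits.IsZero C := by
    rw [Limits.IsZero.iff_id_eq_zero]
    obtain ⟨g, hg⟩ := CategoryTheory.Pretriangulated.Triangle.yoneda_exact₂ _
      (CategoryTheory.Pretriangulated.rot_of_distTriang _ hT) (𝟙 C) (by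
        show q ≫ 𝟙 C = 0
        rw [hq, Limits.zero_comp])
    let RL := (shiftFunctor ((SGA6.perfP X).FullSubcategory) (1 : ℤ)).obj (F.rightAdjoint.obj (G.obj M))
    let c := (F.commShiftIso (1 : ℤ)).app (F.rightAdjoint.obj (G.obj M))
    have : g = 0 := Limits.zero_of_epi_comp c.hom (horth RL (c.hom ≫ g))
    exact hg.trans ((congrArg _ this).trans Limits.comp_zero)
  haveI : IsIso (adj.counit.app (G.obj M)) :=
    (CategoryTheory.Pretriangulated.Triangle.isZero₃_iff_isIso₁ _ hT).1 hC
  exact ⟨F.rightAdjoint.obj (G.obj M), ⟨asIso (adj.counit.app (G.obj M))⟩⟩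

end Groth.Agent.S6751
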