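import Groth.Statements.S6758
import Groth.Agent.H9Misc.ProjCrit
import Groth.Agent.SeesawX.PnFibre
import Groth.Agent.P1Sym.Finite
import Groth.Agent.H28.KRRReg
import Groth.Agent.S6742

set_option autoImplicit false
universe u
open CategoryTheory AlgebraicGeometry
attribute [local instance] HasDerivedCategory.standard
open DEquiv

set_option linter.style.haveILetI false
set_option backward.isDefEq.respectTransparency false
set_option backward.isDefEq.respectTransparency.types false

namespace Groth.Agent.S6758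

open Groth.Agent.H23.PicMul Groth.Agent.H28.KRRReg

/-- (1) ⇔ (4): let k be a field, n ≥ 0, P = P^n_k, and let K be an object of D(O_P) with quasi-coherent
cohomology sheaves. Then K is bounded with coherent cohomology sheaves if and only if for each d =
0, …, n the k-vector spaces H^i(P, K ⊗^L O_P(d)) = Hom(O_P, (K ⊗^L O_P(d))⟦i⟧) are
finite-dimensional for all i ∈ ℤ and nonzero for only finitely many i. (The derived functors - ⊗^L
O_P(d) are assumed to exist, as instance binders. The published statement lists two further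
equivalent conditions, which are not restated here: that for every perfect object E of D(O_P) the
spaces Hom(E, K⟦i⟧) be finite-dimensional for all i and nonzero for only finitely many i, a
criterion which holds on every H-projective scheme over k, and the same condition on the spaces
H^i(P, E ⊗^L K) for every perfect E.) -/
theorem result
    (k : Type u) [Field k] (n : ℕ)
    (K : DCoh.D (CohB1.ProjSpaceOver n (Spec (.of k)))) (hK : DCoh.IsQCohD K)
    [∀ d : ℤ, DCoh.HasLTensorMod (Twist.twistOver n (Spec (.of k)) d)] :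
    SGA6.cohbP (CohB1.ProjSpaceOver n (Spec (.of k))) K ↔
      ∀ d : ℕ, d ≤ n →
        (∀ i : ℤ, Module.Finite k (DCoh.inD (CohB1.ProjSpaceOver n (Spec (.of k))) (Coh.structureModule (CohB1.ProjSpaceOver n (Spec (.of k)))) ⟶
            (shiftFunctor (DCoh.D (CohB1.ProjSpaceOver n (Spec (.of k)))) i).obj ((DCoh.LTensorMod (Twist.twistOver n (Spec (.of k)) (d : ℤ))).obj K))) ∧
        Set.Finite {i : ℤ | Nontrivial (DCoh.inD (CohB1.ProjSpaceOver n (Spec (.of k))) (Coh.structureModule (CohB1.ProjSpaceOver n (Spec (.of k)))) ⟶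
            (shiftFunctor (DCoh.D (CohB1.ProjSpaceOver n (Spec (.of k)))) i).obj ((DCoh.LTensorMod (Twist.twistOver n (Spec (.of k)) (d : ℤ))).obj K))} := by
  let PS := CohB1.ProjSpaceOver n (Spec (CommRingCat.of k))
  obtain ⟨a, ha0, ⟨τ⟩⟩ := Groth.Agent.SeesawX.PnSpec.exists_iso n k
  haveI : IsProper (CohB1.ProjSpaceOver.toBase n (Spec (CommRingCat.of k))) :=
    Groth.Agent.P1Sym.isProper_toBase n _
  haveI : IsProper (PS ↘ Spec (CommRingCat.of k)) := ‹IsProper (CohB1.ProjSpaceOver.toBase n _)›
  have key := fun (d i : ℤ) (e : CohB1.tensorMod (Twist.twistOver n (Spec (CommRingCat.of k)) (-d))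
      (Twist.twistOver n (Spec (CommRingCat.of k)) d) ≅ Coh.structureModule _) =>
    Groth.Agent.H9Misc.TwistFF.finite_twist_iff (k := k) (Groth.Agent.H28.KRRReg.isInvertible_twistOver d) e K i
  have hinv : ∀ d : ℤ, Nonempty (CohB1.tensorMod (Twist.twistOver n (Spec (CommRingCat.of k)) (-d))
      (Twist.twistOver n (Spec (CommRingCat.of k)) d) ≅ Coh.structureModule PS) := fun d => by
    obtain ⟨e0⟩ := Groth.Agent.H28.KRRReg.twistOver_zero (n := n) (T := Spec (CommRingCat.of k))
    obtain ⟨ea⟩ := Groth.Agent.H28.KRRReg.twistOver_add (n := n) (T := Spec (CommRingCat.of k)) (-d) d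
    exact ⟨ea ≪≫ eqToIso (congrArg (Twist.twistOver n (Spec (CommRingCat.of k))) (neg_add_cancel d)) ≪≫ e0⟩
  have hp : ∀ d : ℤ, DCoh.IsPerfect (DCoh.inD PS (Twist.twistOver n (Spec (CommRingCat.of k)) d)) := fun d =>
    Groth.Agent.H28.PerfGen.locSP_lf
      (Groth.Agent.H23.PullPush.isFinLocFree_of_isInvertible (Groth.Agent.H28.KRRReg.isInvertible_twistOver d))
  constructor
  · intro h d _
    obtain ⟨h1, h2⟩ := Groth.Agent.S6742.result k PS K h _ (hp (-(d : ℤ)))
    exact ⟨fun i => (key d i (hinv d).some).1.2 (h1 i), h2.subset fun i hi => (key d i (hinv d).some).2.1 hi⟩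
  · intro h
    have hcomp : (Groth.Agent.H23.PicMul.pullHom a.hom).comp (Groth.Agent.SeesawX.PnFibre.twistHom n k) =
        Groth.Agent.SeesawX.PnFibre.twistOverHom n (Spec (CommRingCat.of k)) :=
      MonoidHom.ext_mint (Groth.Agent.H23.PicMul.cl_eq_iff.2 ⟨τ⟩)
    letI := Groth.Agent.H9Misc.PnCrit.overPn n k
    haveI := Groth.Agent.KFlatLib.hasLpull a.hom
    refine Groth.Agent.H9Misc.ProjCrit.cohbP_of_finite a.hom ha0 K hK fun d hd => ?_
    obtain ⟨e1⟩ := Groth.Agent.KFlatLib.nonempty_lpull_inD_of_flat a.hom (Twist.twistProjSpace n k (-(d : ℤ)))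
    obtain ⟨e2⟩ := Groth.Agent.H23.PicMul.cl_eq_iff.1 (DFunLike.congr_fun hcomp (Multiplicative.ofAdd (-(d : ℤ))))
    let e : (DCoh.Lpull a.hom).obj (Groth.Agent.H9Misc.PnCrit.O n k (-(d : ℤ))) ≅
        DCoh.inD PS (Twist.twistOver n (Spec (CommRingCat.of k)) (-(d : ℤ))) := e1 ≪≫ (DerivedCategory.singleFunctor PS.Modules 0).mapIso e2
    refine ⟨fun i => ?_, (h d hd).2.subset fun i (hi : Nontrivial _) => (key d i (hinv d).some).2.2 ?_⟩
    · haveI := (key d i (hinv d).some).1.1 ((h d hd).1 i)
      exact Module.Finite.equiv (Linear.homCongr k e.symm (Iso.refl _))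
    · haveI := hi
      exact (Linear.homCongr k e.symm (Iso.refl _)).toEquiv.nontrivial

end Groth.Agent.S6758
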