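import Groth.Statements.S6763
import Groth.Agent.FunMorK.Kernel

set_option autoImplicit false
set_option linter.style.haveILetI false
set_option backward.isDefEq.respectTransparency false
set_option backward.isDefEq.respectTransparency.types false
set_option maxHeartbeats 1000000
universe u
open CategoryTheory AlgebraicGeometry
attribute [local instance] HasDerivedCategory.standard
open FunMor

namespace Groth.Agent.S6763

/-- Let R be a ring, X and Y schemes over R with X affine, K a quasi-coherent O_{X ×_R Y}-module and F_K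
the functor M ↦ pr_{2,*}(pr_1^* M ⊗ K). Let g : Y' ⟶ Y be a flat morphism, view Y' over R through g,
and let h : X ×_R Y' ⟶ X ×_R Y be the morphism id_X × g (characterised by its two components). Then
g^* ∘ F_K is isomorphic, as a functor on quasi-coherent O_X-modules, to the functor M ↦
pr'_{2,*}(pr'^*_1 M ⊗ h^* K) attached to the quasi-coherent module h^* K on X ×_R Y'. (The case of
an open immersion g is a special case.) -/
theorem result
    (R : Type u) [CommRing R] (X Y : Scheme.{u}) [X.Over (Spec (.of R))] [Y.Over (Spec (.of R))] [IsAffine X]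
    (K : (Limits.pullback (X ↘ Spec (.of R)) (Y ↘ Spec (.of R))).Modules) (hK : Coh.IsQCoh K)
    {Y' : Scheme.{u}} (g : Y' ⟶ Y) [Flat g]
    (h : (Limits.pullback (X ↘ Spec (.of R)) (g ≫ (Y ↘ Spec (.of R)))) ⟶ (Limits.pullback (X ↘ Spec (.of R)) (Y ↘ Spec (.of R))))
    (hh₁ : h ≫ (Limits.pullback.fst (X ↘ Spec (.of R)) (Y ↘ Spec (.of R))) = (Limits.pullback.fst (X ↘ Spec (.of R)) (g ≫ (Y ↘ Spec (.of R))))) (hh₂ : h ≫ (Limits.pullback.snd (X ↘ Spec (.of R)) (Y ↘ Spec (.of R))) = (Limits.pullback.snd (X ↘ Spec (.of R)) (g ≫ (Y ↘ Spec (.of R)))) ≫ g) :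
    Nonempty ((ObjectProperty.ι (QCohCat.isQCoh X) ⋙ Scheme.Modules.pullback (Limits.pullback.fst (X ↘ Spec (.of R)) (Y ↘ Spec (.of R))) ⋙ DCoh.tensorRightMod K ⋙ Coh.push (Limits.pullback.snd (X ↘ Spec (.of R)) (Y ↘ Spec (.of R)))) ⋙ Scheme.Modules.pullback g ≅
      ObjectProperty.ι (QCohCat.isQCoh X) ⋙ (Scheme.Modules.pullback (Limits.pullback.fst (X ↘ Spec (.of R)) (g ≫ (Y ↘ Spec (.of R)))) ⋙ DCoh.tensorRightMod ((Scheme.Modules.pullback h).obj K) ⋙ Coh.push (Limits.pullback.snd (X ↘ Spec (.of R)) (g ≫ (Y ↘ Spec (.of R)))))) := by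
  haveI : IsAffineHom (X ↘ Spec (.of R)) := inferInstance
  haveI : IsAffineHom (Limits.pullback.snd (X ↘ Spec (.of R)) (Y ↘ Spec (.of R))) := MorphismProperty.pullback_snd _ _ ‹_›
  refine FunMorK.comp_right g _ h _ _ _ ?_ hh₁ K hK
  exact (IsPullback.of_bot (by rw [hh₁]; exact (IsPullback.of_hasPullback (X ↘ Spec (.of R)) (g ≫ (Y ↘ Spec (.of R)))).flip)
    hh₂.symm (IsPullback.of_hasPullback (X ↘ Spec (.of R)) (Y ↘ Spec (.of R))).flip).flip

end Groth.Agent.S6763
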