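import Groth.Statements.S6769
import Groth.Agent.Triage.EW

set_option autoImplicit false
universe u
open CategoryTheory CategoryTheory.Limits TensorProduct
open scoped ModuleCat.Algebra
open FunMor

namespace Groth.Agent.S6769

/-- Let R be a commutative ring and A, B commutative R-algebras; Mod_A and Mod_B are R-linear
categories. Suppose F, F' : Mod_A ⥤ Mod_B are R-linear functors, each of which preserves finite
colimits (so is right exact) and also preserves direct sums indexed by any set. Then: (i) there is
an A ⊗_R B-module K — a module over A and over B with commuting actions on which the two R-actions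
agree — and B-linear isomorphisms K ⊗_A M ≅ F(M) natural in the A-module M; (ii) a natural
transformation F ⟶ F' is determined by its component at A, and a B-linear map φ : F(A) ⟶ F'(A) is
the component at A of some natural transformation F ⟶ F' if and only if it commutes with the
A-actions, i.e. F(a · id_A) ≫ φ = φ ≫ F'(a · id_A) for all a ∈ A. (Together: K ↦ (- ⊗_A K) is an
equivalence from Mod_{A ⊗_R B} onto the category of such functors.) -/
theorem result
    (R : Type u) [CommRing R] (A B : Type u) [CommRing A] [CommRing B] [Algebra R A] [Algebra R B]
    (F F' : ModuleCat.{u} A ⥤ ModuleCat.{u} B) [F.Additive] [F.Linear R] [F'.Additive] [F'.Linear R]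
    [PreservesFiniteColimits F] [∀ J : Type u, PreservesColimitsOfShape (Discrete J) F]
    [PreservesFiniteColimits F'] [∀ J : Type u, PreservesColimitsOfShape (Discrete J) F'] :
    (∃ (K : Type u) (_ : AddCommGroup K) (_ : Module A K) (_ : Module B K) (_ : SMulCommClass A B K),
      (∀ (r : R) (x : K), algebraMap R A r • x = algebraMap R B r • x) ∧
      ∃ η : ∀ M : ModuleCat.{u} A, (K ⊗[A] M) ≃ₗ[B] F.obj M,
        ∀ (M N : ModuleCat.{u} A) (f : M ⟶ N) (x : K ⊗[A] M),
          η N (LinearMap.lTensor K f.hom x) = F.map f (η M x)) ∧
    (∀ t t' : F ⟶ F', t.app (ModuleCat.of A A) = t'.app (ModuleCat.of A A) → t = t') ∧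
    (∀ φ : F.obj (ModuleCat.of A A) ⟶ F'.obj (ModuleCat.of A A),
      (∃ t : F ⟶ F', t.app (ModuleCat.of A A) = φ) ↔
        ∀ a : A, F.map (a • 𝟙 (ModuleCat.of A A)) ≫ φ = φ ≫ F'.map (a • 𝟙 (ModuleCat.of A A))) := by
  open Triage.EW in
  refine ⟨?_, ?_, ?_⟩
  · obtain ⟨e, he⟩ := exists_tensor_repr F
    refine ⟨K F, inferInstance, inferInstance, inferInstance, inferInstance, fun r x => ?_, e, he⟩
    show ev F (ModuleCat.of A A) (algebraMap R A r) x = algebraMap R B r • x
    unfold ev
    have h1 := F.map_smul r (𝟙 (ModuleCat.of A A))
    rw [F.map_id] at h1
    have h2 := congrArg (fun ψ : F.obj (ModuleCat.of A A) ⟶ F.obj (ModuleCat.of A A) => ψ.hom x) h1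
    refine Eq.trans ?_ (h2.trans ?_)
    · refine congrArg (fun ψ : ModuleCat.of A A ⟶ ModuleCat.of A A => (F.map ψ).hom x) ?_
      apply ModuleCat.hom_ext
      ext
      simp [Algebra.algebraMap_eq_smul_one]
      exact ((Algebra.algebraMap_eq_smul_one r).symm.trans (mul_one _).symm)
    · rfl
  · intro t t' h
    apply NatTrans.ext
    funext M
    apply ModuleCat.hom_ext
    apply LinearMap.ext
    intro y
    obtain ⟨x, rfl⟩ := (bijective F M).2 y
    induction x using TensorProduct.induction_on with
    | zero => simp
    | add a b ha hb => simp only [map_add, ha, hb]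
    | tmul k m =>
      have n1 := congrArg (fun ψ => ψ.hom k) (t.naturality (ModuleCat.ofHom (LinearMap.toSpanSingleton A M m)))
      have n2 := congrArg (fun ψ => ψ.hom k) (t'.naturality (ModuleCat.ofHom (LinearMap.toSpanSingleton A M m)))
      simp only [ModuleCat.hom_comp, LinearMap.comp_apply] at n1 n2
      rw [η_tmul]
      refine n1.trans (Eq.trans ?_ n2.symm)
      rw [h]
  · intro φ
    constructor
    · rintro ⟨t, rfl⟩ a
      exact t.naturality _
    · intro hφ
      let φK : K F →ₗ[A] K F' :=
        { toFun := φ.hom
          map_add' := map_add φ.hom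
          map_smul' := fun a k => by
            have h1 := congrArg (fun ψ : F.obj (ModuleCat.of A A) ⟶ F'.obj (ModuleCat.of A A) => ψ.hom k) (hφ a)
            have e : (ModuleCat.ofHom (LinearMap.toSpanSingleton A A a) : ModuleCat.of A A ⟶ ModuleCat.of A A) =
                a • 𝟙 (ModuleCat.of A A) := by ext; exact ((smul_eq_mul _ _).trans (one_mul a)).trans (mul_one a).symm
            show φ.hom (ev F (ModuleCat.of A A) a k) = ev F' (ModuleCat.of A A) a (φ.hom k)
            unfold ev
            rw [e]
            exact h1 }
      let b : ∀ M : ModuleCat.{u} A, (K F ⊗[A] M) ≃+ F.obj M := fun M => AddEquiv.ofBijective (η F M) (bijective F M)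
      have hb : ∀ M y, η F M ((b M).symm y) = y := fun M y => (b M).apply_symm_apply y
      let app : ∀ M : ModuleCat.{u} A, F.obj M →+ F'.obj M := fun M =>
        (η F' M).comp ((LinearMap.rTensor M φK).toAddMonoidHom.comp (b M).symm.toAddMonoidHom)
      have happ : ∀ M x, app M (η F M x) = η F' M (LinearMap.rTensor M φK x) := fun M x => by
        show η F' M (LinearMap.rTensor M φK ((b M).symm ((b M) x))) = _
        rw [AddEquiv.symm_apply_apply]
      let t : F ⟶ F' :=
        { app := fun M => ModuleCat.ofHom
            { toFun := app M
              map_add' := map_add (app M)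
              map_smul' := fun c y => by
                obtain ⟨x, rfl⟩ := (bijective F M).2 y
                rw [RingHom.id_apply, show c • η F M x = η F M (c • x) from ((ηLin F M).map_smul c x).symm,
                  happ, happ]
                refine Eq.trans ?_ ((ηLin F' M).map_smul c _)
                refine congrArg (η F' M) ?_
                induction x using TensorProduct.induction_on with
                | zero => simp
                | add a b ha hb => simp only [smul_add, map_add, ha, hb]
                | tmul k m =>
                  rw [TensorProduct.smul_tmul', LinearMap.rTensor_tmul, LinearMap.rTensor_tmul, TensorProduct.smul_tmul']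
                  exact congrArg (fun z : K F' => z ⊗ₜ[A] m) (φ.hom.map_smul c k) }
          naturality := fun M N f => by
            apply ModuleCat.hom_ext
            apply LinearMap.ext
            intro y
            obtain ⟨x, rfl⟩ := (bijective F M).2 y
            show app N ((F.map f).hom (η F M x)) = (F'.map f).hom (app M (η F M x))
            rw [← η_natural, happ, happ, ← η_natural]
            congr 1
            induction x using TensorProduct.induction_on with
            | zero => simp
            | add a b ha hb => simp only [map_add, ha, hb]
            | tmul k m => simp }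
      refine ⟨t, ?_⟩
      apply ModuleCat.hom_ext
      apply LinearMap.ext
      intro k
      have h1 : ∀ (G : ModuleCat.{u} A ⥤ ModuleCat.{u} B) [G.Additive] (z : K G), η G (ModuleCat.of A A) (z ⊗ₜ (1 : A)) = z := by
        intro G _ z
        exact one_smul A z
      show app (ModuleCat.of A A) k = φ.hom k
      conv_lhs => rw [← h1 F k]
      rw [happ]
      exact h1 F' (φ.hom k)

end Groth.Agent.S6769
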