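import Groth.Statements.S6771
import Groth.Agent.FunMorK.Basic

set_option autoImplicit false
set_option linter.style.haveILetI false
set_option maxHeartbeats 1000000
set_option backward.isDefEq.respectTransparency false
set_option backward.isDefEq.respectTransparency.types false
universe u
open CategoryTheory AlgebraicGeometry
attribute [local instance] HasDerivedCategory.standard
open FunMor

namespace Groth.Agent.S6771

/-- The direction from kernels to functors: let R be a ring and X, Y schemes over R with X quasi-compact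
with affine diagonal, and let K be a quasi-coherent O_{X ×_R Y}-module which is flat over X and such
that R^q pr_{2,*}(pr_1^* M ⊗ K) = 0 for every quasi-coherent O_X-module M and every q > 0 (right
derived functors of pr_{2,*}; injective resolutions carried as a binder). Then the functor F_K : M ↦
pr_{2,*}(pr_1^* M ⊗ K), from quasi-coherent O_X-modules to O_Y-modules, is exact (preserves finite
limits and finite colimits) and commutes with arbitrary direct sums. -/
theorem result
    (R : Type u) [CommRing R] (X Y : Scheme.{u}) [X.Over (Spec (.of R))] [Y.Over (Spec (.of R))] [CompactSpace X] [IsAffineHom (Limits.pullback.diagonal (X ↘ Spec (.of R)))]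
    [HasInjectiveResolutions (Limits.pullback (X ↘ Spec (.of R)) (Y ↘ Spec (.of R))).Modules]
    (K : (Limits.pullback (X ↘ Spec (.of R)) (Y ↘ Spec (.of R))).Modules) (hK : Coh.IsQCoh K) (hKf : FlatMod.IsFlatOver (Limits.pullback.fst (X ↘ Spec (.of R)) (Y ↘ Spec (.of R))) K)
    (hKa : ∀ (M : X.Modules), Coh.IsQCoh M → ∀ q : ℕ, 0 < q →
      Limits.IsZero ((Coh.Rpush (Limits.pullback.snd (X ↘ Spec (.of R)) (Y ↘ Spec (.of R))) q).obj ((DCoh.tensorRightMod K).obj ((Scheme.Modules.pullback (Limits.pullback.fst (X ↘ Spec (.of R)) (Y ↘ Spec (.of R)))).obj M)))) :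
    Limits.PreservesFiniteLimits (ObjectProperty.ι (QCohCat.isQCoh X) ⋙ Scheme.Modules.pullback (Limits.pullback.fst (X ↘ Spec (.of R)) (Y ↘ Spec (.of R))) ⋙ DCoh.tensorRightMod K ⋙ Coh.push (Limits.pullback.snd (X ↘ Spec (.of R)) (Y ↘ Spec (.of R)))) ∧ Limits.PreservesFiniteColimits (ObjectProperty.ι (QCohCat.isQCoh X) ⋙ Scheme.Modules.pullback (Limits.pullback.fst (X ↘ Spec (.of R)) (Y ↘ Spec (.of R))) ⋙ DCoh.tensorRightMod K ⋙ Coh.push (Limits.pullback.snd (X ↘ Spec (.of R)) (Y ↘ Spec (.of R)))) ∧
      ∀ J : Type u, Limits.PreservesColimitsOfShape (Discrete J) (ObjectProperty.ι (QCohCat.isQCoh X) ⋙ Scheme.Modules.pullback (Limits.pullback.fst (X ↘ Spec (.of R)) (Y ↘ Spec (.of R))) ⋙ DCoh.tensorRightMod K ⋙ Coh.push (Limits.pullback.snd (X ↘ Spec (.of R)) (Y ↘ Spec (.of R)))) := by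
  haveI : QuasiCompact (X ↘ Spec (.of R)) := inferInstance
  haveI : QuasiCompact (Limits.pullback.snd (X ↘ Spec (.of R)) (Y ↘ Spec (.of R))) := MorphismProperty.pullback_snd _ _ ‹_›
  exact FunMorK.main_flat (p := (Limits.pullback.fst (X ↘ Spec (.of R)) (Y ↘ Spec (.of R)))) (Limits.pullback.snd (X ↘ Spec (.of R)) (Y ↘ Spec (.of R))) hKf hKa

end Groth.Agent.S6771
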