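import Groth.Statements.S6775


set_option autoImplicit false
set_option backward.isDefEq.respectTransparency false
set_option backward.isDefEq.respectTransparency.types false
open CategoryTheory CategoryTheory.Limits
universe v u
open CategoryTheory CategoryTheory.Abelian

namespace Groth.Agent.S6775

/-- In an abelian category a cartesian square whose bottom arrow `k` is an epimorphism is also
cocartesian, and the arrow `f` opposite to `k` is an epimorphism. -/
theorem result {A : Type u} [Category.{v} A] [Abelian A] {w x y z : A} (f : w ⟶ y) (g : w ⟶ x) (h : y ⟶ z) (k : x ⟶ z) (sq : IsPullback f g h k) [Epi k] : IsPushout f g h k ∧ Epi f := by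
  have hepi : Epi f := Abelian.epi_pullback_of_epi_g h k |> fun e => by
    rw [← sq.isoPullback_hom_fst]
    infer_instance
  refine ⟨⟨⟨sq.w⟩, ⟨PushoutCocone.IsColimit.mk _
    (fun s => Abelian.epiDesc k s.inr (by
      have hl : (kernel.ι k) = sq.lift 0 (kernel.ι k) (by simp) ≫ g := (sq.lift_snd _ _ _).symm
      rw [hl, Category.assoc, ← s.condition, sq.lift_fst_assoc, zero_comp]))
    (fun s => ?_) (fun s => Abelian.comp_epiDesc k _ _) (fun s m _ hm => ?_)⟩⟩, hepi⟩
  · rw [← cancel_epi f, reassoc_of% sq.w, Abelian.comp_epiDesc]
    exact s.condition.symm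
  · rw [← cancel_epi k, Abelian.comp_epiDesc]; exact hm

end Groth.Agent.S6775
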