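import Groth.Statements.S6776


set_option autoImplicit false
set_option backward.isDefEq.respectTransparency false
set_option backward.isDefEq.respectTransparency.types false
open CategoryTheory CategoryTheory.Limits
universe v u
open CategoryTheory CategoryTheory.Abelian

namespace Groth.Agent.S6776

/-- In an abelian category a cocartesian square whose left arrow `g` is a monomorphism is also
cartesian, and the arrow `h` opposite to `g` is a monomorphism. -/
theorem result {A : Type u} [Category.{v} A] [Abelian A] {w x y z : A} (f : w ⟶ y) (g : w ⟶ x) (h : y ⟶ z) (k : x ⟶ z) (sq : IsPushout f g h k) [Mono g] : IsPullback f g h k ∧ Mono h := by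
  have hmono : Mono h := by
    haveI := Abelian.mono_pushout_of_mono_g f g
    rw [← sq.inl_isoPushout_inv]
    infer_instance
  refine ⟨⟨⟨sq.w⟩, ⟨PullbackCone.IsLimit.mk _
    (fun s => Abelian.monoLift g s.snd (by
      have hl : (cokernel.π g) = k ≫ sq.desc 0 (cokernel.π g) (by simp) := (sq.inr_desc _ _ _).symm
      rw [hl, ← reassoc_of% s.condition, sq.inl_desc, comp_zero]))
    (fun s => ?_) (fun s => Abelian.monoLift_comp g _ _) (fun s m _ hm => ?_)⟩⟩, hmono⟩
  · rw [← cancel_mono h, Category.assoc, sq.w, Abelian.monoLift_comp_assoc]
    exact s.condition.symm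
  · rw [← cancel_mono g, Abelian.monoLift_comp]; exact hm

end Groth.Agent.S6776
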