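import Groth.Statements.S6778
import Mathlib.CategoryTheory.Abelian.Refinements
import Mathlib.CategoryTheory.Abelian.Exact

set_option autoImplicit false
set_option backward.isDefEq.respectTransparency false
set_option backward.isDefEq.respectTransparency.types false
open CategoryTheory CategoryTheory.Limits
universe v u
open CategoryTheory CategoryTheory.Abelian

namespace Groth.Agent.S6778

/-- For a commutative diagram with rows `x ⟶ y ⟶ z` and `u ⟶ v ⟶ w` in an abelian category, if the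
second row is exact and the second map `g` of the first row is an epimorphism, then the induced
sequence of cokernels of the vertical maps is exact. -/
theorem result {A : Type u} [Category.{v} A] [Abelian A] {x y z u' v' w : A} (f : x ⟶ y) (g : y ⟶ z) (k : u' ⟶ v') (l : v' ⟶ w) (α : x ⟶ u') (β : y ⟶ v') (γ : z ⟶ w) (h₁ : α ≫ k = f ≫ β) (h₂ : β ≫ l = g ≫ γ) (hkl : k ≫ l = 0) (hex : (ShortComplex.mk k l hkl).Exact) [Epi g] : ∃ hc : cokernel.map α β f k h₁ ≫ cokernel.map β γ g l h₂ = 0, (ShortComplex.mk _ _ hc).Exact := by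
  have hc : cokernel.map α β f k h₁ ≫ cokernel.map β γ g l h₂ = 0 := by
    ext
    simp [cokernel.map, reassoc_of% hkl]
  refine ⟨hc, ?_⟩
  rw [ShortComplex.exact_iff_exact_up_to_refinements]
  intro T t ht
  change t ≫ cokernel.map β γ g l h₂ = 0 at ht
  obtain ⟨T₁, π₁, _, b, hb⟩ := surjective_up_to_refinements_of_epi (cokernel.π β) t
  have hb' : (b ≫ l) ≫ cokernel.π γ = 0 := by
    have : (π₁ ≫ t) ≫ cokernel.map β γ g l h₂ = 0 := by simp [ht]
    rw [hb] at this
    simpa [cokernel.map] using this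
  obtain ⟨T₂, π₂, _, c, hcγ⟩ := (ShortComplex.exact_cokernel γ).exact_up_to_refinements (b ≫ l) hb'
  change π₂ ≫ b ≫ l = c ≫ γ at hcγ
  obtain ⟨T₃, π₃, _, d, hd⟩ := surjective_up_to_refinements_of_epi g c
  have hd' : (π₃ ≫ π₂ ≫ b - d ≫ β) ≫ l = 0 := by
    simp only [Preadditive.sub_comp, Category.assoc, hcγ, h₂, ← reassoc_of% hd, sub_self]
  obtain ⟨T₄, π₄, _, e, he⟩ := hex.exact_up_to_refinements _ hd'
  change π₄ ≫ (π₃ ≫ π₂ ≫ b - d ≫ β) = e ≫ k at he
  refine ⟨T₄, π₄ ≫ π₃ ≫ π₂ ≫ π₁, inferInstance, e ≫ cokernel.π α, ?_⟩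
  show (π₄ ≫ π₃ ≫ π₂ ≫ π₁) ≫ t = (e ≫ cokernel.π α) ≫ cokernel.map α β f k h₁
  simp only [cokernel.map, Category.assoc, cokernel.π_desc]
  rw [← reassoc_of% he, hb]
  simp

end Groth.Agent.S6778
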