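import Groth.Statements.S6779
import Groth.Agent.SimpGrp.Identities
import Mathlib.AlgebraicTopology.SimplicialSet.KanComplex

set_option autoImplicit false
set_option backward.isDefEq.respectTransparency false
set_option backward.isDefEq.respectTransparency.types false
open CategoryTheory
universe u
open SSet

namespace Groth.Agent.S6779

/-- The underlying simplicial set of a simplicial group is a Kan complex. -/
theorem result (X : SimplicialObject GrpCat.{u}) : SSet.KanComplex (X ⋙ forget GrpCat.{u}) := by
  let Y : SimplicialObject GrpCat.{u} := (Functor.const _).obj (GrpCat.of PUnit.{u + 1})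
  let f : X ⟶ Y :=
    { app := fun n => GrpCat.ofHom 1
      naturality := fun m n g => GrpCat.ext fun x => Subsingleton.elim (α := PUnit.{u + 1}) _ _ }
  have hJ := SimpGrp.rlp_J_grp f (fun n y => ⟨1, Subsingleton.elim (α := PUnit.{u + 1}) _ _⟩)
  have huniq : ∀ (Z : SSet.{u}) (p q : Z ⟶ (Y ⋙ forget GrpCat.{u} : SSet.{u})), p = q := fun Z p q => by
    ext n x
    exact Subsingleton.elim (α := PUnit.{u + 1}) _ _
  open SSet.modelCategoryQuillen in rw [SSet.KanComplex, HomotopicalAlgebra.isFibrant_iff, SSet.modelCategoryQuillen.fibration_iff]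
  intro A B g hg
  have hlift := hJ g hg
  refine ⟨fun {t b} sq => ?_⟩
  have sq' : CommSq t g (Functor.whiskerRight f (forget GrpCat.{u}))
      ({ app := fun n => ↾fun _ => PUnit.unit } : B ⟶ (Y ⋙ forget GrpCat.{u} : SSet.{u})) := ⟨huniq _ _ _⟩
  exact ⟨⟨{ l := sq'.lift, fac_left := sq'.fac_left, fac_right := Limits.terminal.hom_ext _ _ }⟩⟩

end Groth.Agent.S6779
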