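import Groth.Statements.S6781
import Groth.Agent.DescLib.TrivFib

set_option autoImplicit false
set_option backward.isDefEq.respectTransparency false
set_option backward.isDefEq.respectTransparency.types false
open CategoryTheory
universe u
open SSet

namespace Groth.Agent.S6781

/-- A degreewise surjective homomorphism of simplicial abelian groups inducing a quasi-isomorphism of
the associated chain complexes is a trivial Kan fibration of the underlying simplicial sets. -/
theorem result {X Y : SimplicialObject AddCommGrpCat.{u}} (f : X ⟶ Y) (hf : ∀ n : SimplexCategoryᵒᵖ, Function.Surjective (f.app n)) (hq : QuasiIso ((AlgebraicTopology.alternatingFaceMapComplex AddCommGrpCat.{u}).map f)) : SSet.modelCategoryQuillen.I.rlp (X := X ⋙ forget AddCommGrpCat.{u}) (Y := Y ⋙ forget AddCommGrpCat.{u}) (Functor.whiskerRight f (forget AddCommGrpCat.{u})) := by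
  haveI := hq
  exact DescLib.TrivFib.rlp_I f hf

end Groth.Agent.S6781
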