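import Groth.Statements.S6782
import Mathlib.AlgebraicTopology.SimplicialObject.Coskeletal
import Mathlib.AlgebraicTopology.SimplicialSet.Boundary

set_option autoImplicit false
set_option backward.isDefEq.respectTransparency false
set_option backward.isDefEq.respectTransparency.types false
open CategoryTheory Opposite
universe u
open SSet

namespace Groth.Agent.S6782

/-- A map of `n`-coskeletal simplicial sets which is bijective on simplices of dimension `< n` and
surjective on `n`-simplices is a trivial Kan fibration. -/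
theorem result {U V : SSet.{u}} (f : V ⟶ U) (n : ℕ) (h1 : ∀ i : ℕ, i < n → Function.Bijective (f.app (op (SimplexCategory.mk i)))) (h2 : Function.Surjective (f.app (op (SimplexCategory.mk n)))) [SimplicialObject.IsCoskeletal U n] [SimplicialObject.IsCoskeletal V n] : SSet.modelCategoryQuillen.I.rlp f := by
  intro A B g hg
  simp only [SSet.modelCategoryQuillen.I] at hg
  obtain ⟨m⟩ := hg
  refine ⟨fun {t b} sq => ?_⟩
  suffices ∃ x : SSet.stdSimplex.{u}.obj (SimplexCategory.mk m) ⟶ V, (SSet.boundary.{u} m).ι ≫ x = t ∧ x ≫ f = b by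
    obtain ⟨x, h₁, h₂⟩ := this
    exact ⟨⟨{ l := x, fac_left := h₁, fac_right := h₂ }⟩⟩
  rcases le_or_gt m n with hm | hm
  · have hs : Function.Surjective (f.app (op (SimplexCategory.mk m))) := by
      rcases hm.lt_or_eq with h | rfl
      · exact (h1 m h).2
      · exact h2
    obtain ⟨x, hx⟩ := hs (SSet.yonedaEquiv b)
    have hxb : SSet.yonedaEquiv.symm x ≫ f = b := by
      rw [SSet.yonedaEquiv_symm_comp, hx, Equiv.symm_apply_apply]
    refine ⟨SSet.yonedaEquiv.symm x, ?_, hxb⟩
    obtain _ | k := m
    · exact SSet.boundary.hom_ext₀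
    refine SSet.boundary.hom_ext fun i => SSet.yonedaEquiv.injective ?_
    refine (h1 k (by omega)).1 ?_
    have hy : ∀ φ : SSet.stdSimplex.{u}.obj (SimplexCategory.mk k) ⟶ V,
        f.app (op (SimplexCategory.mk k)) (SSet.yonedaEquiv φ) = SSet.yonedaEquiv (φ ≫ f) := fun φ => rfl
    rw [hy, hy, Category.assoc, Category.assoc, Category.assoc, hxb, sq.w]
  · let incl := (SimplexCategory.Truncated.inclusion n).op
    have hlt : ∀ a : (SimplexCategory.Truncated n)ᵒᵖ, a.unop.obj.len < m :=
      fun a => lt_of_le_of_lt a.unop.property hm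
    have hmem : ∀ (a : (SimplexCategory.Truncated n)ᵒᵖ) (s : (SSet.stdSimplex.{u}.obj (SimplexCategory.mk m)).obj (incl.obj a)),
        s ∈ (SSet.boundary.{u} m).obj (incl.obj a) := fun a s => by
      exact (SSet.boundary_obj_eq_univ a.unop.obj.len m (hlt a)).symm ▸ Set.mem_univ s
    let β : incl ⋙ SSet.stdSimplex.{u}.obj (SimplexCategory.mk m) ⟶ incl ⋙ V :=
      { app := fun a => ↾fun s => t.app _ ⟨s, hmem a s⟩
        naturality := fun a a' φ => by
          ext s
          exact NatTrans.naturality_apply t (incl.map φ) ⟨s, hmem a s⟩ }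
    let x := V.liftOfIsRightKanExtension (𝟙 ((SimplexCategory.Truncated.inclusion n).op ⋙ V)) _ β
    have hx : ∀ a s, x.app _ s = β.app a s := fun a s => by
      have := V.liftOfIsRightKanExtension_fac_app (𝟙 ((SimplexCategory.Truncated.inclusion n).op ⋙ V)) _ β a
      rw [NatTrans.id_app] at this
      exact ConcreteCategory.congr_hom ((Category.comp_id _).symm.trans this) s
    refine ⟨x, ?_, ?_⟩
    · refine V.hom_ext_of_isRightKanExtension (𝟙 ((SimplexCategory.Truncated.inclusion n).op ⋙ V)) _ _ ?_
      ext a s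
      exact hx a s.1
    · refine U.hom_ext_of_isRightKanExtension (𝟙 ((SimplexCategory.Truncated.inclusion n).op ⋙ U)) _ _ ?_
      ext a s
      exact (congrArg (f.app _) (hx a s)).trans
        (ConcreteCategory.congr_hom (NatTrans.congr_app sq.w _) ⟨s, hmem a s⟩)

end Groth.Agent.S6782
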