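import Groth.Statements.S6784
import Groth.Agent.StdCosk.Basic

set_option autoImplicit false
set_option backward.isDefEq.respectTransparency false
set_option backward.isDefEq.respectTransparency.types false
open CategoryTheory
universe u
open SSet

namespace Groth.Agent.S6784

/-- The standard simplex `Δ[n]` is `1`-coskeletal, i.e. it is the right Kan extension of its
`1`-truncation. -/
theorem result (n : ℕ) : SimplicialObject.IsCoskeletal (SSet.stdSimplex.{u}.obj (SimplexCategory.mk n)) 1 := by
  exact Groth.Agent.StdCosk.isCoskeletal n

end Groth.Agent.S6784
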