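import Groth.Statements.S6785
import Mathlib.AlgebraicTopology.SimplicialSet.Homotopy
import Mathlib.AlgebraicTopology.SimplicialSet.CategoryWithFibrations

set_option autoImplicit false
set_option backward.isDefEq.respectTransparency false
set_option backward.isDefEq.respectTransparency.types false
open CategoryTheory
universe u
open SSet

namespace Groth.Agent.S6785

/-- A trivial Kan fibration `f : X ⟶ Y` of simplicial sets is a homotopy equivalence; more precisely it
has a section `g`, and `g ∘ f` is homotopic to the identity of `X` by a single homotopy in each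
direction. (The published statement only asserts a homotopy equivalence; the section and the
one-step homotopies are what its proof constructs.) -/
theorem result {X Y : SSet.{u}} (f : X ⟶ Y) (hf : SSet.modelCategoryQuillen.I.rlp f) : ∃ g : Y ⟶ X, g ≫ f = 𝟙 Y ∧ Nonempty (SSet.Homotopy (𝟙 X) (f ≫ g)) ∧ Nonempty (SSet.Homotopy (f ≫ g) (𝟙 X)) := by
  open MonoidalCategory CartesianMonoidalCategory in
  classical
  rw [← SSet.rlp_monomorphisms] at hf
  have sect : ∃ g : Y ⟶ X, g ≫ f = 𝟙 Y := by
    haveI : Mono (⊥ : Y.Subcomplex).ι := inferInstance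
    haveI := hf (⊥ : Y.Subcomplex).ι (MorphismProperty.monomorphisms.infer_property _)
    have sq : CommSq (SSet.Subcomplex.isInitialBot.to X) (⊥ : Y.Subcomplex).ι f (𝟙 Y) :=
      ⟨SSet.Subcomplex.isInitialBot.hom_ext _ _⟩
    exact ⟨sq.lift, sq.fac_right⟩
  obtain ⟨g, hg⟩ := sect
  have hom : ∀ p q : X ⟶ X, p ≫ f = q ≫ f → Nonempty (SSet.Homotopy p q) := by
    intro p q hpq
    let c : Fin 2 → ∀ n : SimplexCategoryᵒᵖ, (SSet.stdSimplex.{u}.obj (SimplexCategory.mk 1)).obj n :=
      fun e n => SSet.stdSimplex.const 1 e n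
    have hc : ∀ n, c 0 n ≠ c 1 n := fun n h => by
      have := congrArg (fun z => SSet.stdSimplex.asOrderHom z (0 : Fin (n.unop.len + 1))) h
      have h01 : (0 : Fin 2) = 1 := this
      exact absurd h01 (by decide)
    let A : (X ⊗ SSet.stdSimplex.{u}.obj (SimplexCategory.mk 1)).Subcomplex :=
      { obj := fun n => Set.ofPred (fun z => z.2 = c 0 n ∨ z.2 = c 1 n)
        map := fun {n m} φ z hz => by
          rcases hz with h | h
          · exact Or.inl ((congrArg ((SSet.stdSimplex.{u}.obj (SimplexCategory.mk 1)).map φ) h).trans rfl)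
          · exact Or.inr ((congrArg ((SSet.stdSimplex.{u}.obj (SimplexCategory.mk 1)).map φ) h).trans rfl) }
    let a : (A : SSet.{u}) ⟶ X :=
      { app := fun n => ↾fun z => if z.1.2 = c 0 n then p.app n z.1.1 else q.app n z.1.1
        naturality := fun n m φ => by
          ext z
          obtain ⟨⟨z₁, z₂⟩, hz⟩ := z
          show (if (SSet.stdSimplex.{u}.obj (SimplexCategory.mk 1)).map φ z₂ = c 0 m then p.app m (X.map φ z₁)
              else q.app m (X.map φ z₁)) = X.map φ (if z₂ = c 0 n then p.app n z₁ else q.app n z₁)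
          rcases hz with h | h
          · simp only at h
            rw [if_pos h, if_pos (show (SSet.stdSimplex.{u}.obj (SimplexCategory.mk 1)).map φ z₂ = c 0 m by
              rw [h]; rfl)]
            exact NatTrans.naturality_apply p φ z₁
          · simp only at h
            rw [if_neg (show ¬ z₂ = c 0 n from h ▸ (hc n).symm),
              if_neg (show ¬ (SSet.stdSimplex.{u}.obj (SimplexCategory.mk 1)).map φ z₂ = c 0 m from
                h ▸ (hc m).symm)]
            exact NatTrans.naturality_apply q φ z₁ }
    haveI := hf A.ι (MorphismProperty.monomorphisms.infer_property _)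
    have sq : CommSq a A.ι f (fst X (SSet.stdSimplex.{u}.obj (SimplexCategory.mk 1)) ≫ p ≫ f) := ⟨by
      ext n z
      obtain ⟨⟨z₁, z₂⟩, hz⟩ := z
      show f.app n (if z₂ = c 0 n then p.app n z₁ else q.app n z₁) = f.app n (p.app n z₁)
      split
      · rfl
      · exact (ConcreteCategory.congr_hom (NatTrans.congr_app hpq n) z₁).symm⟩
    refine ⟨{ h := sq.lift, h₀ := ?_, h₁ := ?_, rel := ?_ }⟩
    · have : (SSet.ι₀ : X ⟶ X ⊗ _) = SSet.Subcomplex.lift (B := A) SSet.ι₀ (by
          intro n z hz
          obtain ⟨x, rfl⟩ := hz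
          exact Or.inl rfl) ≫ A.ι := rfl
      rw [this, Category.assoc, sq.fac_left]
      ext n x
      exact if_pos rfl
    · have : (SSet.ι₁ : X ⟶ X ⊗ _) = SSet.Subcomplex.lift (B := A) SSet.ι₁ (by
          intro n z hz
          obtain ⟨x, rfl⟩ := hz
          exact Or.inr rfl) ≫ A.ι := rfl
      rw [this, Category.assoc, sq.fac_left]
      ext n x
      exact if_neg (hc n).symm
    · ext n z
      exact ((Set.mem_empty_iff_false _).1 z.1.2).elim
  exact ⟨g, hg, hom _ _ (by rw [Category.assoc, hg, Category.comp_id, Category.id_comp]),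
    hom _ _ (by rw [Category.assoc, hg, Category.comp_id, Category.id_comp])⟩

end Groth.Agent.S6785
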