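import Groth.Statements.S6786
import Mathlib
import Groth.Agent.H9Misc.MLSeq

set_option autoImplicit false
open CategoryTheory CategoryTheory.Limits
universe u
open HomAlg3

namespace Groth.Agent.S6786

/-- For a sequence `(A_i) ⟶ (B_i) ⟶ (C_i) ⟶ (D_i)` of inverse systems of abelian groups over `ℕ` that is
exact levelwise at the two middle places, if `(A_i)` is Mittag-Leffler then `lim B_i ⟶ lim C_i ⟶ lim
D_i` is exact. -/
theorem result {A B C D : ℕᵒᵖ ⥤ AddCommGrpCat.{u}} (a : A ⟶ B) (b : B ⟶ C) (c : C ⟶ D) (hB : ∀ i, (b.app i).hom.ker = (a.app i).hom.range) (hC : ∀ i, (c.app i).hom.ker = (b.app i).hom.range) (hA : (A ⋙ forget AddCommGrpCat).IsMittagLeffler) : (limMap c).hom.ker = (limMap b).hom.range := by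
  ext z
  constructor
  · intro hz
    refine Groth.Agent.H9Misc.MLSeq.exists_lift a b hB hA z (fun i => ?_)
    rw [← hC]
    refine (ConcreteCategory.congr_hom (limMap_π c i) z).symm.trans ?_
    exact (congrArg (limit.π D i) hz).trans (map_zero (limit.π D i).hom)
  · rintro ⟨y, rfl⟩
    rw [AddMonoidHom.mem_ker]
    refine Concrete.limit_ext _ _ _ fun i => ?_
    refine (ConcreteCategory.congr_hom (limMap_π c i) _).trans ?_
    refine Eq.trans ?_ (map_zero (limit.π D i).hom).symm
    refine (congrArg (c.app i) (ConcreteCategory.congr_hom (limMap_π b i) y)).trans ?_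
    rw [← AddMonoidHom.mem_ker]
    exact (hC i).symm ▸ ⟨_, rfl⟩

end Groth.Agent.S6786
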