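import Groth.Statements.S6787
import Mathlib
import Groth.Agent.H9Misc.MLSeq

set_option autoImplicit false
open CategoryTheory CategoryTheory.Limits
universe u
open HomAlg3

namespace Groth.Agent.S6787

/-- Take inverse systems `(A_i)`, `(B_i)`, `(C_i)` of abelian groups over `ℕ`, with morphisms of systems
`(A_i) ⟶ (B_i) ⟶ (C_i)` that give a short exact sequence at every index, and suppose `(C_i)` is
essentially constant. Then `(A_i)` is Mittag-Leffler if and only if `(B_i)` is. -/
theorem result {A B C : ℕᵒᵖ ⥤ AddCommGrpCat.{u}} (a : A ⟶ B) (b : B ⟶ C) (ha : ∀ i, Function.Injective (a.app i).hom) (hb : ∀ i, Function.Surjective (b.app i).hom) (hex : ∀ i, (b.app i).hom.ker = (a.app i).hom.range) (hC : ∃ (C₀ : AddCommGrpCat.{u}) (c : (Functor.const ℕᵒᵖ).obj C₀ ⟶ C), DerCA.IsEssConstant C C₀ c) : (A ⋙ forget AddCommGrpCat).IsMittagLeffler ↔ (B ⋙ forget AddCommGrpCat).IsMittagLeffler := by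
  obtain ⟨C₀, c, i, s, hcs, hs⟩ := hC
  have hCML : (C ⋙ forget AddCommGrpCat).IsMittagLeffler := by
    rintro ⟨n⟩
    obtain ⟨k, hik, hnk, hk⟩ := hs n
    refine ⟨Opposite.op k, (homOfLE hnk).op, ?_⟩
    rintro ⟨l⟩ g
    rintro _ ⟨x, rfl⟩
    refine ⟨c.app (Opposite.op l) (s ((C.map (homOfLE hik).op) x)), ?_⟩
    exact (ConcreteCategory.congr_hom (c.naturality g) _).symm.trans
      (ConcreteCategory.congr_hom hk x).symm
  refine ⟨fun hA => Groth.Agent.H9Misc.MLSeq.ml_middle a b ha hb hex hA hCML, fun hB => ?_⟩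
  rintro ⟨n⟩
  obtain ⟨m, hm, hm'⟩ := Groth.Agent.TowerLib.ml_apply B hB (max n i)
  refine ⟨Opposite.op m, (homOfLE ((le_max_left n i).trans hm)).op, ?_⟩
  rintro ⟨l⟩ g
  rintro _ ⟨x, rfl⟩
  let L := max l (max n i)
  obtain ⟨k, hik, hLk, hk⟩ := hs L
  obtain ⟨y, hy⟩ := hm' (a.app (Opposite.op m) x) k ((le_max_right l (max n i)).trans hLk)
  have e₀ : ∀ {p q : ℕ} (h : p ≤ q) (z : B.obj (Opposite.op q)),
      (C.map (homOfLE h).op) (b.app _ z) = b.app _ ((B.map (homOfLE h).op) z) := fun h z =>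
    (ConcreteCategory.congr_hom (b.naturality (homOfLE h).op) z).symm
  have e₁ : ∀ {p q : ℕ} (h : p ≤ q) (z : A.obj (Opposite.op q)),
      (B.map (homOfLE h).op) (a.app _ z) = a.app _ ((A.map (homOfLE h).op) z) := fun h z =>
    (ConcreteCategory.congr_hom (a.naturality (homOfLE h).op) z).symm
  have hi0 : (C.map (homOfLE hik).op) (b.app _ y) = 0 := by
    rw [e₀]
    have : (B.map (homOfLE hik).op) y =
        (B.map (homOfLE ((le_max_right n i).trans hm)).op) (a.app _ x) := by
      refine (Groth.Agent.TowerLib.tr_tr B (le_max_right n i)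
        ((le_max_right l (max n i)).trans hLk) hik y).symm.trans ?_
      exact (congrArg _ hy).trans (Groth.Agent.TowerLib.tr_tr B _ hm _ _)
    rw [this, e₁]
    exact (AddMonoidHom.mem_ker).1 ((hex _).symm ▸ ⟨_, rfl⟩)
  have hL0 : b.app _ ((B.map (homOfLE hLk).op) y) = 0 := by
    rw [← e₀]
    refine (ConcreteCategory.congr_hom hk _).trans ?_
    exact (congrArg (fun w => c.app _ (s w)) hi0).trans
      ((congrArg _ (map_zero s.hom)).trans (map_zero (c.app _).hom))
  obtain ⟨x', hx'⟩ : (B.map (homOfLE hLk).op) y ∈ (a.app (Opposite.op L)).hom.range := by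
    rw [← hex]; exact hL0
  refine ⟨(A.map (homOfLE (le_max_left l (max n i))).op) x', ?_⟩
  have key : (A.map (homOfLE (le_max_right l (max n i))).op) x' = (A.map (homOfLE hm).op) x := by
    apply ha
    refine (e₁ _ x').symm.trans ((congrArg _ hx').trans ?_)
    exact (Groth.Agent.TowerLib.tr_tr B _ hLk _ y).trans (hy.trans (e₁ hm x))
  refine (Groth.Agent.TowerLib.tr_tr A (leOfHom g.unop) (le_max_left l (max n i))
    ((le_max_left n i).trans (le_max_right l (max n i))) x').trans ?_
  refine (Groth.Agent.TowerLib.tr_tr A (le_max_left n i) (le_max_right l (max n i))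
    ((le_max_left n i).trans (le_max_right l (max n i))) x').symm.trans ?_
  exact (congrArg _ key).trans (Groth.Agent.TowerLib.tr_tr A _ hm _ x)

end Groth.Agent.S6787
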