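import Groth.Statements.S6788
import Mathlib.CategoryTheory.Localization.CalculusOfFractions

set_option autoImplicit false
set_option backward.isDefEq.respectTransparency false
set_option backward.isDefEq.respectTransparency.types false
open CategoryTheory CategoryTheory.Limits
universe v u v' u'
open CategoryTheory CategoryTheory.Localization

namespace Groth.Agent.S6788

/-- For a multiplicative system `W` (left and right calculus of fractions) in a preadditive category
with a zero object and its localization functor `L`, an object `X` becomes zero in the localization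
iff some zero map out of `X` lies in `W`, iff some zero map into `X` lies in `W`. (The published
statement assumes the category additive; only the zero object and the preadditive structure are
used.) -/
theorem result {C : Type u} [Category.{v} C] [Preadditive C] [HasZeroObject C] {D : Type u'} [Category.{v'} D] (L : C ⥤ D) (W : MorphismProperty C) [W.HasLeftCalculusOfFractions] [W.HasRightCalculusOfFractions] [L.IsLocalization W] (X : C) : (IsZero (L.obj X) ↔ ∃ Y : C, W (0 : X ⟶ Y)) ∧ (IsZero (L.obj X) ↔ ∃ Z : C, W (0 : Z ⟶ X)) := by
  obtain ⟨Z0, hZ0⟩ := (inferInstance : HasZeroObject C).zero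
  have hZ : IsZero (L.obj Z0) := by
    haveI : L.EssSurj := Localization.essSurj L W
    have hrefl : ∀ Y : C, Unique (L.obj Z0 ⟶ L.obj Y) := fun Y =>
      { default := L.map 0
        uniq := fun φ => by
          obtain ⟨α, hα⟩ := Localization.exists_leftFraction L W φ
          subst hα
          haveI := Localization.inverts L W α.s α.hs
          rw [← cancel_mono (L.map α.s)]
          rw [MorphismProperty.LeftFraction.map_comp_map_s, ← L.map_comp]
          exact congrArg L.map (hZ0.eq_of_src _ _) }
    have hrefr : ∀ Y : C, Unique (L.obj Y ⟶ L.obj Z0) := fun Y =>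
      { default := L.map 0
        uniq := fun φ => by
          obtain ⟨α, hα⟩ := Localization.exists_rightFraction L W φ
          subst hα
          haveI := Localization.inverts L W α.s α.hs
          rw [← cancel_epi (L.map α.s)]
          rw [MorphismProperty.RightFraction.map_s_comp_map, ← L.map_comp]
          exact congrArg L.map (hZ0.eq_of_tgt _ _) }
    exact ⟨fun T => ⟨{ default := (hrefl (L.objPreimage T)).default ≫ (L.objObjPreimageIso T).hom
                       uniq := fun φ => by
                         have := (hrefl (L.objPreimage T)).uniq (φ ≫ (L.objObjPreimageIso T).inv)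
                         rw [← this, Category.assoc, Iso.inv_hom_id, Category.comp_id] }⟩,
      fun T => ⟨{ default := (L.objObjPreimageIso T).inv ≫ (hrefr (L.objPreimage T)).default
                  uniq := fun φ => by
                    have := (hrefr (L.objPreimage T)).uniq ((L.objObjPreimageIso T).hom ≫ φ)
                    rw [← this, Iso.inv_hom_id_assoc] }⟩⟩
  have key : IsZero (L.obj X) ↔ L.map (𝟙 X) = L.map (0 : X ⟶ X) := by
    refine ⟨fun h => h.eq_of_src _ _, fun h => ?_⟩
    have hfac : L.map (0 : X ⟶ Z0) ≫ L.map (0 : Z0 ⟶ X) = 𝟙 (L.obj X) := by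
      rw [← L.map_comp, zero_comp, ← h, L.map_id]
    refine hZ.of_iso ⟨L.map (0 : X ⟶ Z0), L.map (0 : Z0 ⟶ X), hfac, hZ.eq_of_src _ _⟩
  constructor
  · rw [key, MorphismProperty.map_eq_iff_postcomp L W]
    constructor
    · rintro ⟨Y, s, hs, h⟩
      rw [Category.id_comp, zero_comp] at h
      exact ⟨Y, h ▸ hs⟩
    · rintro ⟨Y, hY⟩
      exact ⟨Y, 0, hY, by simp⟩
  · rw [key, MorphismProperty.map_eq_iff_precomp L W]
    constructor
    · rintro ⟨Y, s, hs, h⟩
      rw [Category.comp_id, comp_zero] at h
      exact ⟨Y, h ▸ hs⟩
    · rintro ⟨Y, hY⟩
      exact ⟨Y, 0, hY, by simp⟩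

end Groth.Agent.S6788
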