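import Groth.Statements.S6789
import Groth.Agent.CechHtpy.Basic

set_option autoImplicit false
set_option backward.isDefEq.respectTransparency false
set_option backward.isDefEq.respectTransparency.types false
open CategoryTheory CategoryTheory.Limits
universe v u
open CategoryTheory CategoryTheory.SimplicialObject

namespace Groth.Agent.S6789

/-- For a morphism `f : Y ⟶ X` with a section `s`, the endomorphism of the Čech nerve of `f` (the
simplicial object of iterated fibre products of `Y` over `X`) that applies `s ∘ f` factorwise admits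
simplicial homotopies to and from the identity: the published formula gives one direction and its
mirror image (exchange the roles of the identity and `s ∘ f`) gives the other. -/
theorem result {C : Type u} [Category.{v} C] {Y X : C} (f : Y ⟶ X) (s : X ⟶ Y) (hs : s ≫ f = 𝟙 X) [∀ n : ℕ, HasWidePullback (Arrow.mk f).right (fun _ : Fin (n + 1) => (Arrow.mk f).left) (fun _ => (Arrow.mk f).hom)] (φ : Arrow.mk f ⟶ Arrow.mk f) (hφl : φ.left = f ≫ s) (hφr : φ.right = 𝟙 X) : Nonempty (SimplicialObject.Homotopy (𝟙 (Arrow.mk f).cechNerve) (Arrow.mapCechNerve φ)) ∧ Nonempty (SimplicialObject.Homotopy (Arrow.mapCechNerve φ) (𝟙 (Arrow.mk f).cechNerve)) := by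
  have h1 : (Arrow.mapCechNerve (𝟙 (Arrow.mk f)) : (Arrow.mk f).cechNerve ⟶ _) = 𝟙 _ := by
    ext n
    refine WidePullback.hom_ext _ _ _ (fun k => ?_) ?_
    · exact (WidePullback.lift_π _ _ _ _ _).trans ((Category.comp_id _).trans (Category.id_comp _).symm)
    · exact (WidePullback.lift_base _ _ _ _).trans ((Category.comp_id _).trans (Category.id_comp _).symm)
  have hb : φ.left ≫ (Arrow.mk f).hom = (Arrow.mk f).hom := by
    rw [hφl]
    show (f ≫ s) ≫ f = f
    rw [Category.assoc, hs, Category.comp_id]
  have ha : (𝟙 (Arrow.mk f) : Arrow.mk f ⟶ Arrow.mk f).left ≫ (Arrow.mk f).hom = (Arrow.mk f).hom :=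
    Category.id_comp _
  rw [← h1]
  exact ⟨⟨Groth.Agent.CechHtpy.homotopy _ _ _ ha hb _ φ rfl rfl rfl hφr⟩,
    ⟨Groth.Agent.CechHtpy.homotopy _ _ _ hb ha φ _ rfl rfl hφr rfl⟩⟩

end Groth.Agent.S6789
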