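import Groth.Statements.S6790
import Mathlib.CategoryTheory.Monoidal.Rigid.Basic
import Mathlib.Tactic.CategoryTheory.Monoidal.Basic

set_option autoImplicit false
set_option backward.isDefEq.respectTransparency false
set_option backward.isDefEq.respectTransparency.types false
open CategoryTheory CategoryTheory.Limits MonoidalCategory
universe v u
open CategoryTheory CategoryTheory.Monoidal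

namespace Groth.Agent.S6790

/-- In an idempotent-complete additive monoidal category, a direct summand of an object admitting a dual
(with coevaluation `𝟙_ A ⟶ X ⊗ Y` and evaluation `Y ⊗ X ⟶ 𝟙_ A`) again admits such a dual. -/
theorem result {A : Type u} [Category.{v} A] [Preadditive A] [HasFiniteBiproducts A] [MonoidalCategory A] [MonoidalPreadditive A] [IsIdempotentComplete A] {X X₁ : A} (i : X₁ ⟶ X) (p : X ⟶ X₁) (hip : i ≫ p = 𝟙 X₁) [HasRightDual X] : Nonempty (HasRightDual X₁) := by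
  let q : X ⟶ X := p ≫ i
  have hq : q ≫ q = q := by simp [q, reassoc_of% hip]
  obtain ⟨Y₁, j, r, hjr, hrj⟩ := IsIdempotentComplete.idempotents_split (Xᘁ) (qᘁ) (by rw [← comp_rightAdjointMate, hq])
  refine ⟨@HasRightDual.mk _ _ _ X₁ Y₁
    { coevaluation' := η_ X (Xᘁ) ≫ p ▷ Xᘁ ≫ X₁ ◁ r
      evaluation' := j ▷ X₁ ≫ (Xᘁ : A) ◁ i ≫ ε_ X (Xᘁ)
      coevaluation_evaluation' := ?_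
      evaluation_coevaluation' := ?_ }⟩
  · calc
      _ = 𝟙 _ ⊗≫ Y₁ ◁ η_ X (Xᘁ) ⊗≫ (Y₁ ◁ p) ▷ (Xᘁ : A) ⊗≫
          ((Y₁ ⊗ X₁) ◁ r ≫ (j ▷ X₁ ≫ (Xᘁ : A) ◁ i ≫ ε_ X (Xᘁ)) ▷ Y₁) := by monoidal
      _ = 𝟙 _ ⊗≫ Y₁ ◁ η_ X (Xᘁ) ⊗≫ ((Y₁ ◁ p ≫ j ▷ X₁) ≫ (Xᘁ : A) ◁ i ≫ ε_ X (Xᘁ)) ▷ (Xᘁ : A) ⊗≫
          (𝟙_ A) ◁ r := by rw [whisker_exchange]; monoidal
      _ = 𝟙 _ ⊗≫ (Y₁ ◁ η_ X (Xᘁ) ≫ j ▷ (X ⊗ Xᘁ)) ⊗≫ (Xᘁ : A) ◁ (q ▷ (Xᘁ : A)) ⊗≫ ε_ X (Xᘁ) ▷ (Xᘁ : A) ⊗≫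
          (𝟙_ A) ◁ r := by rw [whisker_exchange]; simp only [q]; monoidal
      _ = 𝟙 _ ⊗≫ j ▷ 𝟙_ A ⊗≫ (Xᘁ : A) ◁ (η_ X (Xᘁ) ≫ q ▷ (Xᘁ : A)) ⊗≫ ε_ X (Xᘁ) ▷ (Xᘁ : A) ⊗≫
          (𝟙_ A) ◁ r := by rw [whisker_exchange]; monoidal
      _ = 𝟙 _ ⊗≫ j ▷ 𝟙_ A ⊗≫ (Xᘁ : A) ◁ η_ X (Xᘁ) ⊗≫ ((Xᘁ ⊗ X) ◁ (qᘁ) ≫ ε_ X (Xᘁ) ▷ (Xᘁ : A)) ⊗≫
          (𝟙_ A) ◁ r := by rw [← coevaluation_comp_rightAdjointMate]; monoidal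
      _ = 𝟙 _ ⊗≫ j ▷ 𝟙_ A ⊗≫ ((Xᘁ : A) ◁ η_ X (Xᘁ) ⊗≫ ε_ X (Xᘁ) ▷ (Xᘁ : A)) ⊗≫ (𝟙_ A) ◁ ((qᘁ) ≫ r) := by
          rw [whisker_exchange]; monoidal
      _ = 𝟙 _ ⊗≫ (j ≫ r ≫ j ≫ r) ▷ 𝟙_ A ⊗≫ 𝟙 _ := by
          rw [ExactPairing.coevaluation_evaluation'', ← hrj]; monoidal
      _ = _ := by rw [reassoc_of% hjr, hjr]; monoidal
  · calc
      _ = 𝟙 _ ⊗≫ η_ X (Xᘁ) ▷ X₁ ⊗≫ p ▷ (Xᘁ : A) ▷ X₁ ⊗≫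
          X₁ ◁ ((r ≫ j) ▷ X₁ ≫ (Xᘁ : A) ◁ i ≫ ε_ X (Xᘁ)) ⊗≫ 𝟙 _ := by monoidal
      _ = 𝟙 _ ⊗≫ η_ X (Xᘁ) ▷ X₁ ⊗≫ p ▷ (Xᘁ : A) ▷ X₁ ⊗≫
          X₁ ◁ ((Xᘁ : A) ◁ i ≫ ε_ X (Xᘁ)) ⊗≫ 𝟙 _ := by
          rw [hrj, ← whisker_exchange_assoc, rightAdjointMate_comp_evaluation, ← whiskerLeft_comp_assoc,
            show i ≫ q = i by simp [q, reassoc_of% hip]]
      _ = 𝟙 _ ⊗≫ η_ X (Xᘁ) ▷ X₁ ⊗≫ (p ▷ ((Xᘁ : A) ⊗ X₁) ≫ X₁ ◁ ((Xᘁ : A) ◁ i)) ⊗≫ X₁ ◁ ε_ X (Xᘁ) ⊗≫ 𝟙 _ := by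
          monoidal
      _ = 𝟙 _ ⊗≫ (η_ X (Xᘁ) ▷ X₁ ≫ (X ⊗ Xᘁ) ◁ i) ⊗≫ (p ▷ ((Xᘁ : A) ⊗ X) ≫ X₁ ◁ ε_ X (Xᘁ)) ⊗≫ 𝟙 _ := by
          rw [← whisker_exchange]; monoidal
      _ = 𝟙 _ ⊗≫ (𝟙_ A ◁ i ≫ η_ X (Xᘁ) ▷ X) ⊗≫ (X ◁ ε_ X (Xᘁ) ≫ p ▷ 𝟙_ A) ⊗≫ 𝟙 _ := by
          rw [← whisker_exchange, ← whisker_exchange]
      _ = 𝟙 _ ⊗≫ (𝟙_ A) ◁ i ⊗≫ (η_ X (Xᘁ) ▷ X ⊗≫ X ◁ ε_ X (Xᘁ)) ⊗≫ p ▷ 𝟙_ A ⊗≫ 𝟙 _ := by monoidal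
      _ = 𝟙 _ ⊗≫ (𝟙_ A) ◁ (i ≫ p) ⊗≫ 𝟙 _ := by
          rw [ExactPairing.evaluation_coevaluation'']; monoidal
      _ = _ := by rw [hip]; monoidal

end Groth.Agent.S6790
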