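import Groth.Statements.S6791
import Mathlib.CategoryTheory.Abelian.SerreClass.Localization

set_option autoImplicit false
set_option backward.isDefEq.respectTransparency false
set_option backward.isDefEq.respectTransparency.types false
open CategoryTheory CategoryTheory.Limits
universe v u v' u' v'' u''
open CategoryTheory CategoryTheory.SerreClass

namespace Groth.Agent.S6791

/-- For an exact functor `F : A ⥤ B` of abelian categories and a Serre class `P` of `A` killed by `F`,
with `L : A ⥤ Q` a model of the quotient `A/P` and `Fbar : Q ⥤ B` the induced functor, `P` is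
exactly the kernel of `F` if and only if `Fbar` is faithful. -/
theorem result {A : Type u} [Category.{v} A] [Abelian A] {B : Type u'} [Category.{v'} B] [Abelian B] (F : A ⥤ B) [F.Additive] [PreservesFiniteLimits F] [PreservesFiniteColimits F] (P : ObjectProperty A) [P.IsSerreClass] (hP : ∀ X : A, P X → IsZero (F.obj X)) {Q : Type u''} [Category.{v''} Q] [Abelian Q] (L : A ⥤ Q) [L.IsLocalization P.isoModSerre] [L.Additive] [PreservesFiniteLimits L] [PreservesFiniteColimits L] (Fbar : Q ⥤ B) (e : L ⋙ Fbar ≅ F) : (∀ X : A, IsZero (F.obj X) → P X) ↔ Fbar.Faithful := by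
  have hadd : Fbar.Additive := by
    refine (Localization.functor_additive_iff L P.isoModSerre Fbar).mpr ?_
    exact Functor.additive_of_iso e.symm
  have hF0 : ∀ {X Y : A} (h : X ⟶ Y), Fbar.map (L.map h) = 0 ↔ F.map h = 0 := fun {X Y} h => by
    rw [← cancel_mono (e.hom.app Y), zero_comp,
      show Fbar.map (L.map h) ≫ e.hom.app Y = e.hom.app X ≫ F.map h from e.hom.naturality h,
      ← cancel_epi (e.hom.app X) (g := F.map h) (h := 0), comp_zero]
  constructor
  · intro hker
    refine ⟨fun {q q'} g g' hg => ?_⟩
    rw [← sub_eq_zero]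
    have hk : Fbar.map (g - g') = 0 := by rw [Fbar.map_sub, hg, sub_self]
    generalize g - g' = k at hk
    have := Localization.essSurj L P.isoModSerre
    let i := L.objObjPreimageIso q
    let i' := L.objObjPreimageIso q'
    obtain ⟨φ, hφ⟩ := Localization.exists_leftFraction L P.isoModSerre (i.hom ≫ k ≫ i'.inv)
    have hf : (i.hom ≫ k ≫ i'.inv) ≫ L.map φ.s = L.map φ.f := by
      rw [hφ, φ.map_comp_map_s L]
    have h0 : F.map φ.f = 0 := by
      rw [← hF0, ← hf, Fbar.map_comp, Fbar.map_comp, Fbar.map_comp, hk]
      simp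
    have hP : P (Abelian.image φ.f) := by
      refine hker _ ((IsZero.iff_id_eq_zero _).2 ?_)
      have hc : F.map (Abelian.factorThruImage φ.f) ≫ F.map (Abelian.image.ι φ.f) = 0 := by
        rw [← F.map_comp, Abelian.image.fac, h0]
      have h1 : F.map (Abelian.factorThruImage φ.f) = 0 := by
        rw [← cancel_mono (F.map (Abelian.image.ι φ.f)), hc, zero_comp]
      rw [← cancel_epi (F.map (Abelian.factorThruImage φ.f)), h1]
      simp
    have hL : L.map φ.f = 0 := (ObjectProperty.SerreClassLocalization.map_eq_zero_iff L P φ.f).2 hP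
    haveI : IsIso (L.map φ.s) := Localization.inverts L P.isoModSerre _ φ.hs
    rw [← cancel_epi i.hom, comp_zero, ← cancel_mono i'.inv, zero_comp, ← cancel_mono (L.map φ.s),
      zero_comp, Category.assoc i.hom k i'.inv, hf, hL]
  · intro _ X hX
    rw [← ObjectProperty.SerreClassLocalization.isZero_obj_iff L P X, IsZero.iff_id_eq_zero, ← L.map_id]
    refine Fbar.map_injective ?_
    rw [Fbar.map_zero, hF0, F.map_id, ← IsZero.iff_id_eq_zero]
    exact hX

end Groth.Agent.S6791
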