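import Groth.Statements.S6795


set_option autoImplicit false
set_option backward.isDefEq.respectTransparency false
set_option backward.isDefEq.respectTransparency.types false
open CategoryTheory CategoryTheory.Limits
universe v u
open CategoryTheory CategoryTheory.Preadditive

namespace Groth.Agent.S6795

/-- A preadditive category with countable products in which split epimorphisms have kernels is
idempotent complete (Karoubian). -/
theorem result {D : Type u} [Category.{v} D] [Preadditive D] [HasCountableProducts D] (hk : ∀ ⦃X Y : D⦄ (f : X ⟶ Y), IsSplitEpi f → HasKernel f) : IsIdempotentComplete D := by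
  refine ⟨fun X a ha => ?_⟩
  let b : X ⟶ X := 𝟙 X - a
  have hba : b ≫ a = 0 := by simp only [b, Preadditive.sub_comp, Category.id_comp, ha, sub_self]
  have hab : a ≫ b = 0 := by simp only [b, Preadditive.comp_sub, Category.comp_id, ha, sub_self]
  have hbb : b ≫ b = b := by
    conv_lhs => arg 1; change 𝟙 X - a
    rw [Preadditive.sub_comp, Category.id_comp, hab, sub_zero]
  let Z : D := ∏ᶜ (fun _ : ℕ => X)
  let π : ∀ n, Z ⟶ X := fun n => Pi.π (fun _ : ℕ => X) n
  let f : Z ⟶ Z := Pi.lift (fun n => π n ≫ b + π (n + 1) ≫ a)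
  let g : Z ⟶ Z := Pi.lift (fun n => Nat.rec (π 0 ≫ b) (fun m _ => π (m + 1) ≫ b + π m ≫ a) n)
  have hfπ : ∀ n, f ≫ π n = π n ≫ b + π (n + 1) ≫ a := fun n => Pi.lift_π _ _
  have hgf : g ≫ f = 𝟙 Z := by
    refine Pi.hom_ext _ _ fun n => ?_
    have hg0 : g ≫ π 0 = π 0 ≫ b := Pi.lift_π _ _
    have hgs : ∀ m, g ≫ π (m + 1) = π (m + 1) ≫ b + π m ≫ a := fun m => Pi.lift_π _ _
    show (g ≫ f) ≫ π n = 𝟙 Z ≫ π n
    rw [Category.assoc, hfπ, Category.id_comp, Preadditive.comp_add, ← Category.assoc, ← Category.assoc, hgs]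
    have hn : (g ≫ π n) ≫ b = π n ≫ b := by
      cases n with
      | zero => rw [hg0, Category.assoc, hbb]
      | succ m => rw [hgs, Preadditive.add_comp, Category.assoc, Category.assoc, hbb, hab, comp_zero, add_zero]
    rw [hn, Preadditive.add_comp, Category.assoc, Category.assoc, hba, comp_zero, zero_add, ha,
      ← Preadditive.comp_add]
    simp [b]
  haveI := hk f ⟨⟨⟨g, hgf⟩⟩⟩
  have hcond : (Pi.lift (fun n => Nat.rec a (fun _ _ => (0 : X ⟶ X)) n) : X ⟶ Z) ≫ f = 0 := by
    refine Pi.hom_ext _ _ fun n => ?_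
    show (_ ≫ f) ≫ π n = 0 ≫ π n
    rw [Category.assoc, hfπ, zero_comp, Preadditive.comp_add, ← Category.assoc, ← Category.assoc,
      Pi.lift_π, Pi.lift_π]
    cases n <;> simp [hab]
  refine ⟨kernel f, kernel.ι f ≫ π 0, kernel.lift f _ hcond, ?_, ?_⟩
  · rw [← cancel_mono (kernel.ι f), Category.assoc, Category.assoc, kernel.lift_ι, Category.id_comp]
    have hrel : ∀ n, (kernel.ι f ≫ π n) ≫ b + (kernel.ι f ≫ π (n + 1)) ≫ a = 0 := fun n => by
      rw [Category.assoc, Category.assoc, ← Preadditive.comp_add, ← hfπ, kernel.condition_assoc, zero_comp]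
    have hA : ∀ n, (kernel.ι f ≫ π n) ≫ b = 0 ∧ (kernel.ι f ≫ π (n + 1)) ≫ a = 0 := fun n => by
      have h1 := congrArg (· ≫ a) (hrel n)
      simp only [Preadditive.add_comp, Category.assoc, hba, ha, comp_zero, zero_add, zero_comp] at h1
      have h2 := hrel n
      simp only [Category.assoc] at h2 ⊢
      rw [h1, add_zero] at h2
      exact ⟨h2, h1⟩
    refine Pi.hom_ext _ _ fun n => ?_
    show (kernel.ι f ≫ π 0 ≫ _) ≫ π n = kernel.ι f ≫ π n
    rw [Category.assoc, Category.assoc, Pi.lift_π]
    cases n with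
    | zero =>
      have := (hA 0).1
      simp only [b, Category.assoc, Preadditive.comp_sub, Category.comp_id, sub_eq_zero] at this
      exact this.symm
    | succ m =>
      have h1 := (hA m).2
      have h2 := (hA (m + 1)).1
      simp only [b, Category.assoc, Preadditive.comp_sub, Category.comp_id] at h1 h2
      rw [h1, sub_zero] at h2
      simp [h2]
  · rw [← Category.assoc, kernel.lift_ι, Pi.lift_π]
    rfl

end Groth.Agent.S6795
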