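import Groth.Statements.S6799
import Mathlib.AlgebraicTopology.SimplicialSet.Homotopy
import Mathlib.AlgebraicTopology.SimplicialObject.Coskeletal
import Mathlib.AlgebraicTopology.SimplicialSet.Degenerate

set_option autoImplicit false
set_option backward.isDefEq.respectTransparency false
set_option backward.isDefEq.respectTransparency.types false
open CategoryTheory Opposite
universe u
open SSet

namespace Groth.Agent.S6799

/-- Two maps between `n`-coskeletal simplicial sets which agree on simplices of dimension `< n` are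
homotopic, by a single homotopy. -/
theorem result {U V : SSet.{u}} (f₀ f₁ : V ⟶ U) (n : ℕ) (h : ∀ i : ℕ, i < n → f₀.app (op (SimplexCategory.mk i)) = f₁.app (op (SimplexCategory.mk i))) [SimplicialObject.IsCoskeletal U n] [SimplicialObject.IsCoskeletal V n] : Nonempty (SSet.Homotopy f₀ f₁) := by
  open MonoidalCategory CartesianMonoidalCategory in
  classical
  let c1 : ∀ m : SimplexCategoryᵒᵖ, (SSet.stdSimplex.{u}.obj (SimplexCategory.mk 1)).obj m :=
    fun m => SSet.stdSimplex.const 1 1 m
  have hne : ∀ m, c1 m ≠ SSet.stdSimplex.const 1 0 m := fun m h => by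
    have := congrArg (fun z => SSet.stdSimplex.asOrderHom z (0 : Fin (m.unop.len + 1))) h
    have h01 : (1 : Fin 2) = 0 := this
    exact absurd h01 (by decide)
  let hval : ∀ m : SimplexCategoryᵒᵖ, (V ⊗ SSet.stdSimplex.{u}.obj (SimplexCategory.mk 1)).obj m → U.obj m :=
    fun m z => if z.2 = c1 m then f₁.app m z.1 else f₀.app m z.1
  have h' : ∀ m : SimplexCategoryᵒᵖ, m.unop.len < n → f₀.app m = f₁.app m := fun m hm => h m.unop.len hm
  have hfac : ∀ (a b : SimplexCategoryᵒᵖ) (φ : a ⟶ b) (x : V.obj a), a.unop.len ≤ n → b.unop.len ≤ n →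
      ¬ IsIso φ.unop → f₀.app b (V.map φ x) = f₁.app b (V.map φ x) := by
    intro a b φ x ha hb hiso
    obtain ⟨⟨k⟩, e, ι, hφ, hk⟩ : ∃ (c : SimplexCategory) (e : b.unop ⟶ c) (ι : c ⟶ a.unop),
        φ.unop = e ≫ ι ∧ c.len < n := by
      by_cases hA : a.unop.len < n
      · exact ⟨a.unop, φ.unop, 𝟙 _, (Category.comp_id _).symm, hA⟩
      by_cases hB : b.unop.len < n
      · exact ⟨b.unop, 𝟙 _, φ.unop, (Category.id_comp _).symm, hB⟩
      refine ⟨Limits.image φ.unop, Limits.factorThruImage _, Limits.image.ι _, (Limits.image.fac _).symm, ?_⟩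
      by_contra hk
      refine hiso ?_
      have h1 : b.unop.len = (Limits.image φ.unop).len := le_antisymm (by omega)
        (SimplexCategory.len_le_of_epi (Limits.factorThruImage φ.unop))
      have h2 : (Limits.image φ.unop).len = a.unop.len := le_antisymm
        (SimplexCategory.len_le_of_mono (Limits.image.ι φ.unop)) (by omega)
      have := (SimplexCategory.isIso_iff_of_epi (Limits.factorThruImage φ.unop)).2 (by omega)
      have := (SimplexCategory.isIso_iff_of_mono (Limits.image.ι φ.unop)).2 (by omega)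
      rw [← Limits.image.fac φ.unop]; infer_instance
    have e1 : φ = ι.op ≫ e.op := Quiver.Hom.unop_inj hφ
    rw [e1, Functor.map_comp_apply]
    exact (NatTrans.naturality_apply f₀ e.op _).trans ((congrArg (U.map e.op)
      (ConcreteCategory.congr_hom (h' (op _) hk) _)).trans (NatTrans.naturality_apply f₁ e.op _).symm)
  have hnat : ∀ (a b : SimplexCategoryᵒᵖ) (φ : a ⟶ b) (v : V.obj a)
      (α : (SSet.stdSimplex.{u}.obj (SimplexCategory.mk 1)).obj a), a.unop.len ≤ n → b.unop.len ≤ n →
      hval b (V.map φ v, (SSet.stdSimplex.{u}.obj (SimplexCategory.mk 1)).map φ α) = U.map φ (hval a (v, α)) := by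
    intro a b φ v α ha hb
    have nat0 := NatTrans.naturality_apply f₀ φ v
    have nat1 := NatTrans.naturality_apply f₁ φ v
    simp only [hval]
    by_cases hα : α = c1 a
    · have hαφ : (SSet.stdSimplex.{u}.obj (SimplexCategory.mk 1)).map φ α = c1 b := by rw [hα]; rfl
      rw [if_pos hα, if_pos hαφ]; exact nat1
    rw [if_neg hα]
    by_cases hαφ : (SSet.stdSimplex.{u}.obj (SimplexCategory.mk 1)).map φ α = c1 b
    · rw [if_pos hαφ, ← nat0]
      refine (hfac a b φ v ha hb (fun hiso => hα ?_)).symm
      have : IsIso φ := by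
        have := hiso
        rw [← Quiver.Hom.op_unop φ]
        infer_instance
      apply ((isIso_iff_bijective ((SSet.stdSimplex.{u}.obj (SimplexCategory.mk 1)).map φ)).1 inferInstance).1
      rw [hαφ]; rfl
    · rw [if_neg hαφ]; exact nat0
  let β : (SimplexCategory.Truncated.inclusion n).op ⋙ (V ⊗ SSet.stdSimplex.{u}.obj (SimplexCategory.mk 1)) ⟶
      (SimplexCategory.Truncated.inclusion n).op ⋙ U :=
    { app := fun m => ↾(hval ((SimplexCategory.Truncated.inclusion n).op.obj m))
      naturality := fun m m' φ => by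
        ext z
        exact hnat _ _ ((SimplexCategory.Truncated.inclusion n).op.map φ) z.1 z.2 m.unop.property m'.unop.property }
  let H := U.liftOfIsRightKanExtension (𝟙 ((SimplexCategory.Truncated.inclusion n).op ⋙ U)) _ β
  have hH : ∀ (m : (SimplexCategory.Truncated n)ᵒᵖ) z, H.app _ z = β.app m z := fun m z => by
    have := U.liftOfIsRightKanExtension_fac_app (𝟙 ((SimplexCategory.Truncated.inclusion n).op ⋙ U)) _ β m
    rw [NatTrans.id_app] at this
    exact ConcreteCategory.congr_hom ((Category.comp_id _).symm.trans this) z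
  refine ⟨{ h := H, h₀ := ?_, h₁ := ?_, rel := ?_ }⟩
  · refine U.hom_ext_of_isRightKanExtension (𝟙 ((SimplexCategory.Truncated.inclusion n).op ⋙ U)) _ _ ?_
    ext m x
    refine (hH m _).trans ?_
    exact if_neg (hne _).symm
  · refine U.hom_ext_of_isRightKanExtension (𝟙 ((SimplexCategory.Truncated.inclusion n).op ⋙ U)) _ _ ?_
    ext m x
    refine (hH m _).trans ?_
    exact if_pos rfl
  · ext m z
    exact ((Set.mem_empty_iff_false _).1 z.1.2).elim

end Groth.Agent.S6799
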