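import Groth.Statements.S6801


set_option autoImplicit false
open CategoryTheory
universe v u
open SpSeq SpSeq.FilObj

namespace Groth.Agent.S6801

/-- The composite of two strict morphisms of filtered objects is strict when the second one is a
monomorphism. (In general a composite of strict morphisms is not strict.) -/
theorem result {A : Type u} [Category.{v} A] [Abelian A] {K L M : SpSeq.FilObj A} (f : K ⟶ L) (g : L ⟶ M) (hf : SpSeq.FilObj.IsStrict f) (hg : SpSeq.FilObj.IsStrict g) [Mono g.hom] : SpSeq.FilObj.IsStrict (f ≫ g) := by
  intro p
  have hl : ∀ {X Y Z : A} (a : X ⟶ Y) (b : Y ⟶ Z),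
      Limits.imageSubobject ((Limits.imageSubobject a).arrow ≫ b) = Limits.imageSubobject (a ≫ b) := by
    intro X Y Z a b
    refine le_antisymm ?_ ?_
    · have h : Limits.imageSubobject (Limits.factorThruImageSubobject a ≫ (Limits.imageSubobject a).arrow ≫ b) =
          Limits.imageSubobject ((Limits.imageSubobject a).arrow ≫ b) := by
        have : Epi (Limits.factorThruImageSubobject a) := by
          unfold Limits.factorThruImageSubobject; exact epi_comp _ _
        have hle := Limits.imageSubobject_comp_le (Limits.factorThruImageSubobject a) ((Limits.imageSubobject a).arrow ≫ b)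
        have := isIso_of_mono_of_epi (Subobject.ofLE _ _ hle)
        exact le_antisymm hle (Subobject.le_of_comm (inv (Subobject.ofLE _ _ hle)) (by simp))
      rw [← h, ← Category.assoc, Limits.imageSubobject_arrow_comp]
    · conv_lhs => rw [← Limits.imageSubobject_arrow_comp a, Category.assoc]
      exact Limits.imageSubobject_comp_le _ _
  have hmap : ∀ (S : Subobject L.obj),
      (Subobject.map g.hom).obj S = Limits.imageSubobject (S.arrow ≫ g.hom) := fun S => by
    rw [Limits.imageSubobject_mono]
    conv_lhs => rw [← Subobject.mk_arrow S]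
    exact Subobject.map_mk _ _
  change Limits.imageSubobject ((K.fil p).arrow ≫ f.hom ≫ g.hom) =
    Limits.imageSubobject (f.hom ≫ g.hom) ⊓ M.fil p
  rw [← Category.assoc, ← hl ((K.fil p).arrow ≫ f.hom), hf p, ← hmap, Subobject.inf_map, hmap, hmap,
    hg p, hl, ← inf_assoc, inf_eq_left.2 (Limits.imageSubobject_comp_le f.hom g.hom)]

end Groth.Agent.S6801
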