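import Groth.Statements.S6807
import Groth.Agent.TowerLib.LimHomology

set_option autoImplicit false
open CategoryTheory CategoryTheory.Limits
universe u
open HomAlg3

namespace Groth.Agent.S6807

/-- For an inverse system of cochain complexes of abelian groups over `ℕ` whose terms in degrees `n-2`
and `n-1` form Mittag-Leffler systems and whose degree-`(n-1)` cohomologies form an essentially
constant system, the canonical map from the degree-`n` cohomology of the limit complex to the limit
of the degree-`n` cohomologies is an isomorphism. (The published statement is for four-term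
complexes in degrees `-2, …, 1`; only those four degrees of a longer complex enter.) -/
theorem result (K : ℕᵒᵖ ⥤ HomologicalComplex AddCommGrpCat.{u} (ComplexShape.up ℤ)) (n : ℤ) (h2 : ((K ⋙ HomologicalComplex.eval _ _ (n - 2)) ⋙ forget AddCommGrpCat).IsMittagLeffler) (h1 : ((K ⋙ HomologicalComplex.eval _ _ (n - 1)) ⋙ forget AddCommGrpCat).IsMittagLeffler) (hH : ∃ (C₀ : AddCommGrpCat.{u}) (c : (Functor.const ℕᵒᵖ).obj C₀ ⟶ K ⋙ HomologicalComplex.homologyFunctor _ _ (n - 1)), DerCA.IsEssConstant (K ⋙ HomologicalComplex.homologyFunctor _ _ (n - 1)) C₀ c) : IsIso (limit.post K (HomologicalComplex.homologyFunctor _ _ n)) := by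
  obtain ⟨C₀, c, i, s, -, hs⟩ := hH
  exact Groth.Agent.TowerLib.isIso_post K n h2 h1 c i s hs

end Groth.Agent.S6807
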