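import Groth.Statements.S6812
import Groth.Agent.SkLib.SSet

set_option autoImplicit false
set_option backward.isDefEq.respectTransparency false
set_option backward.isDefEq.respectTransparency.types false
open CategoryTheory
universe u
open SSet

namespace Groth.Agent.S6812

/-- For a simplicial set `U`, the counit `i_{n!} sk_n U ⟶ U` of the skeleton adjunction is a
monomorphism whose image is the subcomplex of `U` generated by its simplices of dimension `≤ n`. -/
theorem result (U : SSet.{u}) (n : ℕ) : Mono ((SSet.skAdj n).counit.app U) ∧ SSet.Subcomplex.range ((SSet.skAdj n).counit.app U) = U.skeleton (n + 1) := by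
  exact Groth.Agent.SkLib.mono_and_range n U

end Groth.Agent.S6812
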