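import Groth.Statements.S6813
import Groth.Agent.TruncKan.Basic

set_option autoImplicit false
set_option backward.isDefEq.respectTransparency false
set_option backward.isDefEq.respectTransparency.types false
open CategoryTheory CategoryTheory.Limits
universe v u
open CategoryTheory CategoryTheory.SimplicialObject

namespace Groth.Agent.S6813

/-- For `k ≥ 1` the forgetful functor from the over category `C/X` to `C` (with `C` having finite
limits) commutes with `cosk_k`; stated as: a `k`-coskeletal simplicial object of `C/X` has
`k`-coskeletal underlying simplicial object in `C`. -/
theorem result {C : Type u} [Category.{v} C] [HasFiniteLimits C] (X : C) (k : ℕ) (hk : 1 ≤ k) (V : SimplicialObject (Over X)) [V.IsCoskeletal k] : SimplicialObject.IsCoskeletal (V ⋙ Over.forget X) k := by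
  exact TruncKan.isCoskeletal_forget X k hk V

end Groth.Agent.S6813
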