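import Groth.Statements.S6814
import Mathlib.AlgebraicTopology.SimplexCategory.Truncated
import Mathlib.CategoryTheory.Functor.KanExtension.Pointwise

set_option autoImplicit false
set_option backward.isDefEq.respectTransparency false
set_option backward.isDefEq.respectTransparency.types false
open CategoryTheory CategoryTheory.Limits Opposite
universe v u
open CategoryTheory CategoryTheory.SimplicialObject CategoryTheory.SimplicialObject.Truncated

namespace Groth.Agent.S6814

/-- Let `U` be an `(n+1)`-truncated simplicial object of a category `C` (so the truncation level is at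
least `1`), and let `T` be an object with morphisms `π_0, …, π_{n+2} : T ⟶ U_{n+1}` satisfying the
face relations `d_j π_i = d_i π_{j+1}` for `i ≤ j` and universal among such families (that is, `T`
represents the functor of `(n+3)`-tuples of morphisms to `U_{n+1}` satisfying the face relations).
Then `U` extends to an `(n+2)`-truncated simplicial object right adjoint to restriction: the
pointwise right Kan extension of `U` along the inclusion of `(n+1)`-truncated into `(n+2)`-truncated
simplex categories exists, and for any right Kan extension `V` of `U` the morphism `V_{n+2} ⟶ T`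
matching the faces of `V` with the `π_k` is an isomorphism (the new top term is the representing
object). -/
theorem result {C : Type u} [Category.{v} C] (n : ℕ) (U : (SimplexCategory.Truncated (n + 1))ᵒᵖ ⥤ C) (T : C) (π : Fin (n + 3) → (T ⟶ U.obj (op ⟨SimplexCategory.mk (n + 1), (SimplexCategory.len_mk (n + 1)).le⟩))) (hπ : ∀ i j : Fin (n + 2), i ≤ j → π (Fin.castSucc i) ≫ U.map (SimplexCategory.Truncated.δ (n + 1) j ((SimplexCategory.len_mk n).trans_le (Nat.le_succ n)) (SimplexCategory.len_mk (n + 1)).le).op = π j.succ ≫ U.map (SimplexCategory.Truncated.δ (n + 1) i ((SimplexCategory.len_mk n).trans_le (Nat.le_succ n)) (SimplexCategory.len_mk (n + 1)).le).op) (huniv : ∀ (S : C) (g : Fin (n + 3) → (S ⟶ U.obj (op ⟨SimplexCategory.mk (n + 1), (SimplexCategory.len_mk (n + 1)).le⟩))), (∀ i j : Fin (n + 2), i ≤ j → g (Fin.castSucc i) ≫ U.map (SimplexCategory.Truncated.δ (n + 1) j ((SimplexCategory.len_mk n).trans_le (Nat.le_succ n)) (SimplexCategory.len_mk (n + 1)).le).op = g j.succ ≫ U.map (SimplexCategory.Truncated.δ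 (n + 1) i ((SimplexCategory.len_mk n).trans_le (Nat.le_succ n)) (SimplexCategory.len_mk (n + 1)).le).op) → ∃! t : S ⟶ T, ∀ k : Fin (n + 3), t ≫ π k = g k) : (SimplexCategory.Truncated.incl (n + 1) (n + 2) (Nat.le_succ _)).op.HasPointwiseRightKanExtension U ∧ ∀ (V : (SimplexCategory.Truncated (n + 2))ᵒᵖ ⥤ C) (α : (SimplexCategory.Truncated.incl (n + 1) (n + 2) (Nat.le_succ _)).op ⋙ V ⟶ U) [V.IsRightKanExtension α] (t : V.obj (op ⟨SimplexCategory.mk (n + 2), (SimplexCategory.len_mk (n + 2)).le⟩) ⟶ T), (∀ k : Fin (n + 3), t ≫ π k = V.map (SimplexCategory.Truncated.δ (n + 2) k ((SimplexCategory.len_mk (n + 1)).trans_le (Nat.le_succ (n + 1))) (SimplexCategory.len_mk (n + 2)).le).op ≫ α.app (op ⟨SimplexCategory.mk (n + 1), (SimplexCategory.len_mk (n + 1)).le⟩)) → IsIso t := by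
  have hn1 : (SimplexCategory.mk (n + 1)).len ≤ n + 1 := le_refl _
  let top : SimplexCategory.Truncated (n + 2) := ⟨SimplexCategory.mk (n + 2), (SimplexCategory.len_mk (n + 2)).le⟩
  let L := (SimplexCategory.Truncated.incl (n + 1) (n + 2) (Nat.le_succ _)).op
  -- the value at a factorization
  let val : ∀ (Δ : SimplexCategory.Truncated (n + 1)) (_ : Fin (n + 3))
      (_ : Δ.obj ⟶ SimplexCategory.mk (n + 1)), (T ⟶ U.obj (op Δ)) := fun Δ i ψ =>
    π i ≫ U.map (SimplexCategory.Truncated.Hom.tr ψ Δ.2 hn1).op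
  have val_comp : ∀ (Δ Δ' : SimplexCategory.Truncated (n + 1)) (χ : Δ' ⟶ Δ) i
      (ψ : Δ.obj ⟶ SimplexCategory.mk (n + 1)), val Δ i ψ ≫ U.map χ.op = val Δ' i (χ.hom ≫ ψ) := by
    intro Δ Δ' χ i ψ
    simp only [val, Category.assoc, ← U.map_comp]
    rfl
  have wd_lt : ∀ (Δ : SimplexCategory.Truncated (n + 1)) (i j : Fin (n + 3)) (ψ ψ' : Δ.obj ⟶ SimplexCategory.mk (n + 1)),
      i < j → ψ ≫ SimplexCategory.δ i = ψ' ≫ SimplexCategory.δ j → val Δ i ψ = val Δ j ψ' := by
    intro Δ i j ψ ψ' hij h
    obtain ⟨a, rfl⟩ : ∃ a, Fin.castSucc a = i := ⟨i.castPred (Fin.ne_last_of_lt hij), Fin.castSucc_castPred _ _⟩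
    obtain ⟨b, rfl⟩ : ∃ b, Fin.succ b = j := ⟨j.pred (Fin.ne_zero_of_lt hij), Fin.succ_pred _ _⟩
    have hab : a ≤ b := Fin.castSucc_lt_succ_iff.1 hij
    have hb : ∀ x, ψ.toOrderHom x ≠ b := fun x hx => by
      have h1 := congrArg (fun q => SimplexCategory.Hom.toOrderHom q x) h
      simp only [SimplexCategory.comp_toOrderHom, OrderHom.comp_coe, Function.comp_apply, hx] at h1
      have h2 : (SimplexCategory.δ (Fin.castSucc a)).toOrderHom b = b.succ :=
        Fin.succAbove_of_le_castSucc _ _ (Fin.castSucc_le_castSucc_iff.2 hab)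
      exact Fin.succAbove_ne b.succ _ (h1.symm.trans h2)
    obtain ⟨χ, hχ⟩ := SimplexCategory.eq_comp_δ_of_not_surjective' (n := n) ψ b hb
    have hχ' : ψ' = χ ≫ SimplexCategory.δ a := by
      rw [← cancel_mono (SimplexCategory.δ b.succ), ← h, hχ, Category.assoc, Category.assoc,
        SimplexCategory.δ_comp_δ hab]
    subst hχ
    subst hχ'
    have hn0 : (SimplexCategory.mk n).len ≤ n + 1 := Nat.le_succ n
    simp only [val, SimplexCategory.Truncated.Hom.tr_comp _ _ Δ.2 hn0 hn1, op_comp, Functor.map_comp, ← Category.assoc]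
    exact congrArg (· ≫ _) (hπ a b hab)
  have wd : ∀ (Δ : SimplexCategory.Truncated (n + 1)) (i j : Fin (n + 3)) (ψ ψ' : Δ.obj ⟶ SimplexCategory.mk (n + 1)),
      ψ ≫ SimplexCategory.δ i = ψ' ≫ SimplexCategory.δ j → val Δ i ψ = val Δ j ψ' := by
    intro Δ i j ψ ψ' h
    rcases lt_trichotomy i j with hij | rfl | hij
    · exact wd_lt Δ i j ψ ψ' hij h
    · rw [(cancel_mono _).1 h]
    · exact (wd_lt Δ j i ψ' ψ hij h.symm).symm
  have hfac : ∀ (Δ : SimplexCategory.Truncated (n + 1)) (φ : Δ.obj ⟶ SimplexCategory.mk (n + 2)),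
      ∃ (i : Fin (n + 3)) (ψ : Δ.obj ⟶ SimplexCategory.mk (n + 1)), φ = ψ ≫ SimplexCategory.δ i := fun Δ φ =>
    SimplexCategory.eq_comp_δ_of_not_surjective φ fun hs => by
      have := Fintype.card_le_of_surjective _ hs
      simp at this
      have h2 : Δ.obj.len ≤ n + 1 := Δ.2
      omega
  choose ci cψ hc using hfac
  let K := StructuredArrow.proj (op top) L ⋙ U
  let c : Limits.Cone K :=
    { pt := T
      π :=
        { app := fun g => val g.right.unop (ci g.right.unop g.hom.unop.hom) (cψ g.right.unop g.hom.unop.hom)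
          naturality := fun g g' χ => by
            refine (Category.id_comp _).trans (Eq.trans ?_ (val_comp g.right.unop g'.right.unop χ.right.unop _ _).symm)
            refine wd _ _ _ _ _ ?_
            rw [Category.assoc, ← hc, ← hc, ← StructuredArrow.w χ]
            rfl } }
  let δg : Fin (n + 3) → StructuredArrow (op top) L := fun k =>
    StructuredArrow.mk (Y := op (⟨SimplexCategory.mk (n + 1), hn1⟩ : SimplexCategory.Truncated (n + 1)))
      (SimplexCategory.Truncated.Hom.tr (SimplexCategory.δ k) (Nat.le_succ (n + 1)) (le_refl (n + 2))).op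
  have hcδ : ∀ k, c.π.app (δg k) = π k := fun k => by
    show val _ _ _ = π k
    rw [wd _ _ k _ (𝟙 _) (by rw [← hc, Category.id_comp]; rfl)]
    show π k ≫ U.map (𝟙 (op (⟨SimplexCategory.mk (n + 1), hn1⟩ : SimplexCategory.Truncated (n + 1)))) = π k
    rw [CategoryTheory.Functor.map_id, Category.comp_id]
  have hcone : ∀ (s : Limits.Cone K) (g : StructuredArrow (op top) L) (i : Fin (n + 3))
      (ψ : g.right.unop.obj ⟶ SimplexCategory.mk (n + 1)), g.hom.unop.hom = ψ ≫ SimplexCategory.δ i →
      s.π.app g = s.π.app (δg i) ≫ U.map (SimplexCategory.Truncated.Hom.tr ψ g.right.unop.2 hn1).op := by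
    intro s g i ψ h
    let χ : δg i ⟶ g := StructuredArrow.homMk (SimplexCategory.Truncated.Hom.tr ψ g.right.unop.2 hn1).op (by
      apply Quiver.Hom.unop_inj
      apply ObjectProperty.hom_ext
      exact h.symm)
    exact (s.w χ).symm
  have hg : ∀ (s : Limits.Cone K) (i j : Fin (n + 2)), i ≤ j →
      s.π.app (δg (Fin.castSucc i)) ≫ U.map (SimplexCategory.Truncated.δ (n + 1) j ((SimplexCategory.len_mk n).trans_le (Nat.le_succ n)) (SimplexCategory.len_mk (n + 1)).le).op =
      s.π.app (δg j.succ) ≫ U.map (SimplexCategory.Truncated.δ (n + 1) i ((SimplexCategory.len_mk n).trans_le (Nat.le_succ n)) (SimplexCategory.len_mk (n + 1)).le).op := by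
    intro s i j hij
    let g : StructuredArrow (op top) L :=
      StructuredArrow.mk (Y := op (⟨SimplexCategory.mk n, Nat.le_succ n⟩ : SimplexCategory.Truncated (n + 1)))
        (SimplexCategory.Truncated.Hom.tr (SimplexCategory.δ j ≫ SimplexCategory.δ (Fin.castSucc i))
          (Nat.le_add_right n 2) (le_refl (n + 2))).op
    exact (hcone s g (Fin.castSucc i) (SimplexCategory.δ j) rfl).symm.trans
      (hcone s g j.succ (SimplexCategory.δ i) (SimplexCategory.δ_comp_δ hij).symm)
  have hlim : Limits.IsLimit c :=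
    { lift := fun s => (huniv s.pt (fun k => s.π.app (δg k)) (hg s)).exists.choose
      fac := fun s g => by
        have ht := (huniv s.pt (fun k => s.π.app (δg k)) (hg s)).exists.choose_spec
        rw [hcone s g _ _ (hc g.right.unop g.hom.unop.hom), ← ht, Category.assoc]
      uniq := fun s m hm => (huniv s.pt (fun k => s.π.app (δg k)) (hg s)).unique
        (fun k => by rw [← hm (δg k), hcδ]) (huniv s.pt (fun k => s.π.app (δg k)) (hg s)).exists.choose_spec }
  haveI hpw : L.HasPointwiseRightKanExtension U := by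
    rintro ⟨⟨⟨m⟩, hm⟩⟩
    by_cases h : m ≤ n + 1
    · let X : (SimplexCategory.Truncated (n + 1))ᵒᵖ := op ⟨SimplexCategory.mk m, h⟩
      haveI : Limits.HasInitial (StructuredArrow (L.obj X) L) := (StructuredArrow.mkIdInitial (T := L) (Y := X)).hasInitial
      show Limits.HasLimit (StructuredArrow.proj (L.obj X) L ⋙ U)
      infer_instance
    · obtain rfl : m = n + 2 := le_antisymm hm (by omega)
      exact ⟨⟨⟨c, hlim⟩⟩⟩
  refine ⟨hpw, fun V α _ t ht => ?_⟩
  have hV := (Functor.isPointwiseRightKanExtensionOfIsRightKanExtension V α) (op top)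
  have key : t = (Limits.IsLimit.conePointUniqueUpToIso hV hlim).hom := by
    refine hlim.hom_ext fun g => ?_
    rw [Limits.IsLimit.conePointUniqueUpToIso_hom_comp]
    have e := hcone ((Functor.RightExtension.mk V α).coneAt (op top)) g _ _ (hc g.right.unop g.hom.unop.hom)
    rw [e]
    show t ≫ (π _ ≫ _) = _
    rw [← Category.assoc, ht]
    rfl
  rw [key]
  infer_instance

end Groth.Agent.S6814
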