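import Groth.Statements.S6815
import Mathlib.AlgebraicTopology.SimplicialObject.Homotopy
import Mathlib.CategoryTheory.Limits.FunctorCategory.Shapes.Products
import Mathlib.CategoryTheory.Limits.FunctorCategory.Basic

set_option autoImplicit false
set_option backward.isDefEq.respectTransparency false
set_option backward.isDefEq.respectTransparency.types false
open CategoryTheory CategoryTheory.Limits
universe w v u
open CategoryTheory CategoryTheory.SimplicialObject

namespace Groth.Agent.S6815

/-- Homotopies between the factors of two product morphisms of simplicial objects assemble to a homotopy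
between the products. -/
theorem result {C : Type u} [Category.{v} C] {T : Type w} [HasLimitsOfShape (Discrete T) C] {X Y : T → SimplicialObject C} (a b : ∀ t, X t ⟶ Y t) (h : ∀ t, Nonempty (SimplicialObject.Homotopy (a t) (b t))) : Nonempty (SimplicialObject.Homotopy (Limits.Pi.map a) (Limits.Pi.map b)) := by
  have H := fun t => (h t).some
  let hh : ∀ {n : ℕ} (i : Fin (n + 1)), (∏ᶜ X).obj (Opposite.op (SimplexCategory.mk n)) ⟶ (∏ᶜ Y).obj (Opposite.op (SimplexCategory.mk (n + 1))) :=
    fun {n} i => Pi.lift (fun t => (Pi.π X t).app (Opposite.op (SimplexCategory.mk n)) ≫ (H t).h i) ≫ (piObjIso Y _).inv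
  have hπ : ∀ {n : ℕ} (i : Fin (n + 1)) t,
      hh i ≫ (Pi.π Y t).app _ = (Pi.π X t).app _ ≫ (H t).h i := fun {n} i t => by
    simp only [hh, Category.assoc]
    rw [piObjIso_inv_comp_π, Pi.lift_π]
  have hext : ∀ {T : C} {k : SimplexCategoryᵒᵖ} (p q : T ⟶ (∏ᶜ Y).obj k),
      (∀ t, p ≫ (Pi.π Y t).app k = q ≫ (Pi.π Y t).app k) → p = q := fun {T k} p q e => by
    rw [← cancel_mono (piObjIso Y k).hom]
    refine Pi.hom_ext _ _ fun t => ?_
    simp only [Category.assoc, piObjIso_hom_comp_π]
    exact e t
  have nat : ∀ (Z : T → SimplicialObject C) {k k' : SimplexCategoryᵒᵖ} (φ : k ⟶ k') (t : T),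
      (∏ᶜ Z).map φ ≫ (Pi.π Z t).app k' = (Pi.π Z t).app k ≫ (Z t).map φ := fun Z {k k'} φ t => (Pi.π Z t).naturality φ
  have hmap : ∀ (c : ∀ t, X t ⟶ Y t) (k : SimplexCategoryᵒᵖ) (t : T),
      (Limits.Pi.map c).app k ≫ (Pi.π Y t).app k = (Pi.π X t).app k ≫ (c t).app k := fun c k t => by
    rw [← NatTrans.comp_app, Pi.map_π, NatTrans.comp_app]
  refine ⟨{ h := hh, h_zero_comp_δ_zero := ?_, h_last_comp_δ_last := ?_, h_succ_comp_δ_castSucc_of_lt := ?_,
            h_succ_comp_δ_castSucc_succ := ?_, h_castSucc_comp_δ_succ_of_lt := ?_,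
            h_comp_σ_castSucc_of_le := ?_, h_comp_σ_succ_of_lt := ?_ }⟩
  all_goals intros
  all_goals refine hext _ _ fun t => ?_
  all_goals simp only [SimplicialObject.δ, SimplicialObject.σ, Category.assoc, nat, hmap]
  all_goals simp only [← Category.assoc, hπ, nat]
  all_goals simp only [Category.assoc, hπ]
  · exact congrArg _ ((H t).h_zero_comp_δ_zero _)
  · exact congrArg _ ((H t).h_last_comp_δ_last _)
  · exact congrArg _ ((H t).h_succ_comp_δ_castSucc_of_lt _ _ (by assumption))
  · exact congrArg _ ((H t).h_succ_comp_δ_castSucc_succ _)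
  · exact congrArg _ ((H t).h_castSucc_comp_δ_succ_of_lt _ _ (by assumption))
  · exact congrArg _ ((H t).h_comp_σ_castSucc_of_le _ _ (by assumption))
  · exact congrArg _ ((H t).h_comp_σ_succ_of_lt _ _ (by assumption))

end Groth.Agent.S6815
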