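import Groth.Statements.S6816
import Mathlib.Algebra.Homology.HomotopyCategory.DegreewiseSplit

set_option autoImplicit false
open CategoryTheory CategoryTheory.Limits
universe v u
open CochainComplex

namespace Groth.Agent.S6816

/-- The boundary morphisms `C ⟶ A⟦1⟧` attached to two degreewise splittings of a degreewise split
sequence `A ⟶ B ⟶ C` of cochain complexes are homotopic. -/
theorem result {C : Type u} [Category.{v} C] [Preadditive C] [HasBinaryBiproducts C] (S : ShortComplex (CochainComplex C ℤ)) (σ σ' : ∀ n : ℤ, (S.map (HomologicalComplex.eval C (ComplexShape.up ℤ) n)).Splitting) : Nonempty (Homotopy (CochainComplex.homOfDegreewiseSplit S σ) (CochainComplex.homOfDegreewiseSplit S σ')) := by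
  open CochainComplex.HomComplex in
  let s : ∀ n, S.X₃.X n ⟶ S.X₂.X n := fun n => (σ n).s
  let r : ∀ n, S.X₂.X n ⟶ S.X₁.X n := fun n => (σ n).r
  let s' : ∀ n, S.X₃.X n ⟶ S.X₂.X n := fun n => (σ' n).s
  let r' : ∀ n, S.X₂.X n ⟶ S.X₁.X n := fun n => (σ' n).r
  have id1 : ∀ n, r n ≫ S.f.f n + S.g.f n ≫ s n = 𝟙 _ := fun n => (σ n).id
  have id2 : ∀ n, r' n ≫ S.f.f n + S.g.f n ≫ s' n = 𝟙 _ := fun n => (σ' n).id
  have sg : ∀ n, s n ≫ S.g.f n = 𝟙 _ := fun n => (σ n).s_g
  have sg' : ∀ n, s' n ≫ S.g.f n = 𝟙 _ := fun n => (σ' n).s_g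
  have fr : ∀ n, S.f.f n ≫ r n = 𝟙 _ := fun n => (σ n).f_r
  let e : Cochain S.X₃ S.X₁ 0 := Cochain.ofHoms fun n => s' n ≫ r n
  have hs : ∀ n, s' n = s n + (s' n ≫ r n) ≫ S.f.f n := fun n => by
    calc s' n = s' n ≫ (r n ≫ S.f.f n + S.g.f n ≫ s n) := by rw [id1, Category.comp_id]
      _ = _ := by rw [Preadditive.comp_add, reassoc_of% (sg' n), Category.assoc, add_comm]
  have hr : ∀ n, r' n = r n - S.g.f n ≫ (s' n ≫ r n) := fun n => by
    calc r' n = (r' n ≫ S.f.f n + S.g.f n ≫ s' n) ≫ r n - S.g.f n ≫ (s' n ≫ r n) := by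
          rw [Preadditive.add_comp, Category.assoc, fr, Category.assoc, add_sub_cancel_right, Category.comp_id]
      _ = _ := by rw [id2, Category.id_comp]
  have key : (cocycleOfDegreewiseSplit S σ').1 =
      (cocycleOfDegreewiseSplit S σ).1 + CochainComplex.HomComplex.δ 0 1 e := by
    ext p q hq
    subst hq
    have hfg : S.f.f p ≫ S.g.f p = 0 := by rw [← HomologicalComplex.comp_f, S.zero]; rfl
    simp only [cocycleOfDegreewiseSplit, Cocycle.mk_coe, Cochain.add_v, Cochain.mk_v, δ_zero_cochain_v,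
      e, Cochain.ofHoms_v]
    show s' p ≫ S.X₂.d p (p + 1) ≫ r' (p + 1) = _
    conv_lhs => rw [hs p, hr (p + 1)]
    have e1 : s p ≫ S.X₂.d p (p + 1) ≫ S.g.f (p + 1) = S.X₃.d p (p + 1) := by
      rw [← S.g.comm, reassoc_of% (sg p)]
    have e2 : S.f.f p ≫ S.X₂.d p (p + 1) ≫ r (p + 1) = S.X₁.d p (p + 1) := by
      rw [S.f.comm_assoc, fr, Category.comp_id]
    have e3 : S.f.f p ≫ S.X₂.d p (p + 1) ≫ S.g.f (p + 1) = 0 := by
      rw [← S.g.comm, reassoc_of% hfg, Limits.zero_comp]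
    simp only [Preadditive.add_comp, Preadditive.comp_sub, Category.assoc,
      reassoc_of% e1, e2, reassoc_of% e3, Limits.zero_comp, Limits.comp_zero]
    show _ = s p ≫ S.X₂.d p (p + 1) ≫ r (p + 1) + _
    abel
  refine ⟨(Cochain.equivHomotopy _ _).symm ⟨-((1 : ℤ).negOnePow • e.rightShift 1 (-1) (by simp)), ?_⟩⟩
  simp only [homOfDegreewiseSplit, Cocycle.equivHom_symm_apply, Cocycle.cochain_ofHom_homOf_eq_coe,
    Cocycle.rightShift_coe, key]
  rw [δ_neg, δ_units_smul, Cochain.δ_rightShift e 1 (-1) 0 (by simp) 1 (by simp)]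
  simp [smul_smul, Cochain.rightShift_add]

end Groth.Agent.S6816
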