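import Groth.Statements.S6818
import Groth.Agent.SkLib.Abelian

set_option autoImplicit false
set_option backward.isDefEq.respectTransparency false
set_option backward.isDefEq.respectTransparency.types false
open CategoryTheory CategoryTheory.Limits Opposite
universe v u
open CategoryTheory CategoryTheory.Abelian

namespace Groth.Agent.S6818

/-- For a simplicial object `U` of an abelian category and `n ≥ 0`, the subobjects `U'_m ⊆ U_m`
generated by the images of all `U_i ⟶ U_m` induced by maps `[m] ⟶ [i]` with `i ≤ n` form a
simplicial subobject equal to `U` in dimensions `≤ n` whose normalized part vanishes in dimensions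
`> n`. Here the normalized subobject of `U_m` is the joint kernel of the faces `d_1, …, d_m`; the
published statement uses the faces `d_0, …, d_{m-1}`, the mirror-image convention, and both versions
hold. -/
theorem result {A : Type u} [Category.{v} A] [Abelian A] (U : SimplicialObject A) (n : ℕ) (U' : ∀ m : ℕ, Subobject (U.obj (op (SimplexCategory.mk m)))) (hU' : ∀ m : ℕ, IsLUB (Set.range (fun φ : Σ i : Fin (n + 1), (SimplexCategory.mk m ⟶ SimplexCategory.mk i) => imageSubobject (U.map φ.2.op))) (U' m)) : (∀ (m m' : ℕ) (ψ : SimplexCategory.mk m' ⟶ SimplexCategory.mk m), imageSubobject ((U' m).arrow ≫ U.map ψ.op) ≤ U' m') ∧ (∀ i : ℕ, i ≤ n → U' i = ⊤) ∧ (∀ m : ℕ, n < m → U' m ⊓ AlgebraicTopology.NormalizedMooreComplex.objX U m = ⊥) := by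
  exact ⟨Groth.Agent.SkLib.gen_stable U n U' hU', Groth.Agent.SkLib.gen_eq_top U n U' hU',
    Groth.Agent.SkLib.gen_inf_normalized U n U' hU'⟩

end Groth.Agent.S6818
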