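import Groth.Statements.S6820
import Mathlib.RingTheory.Noetherian.Basic
import Mathlib.Algebra.Module.LocalizedModule.Basic
-- import your own Groth.Agent.* helpers here

set_option autoImplicit false
universe u
open Smoothing

namespace Groth.Agent.S6820

/-- Let A be a Noetherian ring, M a finite A-module, S a multiplicative subset of A and π an element of
A such that on the localised module S⁻¹M the kernels of multiplication by π and by π² agree. Then
there is an element s of S such that for every n > 0 the kernels of multiplication by sⁿπ and by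
(sⁿπ)² on M agree. (Kernel equalities are written as implications, the reverse inclusions being
automatic.) -/
theorem result {A : Type u} [CommRing A] [IsNoetherianRing A]
    (M : Type u) [AddCommGroup M] [Module A M] [Module.Finite A M] (S : Submonoid A) (π : A)
    (h : ∀ m : LocalizedModule S M, π ^ 2 • m = 0 → π • m = 0) :
    ∃ s ∈ S, ∀ n : ℕ, 0 < n → ∀ m : M, (s ^ n * π) ^ 2 • m = 0 → (s ^ n * π) • m = 0 := by
    have hN : (LinearMap.ker (LinearMap.lsmul A M (π ^ 2))).FG := IsNoetherian.noetherian _
    obtain ⟨T, hT⟩ := hN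
    have hx : ∀ x ∈ T, ∃ s : S, (s : A) • (π • x) = 0 := by
      intro x hx
      have h2 : π ^ 2 • x = 0 := by
        have : x ∈ LinearMap.ker (LinearMap.lsmul A M (π ^ 2)) := hT ▸ Submodule.subset_span hx
        exact this
      have h3 := h (LocalizedModule.mkLinearMap S M x) (by rw [← map_smul, h2, map_zero])
      rw [← map_smul] at h3
      obtain ⟨s, hs⟩ := (IsLocalizedModule.eq_zero_iff S (LocalizedModule.mkLinearMap S M)).1 h3
      exact ⟨s, hs⟩
    choose! f hf using hx
    classical
    let s₀ : S := ∏ x ∈ T, f x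
    have h0 : ∀ m : M, π ^ 2 • m = 0 → (s₀ : A) • π • m = 0 := by
      intro m hm
      have hle : LinearMap.ker (LinearMap.lsmul A M (π ^ 2)) ≤ LinearMap.ker (LinearMap.lsmul A M ((s₀ : A) * π)) := by
        rw [← hT, Submodule.span_le]
        intro x hx
        change ((s₀ : A) * π) • x = 0
        rw [show (s₀ : A) = ((∏ y ∈ T.erase x, f y) * f x : S) from by rw [Finset.prod_erase_mul _ _ hx],
          Submonoid.coe_mul, mul_assoc, mul_smul, mul_smul, hf x hx, smul_zero]
      have := hle (show m ∈ LinearMap.ker (LinearMap.lsmul A M (π ^ 2)) from hm)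
      rw [← mul_smul]
      exact this
    obtain ⟨N, hN⟩ := monotone_stabilizes_iff_noetherian.2 (inferInstance : IsNoetherian A M)
      ⟨fun j => LinearMap.ker (LinearMap.lsmul A M ((s₀ : A) ^ j)), monotone_nat_of_le_succ fun j x hx => by
        change (s₀ : A) ^ (j + 1) • x = 0
        rw [pow_succ', mul_smul, show (s₀ : A) ^ j • x = 0 from hx, smul_zero]⟩
    have hst : ∀ j, N + 1 ≤ j → ∀ x : M, (s₀ : A) ^ j • x = 0 → (s₀ : A) ^ (N + 1) • x = 0 := by
      intro j hj x hx
      have h1 : x ∈ LinearMap.ker (LinearMap.lsmul A M ((s₀ : A) ^ j)) := hx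
      have e1 : LinearMap.ker (LinearMap.lsmul A M ((s₀ : A) ^ N)) = LinearMap.ker (LinearMap.lsmul A M ((s₀ : A) ^ j)) :=
        hN j (by omega)
      rw [← e1] at h1
      rw [pow_succ', mul_smul, show (s₀ : A) ^ N • x = 0 from h1, smul_zero]
    refine ⟨(s₀ : A) ^ (N + 1), pow_mem s₀.2 _, fun n hn m hm => ?_⟩
    set k := (N + 1) * n
    rw [← pow_mul] at hm ⊢
    change ((s₀ : A) ^ k * π) ^ 2 • m = 0 at hm
    change ((s₀ : A) ^ k * π) • m = 0
    have h1 := h0 ((s₀ : A) ^ (2 * k) • m) (by rw [smul_smul, ← hm]; congr 1; ring)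
    have h2 : (s₀ : A) ^ (2 * k + 1) • π • m = 0 := by
      rw [← h1, smul_smul, smul_smul, smul_smul]; congr 1; ring
    have h3 := hst (2 * k + 1) (le_trans (le_trans (Nat.le_mul_of_pos_right (N + 1) hn) (Nat.le_mul_of_pos_left k two_pos)) (Nat.le_succ _)) (π • m) h2
    rw [mul_smul, show k = (N + 1) * (n - 1) + (N + 1) by
      obtain ⟨q, rfl⟩ := Nat.exists_eq_succ_of_ne_zero hn.ne'; simp [k, Nat.mul_succ], pow_add, mul_smul, h3, smul_zero]

end Groth.Agent.S6820
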