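import Groth.Statements.S6824
import Groth.Agent.SmoothingLib.GeomResolve

set_option autoImplicit false
universe u
open Smoothing

namespace Groth.Agent.S6824

/-- Let k be a field of characteristic p > 0, A a finitely presented k-algebra, φ : A → Λ a k-algebra
map with Λ Noetherian and geometrically regular over k, and 𝔮 ⊆ Λ a prime minimal over the radical
of H_{A/k}Λ. Then k → A → Λ ⊇ 𝔮 can be resolved. -/
theorem result {k A Λ : Type u} [Field k] (p : ℕ) [Fact p.Prime]
    [CharP k p] [CommRing A] [Algebra k A] [Algebra.FinitePresentation k A] [CommRing Λ] [Algebra k Λ]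
    [IsNoetherianRing Λ] (hreg : CAlg.IsGeometricallyRegular k Λ) (φ : A →ₐ[k] Λ) (𝔮 : Ideal Λ)
    [𝔮.IsPrime] (hmin : 𝔮 ∈ (Smoothing.singRad k φ).minimalPrimes) : Smoothing.Resolvable k φ 𝔮 := by
  exact Groth.Agent.SmoothingLib.GeomDiff.resolvable p hreg φ 𝔮 hmin

end Groth.Agent.S6824
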