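import Groth.Statements.S6825
import Groth.Agent.PopescuLib.LocalCompletion
import Groth.Agent.PopescuLib.Noetherian

set_option autoImplicit false
universe u
open Smoothing

namespace Groth.Agent.S6825

/-- Let R be a Noetherian local ring with maximal ideal m which is a G-ring, R^ its m-adic completion,
and F₁, …, F_m polynomials in n variables over R having a solution a = (a₁, …, a_n) in R^. Then for
every N there are an étale R-algebra R', an R-algebra map ψ : R' → R^, a maximal ideal m' of R'
lying over m with κ(m) = κ(m') and ψ(m') ⊆ mR^, and a solution b = (b₁, …, b_n) of the system in R'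
with a_i − ψ(b_i) ∈ m^N R^ for all i. (The source compares a and b inside R^ through the
identification of R^ with the completion of R' at m'; here that comparison map is the R-algebra map
ψ.) -/
theorem result {R : Type u} [CommRing R] [IsLocalRing R] (hG : CAlg.IsGRing R)
    {n m : ℕ} (F : Fin m → MvPolynomial (Fin n) R)
    (a : Fin n → AdicCompletion (IsLocalRing.maximalIdeal R) R) (ha : ∀ j, MvPolynomial.aeval a (F j) = 0)
    (N : ℕ) :
    ∃ (R' : Type u) (_ : CommRing R') (_ : Algebra R R'), Algebra.Etale R R' ∧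
      ∃ (ψ : R' →ₐ[R] AdicCompletion (IsLocalRing.maximalIdeal R) R) (m' : Ideal R'), m'.IsMaximal ∧
        m'.comap (algebraMap R R') = IsLocalRing.maximalIdeal R ∧
        (∀ x : R', ∃ r : R, x - algebraMap R R' r ∈ m') ∧
        (∀ x ∈ m', ψ x ∈ (IsLocalRing.maximalIdeal R).map
          (algebraMap R (AdicCompletion (IsLocalRing.maximalIdeal R) R))) ∧
        ∃ b : Fin n → R', (∀ j, MvPolynomial.aeval b (F j) = 0) ∧
          ∀ i, a i - ψ (b i) ∈ (IsLocalRing.maximalIdeal R ^ N).map
            (algebraMap R (AdicCompletion (IsLocalRing.maximalIdeal R) R)) := by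
  haveI : IsNoetherianRing R := hG.1
  haveI : IsNoetherianRing (AdicCompletion (IsLocalRing.maximalIdeal R) R) :=
    PopescuLib.noetherian_completion _
  obtain ⟨R', _, _, hR', ψ, p', hp', hcomap, hrat, hmem, b, hb, hbN⟩ :=
    PopescuLib.exists_etale_solution (R := R) (L := R)
      (PopescuLib.indSmooth_of_isRegularHom (PopescuLib.isRegularHom_completion_of_isGRing hG))
      (fun l x => ⟨R, inferInstance, inferInstance, inferInstance, AlgHom.id R R, x, fun _ => rfl⟩) F a ha N
  have hrat' : ∀ x : R', ∃ r : R, x - algebraMap R R' r ∈ p' := fun x => by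
    obtain ⟨l, hl⟩ := hrat x
    exact ⟨l, (hmem _).2 (by rwa [map_sub, AlgHom.commutes])⟩
  have hcomap' : p'.comap (algebraMap R R') = IsLocalRing.maximalIdeal R := by
    rw [hcomap]; exact Ideal.comap_id _
  refine ⟨R', inferInstance, inferInstance, hR', ψ, p', ?_, hcomap', hrat', fun x hx => (hmem x).1 hx, b, hb, hbN⟩
  refine Ideal.isMaximal_iff.2 ⟨fun h => hp'.ne_top ((Ideal.eq_top_iff_one _).2 h), fun J x hpJ hx hxJ => ?_⟩
  obtain ⟨r, hr⟩ := hrat' x
  have hru : IsUnit r := IsLocalRing.notMem_maximalIdeal.1 fun h => hx (by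
    rw [← hcomap', Ideal.mem_comap] at h
    simpa using add_mem hr h)
  have h1 : algebraMap R R' r ∈ J := by simpa using J.sub_mem hxJ (hpJ hr)
  obtain ⟨u, hu⟩ := (hru.map (algebraMap R R')).exists_left_inv
  exact hu ▸ J.mul_mem_left u h1

end Groth.Agent.S6825
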