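import Groth.Statements.S6828
import Groth.Agent.SynLift.GCICover
-- import your own Groth.Agent.* helpers here

set_option autoImplicit false
universe u
open Smoothing

namespace Groth.Agent.S6828

/-- Let R → A be a syntomic ring map. Then there are a smooth R-algebra map A → C with an R-algebra
retraction C → A, where C = R[x₁, …, x_n]/(f₁, …, f_c) is a relative global complete intersection
over R (all nonempty fibres of dimension n − c) and flat over R. -/
theorem result {R A : Type u} [CommRing R] [CommRing A] [Algebra R A]
    (h : Synt.IsSyntomic R A) :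
    ∃ (n c : ℕ) (F : Fin c → MvPolynomial (Fin n) R), Synt.IsRelGCI R n c F ∧
      Module.Flat R (Synt.RelGCIRing R n c F) ∧
      ∃ (_ : Algebra A (Synt.RelGCIRing R n c F)) (_ : IsScalarTower R A (Synt.RelGCIRing R n c F)),
        Algebra.Smooth A (Synt.RelGCIRing R n c F) ∧
        ∃ ρ : Synt.RelGCIRing R n c F →ₐ[R] A, ∀ a : A, ρ (algebraMap A (Synt.RelGCIRing R n c F) a) = a := by
    exact Groth.Agent.SynLift.exists_gci_retract h

end Groth.Agent.S6828
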