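import Groth.Statements.S6831
import Groth.Agent.SiteBase.EpiNhds

set_option autoImplicit false
universe u
open CategoryTheory CategoryTheory.Limits TopologicalSpace
open ModSite

namespace Groth.Agent.S6831

/-- Let (X, O) be a ringed space, φ : G → F a map of O-modules with F of finite type, and x a point such
that the map of stalks φ_x : G_x → F_x is surjective (stalks are taken at the point of the site of
opens of X given by x). Then φ|_U is surjective for some open neighbourhood U of x. -/
theorem result {X : TopCat.{u}} (O : TopCat.Sheaf CommRingCat.{u} X)
    {G F : ModSite.Mod O} (φ : G ⟶ F) [SheafOfModules.IsFiniteType (R := ModSite.ringSh O) F] (x : X)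
    (hx : Function.Surjective (ModSite.stalkMap (Opens.pointGrothendieckTopology x) φ).hom) :
    ∃ U : Opens X, x ∈ U ∧ Epi ((ModSite.restr O U).map φ) := by
  exact Groth.Agent.EpiNhds.exists_epi_restr φ x hx

end Groth.Agent.S6831
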