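import Groth.Statements.S6834
import Groth.Agent.SiteBase.FTColimTop

set_option autoImplicit false
universe u
open CategoryTheory CategoryTheory.Limits TopologicalSpace
open ModSite

namespace Groth.Agent.S6834

/-- Let (X, O) be a ringed space with X quasi-compact, I a directed preordered set (nonempty, with upper
bounds for pairs), (F_i) a system of O-modules over I and F = colim F_i. If F is of finite type then
F_i → F is surjective for some i; if moreover all transition maps are injective then F_i → F is an
isomorphism for some i. -/
theorem result {X : TopCat.{u}} (O : TopCat.Sheaf CommRingCat.{u} X)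
    [CompactSpace X] {I : Type u} [Preorder I] [Nonempty I] [IsDirected I (· ≤ ·)] (D : I ⥤ ModSite.Mod O)
    (c : Cocone D) (hc : IsColimit c) [SheafOfModules.IsFiniteType (R := ModSite.ringSh O) c.pt] :
    (∃ i : I, Epi (c.ι.app i)) ∧
      ((∀ (i j : I) (f : i ⟶ j), Mono (D.map f)) → ∃ i : I, IsIso (c.ι.app i)) := by
  haveI : IsFiltered I := isFiltered_of_directed_le_nonempty I
  obtain ⟨i, hi⟩ := Groth.Agent.FTColimTop.exists_epi (O := O) hc
  refine ⟨⟨i, hi⟩, fun hm => ⟨i, ?_⟩⟩
  haveI := Groth.Agent.FTColimTop.mono_app (O := O) hc (fun a b t => hm a b t) i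
  exact isIso_of_mono_of_epi _

end Groth.Agent.S6834
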