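import Groth.Statements.S6836
import Groth.Agent.SiteBase.LocBasis

set_option autoImplicit false
universe u
open CategoryTheory CategoryTheory.Limits TopologicalSpace
open ModSite

namespace Groth.Agent.S6836

/-- On a ringed space (X, O), let r ≥ 0 and let φ : F → G be a map of O-modules which are both finite
locally free of rank r (every point has an open neighbourhood U with F|_U ≅ O_U^r, the free
O_U-module on r generators, and likewise for G). Then φ is an isomorphism if and only if it is
surjective. -/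
theorem result {X : TopCat.{u}} (O : TopCat.Sheaf CommRingCat.{u} X) (r : ℕ)
    {F G : ModSite.Mod O}
    (hF : ∀ x : X, ∃ U : Opens X, x ∈ U ∧
      Nonempty ((ModSite.restr O U).obj F ≅ SheafOfModules.free (ULift.{u} (Fin r))))
    (hG : ∀ x : X, ∃ U : Opens X, x ∈ U ∧
      Nonempty ((ModSite.restr O U).obj G ≅ SheafOfModules.free (ULift.{u} (Fin r))))
    (φ : F ⟶ G) : IsIso φ ↔ Epi φ := by
  classical
  refine ⟨fun _ => inferInstance, fun _ => ?_⟩
  haveI : Mono φ := by
    refine Groth.Agent.ModPull.mono_of_app_eq_zero φ fun W z hz => ?_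
    refine Groth.Agent.ModPull.eq_of_locally' (J := Opens.grothendieckTopology X) F ?_
    refine ⟨⊤, GrothendieckTopology.top_mem _ _, fun V g _ => ?_⟩
    refine Groth.Agent.ModPull.eq_of_locally' (J := Opens.grothendieckTopology X) F ?_
    refine ⟨{ arrows := fun V' _ => ∃ U U' : Opens X, V' ≤ U ∧ V' ≤ U' ∧
                Nonempty ((ModSite.restr O U).obj F ≅ SheafOfModules.free (ULift.{u} (Fin r))) ∧
                Nonempty ((ModSite.restr O U').obj G ≅ SheafOfModules.free (ULift.{u} (Fin r)))
              downward_closed := fun {A B _} ⟨U, U', h, h', a, b⟩ k => ⟨U, U', k.le.trans h, k.le.trans h', a, b⟩ },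
      fun x hx => ?_, fun V' g' hg' => ?_⟩
    · obtain ⟨U, hxU, eU⟩ := hF x
      obtain ⟨U', hxU', eU'⟩ := hG x
      exact ⟨V ⊓ U ⊓ U', homOfLE (inf_le_left.trans inf_le_left), ⟨U, U', inf_le_left.trans inf_le_right, inf_le_right, eU, eU'⟩,
        ⟨hx, hxU⟩, hxU'⟩
    · obtain ⟨U, U', h, h', ⟨e⟩, ⟨e'⟩⟩ := hg'
      obtain ⟨s, hs⟩ := Groth.Agent.LocBasis.exists_basis_of_iso (κ := Fin r) e
      obtain ⟨t, ht⟩ := Groth.Agent.LocBasis.exists_basis_of_iso (κ := Fin r) e'
      have h0 : Groth.Agent.SecGenOps.ap φ (Groth.Agent.ModTensor.rs ((Groth.Agent.ModTensor.fg O).obj F) (g' ≫ g).op z) = 0 := by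
        rw [Groth.Agent.SecGenOps.ap_rs]
        exact (congrArg _ hz).trans (map_zero _)
      have := Groth.Agent.LocBasis.app_eq_zero_of_epi φ (hs.pull (homOfLE h)) (ht.pull (homOfLE h')) _ h0
      rw [← Groth.Agent.SecGen.rs_op_comp, this, ← Groth.Agent.SecGen.rs_op_comp]
      exact (map_zero _).symm
  exact isIso_of_mono_of_epi _

end Groth.Agent.S6836
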