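import Groth.Statements.S6841
import Groth.Agent.SmoothingLib.SmoothPoint
-- import your own Groth.Agent.* helpers here

set_option autoImplicit false
universe u
open Smoothing

namespace Groth.Agent.S6841

open TensorProduct in
/-- Let R ⊆ Λ be an extension of discrete valuation rings of ramification index 1 (m_R Λ = m_Λ), A a
flat R-algebra of finite type with an R-algebra map A → Λ, 𝔮 its kernel and 𝔭 the inverse image of
the maximal ideal of Λ. Assume R → A is smooth at 𝔮. Provided the Λ-module Ω_{A/R} ⊗_A Λ is free,
the map R → A is also smooth at the prime 𝔭. (The published statement phrases the freeness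
hypothesis through a surjection B → A from an R-algebra smooth at the point, with kernel I, as
freeness of the cokernel of I/I² ⊗_A Λ → Ω_{B/R} ⊗_B Λ; that cokernel is Ω_{A/R} ⊗_A Λ, which is how
its proof begins, so the two forms are equivalent.) -/
theorem result {R Λ A : Type u} [CommRing R] [IsDomain R]
    [IsDiscreteValuationRing R] [CommRing Λ] [IsDomain Λ] [IsDiscreteValuationRing Λ] [Algebra R Λ]
    [NoZeroSMulDivisors R Λ] (he : (IsLocalRing.maximalIdeal R).map (algebraMap R Λ) = IsLocalRing.maximalIdeal Λ)
    [CommRing A] [Algebra R A] [Module.Flat R A] [Algebra.FiniteType R A] [Algebra A Λ] [IsScalarTower R A Λ]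
    [(RingHom.ker (algebraMap A Λ)).IsPrime]
    (hq : Algebra.IsSmoothAt R (RingHom.ker (algebraMap A Λ)))
    (hfree : Module.Free Λ (Λ ⊗[A] Ω[A⁄R])) :
    Algebra.IsSmoothAt R ((IsLocalRing.maximalIdeal Λ).comap (algebraMap A Λ)) := by
    haveI := hfree
    exact Groth.Agent.SmoothingLib.isSmoothAt_special hq

end Groth.Agent.S6841
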