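import Groth.Statements.S6843
import Groth.Agent.PopescuLib.LocalCompletion
import Groth.Agent.PopescuLib.Noetherian

set_option autoImplicit false
universe u
open Smoothing

namespace Groth.Agent.S6843

/-- Let R be a Noetherian ring, p ⊆ R a prime with R_p a G-ring, (R_p)^ the completion of R_p, and F₁,
…, F_m polynomials in n variables over R with a solution a in (R_p)^. Then for every N there are an
étale R-algebra R', a ring map ψ : R' → (R_p)^ compatible with the maps from R, a prime p' ⊆ R'
lying over p with κ(p) = κ(p') (every element of R'/p' is a fraction of elements of R/p) and ψ(p') ⊆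
p(R_p)^, and a solution b of the system in R' with a_i − ψ(b_i) ∈ p^N (R_p)^. (The source compares a
and b through the identification of (R_p)^ with the completion of R'_{p'}; here the comparison map
is ψ.) -/
theorem result {R : Type u} [CommRing R] [IsNoetherianRing R]
    (p : Ideal R) [p.IsPrime] (hG : CAlg.IsGRing (Localization.AtPrime p)) {n m : ℕ}
    (F : Fin m → MvPolynomial (Fin n) R)
    (a : Fin n → AdicCompletion (IsLocalRing.maximalIdeal (Localization.AtPrime p)) (Localization.AtPrime p))
    (ha : ∀ j, MvPolynomial.aeval a (MvPolynomial.map (algebraMap R (Localization.AtPrime p)) (F j)) = 0) (N : ℕ) :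
    ∃ (R' : Type u) (_ : CommRing R') (_ : Algebra R R'), Algebra.Etale R R' ∧
      ∃ (ψ : R' →+* AdicCompletion (IsLocalRing.maximalIdeal (Localization.AtPrime p)) (Localization.AtPrime p))
        (p' : Ideal R'), p'.IsPrime ∧
        (∀ r : R, ψ (algebraMap R R' r) =
          algebraMap (Localization.AtPrime p) _ (algebraMap R (Localization.AtPrime p) r)) ∧
        p'.comap (algebraMap R R') = p ∧
        (∀ x : R', ∃ r s : R, s ∉ p ∧ algebraMap R R' s * x - algebraMap R R' r ∈ p') ∧
        (∀ x ∈ p', ψ x ∈ (IsLocalRing.maximalIdeal (Localization.AtPrime p)).map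
          (algebraMap (Localization.AtPrime p)
            (AdicCompletion (IsLocalRing.maximalIdeal (Localization.AtPrime p)) (Localization.AtPrime p)))) ∧
        ∃ b : Fin n → R', (∀ j, MvPolynomial.aeval b (F j) = 0) ∧
          ∀ i, a i - ψ (b i) ∈ (IsLocalRing.maximalIdeal (Localization.AtPrime p) ^ N).map
            (algebraMap (Localization.AtPrime p)
              (AdicCompletion (IsLocalRing.maximalIdeal (Localization.AtPrime p)) (Localization.AtPrime p))) := by
  classical
  let L := Localization.AtPrime p
  let T := AdicCompletion (IsLocalRing.maximalIdeal L) L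
  haveI : IsNoetherianRing L := hG.1
  haveI : IsNoetherianRing T := PopescuLib.noetherian_completion _
  have hind : Smoothing.IndSmooth R T := PopescuLib.indSmooth_of_localization L p.primeCompl
    (PopescuLib.indSmooth_of_isRegularHom (PopescuLib.isRegularHom_completion_of_isGRing hG))
  have happ : ∀ (l : ℕ) (x : Fin l → L), ∃ (R₀ : Type u) (_ : CommRing R₀) (_ : Algebra R R₀), Algebra.Etale R R₀ ∧
      ∃ (ι : R₀ →ₐ[R] L) (r : Fin l → R₀), ∀ i, ι (r i) = x i := fun l x => by
    obtain ⟨s, hs⟩ := IsLocalization.exist_integer_multiples_of_finite p.primeCompl x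
    choose c hc using hs
    let ι : Localization.Away (s : R) →ₐ[R] L :=
      ⟨IsLocalization.Away.lift (s : R) (g := algebraMap R L) (IsLocalization.map_units L s),
        fun r => IsLocalization.Away.lift_eq (s : R) (g := algebraMap R L) _ r⟩
    refine ⟨Localization.Away (s : R), inferInstance, inferInstance,
      Algebra.Etale.of_isLocalizationAway (s : R), ι,
      fun i => algebraMap R _ (c i) * IsLocalization.Away.invSelf (s : R), fun i => ?_⟩
    have h1 : algebraMap R L (s : R) * ι (IsLocalization.Away.invSelf (s : R)) = 1 := by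
      rw [← ι.commutes, ← map_mul, IsLocalization.Away.mul_invSelf, map_one]
    rw [map_mul, ι.commutes, hc i, Algebra.smul_def, mul_right_comm, h1, one_mul]
  obtain ⟨R', _, _, hR', ψ, p', hp', hcomap, hrat, hmem, b, hb, hbN⟩ :=
    PopescuLib.exists_etale_solution (R := R) (L := L) hind happ F a
      (fun j => by rw [← MvPolynomial.aeval_map_algebraMap L]; exact ha j) N
  refine ⟨R', inferInstance, inferInstance, hR', ψ.toRingHom, p', hp', fun r => ?_, ?_, fun x => ?_,
    fun x hx => (hmem x).1 hx, b, hb, hbN⟩
  · exact (ψ.commutes r).trans (IsScalarTower.algebraMap_apply R L T r)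
  · rw [hcomap]; exact IsLocalization.AtPrime.under_maximalIdeal L p
  · obtain ⟨y, hy⟩ := hrat x
    obtain ⟨⟨r, s⟩, hrs⟩ := IsLocalization.surj p.primeCompl y
    refine ⟨r, s, s.2, (hmem _).2 ?_⟩
    have h1 : ψ (algebraMap R R' s * x - algebraMap R R' r) = algebraMap R T s * (ψ x - algebraMap L T y) := by
      rw [map_sub, map_mul, ψ.commutes, ψ.commutes, mul_sub, IsScalarTower.algebraMap_apply R L T r, ← hrs,
        map_mul, ← IsScalarTower.algebraMap_apply R L T, mul_comm (algebraMap L T y)]
    rw [h1]
    exact Ideal.mul_mem_left _ _ hy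

end Groth.Agent.S6843
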