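import Groth.Statements.S6845
import Groth.Agent.SiteBase.RelLiftTop

set_option autoImplicit false
universe u
open CategoryTheory CategoryTheory.Limits TopologicalSpace
open ModSite

namespace Groth.Agent.S6845

/-- Let f : (X, O_X) → (Y, O_Y) be a flat morphism of ringed spaces, i.e. for every x ∈ X the ring map
of stalks O_{Y, f(x)} → O_{X, x} is flat. In this situation, pulling back modules along f gives an
exact functor f^* from Mod(O_Y) to Mod(O_X) (it is a left adjoint, so the content is that it
preserves finite limits). -/
theorem result {X Y : TopCat.{u}} (f : X ⟶ Y) (O_X : TopCat.Sheaf CommRingCat.{u} X)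
    (O_Y : TopCat.Sheaf CommRingCat.{u} Y)
    (c : O_Y ⟶ ((TopologicalSpace.Opens.map f).sheafPushforwardContinuous CommRingCat.{u}
      (Opens.grothendieckTopology Y) (Opens.grothendieckTopology X)).obj O_X)
    (hflat : ∀ x : X, ((TopCat.Presheaf.stalkFunctor CommRingCat.{u} (f x)).map
        (show O_Y.presheaf ⟶ (TopCat.Presheaf.pushforward CommRingCat.{u} f).obj O_X.presheaf from c.hom) ≫
      TopCat.Presheaf.stalkPushforward CommRingCat.{u} f O_X.presheaf x).hom.Flat) :
    ModSite.RMor.IsFlat (ModSite.RMor.ofFlat (TopologicalSpace.Opens.map f) c) := by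
  exact SiteBase.isFlat_of_relLift _ (SiteBase.relLift_of_flat_stalks f O_X O_Y c hflat)


end Groth.Agent.S6845
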