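import Groth.Statements.S6846
import Groth.Agent.SiteBase.ClosedPushFT

set_option autoImplicit false
universe u
open CategoryTheory CategoryTheory.Limits TopologicalSpace
open ModSite

namespace Groth.Agent.S6846

/-- Let i : (Z, O_Z) → (X, O_X) be a morphism of ringed spaces. Suppose the underlying continuous map
embeds Z homeomorphically as a closed subset of X, and that the comorphism i♯ : O_X → i_*O_Z is
surjective as a map of sheaves (locally surjective). Then, given any O_Z-module F, finite type of F
is equivalent to finite type of the pushforward O_X-module i_*F. -/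
theorem result {Z X : TopCat.{u}} (i : Z ⟶ X)
    (O_Z : TopCat.Sheaf CommRingCat.{u} Z) (O_X : TopCat.Sheaf CommRingCat.{u} X)
    (c : O_X ⟶ ((TopologicalSpace.Opens.map i).sheafPushforwardContinuous CommRingCat.{u}
      (Opens.grothendieckTopology X) (Opens.grothendieckTopology Z)).obj O_Z)
    (hi : Topology.IsClosedEmbedding i) (hc : Sheaf.IsLocallySurjective c) (F : ModSite.Mod O_Z) :
    SheafOfModules.IsFiniteType (R := ModSite.ringSh O_X)
        ((ModSite.RMor.ofFlat (TopologicalSpace.Opens.map i) c).push.obj F) ↔
      SheafOfModules.IsFiniteType (R := ModSite.ringSh O_Z) F := by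
  refine ⟨fun _ => Groth.Agent.ClosedPushFT.isFiniteType_of_push i c hi F,
    fun _ => Groth.Agent.ClosedPushFT.isFiniteType_push i c hi F hc⟩

end Groth.Agent.S6846
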