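import Groth.Statements.S6851
import Groth.Agent.SiteBase.InvertibleLocal

set_option autoImplicit false
set_option backward.isDefEq.respectTransparency false
set_option linter.style.haveILetI false
universe u
open CategoryTheory CategoryTheory.Limits TopologicalSpace
open ModSite

namespace Groth.Agent.S6851

/-- Let (X, O) be a ringed space all of whose stalks O_{X,x} are local rings with maximal ideals m_x, L
an invertible O-module (F ↦ L ⊗_O F is an equivalence of Mod(O)) and s a section of L over an open
U. Then the set X_s of points x ∈ U whose germ s_x does not lie in m_x L_x is open, and for every x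
∈ X_s the map O_{X,x} → L_x, a ↦ a s_x, is bijective; that is, s : O_{X_s} → L|_{X_s} is an
isomorphism, isomorphy being checked on stalks. Stalks and germs are taken at the point of the site
of opens of X given by x. (The published statement also produces the section s' of the inverse of L
with s' s = 1; that consequence is not restated here.) -/
theorem result {X : TopCat.{u}} (O : TopCat.Sheaf CommRingCat.{u} X)
    (hO : ∀ x : X, IsLocalRing (ModSite.stalkRing (Opens.pointGrothendieckTopology x) O)) (L : ModSite.Mod O)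
    (hL : ((ModSite.tensorBi O).obj L).IsEquivalence) (U : Opens X) (s : ModSite.sect L U) :
    IsOpen {x : X | ∃ hx : x ∈ U, ModSite.germ (Opens.pointGrothendieckTopology x) L U ⟨⟨hx⟩⟩ s ∉
        (@IsLocalRing.maximalIdeal (ModSite.stalkRing (Opens.pointGrothendieckTopology x) O) _ (hO x)) •
          (⊤ : Submodule (ModSite.stalkRing (Opens.pointGrothendieckTopology x) O)
            (ModSite.stalkAb (Opens.pointGrothendieckTopology x) L))} ∧
      ∀ (x : X) (hx : x ∈ U), ModSite.germ (Opens.pointGrothendieckTopology x) L U ⟨⟨hx⟩⟩ s ∉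
          (@IsLocalRing.maximalIdeal (ModSite.stalkRing (Opens.pointGrothendieckTopology x) O) _ (hO x)) •
            (⊤ : Submodule (ModSite.stalkRing (Opens.pointGrothendieckTopology x) O)
              (ModSite.stalkAb (Opens.pointGrothendieckTopology x) L)) →
        Function.Bijective (fun a : ModSite.stalkRing (Opens.pointGrothendieckTopology x) O =>
          a • ModSite.germ (Opens.pointGrothendieckTopology x) L U ⟨⟨hx⟩⟩ s) := by
  obtain ⟨N, ⟨e⟩⟩ := Groth.Agent.SiteBase.exists_tensor_iso_unit hL
  have key : ∀ (x : X) (hx : x ∈ U), ∃ (V : Opens X) (g : V ⟶ U) (l : ModSite.sect L V) (c : O.obj.obj (Opposite.op V)),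
      x ∈ V ∧ Groth.Agent.LocBasis.IsBasis L (fun _ : Fin 1 => l) ∧
        Groth.Agent.ModTensor.rs ((Groth.Agent.ModTensor.fg O).obj L) g.op s = c • l := by
    intro x hx
    haveI := hO x
    obtain ⟨V, g, v, l, -, hl⟩ :=
      Groth.Agent.InvertibleLocal.exists_basis_nhd e (Opens.pointGrothendieckTopology x) (U := U) ⟨⟨hx⟩⟩
    obtain ⟨c, hc, -⟩ := hl (𝟙 V) (Groth.Agent.ModTensor.rs ((Groth.Agent.ModTensor.fg O).obj L) g.op s)
    refine ⟨V, g, l, c 0, v.down.down, hl, ?_⟩
    refine Eq.symm ?_
    refine Eq.trans ?_ hc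
    rw [Fin.sum_univ_one]
    exact congrArg (fun q => c 0 • q) (Groth.Agent.ModTensor.rs_id l).symm
  refine ⟨isOpen_iff_forall_mem_open.2 fun x hx => ?_, fun x hx hs => ?_⟩
  · obtain ⟨hxU, hns⟩ := hx
    obtain ⟨V, g, l, c, hxV, hl, hs⟩ := key x hxU
    haveI := hO x
    have hu := ((Groth.Agent.InvertibleLocal.germ_notMem_iff (Opens.pointGrothendieckTopology x) (⟨⟨hxV⟩⟩) hl c).1).1 (by
      rw [← hs, Groth.Agent.SiteBase.germ_rs]; exact hns)
    obtain ⟨b, hb⟩ := hu.exists_right_inv
    obtain ⟨W, a, w, r, -, hw, hr, -⟩ := Groth.Agent.SiteBase.exists_common_germ (O := O) (F := L)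
      (Opens.pointGrothendieckTopology x) V (⟨⟨hxV⟩⟩) 1 (fun _ => b) (fun _ => 0)
    have e' : ModSite.germRing (O := O) (Opens.pointGrothendieckTopology x) W w ((O.obj.map a.op).hom c * r 0) =
        ModSite.germRing (Opens.pointGrothendieckTopology x) W w 1 := by
      rw [Groth.Agent.SiteBase.germRing_mul, Groth.Agent.SiteBase.germRing_map, hw, hr, hb]
      exact (map_one ((Opens.pointGrothendieckTopology x).toPresheafFiber W w O.obj).hom).symm
    obtain ⟨W', q, w', -, he⟩ := ((Opens.pointGrothendieckTopology x).toPresheafFiber_eq_iff' (P := O.obj) _ _ _ _).1 e'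
    have he' : IsUnit ((O.obj.map (q ≫ a).op).hom c) := by
      have h2 : (O.obj.map q.op).hom ((O.obj.map a.op).hom c * r 0) = 1 :=
        (show (O.obj.map q.op).hom _ = (O.obj.map q.op).hom 1 from he).trans (map_one _)
      rw [map_mul, ← Groth.Agent.StalkFree.omap_comp] at h2
      exact IsUnit.of_mul_eq_one _ h2
    refine ⟨(W' : Set X), fun y hy => ?_, W'.isOpen, w'.down.down⟩
    have hyV : y ∈ V := (q ≫ a).le hy
    refine ⟨g.le hyV, ?_⟩
    haveI := hO y
    have hu' : IsUnit (ModSite.germRing (O := O) (Opens.pointGrothendieckTopology y) V ⟨⟨hyV⟩⟩ c) := by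
      have h3 := he'.map ((Opens.pointGrothendieckTopology y).toPresheafFiber W' ⟨⟨hy⟩⟩ O.obj).hom
      exact (Groth.Agent.SiteBase.germRing_map (Opens.pointGrothendieckTopology y) (q ≫ a) ⟨⟨hy⟩⟩ c) ▸ h3
    have := ((Groth.Agent.InvertibleLocal.germ_notMem_iff (Opens.pointGrothendieckTopology y) (⟨⟨hyV⟩⟩) hl c).1).2 hu'
    rw [← hs, Groth.Agent.SiteBase.germ_rs] at this
    exact this
  · obtain ⟨V, g, l, c, hxV, hl, hsc⟩ := key x hx
    haveI := hO x
    have h := Groth.Agent.InvertibleLocal.germ_notMem_iff (Opens.pointGrothendieckTopology x) (⟨⟨hxV⟩⟩) hl c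
    rw [← hsc, Groth.Agent.SiteBase.germ_rs] at h
    exact h.2 (h.1.1 hs)

end Groth.Agent.S6851
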