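import Groth.Statements.S6852
import Groth.Agent.SiteBase.PullQc

set_option autoImplicit false
universe u
open CategoryTheory CategoryTheory.Limits TopologicalSpace
open ModSite

namespace Groth.Agent.S6852

/-- Let f : (X, O_X) → (Y, O_Y) be a morphism of ringed spaces. If the O_Y-module G is locally generated
by sections (there is an open covering of Y on whose members G is generated by a family of
sections), then f^*G is locally generated by sections. -/
theorem result {X Y : TopCat.{u}} (f : X ⟶ Y) (O_X : TopCat.Sheaf CommRingCat.{u} X)
    (O_Y : TopCat.Sheaf CommRingCat.{u} Y)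
    (c : O_Y ⟶ ((TopologicalSpace.Opens.map f).sheafPushforwardContinuous CommRingCat.{u}
      (Opens.grothendieckTopology Y) (Opens.grothendieckTopology X)).obj O_X)
    (G : ModSite.Mod O_Y) (hG : Nonempty (SheafOfModules.LocalGeneratorsData.{u} (R := ModSite.ringSh O_Y) G)) :
    Nonempty (SheafOfModules.LocalGeneratorsData.{u} (R := ModSite.ringSh O_X)
      ((ModSite.RMor.ofFlat (TopologicalSpace.Opens.map f) c).pull.obj G)) := by
  obtain ⟨σ⟩ := hG
  exact Groth.Agent.PullQc.nonempty_localGeneratorsData (ModSite.RMor.ofFlat (TopologicalSpace.Opens.map f) c) σ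

end Groth.Agent.S6852
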