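import Groth.Statements.S6853
import Mathlib
import Groth.Agent.SiteBase.Invertible
import Groth.Agent.ModPull.Tensor
import Mathlib.Algebra.Category.ModuleCat.Sheaf.PullbackFree

set_option autoImplicit false
universe u
open CategoryTheory CategoryTheory.Limits TopologicalSpace
open ModSite

namespace Groth.Agent.S6853

/-- Let f : (X, O_X) → (Y, O_Y) be a morphism of ringed spaces and L an invertible O_Y-module, i.e. N ↦
L ⊗ N is an equivalence of Mod(O_Y). Then f^*L is an invertible O_X-module: M ↦ f^*L ⊗ M is an
equivalence of Mod(O_X). -/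
theorem result {X Y : TopCat.{u}} (f : X ⟶ Y) (O_X : TopCat.Sheaf CommRingCat.{u} X)
    (O_Y : TopCat.Sheaf CommRingCat.{u} Y)
    (c : O_Y ⟶ ((TopologicalSpace.Opens.map f).sheafPushforwardContinuous CommRingCat.{u}
      (Opens.grothendieckTopology Y) (Opens.grothendieckTopology X)).obj O_X)
    (L : ModSite.Mod O_Y) (hL : ((ModSite.tensorBi O_Y).obj L).IsEquivalence) :
    ((ModSite.tensorBi O_X).obj ((ModSite.RMor.ofFlat (TopologicalSpace.Opens.map f) c).pull.obj L)).IsEquivalence := by
  obtain ⟨N, ⟨e⟩⟩ := SiteBase.exists_tensor_iso_unit hL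
  let F := ModSite.RMor.ofFlat (TopologicalSpace.Opens.map f) c
  have : F.fn.IsContinuous (Opens.grothendieckTopology Y) (Opens.grothendieckTopology X) := F.isContinuous
  have hfin : (TopologicalSpace.Opens.map f).Final := final_of_representablyFlat _
  have : F.fn.Final := hfin
  have : (SheafOfModules.pushforward.{u} F.sharpR).IsRightAdjoint := ModSite.RMor.isRightAdjoint_push F
  exact SiteBase.isEquivalence_of_tensor_iso_unit (N := F.pull.obj N)
    (((ModPull.pullTensorIso F N).app L).symm ≪≫ F.pull.mapIso e ≪≫
      @asIso _ _ _ _ (SheafOfModules.pullbackObjUnitToUnit F.sharpR) inferInstance)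


end Groth.Agent.S6853
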