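import Groth.Statements.S6855
import Mathlib


set_option autoImplicit false
universe u
open CategoryTheory CategoryTheory.Limits TopologicalSpace
open ModSite

namespace Groth.Agent.S6855

/-- Let X be a topological space and O a sheaf of rings on X. Then the support of O, the set of points x
with nonzero stalk O_x, is closed in X. -/
theorem result {X : TopCat.{u}} (O : TopCat.Sheaf CommRingCat.{u} X) :
    IsClosed {x : X | Nontrivial (O.presheaf.stalk x)} := by
  refine ⟨isOpen_iff_forall_mem_open.mpr fun x hx => ?_⟩
  have h : Subsingleton (O.presheaf.stalk x) := not_nontrivial_iff_subsingleton.mp hx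
  let F := O.presheaf
  obtain ⟨W, hxW, iU, iV, hW⟩ := F.germ_eq x (U := ⊤) (V := ⊤) trivial trivial (1 : F.obj (Opposite.op ⊤)) 0
    (h.elim _ _)
  refine ⟨W, fun y hy => ?_, W.2, hxW⟩
  refine not_nontrivial_iff_subsingleton.mpr (subsingleton_of_zero_eq_one ?_)
  have := congrArg (F.germ W y hy).hom hW
  simp only [map_one, map_zero] at this
  exact this.symm


end Groth.Agent.S6855
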