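import Groth.Statements.S6860
import Mathlib.RingTheory.Smooth.StandardSmooth
import Mathlib.LinearAlgebra.Matrix.Determinant.Basic
-- import your own Groth.Agent.* helpers here

set_option autoImplicit false
universe u
open Smoothing

namespace Groth.Agent.S6860

/-- Let R → A be standard smooth and E ⊆ A a finite subset. Then A admits a standard smooth presentation
A = R[x₁, …, x_N]/(f₁, …, f_c) (a submersive presentation: finitely many generators and relations,
an injection from the relations to the variables picking the distinguished variables, and the
Jacobian of the relations with respect to the distinguished variables invertible in A) in which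
every element of E is the class of a distinguished variable. (The published statement arranges E to
be exactly the classes of the first n = |E| variables, all of them distinguished, with c ≥ n; this
row states that E is contained in the set of classes of the distinguished variables, which is what
that arrangement gives.) -/
theorem result {R A : Type u} [CommRing R] [CommRing A] [Algebra R A]
    [Algebra.IsStandardSmooth R A] (E : Finset A) :
    ∃ (ι σ : Type) (_ : Finite ι) (_ : Finite σ) (P : Algebra.SubmersivePresentation R A ι σ),
      (↑E : Set A) ⊆ Set.range (P.val ∘ P.map) := by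
    obtain ⟨ι, σ, hσ, hι, ⟨P⟩⟩ := Algebra.IsStandardSmooth.out (R := R) (S := A)
    classical
    let τ := Fin E.card
    let c : τ → A := fun i => (E.equivFin.symm i : A)
    let v : τ → MvPolynomial τ A := fun i => MvPolynomial.X i - MvPolynomial.C (c i)
    let g : (MvPolynomial τ A ⧸ Ideal.span (Set.range v)) →ₐ[A] A :=
      Ideal.Quotient.liftₐ _ (MvPolynomial.aeval c) fun x hx => by
        have hle : Ideal.span (Set.range v) ≤ RingHom.ker (MvPolynomial.aeval c : MvPolynomial τ A →ₐ[A] A) := by
          rw [Ideal.span_le]; rintro _ ⟨i, rfl⟩; simp [v]
        exact hle hx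
    have hg : Function.Bijective g := by
      refine ⟨fun x y hxy => ?_, fun a => ⟨algebraMap A _ a, g.commutes a⟩⟩
      have key : ∀ z : MvPolynomial τ A ⧸ Ideal.span (Set.range v), z = algebraMap A _ (g z) := by
        intro z
        obtain ⟨p, rfl⟩ := Ideal.Quotient.mk_surjective z
        induction p using MvPolynomial.induction_on with
        | C a => exact congrArg (algebraMap A (MvPolynomial τ A ⧸ Ideal.span (Set.range v))) (g.commutes a).symm
        | add p q hp hq => rw [map_add, map_add, map_add, ← hp, ← hq]
        | mul_X p i hp =>
          rw [map_mul, map_mul, map_mul, ← hp]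
          congr 1
          have : g (Ideal.Quotient.mk _ (MvPolynomial.X i)) = c i := MvPolynomial.aeval_X _ _
          rw [this]
          exact Ideal.Quotient.eq.2 (Ideal.subset_span ⟨i, rfl⟩)
      rw [key x, key y, hxy]
    let Q₀ := Algebra.PreSubmersivePresentation.naive (R := A) (v := v) id Function.injective_id
    have hQ : IsUnit Q₀.jacobian := by
      rw [Algebra.PreSubmersivePresentation.jacobian_eq_jacobiMatrix_det,
        show Q₀.jacobiMatrix = 1 from ?_, Matrix.det_one, map_one]
      · exact isUnit_one
      ext1 i j
      rw [Algebra.PreSubmersivePresentation.jacobiMatrix_naive]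
      simp [v, Matrix.one_apply, Pi.single_apply, eq_comm]
    let Q : Algebra.SubmersivePresentation A A τ τ :=
      Algebra.SubmersivePresentation.ofAlgEquiv ⟨Q₀, hQ⟩ (AlgEquiv.ofBijective g hg)
    refine ⟨τ ⊕ ι, τ ⊕ σ, inferInstance, inferInstance, Q.comp P, fun a ha => ?_⟩
    refine ⟨Sum.inl (E.equivFin ⟨a, ha⟩), ?_⟩
    change g (Ideal.Quotient.mk _ (MvPolynomial.X (E.equivFin ⟨a, ha⟩))) = a
    rw [show g (Ideal.Quotient.mk _ (MvPolynomial.X (E.equivFin ⟨a, ha⟩))) = c _ from MvPolynomial.aeval_X _ _]
    simp [c]

end Groth.Agent.S6860
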