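import Groth.Statements.S6862
import Mathlib

set_option autoImplicit false
universe u
open CAlg

namespace Groth.Agent.S6862

/-- Let `R` be a commutative ring and `P'`, `P`, `P''` finitely generated projective `R`-modules in an
exact sequence `0 → P' → P → P'' → 0`. Whenever two of the three are stably free, the remaining one
is stably free too (all three cases are stated). -/
theorem result {R : Type u} [CommRing R] {P' P P'' : Type u}
    [AddCommGroup P'] [Module R P'] [Module.Finite R P'] [Module.Projective R P']
    [AddCommGroup P] [Module R P] [Module.Finite R P] [Module.Projective R P]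
    [AddCommGroup P''] [Module R P''] [Module.Finite R P''] [Module.Projective R P'']
    (f : P' →ₗ[R] P) (g : P →ₗ[R] P'') (hf : Function.Injective f) (hg : Function.Surjective g)
    (hfg : Function.Exact f g) :
    (Module.IsStablyFree R P' → Module.IsStablyFree R P → Module.IsStablyFree R P'') ∧
    (Module.IsStablyFree R P' → Module.IsStablyFree R P'' → Module.IsStablyFree R P) ∧
    (Module.IsStablyFree R P → Module.IsStablyFree R P'' → Module.IsStablyFree R P') := by
  classical
  obtain ⟨s, hs⟩ := g.exists_rightInverse_of_surjective (LinearMap.range_eq_top.mpr hg)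
  let e : P ≃ₗ[R] P' × P'' := (hfg.splitSurjectiveEquiv hf ⟨s, hs⟩).1
  refine ⟨fun h' h => ?_, fun h' h'' => ?_, fun h h'' => ?_⟩
  · obtain ⟨N', _, _, _, _, _⟩ := @Module.IsStablyFree.exist_free_prod R _ P' _ _ h'
    obtain ⟨N, _, _, _, _, _⟩ := @Module.IsStablyFree.exist_free_prod R _ P _ _ h
    haveI : Module.Finite R (P' × N') := inferInstance
    let e₂ : ((P × N) × N') ≃ₗ[R] (P'' × ((P' × N') × N)) :=
      { toFun := fun x => ((e x.1.1).2, (((e x.1.1).1, x.2), x.1.2))
        invFun := fun y => ((e.symm (y.2.1.1, y.1), y.2.2), y.2.1.2)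
        map_add' := fun x y => by simp
        map_smul' := fun c x => by simp
        left_inv := fun x => by simp
        right_inv := fun y => by simp }
    haveI : Module.Free R (P'' × ((P' × N') × N)) := Module.Free.of_equiv e₂
    exact Module.IsStablyFree.of_free_prod R P'' ((P' × N') × N)
  · obtain ⟨N', _, _, _, _, _⟩ := @Module.IsStablyFree.exist_free_prod R _ P' _ _ h'
    obtain ⟨N'', _, _, _, _, _⟩ := @Module.IsStablyFree.exist_free_prod R _ P'' _ _ h''
    let e₂ : ((P' × N') × (P'' × N'')) ≃ₗ[R] (P × (N' × N'')) :=
      LinearEquiv.prodProdProdComm R P' N' P'' N'' ≪≫ₗ (e.symm.prodCongr (LinearEquiv.refl R (N' × N'')))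
    haveI : Module.Free R (P × (N' × N'')) := Module.Free.of_equiv e₂
    exact Module.IsStablyFree.of_free_prod R P (N' × N'')
  · obtain ⟨N'', _, _, _, _, _⟩ := @Module.IsStablyFree.exist_free_prod R _ P'' _ _ h''
    obtain ⟨N, _, _, _, _, _⟩ := @Module.IsStablyFree.exist_free_prod R _ P _ _ h
    haveI : Module.Finite R (P'' × N'') := inferInstance
    let e₂ : ((P × N) × N'') ≃ₗ[R] (P' × ((P'' × N'') × N)) :=
      { toFun := fun x => ((e x.1.1).1, (((e x.1.1).2, x.2), x.1.2))
        invFun := fun y => ((e.symm (y.1, y.2.1.1), y.2.2), y.2.1.2)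
        map_add' := fun x y => by simp
        map_smul' := fun c x => by simp
        left_inv := fun x => by simp
        right_inv := fun y => by simp }
    haveI : Module.Free R (P' × ((P'' × N'') × N)) := Module.Free.of_equiv e₂
    exact Module.IsStablyFree.of_free_prod R P' ((P'' × N'') × N)

end Groth.Agent.S6862
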