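import Groth.Statements.S6863
import Mathlib

set_option autoImplicit false
universe u
open TensorProduct
open CAlg

namespace Groth.Agent.S6863

/-- Let `I` be an ideal of a commutative ring `R` contained in the Jacobson radical (equivalently, `1 +
i` is a unit for each `i ∈ I`). Then each finitely generated stably free module `E` over `R/I`
lifts: there is a finite stably free `R`-module `M` with `M/IM ≅ E` (existence of an isomorphism
only; the published statement names no map). -/
theorem result {R : Type u} [CommRing R] (I : Ideal R)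
    (hI : I ≤ Ideal.jacobson (⊥ : Ideal R)) (E : Type u) [AddCommGroup E] [Module (R ⧸ I) E]
    [Module.Finite (R ⧸ I) E] [Module.IsStablyFree (R ⧸ I) E] :
    ∃ (M : Type u) (_ : AddCommGroup M) (_ : Module R M), Module.Finite R M ∧ Module.IsStablyFree R M ∧
      Nonempty ((R ⧸ I) ⊗[R] M ≃ₗ[R ⧸ I] E) := by
  open TensorProduct in
  classical
  let Rb := R ⧸ I
  obtain ⟨N, _, _, _, _, _⟩ := Module.IsStablyFree.exist_free_prod Rb E
  let bN := Module.Free.chooseBasis Rb N
  let bP := Module.Free.chooseBasis Rb (E × N)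
  let π₀ : (Module.Free.ChooseBasisIndex Rb (E × N) → Rb) →ₗ[Rb] (Module.Free.ChooseBasisIndex Rb N → Rb) :=
    bN.equivFun.toLinearMap ∘ₗ LinearMap.snd Rb E N ∘ₗ bP.equivFun.symm.toLinearMap
  choose pre hpre using fun i : R ⧸ I => Ideal.Quotient.mk_surjective i
  let P : (Module.Free.ChooseBasisIndex Rb (E × N) → R) →ₗ[R] (Module.Free.ChooseBasisIndex Rb N → R) :=
    (Matrix.of fun i j => pre (LinearMap.toMatrix' π₀ i j)).mulVecLin
  let red : ∀ (ι : Type u), (ι → R) →ₗ[R] (ι → Rb) := fun ι => (Algebra.linearMap R Rb).compLeft ι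
  have hred : ∀ v, red _ (P v) = π₀ (red _ v) := by
    intro v
    funext i
    have : π₀ (red _ v) = (LinearMap.toMatrix' π₀).mulVec (red _ v) :=
      (LinearMap.toMatrix'_mulVec π₀ _).symm
    rw [this]
    show Ideal.Quotient.mk I (((Matrix.of fun i j => pre (LinearMap.toMatrix' π₀ i j)).mulVec v) i) = _
    simp only [Matrix.mulVec, dotProduct, map_sum, map_mul, Matrix.of_apply, hpre]
    rfl
  have hπ₀ : Function.Surjective π₀ :=
    bN.equivFun.surjective.comp (Prod.snd_surjective.comp bP.equivFun.symm.surjective)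
  have hredsurj : ∀ ι, Function.Surjective (red ι) := fun ι w =>
    ⟨fun i => pre (w i), funext fun i => hpre (w i)⟩
  have hP : Function.Surjective P := by
    rw [← LinearMap.range_eq_top]
    refine top_le_iff.mp (Submodule.le_of_le_smul_of_le_jacobson_bot Module.Finite.fg_top hI fun w _ => ?_)
    obtain ⟨u, hu⟩ := hπ₀ (red _ w)
    obtain ⟨v, rfl⟩ := hredsurj _ u
    rw [← hred] at hu
    have hmem : ∀ i, w i - P v i ∈ I := fun i => by
      rw [← Ideal.Quotient.mk_eq_mk_iff_sub_mem]
      exact (congrFun hu i).symm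
    refine Submodule.mem_sup.mpr ⟨P v, ⟨v, rfl⟩, w - P v, ?_, by simp⟩
    rw [← Finset.univ_sum_single (w - P v)]
    refine Submodule.sum_mem _ fun i _ => ?_
    rw [show (Pi.single i ((w - P v) i) : _ → R) = (w - P v) i • Pi.single i 1 by rw [← Pi.single_smul, smul_eq_mul, mul_one]]
    exact Submodule.smul_mem_smul (hmem i) Submodule.mem_top
  obtain ⟨s, hs⟩ := Module.projective_lifting_property P LinearMap.id hP
  let M := LinearMap.ker P
  let e : (M × (Module.Free.ChooseBasisIndex Rb N → R)) ≃ₗ[R] (Module.Free.ChooseBasisIndex Rb (E × N) → R) :=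
    { toFun := fun x => (x.1 : _) + s x.2
      invFun := fun v => (⟨v - s (P v), by
        rw [LinearMap.mem_ker, map_sub, show P (s (P v)) = P v from DFunLike.congr_fun hs (P v), sub_self]⟩, P v)
      map_add' := fun x y => by simp only [Prod.fst_add, Prod.snd_add, Submodule.coe_add, map_add]; abel
      map_smul' := fun r x => by simp [smul_add]
      left_inv := fun x => by
        have h1 : P ((x.1 : _) + s x.2) = x.2 := by
          rw [map_add, LinearMap.mem_ker.mp x.1.2, zero_add]
          exact DFunLike.congr_fun hs x.2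
        refine Prod.ext (Subtype.ext ?_) h1
        simp [h1]
      right_inv := fun v => by simp }
  let p : (Module.Free.ChooseBasisIndex Rb (E × N) → R) →ₗ[R] M := LinearMap.fst R M _ ∘ₗ e.symm.toLinearMap
  haveI : Module.Finite R M := Module.Finite.of_surjective p (Prod.fst_surjective.comp e.symm.surjective)
  haveI : Module.Free R (M × (Module.Free.ChooseBasisIndex Rb N → R)) := Module.Free.of_equiv e.symm
  refine ⟨M, inferInstance, inferInstance, inferInstance, Module.IsStablyFree.of_free_prod R M (Module.Free.ChooseBasisIndex Rb N → R), ?_⟩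
  -- the reduction
  letI : Module R E := Module.compHom E (Ideal.Quotient.mk I)
  haveI : IsScalarTower R Rb E := IsScalarTower.of_algebraMap_smul fun _ _ => rfl
  let toE : (Module.Free.ChooseBasisIndex Rb (E × N) → Rb) →ₗ[Rb] E :=
    LinearMap.fst Rb E N ∘ₗ bP.equivFun.symm.toLinearMap
  let f : M →ₗ[R] E := toE.restrictScalars R ∘ₗ red _ ∘ₗ M.subtype
  let Φ : Rb ⊗[R] M →ₗ[Rb] E := f.liftBaseChange Rb
  have hexp : ∀ {ι : Type u} [Fintype ι] [DecidableEq ι] (w : ι → R), w = ∑ i, w i • Pi.single i (1 : R) := fun w => by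
    conv_lhs => rw [← Finset.univ_sum_single w]
    exact Finset.sum_congr rfl fun i _ => by rw [← Pi.single_smul, smul_eq_mul, mul_one]
  refine ⟨LinearEquiv.ofBijective Φ ⟨?_, ?_⟩⟩
  · rw [injective_iff_map_eq_zero]
    intro z hz
    obtain ⟨m, rfl⟩ := TensorProduct.mk_surjective R M Rb Ideal.Quotient.mk_surjective z
    rw [TensorProduct.mk_apply, LinearMap.liftBaseChange_tmul, one_smul] at hz
    have h0 : red _ m.1 = 0 := by
      apply bP.equivFun.symm.injective
      rw [map_zero]
      refine Prod.ext hz (bN.equivFun.injective ?_)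
      show π₀ (red _ m.1) = bN.equivFun 0
      rw [← hred, LinearMap.mem_ker.mp m.2, map_zero, map_zero]
    have hm : m = ∑ i, m.1 i • p (Pi.single i 1) := by
      simp only [← map_smul, ← map_sum, ← hexp]
      refine Subtype.ext ?_
      show m.1 = m.1 - s (P m.1)
      rw [LinearMap.mem_ker.mp m.2, map_zero, sub_zero]
    rw [TensorProduct.mk_apply, hm, TensorProduct.tmul_sum]
    refine Finset.sum_eq_zero fun i _ => ?_
    rw [← TensorProduct.smul_tmul, Algebra.smul_def, mul_one,
      show algebraMap R Rb (m.1 i) = 0 from congrFun h0 i, TensorProduct.zero_tmul]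
  · intro x
    obtain ⟨v, hv⟩ := hredsurj _ (bP.equivFun (x, 0))
    have h0 : red _ (P v) = 0 := by
      rw [hred, hv]
      simp [π₀]
    have h1 : red _ (s (P v)) = 0 := by
      rw [hexp (P v), map_sum, map_sum]
      refine Finset.sum_eq_zero fun i _ => ?_
      rw [map_smul, map_smul, ← algebraMap_smul Rb (P v i), show algebraMap R Rb (P v i) = 0 from congrFun h0 i,
        zero_smul]
    refine ⟨(1 : Rb) ⊗ₜ p v, ?_⟩
    rw [LinearMap.liftBaseChange_tmul, one_smul]
    show toE (red _ (v - s (P v))) = x
    rw [map_sub, h1, sub_zero, hv]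
    simp [toE]

end Groth.Agent.S6863
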