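import Groth.Statements.S6864
import Mathlib

set_option autoImplicit false
universe u
open TensorProduct
open CAlg

namespace Groth.Agent.S6864

/-- Let `I` be an ideal of a commutative ring `R` contained in the Jacobson radical and let `φ : P → P'`
be an `R`-linear map between finite projective `R`-modules. If the induced map `P/IP → P'/IP'` is
bijective, then `φ` is bijective. -/
theorem result {R : Type u} [CommRing R] (I : Ideal R)
    (hI : I ≤ Ideal.jacobson (⊥ : Ideal R)) {P P' : Type u}
    [AddCommGroup P] [Module R P] [Module.Finite R P] [Module.Projective R P]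
    [AddCommGroup P'] [Module R P'] [Module.Finite R P'] [Module.Projective R P'] (φ : P →ₗ[R] P')
    (h : Function.Bijective (φ.baseChange (R ⧸ I))) : Function.Bijective φ := by
  classical
  have hzero : ∀ {Q : Type u} [AddCommGroup Q] [Module R Q] (x : Q),
      (1 : R ⧸ I) ⊗ₜ[R] x = 0 ↔ x ∈ I • (⊤ : Submodule R Q) := by
    intro Q _ _ x
    rw [← (TensorProduct.quotTensorEquivQuotSMul Q I).map_eq_zero_iff,
      show (1 : R ⧸ I) = Ideal.Quotient.mk I 1 from rfl,
      TensorProduct.quotTensorEquivQuotSMul_mk_tmul, one_smul, Submodule.Quotient.mk_eq_zero]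
  have hsurj : Function.Surjective φ := by
    rw [← LinearMap.range_eq_top, eq_top_iff]
    refine Submodule.le_of_le_smul_of_le_jacobson_bot Module.Finite.fg_top hI ?_
    intro y _
    obtain ⟨z, hz⟩ := h.2 ((1 : R ⧸ I) ⊗ₜ[R] y)
    have : ∃ x : P, z = (1 : R ⧸ I) ⊗ₜ[R] x := by
      induction z using TensorProduct.induction_on generalizing y with
      | zero => exact ⟨0, by simp⟩
      | add a b _ _ => exact ⟨(TensorProduct.quotTensorEquivQuotSMul P I (a + b)).out, by
          apply (TensorProduct.quotTensorEquivQuotSMul P I).injective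
          rw [show (1 : R ⧸ I) = Ideal.Quotient.mk I 1 from rfl,
            TensorProduct.quotTensorEquivQuotSMul_mk_tmul, one_smul]
          exact (Quotient.out_eq _).symm⟩
      | tmul a x =>
        obtain ⟨r, rfl⟩ := Ideal.Quotient.mk_surjective a
        refine ⟨r • x, ?_⟩
        rw [← TensorProduct.smul_tmul, Algebra.smul_def, mul_one]
        rfl
    obtain ⟨x, rfl⟩ := this
    rw [LinearMap.baseChange_tmul] at hz
    have : y - φ x ∈ I • (⊤ : Submodule R P') := by
      rw [← hzero, TensorProduct.tmul_sub, hz, sub_self]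
    rw [← add_sub_cancel (φ x) y]
    exact Submodule.add_mem _ (Submodule.mem_sup_left (LinearMap.mem_range_self _ _))
      (Submodule.mem_sup_right this)
  obtain ⟨s, hs⟩ := φ.exists_rightInverse_of_surjective (LinearMap.range_eq_top.mpr hsurj)
  refine ⟨?_, hsurj⟩
  let t : P →ₗ[R] P := LinearMap.id - s ∘ₗ φ
  have ht : LinearMap.range t = LinearMap.ker φ := by
    apply le_antisymm
    · rintro _ ⟨x, rfl⟩
      have h1 : φ (s (φ x)) = φ x := LinearMap.congr_fun hs (φ x)
      simp [t, h1]
    · intro x hx
      exact ⟨x, by simp [t, LinearMap.mem_ker.mp hx]⟩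
  rw [← LinearMap.ker_eq_bot, ← ht]
  refine Submodule.eq_bot_of_le_smul_of_le_jacobson_bot I _ ?_ ?_ hI
  · rw [LinearMap.range_eq_map]
    exact Module.Finite.fg_top.map t
  · intro x hx
    rw [ht, LinearMap.mem_ker] at hx
    have h0 : (1 : R ⧸ I) ⊗ₜ[R] x = 0 := h.1 (by simp [hx])
    rw [hzero] at h0
    have := Submodule.mem_map_of_mem (f := t) h0
    rw [Submodule.map_smul'', Submodule.map_top] at this
    simpa [t, hx] using this

end Groth.Agent.S6864
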