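import Groth.Statements.S6868
import Mathlib
import Groth.Agent.CAlgOdd.Reflexive

set_option autoImplicit false
universe u
open CAlg

namespace Groth.Agent.S6868

/-- (1) ⇔ (3) ⇔ (4): for a Noetherian domain `R` and a nonzero finite `R`-module `M`, torsion-freeness
of `M` is equivalent to `(0)` being the unique associated prime of `M`, and also to the conjunction:
`(0)` belongs to the support of `M` and `M` satisfies Serre's condition `(S_1)`. (The published
statement also lists embedding into a finite free module and the absence of embedded associated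
primes; this row states the other three conditions.) -/
theorem result (R : Type u) [CommRing R]
    [IsDomain R] [IsNoetherianRing R] (M : Type u) [AddCommGroup M] [Module R M] [Module.Finite R M] [Nontrivial M] :
    (Module.IsTorsionFree R M ↔ associatedPrimes R M = {⊥}) ∧
    (Module.IsTorsionFree R M ↔
      (⟨⊥, Ideal.isPrime_bot⟩ : PrimeSpectrum R) ∈ Module.support R M ∧ LocCoh.HasSk 1 R M) := by
  have hA : Module.IsTorsionFree R M ↔ associatedPrimes R M = {⊥} := by
    refine ⟨fun h => ?_, fun h => Groth.Agent.CAlgOdd.Refl.isTorsionFree_of_ass fun p hp => by rwa [h] at hp⟩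
    haveI := h
    refine Set.eq_singleton_iff_nonempty_unique_mem.2 ⟨associatedPrimes.nonempty R M, fun p hp => ?_⟩
    exact Groth.Agent.CAlgOdd.Refl.ass_eq_bot_of_torsionFree hp
  refine ⟨hA, ⟨fun h => ?_, fun h => ?_⟩⟩
  · haveI := h
    have hsupp : (⟨⊥, Ideal.isPrime_bot⟩ : PrimeSpectrum R) ∈ Module.support R M := by
      obtain ⟨z, hz⟩ := exists_ne (0 : M)
      exact Module.mem_support_iff'.2 ⟨z, fun r hr hrz => hr ((smul_eq_zero.1 hrz).resolve_right hz)⟩
    refine ⟨hsupp, fun p _ => ?_⟩
    by_cases hp : p = ⊥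
    · subst hp
      refine (min_le_right _ _).trans ((Module.supportDim_le_ringKrullDim _ _).trans ?_)
      rw [IsLocalization.AtPrime.ringKrullDim_eq_height (⊥ : Ideal R), Ideal.height_bot, WithBot.coe_le_coe]
      exact zero_le
    · refine (min_le_left _ _).trans ((WithBot.coe_le_coe (a := (1 : ℕ∞))).2 ?_)
      exact (Groth.Agent.Alg6.one_le_depth_atPrime_iff (M := M) p).2 fun hh =>
        hp (Groth.Agent.CAlgOdd.Refl.ass_eq_bot_of_torsionFree hh)
  · obtain ⟨hsupp, hS⟩ := h
    refine Groth.Agent.CAlgOdd.Refl.isTorsionFree_of_ass fun p hp => ?_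
    by_contra hp0
    haveI := hp.isPrime
    haveI : Module.Finite (Localization.AtPrime p) (LocalizedModule p.primeCompl M) :=
      Module.Finite.of_isLocalizedModule p.primeCompl (LocalizedModule.mkLinearMap _ M)
    refine (Groth.Agent.Alg6.one_le_depth_atPrime_iff (M := M) p).1 (WithBot.coe_le_coe.1 (le_trans ?_ (hS p))) hp
    refine le_min le_rfl ?_
    have huniv : Module.support R M = Set.univ :=
      Set.eq_univ_of_forall fun q => Module.mem_support_mono (show (⟨⊥, Ideal.isPrime_bot⟩ : PrimeSpectrum R) ≤ q from fun a ha => by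
        rw [Ideal.mem_bot.1 ha]; exact q.asIdeal.zero_mem) hsupp
    have hann : Module.annihilator R M = ⊥ := eq_bot_iff.2 fun a ha => by
      rw [Module.support_eq_zeroLocus, PrimeSpectrum.zeroLocus_eq_univ_iff] at huniv
      exact Ideal.mem_bot.2 (IsNilpotent.eq_zero (huniv ha))
    have hsl : Module.support (Localization.AtPrime p) (LocalizedModule p.primeCompl M) = Set.univ := by
      refine Set.eq_univ_of_forall fun P => ?_
      have hb : (⊥ : Ideal (Localization.AtPrime p)).IsPrime := Ideal.isPrime_bot
      refine Module.mem_support_mono (show (⟨⊥, hb⟩ : PrimeSpectrum (Localization.AtPrime p)) ≤ P from fun a ha => by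
        rw [Ideal.mem_bot.1 ha]; exact P.asIdeal.zero_mem) ?_
      obtain ⟨z, hz⟩ := Module.mem_support_iff'.1 hsupp
      refine Module.mem_support_iff'.2 ⟨LocalizedModule.mkLinearMap _ M z, fun r hr hrz => ?_⟩
      obtain ⟨a, s, rfl⟩ := IsLocalization.exists_mk'_eq p.primeCompl r
      rw [LocalizedModule.mkLinearMap_apply, ← Localization.mk_eq_mk', LocalizedModule.mk_smul_mk,
        IsLocalizedModule.mk_eq_mk', IsLocalizedModule.mk'_eq_zero'] at hrz
      obtain ⟨t, ht⟩ := hrz
      rw [Submonoid.smul_def, smul_smul] at ht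
      have ha : a ≠ 0 := fun e => hr (by
        show IsLocalization.mk' (Localization.AtPrime p) a s ∈ (⊥ : Ideal _)
        rw [e, IsLocalization.mk'_zero]; exact Submodule.zero_mem _)
      exact hz ((t : R) * a) (fun e => mul_ne_zero (fun e' => t.2 (by rw [e']; exact p.zero_mem)) ha (Ideal.mem_bot.1 e)) ht
    rw [Module.supportDim, hsl, Order.krullDim_eq_of_orderIso OrderIso.Set.univ]
    show _ ≤ ringKrullDim (Localization.AtPrime p)
    rw [IsLocalization.AtPrime.ringKrullDim_eq_height p]
    exact (WithBot.coe_le_coe (a := (1 : ℕ∞))).2 (Order.one_le_iff_ne_zero.2 fun e => hp0 (Ideal.height_eq_zero_iff_eq_bot.1 e))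

end Groth.Agent.S6868
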