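import Groth.Statements.S6870
import Mathlib
import Groth.Agent.CAlgMisc.TorsionFree

set_option autoImplicit false
universe u
open CAlg

namespace Groth.Agent.S6870

/-- Let `R` be a domain, `M` a finite `R`-module and `j : M → M**` the evaluation map into the double
dual. Then one nonzero `c ∈ R` kills the kernel of `j` and multiplies `M**` into the image of `j`.
(The published statement says only that the kernel and cokernel of `j` are torsion; this row gives
one such `c` for both.) -/
theorem result (R : Type u) [CommRing R] [IsDomain R] (M : Type u)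
    [AddCommGroup M] [Module R M] [Module.Finite R M] :
    ∃ c : R, c ≠ 0 ∧ (∀ x : M, Module.Dual.eval R M x = 0 → c • x = 0) ∧
      ∀ y : Module.Dual R (Module.Dual R M), c • y ∈ LinearMap.range (Module.Dual.eval R M) := by
  classical
  obtain ⟨n, β, α, c, d, hc, hd, h⟩ := Groth.Agent.CAlgMisc.exists_approx R M
  refine ⟨d * c, mul_ne_zero hd hc, fun x hx => ?_, fun y => ?_⟩
  · have hβ : β x = 0 := funext fun i =>
      LinearMap.congr_fun hx ((LinearMap.proj i : (Fin n → R) →ₗ[R] R) ∘ₗ β)
    have := h x
    rw [hβ, map_zero, zero_sub, smul_neg, neg_eq_zero, smul_smul] at this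
    exact this
  · let r : Fin n → R := fun i => y (LinearMap.proj i ∘ₗ β)
    refine ⟨d • α r, ?_⟩
    ext φ
    have hφ : ∀ m, φ (α (β m)) = c * φ m := by
      intro m
      have := congrArg φ (h m)
      rw [map_smul, map_zero, map_sub, map_smul, smul_eq_mul, smul_eq_mul, mul_eq_zero] at this
      exact sub_eq_zero.mp (this.resolve_left hd)
    let w : Fin n → R := fun i => φ (α (Pi.single i 1))
    have hα : ∀ v : Fin n → R, φ (α v) = ∑ i, v i * w i := by
      intro v
      conv_lhs => rw [← Finset.univ_sum_single v]
      simp only [map_sum]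
      refine Finset.sum_congr rfl fun i _ => ?_
      rw [show (Pi.single i (v i) : Fin n → R) = v i • Pi.single i 1 by
        rw [← Pi.single_smul', smul_eq_mul, mul_one], map_smul, map_smul, smul_eq_mul]
    have hcomp : c • φ = ∑ i, w i • (LinearMap.proj i ∘ₗ β) := by
      ext m
      rw [LinearMap.smul_apply, smul_eq_mul, ← hφ, hα]
      simp [mul_comm]
    show φ (d • α r) = (d * c) • y φ
    rw [map_smul, hα, mul_smul]
    congr 1
    rw [← map_smul y c φ, hcomp, map_sum]
    simp [r, mul_comm]

end Groth.Agent.S6870
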