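import Groth.Statements.S6872
import Mathlib
import Groth.Agent.CAlgOdd.Reflexive

set_option autoImplicit false
universe u
open CAlg

namespace Groth.Agent.S6872

/-- Let `R` be a Noetherian domain and `f : M → M'`, `g : M' → M''` linear maps between finite
`R`-modules with `f` injective and image of `f` equal to kernel of `g` (so `0 → M → M' → M''` is
exact). Then reflexivity of `M'` together with torsion-freeness of `M''` forces `M` to be reflexive. -/
theorem result (R : Type u) [CommRing R] [IsDomain R]
    [IsNoetherianRing R] {M M' M'' : Type u} [AddCommGroup M] [Module R M] [Module.Finite R M]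
    [AddCommGroup M'] [Module R M'] [Module.Finite R M'] [AddCommGroup M''] [Module R M''] [Module.Finite R M'']
    (f : M →ₗ[R] M') (g : M' →ₗ[R] M'') (hf : Function.Injective f) (hfg : Function.Exact f g)
    [Module.IsReflexive R M'] [Module.IsTorsionFree R M''] : Module.IsReflexive R M := by
  exact Groth.Agent.CAlgOdd.Refl.isReflexive_of_exact f g hf hfg

end Groth.Agent.S6872
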