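import Groth.Statements.S6874
import Mathlib
import Groth.Agent.CAlgOdd.Reflexive

set_option autoImplicit false
universe u
open TensorProduct
open CAlg

namespace Groth.Agent.S6874

/-- For a flat ring map `R → R'` between Noetherian domains and a finite reflexive `R`-module `M`, the
base change `R' ⊗_R M` is a (finite) reflexive `R'`-module. -/
theorem result (R R' : Type u) [CommRing R] [IsDomain R]
    [IsNoetherianRing R] [CommRing R'] [IsDomain R'] [IsNoetherianRing R'] [Algebra R R'] [Module.Flat R R']
    (M : Type u) [AddCommGroup M] [Module R M] [Module.Finite R M] [Module.IsReflexive R M] :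
    Module.IsReflexive R' (R' ⊗[R] M) := by
  classical
  obtain ⟨n, m, f, g, hf, hfg⟩ := Groth.Agent.CAlgOdd.Refl.exists_exact_free (R := R) (M := M)
  let e : ∀ k, TensorProduct R R' (Fin k → R) ≃ₗ[R'] (Fin k → R') := fun k => TensorProduct.piScalarRight R R' R' (Fin k)
  refine Groth.Agent.CAlgOdd.Refl.isReflexive_of_exact_free ((e n).toLinearMap ∘ₗ f.baseChange R')
    ((e m).toLinearMap ∘ₗ g.baseChange R' ∘ₗ (e n).symm.toLinearMap) ?_ ?_
  · rw [LinearMap.coe_comp]
    exact (e n).injective.comp (Module.Flat.lTensor_preserves_injective_linearMap f hf)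
  · have hex : Function.Exact (f.baseChange R') (g.baseChange R') := Module.Flat.lTensor_exact R' hfg
    intro v
    constructor
    · intro hv
      obtain ⟨w, hw⟩ := (hex ((e n).symm v)).1 ((e m).map_eq_zero_iff.1 hv)
      exact ⟨w, by rw [LinearMap.comp_apply, hw, LinearEquiv.coe_coe, LinearEquiv.apply_symm_apply]⟩
    · rintro ⟨w, rfl⟩
      simp only [LinearMap.comp_apply, LinearEquiv.coe_coe, LinearEquiv.symm_apply_apply]
      rw [hex.apply_apply_eq_zero, map_zero]

end Groth.Agent.S6874
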