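import Groth.Statements.S6877
import Mathlib
import Groth.Agent.S6876
import Groth.Agent.Alg6.AssDepth
import Groth.Agent.Hensel.DepthFlat

set_option autoImplicit false
universe u
open CAlg

namespace Groth.Agent.S6877

/-- Let `R` be a Noetherian ring and `M, N` finite `R`-modules. If `N` has `(S_1)`, resp. `(S_2)`, then
so does `Hom_R(M, N)`. (The published statement has a third part, over a domain: `N` torsion free
with `(S_2)` implies the same for `Hom_R(M, N)`; this row states parts one and two.) -/
theorem result (R : Type u) [CommRing R] [IsNoetherianRing R]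
    (M N : Type u) [AddCommGroup M] [Module R M] [Module.Finite R M] [AddCommGroup N] [Module R N] [Module.Finite R N] :
    (LocCoh.HasSk 1 R N → LocCoh.HasSk 1 R (M →ₗ[R] N)) ∧
    (LocCoh.HasSk 2 R N → LocCoh.HasSk 2 R (M →ₗ[R] N)) := by
  haveI : Module.FinitePresentation R M := Module.finitePresentation_of_finite R M
  have key : ∀ (k : ℕ), (∀ (A : Type u) [CommRing A] [IsLocalRing A] [IsNoetherianRing A] (X Y : Type u)
      [AddCommGroup X] [Module A X] [Module.Finite A X] [AddCommGroup Y] [Module A Y] [Module.Finite A Y],
      ∀ j ≤ k, (j : ℕ∞) ≤ LocCoh.depth A Y → (j : ℕ∞) ≤ LocCoh.depth A (X →ₗ[A] Y)) →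
      LocCoh.HasSk k R N → LocCoh.HasSk k R (M →ₗ[R] N) := by
    intro k hk hN p _
    let A := Localization.AtPrime p
    haveI : IsNoetherianRing A := IsLocalization.isNoetherianRing p.primeCompl A inferInstance
    haveI : Module.Finite A (LocalizedModule p.primeCompl M) :=
      Module.Finite.of_isLocalizedModule p.primeCompl (LocalizedModule.mkLinearMap _ M)
    haveI : Module.Finite A (LocalizedModule p.primeCompl N) :=
      Module.Finite.of_isLocalizedModule p.primeCompl (LocalizedModule.mkLinearMap _ N)
    let e : LocalizedModule p.primeCompl (M →ₗ[R] N) ≃ₗ[A]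
        (LocalizedModule p.primeCompl M →ₗ[A] LocalizedModule p.primeCompl N) :=
      (Module.FinitePresentation.linearEquivMapExtendScalars p.primeCompl).extendScalarsOfIsLocalization p.primeCompl A
    rw [Module.supportDim_eq_of_equiv e, Groth.Agent.Hensel.depth_congr e]
    set d := LocCoh.depth A (LocalizedModule p.primeCompl N) with hd
    have hle : Module.supportDim A (LocalizedModule p.primeCompl M →ₗ[A] LocalizedModule p.primeCompl N) ≤
        Module.supportDim A (LocalizedModule p.primeCompl N) := by
      rw [Module.supportDim_eq_ringKrullDim_quotient_annihilator, Module.supportDim_eq_ringKrullDim_quotient_annihilator]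
      refine ringKrullDim_le_of_surjective (Ideal.Quotient.factor ?_) (Ideal.Quotient.factor_surjective _)
      intro r hr
      refine Module.mem_annihilator.2 fun φ => LinearMap.ext fun m => ?_
      exact Module.mem_annihilator.1 hr (φ m)
    rcases le_total (k : ℕ∞) d with hkd | hkd
    · exact (min_le_left _ _).trans ((WithBot.coe_le_coe (a := (k : ℕ∞))).2 (hk A _ _ k le_rfl hkd))
    · obtain ⟨j, hj⟩ := ENat.ne_top_iff_exists.1 (ne_top_of_le_ne_top (ENat.natCast_ne_top k) hkd)
      have hjk : j ≤ k := by rw [← hj] at hkd; exact_mod_cast hkd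
      have hH := hk A (LocalizedModule p.primeCompl M) (LocalizedModule p.primeCompl N) j hjk hj.le
      refine le_trans (le_trans ?_ (hN p)) (WithBot.coe_le_coe.2 (hj.ge.trans hH))
      exact min_le_min le_rfl hle
  constructor
  · refine key 1 fun A _ _ _ X Y _ _ _ _ _ _ j hj h => ?_
    interval_cases j
    · exact zero_le
    · rw [Nat.cast_one] at h ⊢; exact (Groth.Agent.S6876.result A X Y).1 h
  · refine key 2 fun A _ _ _ X Y _ _ _ _ _ _ j hj h => ?_
    interval_cases j
    · exact zero_le
    · rw [Nat.cast_one] at h ⊢; exact (Groth.Agent.S6876.result A X Y).1 h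
    · exact (Groth.Agent.S6876.result A X Y).2 h

end Groth.Agent.S6877
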