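import Groth.Statements.S6878
import Mathlib

set_option autoImplicit false
universe u
open CAlg

namespace Groth.Agent.S6878

/-- Let `R` be a Noetherian ring and `φ : M → N` a map of `R`-modules. Suppose that for every prime `𝔭`
of `R` either `M_𝔭 → N_𝔭` is injective or `𝔭` is not an associated prime of `M`. Then `φ` is
injective. -/
theorem result (R : Type u) [CommRing R]
    [IsNoetherianRing R] {M N : Type u} [AddCommGroup M] [Module R M] [AddCommGroup N] [Module R N] (φ : M →ₗ[R] N)
    (h : ∀ (p : Ideal R) [p.IsPrime],
      Function.Injective (LocalizedModule.map p.primeCompl φ) ∨ p ∉ associatedPrimes R M) :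
    Function.Injective φ := by
  classical
  rw [← LinearMap.ker_eq_bot]
  by_contra hne
  haveI : Nontrivial (LinearMap.ker φ) := Submodule.nontrivial_iff_ne_bot.mpr hne
  obtain ⟨p, hp⟩ := associatedPrimes.nonempty R (LinearMap.ker φ)
  have hpM : p ∈ associatedPrimes R M :=
    associatedPrimes.subset_of_injective (f := (LinearMap.ker φ).subtype) (LinearMap.ker φ).injective_subtype hp
  haveI : p.IsPrime := hp.isPrime
  rcases h p with hinj | hnot
  · obtain ⟨-, x, hx⟩ := (isAssociatedPrime_iff_exists_injective_linearMap (R := R) (I := p) (M := LinearMap.ker φ)).mp hp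
    let e := Submodule.Quotient.mk (p := p) (1 : R)
    let m : M := (x e : LinearMap.ker φ)
    have hm : φ m = 0 := (x e).2
    have h0 : LocalizedModule.map p.primeCompl φ (LocalizedModule.mk m 1) =
        LocalizedModule.map p.primeCompl φ 0 := by
      rw [LocalizedModule.map_mk, hm, LocalizedModule.zero_mk, map_zero]
    obtain ⟨s, hs⟩ := (IsLocalizedModule.eq_zero_iff p.primeCompl
      (LocalizedModule.mkLinearMap p.primeCompl M)).mp (hinj h0)
    have h1 : x ((s : R) • e) = 0 := by
      rw [map_smul]
      exact Subtype.ext hs
    rw [← map_zero x] at h1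
    have h2 := hx h1
    simp only [e, ← Submodule.Quotient.mk_smul, smul_eq_mul, mul_one, Submodule.Quotient.mk_eq_zero] at h2
    exact s.2 h2
  · exact hnot hpM

end Groth.Agent.S6878
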