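import Groth.Statements.S6881
import Mathlib
import Groth.Agent.CAlgOdd.Reflexive
import Groth.Agent.FlatLoc6.SerreNormal
import Groth.Agent.WQ7.Galois

set_option autoImplicit false
universe u
open CAlg

namespace Groth.Agent.S6881

/-- For `A` a Noetherian integrally closed domain with fraction field `K` and `L/K` a finite field
extension, if the integral closure of `A` in `L` is a finitely generated `A`-module then it is a
reflexive `A`-module. -/
theorem result (A K L : Type u) [CommRing A] [IsDomain A] [IsNoetherianRing A]
    [IsIntegrallyClosed A] [Field K] [Algebra A K] [IsFractionRing A K] [Field L] [Algebra K L] [FiniteDimensional K L]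
    [Algebra A L] [IsScalarTower A K L] [Module.Finite A ↥(integralClosure A L)] :
    Module.IsReflexive A ↥(integralClosure A L) := by
  let B := integralClosure A L
  have hAL : Function.Injective (algebraMap A L) := by
    rw [IsScalarTower.algebraMap_eq A K L]
    exact (algebraMap K L).injective.comp (IsFractionRing.injective A K)
  haveI : Module.IsTorsionFree A L := Module.isTorsionFree_iff_smul_eq_zero.2 fun c x h => by
    rw [Algebra.smul_def, mul_eq_zero] at h
    exact h.imp (fun hc => hAL (hc.trans (map_zero _).symm)) id
  haveI : Module.IsTorsionFree A B :=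
    Groth.Agent.CAlgOdd.Refl.isTorsionFree_of_injective (B.val.toLinearMap) Subtype.val_injective
  refine ⟨Groth.Agent.CAlgOdd.Refl.eval_injective, fun y => ?_⟩
  obtain ⟨c, x, hc, hx⟩ := Groth.Agent.CAlgOdd.Refl.exists_smul_mem_range y
  let z : L := (x : L) / algebraMap A L c
  have hcL : algebraMap A L c ≠ 0 := fun e => hc (hAL (e.trans (map_zero _).symm))
  suffices hz : IsIntegral A z by
    refine ⟨⟨z, hz⟩, LinearMap.ext fun φ => mul_left_cancel₀ hc ?_⟩
    have hxz : c • (⟨z, hz⟩ : B) = x := by
      apply Subtype.ext
      show c • z = (x : L)
      rw [Algebra.smul_def]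
      exact mul_div_cancel₀ _ hcL
    have := LinearMap.congr_fun hx φ
    rw [Module.Dual.eval_apply, ← hxz, map_smul, smul_eq_mul, LinearMap.smul_apply, smul_eq_mul] at this
    exact this
  have hzK : IsIntegral K z := IsIntegral.of_finite K z
  have hcoeff : ∀ i, (minpoly K z).coeff i ∈ Set.range (algebraMap A K) := by
    intro i
    obtain ⟨a, b, hb, hab⟩ := IsFractionRing.div_surjective A ((minpoly K z).coeff i)
    obtain ⟨d, hd⟩ := Groth.Agent.WQ7.dvd_of_height_le_one (a := a) (nonZeroDivisors.ne_zero hb) fun q hq hq1 => by
      haveI := hq
      haveI : IsDomain (Localization.AtPrime q) := IsLocalization.isDomain_localization q.primeCompl_le_nonZeroDivisors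
      haveI : IsIntegrallyClosed (Localization.AtPrime q) :=
        isIntegrallyClosed_of_isLocalization (Localization.AtPrime q) q.primeCompl q.primeCompl_le_nonZeroDivisors
      haveI : IsPrincipalIdealRing (Localization.AtPrime q) := by
        by_cases hq0 : q = ⊥
        · subst hq0
          haveI : IsFractionRing A (Localization.AtPrime (⊥ : Ideal A)) := by
            show IsLocalization _ _
            convert (inferInstance : IsLocalization (⊥ : Ideal A).primeCompl (Localization.AtPrime (⊥ : Ideal A))) using 1
            exact Submonoid.ext fun r => by rw [mem_nonZeroDivisors_iff_ne_zero]; simp [Ideal.primeCompl]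
          letI := IsFractionRing.toField A (K := Localization.AtPrime (⊥ : Ideal A))
          infer_instance
        · haveI : IsNoetherianRing (Localization.AtPrime q) := IsLocalization.isNoetherianRing q.primeCompl _ inferInstance
          haveI : IsDiscreteValuationRing (Localization.AtPrime q) := by
            refine Groth.Agent.CDiv6.isDVR_of_dim_eq_one _ ?_
            rw [IsLocalization.AtPrime.ringKrullDim_eq_height q]
            exact_mod_cast le_antisymm hq1 (Order.one_le_iff_ne_zero.2 fun e => hq0 (Ideal.height_eq_zero_iff_eq_bot.1 e))
          infer_instance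
      haveI := Groth.Agent.CAlgOdd.Refl.isReflexive_localized_of_pid (M := B) q
      obtain ⟨s, w, hw⟩ := Groth.Agent.CAlgOdd.Refl.exists_smul_eq_eval q.primeCompl q.primeCompl_le_nonZeroDivisors y
      have hsw : c • w = (s : A) • x := by
        apply Groth.Agent.CAlgOdd.Refl.eval_injective (R := A)
        rw [map_smul, hw, map_smul, hx, smul_comm]
      have hsz : IsIntegral A (algebraMap A L (s : A) * z) := by
        have : (w : L) = algebraMap A L (s : A) * z := by
          have e : algebraMap A L c * (w : L) = algebraMap A L (s : A) * (x : L) :=
            (Algebra.smul_def c (w : L)).symm.trans ((congrArg Subtype.val hsw).trans (Algebra.smul_def (s : A) (x : L)))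
          show (w : L) = algebraMap A L (s : A) * ((x : L) / algebraMap A L c)
          rw [← mul_div_assoc, ← e, mul_div_cancel_left₀ _ hcL]
        rw [← this]
        exact w.2
      letI : Algebra (Localization.AtPrime q) K := IsLocalization.localizationAlgebraOfSubmonoidLe _ _ q.primeCompl (nonZeroDivisors A) q.primeCompl_le_nonZeroDivisors
      haveI : IsScalarTower A (Localization.AtPrime q) K :=
        IsLocalization.localization_isScalarTower_of_submonoid_le _ _ q.primeCompl (nonZeroDivisors A) q.primeCompl_le_nonZeroDivisors
      haveI : IsFractionRing (Localization.AtPrime q) K :=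
        IsFractionRing.isFractionRing_of_isDomain_of_isLocalization q.primeCompl (Localization.AtPrime q) K
      letI : Algebra (Localization.AtPrime q) L := ((algebraMap K L).comp (algebraMap (Localization.AtPrime q) K)).toAlgebra
      haveI : IsScalarTower (Localization.AtPrime q) K L := IsScalarTower.of_algebraMap_eq fun _ => rfl
      haveI : IsScalarTower A (Localization.AtPrime q) L := IsScalarTower.of_algebraMap_eq fun r => by
        show algebraMap A L r = algebraMap K L (algebraMap (Localization.AtPrime q) K (algebraMap A _ r))
        rw [← IsScalarTower.algebraMap_apply A (Localization.AtPrime q) K, ← IsScalarTower.algebraMap_apply A K L]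
      have hzq : IsIntegral (Localization.AtPrime q) z := by
        have h1 : IsIntegral (Localization.AtPrime q) (algebraMap A L (s : A) * z) := hsz.tower_top
        obtain ⟨v, hv⟩ := IsLocalization.map_units (Localization.AtPrime q) s
        have h2 := h1.smul (↑v⁻¹ : Localization.AtPrime q)
        rwa [IsScalarTower.algebraMap_apply A (Localization.AtPrime q) L, ← hv, Algebra.smul_def, ← mul_assoc, ← map_mul,
          Units.inv_mul, map_one, one_mul] at h2
      have h3 := minpoly.isIntegrallyClosed_eq_field_fractions' K hzq
      obtain ⟨u, t, hut⟩ := IsLocalization.exists_mk'_eq q.primeCompl ((minpoly (Localization.AtPrime q) z).coeff i)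
      refine ⟨t, t.2, u, IsFractionRing.injective A K ?_⟩
      have h4 : (minpoly K z).coeff i = algebraMap (Localization.AtPrime q) K ((minpoly (Localization.AtPrime q) z).coeff i) := by
        rw [h3, Polynomial.coeff_map]
      have h5 := congrArg (algebraMap (Localization.AtPrime q) K) (IsLocalization.mk'_spec (Localization.AtPrime q) u t)
      rw [map_mul, hut, ← h4, ← hab, ← IsScalarTower.algebraMap_apply, ← IsScalarTower.algebraMap_apply] at h5
      have hbK : algebraMap A K b ≠ 0 := fun e => nonZeroDivisors.ne_zero hb (IsFractionRing.injective A K (e.trans (map_zero _).symm))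
      rw [map_mul, map_mul, ← h5]
      field_simp
    refine ⟨d, ?_⟩
    rw [← hab, hd, map_mul]
    have hbK : algebraMap A K b ≠ 0 := fun e => nonZeroDivisors.ne_zero hb (IsFractionRing.injective A K (e.trans (map_zero _).symm))
    field_simp
  have hlift : minpoly K z ∈ Polynomial.lifts (algebraMap A K) := (Polynomial.lifts_iff_coeff_lifts _).2 hcoeff
  obtain ⟨P, hP, -, hmonic⟩ := Polynomial.lifts_and_degree_eq_and_monic hlift (minpoly.monic hzK)
  refine ⟨P, hmonic, ?_⟩
  rw [← Polynomial.aeval_def, ← Polynomial.aeval_map_algebraMap K, hP, minpoly.aeval]

end Groth.Agent.S6881
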