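import Groth.Statements.S6882
import Mathlib

set_option autoImplicit false
universe u
open CAlg

namespace Groth.Agent.S6882

/-- For a finite module `M` over a discrete valuation ring `R`, the evaluation map from `M` to its
double dual `M**` is surjective. -/
theorem result (R : Type u) [CommRing R] [IsDomain R]
    [IsDiscreteValuationRing R] (M : Type u) [AddCommGroup M] [Module R M] [Module.Finite R M] :
    Function.Surjective (Module.Dual.eval R M) := by
  intro Φ
  let π := (Submodule.torsion R M).mkQ
  obtain ⟨q, hq⟩ := (Module.IsReflexive.bijective_dual_eval' (R := R) (M := M ⧸ Submodule.torsion R M)).surjective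
    (Φ ∘ₗ π.dualMap)
  obtain ⟨m, rfl⟩ := Submodule.mkQ_surjective _ q
  refine ⟨m, LinearMap.ext fun φ => ?_⟩
  have hle : Submodule.torsion R M ≤ LinearMap.ker φ := fun x ⟨c, hc⟩ => by
    have h1 : (c : R) * φ x = 0 := by rw [← smul_eq_mul, ← map_smul]; exact (congrArg φ hc).trans (map_zero φ)
    exact (mul_eq_zero.mp h1).resolve_left (nonZeroDivisors.coe_ne_zero c)
  have h2 := LinearMap.congr_fun hq ((Submodule.torsion R M).liftQ φ hle)
  rw [show φ = π.dualMap ((Submodule.torsion R M).liftQ φ hle) from LinearMap.ext fun _ => rfl]
  exact h2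

end Groth.Agent.S6882
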