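import Groth.Statements.S6886
import Mathlib

set_option autoImplicit false
universe u
open TensorProduct
open CAlg

namespace Groth.Agent.S6886

/-- Let `R → S` be a finite ring map. One can find an extension `R ⊆ R'` of rings, with `R'` finite and
free as an `R`-module, for which the ring `S ⊗_R R'` arises as a quotient of `R'[T_1, …,
T_n]/(P_1(T_1), …, P_n(T_n))` with each `P_i(T) = ∏_j (T - α_{ij})` a product of linear factors over
`R'`. -/
theorem result (R S : Type u) [CommRing R] [CommRing S] [Algebra R S]
    [Module.Finite R S] :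
    ∃ (R' : Type u) (_ : CommRing R') (_ : Algebra R R'), Module.Finite R R' ∧ Module.Free R R' ∧
      Function.Injective (algebraMap R R') ∧
      ∃ (n : ℕ) (d : Fin n → ℕ) (α : (i : Fin n) → Fin (d i) → R')
        (φ : MvPolynomial (Fin n) R' →ₐ[R'] R' ⊗[R] S), Function.Surjective φ ∧
          ∀ i, φ (∏ j, (MvPolynomial.X i - MvPolynomial.C (α i j))) = 0 := by
  classical
  have split : ∀ (d : ℕ) (A : Type u) [CommRing A] [Nontrivial A] (f : Polynomial A), f.Monic → f.natDegree = d →
      ∃ (A' : Type u) (_ : CommRing A') (_ : Algebra A A'), Module.Finite A A' ∧ Module.Free A A' ∧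
        Function.Injective (algebraMap A A') ∧ ∃ α : Fin d → A',
          f.map (algebraMap A A') = ∏ j, (Polynomial.X - Polynomial.C (α j)) := by
    intro d
    induction d with
    | zero =>
      intro A _ _ f hf hd
      refine ⟨A, inferInstance, inferInstance, inferInstance, inferInstance, fun _ _ h => h, Fin.elim0, ?_⟩
      simp [hf.natDegree_eq_zero.1 hd]
    | succ d ih =>
      intro A _ _ f hf hd
      let A₁ := AdjoinRoot f
      have : Module.Free A A₁ := hf.free_adjoinRoot
      have : Module.Finite A A₁ := hf.finite_adjoinRoot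
      have hinj₁ : Function.Injective (algebraMap A A₁) :=
        (injective_iff_map_eq_zero _).2 fun a ha => by
          have h1 : f ∣ Polynomial.C a := AdjoinRoot.mk_eq_zero.1 (by rwa [AdjoinRoot.mk_C])
          have h2 := (Polynomial.modByMonic_eq_zero_iff_dvd hf).2 h1
          rw [(Polynomial.modByMonic_eq_self_iff hf).2 (lt_of_le_of_lt Polynomial.degree_C_le (by
            rw [Polynomial.degree_eq_natDegree hf.ne_zero, hd]; exact_mod_cast Nat.succ_pos d))] at h2
          exact Polynomial.C_eq_zero.1 h2
      have : Nontrivial A₁ := hinj₁.nontrivial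
      have hroot : (f.map (algebraMap A A₁)).IsRoot (AdjoinRoot.root f) := by
        rw [Polynomial.IsRoot, Polynomial.eval_map]
        exact AdjoinRoot.eval₂_root f
      obtain ⟨g, hg⟩ := Polynomial.dvd_iff_isRoot.2 hroot
      have hgm : g.Monic :=
        (Polynomial.monic_X_sub_C (AdjoinRoot.root f)).of_mul_monic_left (hg ▸ hf.map _)
      have hgd : g.natDegree = d := by
        have h1 := congrArg Polynomial.natDegree hg
        rw [hf.natDegree_map, hd, (Polynomial.monic_X_sub_C _).natDegree_mul hgm, Polynomial.natDegree_X_sub_C] at h1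
        omega
      obtain ⟨A', _, _, hfin, hfree, hinj, α, hα⟩ := ih A₁ g hgm hgd
      let : Algebra A A' := ((algebraMap A₁ A').comp (algebraMap A A₁)).toAlgebra
      have : IsScalarTower A A₁ A' := IsScalarTower.of_algebraMap_eq fun _ => rfl
      refine ⟨A', inferInstance, inferInstance, Module.Finite.trans A₁ A', Module.Free.trans (S := A₁),
        hinj.comp hinj₁, Fin.cons (algebraMap A₁ A' (AdjoinRoot.root f)) α, ?_⟩
      rw [IsScalarTower.algebraMap_eq A A₁ A', ← Polynomial.map_map, hg, Polynomial.map_mul, hα,
        Fin.prod_univ_succ]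
      simp
  rcases subsingleton_or_nontrivial R with hR | hR
  · refine ⟨R, inferInstance, inferInstance, inferInstance, inferInstance, fun _ _ h => h, ?_⟩
    have : Subsingleton (TensorProduct R R S) := Module.subsingleton R _
    exact ⟨0, Fin.elim0, fun i => i.elim0, MvPolynomial.aeval Fin.elim0, fun y => ⟨0, Subsingleton.elim _ _⟩,
      fun i => i.elim0⟩
  obtain ⟨n, x, hx⟩ := Module.Finite.exists_fin (R := R) (M := S)
  choose f hf hfx using fun i => Algebra.IsIntegral.isIntegral (R := R) (x i)
  let F := ∏ i, f i
  have hF : F.Monic := Polynomial.monic_prod_of_monic _ _ fun i _ => hf i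
  obtain ⟨R', _, _, hfin, hfree, hinj, α, hα⟩ := split F.natDegree R F hF rfl
  let φ : MvPolynomial (Fin n) R' →ₐ[R'] TensorProduct R R' S := MvPolynomial.aeval fun i => 1 ⊗ₜ[R] x i
  refine ⟨R', inferInstance, inferInstance, hfin, hfree, hinj, n, fun _ => F.natDegree, fun _ => α, φ, ?_, fun i => ?_⟩
  · rw [← AlgHom.range_eq_top, ← top_le_iff]
    rintro z -
    induction z using TensorProduct.induction_on with
    | zero => exact zero_mem _
    | tmul a s =>
      have hs : s ∈ Submodule.span R (Set.range x) := hx ▸ trivial
      induction hs using Submodule.span_induction generalizing a with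
      | mem s hs =>
        obtain ⟨i, rfl⟩ := hs
        exact ⟨MvPolynomial.C a * MvPolynomial.X i, by simp [φ]⟩
      | zero => rw [TensorProduct.tmul_zero]; exact zero_mem _
      | add s t _ _ hs ht => rw [TensorProduct.tmul_add]; exact add_mem (hs a) (ht a)
      | smul r s _ hs => rw [TensorProduct.tmul_smul, TensorProduct.smul_tmul']; exact hs _
    | add y z hy hz => exact add_mem hy hz
  · have h1 : ∏ j, (MvPolynomial.X i - MvPolynomial.C (α j)) =
        Polynomial.aeval (MvPolynomial.X i : MvPolynomial (Fin n) R') (F.map (algebraMap R R')) := by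
      rw [hα, map_prod]
      simp [MvPolynomial.algebraMap_eq]
    rw [h1, Polynomial.aeval_map_algebraMap, Polynomial.aeval_def, ← AlgHom.coe_toRingHom,
      Polynomial.hom_eval₂]
    have h2 : φ.toRingHom.comp (algebraMap R (MvPolynomial (Fin n) R')) =
        (Algebra.TensorProduct.includeRight : S →ₐ[R] TensorProduct R R' S).toRingHom.comp (algebraMap R S) := by
      exact (φ.restrictScalars R).comp_algebraMap.trans
        (Algebra.TensorProduct.includeRight : S →ₐ[R] TensorProduct R R' S).comp_algebraMap.symm
    have h3 : φ.toRingHom (MvPolynomial.X i) = (Algebra.TensorProduct.includeRight : S →ₐ[R] TensorProduct R R' S).toRingHom (x i) := by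
      simp [φ]
    have h4 : Polynomial.eval₂ (algebraMap R S) (x i) F = 0 := by
      simp only [F, Polynomial.eval₂_finsetProd]
      exact Finset.prod_eq_zero (Finset.mem_univ i) (hfx i)
    show Polynomial.eval₂ (φ.toRingHom.comp _) (φ.toRingHom _) F = 0
    rw [h2, h3, ← Polynomial.hom_eval₂, h4, map_zero]

end Groth.Agent.S6886
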