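import Groth.Statements.S6887
import Mathlib

set_option autoImplicit false
universe u
open Polynomial
open CAlg

namespace Groth.Agent.S6887

/-- Let `(A, I)` be a Zariski pair (`I` inside the Jacobson radical) and `A → B` a finite ring map.
Suppose `B/IB ≅ B₁ × B₂` as `A`-algebras with `A → B₁` surjective, and `b ∈ B` maps to `(1, 0)`.
Then there is a monic `f ∈ A[x]` with `f(b) = 0` whose reduction modulo `I` is `(x - 1) x^d` for
some `d ≥ 1`. -/
theorem result (A B : Type u) [CommRing A] [CommRing B]
    [Algebra A B] [Module.Finite A B] (I : Ideal A) (hI : I ≤ Ideal.jacobson (⊥ : Ideal A))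
    (B₁ B₂ : Type u) [CommRing B₁] [CommRing B₂] [Algebra A B₁] [Algebra A B₂]
    (e : (B ⧸ I.map (algebraMap A B)) ≃ₐ[A] B₁ × B₂) (h₁ : Function.Surjective (algebraMap A B₁)) (b : B)
    (hb : e (Ideal.Quotient.mk (I.map (algebraMap A B)) b) = (1, 0)) :
    ∃ (f : A[X]) (d : ℕ), f.Monic ∧ Polynomial.aeval b f = 0 ∧ 1 ≤ d ∧
      f.map (Ideal.Quotient.mk I) = (X - 1) * X ^ d := by
  classical
  let J := I.map (algebraMap A B)
  let q : B →ₐ[A] B₁ × B₂ := e.toAlgHom.comp (Ideal.Quotient.mkₐ A J)
  obtain ⟨s, hs⟩ := (inferInstance : Module.Finite A B).fg_top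
  -- adjust the generators
  have hadj : ∀ x : B, ∃ x' : B, (q x').1 = 0 ∧ x - x' ∈ Submodule.span A {b} := by
    intro x
    obtain ⟨a, ha⟩ := h₁ (q x).1
    refine ⟨x - a • b, ?_, by simpa using Submodule.smul_mem _ a (Submodule.mem_span_singleton_self b)⟩
    rw [map_sub, map_smul]
    show (q x).1 - a • (q b).1 = 0
    rw [show q b = (1, 0) from hb, ← Algebra.algebraMap_eq_smul_one, ha, sub_self]
  choose adj hadj1 hadj2 using hadj
  let d := s.card + 1
  let e' := s.equivFin
  let gen : Fin (d + 1) → B := Fin.cases b (Fin.cases 0 fun i => adj (e'.symm i))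
  have hspan : Submodule.span A (Set.range gen) = ⊤ := by
    rw [eq_top_iff, ← hs, Submodule.span_le]
    intro x hx
    have h1 : adj x ∈ Submodule.span A (Set.range gen) := by
      let x' : s := ⟨x, hx⟩
      have e1 : gen (e' x').succ.succ = adj x := by simp [gen, x']
      rw [← e1]
      exact Submodule.subset_span (Set.mem_range_self _)
    have h2 : x - adj x ∈ Submodule.span A (Set.range gen) :=
      Submodule.span_mono (Set.singleton_subset_iff.mpr (show b ∈ Set.range gen from ⟨0, rfl⟩)) (hadj2 x)
    simpa using add_mem h2 h1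
  let π := Fintype.linearCombination A gen
  have hπ : Function.Surjective π := LinearMap.range_eq_top.mp (by rw [Fintype.range_linearCombination, hspan])
  let δ : Fin (d + 1) → A := Fin.cases 1 0
  have hcoef : ∀ j, ∃ c : Fin (d + 1) → A, (∀ i, c i - (if i = j then δ j else 0) ∈ I) ∧ π c = b * gen j := by
    intro j
    have hmem : b * gen j - δ j • gen j ∈ I • (⊤ : Submodule A B) := by
      rw [Ideal.smul_top_eq_map, Submodule.restrictScalars_mem]
      refine Ideal.Quotient.eq_zero_iff_mem.mp (e.injective ?_)
      rw [map_zero]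
      show q (b * gen j - δ j • gen j) = 0
      rw [map_sub, map_mul, map_smul, show q b = (1, 0) from hb]
      induction j using Fin.cases with
      | zero => simp [gen, δ, show q b = (1, 0) from hb]
      | succ j =>
        induction j using Fin.cases with
        | zero =>
          rw [show gen (Fin.succ 0) = 0 from rfl, show δ (Fin.succ 0) = 0 from rfl]
          simp
        | succ j => refine Prod.ext ?_ ?_ <;> simp [gen, δ, hadj1]
    rw [← hspan] at hmem
    obtain ⟨c, hcI, hc⟩ := (Submodule.mem_ideal_smul_span_iff_exists_sum I gen _).mp hmem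
    refine ⟨fun i => c i + if i = j then δ j else 0, fun i => by simpa using hcI i, ?_⟩
    rw [← sub_eq_iff_eq_add.mp hc.symm |>.symm]
    simp only [π, Fintype.linearCombination_apply, add_smul, Finset.sum_add_distrib, ite_smul, zero_smul,
      Finset.sum_ite_eq', Finset.mem_univ, if_true]
    rw [Finsupp.sum_fintype]
    exact fun i => zero_smul _ _
  choose c hcI hc using hcoef
  let T : Matrix (Fin (d + 1)) (Fin (d + 1)) A := Matrix.of fun i j => c j i
  have hT : ∀ w, π (T.mulVec w) = b * π w := by
    have : π ∘ₗ T.mulVecLin = (LinearMap.mulLeft A b) ∘ₗ π := by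
      refine (Pi.basisFun A _).ext fun j => ?_
      simp only [LinearMap.comp_apply, Matrix.mulVecLin_apply, Pi.basisFun_apply, Matrix.mulVec_single_one,
        LinearMap.mulLeft_apply]
      rw [show T.col j = c j from rfl, hc j]
      simp [π]
    exact fun w => DFunLike.congr_fun this w
  have hpoly : ∀ (P : A[X]) w, π ((Polynomial.aeval T P).mulVec w) = Polynomial.aeval b P * π w := by
    intro P
    induction P using Polynomial.induction_on' with
    | add u v hu hv => intro w; rw [map_add, map_add, Matrix.add_mulVec, map_add, hu, hv, add_mul]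
    | monomial n a =>
      intro w
      rw [Polynomial.aeval_monomial, Polynomial.aeval_monomial, ← Algebra.smul_def, ← Algebra.smul_def,
        Matrix.smul_mulVec, map_smul, smul_mul_assoc]
      congr 1
      induction n with
      | zero => simp
      | succ n ih => rw [pow_succ', ← Matrix.mulVec_mulVec, hT, ih, pow_succ', mul_assoc]
  refine ⟨T.charpoly, d, T.charpoly_monic, ?_, Nat.le_add_left 1 _, ?_⟩
  · obtain ⟨w, hw⟩ := hπ 1
    have := hpoly T.charpoly w
    rwa [Matrix.aeval_self_charpoly, Matrix.zero_mulVec, map_zero, hw, mul_one, eq_comm] at this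
  · rw [← Matrix.charpoly_map]
    have hdiag : T.map (Ideal.Quotient.mk I) = Matrix.diagonal (fun i => Ideal.Quotient.mk I (δ i)) := by
      ext i j
      rw [Matrix.map_apply, Matrix.diagonal_apply]
      show Ideal.Quotient.mk I (c j i) = _
      rw [Ideal.Quotient.mk_eq_mk_iff_sub_mem _ _ |>.mpr (hcI j i)]
      split_ifs with hij
      · subst hij; rfl
      · exact map_zero _
    rw [hdiag, Matrix.charpoly_diagonal, Fin.prod_univ_succ]
    simp [δ]

end Groth.Agent.S6887
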