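import Groth.Statements.S6888
import Mathlib

set_option autoImplicit false
universe u
open Polynomial
open CAlg

namespace Groth.Agent.S6888

/-- Let `A` be absolutely integrally closed (every monic polynomial over `A` is a product of linear
factors) and `I ⊆ A` an ideal contained in the Jacobson radical such that `A → A/I` is surjective
(hence bijective) on idempotents. Then `(A, I)` is a henselian pair. (The published statement also
records the converse, which holds for every henselian pair; this row states the sufficiency only.) -/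
theorem result (A : Type u) [CommRing A]
    (hA : ∀ f : A[X], f.Monic → ∃ s : Multiset A, f = (s.map fun a => X - C a).prod) (I : Ideal A)
    (hI : I ≤ Ideal.jacobson (⊥ : Ideal A))
    (hidem : ∀ e : A ⧸ I, IsIdempotentElem e → ∃ e' : A, IsIdempotentElem e' ∧ Ideal.Quotient.mk I e' = e) :
    HenselianRing A I := by
  classical
  refine ⟨hI, fun f hf a₀ ha₀ hu => ?_⟩
  obtain ⟨s, hs⟩ := hA f hf
  obtain ⟨n, c, rfl⟩ : ∃ (n : ℕ) (c : Fin n → A), s = (Finset.univ : Finset (Fin n)).val.map c :=
    ⟨s.toList.length, fun i => s.toList.get i, by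
      rw [Fin.univ_val_map, List.ofFn_get, Multiset.coe_toList]⟩
  rw [Multiset.map_map, Function.comp_def, Finset.prod_map_val] at hs
  subst hs
  let π := Ideal.Quotient.mk I
  let d : Fin n → A ⧸ I := fun j => π (a₀ - c j)
  have hprod : ∏ j, d j = 0 := by
    simp only [d, ← map_prod]
    rw [Ideal.Quotient.eq_zero_iff_mem]
    simpa [Polynomial.eval_prod] using ha₀
  rw [Polynomial.derivative_prod_finset] at hu
  simp only [Polynomial.eval_finsetSum, Polynomial.eval_mul, Polynomial.eval_prod,
    Polynomial.derivative_sub, Polynomial.derivative_X, Polynomial.derivative_C, sub_zero,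
    Polynomial.eval_one, mul_one, Polynomial.eval_sub, Polynomial.eval_X, Polynomial.eval_C,
    map_sum, map_prod] at hu
  obtain ⟨u, hu'⟩ := hu
  let p : Fin n → A ⧸ I := fun j => ∏ l ∈ Finset.univ.erase j, d l
  have hsum : (↑u⁻¹ : A ⧸ I) * ∑ j, p j = 1 := by
    simp only [p, d]
    rw [← hu', Units.inv_mul]
  let e : Fin n → A ⧸ I := fun j => ↑u⁻¹ * p j
  have horth : ∀ j l, j ≠ l → e j * e l = 0 := by
    intro j l hjl
    have : d j ∣ p l := Finset.dvd_prod_of_mem _ (by simp [hjl])
    obtain ⟨t, ht⟩ := this
    have hj : d j * p j = 0 := by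
      rw [← hprod]; exact Finset.mul_prod_erase _ _ (Finset.mem_univ j)
    simp only [e]
    rw [ht]
    linear_combination ((↑u⁻¹ : A ⧸ I) * ↑u⁻¹ * t) * hj
  have hsum' : ∑ j, e j = 1 := by rw [← Finset.mul_sum]; exact hsum
  have hide : ∀ j, IsIdempotentElem (e j) := by
    intro j
    have h := congrArg (e j * ·) hsum'
    simp only [Finset.mul_sum, mul_one] at h
    rw [Finset.sum_eq_single j (fun l _ hl => horth j l (Ne.symm hl)) (by simp)] at h
    exact h
  choose e' he' hπe using fun j => hidem (e j) (hide j)
  have hjac : ∀ x : A, IsIdempotentElem x → x ∈ I → x = 0 := by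
    intro x hx hxI
    have hu := Ideal.mem_jacobson_bot.mp (hI hxI) (-1)
    rw [mul_neg, mul_one, neg_add_eq_sub] at hu
    obtain ⟨w, hw⟩ := hu
    calc x = x * ↑w * ↑w⁻¹ := by rw [mul_assoc, Units.mul_inv, mul_one]
      _ = 0 := by rw [hw, mul_sub, mul_one, hx.eq, sub_self, zero_mul]
  have horth' : ∀ j l, j ≠ l → e' j * e' l = 0 := fun j l hjl =>
    hjac _ ((he' j).mul (he' l)) (Ideal.Quotient.eq_zero_iff_mem.mp
      (by rw [map_mul, hπe, hπe, horth j l hjl]))
  let a := ∑ j, e' j * c j
  refine ⟨a, ?_, ?_⟩
  · have hsum1 : ∑ j, e' j = 1 := by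
      have hid : IsIdempotentElem (1 - ∑ j, e' j) := by
        apply IsIdempotentElem.one_sub
        show (∑ j, e' j) * (∑ j, e' j) = _
        rw [Finset.sum_mul_sum]
        refine Finset.sum_congr rfl fun j _ => ?_
        rw [Finset.sum_eq_single j (fun l _ hl => horth' j l (Ne.symm hl)) (by simp)]
        exact he' j
      have := hjac _ hid (Ideal.Quotient.eq_zero_iff_mem.mp (by
        rw [map_sub, map_one, map_sum, Finset.sum_congr rfl fun j _ => hπe j, hsum', sub_self]))
      linear_combination -this
    have hzero : ∀ j, e' j * (∏ l, (Polynomial.X - Polynomial.C (c l))).eval a = 0 := by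
      intro j
      have : e' j * a = e' j * c j := by
        simp only [a, Finset.mul_sum]
        rw [Finset.sum_eq_single j (fun l _ hl => by rw [← mul_assoc, horth' j l (Ne.symm hl), zero_mul])
          (by simp), ← mul_assoc, (he' j).eq]
      rw [Polynomial.eval_prod, ← Finset.mul_prod_erase _ _ (Finset.mem_univ j), ← mul_assoc]
      simp [mul_sub, this]
    show Polynomial.IsRoot _ a
    rw [Polynomial.IsRoot.def]
    generalize hP : ∏ l, (Polynomial.X - Polynomial.C (c l)) = F at hzero ⊢
    rw [← one_mul (Polynomial.eval a F), ← hsum1, Finset.sum_mul]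
    exact Finset.sum_eq_zero fun j _ => hzero j
  · rw [← Ideal.Quotient.eq_zero_iff_mem]
    have : ∀ j, e j * d j = 0 := by
      intro j
      simp only [e, p]
      rw [mul_assoc, Finset.prod_erase_mul _ _ (Finset.mem_univ j), hprod, mul_zero]
    calc π (a - a₀) = ∑ j, e j * π (c j) - (∑ j, e j) * π a₀ := by
          rw [map_sub, hsum', one_mul, map_sum]
          simp only [π, map_mul, hπe]
      _ = -∑ j, e j * d j := by
          simp only [d, π, map_sub, mul_sub, Finset.sum_sub_distrib, Finset.sum_mul, neg_sub]
      _ = 0 := by simp [this]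

end Groth.Agent.S6888
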