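import Groth.Statements.S6891
import Groth.Agent.FittX.Free

set_option autoImplicit false
universe u
open Fitt

namespace Groth.Agent.S6891

/-- Let `M` be a finite `R`-module. Then `Fit_0(M) ⊆ Ann_R(M)`, the closed set `V(Fit_0(M))` equals
`Supp(M)`, and for an ideal `I` one has `Fit_0(R/I) = I`. -/
theorem result {R : Type u} [CommRing R] (M : Type u) [AddCommGroup M]
    [Module R M] [Module.Finite R M] (I : Ideal R) :
    Fitt.ideal R M 0 ≤ Module.annihilator R M ∧
    PrimeSpectrum.zeroLocus (Fitt.ideal R M 0 : Set R) = Module.support R M ∧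
    Fitt.ideal R (R ⧸ I) 0 = I := by
  refine ⟨Groth.Agent.FittX.ideal_annihilator, Groth.Agent.FittX.zeroLocus_eq_support M, ?_⟩
  have hx : Submodule.span R (Set.range fun _ : Fin 1 => Ideal.Quotient.mk I 1) = ⊤ := by
    rw [eq_top_iff]
    intro q _
    obtain ⟨a, rfl⟩ := Ideal.Quotient.mk_surjective q
    exact Submodule.mem_span_range_iff_exists_fun R |>.2 ⟨fun _ => a, by simp [Algebra.smul_def]⟩
  rw [Groth.Agent.FittX.ideal_eq_minors _ hx, Groth.Agent.FittX.minors_rel_eq_span]
  refine le_antisymm (Ideal.span_le.2 ?_) fun a ha => ?_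
  · rintro d ⟨z, e, hz, rfl⟩
    have h0 := Groth.Agent.FittX.mem_rel.1 (hz 0)
    simp only [Fin.sum_univ_one, Algebra.smul_def, Ideal.Quotient.algebraMap_eq, ← map_mul, mul_one,
      Ideal.Quotient.eq_zero_iff_mem] at h0
    simpa [Groth.Agent.FittX.cminor, Matrix.det_unique, Fin.fin_one_eq_zero (e 0)] using h0
  · refine Ideal.subset_span ⟨fun _ _ => a, id, fun _ => Groth.Agent.FittX.mem_rel.2 ?_, ?_⟩
    · simp [Algebra.smul_def, Ideal.Quotient.eq_zero_iff_mem.2 ha]
    · simp [Groth.Agent.FittX.cminor]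

end Groth.Agent.S6891
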