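import Groth.Statements.S6896
import Groth.Agent.FittX.Principal

set_option autoImplicit false
universe u
open Fitt

namespace Groth.Agent.S6896

/-- Let `R` be a local ring, `M` a finite `R`-module and `k ≥ 0` with `Fit_k(M) = (f)` principal. Then
the quotient `M'` of `M` by the submodule `{x ∈ M | f x = 0}` can be generated by `k` elements. -/
theorem result {R : Type u} [CommRing R] [IsLocalRing R]
    (M : Type u) [AddCommGroup M] [Module R M] [Module.Finite R M] (k : ℕ) (f : R)
    (hf : Fitt.ideal R M k = Ideal.span {f}) :
    ∃ g : Fin k → M ⧸ LinearMap.ker (f • (LinearMap.id : M →ₗ[R] M)),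
      Submodule.span R (Set.range g) = ⊤ := by
  exact Groth.Agent.FittX.exists_gen_quotient k f hf

end Groth.Agent.S6896
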