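import Groth.Statements.S6898
import Mathlib

set_option autoImplicit false
universe u
open TensorProduct
open CAlg

namespace Groth.Agent.S6898

/-- Let `(A, 𝔪)` be a local ring and `u : M → N` a linear map between flat `A`-modules whose reduction
`M/𝔪M → N/𝔪N` is injective. If `I` is the content ideal of some `x ∈ M` (the least ideal `I` with `x
∈ IM`), then `I` is also the least ideal `J` with `u(x) ∈ J·N`. -/
theorem result {A : Type u} [CommRing A] [IsLocalRing A] {M N : Type u}
    [AddCommGroup M] [Module A M] [Module.Flat A M] [AddCommGroup N] [Module A N] [Module.Flat A N] (u : M →ₗ[A] N)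
    (hu : Function.Injective (u.baseChange (IsLocalRing.ResidueField A))) (x : M) (I : Ideal A)
    (hx : IsLeast {J : Ideal A | x ∈ J • (⊤ : Submodule A M)} I) :
    IsLeast {J : Ideal A | u x ∈ J • (⊤ : Submodule A N)} I := by
  open TensorProduct in
  open IsLocalRing in
  classical
  obtain ⟨hxI, hmin⟩ := hx
  have hmap : ∀ (J : Ideal A) (y : M), y ∈ J • (⊤ : Submodule A M) → u y ∈ J • (⊤ : Submodule A N) := fun J y hy =>
    Submodule.smul_induction_on hy (fun a ha m _ => by
      rw [map_smul]
      exact Submodule.smul_mem_smul ha Submodule.mem_top) (fun a b ha hb => by rw [map_add]; exact add_mem ha hb)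
  refine ⟨hmap I x hxI, fun J (hJ : u x ∈ J • (⊤ : Submodule A N)) => ?_⟩
  have hfg : I.FG := by
    have h : ∀ y ∈ I • (⊤ : Submodule A M), ∃ I₀ : Ideal A, I₀.FG ∧ I₀ ≤ I ∧ y ∈ I₀ • (⊤ : Submodule A M) :=
      fun y hy => Submodule.smul_induction_on hy
        (fun a ha m _ => ⟨Ideal.span {a}, ⟨{a}, by simp⟩, (Ideal.span_singleton_le_iff_mem I).2 ha,
          Submodule.smul_mem_smul (Ideal.mem_span_singleton_self a) Submodule.mem_top⟩)
        (fun a b ⟨P, hP, hP', ha⟩ ⟨Q, hQ, hQ', hb⟩ => ⟨P ⊔ Q, Submodule.FG.sup hP hQ, sup_le hP' hQ',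
          add_mem (Submodule.smul_mono le_sup_left le_rfl ha) (Submodule.smul_mono le_sup_right le_rfl hb)⟩)
    obtain ⟨I₀, h0, h1, h2⟩ := h x hxI
    rwa [le_antisymm (hmin h2) h1]
  by_contra hIJ
  let I' : Submodule A A := I ⊓ J ⊔ maximalIdeal A • I
  have hI' : ¬ I ≤ I' := fun h => hIJ
    ((Submodule.le_of_le_smul_of_le_jacobson_bot hfg (maximalIdeal_le_jacobson _) h).trans inf_le_right)
  let V := I ⧸ I'.comap (Submodule.subtype I)
  have hVt : Module.IsTorsionBySet A V (maximalIdeal A : Set A) := by
    rintro v ⟨a, ha⟩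
    obtain ⟨y, rfl⟩ := Submodule.Quotient.mk_surjective _ v
    show a • Submodule.Quotient.mk y = (0 : V)
    rw [← Submodule.Quotient.mk_smul, Submodule.Quotient.mk_eq_zero]
    exact Submodule.mem_sup_right (Submodule.smul_mem_smul ha y.2)
  letI : Module (ResidueField A) V := hVt.module
  haveI : IsScalarTower A (ResidueField A) V := hVt.isScalarTower
  obtain ⟨y, hyI, hy⟩ := SetLike.not_le_iff_exists.mp hI'
  have hv0 : (Submodule.Quotient.mk ⟨y, hyI⟩ : V) ≠ 0 := fun h => hy ((Submodule.Quotient.mk_eq_zero (I'.comap (Submodule.subtype I))).1 h)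
  obtain ⟨ψ, hψ⟩ := Module.Projective.exists_dual_ne_zero (ResidueField A) hv0
  let φ : I →ₗ[A] ResidueField A := (ψ.restrictScalars A).comp (I'.comap (Submodule.subtype I)).mkQ
  have hφ : ∀ z : I, (z : A) ∈ J → φ z = 0 := fun z hz => by
    show ψ (Submodule.Quotient.mk z) = 0
    rw [(Submodule.Quotient.mk_eq_zero (I'.comap (Submodule.subtype I))).2 (Submodule.mem_sup_left ⟨z.2, hz⟩), map_zero]
  have hrange : ∀ (P : Type u) [AddCommGroup P] [Module A P] (p : P), p ∈ I • (⊤ : Submodule A P) →
      ∃ ξ : I ⊗[A] P, TensorProduct.lid A P ((Submodule.subtype I).rTensor P ξ) = p := fun P _ _ p hp =>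
    Submodule.smul_induction_on hp (fun a ha m _ => ⟨⟨a, ha⟩ ⊗ₜ m, by simp⟩)
      (fun a b ⟨ξ, hξ⟩ ⟨ξ', hξ'⟩ => ⟨ξ + ξ', by rw [map_add, map_add, hξ, hξ']⟩)
  obtain ⟨ξ, hξ⟩ := hrange M x hxI
  have hne : φ.rTensor M ξ ≠ 0 := by
    intro h0
    have hex : Function.Exact (LinearMap.ker φ).subtype φ.rangeRestrict := LinearMap.exact_iff.2 (by simp)
    have h1 : φ.rangeRestrict.rTensor M ξ = 0 := by
      apply Module.Flat.rTensor_preserves_injective_linearMap (M := M) (LinearMap.range φ).subtype Subtype.val_injective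
      rw [map_zero, ← LinearMap.rTensor_comp_apply]
      exact h0
    obtain ⟨w, rfl⟩ := (rTensor_exact M hex φ.surjective_rangeRestrict ξ).mp h1
    have hmem : x ∈ ((LinearMap.ker φ).map (Submodule.subtype I)) • (⊤ : Submodule A M) := by
      rw [← hξ, ← LinearMap.rTensor_comp_apply]
      clear hξ h0 h1
      induction w using TensorProduct.induction_on with
      | zero => simp
      | add a b ha hb => rw [map_add, map_add]; exact add_mem ha hb
      | tmul a m =>
        simp only [LinearMap.rTensor_tmul, TensorProduct.lid_tmul, LinearMap.comp_apply]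
        exact Submodule.smul_mem_smul (Submodule.mem_map_of_mem (f := Submodule.subtype I) a.2) Submodule.mem_top
    obtain ⟨z, hz, hzy⟩ := hmin hmem hyI
    obtain rfl : z = ⟨y, hyI⟩ := Subtype.ext hzy
    exact hψ hz
  apply hne
  apply hu
  rw [map_zero]
  show u.lTensor (ResidueField A) (φ.rTensor M ξ) = 0
  rw [← LinearMap.comp_apply, LinearMap.lTensor_comp_rTensor, ← LinearMap.rTensor_comp_lTensor, LinearMap.comp_apply]
  let q : I →ₗ[A] A ⧸ J := (Submodule.mkQ J).comp (Submodule.subtype I)
  have hexq : Function.Exact (LinearMap.ker q).subtype q.rangeRestrict := LinearMap.exact_iff.2 (by simp)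
  have h1 : q.rangeRestrict.rTensor N (u.lTensor I ξ) = 0 := by
    apply Module.Flat.rTensor_preserves_injective_linearMap (M := N) (LinearMap.range q).subtype Subtype.val_injective
    rw [map_zero, ← LinearMap.rTensor_comp_apply,
      show (LinearMap.range q).subtype.comp q.rangeRestrict = (Submodule.mkQ J).comp (Submodule.subtype I) from rfl,
      LinearMap.rTensor_comp_apply]
    have h2 : TensorProduct.lid A N ((Submodule.subtype I).rTensor N (u.lTensor I ξ)) = u x := by
      rw [← hξ]
      clear hξ hne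
      induction ξ using TensorProduct.induction_on with
      | zero => simp
      | add a b ha hb => simp only [map_add, ha, hb]
      | tmul a m => simp
    apply (TensorProduct.quotTensorEquivQuotSMul N J).injective
    rw [map_zero, show (Submodule.subtype I).rTensor N (u.lTensor I ξ) = (TensorProduct.lid A N).symm (u x) by
      rw [← h2, LinearEquiv.symm_apply_apply]]
    simp [Submodule.Quotient.mk_eq_zero, hJ]
  obtain ⟨w, hw⟩ := (rTensor_exact N hexq q.surjective_rangeRestrict _).mp h1
  rw [← hw, ← LinearMap.rTensor_comp_apply,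
    show φ.comp (LinearMap.ker q).subtype = 0 from LinearMap.ext fun z =>
      hφ z.1 ((Submodule.Quotient.mk_eq_zero J).1 z.2)]
  simp

end Groth.Agent.S6898
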