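import Groth.Statements.S6903
import Groth.Agent.H9Misc.KFlatRows
import Groth.Agent.FlatCxLib.HomologyColim

set_option autoImplicit false
universe u
open CategoryTheory CategoryTheory.Limits MonoidalCategory
open DRing

namespace Groth.Agent.S6903

/-- A filtered colimit of K-flat complexes of `R`-modules is K-flat. -/
theorem result (R : Type u) [CommRing R] (J : Type u) [SmallCategory J] [IsFiltered J]
    (F : J ⥤ DRing.Cx R) (hF : ∀ j : J, (∀ L : DRing.Cx R, (∀ i : ℤ, IsZero (L.homology i)) → ∀ i : ℤ, IsZero ((L ⊗ F.obj j).homology i))) :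
    (∀ L : DRing.Cx R, (∀ i : ℤ, IsZero (L.homology i)) → ∀ i : ℤ, IsZero ((L ⊗ colimit F).homology i)) := by
  intro L hL i
  let T := MonoidalCategory.curriedTensor (ModuleCat.{u} R)
  haveI : ∀ M : ModuleCat.{u} R, PreservesColimitsOfShape J (T.obj M) := fun M =>
    inferInstanceAs (PreservesColimitsOfShape J (MonoidalCategory.tensorLeft M))
  haveI := Groth.Agent.FlatCxLib.preservesColimitsOfShape_complexHomology (C := ModuleCat.{u} R) (J := J)
    (ComplexShape.up ℤ) i
  haveI := Groth.Agent.KFlatLib.preservesColimitsOfShape₂ T J L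
  let c := isColimitOfPreserves (T.map₂CochainComplex.obj L ⋙ HomologicalComplex.homologyFunctor _ _ i)
    (colimit.isColimit F)
  rw [IsZero.iff_id_eq_zero]
  exact c.hom_ext fun j => (hF j L hL i).eq_of_src _ _

end Groth.Agent.S6903
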