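import Groth.Statements.S6912
import Mathlib

set_option autoImplicit false
universe u
open TensorProduct
open CAlg

namespace Groth.Agent.S6912

/-- Let `R` be a domain and `M`, `N` two `R`-modules; rank means dimension over the fraction field after
base change. Then `rank (M ⊗_R N) = rank M · rank N`, and when `M` is finitely presented also `rank
Hom_R(M, N) = rank M · rank N`. -/
theorem result (R : Type u) [CommRing R] [IsDomain R] (M N : Type u)
    [AddCommGroup M] [Module R M] [AddCommGroup N] [Module R N] :
    Module.rank R (M ⊗[R] N) = Module.rank R M * Module.rank R N ∧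
    (Module.FinitePresentation R M → Module.rank R (M →ₗ[R] N) = Module.rank R M * Module.rank R N) := by
  open TensorProduct in
  let K := FractionRing R
  have hr : ∀ (X : Type u) [AddCommGroup X] [Module R X],
      Module.rank R X = Module.rank K (LocalizedModule (nonZeroDivisors R) X) := fun X _ _ => by
    rw [IsLocalization.rank_eq K (nonZeroDivisors R) le_rfl]
    exact (IsLocalizedModule.rank_eq (nonZeroDivisors R) le_rfl (LocalizedModule.mkLinearMap (nonZeroDivisors R) X)).symm
  have ht : ∀ (X : Type u) [AddCommGroup X] [Module R X],
      Module.rank R X = Module.rank K (K ⊗[R] X) := fun X _ _ => by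
    rw [hr X]
    exact (LocalizedModule.equivTensorProduct (nonZeroDivisors R) X).rank_eq
  refine ⟨?_, fun hM => ?_⟩
  · rw [ht, ht M, ht N, (TensorProduct.AlgebraTensorModule.distribBaseChange R K M N).rank_eq, rank_tensorProduct']
  · haveI := hM
    haveI : Module.Finite K (LocalizedModule (nonZeroDivisors R) M) :=
      Module.Finite.of_isLocalizedModule (nonZeroDivisors R) (LocalizedModule.mkLinearMap _ M)
    rw [hr, hr M, hr N]
    let e : LocalizedModule (nonZeroDivisors R) (M →ₗ[R] N) ≃ₗ[K]
        (LocalizedModule (nonZeroDivisors R) M →ₗ[K] LocalizedModule (nonZeroDivisors R) N) :=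
      (Module.FinitePresentation.linearEquivMapExtendScalars (nonZeroDivisors R)).extendScalarsOfIsLocalization
        (nonZeroDivisors R) K
    rw [e.rank_eq, Module.rank_linearMap, Cardinal.lift_id, Cardinal.lift_id]

end Groth.Agent.S6912
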