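import Groth.Statements.S6913
import Mathlib

set_option autoImplicit false
universe u
open CAlg

namespace Groth.Agent.S6913

/-- Let `R` be a domain and `M` a finite `R`-module, of (finite) rank `r`. Then: some linear map `M →
R^r` has torsion kernel and torsion cokernel; some nonzero `f ∈ R` makes `M_f` free of rank `r` over
`R_f`; and some injective linear map `R^r → M` has torsion cokernel. -/
theorem result (R : Type u) [CommRing R] [IsDomain R] (M : Type u) [AddCommGroup M]
    [Module R M] [Module.Finite R M] :
    (∃ h : M →ₗ[R] (Fin (Module.finrank R M) → R),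
      (∀ x : M, h x = 0 → ∃ c : R, c ≠ 0 ∧ c • x = 0) ∧
      (∀ y : Fin (Module.finrank R M) → R, ∃ c : R, c ≠ 0 ∧ c • y ∈ LinearMap.range h)) ∧
    (∃ f : R, f ≠ 0 ∧ Module.Free (Localization.Away f) (LocalizedModule (Submonoid.powers f) M) ∧
      Module.finrank (Localization.Away f) (LocalizedModule (Submonoid.powers f) M) = Module.finrank R M) ∧
    (∃ g : (Fin (Module.finrank R M) → R) →ₗ[R] M, Function.Injective g ∧
      ∀ x : M, ∃ c : R, c ≠ 0 ∧ c • x ∈ LinearMap.range g) := by
  classical
  let K := FractionRing R
  let P := nonZeroDivisors R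
  let ι := LocalizedModule.mkLinearMap P M
  let V := LocalizedModule P M
  have hbc : IsBaseChange K ι := (isLocalizedModule_iff_isBaseChange P K ι).mp inferInstance
  haveI : Module.Finite K V := Module.Finite.of_isLocalizedModule P ι
  have hr : Module.finrank K V = Module.finrank R M := hbc.finrank_eq
  set r := Module.finrank R M
  let b := Module.finBasisOfFinrankEq K V hr
  choose ms hms using fun i => IsLocalizedModule.surj P ι (b i)
  let g : (Fin r → R) →ₗ[R] M := Fintype.linearCombination R fun i => (ms i).1
  have hιms : ∀ i, ι (ms i).1 = algebraMap R K ((ms i).2 : R) • b i := fun i => by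
    rw [algebraMap_smul]; exact (hms i).symm
  have hs0 : ∀ i, algebraMap R K ((ms i).2 : R) ≠ 0 := fun i =>
    IsFractionRing.to_map_ne_zero_of_mem_nonZeroDivisors (ms i).2.2
  have hιg : ∀ y, b.repr (ι (g y)) = Finsupp.equivFunOnFinite.symm (fun i => algebraMap R K (y i * ((ms i).2 : R))) := by
    intro y
    have h1 : ι (g y) = ∑ i, algebraMap R K (y i * ((ms i).2 : R)) • b i := by
      simp only [g, Fintype.linearCombination_apply, map_sum, map_smul, hιms, map_mul, ← smul_smul]
      exact Finset.sum_congr rfl fun i _ => (algebraMap_smul K (y i) _).symm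
    rw [h1]
    ext j
    simp [Finsupp.single_apply]
  have hginj : Function.Injective g := by
    rw [injective_iff_map_eq_zero]
    intro y hy
    funext i
    have h1 := DFunLike.congr_fun (hιg y) i
    rw [hy, map_zero, map_zero, Finsupp.coe_equivFunOnFinite_symm] at h1
    have h2 : y i * ((ms i).2 : R) = 0 := IsFractionRing.injective R K (h1.symm.trans (map_zero _).symm)
    exact (mul_eq_zero.mp h2).resolve_right (nonZeroDivisors.coe_ne_zero _)
  obtain ⟨T, hT⟩ := Module.Finite.fg_top (R := R) (M := M)
  obtain ⟨c, hc⟩ := IsLocalization.exist_integer_multiples_of_finset P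
    ((T ×ˢ (Finset.univ : Finset (Fin r))).image fun p => b.repr (ι p.1) p.2)
  have hint : ∀ x i, ∃ z : R, algebraMap R K z = (c : R) • b.repr (ι x) i := by
    intro x i
    have hx : x ∈ Submodule.span R (T : Set M) := hT ▸ Submodule.mem_top
    induction hx using Submodule.span_induction with
    | mem y hy => exact hc _ (Finset.mem_image.mpr ⟨(y, i), by simp [Finset.mem_coe.mp hy], rfl⟩)
    | zero => exact ⟨0, by simp⟩
    | add a b' _ _ ha hb =>
      obtain ⟨za, ha⟩ := ha
      obtain ⟨zb, hb⟩ := hb
      exact ⟨za + zb, by rw [map_add, map_add, map_add, Finsupp.add_apply, smul_add, ha, hb]⟩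
    | smul a y _ hy =>
      obtain ⟨z, hz⟩ := hy
      exact ⟨a * z, by rw [map_mul, hz, map_smul, ← algebraMap_smul K a (ι y), map_smul, Finsupp.smul_apply,
        smul_eq_mul, mul_smul_comm]⟩
  choose hf hhf using hint
  let h : M →ₗ[R] (Fin r → R) :=
    { toFun := hf
      map_add' := fun x y => funext fun i => IsFractionRing.injective R K (by
        rw [Pi.add_apply, map_add, hhf, hhf, hhf, map_add, map_add, Finsupp.add_apply, smul_add])
      map_smul' := fun a x => funext fun i => IsFractionRing.injective R K (by
        rw [RingHom.id_apply, Pi.smul_apply, smul_eq_mul, map_mul, hhf, hhf, map_smul, ← algebraMap_smul K a (ι x),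
          map_smul, Finsupp.smul_apply, smul_eq_mul, mul_smul_comm]) }
  have hker : ∀ x, h x = 0 → ι x = 0 := by
    intro x hx
    apply b.repr.injective
    rw [map_zero]
    ext i
    have h1 := hhf x i
    rw [show hf x i = 0 from congrFun hx i, map_zero, Algebra.smul_def] at h1
    exact (mul_eq_zero.mp h1.symm).resolve_left (IsFractionRing.to_map_ne_zero_of_mem_nonZeroDivisors c.2)
  have hkill : ∀ x : M, ∃ a : R, a ≠ 0 ∧ a • x ∈ LinearMap.range g := by
    intro x
    obtain ⟨S, hS⟩ : ∃ S : R, S = ∏ i, ((ms i).2 : R) := ⟨_, rfl⟩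
    let y : Fin r → R := fun i => hf x i * ∏ j ∈ Finset.univ.erase i, ((ms j).2 : R)
    have hιy : ι (g y) = ι ((S * c) • x) := by
      apply b.repr.injective
      rw [hιg]
      ext i
      rw [Finsupp.coe_equivFunOnFinite_symm, map_smul, ← algebraMap_smul K (S * (c : R)) (ι x), map_smul, Finsupp.smul_apply, smul_eq_mul]
      simp only [y, mul_assoc, map_mul, hhf, Algebra.smul_def]
      rw [hS, ← Finset.prod_erase_mul _ _ (Finset.mem_univ i), map_mul]
      ring
    obtain ⟨d, hd⟩ := (IsLocalizedModule.eq_iff_exists P ι).mp hιy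
    refine ⟨(d : R) * (S * c), mul_ne_zero (nonZeroDivisors.coe_ne_zero d) (mul_ne_zero ?_ (nonZeroDivisors.coe_ne_zero c)),
      (d : R) • y, ?_⟩
    · rw [hS]; exact Finset.prod_ne_zero_iff.mpr fun i _ => nonZeroDivisors.coe_ne_zero _
    · rw [map_smul, mul_smul]
      exact hd
  refine ⟨⟨h, fun x hx => ?_, fun y => ?_⟩, ?_, ⟨g, hginj, hkill⟩⟩
  · obtain ⟨d, hd⟩ := (IsLocalizedModule.eq_zero_iff P ι).mp (hker x hx)
    exact ⟨d, nonZeroDivisors.coe_ne_zero d, hd⟩
  · refine ⟨(c : R) * ∏ i, ((ms i).2 : R), mul_ne_zero (nonZeroDivisors.coe_ne_zero c)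
      (Finset.prod_ne_zero_iff.mpr fun i _ => nonZeroDivisors.coe_ne_zero _),
      g (fun i => y i * ∏ j ∈ Finset.univ.erase i, ((ms j).2 : R)), ?_⟩
    funext i
    apply IsFractionRing.injective R K
    show algebraMap R K (hf _ i) = _
    rw [hhf, hιg, Finsupp.coe_equivFunOnFinite_symm, Pi.smul_apply, smul_eq_mul, Algebra.smul_def, ← map_mul,
      ← Finset.prod_erase_mul _ _ (Finset.mem_univ i)]
    congr 1
    ring
  · choose a ha0 ha using hkill
    let f := ∏ x ∈ T, a x
    have hf0 : f ≠ 0 := Finset.prod_ne_zero_iff.mpr fun x _ => ha0 x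
    have hfx : ∀ x, f • x ∈ LinearMap.range g := by
      intro x
      have hx : x ∈ Submodule.span R (T : Set M) := hT ▸ Submodule.mem_top
      induction hx using Submodule.span_induction with
      | mem y hy =>
        rw [show f = (∏ z ∈ T.erase y, a z) * a y from (Finset.prod_erase_mul _ _ (Finset.mem_coe.mp hy)).symm, mul_smul]
        exact Submodule.smul_mem _ _ (ha y)
      | zero => simp
      | add p q _ _ hp hq => rw [smul_add]; exact add_mem hp hq
      | smul e y _ hy => rw [smul_comm]; exact Submodule.smul_mem _ _ hy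
    let Sf := Submonoid.powers f
    let g' := LocalizedModule.map Sf g
    have hg'bij : Function.Bijective g' := by
      refine ⟨LocalizedModule.map_injective Sf g hginj, fun z => ?_⟩
      induction z using LocalizedModule.induction_on with
      | h x s =>
        obtain ⟨y, hy⟩ := hfx x
        exact ⟨LocalizedModule.mk y (⟨f, Submonoid.mem_powers f⟩ * s), by
          simp only [g', LocalizedModule.map_mk, hy]
          rw [LocalizedModule.mk_eq]
          refine ⟨1, ?_⟩
          simp only [one_smul, Submonoid.smul_def, Submonoid.coe_mul, smul_smul]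
          rw [mul_comm (s : R)]⟩
    let e := LinearEquiv.ofBijective g' hg'bij
    haveI : Module.Free (Localization.Away f) (LocalizedModule Sf (Fin r → R)) :=
      Module.free_of_isLocalizedModule Sf (LocalizedModule.mkLinearMap Sf _)
    haveI : IsDomain (Localization.Away f) :=
      IsLocalization.isDomain_localization (powers_le_nonZeroDivisors_of_noZeroDivisors hf0)
    haveI : FaithfulSMul R (Localization.Away f) := (faithfulSMul_iff_algebraMap_injective _ _).mpr
      (IsLocalization.injective _ (powers_le_nonZeroDivisors_of_noZeroDivisors hf0))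
    refine ⟨f, hf0, Module.Free.of_equiv e, ?_⟩
    rw [← e.finrank_eq, ((isLocalizedModule_iff_isBaseChange Sf (Localization.Away f)
      (LocalizedModule.mkLinearMap Sf (Fin r → R))).mp inferInstance).finrank_eq]
    simp

end Groth.Agent.S6913
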