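import Groth.Statements.S6915
import Groth.Agent.FittStrict.Basic
-- import your own Groth.Agent.* helpers here

set_option autoImplicit false
universe u
open TensorProduct
open Fitt

namespace Groth.Agent.S6915

/-- Let `M` be a finite `R`-module, `k ≥ 0` and `I = Fit_k(M)`, and assume `M_𝔭` is free of rank `k` for
every prime `𝔭` not containing `I`. Then for every `a ∈ I` and (a copy `R₁` of) the affine blow-up
algebra `R[I/a]`, the strict transform `M' = (M ⊗_R R₁)/(a-power torsion)` is finite locally free of
rank `k`: every prime of `R₁` has a basic open neighbourhood over which `M'` is free of rank `k`. -/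
theorem result {R : Type u} [CommRing R] (M : Type u) [AddCommGroup M]
    [Module R M] [Module.Finite R M] (k : ℕ)
    (hfree : ∀ (p : Ideal R) [p.IsPrime], ¬ Fitt.ideal R M k ≤ p →
      Module.Free (Localization.AtPrime p) (LocalizedModule p.primeCompl M) ∧
        Module.finrank (Localization.AtPrime p) (LocalizedModule p.primeCompl M) = k)
    (a : R) (ha : a ∈ Fitt.ideal R M k) (R₁ : Type u) [CommRing R₁] [Algebra R R₁] (e : R₁ ≃ₐ[R] ↥(BlowUp.affineAlgebra R (Fitt.ideal R M k) a)) :
    ∀ (p' : Ideal R₁) [p'.IsPrime], ∃ g : R₁, g ∉ p' ∧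
      Module.Free (Localization.Away g) (LocalizedModule (Submonoid.powers g) ((R₁ ⊗[R] M) ⧸ FlatCA.powTorsion R₁ (algebraMap R R₁ a) (R₁ ⊗[R] M))) ∧
      Module.finrank (Localization.Away g) (LocalizedModule (Submonoid.powers g) ((R₁ ⊗[R] M) ⧸ FlatCA.powTorsion R₁ (algebraMap R R₁ a) (R₁ ⊗[R] M))) = k := by
  have hkill : ∀ j < k, ∀ x ∈ Fitt.ideal R M j, ∃ n : ℕ, a ^ n * x = 0 := fun j hj x hx =>
    FittStrict.exists_pow_mul_eq_zero a x fun p _ hap => by
      obtain ⟨hfr, hrk⟩ := hfree p fun h => hap (h ha)
      haveI := hfr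
      haveI : Module.Finite (Localization.AtPrime p) (LocalizedModule p.primeCompl M) :=
        Module.Finite.of_isLocalizedModule p.primeCompl (LocalizedModule.mkLinearMap p.primeCompl M)
      have h0 : algebraMap R (Localization.AtPrime p) x = 0 := by
        rw [← Ideal.mem_bot, ← FittX.ideal_eq_bot_of_free (LocalizedModule p.primeCompl M) j k
          ((Module.finBasis (Localization.AtPrime p) (LocalizedModule p.primeCompl M)).reindex (finCongr hrk)) hj,
          FittX.ideal_baseChange (FittX.isBaseChange_mkLinearMap M p.primeCompl) j]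
        exact Ideal.mem_map_of_mem _ hx
      obtain ⟨c, hc⟩ := (IsLocalization.map_eq_zero_iff p.primeCompl _ x).1 h0
      exact ⟨c, c.2, hc⟩
  exact FittStrict.locallyFree (FittStrict.mem_nonZeroDivisors_of_equiv e) dvd_rfl
    ((FittStrict.ideal_tensor M R₁ k).trans (FittStrict.map_eq_span_of_equiv ha e))
    fun j hj => FittStrict.killed_of_map M R₁ (hkill j hj)

end Groth.Agent.S6915
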