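import Groth.Statements.S6917
import Mathlib
-- import your own Groth.Agent.* helpers here

set_option autoImplicit false
universe u
open CategoryTheory
open EtAlg CategoryTheory.Limits

namespace Groth.Agent.S6917

/-- Let `B' = B ×_A A'` be a fibre square of rings with `A' → A` surjective. Then `Spec(B') = Spec(B)
⨿_{Spec(A)} Spec(A')`: the square of prime spectra is a pushout of topological spaces. -/
theorem result (B' B A' A : Type u) [CommRing B'] [CommRing B] [CommRing A'] [CommRing A]
    [Algebra B' B] [Algebra B' A'] [Algebra B A] [Algebra A' A] [Algebra B' A] [IsScalarTower B' B A] [IsScalarTower B' A' A]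
    (hsq : EtMil.IsFibreSquare B' B A' A) :
    IsPushout (TopCat.ofHom (ContinuousMap.mk (PrimeSpectrum.comap (algebraMap B A)) (PrimeSpectrum.continuous_comap _))) (TopCat.ofHom (ContinuousMap.mk (PrimeSpectrum.comap (algebraMap A' A)) (PrimeSpectrum.continuous_comap _)))
      (TopCat.ofHom (ContinuousMap.mk (PrimeSpectrum.comap (algebraMap B' B)) (PrimeSpectrum.continuous_comap _)))
      (TopCat.ofHom (ContinuousMap.mk (PrimeSpectrum.comap (algebraMap B' A')) (PrimeSpectrum.continuous_comap _))) := by
  classical
  obtain ⟨hπ, hsq⟩ := hsq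
  have hext : ∀ {x y : B'}, algebraMap B' B x = algebraMap B' B y → algebraMap B' A' x = algebraMap B' A' y → x = y :=
    fun {x y} h1 h2 => (hsq _ _ (by rw [← IsScalarTower.algebraMap_apply, ← IsScalarTower.algebraMap_apply])).unique
      ⟨h1, h2⟩ ⟨rfl, rfl⟩
  have hpair : ∀ b a, algebraMap B A b = algebraMap A' A a →
      ∃ z, algebraMap B' B z = b ∧ algebraMap B' A' z = a := fun b a h => (hsq b a h).exists
  have hsur : Function.Surjective (algebraMap B' B) := fun b => by
    obtain ⟨a, ha⟩ := hπ (algebraMap B A b)
    exact (hpair b a ha.symm).imp fun _ h => h.1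
  have hcl := PrimeSpectrum.isClosedEmbedding_comap_of_surjective B (algebraMap B' B) hsur
  have hrange : ∀ q : PrimeSpectrum B', q ∈ Set.range (PrimeSpectrum.comap (algebraMap B' B)) ↔
      ∀ x : B', algebraMap B' B x = 0 → x ∈ q.asIdeal := fun q => by
    rw [range_comap_of_surjective _ _ hsur]; exact Iff.rfl
  have hoff : ∀ q : PrimeSpectrum B', q ∉ Set.range (PrimeSpectrum.comap (algebraMap B' B)) →
      ∃! q' : PrimeSpectrum A', PrimeSpectrum.comap (algebraMap B' A') q' = q := by
    intro q hq
    rw [hrange] at hq
    push Not at hq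
    obtain ⟨x, hx0, hxq⟩ := hq
    have hx' : algebraMap A' A (algebraMap B' A' x) = 0 := by
      rw [← IsScalarTower.algebraMap_apply, IsScalarTower.algebraMap_apply B' B A, hx0, map_zero]
    choose θ hθB hθA using fun a : A' => hpair 0 (a * algebraMap B' A' x) (by rw [map_zero, map_mul, hx', mul_zero])
    have hθ1 : θ 1 = x := hext (by rw [hθB, hx0]) (by rw [hθA, one_mul])
    have hθmul : ∀ a c, θ (a * c) * x = θ a * θ c := fun a c =>
      hext (by simp [hθB]) (by simp only [map_mul, hθA]; ring)
    let P : Ideal A' :=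
      { carrier := {a | θ a ∈ q.asIdeal}
        add_mem' := fun {a c} ha hc => by
          show θ (a + c) ∈ q.asIdeal
          rw [show θ (a + c) = θ a + θ c from hext (by simp [hθB]) (by simp only [map_add, hθA]; ring)]
          exact add_mem ha hc
        zero_mem' := by
          show θ 0 ∈ q.asIdeal
          rw [show θ 0 = 0 from hext (by simp [hθB]) (by simp [hθA])]
          exact zero_mem _
        smul_mem' := fun c a ha => by
          have : θ (c * a) * x ∈ q.asIdeal := by rw [hθmul]; exact Ideal.mul_mem_left _ _ ha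
          exact (q.2.mem_or_mem this).resolve_right hxq }
    have hP : P.IsPrime := by
      constructor
      · intro h
        exact hxq (hθ1 ▸ (show (1 : A') ∈ P from h ▸ Submodule.mem_top))
      · intro a c hac
        have : θ a * θ c ∈ q.asIdeal := by rw [← hθmul]; exact Ideal.mul_mem_right _ _ hac
        exact q.2.mem_or_mem this
    refine ⟨⟨P, hP⟩, PrimeSpectrum.ext (Ideal.ext fun b => ?_), fun q'' hq'' => ?_⟩
    · show θ (algebraMap B' A' b) ∈ q.asIdeal ↔ _
      rw [show θ (algebraMap B' A' b) = b * x from hext (by simp [hθB, hx0]) (by simp [hθA]),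
        q.2.mul_mem_iff_mem_or_mem, or_iff_left hxq]
    · subst hq''
      refine PrimeSpectrum.ext (Ideal.ext fun a => ?_)
      show a ∈ q''.asIdeal ↔ algebraMap B' A' (θ a) ∈ q''.asIdeal
      rw [hθA, q''.2.mul_mem_iff_mem_or_mem]
      exact (or_iff_left hxq).symm
  have hon : ∀ q' : PrimeSpectrum A', PrimeSpectrum.comap (algebraMap B' A') q' ∈
      Set.range (PrimeSpectrum.comap (algebraMap B' B)) → q' ∈ Set.range (PrimeSpectrum.comap (algebraMap A' A)) := by
    intro q' h
    rw [range_comap_of_surjective _ _ hπ]
    intro a (ha : algebraMap A' A a = 0)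
    obtain ⟨z, hz1, hz2⟩ := hpair 0 a (by rw [map_zero, ha])
    exact hz2 ▸ ((hrange _).mp h z hz1)
  have hcomm : ∀ s : PrimeSpectrum A, PrimeSpectrum.comap (algebraMap B' B) (PrimeSpectrum.comap (algebraMap B A) s)
      = PrimeSpectrum.comap (algebraMap B' A') (PrimeSpectrum.comap (algebraMap A' A) s) := fun s =>
    PrimeSpectrum.ext (Ideal.ext fun z => by
      show algebraMap B A (algebraMap B' B z) ∈ s.asIdeal ↔ algebraMap A' A (algebraMap B' A' z) ∈ s.asIdeal
      rw [← IsScalarTower.algebraMap_apply, ← IsScalarTower.algebraMap_apply])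
  have hclosed : ∀ C : Set (PrimeSpectrum B'), IsClosed (PrimeSpectrum.comap (algebraMap B' B) ⁻¹' C) →
      IsClosed (PrimeSpectrum.comap (algebraMap B' A') ⁻¹' C) → IsClosed C := by
    intro C hB hA
    let K := PrimeSpectrum.vanishingIdeal (PrimeSpectrum.comap (algebraMap B' A') ⁻¹' C)
    have hK : ∀ q', q' ∈ PrimeSpectrum.comap (algebraMap B' A') ⁻¹' C ↔ K ≤ q'.asIdeal := fun q' => by
      conv_lhs => rw [← hA.closure_eq, ← PrimeSpectrum.zeroLocus_vanishingIdeal_eq_closure]
      exact Iff.rfl
    have hC : C = PrimeSpectrum.comap (algebraMap B' B) '' (PrimeSpectrum.comap (algebraMap B' B) ⁻¹' C) ∪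
        PrimeSpectrum.zeroLocus (K.comap (algebraMap B' A') : Set B') := by
      ext q
      constructor
      · intro hq
        by_cases h : q ∈ Set.range (PrimeSpectrum.comap (algebraMap B' B))
        · obtain ⟨r, rfl⟩ := h
          exact Or.inl ⟨r, hq, rfl⟩
        · obtain ⟨q', rfl, -⟩ := hoff q h
          exact Or.inr fun z hz => (hK q').mp hq hz
      · rintro (⟨r, hr, rfl⟩ | hq)
        · exact hr
        · by_cases h : q ∈ Set.range (PrimeSpectrum.comap (algebraMap B' B))
          · obtain ⟨r, rfl⟩ := h
            let W := PrimeSpectrum.comap (algebraMap B' B) ⁻¹' C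
            have hW : (PrimeSpectrum.vanishingIdeal W : Ideal B) ≤ (K.map (algebraMap A' A)).radical.comap (algebraMap B A) := by
              intro b hb
              rw [Ideal.mem_comap, Ideal.radical_eq_sInf, Submodule.mem_sInf]
              rintro P ⟨hP1, hP2⟩
              refine (PrimeSpectrum.mem_vanishingIdeal _ b).mp hb (PrimeSpectrum.comap (algebraMap B A) ⟨P, hP2⟩) ?_
              show PrimeSpectrum.comap (algebraMap B' B) _ ∈ C
              rw [hcomm]
              exact (hK _).mpr (Ideal.map_le_iff_le_comap.mp hP1)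
            have hr : r ∈ PrimeSpectrum.zeroLocus (PrimeSpectrum.vanishingIdeal W : Set B) := by
              intro b hb
              obtain ⟨n, hn⟩ := hW hb
              obtain ⟨a, ha, hab⟩ := (Ideal.mem_map_iff_of_surjective _ hπ).mp hn
              obtain ⟨z, hz1, hz2⟩ := hpair (b ^ n) a (by rw [map_pow, hab])
              have h' : z ∈ (PrimeSpectrum.comap (algebraMap B' B) r).asIdeal :=
                hq (show algebraMap B' A' z ∈ K by rw [hz2]; exact ha)
              exact r.2.mem_of_pow_mem n (hz1 ▸ h')
            rw [PrimeSpectrum.zeroLocus_vanishingIdeal_eq_closure, hB.closure_eq] at hr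
            exact hr
          · obtain ⟨q', hq', hu⟩ := hoff q h
            subst hq'
            refine (hK q').mpr fun a ha => ?_
            rw [hrange] at h
            push Not at h
            obtain ⟨x, hx0, hxq⟩ := h
            have hx' : algebraMap A' A (algebraMap B' A' x) = 0 := by
              rw [← IsScalarTower.algebraMap_apply, IsScalarTower.algebraMap_apply B' B A, hx0, map_zero]
            obtain ⟨z, hz1, hz2⟩ := hpair 0 (a * algebraMap B' A' x) (by rw [map_zero, map_mul, hx', mul_zero])
            have h' : algebraMap B' A' z ∈ q'.asIdeal :=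
              hq (show algebraMap B' A' z ∈ K by rw [hz2]; exact Ideal.mul_mem_right _ _ ha)
            exact (q'.2.mem_or_mem (hz2 ▸ h')).resolve_right hxq
    rw [hC]
    exact (hcl.isClosedMap _ hB).union (PrimeSpectrum.isClosed_zeroLocus _)
  have w : TopCat.ofHom (ContinuousMap.mk (PrimeSpectrum.comap (algebraMap B A)) (PrimeSpectrum.continuous_comap _)) ≫
      TopCat.ofHom (ContinuousMap.mk (PrimeSpectrum.comap (algebraMap B' B)) (PrimeSpectrum.continuous_comap _)) =
      TopCat.ofHom (ContinuousMap.mk (PrimeSpectrum.comap (algebraMap A' A)) (PrimeSpectrum.continuous_comap _)) ≫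
      TopCat.ofHom (ContinuousMap.mk (PrimeSpectrum.comap (algebraMap B' A')) (PrimeSpectrum.continuous_comap _)) := by
    refine TopCat.ext fun s => ?_
    exact hcomm s
  let h : (s : PushoutCocone (TopCat.ofHom (ContinuousMap.mk (PrimeSpectrum.comap (algebraMap B A)) (PrimeSpectrum.continuous_comap _)))
      (TopCat.ofHom (ContinuousMap.mk (PrimeSpectrum.comap (algebraMap A' A)) (PrimeSpectrum.continuous_comap _)))) →
      PrimeSpectrum B' → s.pt := fun s q =>
    if hq : q ∈ Set.range (PrimeSpectrum.comap (algebraMap B' B)) then s.inl hq.choose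
    else s.inr (hoff q hq).exists.choose
  have hl : ∀ s r, h s (PrimeSpectrum.comap (algebraMap B' B) r) = s.inl r := fun s r => by
    have hq : PrimeSpectrum.comap (algebraMap B' B) r ∈ Set.range (PrimeSpectrum.comap (algebraMap B' B)) := ⟨r, rfl⟩
    simp only [h, dif_pos hq]
    rw [hcl.injective hq.choose_spec]
  have hrr : ∀ s q', h s (PrimeSpectrum.comap (algebraMap B' A') q') = s.inr q' := fun s q' => by
    by_cases hq : PrimeSpectrum.comap (algebraMap B' A') q' ∈ Set.range (PrimeSpectrum.comap (algebraMap B' B))
    · obtain ⟨t, rfl⟩ := hon q' hq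
      rw [← hcomm, hl]
      exact ConcreteCategory.congr_hom s.condition t
    · simp only [h, dif_neg hq]
      rw [(hoff _ hq).unique (hoff _ hq).exists.choose_spec rfl]
  refine IsPushout.of_isColimit (c := PushoutCocone.mk _ _ w) (PushoutCocone.IsColimit.mk w
    (fun s => TopCat.ofHom ⟨h s, ?_⟩) (fun s => ?_) (fun s => ?_) fun s m hm1 hm2 => ?_)
  · rw [continuous_iff_isClosed]
    intro D hD
    refine hclosed _ ?_ ?_
    · convert hD.preimage s.inl.hom.continuous using 1
      ext r
      simp [hl]
    · convert hD.preimage s.inr.hom.continuous using 1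
      ext r
      simp [hrr]
  · ext r
    exact hl s r
  · ext r
    exact hrr s r
  · ext q
    show m q = h s q
    by_cases hq : q ∈ Set.range (PrimeSpectrum.comap (algebraMap B' B))
    · obtain ⟨r, rfl⟩ := hq
      rw [hl]
      exact ConcreteCategory.congr_hom hm1 r
    · obtain ⟨q', rfl, -⟩ := hoff q hq
      rw [hrr]
      exact ConcreteCategory.congr_hom hm2 q'

end Groth.Agent.S6917
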