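import Groth.Statements.S6918
import Mathlib
import Groth.Agent.FlatModel.Local

set_option autoImplicit false
universe u
open FlatMor

namespace Groth.Agent.S6918

open TensorProduct

/-- If `N_q` is flat over `R`, the kernel of `N ⊗ A → N ⊗ B` is killed outside `q`. -/
theorem exists_smul_eq_zero {R S : Type u} [CommRing R] [CommRing S] [Algebra R S] (q : Ideal S) [q.IsPrime]
    {N : Type u} [AddCommGroup N] [Module S N] [Module R N] [IsScalarTower R S N]
    (h : FlatCA.FlatAt R q N) {A B : Type u} [AddCommGroup A] [Module R A] [AddCommGroup B] [Module R B]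
    (u : A →ₗ[R] B) (hu : Function.Injective u) (y : N ⊗[R] A) (hy : u.lTensor N y = 0) :
    ∃ s ∈ q.primeCompl, s • y = 0 := by
  haveI : Module.Flat R (LocalizedModule q.primeCompl N) := h
  let φ := AlgebraTensorModule.rTensor R A (LocalizedModule.mkLinearMap q.primeCompl N)
  let ψ := AlgebraTensorModule.rTensor R B (LocalizedModule.mkLinearMap q.primeCompl N)
  have hcomm : ∀ z, u.lTensor _ (φ z) = ψ (u.lTensor N z) := fun z => by
    induction z using TensorProduct.induction_on with
    | zero => simp
    | tmul m j => simp [φ, ψ]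
    | add y z hy hz => simp only [map_add, hy, hz]
  have h0 : φ y = 0 := Module.Flat.lTensor_preserves_injective_linearMap (M := LocalizedModule q.primeCompl N) u hu
    (by rw [hcomm, hy, map_zero, map_zero])
  obtain ⟨s, hs⟩ := (IsLocalizedModule.eq_zero_iff q.primeCompl φ).1 h0
  exact ⟨s, s.2, hs⟩


/-- Let `R → S` be a ring map, `J ⊆ S` an ideal, `M` an `S`-module, `I ⊆ R` an ideal, `R → R'` a ring
map and `I' ⊇ IR'`; put `S' = S ⊗_R R'`, `M' = M ⊗_R R'`. If `M_𝔮` is flat over `R` for all primes
`𝔮 ⊇ IS + J` of `S`, then `M'_{𝔮'}` is flat over `R'` for all primes `𝔮' ⊇ I'S' + JS'` of `S'`. (The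
published statement passes from an arbitrary pair `(R', I')` over `R` to a further pair `(R'',
I'')`; this row takes the first pair to be `(R, I)`.) -/
theorem result {R S R' S' : Type u} [CommRing R] [CommRing S] [CommRing R'] [CommRing S']
    [Algebra R S] [Algebra R R'] [Algebra S S'] [Algebra R' S'] [Algebra R S'] [IsScalarTower R S S']
    [IsScalarTower R R' S'] [Algebra.IsPushout R S R' S']
    (I : Ideal R) (I' : Ideal R') (hII' : I.map (algebraMap R R') ≤ I')
    {M M' : Type u} [AddCommGroup M] [Module S M] [Module R M] [IsScalarTower R S M]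
    [AddCommGroup M'] [Module S' M'] [Module R' M'] [IsScalarTower R' S' M'] [Module S M'] [IsScalarTower S S' M']
    (f : M →ₗ[S] M') (hf : IsBaseChange S' f) (J : Ideal S)
    (h : (∀ (q : Ideal S) [q.IsPrime], I.map (algebraMap R S) ⊔ J ≤ q → FlatCA.FlatAt R q M)) :
    (∀ (q : Ideal S') [q.IsPrime], I'.map (algebraMap R' S') ⊔ J.map (algebraMap S S') ≤ q → FlatCA.FlatAt R' q M') := by
  intro q' _ hq'
  let q : Ideal S := q'.comap (algebraMap S S')
  have hq : I.map (algebraMap R S) ⊔ J ≤ q := by
    refine sup_le ?_ (Ideal.map_le_iff_le_comap.1 (le_sup_right.trans hq'))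
    rw [Ideal.map_le_iff_le_comap]
    intro r hr
    show algebraMap S S' (algebraMap R S r) ∈ q'
    rw [← IsScalarTower.algebraMap_apply R S S', IsScalarTower.algebraMap_apply R R' S']
    exact le_sup_left.trans hq' (Ideal.mem_map_of_mem _ (hII' (Ideal.mem_map_of_mem _ hr)))
  have hflat := h q hq
  letI : Module R M' := Module.compHom M' (algebraMap R S')
  haveI : IsScalarTower R S' M' := IsScalarTower.of_algebraMap_smul fun _ _ => rfl
  haveI : IsScalarTower R R' M' := IsScalarTower.of_algebraMap_smul fun r x => by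
    rw [← algebraMap_smul S' (algebraMap R R' r), ← IsScalarTower.algebraMap_apply R R' S']; rfl
  haveI : IsScalarTower R S M' := IsScalarTower.of_algebraMap_smul fun r x => by
    rw [← algebraMap_smul S' (algebraMap R S r), ← IsScalarTower.algebraMap_apply R S S']; rfl
  have hg : IsBaseChange R' (f.restrictScalars R) := by
    haveI : Algebra.IsPushout R R' S S' := Algebra.IsPushout.symm ‹_›
    refine IsBaseChange.of_equiv ((Algebra.IsPushout.cancelBaseChange R R' S S' M).symm.trans
      (hf.equiv.restrictScalars R')) fun x => ?_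
    simp [hf.equiv_tmul]
  unfold FlatCA.FlatAt
  rw [Groth.Agent.FlatModel.flat_localized_iff q'.primeCompl
    (LocalizedModule.mkLinearMap q'.primeCompl M')]
  intro K y' hy'
  let ψ : M ⊗[R] K →ₗ[R] M' ⊗[R'] K :=
    TensorProduct.lift (LinearMap.mk₂ R (fun m j => f m ⊗ₜ[R'] j)
      (fun m₁ m₂ j => by simp [TensorProduct.add_tmul])
      (fun r m j => by rw [LinearMap.map_smul_of_tower]; rfl)
      (fun m j₁ j₂ => by simp [TensorProduct.tmul_add])
      (fun r m j => by rw [TensorProduct.tmul_smul]))
  have hψsmul : ∀ (s : S) y, ψ (s • y) = algebraMap S S' s • ψ y := fun s y => by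
    induction y using TensorProduct.induction_on with
    | zero => simp
    | tmul m j => simp [ψ, TensorProduct.smul_tmul', algebraMap_smul]
    | add y z hy hz => simp only [smul_add, map_add, hy, hz]
  have hψ : Function.Surjective ψ := by
    intro z
    induction z using TensorProduct.induction_on with
    | zero => exact ⟨0, map_zero _⟩
    | tmul m' j =>
      obtain ⟨t, rfl⟩ := hg.equiv.surjective m'
      induction t using TensorProduct.induction_on with
      | zero => exact ⟨0, by simp⟩
      | tmul r m =>
        refine ⟨m ⊗ₜ (r • j), ?_⟩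
        simp [ψ, hg.equiv_tmul, TensorProduct.smul_tmul']
      | add a b ha hb =>
        obtain ⟨ya, hya⟩ := ha
        obtain ⟨yb, hyb⟩ := hb
        exact ⟨ya + yb, by rw [map_add, hya, hyb, map_add, TensorProduct.add_tmul]⟩
    | add a b ha hb =>
      obtain ⟨ya, rfl⟩ := ha
      obtain ⟨yb, rfl⟩ := hb
      exact ⟨ya + yb, map_add _ _ _⟩
  obtain ⟨y, rfl⟩ := hψ y'
  let u : K →ₗ[R] R' := K.subtype.restrictScalars R
  have hcomm : ∀ y, TensorProduct.rid R' M' (K.subtype.lTensor M' (ψ y)) =
      hg.equiv (TensorProduct.comm R M R' (u.lTensor M y)) := fun y => by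
    induction y using TensorProduct.induction_on with
    | zero => simp
    | tmul m j => simp [ψ, u, hg.equiv_tmul]
    | add y z hy hz => simp only [map_add, hy, hz]
  have hu : u.lTensor M y = 0 := by
    apply (TensorProduct.comm R M R').injective
    apply hg.equiv.injective
    rw [← hcomm, hy', map_zero, map_zero, map_zero]
  obtain ⟨s, hs, hsy⟩ := exists_smul_eq_zero q hflat u Subtype.val_injective y hu
  exact ⟨algebraMap S S' s, hs, by rw [← hψsmul, hsy, map_zero]⟩

end Groth.Agent.S6918
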