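import Groth.Statements.S6919
import Groth.Agent.Triage.CMBC
import Groth.Agent.FlatModel.Local

set_option autoImplicit false
universe u
open FlatMor

set_option backward.isDefEq.respectTransparency false
set_option backward.isDefEq.respectTransparency.types false
open TensorProduct

namespace Groth.Agent.S6919

set_option synthInstance.maxHeartbeats 100000

/-- A prime of a tensor product over two given primes with the same contraction. -/
theorem exists_prime_over {R S R' S' : Type u} [CommRing R] [CommRing S] [CommRing R'] [CommRing S']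
    [Algebra R S] [Algebra R R'] [Algebra S S'] [Algebra R' S'] [Algebra R S'] [IsScalarTower R S S']
    [IsScalarTower R R' S'] [Algebra.IsPushout R S R' S'] (q : Ideal S) [q.IsPrime] (p' : Ideal R') [p'.IsPrime]
    (h : q.comap (algebraMap R S) = p'.comap (algebraMap R R')) :
    ∃ (q' : Ideal S') (_ : q'.IsPrime), q'.comap (algebraMap S S') = q ∧ q'.comap (algebraMap R' S') = p' := by
  let p := q.comap (algebraMap R S)
  haveI : q.LiesOver p := ⟨rfl⟩
  haveI : p'.LiesOver p := ⟨h⟩
  letI := Localization.AtPrime.algebraOfLiesOver p q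
  letI := Localization.AtPrime.algebraOfLiesOver p p'
  let C := q.ResidueField ⊗[p.ResidueField] p'.ResidueField
  haveI : Nontrivial C :=
    Module.FaithfullyFlat.lTensor_nontrivial p.ResidueField q.ResidueField p'.ResidueField
  obtain ⟨m, hm⟩ := Ideal.exists_maximal C
  letI := Ideal.Quotient.field m
  let fS : q.ResidueField →ₐ[p.ResidueField] C ⧸ m :=
    (Ideal.Quotient.mkₐ p.ResidueField m).comp Algebra.TensorProduct.includeLeft
  let fR : p'.ResidueField →ₐ[p.ResidueField] C ⧸ m :=
    (Ideal.Quotient.mkₐ p.ResidueField m).comp Algebra.TensorProduct.includeRight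
  let gS : S →ₐ[R] C ⧸ m := (fS.restrictScalars R).comp (IsScalarTower.toAlgHom R S q.ResidueField)
  let gR : R' →ₐ[R] C ⧸ m := (fR.restrictScalars R).comp (IsScalarTower.toAlgHom R R' p'.ResidueField)
  let φ : S' →ₐ[R] C ⧸ m := Algebra.pushoutDesc S' gS gR fun x y => mul_comm _ _
  refine ⟨RingHom.ker φ.toRingHom, RingHom.ker_isPrime _, ?_, ?_⟩
  · ext s
    show φ (algebraMap S S' s) = 0 ↔ _
    rw [Algebra.pushoutDesc_left]
    show fS (algebraMap S q.ResidueField s) = 0 ↔ _
    rw [map_eq_zero_iff fS fS.toRingHom.injective, Ideal.algebraMap_residueField_eq_zero]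
  · ext s
    show φ (algebraMap R' S' s) = 0 ↔ _
    rw [Algebra.pushoutDesc_right]
    show fR (algebraMap R' p'.ResidueField s) = 0 ↔ _
    rw [map_eq_zero_iff fR fR.toRingHom.injective, Ideal.algebraMap_residueField_eq_zero]

/-- Let `R → S` be a ring map, `J ⊆ S` an ideal, `M` an `S`-module and `I ⊆ R` an ideal; let `R → R'` be
a ring map and `I' ⊆ R'` an ideal containing `IR'`, and put `S' = S ⊗_R R'`, `M' = M ⊗_R R'`. Assume
that every prime of `R` containing `I` is the contraction of a prime of `R'` containing `I'`, and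
that `R'_{𝔭'}` is flat over `R` for every prime `𝔭' ⊇ I'`. If `M'_{𝔮'}` is flat over `R'` for every
prime `𝔮' ⊇ I'S' + JS'` of `S'`, then `M_𝔮` is flat over `R` for every prime `𝔮 ⊇ IS + J` of `S`.
(The published statement descends from a pair `(R'', I'')` to an arbitrary pair `(R', I')` over `R`;
this row takes `(R', I') = (R, I)`.) -/
theorem result {R S R' S' : Type u} [CommRing R] [CommRing S] [CommRing R'] [CommRing S']
    [Algebra R S] [Algebra R R'] [Algebra S S'] [Algebra R' S'] [Algebra R S'] [IsScalarTower R S S']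
    [IsScalarTower R R' S'] [Algebra.IsPushout R S R' S']
    (I : Ideal R) (I' : Ideal R') (hII' : I.map (algebraMap R R') ≤ I')
    {M M' : Type u} [AddCommGroup M] [Module S M] [Module R M] [IsScalarTower R S M]
    [AddCommGroup M'] [Module S' M'] [Module R' M'] [IsScalarTower R' S' M'] [Module S M'] [IsScalarTower S S' M']
    (f : M →ₗ[S] M') (hf : IsBaseChange S' f) (J : Ideal S)
    (hsurj : ∀ (p : Ideal R) [p.IsPrime], I ≤ p → ∃ (p' : Ideal R') (_ : p'.IsPrime), I' ≤ p' ∧ p'.comap (algebraMap R R') = p)
    (hflat : ∀ (p' : Ideal R') [p'.IsPrime], I' ≤ p' → Module.Flat R (Localization.AtPrime p'))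
    (h : (∀ (q : Ideal S') [q.IsPrime], I'.map (algebraMap R' S') ⊔ J.map (algebraMap S S') ≤ q → FlatCA.FlatAt R' q M')) :
    (∀ (q : Ideal S) [q.IsPrime], I.map (algebraMap R S) ⊔ J ≤ q → FlatCA.FlatAt R q M) := by
  intro q _ hq
  let p : Ideal R := q.comap (algebraMap R S)
  have hIp : I ≤ p := Ideal.map_le_iff_le_comap.1 (le_sup_left.trans hq)
  obtain ⟨p', _, hI'p', hp'⟩ := hsurj p hIp
  obtain ⟨q', _, hq'S, hq'R⟩ := exists_prime_over (S' := S') q p' hp'.symm
  have hq' : I'.map (algebraMap R' S') ⊔ J.map (algebraMap S S') ≤ q' := by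
    refine sup_le (Ideal.map_le_iff_le_comap.2 ?_) (Ideal.map_le_iff_le_comap.2 ?_)
    · rw [hq'R]; exact hI'p'
    · rw [hq'S]; exact le_sup_right.trans hq
  have hM' : Module.Flat R' (LocalizedModule q'.primeCompl M') := h q' hq'
  let T := Localization.AtPrime q'
  let N := LocalizedModule q'.primeCompl M'
  haveI : Module.Flat R (Localization.AtPrime p') := hflat p' hI'p'
  haveI : Algebra.IsPushout R S R' S' := ‹_›
  haveI : Module.Flat S T :=
    Triage.CMBC.flat_atPrime_of_pushout (O := R) (C := S) (A := R') q' p' hq'R (Localization.AtPrime p') T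
  letI : Algebra (Localization.AtPrime p') T :=
    (Localization.localRingHom p' q' (algebraMap R' S') hq'R.symm).toAlgebra
  haveI : IsScalarTower R' (Localization.AtPrime p') T := IsScalarTower.of_algebraMap_eq fun r => by
    rw [RingHom.algebraMap_toAlgebra, Localization.localRingHom_to_map]
    exact IsScalarTower.algebraMap_apply R' S' T r
  letI : Module (Localization.AtPrime p') N := Module.compHom N (algebraMap (Localization.AtPrime p') T)
  haveI : IsScalarTower (Localization.AtPrime p') T N := IsScalarTower.of_algebraMap_smul fun _ _ => rfl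
  haveI : IsScalarTower R' (Localization.AtPrime p') N := IsScalarTower.of_algebraMap_smul fun r x => by
    show algebraMap (Localization.AtPrime p') T (algebraMap R' _ r) • x = r • x
    rw [← IsScalarTower.algebraMap_apply, algebraMap_smul]
  haveI : Module.Flat (Localization.AtPrime p') N :=
    (Module.flat_iff_of_isLocalization (Localization.AtPrime p') p'.primeCompl N).2 hM'
  letI : Module R N := Module.compHom N (algebraMap R R')
  haveI : IsScalarTower R R' N := IsScalarTower.of_algebraMap_smul fun _ _ => rfl
  haveI : IsScalarTower R (Localization.AtPrime p') N := IsScalarTower.of_algebraMap_smul fun r x => by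
    rw [IsScalarTower.algebraMap_apply R R' (Localization.AtPrime p'), algebraMap_smul]
    rfl
  haveI hNR : Module.Flat R N := Module.Flat.trans R (Localization.AtPrime p') N
  haveI : IsScalarTower S S' N := IsScalarTower.of_algebraMap_smul fun s x => by
    induction x using LocalizedModule.induction_on with
    | _ m t => rw [LocalizedModule.smul'_mk, LocalizedModule.smul'_mk, algebraMap_smul]
  haveI : IsScalarTower R S N := IsScalarTower.of_algebraMap_smul fun r x => by
    rw [← algebraMap_smul S' (algebraMap R S r) x, ← IsScalarTower.algebraMap_apply R S S',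
      IsScalarTower.algebraMap_apply R R' S', algebraMap_smul]
    rfl
  haveI : IsScalarTower S T N := IsScalarTower.of_algebraMap_smul fun s x => by
    rw [IsScalarTower.algebraMap_apply S S' T, algebraMap_smul, algebraMap_smul]
  have hg : IsBaseChange T (((LocalizedModule.mkLinearMap q'.primeCompl M').restrictScalars S).comp f) :=
    IsBaseChange.comp hf (IsLocalizedModule.isBaseChange q'.primeCompl T _)
  let e : T ⊗[S] M ≃ₗ[T] N := hg.equiv
  unfold FlatCA.FlatAt
  rw [Groth.Agent.FlatModel.flat_localized_iff q.primeCompl (LocalizedModule.mkLinearMap q.primeCompl M)]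
  intro K y hy
  have hNT : Module.Flat R (T ⊗[S] M) := Module.Flat.of_linearEquiv ((e.restrictScalars S).restrictScalars R)
  have hzero : (1 : T) ⊗ₜ[S] y = 0 := by
    apply (AlgebraTensorModule.assoc R S S T M K).symm.injective
    rw [map_zero]
    refine Module.Flat.lTensor_preserves_injective_linearMap (M := T ⊗[S] M) K.subtype Subtype.val_injective ?_
    rw [map_zero]
    have hc : ∀ z : M ⊗[R] K, K.subtype.lTensor (T ⊗[S] M) ((AlgebraTensorModule.assoc R S S T M K).symm ((1 : T) ⊗ₜ[S] z)) =
        (AlgebraTensorModule.assoc R S S T M R).symm ((1 : T) ⊗ₜ[S] K.subtype.lTensor M z) := fun z => by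
      induction z using TensorProduct.induction_on with
      | zero => simp
      | tmul m j => simp
      | add a b ha hb => simp only [TensorProduct.tmul_add, map_add, ha, hb]
    rw [hc, hy, TensorProduct.tmul_zero, map_zero]
  by_contra hne
  push Not at hne
  let a : Ideal S := LinearMap.ker (LinearMap.toSpanSingleton S (M ⊗[R] K) y)
  have haq : a ≤ q := fun s hs => not_not.1 fun hs' => hne s hs' hs
  let j : S ⧸ a →ₗ[S] M ⊗[R] K := a.liftQ (LinearMap.toSpanSingleton S (M ⊗[R] K) y) le_rfl
  have hj : Function.Injective j := by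
    rw [← LinearMap.ker_eq_bot]
    exact Submodule.ker_liftQ_eq_bot _ _ _ le_rfl
  have h1 : (1 : T) ⊗ₜ[S] (Submodule.Quotient.mk (p := a) 1) = 0 := by
    refine Module.Flat.lTensor_preserves_injective_linearMap (M := T) j hj ?_
    rw [map_zero, LinearMap.lTensor_tmul]
    show (1 : T) ⊗ₜ[S] ((1 : S) • y) = 0
    rw [one_smul]
    exact hzero
  have h2 : (1 : T) ∈ a • (⊤ : Submodule S T) := by
    have := congrArg (TensorProduct.tensorQuotEquivQuotSMul T a) h1
    rw [map_zero] at this
    have h3 : TensorProduct.tensorQuotEquivQuotSMul T a ((1 : T) ⊗ₜ[S] Submodule.Quotient.mk (p := a) 1) =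
        Submodule.Quotient.mk (1 : T) := by
      rw [show (Submodule.Quotient.mk (p := a) (1 : S)) = Ideal.Quotient.mk a 1 from rfl,
        TensorProduct.tensorQuotEquivQuotSMul_tmul_mk, one_smul]
    rw [h3] at this
    exact (Submodule.Quotient.mk_eq_zero _).1 this
  rw [Ideal.smul_top_eq_map] at h2
  have h4 : a.map (algebraMap S T) ≤ IsLocalRing.maximalIdeal T := by
    rw [Ideal.map_le_iff_le_comap]
    intro s hs
    show algebraMap S T s ∈ IsLocalRing.maximalIdeal T
    rw [IsScalarTower.algebraMap_apply S S' T, IsLocalization.AtPrime.to_map_mem_maximal_iff T q']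
    show s ∈ q'.comap (algebraMap S S')
    rw [hq'S]
    exact haq hs
  exact (IsLocalRing.maximalIdeal.isMaximal T).ne_top ((Ideal.eq_top_iff_one _).2 (h4 h2))

end Groth.Agent.S6919
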