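import Groth.Statements.S6920
import Mathlib.Algebra.Category.Ring.Epi
import Mathlib.RingTheory.Flat.Basic

set_option autoImplicit false
universe u
open CategoryTheory CategoryTheory.Limits MonoidalCategory
open DRing

namespace Groth.Agent.S6920

/-- For an epimorphism of rings `φ : R → S` and a complex `I•` of `S`-modules, if the underlying complex
of `R`-modules of `I•` is K-injective, then `I•` itself is K-injective over `S`. -/
theorem result (R S : Type u) [CommRing R] [CommRing S] (φ : R →+* S)
    (hφ : Epi (CommRingCat.ofHom φ)) (I : DRing.Cx S)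
    [CochainComplex.IsKInjective ((DRing.restrictCx φ).obj I)] : CochainComplex.IsKInjective I := by
  algebraize [φ]
  haveI : Algebra.IsEpi R S := CommRingCat.epi_iff_epi.mp hφ
  refine ⟨fun {K} f hK => ?_⟩
  have hK' : ((DRing.restrictCx φ).obj K).Acyclic := fun n => by
    rw [HomologicalComplex.exactAt_iff' _ (n - 1) n (n + 1) (by simp) (by simp)]
    exact ((HomologicalComplex.exactAt_iff' K (n - 1) n (n + 1) (by simp) (by simp)).1 (hK n)).map
      (ModuleCat.restrictScalars φ)
  obtain ⟨h⟩ := CochainComplex.IsKInjective.nonempty_homotopy_zero ((DRing.restrictCx φ).map f) hK'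
  have key : ∀ {M N : ModuleCat.{u} S} (g : (ModuleCat.restrictScalars φ).obj M ⟶ (ModuleCat.restrictScalars φ).obj N)
      (s : S) (m : M), g.hom (s • m) = s • (g.hom m : N) := by
    intro M N g s m
    letI : Module R M := Module.compHom M φ
    letI : Module R N := Module.compHom N φ
    haveI : IsScalarTower R S M := ⟨fun r a x => by rw [Algebra.smul_def, mul_smul]; rfl⟩
    haveI : IsScalarTower R S N := ⟨fun r a x => by rw [Algebra.smul_def, mul_smul]; rfl⟩
    let g' : M →ₗ[R] N := { toFun := fun x => g.hom x, map_add' := fun x y => g.hom.map_add x y, map_smul' := fun r x => g.hom.map_smul r x }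
    let B : S →ₗ[R] S →ₗ[R] N := LinearMap.mk₂ R (fun a b => a • g' (b • m))
      (fun a a' b => add_smul _ _ _) (fun r a b => smul_assoc _ _ _)
      (fun a b b' => by simp [add_smul]) (fun r a b => by simp only [smul_assoc, map_smul, smul_comm a r])
    have := congrArg (TensorProduct.lift B) ((Algebra.isEpi_iff_forall_one_tmul_eq R S).1 inferInstance s)
    simp [B, g'] at this
    exact this
  let lift : ∀ i j, K.X i ⟶ I.X j := fun i j => ModuleCat.ofHom
    { toFun := fun x => (h.hom i j).hom x
      map_add' := fun x y => (h.hom i j).hom.map_add x y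
      map_smul' := key (h.hom i j) }
  refine ⟨{ hom := lift, zero := fun i j hij => ?_, comm := fun i => ?_ }⟩
  · ext x
    exact (congrArg (fun t => t.hom x) (h.zero i j hij) :)
  · ext x
    have := congrArg (fun t => t.hom x) (h.comm i)
    rw [dNext_eq _ (show (ComplexShape.up ℤ).Rel i (i + 1) by simp), prevD_eq _ (show (ComplexShape.up ℤ).Rel (i - 1) i by simp)] at this
    rw [dNext_eq _ (show (ComplexShape.up ℤ).Rel i (i + 1) by simp), prevD_eq _ (show (ComplexShape.up ℤ).Rel (i - 1) i by simp)]
    exact this

end Groth.Agent.S6920
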