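import Groth.Statements.S6922
import Groth.Agent.EtMil7.RelPresented
-- import your own Groth.Agent.* helpers here

set_option autoImplicit false
universe u
open TensorProduct
open EtAlg

namespace Groth.Agent.S6922

/-- In the relative situation (`B' = B ×_A A'` with `A' → A` surjective, `B' → D'`, `D = D' ⊗_{B'} B`,
`C' = D' ⊗_{B'} A'`, `C = D' ⊗_{B'} A`), let `N` be a flat `B`-module that is finitely presented as
a `D`-module and `M'` a flat `A'`-module that is finitely presented as a `C'`-module, with a
`C`-isomorphism `φ : N ⊗_D C ≅ M' ⊗_{C'} C`, and suppose `B' → D'` is the composite of a flat ring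
map `B' → D''` and a ring map `D'' → D'` of finite presentation. Then `N ×_φ M'` is finitely
presented over `D'`. -/
theorem result (B' B A' A : Type u) [CommRing B'] [CommRing B] [CommRing A'] [CommRing A]
    [Algebra B' B] [Algebra B' A'] [Algebra B A] [Algebra A' A] [Algebra B' A] [IsScalarTower B' B A] [IsScalarTower B' A' A]
    (hsq : EtMil.IsFibreSquare B' B A' A)
    (D' D C' C : Type u) [CommRing D'] [CommRing D] [CommRing C'] [CommRing C]
    [Algebra B' D'] [Algebra B D] [Algebra A' C'] [Algebra A C]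
    [Algebra D' D] [Algebra B' D] [IsScalarTower B' B D] [IsScalarTower B' D' D] [Algebra.IsPushout B' B D' D]
    [Algebra D' C'] [Algebra B' C'] [IsScalarTower B' A' C'] [IsScalarTower B' D' C'] [Algebra.IsPushout B' A' D' C']
    [Algebra D' C] [Algebra B' C] [IsScalarTower B' A C] [IsScalarTower B' D' C] [Algebra.IsPushout B' A D' C]
    [Algebra D C] [IsScalarTower D' D C] [Algebra B C] [IsScalarTower B A C] [IsScalarTower B D C]
    [Algebra C' C] [IsScalarTower D' C' C] [Algebra A' C] [IsScalarTower A' A C] [IsScalarTower A' C' C]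
    {N M' : Type u} [AddCommGroup N] [Module D N] [Module D' N] [IsScalarTower D' D N]
    [AddCommGroup M'] [Module C' M'] [Module D' M'] [IsScalarTower D' C' M'] (φ : C ⊗[D] N ≃ₗ[C] C ⊗[C'] M')
    [Module B N] [IsScalarTower B D N] [Module A' M'] [IsScalarTower A' C' M']
    [Module.FinitePresentation D N] [Module.Flat B N] [Module.FinitePresentation C' M'] [Module.Flat A' M']
    (D'' : Type u) [CommRing D''] [Algebra B' D''] [Algebra D'' D'] [IsScalarTower B' D'' D'] [Module.Flat B' D'']
    [Algebra.FinitePresentation D'' D'] :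
    Module.FinitePresentation D' ↥(EtMil.glue D' φ) := by
  obtain ⟨n, f, hf, hker⟩ := Algebra.FinitePresentation.out (R := D'') (A := D')
  let P : Type u := MvPolynomial (Fin n) D''
  letI : Algebra P D' := f.toRingHom.toAlgebra
  haveI : IsScalarTower D'' P D' := IsScalarTower.of_algebraMap_eq fun x => (f.commutes x).symm
  haveI : IsScalarTower B' P D' := IsScalarTower.of_algebraMap_eq fun x => by
    rw [IsScalarTower.algebraMap_apply B' D'' P, ← IsScalarTower.algebraMap_apply D'' P D',
      ← IsScalarTower.algebraMap_apply B' D'' D']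
  haveI : Module.Flat B' P := Module.Flat.trans B' D'' P
  haveI : Module.FinitePresentation P D' :=
    Module.finitePresentation_of_surjective (Algebra.linearMap P D') hf hker
  have hw := Groth.Agent.EtMil7.isWeakSquare_of_isPushout hsq D' D C' C
  letI : Module P ↥(EtMil.glue D' φ) := Module.compHom _ f.toRingHom
  haveI : IsScalarTower P D' ↥(EtMil.glue D' φ) := ⟨fun a b c => by
    show (f a * b) • c = f a • b • c
    rw [mul_smul]⟩
  letI : Module B' ↥(EtMil.glue D' φ) := Module.compHom _ (algebraMap B' D')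
  haveI : IsScalarTower B' D' ↥(EtMil.glue D' φ) := ⟨fun a b c => by
    show (a • b) • c = algebraMap B' D' a • b • c
    rw [Algebra.smul_def, mul_smul]⟩
  haveI : IsScalarTower B' P ↥(EtMil.glue D' φ) := ⟨fun a b c => by
    show f (a • b) • c = algebraMap B' D' a • f b • c
    rw [Algebra.smul_def, map_mul, mul_smul]
    congr 1
    exact (IsScalarTower.algebraMap_apply B' P D' a).symm⟩
  let eN : D ⊗[D'] ↥(EtMil.glue D' φ) ≃ₗ[D] N :=
    LinearEquiv.ofBijective _ (Groth.Agent.EtMil7.bijective_liftBaseChange_glueFst φ hw)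
  let eM : C' ⊗[D'] ↥(EtMil.glue D' φ) ≃ₗ[C'] M' :=
    LinearEquiv.ofBijective _ (Groth.Agent.EtMil7.bijective_liftBaseChange_glueSnd φ hw)
  haveI : Module.Flat B (B ⊗[B'] ↥(EtMil.glue D' φ)) := Module.Flat.of_linearEquiv
    ((Algebra.IsPushout.cancelBaseChange B' B D' D _).symm ≪≫ₗ eN.restrictScalars B)
  haveI : Module.Flat A' (A' ⊗[B'] ↥(EtMil.glue D' φ)) := Module.Flat.of_linearEquiv
    ((Algebra.IsPushout.cancelBaseChange B' A' D' C' _).symm ≪≫ₗ eM.restrictScalars A')
  haveI : Module.Flat B' ↥(EtMil.glue D' φ) := Groth.Agent.EtMil7.flat_of_flat_baseChange_pair hsq _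
  haveI := Groth.Agent.EtMil7.finitePresentation_side (B' := B') (P := P) B D' D _ N eN
  haveI := Groth.Agent.EtMil7.finitePresentation_side (B' := B') (P := P) A' D' C' _ M' eM
  haveI := Groth.Agent.EtMil7.finitePresentation_of_pair_over (P := P) hsq ↥(EtMil.glue D' φ)
  let e : D' ⊗[P] ↥(EtMil.glue D' φ) →ₗ[D'] ↥(EtMil.glue D' φ) := LinearMap.liftBaseChange D' LinearMap.id
  have he : Function.Bijective e := by
    refine ⟨(injective_iff_map_eq_zero _).mpr fun t ht => ?_, fun x => ⟨1 ⊗ₜ x, by simp [e]⟩⟩
    obtain ⟨x, rfl⟩ := Groth.Agent.EtMil7.exists_one_tmul (S := P) (T := D') hf t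
    rw [show x = 0 by simpa [e] using ht, TensorProduct.tmul_zero]
  exact Module.FinitePresentation.of_equiv (LinearEquiv.ofBijective e he)

end Groth.Agent.S6922
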