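import Groth.Statements.S6923
import Groth.Agent.LimProj7.Limit
-- import your own Groth.Agent.* helpers here

set_option autoImplicit false
universe u
open Hensel

namespace Groth.Agent.S6923

/-- Let `A = lim A_n` be the limit of an inverse system of rings `(A_n)_{n ≥ 0}` in which each map
`A_{n+1} → A_n` is onto and every element of its kernel is nilpotent. Let `M_n` be `A_n`-modules
with compatible maps `M_{n+1} → M_n` such that `M_0` is finite projective, every `M_n` is finite and
flat over `A_n`, and the maps induce isomorphisms `M_{n+1} ⊗_{A_{n+1}} A_n → M_n` (i.e. are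
surjective with kernel `Ker(A_{n+1} → A_n) M_{n+1}`). Then the inverse limit of the `M_n` is a
finitely generated projective `A`-module whose base change to each `A_n` maps onto `M_n`
isomorphically: there is a finite projective `A`-module `P` with compatible maps `P → M_n`, each
surjective with kernel `Ker(A → A_n) P`, through which `P` maps bijectively onto the compatible
sequences in `∏ M_n`. -/
theorem result (A : Type u) [CommRing A] (An : ℕ → Type u)
    [∀ n, CommRing (An n)] (t : ∀ n, An (n + 1) →+* An n) (π : ∀ n, A →+* An n)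
    (ht : ∀ n, Function.Surjective (t n)) (hnil : ∀ n (x : An (n + 1)), t n x = 0 → IsNilpotent x)
    (hA : FlatCA.IsRingLimit A An t π)
    (M : ℕ → Type u) [∀ n, AddCommGroup (M n)] [∀ n, Module (An n) (M n)] (u : ∀ n, M (n + 1) →ₛₗ[t n] M n)
    [Module.Projective (An 0) (M 0)] (hfin : ∀ n, Module.Finite (An n) (M n)) (hflat : ∀ n, Module.Flat (An n) (M n))
    (hu : ∀ n, Function.Surjective (u n) ∧ LinearMap.ker (u n) = RingHom.ker (t n) • (⊤ : Submodule (An (n + 1)) (M (n + 1)))) :
    ∃ (P : Type u) (_ : AddCommGroup P) (_ : Module A P) (p : ∀ n, P →ₛₗ[π n] M n),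
      Module.Finite A P ∧ Module.Projective A P ∧ (∀ n (x : P), u n (p (n + 1) x) = p n x) ∧
      (∀ n, Function.Surjective (p n) ∧ LinearMap.ker (p n) = RingHom.ker (π n) • (⊤ : Submodule A P)) ∧
      (∀ x : (∀ n, M n), (∀ n, u n (x (n + 1)) = x n) → ∃! q : P, ∀ n, p n q = x n) := by
  exact LimProj7.limit A An t π ht hnil (fun n a => DFunLike.congr_fun (hA.1 n) a) hA.2.1 hA.2.2 M u hfin hflat hu

end Groth.Agent.S6923
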