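import Groth.Statements.S6924
import Groth.Agent.FittStrict.Basic
-- import your own Groth.Agent.* helpers here

set_option autoImplicit false
set_option maxHeartbeats 800000
universe u
open TensorProduct
open Fitt

namespace Groth.Agent.S6924

/-- Let `M` be a finite `R`-module and `f ∈ R` such that every prime of `D(f)` has a basic open
neighbourhood `D(g) ⊆ D(f)` with `M_g` free of rank `r` (in other words `M_f` is, locally on `D(f)`,
free of rank `r`). Then there is a finitely generated ideal `I ⊆ R` with `V(I) = V(f)` such that for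
every `a ∈ I` and (a copy `R₁` of) the affine blow-up algebra `R[I/a]`, the strict transform `(M ⊗_R
R₁)/(a-power torsion)` is finite locally free of rank `r` over `R₁`. -/
theorem result {R : Type u} [CommRing R] (M : Type u) [AddCommGroup M]
    [Module R M] [Module.Finite R M] (f : R) (r : ℕ)
    (hf : ∀ (p : Ideal R) [p.IsPrime], f ∉ p → ∃ g : R, g ∉ p ∧ g ∈ (Ideal.span {f}).radical ∧
      Module.Free (Localization.Away g) (LocalizedModule (Submonoid.powers g) M) ∧
        Module.finrank (Localization.Away g) (LocalizedModule (Submonoid.powers g) M) = r) :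
    ∃ I : Ideal R, I.FG ∧ I.radical = (Ideal.span {f}).radical ∧ ∀ a ∈ I, ∀ (R₁ : Type u) [CommRing R₁] [Algebra R R₁] (e : R₁ ≃ₐ[R] ↥(BlowUp.affineAlgebra R I a)),
      ∀ (p' : Ideal R₁) [p'.IsPrime], ∃ g : R₁, g ∉ p' ∧
        Module.Free (Localization.Away g) (LocalizedModule (Submonoid.powers g) ((R₁ ⊗[R] M) ⧸ FlatCA.powTorsion R₁ (algebraMap R R₁ a) (R₁ ⊗[R] M))) ∧
        Module.finrank (Localization.Away g) (LocalizedModule (Submonoid.powers g) ((R₁ ⊗[R] M) ⧸ FlatCA.powTorsion R₁ (algebraMap R R₁ a) (R₁ ⊗[R] M))) = r := by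
  obtain ⟨M₀, _, _, _, π, hπ, hπ0, hb⟩ := FittStrict.exists_cover M f r hf
  obtain ⟨hnle, hkill⟩ := FittStrict.fitting_not_le_and_killed M₀ hb
  refine ⟨Ideal.span {f} * Fitt.ideal R M₀ r, (Submodule.fg_span_singleton f).mul (FittX.ideal_fg r), ?_, ?_⟩
  · refine le_antisymm (Ideal.radical_mono (Ideal.mul_le_left (J := Fitt.ideal R M₀ r) (I := Ideal.span {f}))) (Ideal.radical_le_radical_iff.2 ?_)
    rw [Ideal.span_singleton_le_iff_mem, Ideal.radical_eq_sInf, Submodule.mem_sInf]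
    rintro p ⟨hJ, hp⟩
    by_contra hfp
    haveI := hp
    obtain ⟨x, hx, hxp⟩ := SetLike.not_le_iff_exists.1 (hnle p hfp)
    exact ((hp.mem_or_mem (hJ (Ideal.mul_mem_mul (Ideal.mem_span_singleton_self f) hx))).resolve_left hfp
      |> hxp)
  intro a ha R₁ _ _ e p' _
  have hnz := FittStrict.mem_nonZeroDivisors_of_equiv e
  have hmap := FittStrict.map_eq_span_of_equiv ha e
  rw [Ideal.map_mul, Ideal.map_span, Set.image_singleton] at hmap
  obtain ⟨w, hw, hwa⟩ : ∃ w ∈ (Fitt.ideal R M₀ r).map (algebraMap R R₁),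
      algebraMap R R₁ f * w = algebraMap R R₁ a :=
    Ideal.mem_span_singleton_mul.1 (hmap.symm ▸ Ideal.mem_span_singleton_self (algebraMap R R₁ a))
  have hfn : algebraMap R R₁ f ∈ nonZeroDivisors R₁ := by
    rw [← hwa, mul_mem_nonZeroDivisors] at hnz
    exact hnz.1
  have hspan : Fitt.ideal R₁ (R₁ ⊗[R] M₀) r = Ideal.span {w} := by
    rw [FittStrict.ideal_tensor M₀ R₁ r]
    refine le_antisymm (fun x hx => ?_) ((Ideal.span_singleton_le_iff_mem _).2 hw)
    obtain ⟨c, hc⟩ := Ideal.mem_span_singleton'.1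
      (hmap ▸ Ideal.mul_mem_mul (Ideal.mem_span_singleton_self (algebraMap R R₁ f)) hx :
        algebraMap R R₁ f * x ∈ Ideal.span {algebraMap R R₁ a})
    refine Ideal.mem_span_singleton'.2 ⟨c, ?_⟩
    refine (mul_cancel_left_mem_nonZeroDivisors hfn).1 ?_
    rw [← hc, ← hwa, mul_left_comm]
  have hj : ∀ j < r, ∀ x ∈ Fitt.ideal R M₀ j, ∃ n : ℕ, a ^ n * x = 0 := by
    intro j hj x hx
    obtain ⟨n, hn⟩ := hkill j hj x hx
    obtain ⟨c, hc⟩ := Ideal.mem_span_singleton'.1 ((Ideal.mul_le_left (I := Ideal.span {f}) (J := Fitt.ideal R M₀ r)) ha)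
    exact ⟨n, by rw [← hc, mul_pow, mul_assoc, hn, mul_zero]⟩
  obtain ⟨g, hg, hfree, hrank⟩ := FittStrict.locallyFree hnz ⟨algebraMap R R₁ f, by rw [← hwa, mul_comm]⟩ hspan
    (fun j hj' => FittStrict.killed_of_map M₀ R₁ (hj j hj')) p'
  let Φ : (R₁ ⊗[R] M₀) →ₗ[R₁] R₁ ⊗[R] M := π.baseChange R₁
  have hΦ : Function.Surjective Φ := LinearMap.lTensor_surjective R₁ hπ
  have hfa : f ∣ a := Ideal.mem_span_singleton.1 ((Ideal.mul_le_left (I := Ideal.span {f}) (J := Fitt.ideal R M₀ r)) ha)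
  have hker : ∀ z, Φ z = 0 → z ∈ FlatCA.powTorsion R₁ (algebraMap R R₁ a) (R₁ ⊗[R] M₀) :=
    fun z hz => FittStrict.mem_powTorsion_of_baseChange_eq_zero hfa hπ hπ0 hz
  let Ψ := (FlatCA.powTorsion R₁ (algebraMap R R₁ a) (R₁ ⊗[R] M)).mkQ ∘ₗ Φ
  have hΨ : LinearMap.ker Ψ = FlatCA.powTorsion R₁ (algebraMap R R₁ a) (R₁ ⊗[R] M₀) := by
    ext z
    rw [LinearMap.mem_ker, LinearMap.comp_apply, Submodule.mkQ_apply, Submodule.Quotient.mk_eq_zero,
      FittStrict.mem_powTorsion, FittStrict.mem_powTorsion]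
    constructor
    · rintro ⟨n, hn⟩
      rw [← map_smul] at hn
      obtain ⟨m, hm⟩ := FittStrict.mem_powTorsion.1 (hker _ hn)
      exact ⟨m + n, by rw [pow_add, mul_smul, hm]⟩
    · rintro ⟨n, hn⟩
      exact ⟨n, by rw [← map_smul, hn, map_zero]⟩
  let E := (Submodule.quotEquivOfEq _ _ hΨ.symm).trans
    (Ψ.quotKerEquivOfSurjective ((Submodule.mkQ_surjective _).comp hΦ))
  let T₀ := (R₁ ⊗[R] M₀) ⧸ FlatCA.powTorsion R₁ (algebraMap R R₁ a) (R₁ ⊗[R] M₀)
  let T₁ := (R₁ ⊗[R] M) ⧸ FlatCA.powTorsion R₁ (algebraMap R R₁ a) (R₁ ⊗[R] M)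
  let Fg : LocalizedModule (Submonoid.powers g) T₀ →ₗ[Localization.Away g] LocalizedModule (Submonoid.powers g) T₁ :=
    LocalizedModule.map (Submonoid.powers g) E.toLinearMap
  have hFg : Function.Bijective Fg :=
    ⟨IsLocalizedModule.map_injective _ (LocalizedModule.mkLinearMap _ _) (LocalizedModule.mkLinearMap _ _) _ E.injective,
      IsLocalizedModule.map_surjective _ (LocalizedModule.mkLinearMap _ _) (LocalizedModule.mkLinearMap _ _) _ E.surjective⟩
  let Eg := LinearEquiv.ofBijective Fg hFg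
  haveI := hfree
  exact ⟨g, hg, Module.Free.of_equiv Eg, Eg.finrank_eq.symm.trans hrank⟩

end Groth.Agent.S6924
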