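import Groth.Statements.S6925
import Mathlib
import Groth.Agent.FlatModel.FlatteningIdeal

set_option autoImplicit false
universe u
open TensorProduct
open FlatMor

namespace Groth.Agent.S6925

/-- Let `(R, 𝔪)` be a complete Noetherian local ring, `R → S` a ring map with `S` Noetherian and `M` a
finite `S`-module. Then among ideals contained in `𝔪`, there is a smallest one `I` with the
following property: whenever `𝔮` is a prime of `S` lying over `𝔪`, the module `(M/IM)_𝔮` is
`R/I`-flat. Namely, `I ⊆ 𝔪` has this property, and every ideal `J` with the property contains `I`. -/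
theorem result (R S : Type u) [CommRing R] [IsLocalRing R]
    [IsNoetherianRing R] [IsAdicComplete (IsLocalRing.maximalIdeal R) R] [CommRing S] [Algebra R S] [IsNoetherianRing S]
    (M : Type u) [AddCommGroup M] [Module S M] [Module R M] [IsScalarTower R S M] [Module.Finite S M] :
    ∃ I : Ideal R, I ≤ IsLocalRing.maximalIdeal R ∧
      (∀ (q : Ideal S) [q.IsPrime], q.comap (algebraMap R S) = IsLocalRing.maximalIdeal R →
        Module.Flat (R ⧸ I) ((R ⧸ I) ⊗[R] LocalizedModule q.primeCompl M)) ∧
      ∀ J : Ideal R, (∀ (q : Ideal S) [q.IsPrime], q.comap (algebraMap R S) = IsLocalRing.maximalIdeal R →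
        Module.Flat (R ⧸ J) ((R ⧸ J) ⊗[R] LocalizedModule q.primeCompl M)) → I ≤ J := by
  let κ := {q : PrimeSpectrum S // q.asIdeal.comap (algebraMap R S) = IsLocalRing.maximalIdeal R}
  obtain ⟨I, hIm, hI, hmin⟩ := Groth.Agent.FlatteningIdeal.exists_ideal_flat_truncations (R := R)
    (κ := κ) (fun q ↦ LocalizedModule q.1.asIdeal.primeCompl M)
  refine ⟨I, hIm, fun q hq hqm ↦ ?_, fun J hJ ↦ hmin J fun q ↦ hJ q.1.asIdeal q.2⟩
  refine Groth.Agent.FlatteningIdeal.flatMod_of_truncations (B := Localization.AtPrime q) ?_ I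
    fun n ↦ hI n ⟨⟨q, hq⟩, hqm⟩
  rw [IsLocalRing.jacobson_eq_maximalIdeal _ bot_ne_top,
    IsScalarTower.algebraMap_eq R S (Localization.AtPrime q), ← Ideal.map_map,
    ← Localization.AtPrime.map_eq_maximalIdeal]
  exact Ideal.map_mono (Ideal.map_le_iff_le_comap.mpr hqm.ge)

end Groth.Agent.S6925
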