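import Groth.Statements.S6926
import Groth.Agent.FlatModel.FlattenUniv

set_option autoImplicit false
universe u
open TensorProduct
open FlatMor

set_option backward.isDefEq.respectTransparency false

namespace Groth.Agent.S6926

/-- Let `(R, 𝔪)` be a complete Noetherian local ring, `R → S` with `S` Noetherian, `M` a finite
`S`-module, and `I ⊆ 𝔪` the least ideal with the property that, at each prime `𝔮` of `S` lying above
`𝔪`, the localization `(M/IM)_𝔮` is an `R/I`-flat module. Let `φ : R → R'` be a local homomorphism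
to a Noetherian local ring `(R', 𝔪')`, `S' = S ⊗_R R'`, `M' = M ⊗_R R'`. Then `M'_{𝔮'}` is flat over
`R'` for every prime `𝔮'` of `S'` lying over `𝔪'` if and only if `φ(I) = 0`. -/
theorem result {R S R' S' : Type u} [CommRing R] [IsLocalRing R]
    [IsNoetherianRing R] [IsAdicComplete (IsLocalRing.maximalIdeal R) R] [CommRing S] [IsNoetherianRing S]
    [CommRing R'] [IsLocalRing R'] [IsNoetherianRing R'] [CommRing S']
    [Algebra R S] [Algebra R R'] [IsLocalHom (algebraMap R R')] [Algebra S S'] [Algebra R' S'] [Algebra R S']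
    [IsScalarTower R S S'] [IsScalarTower R R' S'] [Algebra.IsPushout R S R' S']
    {M M' : Type u} [AddCommGroup M] [Module S M] [Module R M] [IsScalarTower R S M] [Module.Finite S M]
    [AddCommGroup M'] [Module S' M'] [Module R' M'] [IsScalarTower R' S' M'] [Module S M'] [IsScalarTower S S' M']
    (f : M →ₗ[S] M') (hf : IsBaseChange S' f) (I : Ideal R) (hIm : I ≤ IsLocalRing.maximalIdeal R)
    (hI : (∀ (q : Ideal S) [q.IsPrime], q.comap (algebraMap R S) = IsLocalRing.maximalIdeal R →
        Module.Flat (R ⧸ I) ((R ⧸ I) ⊗[R] LocalizedModule q.primeCompl M)))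
    (hmin : ∀ J : Ideal R, (∀ (q : Ideal S) [q.IsPrime], q.comap (algebraMap R S) = IsLocalRing.maximalIdeal R →
        Module.Flat (R ⧸ J) ((R ⧸ J) ⊗[R] LocalizedModule q.primeCompl M)) → I ≤ J) :
    (∀ (q' : Ideal S') [q'.IsPrime], q'.comap (algebraMap R' S') = IsLocalRing.maximalIdeal R' → FlatCA.FlatAt R' q' M') ↔
      I ≤ RingHom.ker (algebraMap R R') := by
  haveI : Algebra.IsPushout R R' S S' := Algebra.IsPushout.symm inferInstance
  refine ⟨fun h x hx => ?_, fun hker q' _ hq' =>
    RG.flatAt_congr q' hf.equiv (FlattenUniv.flatAt_of_le_ker I hker hI q' hq')⟩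
  have hn := FlattenUniv.map_le_pow_of_flatAt I hmin
    (fun q' _ hq' => RG.flatAt_congr q' hf.equiv.symm (h q' hq'))
  rw [RingHom.mem_ker, ← Submodule.mem_bot R',
    ← Ideal.iInf_pow_eq_bot_of_isLocalRing (IsLocalRing.maximalIdeal R') (IsLocalRing.maximalIdeal.isMaximal R').ne_top,
    Submodule.mem_iInf]
  intro n
  exact Ideal.pow_le_pow_right n.le_succ (hn n (Ideal.mem_map_of_mem _ hx))

end Groth.Agent.S6926
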