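import Groth.Statements.S6928
import Groth.Agent.FlatModel.Spread

set_option autoImplicit false
universe u
open FlatMor
open TensorProduct
open Groth.Agent.FlatSpread

set_option backward.isDefEq.respectTransparency false
set_option linter.style.haveILetI false
set_option maxHeartbeats 2000000

namespace Groth.Agent.S6928

attribute [local instance] Algebra.TensorProduct.rightAlgebra

/-- Let `R → S` be a ring map that is essentially of finite presentation, `J ⊆ S` an ideal and `M` a
finitely presented `S`-module. Let `(R_λ)` be a directed system of `R`-algebras with colimit `R'`,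
and `I_λ ⊆ R_λ` ideals with `I_λ R_μ ⊆ I_μ`, `I' = colim I_λ`, `S' = S ⊗_R R'`, `M' = M ⊗_R R'`. If
`M'_{𝔮'}` is flat over `R'` for every prime `𝔮' ⊇ I'S' + JS'`, then there is `λ` such that, with
`S_λ = S ⊗_R R_λ` and `M_λ = M ⊗_R R_λ`, `(M_λ)_𝔮` is flat over `R_λ` for every prime `𝔮 ⊇ I_λ S_λ +
J S_λ`. -/
theorem result {R S : Type u} [CommRing R] [CommRing S] [Algebra R S] (hS : FlatCA.EssFinitePresentation R S)
    {M : Type u} [AddCommGroup M] [Module S M] [Module R M] [IsScalarTower R S M] [Module.FinitePresentation S M]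
    {ι : Type u} [Preorder ι] (G : ι → Type u) [∀ i, CommRing (G i)] [∀ i, Algebra R (G i)]
    (g : ∀ i j, i ≤ j → G i →+* G j) (hgR : ∀ i j (h : i ≤ j), (g i j h).comp (algebraMap R (G i)) = algebraMap R (G j))
    (R' : Type u) [CommRing R'] [Algebra R R'] [∀ i, Algebra (G i) R'] [∀ i, IsScalarTower R (G i) R']
    (hcolim : FlatCA.IsDirectedColimitRing G g R')
    (Il : ∀ i, Ideal (G i)) (hIl : ∀ i j (h : i ≤ j), (Il i).map (g i j h) ≤ Il j)
    {S' : Type u} [CommRing S'] [Algebra S S'] [Algebra R' S'] [Algebra R S'] [IsScalarTower R S S']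
    [IsScalarTower R R' S'] [Algebra.IsPushout R S R' S']
    {M' : Type u} [AddCommGroup M'] [Module S' M'] [Module R' M'] [IsScalarTower R' S' M'] [Module S M']
    [IsScalarTower S S' M'] (f : M →ₗ[S] M') (hf : IsBaseChange S' f)
    (J : Ideal S)
    (h : ∀ (q' : Ideal S') [q'.IsPrime],
      (⨆ i, (Il i).map (algebraMap (G i) R')).map (algebraMap R' S') ⊔ J.map (algebraMap S S') ≤ q' →
        FlatCA.FlatAt R' q' M') :
    ∃ i : ι, ∀ (Si Mi : Type u) [CommRing Si] [Algebra S Si] [Algebra (G i) Si] [Algebra R Si] [IsScalarTower R S Si]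
      [IsScalarTower R (G i) Si] [Algebra.IsPushout R S (G i) Si] [AddCommGroup Mi] [Module Si Mi] [Module (G i) Mi]
      [IsScalarTower (G i) Si Mi] [Module S Mi] [IsScalarTower S Si Mi] (fi : M →ₗ[S] Mi), IsBaseChange Si fi →
      ∀ (q : Ideal Si) [q.IsPrime], (Il i).map (algebraMap (G i) Si) ⊔ J.map (algebraMap S Si) ≤ q → FlatCA.FlatAt (G i) q Mi := by
  classical
  obtain ⟨S₀, _, _, _, _, W, hS₀, hW⟩ := hS
  haveI := hS₀
  haveI := hW
  letI : Module S₀ M := Module.compHom M (algebraMap S₀ S)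
  haveI : IsScalarTower S₀ S M := IsScalarTower.of_algebraMap_smul fun _ _ => rfl
  obtain ⟨M₀, _, _, hM₀, f₀, hf₀⟩ := FlatModel.exists_fp_model (S := S) W M
  haveI := hM₀
  haveI := hf₀
  letI : Module R M₀ := Module.compHom M₀ (algebraMap R S₀)
  haveI : IsScalarTower R S₀ M₀ := IsScalarTower.of_algebraMap_smul fun _ _ => rfl
  let gA : ∀ i j, i ≤ j → G i →ₐ[R] G j := fun i j h =>
    { g i j h with commutes' := fun r => RingHom.congr_fun (hgR i j h) r }
  have hdir := hcolim.1
  obtain ⟨i₁⟩ := hcolim.2.1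
  have hcomp := hcolim.2.2.2.1
  have halg := hcolim.2.2.2.2.1
  -- the stages
  let T : ι → Type u := fun i => G i ⊗[R] S₀
  let E : ι → Type u := fun i => G i ⊗[R] S
  let T' := R' ⊗[R] S₀
  let tT : ∀ i, T i →ₐ[R] T' := fun i =>
    Algebra.TensorProduct.map (IsScalarTower.toAlgHom R (G i) R') (AlgHom.id R S₀)
  let β : ∀ i, T i →ₐ[R] E i := fun i =>
    Algebra.TensorProduct.map (AlgHom.id R (G i)) (IsScalarTower.toAlgHom R S₀ S)
  let uT : ∀ i j, i ≤ j → T i →ₐ[R] T j := fun i j h => Algebra.TensorProduct.map (gA i j h) (AlgHom.id R S₀)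
  let uE : ∀ i j, i ≤ j → E i →ₐ[R] E j := fun i j h => Algebra.TensorProduct.map (gA i j h) (AlgHom.id R S)
  let φ : ∀ i, E i →ₐ[R] S' := fun i => Algebra.TensorProduct.lift
    ((IsScalarTower.toAlgHom R R' S').comp (IsScalarTower.toAlgHom R (G i) R'))
    (IsScalarTower.toAlgHom R S S') (fun _ _ => Commute.all _ _)
  let j' : T' →ₐ[R'] S' := Algebra.TensorProduct.lift (Algebra.ofId R' S')
    ((IsScalarTower.toAlgHom R S S').comp (IsScalarTower.toAlgHom R S₀ S)) (fun _ _ => Commute.all _ _)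
  have hφt : ∀ i (a : G i) (b : S), φ i (a ⊗ₜ b) = algebraMap R' S' (algebraMap (G i) R' a) * algebraMap S S' b :=
    fun i a b => Algebra.TensorProduct.lift_tmul ..
  have htT : ∀ i (a : G i) (b : S₀), tT i (a ⊗ₜ b) = algebraMap (G i) R' a ⊗ₜ b := fun i a b => rfl
  have huE : ∀ i j (h : i ≤ j) (a : G i) (b : S), uE i j h (a ⊗ₜ b) = gA i j h a ⊗ₜ b := fun i j h a b => rfl
  have hgood_mono : ∀ i j (h : i ≤ j) (t : T i), Good (G i) (T i ⊗[S₀] M₀) t → Good (G j) (T j ⊗[S₀] M₀) (uT i j h t) := by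
    intro i j h t ht
    letI : Algebra (G i) (G j) := (g i j h).toAlgebra
    haveI : IsScalarTower R (G i) (G j) := IsScalarTower.of_algebraMap_eq fun r => (RingHom.congr_fun (hgR i j h) r).symm
    letI : Algebra (T i) (T j) := (uT i j h).toRingHom.toAlgebra
    haveI : IsScalarTower (G i) (T i) (T j) := IsScalarTower.of_algebraMap_eq fun x => by
      show algebraMap (G j) (T j) (g i j h x) = uT i j h (x ⊗ₜ 1)
      simp [uT, gA, T]
    haveI : IsScalarTower S₀ (T i) (T j) := IsScalarTower.of_algebraMap_eq fun x => by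
      show (1 : G j) ⊗ₜ[R] x = uT i j h ((1 : G i) ⊗ₜ x)
      simp [uT, gA, T]
    haveI : IsScalarTower R (T i) (T j) := IsScalarTower.of_algebraMap_eq fun x => ((uT i j h).commutes x).symm
    haveI : Algebra.IsPushout R (G i) S₀ (T i) := inferInstance
    haveI : Algebra.IsPushout (G i) (G j) (T i) (T j) :=
      (Algebra.IsPushout.comp_iff (R := R) (S := G i) (R' := S₀) (S' := T i) (T := G j) (T' := T j)).1 inferInstance
    exact (ht.baseChange (A' := G j) (T' := T j)).congr (AlgebraTensorModule.cancelBaseChange S₀ (T i) (T j) (T j) M₀)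
  have hgood_stage : ∀ i (t : T i), Good R' (T' ⊗[S₀] M₀) (tT i t) →
      ∃ k, ∃ h : i ≤ k, Good (G k) (T k ⊗[S₀] M₀) (uT i k h t) := by
    intro i t ht
    let ι' := {k : ι // i ≤ k}
    letI : ∀ k : ι', Algebra (G i) (G k.1) := fun k => (g i k.1 k.2).toAlgebra
    haveI : ∀ k : ι', IsScalarTower (G i) (G k.1) R' := fun k =>
      IsScalarTower.of_algebraMap_eq fun x => (RingHom.congr_fun (halg i k.1 k.2) x).symm
    let g' : ∀ a b : ι', a ≤ b → G a.1 →ₐ[G i] G b.1 := fun a b h =>
      { g a.1 b.1 h with commutes' := fun x => RingHom.congr_fun (hcomp i a.1 b.1 a.2 h) x }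
    have hcolim' : FlatCA.IsDirectedColimitRing (fun k : ι' => G k.1) (fun a b h => (g' a b h).toRingHom) R' := by
      obtain ⟨hdir, -, hid, hcomp, halg, hsurj, hinj⟩ := hcolim
      refine ⟨⟨fun a b => ?_⟩, ⟨⟨i, le_rfl⟩⟩, fun a => hid a.1, fun a b c hab hbc => hcomp a.1 b.1 c.1 hab hbc,
        fun a b h => halg a.1 b.1 h, fun z => ?_, fun a x hx => ?_⟩
      · obtain ⟨k, hak, hbk⟩ := hdir.directed a.1 b.1
        exact ⟨⟨k, a.2.trans hak⟩, hak, hbk⟩
      · obtain ⟨j, x, rfl⟩ := hsurj z
        obtain ⟨k, hik, hjk⟩ := hdir.directed i j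
        exact ⟨⟨k, hik⟩, g j k hjk x, RingHom.congr_fun (halg j k hjk) x⟩
      · obtain ⟨k, hak, hk⟩ := hinj a.1 x hx
        exact ⟨⟨k, a.2.trans hak⟩, hak, hk⟩
    letI : Algebra (T i) T' := (tT i).toRingHom.toAlgebra
    haveI : IsScalarTower (G i) (T i) T' := IsScalarTower.of_algebraMap_eq fun x => by
      show algebraMap R' T' (algebraMap (G i) R' x) = tT i (x ⊗ₜ 1)
      simp [tT, T', T]
    haveI : IsScalarTower S₀ (T i) T' := IsScalarTower.of_algebraMap_eq fun x => by
      show (1 : R') ⊗ₜ[R] x = tT i ((1 : G i) ⊗ₜ x)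
      simp [tT, T', T]
    haveI : IsScalarTower R (T i) T' := IsScalarTower.of_algebraMap_eq fun x => ((tT i).commutes x).symm
    haveI : Algebra.IsPushout R (G i) S₀ (T i) := inferInstance
    haveI : Algebra.IsPushout (G i) R' (T i) T' :=
      (Algebra.IsPushout.comp_iff (R := R) (S := G i) (R' := S₀) (S' := T i) (T := R') (T' := T')).1 inferInstance
    have ht' : Good R' (T' ⊗[T i] (T i ⊗[S₀] M₀)) (algebraMap (T i) T' t) :=
      ht.congr (AlgebraTensorModule.cancelBaseChange S₀ (T i) T' T' M₀).symm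
    obtain ⟨⟨k, hik⟩, hk⟩ := exists_stage_good (R := G i) (S₀ := T i) (T i ⊗[S₀] M₀)
      (fun k : ι' => G k.1) g' R' hcolim' t ht'
    refine ⟨k, hik, ?_⟩
    letI : Algebra (T i) (T k) := (uT i k hik).toRingHom.toAlgebra
    letI : Algebra (G i) (G k) := (g i k hik).toAlgebra
    haveI : IsScalarTower R (G i) (G k) := IsScalarTower.of_algebraMap_eq fun r => (RingHom.congr_fun (hgR i k hik) r).symm
    haveI : IsScalarTower (G i) (T i) (T k) := IsScalarTower.of_algebraMap_eq fun x => by
      show algebraMap (G k) (T k) (g i k hik x) = uT i k hik (x ⊗ₜ 1)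
      simp [uT, gA, T]
    haveI : IsScalarTower S₀ (T i) (T k) := IsScalarTower.of_algebraMap_eq fun x => by
      show (1 : G k) ⊗ₜ[R] x = uT i k hik ((1 : G i) ⊗ₜ x)
      simp [uT, gA, T]
    haveI : IsScalarTower R (T i) (T k) := IsScalarTower.of_algebraMap_eq fun x => ((uT i k hik).commutes x).symm
    haveI : Algebra.IsPushout (G i) (G k) (T i) (T k) :=
      (Algebra.IsPushout.comp_iff (R := R) (S := G i) (R' := S₀) (S' := T i) (T := G k) (T' := T k)).1 inferInstance
    exact (hk (T k)).congr (AlgebraTensorModule.cancelBaseChange S₀ (T i) (T k) (T k) M₀)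
  -- the ideals at the stages
  let K : ∀ i, Ideal (E i) := fun i => (Il i).map (algebraMap (G i) (E i)) ⊔ J.map (algebraMap S (E i)) ⊔
    Ideal.span (β i '' {t | Good (G i) (T i ⊗[S₀] M₀) t})
  have hK_mono : ∀ i j (h : i ≤ j), (K i).map (uE i j h).toRingHom ≤ K j := by
    intro i j h
    rw [Ideal.map_le_iff_le_comap]
    refine sup_le (sup_le ?_ ?_) (Ideal.span_le.2 ?_)
    · rw [Ideal.map_le_iff_le_comap]
      intro x hx
      show gA i j h x ⊗ₜ[R] (1 : S) ∈ K j
      exact Ideal.mem_sup_left (Ideal.mem_sup_left (Ideal.mem_map_of_mem (algebraMap (G j) (E j))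
        (hIl i j h (Ideal.mem_map_of_mem (g i j h) hx))))
    · rw [Ideal.map_le_iff_le_comap]
      intro x hx
      show gA i j h 1 ⊗ₜ[R] x ∈ K j
      rw [map_one]
      exact Ideal.mem_sup_left (Ideal.mem_sup_right (Ideal.mem_map_of_mem (algebraMap S (E j)) hx))
    · rintro _ ⟨t, ht, rfl⟩
      refine Ideal.mem_sup_right (Ideal.subset_span ⟨uT i j h t, hgood_mono i j h t ht, ?_⟩)
      show (β j).comp (uT i j h) t = (uE i j h).comp (β i) t
      congr 1
      ext <;> simp [β, uT, uE, T, E]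
  have hφu : ∀ i j (h : i ≤ j) (y : E i), φ j (uE i j h y) = φ i y := by
    intro i j h y
    show (φ j).comp (uE i j h) y = φ i y
    congr 1
    ext x
    · simp [φ, uE, gA, E, ← RingHom.congr_fun (halg i j h) x]
    · simp [φ, uE, E]
  haveI : Algebra.IsPushout R R' S S' := Algebra.IsPushout.symm inferInstance
  let e : R' ⊗[R] S ≃ₐ[R] S' := AlgEquiv.ofBijective
    (Algebra.TensorProduct.lift (IsScalarTower.toAlgHom R R' S') (IsScalarTower.toAlgHom R S S') (fun _ _ => Commute.all _ _))
    (by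
      have heq : ⇑(Algebra.TensorProduct.lift (IsScalarTower.toAlgHom R R' S') (IsScalarTower.toAlgHom R S S')
          (fun _ _ => Commute.all _ _)) = ⇑(Algebra.IsPushout.equiv R R' S S') := by
        funext z
        induction z using TensorProduct.induction_on with
        | zero => simp
        | tmul a b => simp [Algebra.IsPushout.equiv_tmul]
        | add x y hx hy => rw [map_add, map_add, hx, hy]
      rw [heq]
      exact (Algebra.IsPushout.equiv R R' S S').bijective)
  have hφe : ∀ i (y : E i), φ i y = e ((IsScalarTower.toAlgHom R (G i) R').toLinearMap.rTensor S y) := by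
    intro i y
    induction y using TensorProduct.induction_on with
    | zero => simp
    | tmul a b => rw [hφt]; exact (Algebra.TensorProduct.lift_tmul (IsScalarTower.toAlgHom R R' S') (IsScalarTower.toAlgHom R S S') (fun _ _ => Commute.all _ _) (algebraMap (G i) R' a) b).symm
    | add x y hx hy => simp only [map_add, hx, hy]
  let U : Ideal S' :=
    { carrier := {x | ∃ i, ∃ y ∈ K i, φ i y = x}
      zero_mem' := ⟨i₁, 0, zero_mem _, map_zero _⟩
      add_mem' := by
        rintro _ _ ⟨i, y, hy, rfl⟩ ⟨j, z, hz, rfl⟩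
        obtain ⟨k, hik, hjk⟩ := hdir.directed i j
        refine ⟨k, uE i k hik y + uE j k hjk z,
          add_mem (hK_mono i k hik (Ideal.mem_map_of_mem _ hy)) (hK_mono j k hjk (Ideal.mem_map_of_mem _ hz)), ?_⟩
        rw [map_add, hφu, hφu]
      smul_mem' := by
        rintro c _ ⟨i, y, hy, rfl⟩
        obtain ⟨j, z, hz⟩ := exists_tensor_stage gA hcolim S (e.symm c)
        obtain ⟨k, hik, hjk⟩ := hdir.directed i j
        refine ⟨k, uE j k hjk z * uE i k hik y, Ideal.mul_mem_left _ _ (hK_mono i k hik (Ideal.mem_map_of_mem _ hy)), ?_⟩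
        rw [map_mul, hφu, hφu, smul_eq_mul, hφe j z, hz, e.apply_symm_apply] }
  have hU : U = ⊤ := by
    by_contra hne
    obtain ⟨q', hq', hle⟩ := Ideal.exists_le_maximal U hne
    have hV : (⨆ i, (Il i).map (algebraMap (G i) R')).map (algebraMap R' S') ⊔ J.map (algebraMap S S') ≤ q' := by
      refine sup_le ?_ ?_
      · rw [Ideal.map_le_iff_le_comap]
        refine iSup_le fun i => ?_
        rw [Ideal.map_le_iff_le_comap]
        intro x hx
        refine hle ⟨i, algebraMap (G i) (E i) x, Ideal.mem_sup_left (Ideal.mem_sup_left (Ideal.mem_map_of_mem _ hx)), ?_⟩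
        simp [φ, E]
      · rw [Ideal.map_le_iff_le_comap]
        intro x hx
        refine hle ⟨i₁, algebraMap S (E i₁) x, Ideal.mem_sup_left (Ideal.mem_sup_right (Ideal.mem_map_of_mem _ hx)), ?_⟩
        show φ i₁ ((1 : G i₁) ⊗ₜ x) = algebraMap S S' x
        rw [hφt, map_one, map_one, one_mul]
    letI : Algebra T' S' := j'.toRingHom.toAlgebra
    haveI : IsScalarTower R' T' S' := IsScalarTower.of_algebraMap_eq fun x => (j'.commutes x).symm
    letI : Algebra S₀ S' := ((algebraMap S S').comp (algebraMap S₀ S)).toAlgebra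
    haveI : IsScalarTower S₀ S S' := IsScalarTower.of_algebraMap_eq fun _ => rfl
    haveI : IsScalarTower S₀ T' S' := IsScalarTower.of_algebraMap_eq fun x => by
      show algebraMap S S' (algebraMap S₀ S x) = j' ((1 : R') ⊗ₜ x)
      simp [j', T']
    let N' := T' ⊗[S₀] M₀
    have hflat : FlatCA.FlatAt R' (q'.comap (algebraMap T' S')) N' :=
      (flatAt_iff_of_localization R W f₀ f hf q').1 (h q' hV)
    haveI : Algebra.FinitePresentation R' T' := inferInstance
    haveI : Module.FinitePresentation T' N' := inferInstance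
    obtain ⟨t, ht, hall⟩ := FlatModel.exists_flat_nhd N' (q'.comap (algebraMap T' S')) hflat
    have hgood : Good R' N' t := fun q _ hq => hall q.primeCompl hq
    obtain ⟨i, t₀, ht₀⟩ := exists_tensor_stage gA hcolim S₀ t
    have ht₀' : tT i t₀ = t := by
      rw [← ht₀]
      clear ht₀
      induction t₀ using TensorProduct.induction_on with
      | zero => simp
      | tmul a b => exact htT i a b
      | add x y hx hy => simp only [map_add, hx, hy]
    obtain ⟨k, hik, hk⟩ := hgood_stage i t₀ (ht₀'.symm ▸ hgood)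
    refine ht ?_
    have hmem : φ k (β k (uT i k hik t₀)) ∈ q' := hle ⟨k, _, Ideal.mem_sup_right (Ideal.subset_span ⟨_, hk, rfl⟩), rfl⟩
    show j' t ∈ q'
    convert hmem using 1
    rw [← ht₀']
    show ((j'.restrictScalars R).comp (tT i)) t₀ = ((φ k).comp ((β k).comp (uT i k hik))) t₀
    congr 1
    ext x
    · simp [j', tT, φ, β, uT, gA, T, T', E, ← RingHom.congr_fun (halg i k hik) x]
    · simp [j', tT, φ, β, uT, T, T', E]
  obtain ⟨i, y, hy, hy1⟩ : (1 : S') ∈ U := hU ▸ Submodule.mem_top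
  obtain ⟨k, hik, hk⟩ := exists_tensor_zero gA hcolim S (y - 1) (by
    apply e.injective
    rw [← hφe, map_sub, hy1, map_one, sub_self, map_zero])
  have hK1 : (1 : E k) ∈ K k := by
    have h0 : uE i k hik (y - 1) = 0 := by
      rw [← hk]
      generalize y - 1 = z
      induction z using TensorProduct.induction_on with
      | zero => simp
      | tmul a b => exact huE i k hik a b
      | add x y hx hy => simp only [map_add, hx, hy]
    rw [map_sub, map_one, sub_eq_zero] at h0
    exact h0 ▸ hK_mono i k hik (Ideal.mem_map_of_mem _ hy)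
  refine ⟨k, fun Si Mi _ _ _ _ _ _ _ _ _ _ _ _ _ fi hfi q _ hq => ?_⟩
  let ψ : E k →ₐ[R] Si := Algebra.TensorProduct.lift (IsScalarTower.toAlgHom R (G k) Si)
    (IsScalarTower.toAlgHom R S Si) (fun _ _ => Commute.all _ _)
  obtain ⟨t, ht, htq⟩ : ∃ t, Good (G k) (T k ⊗[S₀] M₀) t ∧ ψ (β k t) ∉ q := by
    by_contra hcon
    push Not at hcon
    have : K k ≤ q.comap ψ.toRingHom := by
      refine sup_le (sup_le ?_ ?_) (Ideal.span_le.2 ?_)
      · rw [Ideal.map_le_iff_le_comap]
        intro x hx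
        show ψ (x ⊗ₜ 1) ∈ q
        erw [Algebra.TensorProduct.lift_tmul]; simpa using hq (Ideal.mem_sup_left (Ideal.mem_map_of_mem _ hx))
      · rw [Ideal.map_le_iff_le_comap]
        intro x hx
        show ψ ((1 : G k) ⊗ₜ x) ∈ q
        erw [Algebra.TensorProduct.lift_tmul]; simpa using hq (Ideal.mem_sup_right (Ideal.mem_map_of_mem _ hx))
      · rintro _ ⟨t, ht, rfl⟩
        exact hcon t ht
    exact Ideal.IsPrime.ne_top ‹q.IsPrime› (q.eq_top_of_isUnit_mem (x := ψ 1) (this hK1) (by rw [map_one]; exact isUnit_one))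
  letI : Algebra (T k) Si := (ψ.comp (β k)).toRingHom.toAlgebra
  haveI : IsScalarTower (G k) (T k) Si := IsScalarTower.of_algebraMap_eq fun x => by
    show algebraMap (G k) Si x = ψ (β k (x ⊗ₜ 1))
    simp [ψ, β, T, E]
  letI : Algebra S₀ Si := ((algebraMap S Si).comp (algebraMap S₀ S)).toAlgebra
  haveI : IsScalarTower S₀ S Si := IsScalarTower.of_algebraMap_eq fun _ => rfl
  haveI : IsScalarTower S₀ (T k) Si := IsScalarTower.of_algebraMap_eq fun x => by
    show algebraMap S Si (algebraMap S₀ S x) = ψ (β k ((1 : G k) ⊗ₜ x))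
    simp [ψ, β, T, E]
  exact (flatAt_iff_of_localization R W f₀ fi hfi q).2 (ht _ htq)

end Groth.Agent.S6928
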