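import Groth.Statements.S6927
import Groth.Agent.FlatModel.FlattenUniv
import Groth.Agent.S6928

set_option autoImplicit false
universe u
open TensorProduct
open FlatMor

set_option backward.isDefEq.respectTransparency false
set_option maxHeartbeats 2000000
set_option synthInstance.maxHeartbeats 400000
set_option linter.style.haveILetI false

namespace Groth.Agent.S6927

attribute [local instance] Algebra.TensorProduct.rightAlgebra

/-- Flatness at a prime along a change of base rings. -/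
theorem flatAt_step {R S M : Type u} [CommRing R] [CommRing S] [Algebra R S] [AddCommGroup M] [Module S M]
    (P R₁ : Type u) [CommRing P] [CommRing R₁] [Algebra R P] [Algebra R R₁] [Algebra P R₁] [IsScalarTower R P R₁]
    (q₁ : Ideal (R₁ ⊗[R] S)) [q₁.IsPrime]
    (h : ∀ (q : Ideal (P ⊗[R] S)) [q.IsPrime],
      (∀ x : P, algebraMap P R₁ x ∈ q₁.comap (algebraMap R₁ (R₁ ⊗[R] S)) → algebraMap P (P ⊗[R] S) x ∈ q) →
      FlatCA.FlatAt P q ((P ⊗[R] S) ⊗[S] M)) :
    FlatCA.FlatAt R₁ q₁ ((R₁ ⊗[R] S) ⊗[S] M) := by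
  let u : P ⊗[R] S →ₐ[R] R₁ ⊗[R] S := Algebra.TensorProduct.map (IsScalarTower.toAlgHom R P R₁) (AlgHom.id R S)
  letI : Algebra (P ⊗[R] S) (R₁ ⊗[R] S) := u.toRingHom.toAlgebra
  haveI : IsScalarTower P (P ⊗[R] S) (R₁ ⊗[R] S) := IsScalarTower.of_algebraMap_eq fun x => by
    show algebraMap R₁ (R₁ ⊗[R] S) (algebraMap P R₁ x) = u (x ⊗ₜ 1)
    simp [u]
  haveI : IsScalarTower S (P ⊗[R] S) (R₁ ⊗[R] S) := IsScalarTower.of_algebraMap_eq fun x => by
    show (1 : R₁) ⊗ₜ[R] x = u ((1 : P) ⊗ₜ x)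
    simp [u]
  haveI : IsScalarTower R (P ⊗[R] S) (R₁ ⊗[R] S) := IsScalarTower.of_algebraMap_eq fun x => (u.commutes x).symm
  haveI : Algebra.IsPushout R P S (P ⊗[R] S) := inferInstance
  haveI : Algebra.IsPushout P R₁ (P ⊗[R] S) (R₁ ⊗[R] S) :=
    (Algebra.IsPushout.comp_iff (R := R) (S := P) (R' := S) (S' := P ⊗[R] S) (T := R₁) (T' := R₁ ⊗[R] S)).1 inferInstance
  refine RG.flatAt_congr q₁ (AlgebraTensorModule.cancelBaseChange S (P ⊗[R] S) (R₁ ⊗[R] S) (R₁ ⊗[R] S) M)
    (FlatSpread.flatAt_baseChange (A := P) (A' := R₁) (T := P ⊗[R] S) (T' := R₁ ⊗[R] S) q₁ ?_)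
  refine h _ fun x hx => ?_
  rw [Ideal.mem_comap, ← IsScalarTower.algebraMap_apply P (P ⊗[R] S) (R₁ ⊗[R] S),
    IsScalarTower.algebraMap_apply P R₁ (R₁ ⊗[R] S)]
  exact hx

/-- The Noetherian case for the tensor product. -/
theorem le_ker_of_flatAt {R S M : Type u} [CommRing R] [IsLocalRing R] [IsNoetherianRing R]
    [IsAdicComplete (IsLocalRing.maximalIdeal R) R] [CommRing S] [Algebra R S] [IsNoetherianRing S]
    [AddCommGroup M] [Module S M] [Module R M] [IsScalarTower R S M] [Module.Finite S M]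
    (R₁ : Type u) [CommRing R₁] [IsLocalRing R₁] [IsNoetherianRing R₁] [Algebra R R₁] [IsLocalHom (algebraMap R R₁)]
    (I : Ideal R) (hIm : I ≤ IsLocalRing.maximalIdeal R)
    (hI : ∀ (q : Ideal S) [q.IsPrime], q.comap (algebraMap R S) = IsLocalRing.maximalIdeal R →
      Module.Flat (R ⧸ I) ((R ⧸ I) ⊗[R] LocalizedModule q.primeCompl M))
    (hmin : ∀ J : Ideal R, (∀ (q : Ideal S) [q.IsPrime], q.comap (algebraMap R S) = IsLocalRing.maximalIdeal R →
      Module.Flat (R ⧸ J) ((R ⧸ J) ⊗[R] LocalizedModule q.primeCompl M)) → I ≤ J)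
    (h : ∀ (q : Ideal (R₁ ⊗[R] S)) [q.IsPrime], q.comap (algebraMap R₁ (R₁ ⊗[R] S)) = IsLocalRing.maximalIdeal R₁ →
      FlatCA.FlatAt R₁ q ((R₁ ⊗[R] S) ⊗[S] M)) :
    I ≤ RingHom.ker (algebraMap R R₁) := by
  haveI : Algebra.IsPushout R R₁ S (R₁ ⊗[R] S) := inferInstance
  intro x hx
  have hn := FlattenUniv.map_le_pow_of_flatAt (S' := R₁ ⊗[R] S) I hmin h
  rw [RingHom.mem_ker, ← Submodule.mem_bot R₁,
    ← Ideal.iInf_pow_eq_bot_of_isLocalRing (IsLocalRing.maximalIdeal R₁) (IsLocalRing.maximalIdeal.isMaximal R₁).ne_top,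
    Submodule.mem_iInf]
  intro n
  exact Ideal.pow_le_pow_right n.le_succ (hn n (Ideal.mem_map_of_mem _ hx))

/-- Let `(R, 𝔪)` be a complete Noetherian local ring, `R → S` of finite type, `M` a finite `S`-module,
and `I ⊆ 𝔪` the least ideal for which, at every prime `𝔮` of `S` lying over `𝔪`, the localization
`(M/IM)_𝔮` is an `R/I`-flat module. Then for every local homomorphism `φ : R → R'` of local rings
(`R'` arbitrary), with `S' = S ⊗_R R'` and `M' = M ⊗_R R'`: `M'_{𝔮'}` is flat over `R'` for every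
prime `𝔮'` of `S'` over `𝔪'` if and only if `φ(I) = 0`. -/
theorem result {R S R' S' : Type u} [CommRing R] [IsLocalRing R]
    [IsNoetherianRing R] [IsAdicComplete (IsLocalRing.maximalIdeal R) R] [CommRing S]
    [CommRing R'] [IsLocalRing R'] [CommRing S']
    [Algebra R S] [Algebra.FiniteType R S] [Algebra R R'] [IsLocalHom (algebraMap R R')] [Algebra S S'] [Algebra R' S']
    [Algebra R S'] [IsScalarTower R S S'] [IsScalarTower R R' S'] [Algebra.IsPushout R S R' S']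
    {M M' : Type u} [AddCommGroup M] [Module S M] [Module R M] [IsScalarTower R S M] [Module.Finite S M]
    [AddCommGroup M'] [Module S' M'] [Module R' M'] [IsScalarTower R' S' M'] [Module S M'] [IsScalarTower S S' M']
    (f : M →ₗ[S] M') (hf : IsBaseChange S' f) (I : Ideal R) (hIm : I ≤ IsLocalRing.maximalIdeal R)
    (hI : (∀ (q : Ideal S) [q.IsPrime], q.comap (algebraMap R S) = IsLocalRing.maximalIdeal R →
        Module.Flat (R ⧸ I) ((R ⧸ I) ⊗[R] LocalizedModule q.primeCompl M)))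
    (hmin : ∀ J : Ideal R, (∀ (q : Ideal S) [q.IsPrime], q.comap (algebraMap R S) = IsLocalRing.maximalIdeal R →
        Module.Flat (R ⧸ J) ((R ⧸ J) ⊗[R] LocalizedModule q.primeCompl M)) → I ≤ J) :
    (∀ (q' : Ideal S') [q'.IsPrime], q'.comap (algebraMap R' S') = IsLocalRing.maximalIdeal R' → FlatCA.FlatAt R' q' M') ↔
      I ≤ RingHom.ker (algebraMap R R') := by
  classical
  haveI : IsNoetherianRing S := Algebra.FiniteType.isNoetherianRing R S
  haveI : Algebra.IsPushout R R' S S' := Algebra.IsPushout.symm inferInstance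
  refine ⟨fun h => ?_, fun hker q' _ hq' =>
    RG.flatAt_congr q' hf.equiv (FlattenUniv.flatAt_of_le_ker I hker hI q' hq')⟩
  haveI : Algebra.FinitePresentation R S := (Algebra.FinitePresentation.of_finiteType).1 inferInstance
  haveI : Module.FinitePresentation S M := Module.finitePresentation_of_finite S M
  have hS : FlatCA.EssFinitePresentation R S := ⟨S, inferInstance, inferInstance, inferInstance, inferInstance, ⊥,
    inferInstance, IsLocalization.of_le_isUnit_of_bijective (by simp [Algebra.algebraMapSubmonoid]) Function.bijective_id⟩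
  let ι := {P : Subalgebra R R' // P.FG}
  let g : ∀ P Q : ι, P ≤ Q → ↥P.1 →+* ↥Q.1 := fun P Q h => (Subalgebra.inclusion h).toRingHom
  have hcolim : FlatCA.IsDirectedColimitRing (fun P : ι => ↥P.1) g R' := by
    refine ⟨⟨fun P Q => ⟨⟨P.1 ⊔ Q.1, P.2.sup Q.2⟩, (le_sup_left : P.1 ≤ P.1 ⊔ Q.1), (le_sup_right : Q.1 ≤ P.1 ⊔ Q.1)⟩⟩, ⟨⟨⊥, Subalgebra.fg_bot⟩⟩,
      fun P => RingHom.ext fun x => rfl, fun P Q T hPQ hQT => RingHom.ext fun x => rfl,
      fun P Q h => RingHom.ext fun x => rfl, fun z => ?_, fun P x hx => ⟨P, le_rfl, Subtype.ext hx⟩⟩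
    exact ⟨⟨Algebra.adjoin R {z}, ⟨{z}, by rw [Finset.coe_singleton]⟩⟩,
      ⟨z, Algebra.subset_adjoin rfl⟩, rfl⟩
  let Il : ∀ P : ι, Ideal ↥P.1 := fun P => (IsLocalRing.maximalIdeal R').comap (algebraMap ↥P.1 R')
  obtain ⟨P, hP⟩ := S6928.result hS (fun P : ι => ↥P.1) g (fun P Q h => RingHom.ext fun x => rfl) R' hcolim Il
    (fun P Q h => Ideal.map_le_iff_le_comap.2 fun x hx => hx) f hf ⊥ (fun q' _ hq' => h q' (by
      refine ((IsLocalRing.maximalIdeal.isMaximal R').eq_of_le (Ideal.IsPrime.ne_top inferInstance) fun x hx => ?_).symm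
      refine hq' (Ideal.mem_sup_left (Ideal.mem_map_of_mem _ ?_))
      exact Ideal.mem_iSup_of_mem (⟨Algebra.adjoin R {x}, ⟨{x}, by rw [Finset.coe_singleton]⟩⟩ : ι)
        (Ideal.mem_map_of_mem (algebraMap ↥(Algebra.adjoin R {x}) R')
          (show (⟨x, Algebra.subset_adjoin rfl⟩ : ↥(Algebra.adjoin R {x})) ∈ Il ⟨_, _⟩ from hx))))
  let p := Il P
  haveI : Algebra.FiniteType R ↥P.1 := (Subalgebra.fg_iff_finiteType P.1).1 P.2
  haveI : IsNoetherianRing ↥P.1 := Algebra.FiniteType.isNoetherianRing R _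
  let R₁ := Localization.AtPrime p
  haveI : IsLocalHom (algebraMap R R₁) := by
    refine ⟨fun r hr => ?_⟩
    rw [IsScalarTower.algebraMap_apply R ↥P.1 R₁, IsLocalization.AtPrime.isUnit_to_map_iff R₁ p] at hr
    by_contra hu
    exact hr (map_nonunit (algebraMap R R') r hu)
  have hI₁ := le_ker_of_flatAt (M := M) R₁ I hIm hI hmin fun q₁ _ hq₁ => by
      refine flatAt_step (M := M) ↥P.1 R₁ q₁ fun q _ hqp => ?_
      haveI : Algebra.IsPushout R S ↥P.1 (↥P.1 ⊗[R] S) := Algebra.IsPushout.symm inferInstance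
      have h1 := hP (↥P.1 ⊗[R] S) ((↥P.1 ⊗[R] S) ⊗[S] M) (TensorProduct.mk S (↥P.1 ⊗[R] S) M 1)
        (TensorProduct.isBaseChange S M (↥P.1 ⊗[R] S))
      refine h1 q ?_
      rw [Ideal.map_bot, sup_bot_eq, Ideal.map_le_iff_le_comap]
      intro x hx
      refine hqp x ?_
      rw [hq₁]
      exact (IsLocalization.AtPrime.to_map_mem_maximal_iff R₁ p x).2 hx
  intro x hx
  have hx0 : algebraMap R R₁ x = 0 := hI₁ hx
  rw [IsScalarTower.algebraMap_apply R ↥P.1 R₁, IsLocalization.map_eq_zero_iff p.primeCompl R₁] at hx0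
  obtain ⟨⟨s, hs⟩, hsx⟩ := hx0
  have hu : IsUnit (s : R') := by
    by_contra hu
    exact hs hu
  rw [RingHom.mem_ker]
  refine hu.mul_right_eq_zero.1 ?_
  exact congrArg Subtype.val hsx

end Groth.Agent.S6927
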