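import Groth.Statements.S6929
import Groth.Agent.FibreProd7.FiniteType
-- import your own Groth.Agent.* helpers here

set_option autoImplicit false
universe u
open EtAlg

namespace Groth.Agent.S6929

/-- Let `R` be a Noetherian ring, `ι` a finite index type, and `φ_i : A_i → B_i`, `ψ_i : Q → B_i`
surjective `R`-algebra maps, where `Q` and all `A_i`, `B_i` are `R`-algebras of finite type. Then
the fibre product ring `P = Q ×_{∏ B_i} ∏ A_i` (pairs `(q, a)` with `ψ_i(q) = φ_i(a_i)` for all `i`)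
is an `R`-algebra of finite type. -/
theorem result (R : Type u) [CommRing R] [IsNoetherianRing R] {ι : Type u} [Fintype ι]
    (Q : Type u) [CommRing Q] [Algebra R Q] [Algebra.FiniteType R Q] (A B : ι → Type u) [∀ i, CommRing (A i)]
    [∀ i, CommRing (B i)] [∀ i, Algebra R (A i)] [∀ i, Algebra R (B i)] (hA : ∀ i, Algebra.FiniteType R (A i))
    (hB : ∀ i, Algebra.FiniteType R (B i)) (φ : ∀ i, A i →ₐ[R] B i) (ψ : ∀ i, Q →ₐ[R] B i)
    (hφ : ∀ i, Function.Surjective (φ i)) (hψ : ∀ i, Function.Surjective (ψ i)) :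
    Algebra.FiniteType R ↥(AlgHom.equalizer ((AlgHom.pi ψ).comp (AlgHom.fst R Q (∀ i, A i)))
      ((AlgHom.pi fun i => (φ i).comp (Pi.evalAlgHom R A i)).comp (AlgHom.snd R Q (∀ i, A i)))) := by
  exact Groth.Agent.FibreProd7.finiteType R Q A B hA φ ψ hφ hψ

end Groth.Agent.S6929
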