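import Groth.Statements.S6932
import Mathlib
import Groth.Agent.FlatValCrit.LocFP

set_option autoImplicit false
universe u
open CAlg

namespace Groth.Agent.S6932

/-- Let `R → S` be a ring map of finite type with `S` flat over `R`, such that `R → ∏_j R_{𝔭_j}` is
injective for some finite set of primes `𝔭_j` and each localization `S_𝔭` (at a prime `𝔭` of `R`) is
a finitely presented `R_𝔭`-algebra. Then `S` is a finitely presented `R`-algebra. -/
theorem result {R S : Type u} [CommRing R] [CommRing S]
    [Algebra R S] [Algebra.FiniteType R S] [Module.Flat R S] (s : Finset (PrimeSpectrum R))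
    (hs : Function.Injective fun r : R => fun p : s => algebraMap R (Localization.AtPrime p.1.asIdeal) r)
    (hloc : ∀ (p : Ideal R) [p.IsPrime],
      Algebra.FinitePresentation (Localization.AtPrime p) (Localization (Algebra.algebraMapSubmonoid S p.primeCompl))) :
    Algebra.FinitePresentation R S := by
  classical
  obtain ⟨n, φ, hφ⟩ := Algebra.FiniteType.iff_quotient_mvPolynomial''.1 ‹Algebra.FiniteType R S›
  let P := MvPolynomial (Fin n) R
  let K : Submodule P P := RingHom.ker φ
  have : Module.Flat R (P ⧸ K) :=
    Module.Flat.of_linearEquiv (Ideal.quotientKerAlgEquivOfSurjective hφ).toLinearEquiv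
  refine Algebra.FinitePresentation.of_surjective hφ
    (Groth.Agent.FlatValCrit.fg_of_flat_of_locally_fg (R := R) K s hs fun p hp => ?_)
  let Rp := Localization.AtPrime p
  let Pp := MvPolynomial (Fin n) Rp
  let Sp := Localization (Algebra.algebraMapSubmonoid S p.primeCompl)
  let : Algebra P Pp := MvPolynomial.algebraMvPolynomial
  have : IsScalarTower R P Pp := IsScalarTower.of_algebraMap_eq fun r => by
    show MvPolynomial.C (algebraMap R Rp r) = MvPolynomial.map (algebraMap R Rp) (MvPolynomial.C r)
    rw [MvPolynomial.map_C]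
  have : IsLocalization (Algebra.algebraMapSubmonoid P p.primeCompl) Pp :=
    MvPolynomial.isLocalization p.primeCompl Rp
  let ψ : Pp →ₐ[Rp] Sp := IsLocalization.mapₐ p.primeCompl Rp Pp Sp φ
  have := hloc p
  have hfg : (K.localized' Pp (Algebra.algebraMapSubmonoid P p.primeCompl) (Algebra.linearMap P Pp)).FG := by
    rw [Submodule.localized'_eq_span]
    have h := Algebra.FinitePresentation.ker_fG_of_surjective ψ (IsLocalization.mapₐ_surjective_of_surjective p.primeCompl Rp Pp Sp φ hφ)
    have hk : RingHom.ker ψ.toRingHom = (RingHom.ker φ).map (algebraMap P Pp) :=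
      IsLocalization.ker_map (T := Algebra.algebraMapSubmonoid S p.primeCompl) Sp φ.toRingHom
        (Algebra.algebraMapSubmonoid_map_eq _ φ)
    rw [hk] at h
    exact h
  obtain ⟨G, hG, hG'⟩ := Groth.Agent.FlatValCrit.exists_gens_of_fg_localized Pp (Algebra.algebraMapSubmonoid P p.primeCompl)
    (Algebra.linearMap P Pp) K hfg
  refine ⟨G, hG, fun w hw => ?_⟩
  obtain ⟨_, ⟨r, hr, rfl⟩, hrw⟩ := hG' w hw
  exact ⟨r, hr, by rwa [algebraMap_smul] at hrw⟩

end Groth.Agent.S6932
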