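import Groth.Statements.S6933
import Groth.Agent.LC.InjNoeth

set_option autoImplicit false
universe u
open CategoryTheory
open InjHull

namespace Groth.Agent.S6933

/-- An abelian group `J` that is injective as an object of the category of abelian groups is divisible:
`n J = J` for every nonzero integer `n`. (The published statement is an equivalence; this row states
the implication from injective to divisible.) -/
theorem result (J : Type u) [AddCommGroup J] (hJ : Injective (AddCommGrpCat.of J))
    (n : ℤ) (hn : n ≠ 0) (x : J) : ∃ y : J, n • y = x := by
  haveI := (AddCommGrpCat.injective_as_module_iff J).2 hJ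
  haveI : Module.Injective ℤ J := Module.injective_module_of_injective_object ℤ J
  let f : ULift.{u} ℤ →ₗ[ℤ] ULift.{u} ℤ := n • LinearMap.id
  obtain ⟨g, hg⟩ := Module.Injective.out f
    (fun a b h => ULift.ext _ _ (mul_left_cancel₀ hn (congrArg ULift.down h)))
    ((LinearMap.toSpanSingleton ℤ J x) ∘ₗ ULift.moduleEquiv.toLinearMap)
  refine ⟨g (ULift.up 1), ?_⟩
  have h1 := hg (ULift.up 1)
  rw [← map_zsmul]
  simpa [f] using h1

end Groth.Agent.S6933
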