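import Groth.Statements.S6934
import Mathlib.RingTheory.Localization.Away.Basic
import Mathlib.Tactic.LinearCombination

set_option autoImplicit false
universe u
open EtAlg

namespace Groth.Agent.S6934

/-- Let `s : B → R`, `t : R' → R` be ring maps and `B' = B ×_R R'` the fibre product ring, i.e. a ring
`B'` with maps `p : B' → B`, `q : B' → R'`, `s ∘ p = t ∘ q`, such that `(p, q)` is injective with
image the pairs `(b, r')` with `s(b) = t(r')`. Let `h ∈ B'` with images `g = p(h)`, `f = q(h)`. Then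
the square of localizations `B'_h → B_g`, `B'_h → R'_f`, `B_g → R_{s(g)}`, `R'_f → R_{t(f)} =
R_{s(g)}` (the induced maps) is cartesian as well: `B'_h = B_g ×_{R_{s(g)}} R'_f`. -/
theorem result {B R R' B' : Type u} [CommRing B] [CommRing R] [CommRing R'] [CommRing B']
    (s : B →+* R) (t : R' →+* R) (p : B' →+* B) (q : B' →+* R') (hc : s.comp p = t.comp q)
    (hinj : ∀ x y : B', p x = p y → q x = q y → x = y) (hsurj : ∀ (b : B) (r' : R'), s b = t r' → ∃ x : B', p x = b ∧ q x = r')
    (h : B') (Bh Bg Rf Rsg : Type u) [CommRing Bh] [CommRing Bg] [CommRing Rf] [CommRing Rsg]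
    [Algebra B' Bh] [IsLocalization.Away h Bh] [Algebra B Bg] [IsLocalization.Away (p h) Bg]
    [Algebra R' Rf] [IsLocalization.Away (q h) Rf] [Algebra R Rsg] [IsLocalization.Away (s (p h)) Rsg]
    (pL : Bh →+* Bg) (qL : Bh →+* Rf) (sL : Bg →+* Rsg) (tL : Rf →+* Rsg)
    (hp : pL.comp (algebraMap B' Bh) = (algebraMap B Bg).comp p) (hq : qL.comp (algebraMap B' Bh) = (algebraMap R' Rf).comp q)
    (hs : sL.comp (algebraMap B Bg) = (algebraMap R Rsg).comp s) (ht : tL.comp (algebraMap R' Rf) = (algebraMap R Rsg).comp t) :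
    (∀ x y : Bh, pL x = pL y → qL x = qL y → x = y) ∧
    (∀ (b : Bg) (r : Rf), sL b = tL r → ∃ x : Bh, pL x = b ∧ qL x = r) := by
  classical
  have hP : ∀ z, pL (algebraMap B' Bh z) = algebraMap B Bg (p z) := fun z => congr($hp z)
  have hQ : ∀ z, qL (algebraMap B' Bh z) = algebraMap R' Rf (q z) := fun z => congr($hq z)
  have hS : ∀ z, sL (algebraMap B Bg z) = algebraMap R Rsg (s z) := fun z => congr($hs z)
  have hT : ∀ z, tL (algebraMap R' Rf z) = algebraMap R Rsg (t z) := fun z => congr($ht z)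
  have hst : ∀ z, s (p z) = t (q z) := fun z => congr($hc z)
  constructor
  · intro x y hxy hxy'
    obtain ⟨n, a, ha⟩ := IsLocalization.Away.surj h x
    obtain ⟨m, b, hb⟩ := IsLocalization.Away.surj h y
    have e1 : algebraMap B' Bh (a * h ^ m) = x * (algebraMap B' Bh h ^ n * algebraMap B' Bh h ^ m) := by
      rw [map_mul, map_pow, ← ha]; ring
    have e2 : algebraMap B' Bh (b * h ^ n) = y * (algebraMap B' Bh h ^ n * algebraMap B' Bh h ^ m) := by
      rw [map_mul, map_pow, ← hb]; ring
    have hp1 : algebraMap B Bg (p (a * h ^ m)) = algebraMap B Bg (p (b * h ^ n)) := by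
      rw [← hP, ← hP, e1, e2, map_mul pL, hxy, map_mul pL y]
    have hq1 : algebraMap R' Rf (q (a * h ^ m)) = algebraMap R' Rf (q (b * h ^ n)) := by
      rw [← hQ, ← hQ, e1, e2, map_mul qL, hxy', map_mul qL y]
    obtain ⟨⟨_, i, rfl⟩, hi⟩ := (IsLocalization.eq_iff_exists (Submonoid.powers (p h)) Bg).mp hp1
    obtain ⟨⟨_, j, rfl⟩, hj⟩ := (IsLocalization.eq_iff_exists (Submonoid.powers (q h)) Rf).mp hq1
    have key : h ^ (i + j) * (a * h ^ m) = h ^ (i + j) * (b * h ^ n) := by
      refine hinj _ _ ?_ ?_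
      · rw [map_mul p, map_mul p (h ^ (i + j)), map_pow, pow_add]
        linear_combination (p h ^ j) * hi
      · rw [map_mul q, map_mul q (h ^ (i + j)), map_pow, pow_add]
        linear_combination (q h ^ i) * hj
    have h3 := congrArg (algebraMap B' Bh) key
    rw [map_mul, map_mul (algebraMap B' Bh) (h ^ (i + j)), e1, e2] at h3
    have hu : IsUnit (algebraMap B' Bh h) := IsLocalization.Away.algebraMap_isUnit h
    rw [map_pow] at h3
    exact ((hu.pow n).mul (hu.pow m)).mul_left_injective ((hu.pow (i + j)).mul_right_injective h3)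
  · intro b r hbr
    obtain ⟨n, β, hβ⟩ := IsLocalization.Away.surj (p h) b
    obtain ⟨m, ρ, hρ⟩ := IsLocalization.Away.surj (q h) r
    have h1 : algebraMap R Rsg (s (β * p h ^ m)) = algebraMap R Rsg (t (ρ * q h ^ n)) := by
      rw [← hS, ← hT, map_mul, map_mul (algebraMap R' Rf), map_pow, map_pow, ← hβ, ← hρ]
      simp only [map_mul, map_pow, hS, hT, hbr, hst]
      ring
    obtain ⟨⟨_, i, rfl⟩, hi⟩ := (IsLocalization.eq_iff_exists (Submonoid.powers (s (p h))) Rsg).mp h1
    obtain ⟨x, hx1, hx2⟩ := hsurj (p h ^ i * (β * p h ^ m)) (q h ^ i * (ρ * q h ^ n)) (by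
      rw [map_mul, map_mul t, map_pow, map_pow, ← hst]
      exact hi)
    have hu : IsUnit (algebraMap B' Bh h) := IsLocalization.Away.algebraMap_isUnit h
    let d := hu.pow (i + m + n)
    refine ⟨algebraMap B' Bh x * (↑d.unit⁻¹ : Bh), ?_, ?_⟩
    · refine (d.map pL).mul_left_injective ?_
      show pL (algebraMap B' Bh x * _) * pL (algebraMap B' Bh h ^ (i + m + n)) = _
      rw [← map_mul, mul_assoc, d.val_inv_mul, mul_one, hP, hx1]
      simp only [map_mul, map_pow, hP, ← hβ]
      ring
    · refine (d.map qL).mul_left_injective ?_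
      show qL (algebraMap B' Bh x * _) * qL (algebraMap B' Bh h ^ (i + m + n)) = _
      rw [← map_mul, mul_assoc, d.val_inv_mul, mul_one, hQ, hx2]
      simp only [map_mul, map_pow, hQ, ← hρ]
      ring


end Groth.Agent.S6934
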