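import Groth.Statements.S6943
import Mathlib
import Groth.Agent.H9Misc.DRingPCModule
import Groth.Agent.CAlgUI.Coherent

set_option autoImplicit false
universe u
open CategoryTheory CategoryTheory.Limits
attribute [local instance] HasDerivedCategory.standard
open DRing

namespace Groth.Agent.S6943

/-- Let R be a coherent commutative ring, i.e. every finitely generated ideal of R is finitely presented
as an R-module. Let K be an object of D(R) whose cohomology vanishes in large degrees and m an
integer. Then K is m-pseudo-coherent if and only if H^m(K) is finitely generated and H^i(K) is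
finitely presented for every i > m. Consequently K is pseudo-coherent if and only if every H^i(K) is
finitely presented. -/
theorem result (R : Type u) [CommRing R]
    (hR : ∀ I : Ideal R, I.FG → Module.FinitePresentation R I) (K : Dual.D R)
    (hb : ∃ b : ℤ, ∀ i : ℤ, b < i → Subsingleton (Dual.HD R K i)) (m : ℤ) :
    (DRing.IsPseudoCoherent R m K ↔
      Module.Finite R (Dual.HD R K m) ∧ ∀ i : ℤ, m < i → Module.FinitePresentation R (Dual.HD R K i)) ∧
      (DRing.IsPseudoCoherent' R K ↔ ∀ i : ℤ, Module.FinitePresentation R (Dual.HD R K i)) := by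
  obtain ⟨b, hb⟩ := hb
  have hfree : ∀ n : ℕ, Groth.Agent.CAlgUI.SubFP R (Fin n → R) := Groth.Agent.CAlgUI.subFP_fin hR
  have mod_pc : ∀ (k : ℕ) (M : Type u) [AddCommGroup M] [Module R M] [Module.FinitePresentation R M],
      DRing.IsPseudoCoherentModule R (-(k : ℤ)) M := by
    intro k
    induction k with
    | zero =>
      intro M _ _ _
      exact Groth.Agent.H9Misc.DRingPC.pc_zero_of_finite M
    | succ k ih =>
      intro M _ _ _
      obtain ⟨n, π, hπ⟩ := Module.Finite.exists_fin' R M
      haveI : Module.FinitePresentation R (LinearMap.ker π) :=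
        hfree n _ (Module.FinitePresentation.fg_ker π hπ)
      refine Groth.Agent.H9Misc.DRingPC.pc_of_presentation π hπ ?_
      rw [show -((k + 1 : ℕ) : ℤ) + 1 = -(k : ℤ) by push_cast; ring]
      exact ih _
  have sub : ∀ (F : ModuleCat.{u} R), Module.Finite R F ∧ Module.Free R F →
      Groth.Agent.CAlgUI.SubFP R F := by
    rintro F ⟨h1, h2⟩ N hN
    obtain ⟨n, π, hπ⟩ := Module.Finite.exists_fin' R F
    refine Groth.Agent.CAlgUI.subFP_of_surjective π hπ ?_ (hfree n) N hN
    haveI := h2
    haveI : Module.Projective R F := Module.Projective.of_free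
    haveI : Module.FinitePresentation R F := Module.finitePresentation_of_projective R F
    exact Module.FinitePresentation.fg_ker π hπ
  have hom_fp : ∀ (E : DRing.Cx R), DRing.TermwiseFiniteFree E → ∀ i,
      Module.FinitePresentation R (E.homology i) := by
    intro E hE i
    let S := E.sc' (i - 1) i (i + 1)
    haveI : Module.Finite R S.X₁ := (hE _).1
    haveI : Module.Finite R S.X₂ := (hE _).1
    haveI : Module.FinitePresentation R (LinearMap.range S.g.hom) :=
      sub S.X₃ (hE (i + 1)) _ (Module.Finite.iff_fg.1 (Module.Finite.range _))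
    haveI : Module.FinitePresentation R (LinearMap.ker S.g.hom) := by
      refine sub S.X₂ (hE i) _ ?_
      have := Module.FinitePresentation.fg_ker S.g.hom.rangeRestrict S.g.hom.surjective_rangeRestrict
      rwa [LinearMap.ker_rangeRestrict] at this
    haveI : Module.FinitePresentation R (LinearMap.ker S.g.hom ⧸ LinearMap.range S.moduleCatToCycles) :=
      Module.finitePresentation_of_surjective _ (Submodule.mkQ_surjective _)
        (by rw [Submodule.ker_mkQ]; exact Module.Finite.iff_fg.1 (Module.Finite.range _))
    haveI : Module.FinitePresentation R S.moduleCatLeftHomologyData.H := this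
    exact Module.FinitePresentation.of_equiv (S.moduleCatHomologyIso.symm ≪≫
      (ShortComplex.homologyMapIso (E.isoSc' (i - 1) i (i + 1) (CochainComplex.prev ℤ i)
        (CochainComplex.next ℤ i))).symm).toLinearEquiv
  have fwd : ∀ m' : ℤ, DRing.IsPseudoCoherent R m' K →
      Module.Finite R (Dual.HD R K m') ∧
        ∀ i : ℤ, m' < i → Module.FinitePresentation R (Dual.HD R K i) := by
    rintro m' ⟨E, a, c, α, hz, hf, hiso, he⟩
    let e := fun i => (DerivedCategory.homologyFunctorFactors (ModuleCat.{u} R) i).app E
    refine ⟨?_, fun i hi => ?_⟩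
    · haveI := hom_fp E hf m'
      haveI : Module.Finite R
          ((HomologicalComplex.homologyFunctor (ModuleCat.{u} R) (ComplexShape.up ℤ) m').obj E) :=
        Module.Finite.equiv (LinearEquiv.refl R (E.homology m'))
      haveI := he
      exact Module.Finite.of_surjective
        ((e m').inv ≫ (DerivedCategory.homologyFunctor (ModuleCat.{u} R) m').map α).hom
          ((ModuleCat.epi_iff_surjective _).1 inferInstance)
    · haveI := hom_fp E hf i
      haveI := hiso i hi
      haveI : Module.FinitePresentation R
          ((HomologicalComplex.homologyFunctor (ModuleCat.{u} R) (ComplexShape.up ℤ) i).obj E) :=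
        Module.FinitePresentation.of_equiv (LinearEquiv.refl R (E.homology i))
      exact Module.FinitePresentation.of_equiv
        ((e i).symm ≪≫ asIso ((DerivedCategory.homologyFunctor (ModuleCat.{u} R) i).map α)).toLinearEquiv
  have bwd : ∀ m' : ℤ, Module.Finite R (Dual.HD R K m') →
      (∀ i : ℤ, m' < i → Module.FinitePresentation R (Dual.HD R K i)) →
      DRing.IsPseudoCoherent R m' K := by
    intro m' h0 h1
    refine Groth.Agent.H9Misc.DRingPC.of_homology K b hb fun i hi => ?_
    rcases hi.eq_or_lt with rfl | hlt
    · rw [sub_self]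
      exact Groth.Agent.H9Misc.DRingPC.pc_zero_of_finite _
    · haveI := h1 i hlt
      have := mod_pc (i - m').toNat (Dual.HD R K i)
      rwa [Int.toNat_of_nonneg (by omega), neg_sub] at this
  refine ⟨⟨fwd m, fun h => bwd m h.1 h.2⟩, ?_⟩
  rw [Groth.Agent.H9Misc.DRingPC.pc'_iff]
  refine ⟨fun h i => (fwd (i - 1) (h _)).2 i (by omega), fun h m' => ?_⟩
  haveI := h m'
  exact bwd m' inferInstance fun i _ => h i

end Groth.Agent.S6943
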