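import Groth.Statements.S6951
import Groth.Agent.H9Misc.DRingTorFaithful

set_option autoImplicit false
universe u
open CategoryTheory CategoryTheory.Limits
attribute [local instance] HasDerivedCategory.standard
open DRing

namespace Groth.Agent.S6951

/-- Let R → A → B be homomorphisms of commutative rings with A → B faithfully flat, such that the
derived base change D(A) → D(B) exists, and let K be an object of D(A). Then for all integers a, b,
the following are equivalent: the restriction of K to D(R) is of tor amplitude within [a, b]; the
restriction of K ⊗^L_A B to D(R) is of tor amplitude within [a, b]. -/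
theorem result {R A B : Type u}
    [CommRing R] [CommRing A] [CommRing B] [Algebra R A] [Algebra A B] [Algebra R B] [IsScalarTower R A B]
    [Module.FaithfullyFlat A B] [DRing.HasLBaseChange (algebraMap A B)] (K : Dual.D A) (a b : ℤ) :
    DRing.HasTorAmplitudeIn R a b ((DRing.restrictD (algebraMap R A)).obj K) ↔
      DRing.HasTorAmplitudeIn R a b ((DRing.restrictD (algebraMap R B)).obj ((DRing.LBaseChange (algebraMap A B)).obj K)) := by
  exact Groth.Agent.H9Misc.DRingTorFaithful.faithful_iff K a b

end Groth.Agent.S6951
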