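import Groth.Statements.S6955
import Groth.Agent.H9Misc.DRingPerfectModule

set_option autoImplicit false
universe u
open CategoryTheory CategoryTheory.Limits
attribute [local instance] HasDerivedCategory.standard
open DRing

namespace Groth.Agent.S6955

/-- Let R be a commutative ring and M an R-module. Then M is perfect (M[0] is isomorphic in D(R) to a
bounded complex of finite projective modules) if and only if M admits a projective resolution of
finite length whose terms are finitely generated, i.e. a resolution 0 → F_d → ... → F_0 → M → 0 by
finite projective modules. -/
theorem result (R : Type u) [CommRing R] (M : Type u)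
    [AddCommGroup M] [Module R M] :
    DRing.IsPerfectModule R M ↔
      ∃ (P : ProjectiveResolution (ModuleCat.of R M)) (d : ℕ),
        (∀ i : ℕ, d < i → IsZero (P.complex.X i)) ∧ ∀ i : ℕ, Module.Finite R (P.complex.X i) := by
  exact Groth.Agent.H9Misc.DRingPerfect.isPerfect_inD_iff (ModuleCat.of R M)

end Groth.Agent.S6955
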