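import Groth.Statements.S6957
import Groth.Agent.H9Misc.DRingPerfect

set_option autoImplicit false
universe u
open CategoryTheory CategoryTheory.Limits
attribute [local instance] HasDerivedCategory.standard
open DRing

namespace Groth.Agent.S6957

/-- Let A → B be a homomorphism of commutative rings such that the derived base change D(A) → D(B)
exists, and let K be a perfect object of D(A). Then K ⊗^L_A B is a perfect object of D(B). -/
theorem result {A B : Type u} [CommRing A] [CommRing B] (φ : A →+* B)
    [DRing.HasLBaseChange φ] (K : Dual.D A) (hK : DRing.IsPerfect A K) :
    DRing.IsPerfect B ((DRing.LBaseChange φ).obj K) := by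
  exact Groth.Agent.H9Misc.DRingPerfect.isPerfect_lbase φ hK

end Groth.Agent.S6957
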