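import Groth.Statements.S6962
import Groth.Agent.H9Misc.DRingRegular

set_option autoImplicit false
universe u
open CategoryTheory CategoryTheory.Limits
attribute [local instance] HasDerivedCategory.standard
open DRing

namespace Groth.Agent.S6962

/-- Let R be a regular commutative ring, i.e. R is Noetherian and its localization at every prime ideal
is a regular local ring. Then an R-module M is perfect (M[0] is isomorphic in D(R) to a bounded
complex of finite projective modules) if and only if M is finitely generated. -/
theorem result (R : Type u) [CommRing R] [IsNoetherianRing R]
    (hreg : ∀ p : PrimeSpectrum R, IsRegularLocalRing (Localization.AtPrime p.asIdeal))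
    (M : Type u) [AddCommGroup M] [Module R M] :
    DRing.IsPerfectModule R M ↔ Module.Finite R M := by
  exact Groth.Agent.H9Misc.DRingRegular.isPerfectModule_iff hreg M

end Groth.Agent.S6962
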