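import Groth.Statements.S6963
import Groth.Agent.H9Misc.DRingDual
import Groth.Agent.H9Misc.DRingProjAmp

set_option autoImplicit false
universe u
open CategoryTheory CategoryTheory.Limits
attribute [local instance] HasDerivedCategory.standard
open DRing

namespace Groth.Agent.S6963

/-- Let A be a commutative ring and K a perfect object of D(A), represented by a cochain complex E for
which RHom_A(E, -) exists; write K^∨ = RHom_A(E, A). Then K^∨ is a perfect object of D(A), and for
every cochain complex E' representing K^∨ for which RHom_A(E', -) exists, RHom_A(E', A) is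
isomorphic to K in D(A) (existence of an isomorphism only; the canonical one is the double-duality
map). -/
theorem result (A : Type u) [CommRing A] (K : Dual.D A) (hK : DRing.IsPerfect A K)
    (E : DRing.Cx A) (eK : DRing.toD E ≅ K) [DRing.HasRHomCx E] :
    DRing.IsPerfect A ((DRing.RHomCx E).obj (Dual.inD A A)) ∧
      ∀ (E' : DRing.Cx A) (eK' : DRing.toD E' ≅ (DRing.RHomCx E).obj (Dual.inD A A)) [DRing.HasRHomCx E'],
        Nonempty ((DRing.RHomCx E').obj (Dual.inD A A) ≅ K) := by
  obtain ⟨P, a, b, hz, hP, ⟨e⟩⟩ := hK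
  haveI := Groth.Agent.H9Misc.DRingProjAmp.isKProjective (fun i => (hP i).2) fun i hi => hz i (Or.inr hi)
  obtain ⟨i₁⟩ := Groth.Agent.H9Misc.DRingDual.nonempty_rhom_iso (P := P) (e ≪≫ eK.symm)
  have hz' := Groth.Agent.H9Misc.DRingDual.vanishesOutside_dual hz
  have hP' := Groth.Agent.H9Misc.DRingDual.termwiseFiniteProjective_dual hP
  refine ⟨⟨_, _, _, hz', hP', ⟨i₁.symm⟩⟩, fun E' eK' => ?_⟩
  intro _
  haveI := Groth.Agent.H9Misc.DRingProjAmp.isKProjective (fun i => (hP' i).2) fun i hi => hz' i (Or.inr hi)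
  obtain ⟨i₂⟩ := Groth.Agent.H9Misc.DRingDual.nonempty_rhom_iso
    (P := Groth.Agent.H9Misc.DRingDual.dual P) (i₁.symm ≪≫ eK'.symm)
  haveI := Groth.Agent.H9Misc.DRingDual.isIso_bidual P hP
  exact ⟨i₂ ≪≫ DerivedCategory.Q.mapIso (asIso (Groth.Agent.H9Misc.DRingDual.bidual P)).symm ≪≫ e⟩

end Groth.Agent.S6963
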