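import Groth.Statements.S6966
import Mathlib

set_option autoImplicit false
universe u
open CategoryTheory CategoryTheory.Limits
attribute [local instance] HasDerivedCategory.standard
open CAlg

namespace Groth.Agent.S6966

/-- Let R be a commutative ring, I an ideal of R and M an R-module. Then the following two conditions
coincide: for each a ∈ I, the endomorphism of M given by multiplication by a can be written as a
composite M → P → M with P some projective R-module; and for every R-module N and every a ∈ I, a
annihilates Ext^1_R(M, N) = Hom(M[0], N[1]) in D(R). -/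
theorem result (R : Type u) [CommRing R] (I : Ideal R) (M : Type u)
    [AddCommGroup M] [Module R M] :
    (∀ a ∈ I, ∃ (P : Type u) (_ : AddCommGroup P) (_ : Module R P) (_ : Module.Projective R P)
        (f : M →ₗ[R] P) (g : P →ₗ[R] M), g ∘ₗ f = a • LinearMap.id) ↔
      ∀ (N : Type u) [AddCommGroup N] [Module R N], ∀ a ∈ I,
        ∀ x : DRing.ExtD R (Dual.inD R M) (Dual.inD R N) 1, a • x = 0 := by
  constructor
  · intro h N _ _ a ha x
    obtain ⟨P, _, _, _, f, g, hfg⟩ := h a ha
    have : Projective (ModuleCat.of R P) := (IsProjective.iff_projective (R := R) P).mp inferInstance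
    have e : ModuleCat.ofHom f ≫ ModuleCat.ofHom g = a • 𝟙 (ModuleCat.of R M) := by
      ext m
      exact LinearMap.congr_fun hfg m
    have e2 := congrArg (DerivedCategory.singleFunctor (ModuleCat.{u} R) 0).map e
    rw [Functor.map_comp, Functor.map_smul, CategoryTheory.Functor.map_id] at e2
    have h0 : (DerivedCategory.singleFunctor (ModuleCat.{u} R) 0).map (ModuleCat.ofHom g) ≫ x = 0 :=
      (Abelian.Ext.homAddEquiv (X := ModuleCat.of R P) (Y := ModuleCat.of R N) (n := 1)).symm.injective
        ((Abelian.Ext.eq_zero_of_projective (n := 0) _).trans (map_zero _).symm)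
    calc a • x = (a • 𝟙 _) ≫ x := by rw [Linear.smul_comp, Category.id_comp]
      _ = 0 := by rw [← e2, Category.assoc, h0, comp_zero]
  · intro h a ha
    let F := M →₀ R
    let π : F →ₗ[R] M := Finsupp.linearCombination R id
    have hπ : Function.Surjective π := Finsupp.linearCombination_id_surjective R M
    let S : ShortComplex (ModuleCat.{u} R) := ShortComplex.mk
      (X₁ := ModuleCat.of R (LinearMap.ker π)) (X₂ := ModuleCat.of R F) (X₃ := ModuleCat.of R M)
      (ModuleCat.ofHom (LinearMap.ker π).subtype) (ModuleCat.ofHom π) (by ext x; exact x.2)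
    have hS : S.ShortExact :=
      { exact := by rw [ShortComplex.moduleCat_exact_iff]; intro x hx; exact ⟨⟨x, hx⟩, rfl⟩
        mono_f := by
          rw [ModuleCat.mono_iff_injective]
          exact Subtype.val_injective
        epi_g := by
          rw [ModuleCat.epi_iff_surjective]
          exact hπ }
    have h1 : a • hS.extClass = 0 := by
      apply (Abelian.Ext.homLinearEquiv (R := R) (X := S.X₃) (Y := S.X₁) (n := 1)).injective
      rw [map_smul, map_zero]
      exact h (LinearMap.ker π) a ha _
    have h2 : (Abelian.Ext.mk₀ (a • 𝟙 S.X₃)).comp hS.extClass (zero_add 1) = 0 := by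
      rw [Abelian.Ext.mk₀_smul, Abelian.Ext.smul_comp, Abelian.Ext.mk₀_id_comp, h1]
    obtain ⟨s, hs⟩ := Abelian.Ext.covariant_sequence_exact₃ S.X₃ hS _ (zero_add 1) h2
    obtain ⟨s', rfl⟩ : ∃ s', s = Abelian.Ext.mk₀ s' := ⟨_, (Abelian.Ext.mk₀_addEquiv₀_apply s).symm⟩
    rw [Abelian.Ext.mk₀_comp_mk₀] at hs
    have hs' : s' ≫ S.g = a • 𝟙 S.X₃ := (Abelian.Ext.mk₀_bijective _ _).injective hs
    refine ⟨F, inferInstance, inferInstance, inferInstance, s'.hom, π, ?_⟩
    ext m
    exact congrArg (fun φ => φ.hom m) hs'

end Groth.Agent.S6966
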