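import Groth.Statements.S6968
import Mathlib

set_option autoImplicit false
universe u
open CAlg

namespace Groth.Agent.S6968

/-- Let R be a commutative ring, I an ideal of R and M a finitely generated R-module such that
multiplication by a on M factors through a projective R-module for every a ∈ I. Then multiplication
by a on the dual module Hom_R(M, R) factors through a projective R-module for every a ∈ I. -/
theorem result (R : Type u) [CommRing R] (I : Ideal R) (M : Type u) [AddCommGroup M]
    [Module R M] [Module.Finite R M]
    (hM : ∀ a ∈ I, ∃ (P : Type u) (_ : AddCommGroup P) (_ : Module R P) (_ : Module.Projective R P)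
        (f : M →ₗ[R] P) (g : P →ₗ[R] M), g ∘ₗ f = a • LinearMap.id) :
    ∀ a ∈ I, ∃ (P : Type u) (_ : AddCommGroup P) (_ : Module R P) (_ : Module.Projective R P)
        (f : Module.Dual R M →ₗ[R] P) (g : P →ₗ[R] Module.Dual R M), g ∘ₗ f = a • LinearMap.id := by
  intro a ha
  obtain ⟨P', i1, i2, i3, f', g', hfg'⟩ := hM a ha
  obtain ⟨n, π, hπ⟩ := Module.Finite.exists_fin' R M
  obtain ⟨h, hh⟩ := Module.projective_lifting_property π g' hπ
  refine ⟨Module.Dual R (Fin n → R), inferInstance, inferInstance, inferInstance, π.dualMap,
    (h ∘ₗ f').dualMap, ?_⟩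
  ext φ m
  have e1 : π (h (f' m)) = g' (f' m) := LinearMap.congr_fun hh (f' m)
  have e2 : g' (f' m) = a • m := LinearMap.congr_fun hfg' m
  simp [LinearMap.dualMap_apply, e1, e2]

end Groth.Agent.S6968
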