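import Groth.Statements.S6969
import Mathlib.RingTheory.Finiteness.Finsupp
import Mathlib.LinearAlgebra.Finsupp.Supported

set_option autoImplicit false
universe u
open CAlg

namespace Groth.Agent.S6969

/-- Let R be a commutative ring and φ : M → N an R-linear map which factors through a projective
R-module. If M is finitely generated, then φ factors through a finitely generated projective
R-module. -/
theorem result (R : Type u) [CommRing R] {M N : Type u} [AddCommGroup M]
    [Module R M] [Module.Finite R M] [AddCommGroup N] [Module R N] (φ : M →ₗ[R] N)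
    (h : ∃ (P : Type u) (_ : AddCommGroup P) (_ : Module R P) (_ : Module.Projective R P) (f : M →ₗ[R] P)
      (g : P →ₗ[R] N), g ∘ₗ f = φ) :
    ∃ (P : Type u) (_ : AddCommGroup P) (_ : Module R P) (_ : Module.Projective R P) (_ : Module.Finite R P)
      (f : M →ₗ[R] P) (g : P →ₗ[R] N), g ∘ₗ f = φ := by
  classical
  obtain ⟨P, _, _, hP, f, g, rfl⟩ := h
  obtain ⟨s, hs⟩ := hP.out
  obtain ⟨S, hS⟩ := Module.Finite.fg_top (R := R) (M := M)
  let T : Finset P := S.biUnion fun m => (s (f m)).support
  have hmem : ∀ m, s (f m) ∈ Finsupp.supported R R (T : Set P) := by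
    intro m
    have hm : m ∈ Submodule.span R (S : Set M) := hS.symm ▸ Submodule.mem_top
    induction hm using Submodule.span_induction with
    | mem x hx =>
      rw [Finsupp.mem_supported]
      exact Finset.coe_subset.mpr (Finset.subset_biUnion_of_mem (fun m => (s (f m)).support) hx)
    | zero => simp
    | add x y _ _ hx hy => simpa using add_mem hx hy
    | smul r x _ hx => simpa using Submodule.smul_mem _ r hx
  have : Finite (T : Set P) := T.finite_toSet
  refine ⟨(T : Set P) →₀ R, inferInstance, inferInstance, inferInstance, inferInstance,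
    (Finsupp.supportedEquivFinsupp (T : Set P)).toLinearMap ∘ₗ LinearMap.codRestrict _ (s ∘ₗ f) hmem,
    g ∘ₗ Finsupp.linearCombination R id ∘ₗ (Finsupp.supported R R (T : Set P)).subtype ∘ₗ
      (Finsupp.supportedEquivFinsupp (T : Set P)).symm.toLinearMap, ?_⟩
  ext m
  simp only [LinearMap.comp_apply, LinearEquiv.coe_coe, LinearEquiv.symm_apply_apply,
    Submodule.coe_subtype, LinearMap.codRestrict_apply]
  rw [hs (f m)]

end Groth.Agent.S6969
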