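import Groth.Statements.S6973
import Groth.Agent.H9Misc.DRingLiftHensel

set_option autoImplicit false
universe u
open CategoryTheory CategoryTheory.Limits
attribute [local instance] HasDerivedCategory.standard
open DRing

namespace Groth.Agent.S6973

/-- Let (R, I) be a henselian pair such that the derived base change D(R) → D(R/I) exists, K a
pseudo-coherent object of D(R), and E a bounded above cochain complex of finite projective
R/I-modules which is isomorphic in D(R/I) to K ⊗^L_R R/I. Then there is a bounded above cochain
complex P of finite projective R-modules, isomorphic to K in D(R), whose termwise reduction P ⊗_R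
R/I is isomorphic to E as a complex, and such that P^i is free for every i for which E^i is free. -/
theorem result (R : Type u) [CommRing R]
    (I : Ideal R) [HenselianRing R I] [DRing.HasLBaseChange (Ideal.Quotient.mk I)] (K : Dual.D R)
    (hK : DRing.IsPseudoCoherent' R K) (E : DRing.Cx (R ⧸ I)) (b : ℤ) (hEb : DRing.VanishesAbove E b)
    (hEp : DRing.TermwiseFiniteProjective E)
    (hE : Nonempty (DRing.toD E ≅ (DRing.LBaseChange (Ideal.Quotient.mk I)).obj K)) :
    ∃ (P : DRing.Cx R) (b' : ℤ), DRing.VanishesAbove P b' ∧ DRing.TermwiseFiniteProjective P ∧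
      Nonempty (DRing.toD P ≅ K) ∧ Nonempty ((((ModuleCat.extendScalars (Ideal.Quotient.mk I)).mapHomologicalComplex (ComplexShape.up ℤ)).obj P) ≅ E) ∧
      ∀ i : ℤ, Module.Free (R ⧸ I) (E.X i) → Module.Free R (P.X i) := by
  obtain ⟨eE⟩ := hE
  obtain ⟨P, b', L, hPb, hP, hPK, hfree⟩ :=
    Groth.Agent.H9Misc.DRingLift.exists_finProj_lift K hK E b hEb hEp eE
  exact ⟨P, b', hPb, hP, hPK, L.nonempty_iso, hfree⟩

end Groth.Agent.S6973
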