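import Groth.Statements.S6974
import Mathlib
import Groth.Agent.H9Misc.DRingFibre

set_option autoImplicit false
universe u
open CategoryTheory CategoryTheory.Limits
attribute [local instance] HasDerivedCategory.standard
open DRing

namespace Groth.Agent.S6974

/-- Let R be a commutative ring such that the derived base change D(R) → D(R/m) exists for every ideal
m, let K be a pseudo-coherent object of D(R) and a, b integers. If for every maximal ideal m of R
the cohomology H^i(K ⊗^L_R R/m) vanishes for all i outside [a, b], then K is perfect and has tor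
amplitude in [a, b]. -/
theorem result (R : Type u) [CommRing R]
    [∀ m : Ideal R, DRing.HasLBaseChange (Ideal.Quotient.mk m)] (K : Dual.D R)
    (hK : DRing.IsPseudoCoherent' R K) (a b : ℤ)
    (h : ∀ (m : Ideal R), m.IsMaximal → ∀ i : ℤ, (i < a ∨ b < i) →
      Subsingleton (Dual.HD (R ⧸ m) ((DRing.LBaseChange (Ideal.Quotient.mk m)).obj K) i)) :
    DRing.IsPerfect R K ∧ DRing.HasTorAmplitudeIn R a b K := by
  obtain ⟨E, b₀, hz, hE, ⟨e⟩⟩ := hK
  have hamp : DRing.HasTorAmplitudeIn R a b K := by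
    obtain ⟨P, hP₁, hP₂, ⟨eP⟩⟩ := Groth.Agent.H9Misc.DRingFibre.amp_of_fibres hE hz a b fun m hm i hi =>
      Groth.Agent.H9Misc.DRingFibre.exactAt_of_lbase _ (Groth.Agent.H9Misc.DRingFibre.isKF hE hz) e i (h m hm i hi)
    exact ⟨P, hP₁, hP₂, ⟨eP ≪≫ e⟩⟩
  exact ⟨Groth.Agent.H9Misc.DRingFibre.isPerfect_of_amp ⟨E, b₀, hz, hE, ⟨e⟩⟩ hamp, hamp⟩

end Groth.Agent.S6974
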