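import Groth.Statements.S6975
import Mathlib
import Groth.Agent.H9Misc.DRingFibre

set_option autoImplicit false
universe u
open CategoryTheory CategoryTheory.Limits
attribute [local instance] HasDerivedCategory.standard
open DRing

namespace Groth.Agent.S6975

/-- Let R be a local commutative ring with residue field κ such that the derived base change D(R) → D(κ)
exists, and let K be a pseudo-coherent object of D(R). If there is an integer a with H^i(K ⊗^L_R κ)
= 0 for all i < a, then K is perfect. -/
theorem result (R : Type u) [CommRing R] [IsLocalRing R]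
    [DRing.HasLBaseChange (IsLocalRing.residue R)] (K : Dual.D R) (hK : DRing.IsPseudoCoherent' R K) (a : ℤ)
    (h : ∀ i : ℤ, i < a → Subsingleton (Dual.HD (IsLocalRing.ResidueField R)
      ((DRing.LBaseChange (IsLocalRing.residue R)).obj K) i)) :
    DRing.IsPerfect R K := by
  obtain ⟨E, b₀, hz, hE, ⟨e⟩⟩ := hK
  have hKF := Groth.Agent.H9Misc.DRingFibre.isKF hE hz
  have hV : Groth.Agent.H9Misc.DRingTor.Van a b₀ E := fun M i hi => by
    rcases hi with hi | hi
    · exact Groth.Agent.H9Misc.DRingFibre.exactAt_of_fibre (IsLocalRing.residue R)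
        Ideal.Quotient.mk_surjective hE i
        (Groth.Agent.H9Misc.DRingFibre.exactAt_of_lbase _ hKF e i (h i hi)) M
    · exact (HomologicalComplex.exactAt_iff_isZero_homology _ i).2
        (ShortComplex.isZero_homology_of_isZero_X₂ _ ((MonoidalCategory.tensorRight M).map_isZero (hz i hi)))
  exact Groth.Agent.H9Misc.DRingFibre.isPerfect_of_amp ⟨E, b₀, hz, hE, ⟨e⟩⟩
    (Groth.Agent.H9Misc.DRingTor.hasTorAmplitudeIn_of_van hKF hV e)

end Groth.Agent.S6975
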