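import Groth.Statements.S6977
import Mathlib
import Groth.Agent.H9Misc.DRingFlatFibre
import Groth.Agent.S0563

set_option autoImplicit false
universe u
open CategoryTheory CategoryTheory.Limits
attribute [local instance] HasDerivedCategory.standard
open DRing

namespace Groth.Agent.S6977

open TensorProduct

/-- Let A → B be a flat local homomorphism of local commutative rings such that B/m_A B is a regular
local ring of dimension d, and assume the derived base change D(A) → D(κ_A) to the residue field of
A exists. Let a, b be integers and K a pseudo-coherent object of D(B) such that H^i((K regarded in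
D(A)) ⊗^L_A κ_A) = 0 for every i outside [a, b]. Then K is perfect as an object of D(B) and has tor
amplitude in [a - d, b] over B. -/
theorem result {A B : Type u} [CommRing A] [CommRing B] [IsLocalRing A]
    [IsLocalRing B] [Algebra A B] [IsLocalHom (algebraMap A B)] [Module.Flat A B] (d : ℕ)
    [IsRegularLocalRing (B ⧸ (IsLocalRing.maximalIdeal A).map (algebraMap A B))]
    (hd : ringKrullDim (B ⧸ (IsLocalRing.maximalIdeal A).map (algebraMap A B)) = d)
    [DRing.HasLBaseChange (IsLocalRing.residue A)] (a b : ℤ) (K : Dual.D B) (hK : DRing.IsPseudoCoherent' B K)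
    (h : ∀ i : ℤ, (i < a ∨ b < i) → Subsingleton (Dual.HD (IsLocalRing.ResidueField A)
      ((DRing.LBaseChange (IsLocalRing.residue A)).obj ((DRing.restrictD (algebraMap A B)).obj K)) i)) :
    DRing.IsPerfect B K ∧ DRing.HasTorAmplitudeIn B (a - d) b K := by
  haveI hA : DRing.HasLBaseChange (algebraMap A (IsLocalRing.ResidueField A)) :=
    inferInstanceAs (DRing.HasLBaseChange (IsLocalRing.residue A))
  obtain ⟨E, b₀, hz, hE, ⟨e⟩⟩ := hK
  let I := (IsLocalRing.maximalIdeal A).map (algebraMap A B)
  let q : (B ⧸ I) ≃ₐ[B] B ⊗[A] (A ⧸ IsLocalRing.maximalIdeal A) :=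
    Algebra.TensorProduct.quotIdealMapEquivTensorQuot B (IsLocalRing.maximalIdeal A)
  let ε : IsLocalRing.ResidueField A ⊗[A] B ≃+* B ⧸ I :=
    (Algebra.TensorProduct.comm A (IsLocalRing.ResidueField A) B).toRingEquiv.trans q.symm.toRingEquiv
  haveI : IsRegularLocalRing (IsLocalRing.ResidueField A ⊗[A] B) := IsRegularLocalRing.of_ringEquiv ε.symm
  have hdim : ringKrullDim (IsLocalRing.ResidueField A ⊗[A] B) = d := by
    rw [ringKrullDim_eq_of_ringEquiv ε]; exact hd
  have hIm : I ≤ IsLocalRing.maximalIdeal B := by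
    rw [Ideal.map_le_iff_le_comap]
    intro x hx
    exact map_nonunit (algebraMap A B) x hx
  have hamp : DRing.HasTorAmplitudeIn B (a - d) b (DerivedCategory.Q.obj E) := by
    refine H9Misc.DRingFibre.amp_of_fibres hE hz (a - d) b fun m hm i hi => ?_
    have hmB : m = IsLocalRing.maximalIdeal B := IsLocalRing.eq_maximalIdeal hm
    refine H9Misc.DRingFlatFibre.exactAt_at_point (A' := IsLocalRing.ResidueField A) d
      (fun M => Groth.Agent.S0563.result _ d hdim M) (Ideal.Quotient.mk m)
      ((Ideal.Quotient.factor (hmB ▸ hIm)).comp ε.toRingHom) ?_ hE hz e a b h i hi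
    refine RingHom.ext fun x => ?_
    have hx : ε ((1 : IsLocalRing.ResidueField A) ⊗ₜ[A] x) = Ideal.Quotient.mk I x :=
      q.symm_apply_eq.2 rfl
    exact ((congrArg (Ideal.Quotient.factor (hmB ▸ hIm)) hx).trans (Ideal.Quotient.factor_mk _ x)).symm
  have hampK : DRing.HasTorAmplitudeIn B (a - d) b K := H9Misc.DRingTor.of_iso e hamp
  exact ⟨H9Misc.DRingFibre.isPerfect_of_amp ⟨E, b₀, hz, hE, ⟨e⟩⟩ hampK, hampK⟩

end Groth.Agent.S6977
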