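import Groth.Statements.S6980
import Groth.Agent.H9Misc.DRingTwoIdeals

set_option autoImplicit false
universe u
open CategoryTheory CategoryTheory.Limits
attribute [local instance] HasDerivedCategory.standard
open DRing

namespace Groth.Agent.S6980

/-- Let R be a commutative ring, I and J ideals of R such that the derived base changes D(R) → D(R/I),
D(R/J), D(R/IJ) exist, and K an object of D(R). If K ⊗^L_R R/I is perfect in D(R/I) and K ⊗^L_R R/J
is perfect in D(R/J), then K ⊗^L_R R/IJ is perfect in D(R/IJ). -/
theorem result (R : Type u) [CommRing R] (I J : Ideal R)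
    [DRing.HasLBaseChange (Ideal.Quotient.mk I)] [DRing.HasLBaseChange (Ideal.Quotient.mk J)]
    [DRing.HasLBaseChange (Ideal.Quotient.mk (I * J))] (K : Dual.D R)
    (hI : DRing.IsPerfect (R ⧸ I) ((DRing.LBaseChange (Ideal.Quotient.mk I)).obj K))
    (hJ : DRing.IsPerfect (R ⧸ J) ((DRing.LBaseChange (Ideal.Quotient.mk J)).obj K)) :
    DRing.IsPerfect (R ⧸ (I * J)) ((DRing.LBaseChange (Ideal.Quotient.mk (I * J))).obj K) := by
  exact Groth.Agent.H9Misc.DRingTwoIdeals.isPerfect_quotient_mul I J K hI hJ

end Groth.Agent.S6980
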