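import Groth.Statements.S6988
import Groth.Agent.H9Misc.DRingProjAmp

set_option autoImplicit false
universe u
open CategoryTheory CategoryTheory.Limits
attribute [local instance] HasDerivedCategory.standard
open DRing

namespace Groth.Agent.S6988

/-- Let R be a commutative ring, K a pseudo-coherent object of D(R) and i an integer. Then some finitely
presented R-module M admits a morphism K → M[-i] in D(R) that is injective on H^i (here H^i(M[-i]) =
M). -/
theorem result (R : Type u) [CommRing R] (K : Dual.D R)
    (hK : DRing.IsPseudoCoherent' R K) (i : ℤ) :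
    ∃ (M : Type u) (_ : AddCommGroup M) (_ : Module R M) (_ : Module.FinitePresentation R M)
      (f : K ⟶ (shiftFunctor (Dual.D R) (-i)).obj (Dual.inD R M)),
      Mono ((DerivedCategory.homologyFunctor (ModuleCat.{u} R) i).map f) := by
  obtain ⟨E, b, hb, hf, ⟨e⟩⟩ := hK
  let M : ModuleCat.{u} R := HomologicalComplex.opcycles E i
  let p : E.X i ⟶ M := HomologicalComplex.pOpcycles E i
  haveI hfp : Module.FinitePresentation R M := by
    haveI := (hf i).1
    haveI := (hf i).2
    haveI : Module.FinitePresentation R (E.X i) := Module.finitePresentation_of_projective R _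
    have hp : Function.Surjective p.hom :=
      (ModuleCat.epi_iff_surjective _).1 (inferInstanceAs (Epi (HomologicalComplex.pOpcycles E i)))
    refine Module.finitePresentation_of_surjective p.hom hp ?_
    have hex : (ShortComplex.mk (E.d (i - 1) i) p (HomologicalComplex.d_pOpcycles E _ _)).Exact :=
      ShortComplex.exact_of_g_is_cokernel _ (HomologicalComplex.opcyclesIsCokernel E (i - 1) i (by simp))
    rw [((ShortComplex.ShortExact.moduleCat_exact_iff_function_exact _).1 hex).linearMap_ker_eq]
    haveI := (hf (i - 1)).1
    exact Module.Finite.iff_fg.1 (Module.Finite.range (E.d (i - 1) i).hom)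
  refine ⟨M, inferInstance, inferInstance, hfp, ?_⟩
  let L : DRing.Cx R := (CochainComplex.singleFunctor (ModuleCat.{u} R) i).obj M
  let g : E ⟶ L := HomologicalComplex.mkHomToSingle p fun j _ => HomologicalComplex.d_pOpcycles E j i
  let eL : DerivedCategory.Q.obj L ≅ (shiftFunctor (Dual.D R) (-i)).obj (Dual.inD R M) :=
    ((DerivedCategory.singleFunctorIsoCompQ (ModuleCat.{u} R) i).app M).symm ≪≫
      (Groth.Agent.H9Misc.DRingProjAmp.singleIso M i (-i) (add_neg_cancel i)).symm
  refine ⟨e.inv ≫ DerivedCategory.Q.map g ≫ eL.hom, ?_⟩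
  have hmono : Mono (HomologicalComplex.homologyMap g i) := by
    haveI : IsIso (HomologicalComplex.opcyclesMap g i) := by
      haveI hLp : IsIso (HomologicalComplex.pOpcycles L i) :=
        HomologicalComplex.isIso_pOpcycles L (i - 1) i (by simp)
          ((HomologicalComplex.isZero_single_obj_X (ComplexShape.up ℤ) i M (i - 1) (by omega)).eq_of_src _ _)
      have hop : HomologicalComplex.opcyclesMap g i =
          (HomologicalComplex.singleObjXSelf (ComplexShape.up ℤ) i M).inv ≫
            HomologicalComplex.pOpcycles L i := by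
        rw [← cancel_epi (HomologicalComplex.pOpcycles E i), HomologicalComplex.p_opcyclesMap]
        refine (congrArg (· ≫ _) (HomologicalComplex.mkHomToSingle_f p _)).trans (Category.assoc _ _ _)
      rw [hop]
      exact @IsIso.comp_isIso _ _ _ _ _ _ _ inferInstance hLp
    haveI : Mono (HomologicalComplex.homologyMap g i ≫ HomologicalComplex.homologyι L i) := by
      rw [HomologicalComplex.homologyι_naturality]
      exact mono_comp _ _
    exact mono_of_mono (HomologicalComplex.homologyMap g i) (HomologicalComplex.homologyι L i)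
  let F := DerivedCategory.homologyFunctor (ModuleCat.{u} R) i
  let c := DerivedCategory.homologyFunctorFactors (ModuleCat.{u} R) i
  haveI hc₁ : Mono (c.hom.app E) := (c.app E).isIso_hom.mono_of_iso
  haveI hc₂ : Mono (c.inv.app L) := (c.symm.app L).isIso_hom.mono_of_iso
  have h : F.map (DerivedCategory.Q.map g) =
      c.hom.app E ≫ HomologicalComplex.homologyMap g i ≫ c.inv.app L :=
    ((congrArg (F.map (DerivedCategory.Q.map g) ≫ ·) ((c.app L).hom_inv_id)).trans
      (Category.comp_id _)).symm.trans ((Category.assoc _ _ _).symm.trans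
      ((congrArg (· ≫ c.inv.app L) (c.hom.naturality g)).trans (Category.assoc _ _ _)))
  rw [Functor.map_comp, Functor.map_comp, h]
  haveI : Mono (F.map e.inv) := (F.mapIso e.symm).isIso_hom.mono_of_iso
  haveI : Mono (F.map eL.hom) := (F.mapIso eL).isIso_hom.mono_of_iso
  have h1 := @mono_comp _ _ _ _ _ (c.hom.app E) hc₁ _
    (@mono_comp _ _ _ _ _ (HomologicalComplex.homologyMap g i) hmono (c.inv.app L) hc₂)
  exact @mono_comp _ _ _ _ _ _ ‹Mono (F.map e.inv)› _ (@mono_comp _ _ _ _ _ _ h1 _ ‹Mono (F.map eL.hom)›)

end Groth.Agent.S6988
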