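import Groth.Statements.S6989
import Groth.Agent.H9Misc.DRingPC
import Groth.Agent.S6942
import Mathlib

set_option autoImplicit false
universe u
open CategoryTheory CategoryTheory.Limits
attribute [local instance] HasDerivedCategory.standard
open DRing

namespace Groth.Agent.S6989

/-- Let A be a Noetherian commutative ring, K an object of D(A) whose cohomology vanishes in large
degrees and whose cohomology modules are all finitely generated, m a maximal ideal of A and i an
integer such that m H^i(K) ≠ H^i(K). Then some finitely generated A-module E killed by a power of m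
receives a morphism K → E[-i] in D(A) whose induced map H^i(K) → H^i(E[-i]) is nonzero. -/
theorem result (A : Type u) [CommRing A]
    [IsNoetherianRing A] (K : Dual.D A) (hb : ∃ b : ℤ, ∀ j : ℤ, b < j → Subsingleton (Dual.HD A K j))
    (hfin : ∀ j : ℤ, Module.Finite A (Dual.HD A K j)) (m : Ideal A) [m.IsMaximal] (i : ℤ)
    (hi : m • (⊤ : Submodule A (Dual.HD A K i)) ≠ ⊤) :
    ∃ (E : Type u) (_ : AddCommGroup E) (_ : Module A E) (_ : Module.Finite A E) (n : ℕ)
      (_ : m ^ n • (⊤ : Submodule A E) = ⊥) (f : K ⟶ (shiftFunctor (Dual.D A) (-i)).obj (Dual.inD A E)),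
      (DerivedCategory.homologyFunctor (ModuleCat.{u} A) i).map f ≠ 0 := by
  obtain ⟨P, b, hPb, hP, ⟨e⟩⟩ := (Groth.Agent.H9Misc.DRingPC.pc'_iff K).2 fun m' =>
    (Groth.Agent.S6942.result A m' K A).1.2 ⟨hb, fun j _ => hfin j⟩
  let H := P.homology i
  let C := P.opcycles i
  let ι : H ⟶ C := P.homologyι i
  haveI : Module.Finite A (P.X i) := (hP i).1
  haveI hCfin : Module.Finite A C := Module.Finite.of_surjective (P.pOpcycles i).hom
    ((ModuleCat.epi_iff_surjective (P.pOpcycles i)).1 inferInstance)
  let eH : H ≅ (DerivedCategory.homologyFunctor (ModuleCat.{u} A) i).obj K :=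
    ((DerivedCategory.homologyFunctorFactors (ModuleCat.{u} A) i).app P).symm ≪≫
      (DerivedCategory.homologyFunctor (ModuleCat.{u} A) i).mapIso e
  obtain ⟨k, hk⟩ := m.exists_pow_inf_eq_pow_smul (LinearMap.range ι.hom)
  let S : Submodule A C := m ^ (k + 1) • ⊤
  let ψ : P.X i ⟶ ModuleCat.of A (C ⧸ S) := P.pOpcycles i ≫ ModuleCat.ofHom S.mkQ
  let φ : P ⟶ (HomologicalComplex.single (ModuleCat.{u} A) (ComplexShape.up ℤ) i).obj (ModuleCat.of A (C ⧸ S)) :=
    HomologicalComplex.mkHomToSingle ψ (fun j _ => by simp [ψ])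
  have hφ : HomologicalComplex.homologyMap φ i ≠ 0 := by
    intro h0
    have h1 : HomologicalComplex.cyclesMap φ i = 0 := by
      haveI : IsIso (((HomologicalComplex.single (ModuleCat.{u} A) (ComplexShape.up ℤ) i).obj
          (ModuleCat.of A (C ⧸ S))).homologyπ i) :=
        HomologicalComplex.isIso_homologyπ _ (i - 1) i (by simp) (by simp)
      rw [← cancel_mono (((HomologicalComplex.single (ModuleCat.{u} A) (ComplexShape.up ℤ) i).obj
          (ModuleCat.of A (C ⧸ S))).homologyπ i), zero_comp, ← HomologicalComplex.homologyπ_naturality,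
        h0, comp_zero]
    have h2 : P.iCycles i ≫ φ.f i = 0 := by
      rw [← HomologicalComplex.cyclesMap_i, h1, zero_comp]
    have h3 : ι ≫ ModuleCat.ofHom S.mkQ = 0 := by
      rw [← cancel_epi (P.homologyπ i), comp_zero]
      rw [HomologicalComplex.mkHomToSingle_f, ← Category.assoc, Preadditive.IsIso.comp_right_eq_zero] at h2
      rw [← h2]
      simp [ψ, ι]
    have hle : LinearMap.range ι.hom ≤ m • LinearMap.range ι.hom := fun x hx => by
      have hxS : x ∈ S := by
        obtain ⟨y, rfl⟩ := hx
        exact (Submodule.Quotient.mk_eq_zero S).1 (LinearMap.congr_fun (congrArg ModuleCat.Hom.hom h3) y)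
      have := (hk (k + 1) (by omega)).le ⟨hxS, hx⟩
      rw [show k + 1 - k = 1 by omega, pow_one] at this
      exact Submodule.smul_mono le_rfl inf_le_right this
    have hinj : Function.Injective ι.hom := (ModuleCat.mono_iff_injective ι).1 inferInstance
    have htop : m • (⊤ : Submodule A H) = ⊤ := top_le_iff.1 fun y _ => by
      obtain ⟨y', hy', hyy'⟩ : ι.hom y ∈ (m • (⊤ : Submodule A H)).map ι.hom := by
        rw [Submodule.map_smul'', Submodule.map_top]
        exact hle ⟨y, rfl⟩
      rwa [← hinj hyy']
    refine hi ?_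
    have hsurj : LinearMap.range eH.hom.hom = ⊤ := LinearMap.range_eq_top.2 eH.toLinearEquiv.surjective
    calc m • (⊤ : Submodule A (Dual.HD A K i)) = m • (⊤ : Submodule A H).map eH.hom.hom := by
          rw [Submodule.map_top, hsurj]
      _ = (m • (⊤ : Submodule A H)).map eH.hom.hom := (Submodule.map_smul'' _ _ _).symm
      _ = ⊤ := by rw [htop, Submodule.map_top, hsurj]
  let eS : DerivedCategory.Q.obj ((HomologicalComplex.single (ModuleCat.{u} A) (ComplexShape.up ℤ) i).obj (ModuleCat.of A (C ⧸ S))) ≅
      (shiftFunctor (Dual.D A) (-i)).obj (Dual.inD A (C ⧸ S)) :=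
    (((DerivedCategory.singleFunctors (ModuleCat.{u} A)).shiftIso (-i) i 0 (by omega)).app (ModuleCat.of A (C ⧸ S))).symm
  refine ⟨C ⧸ S, inferInstance, inferInstance, inferInstance, k + 1, ?_, e.inv ≫ DerivedCategory.Q.map φ ≫ eS.hom, fun h0 => hφ ?_⟩
  · rw [show (⊤ : Submodule A (C ⧸ S)) = Submodule.map S.mkQ ⊤ from (by rw [Submodule.map_top, Submodule.range_mkQ]),
      ← Submodule.map_smul'']
    exact Submodule.mkQ_map_self S
  · let HF := DerivedCategory.homologyFunctor (ModuleCat.{u} A) i
    have h1 : HF.map (DerivedCategory.Q.map φ) = 0 := by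
      rw [Functor.map_comp, Functor.map_comp, Preadditive.IsIso.comp_left_eq_zero,
        Preadditive.IsIso.comp_right_eq_zero] at h0
      exact h0
    have h2 := (DerivedCategory.homologyFunctorFactors (ModuleCat.{u} A) i).hom.naturality φ
    rw [Functor.comp_map, h1, zero_comp] at h2
    exact (cancel_epi ((DerivedCategory.homologyFunctorFactors (ModuleCat.{u} A) i).hom.app P)).1
      (h2.symm.trans comp_zero.symm)

end Groth.Agent.S6989
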