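import Groth.Statements.S6991
import Mathlib
import Groth.Agent.RelFP.Basic

set_option autoImplicit false
universe u
open CAlg

namespace Groth.Agent.S6991

/-- Let R → A be a finite type homomorphism of commutative rings, M an A-module, and α : R[x_1, ...,
x_n] → A, β : R[y_1, ..., y_k] → A surjective R-algebra homomorphisms. Then M is finitely presented
as an R[x_1, ..., x_n]-module through α if and only if M is finitely presented as an R[y_1, ...,
y_k]-module through β. If this holds, M is a finitely presented A-module. -/
theorem result {R A : Type u} [CommRing R] [CommRing A] [Algebra R A]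
    [Algebra.FiniteType R A] (M : Type u) [AddCommGroup M] [Module A M] {n k : ℕ}
    (α : MvPolynomial (Fin n) R →ₐ[R] A) (hα : Function.Surjective α)
    (β : MvPolynomial (Fin k) R →ₐ[R] A) (hβ : Function.Surjective β) :
    (@Module.FinitePresentation (MvPolynomial (Fin n) R) M _ _ (Module.compHom M α.toRingHom) ↔
      @Module.FinitePresentation (MvPolynomial (Fin k) R) M _ _ (Module.compHom M β.toRingHom)) ∧
      (@Module.FinitePresentation (MvPolynomial (Fin n) R) M _ _ (Module.compHom M α.toRingHom) →
        Module.FinitePresentation A M) := by
  have hα' : α.toRingHom.Finite := RingHom.Finite.of_surjective α.toRingHom hα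
  have hβ' : β.toRingHom.Finite := RingHom.Finite.of_surjective β.toRingHom hβ
  refine ⟨Groth.Agent.RelFP.fpVia_indep α β hα' hβ' M, fun h => ?_⟩
  letI := α.toRingHom.toAlgebra
  letI : Module (MvPolynomial (Fin n) R) M := Module.compHom M α.toRingHom
  haveI : IsScalarTower (MvPolynomial (Fin n) R) A M := IsScalarTower.of_algebraMap_smul fun _ _ => rfl
  haveI : Module.FinitePresentation (MvPolynomial (Fin n) R) M := h
  exact Groth.Agent.RelFP.of_surjective_algebraMap (MvPolynomial (Fin n) R) A M hα

end Groth.Agent.S6991
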