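import Groth.Statements.S6994
import Groth.Agent.H9Misc.DRingGlobalDim

set_option autoImplicit false
universe u
open CategoryTheory CategoryTheory.Limits
attribute [local instance] HasDerivedCategory.standard
open DRing

namespace Groth.Agent.S6994

/-- Let R be a Noetherian regular commutative ring (its localization at every prime is a regular local
ring) of finite Krull dimension d. Let K and L be objects of D(R) whose cohomology vanishes in large
degrees, and suppose there is an integer k with H^i(K) = 0 for all i ≤ k and H^i(L) = 0 for all i ≥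
k - d + 1. Then every morphism K → L in D(R) is zero. -/
theorem result (R : Type u) [CommRing R] [IsNoetherianRing R]
    (hreg : ∀ p : PrimeSpectrum R, IsRegularLocalRing (Localization.AtPrime p.asIdeal)) (d : ℕ)
    (hd : ringKrullDim R = d) (K L : Dual.D R) (hKb : ∃ b : ℤ, ∀ i : ℤ, b < i → Subsingleton (Dual.HD R K i))
    (hLb : ∃ b : ℤ, ∀ i : ℤ, b < i → Subsingleton (Dual.HD R L i)) (k : ℤ)
    (hK : ∀ i : ℤ, i ≤ k → Subsingleton (Dual.HD R K i)) (hL : ∀ i : ℤ, k - d + 1 ≤ i → Subsingleton (Dual.HD R L i)) :
    Subsingleton (K ⟶ L) := by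
  obtain ⟨b, hb⟩ := hKb
  refine Groth.Agent.H9Misc.DRingGlobalDim.hom_subsingleton_of_gap d
    (fun M => Groth.Agent.H9Misc.DRingGlobalDim.pd_le hreg d hd.le M) (a := k + 1) (b := b)
    (fun n hn => hn.elim (fun h => hK n (by omega)) (hb n)) (fun i hi => hL i (by omega))

end Groth.Agent.S6994
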