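import Groth.Statements.S6998
import Groth.Agent.H9Misc.DRingRelPC5

set_option autoImplicit false
universe u
open CategoryTheory CategoryTheory.Limits
attribute [local instance] HasDerivedCategory.standard
open DerCA

namespace Groth.Agent.S6998

/-- Let R → A be a finite type homomorphism of commutative rings and R → R' a ring homomorphism such
that Tor_p^R(A, R') = 0 for every p > 0; put A' = R' ⊗_R A and assume the derived base change D(A) →
D(A') exists. Let K be an object of D(A) and m an integer. If K is m-pseudo-coherent relative to R,
then K ⊗^L_A A' is m-pseudo-coherent relative to R'; if K is pseudo-coherent relative to R, then K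
⊗^L_A A' is pseudo-coherent relative to R'. -/
theorem result {R A R' : Type u} [CommRing R] [CommRing A]
    [CommRing R'] [Algebra R A] [Algebra.FiniteType R A] [Algebra R R']
    (htor : ∀ p : ℕ, 0 < p → Subsingleton (DRing.Tor R p A R'))
    [DRing.HasLBaseChange (Algebra.TensorProduct.includeRight : A →ₐ[R] TensorProduct R R' A).toRingHom]
    (K : Dual.D A) (m : ℤ) :
    (DerCA.IsRelPseudoCoherent R A m K → DerCA.IsRelPseudoCoherent R' (TensorProduct R R' A) m
      ((DRing.LBaseChange (Algebra.TensorProduct.includeRight : A →ₐ[R] TensorProduct R R' A).toRingHom).obj K)) ∧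
      (DerCA.IsRelPseudoCoherentAll R A K → DerCA.IsRelPseudoCoherentAll R' (TensorProduct R R' A)
        ((DRing.LBaseChange (Algebra.TensorProduct.includeRight : A →ₐ[R] TensorProduct R R' A).toRingHom).obj K)) := by
  exact ⟨Groth.Agent.H9Misc.DRingRelPC.lbase_of_tor htor K m,
    fun h i => Groth.Agent.H9Misc.DRingRelPC.lbase_of_tor htor K i (h i)⟩

end Groth.Agent.S6998
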