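import Groth.Statements.S7000
import Groth.Agent.H9Misc.DRingRestrict

set_option autoImplicit false
universe u
open CategoryTheory CategoryTheory.Limits
attribute [local instance] HasDerivedCategory.standard
open DRing

namespace Groth.Agent.S7000

/-- Let A → B be a flat homomorphism of commutative rings, m an integer and M an A-module. If M is
m-pseudo-coherent then the B-module B ⊗_A M is m-pseudo-coherent; if M is pseudo-coherent then B ⊗_A
M is pseudo-coherent. -/
theorem result {A B : Type u} [CommRing A] [CommRing B] [Algebra A B]
    [Module.Flat A B] (m : ℤ) (M : Type u) [AddCommGroup M] [Module A M] :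
    (DRing.IsPseudoCoherentModule A m M → DRing.IsPseudoCoherentModule B m (TensorProduct A B M)) ∧
      (DRing.IsPseudoCoherentModule' A M → DRing.IsPseudoCoherentModule' B (TensorProduct A B M)) := by
  have key : ∀ n : ℤ, DRing.IsPseudoCoherentModule A n M →
      DRing.IsPseudoCoherentModule B n (TensorProduct A B M) := by
    intro n hM
    have h := Groth.Agent.H9Misc.DRingRestrict.module_baseChange (algebraMap A B)
      (RingHom.flat_algebraMap_iff.2 inferInstance) n (ModuleCat.of A M) hM
    rename_i i1 i2 i3 i4 i5 i6
    have he : (algebraMap A B).toAlgebra = i3 := Algebra.algebra_ext _ _ fun _ => rfl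
    revert h
    generalize algebraMap A B = φ at he
    subst he
    exact fun h => h
  exact ⟨key m, fun h => (Groth.Agent.H9Misc.DRingPC.pc'_iff _).2 fun n =>
    key n ((Groth.Agent.H9Misc.DRingPC.pc'_iff _).1 h n)⟩

end Groth.Agent.S7000
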