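import Groth.Statements.S7001
import Groth.Agent.H9Misc.DRingLBase

set_option autoImplicit false
universe u
open CategoryTheory CategoryTheory.Limits
attribute [local instance] HasDerivedCategory.standard
open DRing

namespace Groth.Agent.S7001

/-- Let A → B be a flat homomorphism of commutative rings, d a natural number and M an A-module of tor
dimension at most d, in the sense that M[0] is isomorphic in D(A) to a complex of flat A-modules
vanishing outside [-d, 0]. Then (B ⊗_A M)[0] is isomorphic in D(B) to a complex of flat B-modules
vanishing outside [-d, 0]. -/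
theorem result {A B : Type u} [CommRing A] [CommRing B] [Algebra A B]
    [Module.Flat A B] (d : ℕ) (M : Type u) [AddCommGroup M] [Module A M]
    (hM : DRing.HasTorAmplitudeIn A (-(d : ℤ)) 0 (Dual.inD A M)) :
    DRing.HasTorAmplitudeIn B (-(d : ℤ)) 0 (Dual.inD B (TensorProduct A B M)) := by
  have h := Groth.Agent.H9Misc.DRingLBase.inD_baseChange (algebraMap A B)
    (RingHom.flat_algebraMap_iff.2 inferInstance) (ModuleCat.of A M) hM
  rename_i i1 i2 i3 i4 i5 i6
  have he : (algebraMap A B).toAlgebra = i3 := Algebra.algebra_ext _ _ fun _ => rfl
  revert h
  generalize algebraMap A B = φ at he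
  subst he
  exact fun h => h

end Groth.Agent.S7001
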