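import Groth.Statements.S7003
import Groth.Agent.H9Misc.DRingSplit

set_option autoImplicit false
universe u
open CategoryTheory CategoryTheory.Limits
attribute [local instance] HasDerivedCategory.standard
open DRing

namespace Groth.Agent.S7003

/-- Let R be a commutative ring, a an integer and K an object of D(R) whose cohomology vanishes in large
degrees. Assume that for every injective R-linear map M → M' the induced map Hom(K, M[-a]) → Hom(K,
M'[-a]) in D(R) is injective. Then K ≅ τ_(≤ a) K ⊕ τ_(≥ a+1) K by an isomorphism carrying τ_(≤ a) K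
→ K to the first inclusion and K → τ_(≥ a+1) K to the second projection, and τ_(≥ a+1) K is
isomorphic in D(R) to a complex of projective modules vanishing outside [a+1, b] for some integer b.
(The published statement also asserts that the decomposition is unique; that part is not restated.) -/
theorem result (R : Type u) [CommRing R] (a : ℤ) (K : Dual.D R)
    (hKb : ∃ b : ℤ, ∀ i : ℤ, b < i → Subsingleton (Dual.HD R K i))
    (h : ∀ (M M' : Type u) [AddCommGroup M] [Module R M] [AddCommGroup M'] [Module R M'] (g : M →ₗ[R] M'),
      Function.Injective g → Function.Injective (fun x : K ⟶ (shiftFunctor (Dual.D R) (-a)).obj (Dual.inD R M) =>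
        x ≫ (shiftFunctor (Dual.D R) (-a)).map
          ((DerivedCategory.singleFunctor (ModuleCat.{u} R) 0).map (ModuleCat.ofHom g))))
    [HasBinaryBiproduct (((DerivedCategory.TStructure.t : Triangulated.TStructure (Dual.D R)).truncLT (a + 1)).obj K) (((DerivedCategory.TStructure.t : Triangulated.TStructure (Dual.D R)).truncGE (a + 1)).obj K)] :
    (∃ e : K ≅ ((DerivedCategory.TStructure.t : Triangulated.TStructure (Dual.D R)).truncLT (a + 1)).obj K ⊞ ((DerivedCategory.TStructure.t : Triangulated.TStructure (Dual.D R)).truncGE (a + 1)).obj K,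
      ((DerivedCategory.TStructure.t : Triangulated.TStructure (Dual.D R)).truncLTι (a + 1)).app K ≫ e.hom = biprod.inl ∧
        e.hom ≫ biprod.snd = ((DerivedCategory.TStructure.t : Triangulated.TStructure (Dual.D R)).truncGEπ (a + 1)).app K) ∧
      ∃ (P : DRing.Cx R) (b : ℤ), DRing.VanishesOutside P (a + 1) b ∧ (∀ i : ℤ, Module.Projective R (P.X i)) ∧
        Nonempty (DRing.toD P ≅ ((DerivedCategory.TStructure.t : Triangulated.TStructure (Dual.D R)).truncGE (a + 1)).obj K) := by
  have hI : ∀ (M : Type u) [AddCommGroup M] [Module R M],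
      Subsingleton (((DerivedCategory.TStructure.t : Triangulated.TStructure (Dual.D R)).truncGE (a + 1)).obj K ⟶
        (shiftFunctor (Dual.D R) (-a)).obj (Dual.inD R M)) := by
    intro M _ _
    let ι := Injective.ι (ModuleCat.of R M)
    have hinj : Function.Injective ι.hom := (ModuleCat.mono_iff_injective _).1 inferInstance
    suffices ∀ f : ((DerivedCategory.TStructure.t : Triangulated.TStructure (Dual.D R)).truncGE (a + 1)).obj K ⟶
        (shiftFunctor (Dual.D R) (-a)).obj (Dual.inD R M), f = 0 from
      ⟨fun f g => (this f).trans (this g).symm⟩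
    intro f
    apply Groth.Agent.H9Misc.DRingSplit.eq_zero_of_comp_π K a (ModuleCat.of R M) f
    let I : ModuleCat.{u} R := Injective.under (ModuleCat.of R M)
    apply h M I ι.hom hinj
    obtain ⟨b, hb⟩ := hKb
    have hL := Groth.Agent.H9Misc.DRingSplit.isLE_truncGE K a (b := max b a)
      (fun i hi => hb i (by omega)) (le_max_right _ _)
    have h0 := Groth.Agent.H9Misc.DRingSplit.eq_zero_of_injective a hL
      (Groth.Agent.H9Misc.DRingSplit.hd_of_isGE (n := a + 1) inferInstance a (by omega))
      (Injective.under (ModuleCat.of R M))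
      (f ≫ (shiftFunctor (Dual.D R) (-a)).map
        ((DerivedCategory.singleFunctor (ModuleCat.{u} R) 0).map (ModuleCat.ofHom ι.hom)))
    show (_ ≫ f) ≫ _ = 0 ≫ _
    rw [Category.assoc, zero_comp]
    exact (congrArg (_ ≫ ·) h0).trans comp_zero
  obtain ⟨P, b, hz, hP, ⟨e⟩⟩ := Groth.Agent.H9Misc.DRingSplit.exists_rep K a hKb hI
  exact ⟨Groth.Agent.H9Misc.DRingSplit.split K a hz hP e, P, b, hz, hP, ⟨e⟩⟩

end Groth.Agent.S7003
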