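import Groth.Statements.S7007
import Mathlib
import Groth.Agent.RelFP.Basic

set_option autoImplicit false
universe u
open CAlg

namespace Groth.Agent.S7007

/-- Let R → A be a finite type homomorphism of commutative rings with a surjective R-algebra
homomorphism α : R[x_1, ..., x_n] → A, M an A-module, f_1, ..., f_r elements of A generating the
unit ideal, and for each i a surjective R-algebra homomorphism γ_i : R[z_1, ..., z_(k_i)] → A_(f_i).
Then M is finitely presented as an R[x_1, ..., x_n]-module through α if and only if, for every i,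
the localization M_(f_i) is finitely presented as an R[z_1, ..., z_(k_i)]-module through γ_i. -/
theorem result {R A : Type u} [CommRing R] [CommRing A] [Algebra R A]
    {n : ℕ} (α : MvPolynomial (Fin n) R →ₐ[R] A) (hα : Function.Surjective α) (M : Type u) [AddCommGroup M]
    [Module A M] {r : ℕ} (f : Fin r → A) (hf : Ideal.span (Set.range f) = ⊤) (k : Fin r → ℕ)
    (γ : ∀ i, MvPolynomial (Fin (k i)) R →ₐ[R] Localization.Away (f i)) (hγ : ∀ i, Function.Surjective (γ i)) :
    @Module.FinitePresentation (MvPolynomial (Fin n) R) (M) _ _ (Module.compHom (M) α.toRingHom) ↔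
      ∀ i, @Module.FinitePresentation (MvPolynomial (Fin (k i)) R) (LocalizedModule (Submonoid.powers (f i)) M) _ _ (Module.compHom (LocalizedModule (Submonoid.powers (f i)) M) (γ i).toRingHom) := by
  classical
  let P := MvPolynomial (Fin n) R
  letI : Algebra P A := α.toRingHom.toAlgebra
  letI : Module P M := Module.compHom M α.toRingHom
  haveI : IsScalarTower P A M := IsScalarTower.of_algebraMap_smul fun _ _ => rfl
  haveI : IsScalarTower R P A := IsScalarTower.of_algebraMap_eq fun r => (α.commutes r).symm
  have hγ' := fun i => RingHom.Finite.of_surjective (γ i).toRingHom (hγ i)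
  constructor
  · intro hM i
    haveI : Module.FinitePresentation P M := hM
    exact Groth.Agent.RelFP.fpVia_localization (R := R) (P := P) hα (f i) (γ i) (hγ' i) M
  · intro h
    choose g hg using fun i => hα (f i)
    obtain ⟨c, hc⟩ := (Ideal.mem_span_range_iff_exists_fun (R := A) (v := f) (x := (1 : A))).mp (hf ▸ Submodule.mem_top)
    choose d hd using fun i => hα (c i)
    let κ : P := 1 - ∑ i, d i * g i
    have hκ : α κ = 0 := by simp [κ, map_sum, hd, hg, hc]
    refine Module.FinitePresentation.of_localizationSpan (insert κ (Set.range g)) ?_ ?_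
    · rw [Ideal.eq_top_iff_one, show (1 : P) = κ + ∑ i, d i * g i from (sub_add_cancel _ _).symm]
      exact add_mem (Ideal.subset_span (Set.mem_insert _ _))
        (Ideal.sum_mem _ fun i _ => Ideal.mul_mem_left _ _ (Ideal.subset_span (Set.mem_insert_of_mem _ ⟨i, rfl⟩)))
    · rintro ⟨x, rfl | ⟨i, rfl⟩⟩
      · haveI : Subsingleton (LocalizedModule.Away κ M) := LocalizedModule.subsingleton_iff.mpr fun m =>
          ⟨κ, Submonoid.mem_powers κ, by show α κ • m = 0; rw [hκ, zero_smul]⟩
        infer_instance
      · exact (Groth.Agent.RelFP.fpVia_away_iff (R := R) hα (g i) (f i) (hg i) (γ i) (hγ' i) M).mp (h i)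

end Groth.Agent.S7007
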