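import Groth.Statements.S7008
import Groth.Agent.H9Misc.DRingRelPC3
import Mathlib

set_option autoImplicit false
universe u
open CategoryTheory CategoryTheory.Limits
attribute [local instance] HasDerivedCategory.standard
open DerCA

namespace Groth.Agent.S7008

/-- Let R be a commutative ring, f an element of R, A a finite type R_f-algebra, g an element of A, K a
cochain complex of A-modules and m an integer; write K_g for the termwise localization K ⊗_A A_g, a
complex over the finite type R-algebra A_g. Suppose K is m-pseudo-coherent relative to R_f; then K_g
is m-pseudo-coherent relative to R. Suppose K is pseudo-coherent relative to R_f in every degree;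
then so is K_g relative to R. -/
theorem result {R A : Type u} [CommRing R] [CommRing A] (f : R) [Algebra R A]
    [Algebra (Localization.Away f) A] [IsScalarTower R (Localization.Away f) A]
    [Algebra.FiniteType (Localization.Away f) A] (g : A) (K : DRing.Cx A) (m : ℤ) :
    (DerCA.IsRelPseudoCoherent (Localization.Away f) A m (DRing.toD K) →
      DerCA.IsRelPseudoCoherent R (Localization.Away g) m
        (DRing.toD (((ModuleCat.extendScalars (algebraMap A (Localization.Away g))).mapHomologicalComplex
          (ComplexShape.up ℤ)).obj K))) ∧
      (DerCA.IsRelPseudoCoherentAll (Localization.Away f) A (DRing.toD K) →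
        DerCA.IsRelPseudoCoherentAll R (Localization.Away g)
          (DRing.toD (((ModuleCat.extendScalars (algebraMap A (Localization.Away g))).mapHomologicalComplex
            (ComplexShape.up ℤ)).obj K))) := by
  haveI : Algebra.FiniteType R A := Algebra.FiniteType.trans (S := Localization.Away f) inferInstance inferInstance
  have hA : DerCA.IsRelPseudoCoherentModuleAll R (Localization.Away f) (Localization.Away f) := by
    intro i
    let α : MvPolynomial (Fin 1) R →ₐ[R] Localization.Away f :=
      MvPolynomial.aeval fun _ => IsLocalization.Away.invSelf f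
    have hα : Function.Surjective α := fun x => by
      obtain ⟨⟨a, ⟨_, k, rfl⟩⟩, hx⟩ := IsLocalization.surj (Submonoid.powers f) x
      refine ⟨MvPolynomial.C a * MvPolynomial.X 0 ^ k, ?_⟩
      simp only [α, map_mul, map_pow, MvPolynomial.aeval_C, MvPolynomial.aeval_X]
      rw [← hx, mul_assoc, map_pow, ← mul_pow, IsLocalization.Away.mul_invSelf, one_pow, mul_one]
    exact (Groth.Agent.H9Misc.DRingRelPC.module_iff α hα _ i).2
      ((Groth.Agent.H9Misc.DRingPC.pc'_iff _).1 (Groth.Agent.H9Misc.DRingRelPC.pcHom_away_mv f) i)
  refine ⟨fun h => ?_, fun h i => ?_⟩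
  · exact Groth.Agent.H9Misc.DRingRelPC.away_of g K m
      ((Groth.Agent.H9Misc.DRingRelPC.intermediate_iff hA _ m).1 h)
  · exact Groth.Agent.H9Misc.DRingRelPC.away_of g K i
      ((Groth.Agent.H9Misc.DRingRelPC.intermediate_iff hA _ i).1 (h i))

end Groth.Agent.S7008
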