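import Groth.Statements.S7015
import Groth.Agent.H9Misc.DRingExactPairing

set_option autoImplicit false
universe u
open CategoryTheory MonoidalCategory
open DRing

namespace Groth.Agent.S7015

/-- Let R be a commutative ring and M, N R-modules such that N is a left dual of M for the tensor
product of R-modules, i.e. there are a coevaluation R → M ⊗ N and an evaluation N ⊗ M → R satisfying
the triangle identities (an exact pairing). Then M and N are finitely generated projective
R-modules. -/
theorem result (R : Type u) [CommRing R] (M N : Type u) [AddCommGroup M]
    [Module R M] [AddCommGroup N] [Module R N] [ExactPairing (ModuleCat.of R M) (ModuleCat.of R N)] :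
    Module.Finite R M ∧ Module.Projective R M ∧ Module.Finite R N ∧ Module.Projective R N := by
  obtain ⟨h, h'⟩ :=
    Groth.Agent.H9Misc.DRingExactPairing.finite_projective_module (ModuleCat.of R M) (ModuleCat.of R N)
  exact ⟨h.1, h.2, h'.1, h'.2⟩

end Groth.Agent.S7015
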