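import Groth.Statements.S7021
import Groth.Agent.H9Misc.DRingRelPC

set_option autoImplicit false
universe u
open CategoryTheory CategoryTheory.Limits
attribute [local instance] HasDerivedCategory.standard
open DerCA

namespace Groth.Agent.S7021

/-- Let R → A be a finite type homomorphism of commutative rings, α : R[x_1, ..., x_n] → A a surjective
R-algebra homomorphism and M an A-module. Then relative 0-pseudo-coherence of M over R amounts to M
being a finitely generated A-module, and relative (-1)-pseudo-coherence of M over R amounts to M
being finitely presented as an R[x_1, ..., x_n]-module through α. -/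
theorem result {R A : Type u} [CommRing R] [CommRing A]
    [Algebra R A] [Algebra.FiniteType R A] {n : ℕ} (α : MvPolynomial (Fin n) R →ₐ[R] A)
    (hα : Function.Surjective α) (M : Type u) [AddCommGroup M] [Module A M] :
    (DerCA.IsRelPseudoCoherentModule R A 0 M ↔ Module.Finite A M) ∧
      (DerCA.IsRelPseudoCoherentModule R A (-1) M ↔
        @Module.FinitePresentation (MvPolynomial (Fin n) R) M _ _ (Module.compHom M α.toRingHom)) := by
  let φ : MvPolynomial (Fin n) R →+* A := α
  letI := φ.toAlgebra
  let N := (ModuleCat.restrictScalars φ).obj (ModuleCat.of A M)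
  refine ⟨(Groth.Agent.H9Misc.DRingRelPC.module_iff α hα M 0).trans ⟨fun h => ?_, fun h => ?_⟩,
    (Groth.Agent.H9Misc.DRingRelPC.module_iff α hα M (-1)).trans ⟨fun h => ?_, fun h => ?_⟩⟩
  · letI : Module (MvPolynomial (Fin n) R) M := Module.compHom M φ
    haveI : IsScalarTower (MvPolynomial (Fin n) R) A M := IsScalarTower.of_algebraMap_smul fun _ _ => rfl
    haveI : Module.Finite (MvPolynomial (Fin n) R) M :=
      Groth.Agent.H9Misc.DRingPC.finite_of_pc (M := N) h
    exact Module.Finite.of_restrictScalars_finite (MvPolynomial (Fin n) R) A M
  · letI : Module (MvPolynomial (Fin n) R) M := Module.compHom M φ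
    haveI : IsScalarTower (MvPolynomial (Fin n) R) A M := IsScalarTower.of_algebraMap_smul fun _ _ => rfl
    haveI : Module.Finite (MvPolynomial (Fin n) R) A :=
      Module.Finite.of_surjective (Algebra.linearMap (MvPolynomial (Fin n) R) A) hα
    haveI := h
    haveI : Module.Finite (MvPolynomial (Fin n) R) N :=
      (Module.Finite.trans A M : Module.Finite (MvPolynomial (Fin n) R) M)
    exact Groth.Agent.H9Misc.DRingPC.pc_zero_of_finite N
  · exact Groth.Agent.H9Misc.DRingPC.finitePresentation_of_pc (M := N) h
  · haveI : Module.FinitePresentation (MvPolynomial (Fin n) R) N := h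
    exact Groth.Agent.H9Misc.DRingPC.pc_neg_one_of_finitePresentation N

end Groth.Agent.S7021
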