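import Groth.Statements.S7023
import Groth.Agent.H9Misc.DRingRelPC

set_option autoImplicit false
universe u
open CategoryTheory CategoryTheory.Limits
attribute [local instance] HasDerivedCategory.standard
open DerCA

namespace Groth.Agent.S7023

/-- Let R → A be a finite type homomorphism of commutative rings, m an integer and K a bounded above
cochain complex of A-modules such that the module K^i is (m - i)-pseudo-coherent relative to R for
every i. Then K is m-pseudo-coherent relative to R. Moreover, K is pseudo-coherent over R as soon as
each of its terms K^i is so. -/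
theorem result {R A : Type u} [CommRing R] [CommRing A] [Algebra R A] [Algebra.FiniteType R A] (m : ℤ) (K : DRing.Cx A) (b : ℤ)
    (hb : DRing.VanishesAbove K b) :
    ((∀ i : ℤ, DerCA.IsRelPseudoCoherentModule R A (m - i) (K.X i)) → DerCA.IsRelPseudoCoherent R A m (DRing.toD K)) ∧
      ((∀ i : ℤ, DerCA.IsRelPseudoCoherentModuleAll R A (K.X i)) →
        DerCA.IsRelPseudoCoherentAll R A (DRing.toD K)) := by
  obtain ⟨n, α, hα⟩ := Groth.Agent.H9Misc.DRingRelPC.exists_presentation R A
  exact ⟨Groth.Agent.H9Misc.DRingRelPC.of_terms α hα K b hb m,
    fun h k => Groth.Agent.H9Misc.DRingRelPC.of_terms α hα K b hb k fun i => h i (k - i)⟩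

end Groth.Agent.S7023
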