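import Groth.Statements.S7026
import Groth.Agent.H9Misc.DRingRestrict

set_option autoImplicit false
universe u
open CategoryTheory CategoryTheory.Limits
attribute [local instance] HasDerivedCategory.standard
open DerCA

namespace Groth.Agent.S7026

/-- Let R be a Noetherian commutative ring, R → A a finite type ring homomorphism, m an integer, K an
object of D(A) and M an A-module. Then: m-pseudo-coherence of K relative to R is equivalent to
H^i(K) vanishing for all large i together with H^i(K) being a finitely generated A-module for each i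
≥ m; pseudo-coherence of K relative to R (every degree) is equivalent to the same with H^i(K)
finitely generated for every i; and the A-module M is pseudo-coherent relative to R exactly when M
is finitely generated. -/
theorem result {R A : Type u} [CommRing R]
    [IsNoetherianRing R] [CommRing A] [Algebra R A] [Algebra.FiniteType R A] (m : ℤ) (K : Dual.D A)
    (M : Type u) [AddCommGroup M] [Module A M] :
    (DerCA.IsRelPseudoCoherent R A m K ↔
      (∃ b : ℤ, ∀ i : ℤ, b < i → Subsingleton (Dual.HD A K i)) ∧ ∀ i : ℤ, m ≤ i → Module.Finite A (Dual.HD A K i)) ∧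
    (DerCA.IsRelPseudoCoherentAll R A K ↔
      (∃ b : ℤ, ∀ i : ℤ, b < i → Subsingleton (Dual.HD A K i)) ∧ ∀ i : ℤ, Module.Finite A (Dual.HD A K i)) ∧
    (DerCA.IsRelPseudoCoherentModuleAll R A M ↔ Module.Finite A M) := by
  obtain ⟨n₀, α₀, hα₀⟩ := Algebra.FiniteType.iff_quotient_mvPolynomial''.1
    (inferInstance : Algebra.FiniteType R A)
  have key : ∀ (n : ℕ) (α : MvPolynomial (Fin n) R →ₐ[R] A), Function.Surjective α → ∀ (m : ℤ) (K : Dual.D A),
      (DerCA.IsRelPseudoCoherentVia α m K ↔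
        (∃ b : ℤ, ∀ i : ℤ, b < i → Subsingleton (Dual.HD A K i)) ∧
          ∀ i : ℤ, m ≤ i → Module.Finite A (Dual.HD A K i)) := by
    intro n α hα m K
    let φ : MvPolynomial (Fin n) R →+* A := α
    have hfin : ∀ i, Module.Finite (MvPolynomial (Fin n) R)
        (Dual.HD (MvPolynomial (Fin n) R) ((DRing.restrictD φ).obj K) i) ↔ Module.Finite A (Dual.HD A K i) := by
      intro i
      refine (Module.Finite.equiv_iff
        (Groth.Agent.H9Misc.DRingRestrict.HDRestrictIso φ K i).toLinearEquiv).trans ?_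
      letI := φ.toAlgebra
      letI : Module (MvPolynomial (Fin n) R) (Dual.HD A K i) := Module.compHom _ φ
      haveI : IsScalarTower (MvPolynomial (Fin n) R) A (Dual.HD A K i) :=
        IsScalarTower.of_algebraMap_smul fun _ _ => rfl
      haveI : Module.Finite (MvPolynomial (Fin n) R) A :=
        Module.Finite.of_surjective (Algebra.linearMap (MvPolynomial (Fin n) R) A) hα
      exact ⟨fun h => haveI : Module.Finite (MvPolynomial (Fin n) R) (Dual.HD A K i) := h
          Module.Finite.of_restrictScalars_finite (MvPolynomial (Fin n) R) A _,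
        fun h => haveI := h; (Module.Finite.trans A (Dual.HD A K i) : Module.Finite (MvPolynomial (Fin n) R) _)⟩
    have hsub : ∀ i, Subsingleton (Dual.HD (MvPolynomial (Fin n) R) ((DRing.restrictD φ).obj K) i) ↔
        Subsingleton (Dual.HD A K i) := fun i =>
      (Groth.Agent.H9Misc.DRingRestrict.HDRestrictIso φ K i).toLinearEquiv.toEquiv.subsingleton_congr
    show DRing.IsPseudoCoherent (MvPolynomial (Fin n) R) m ((DRing.restrictD φ).obj K) ↔ _
    refine ⟨fun h => ?_, fun ⟨⟨b, hb⟩, hf⟩ => ?_⟩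
    · obtain ⟨b, hb⟩ := Groth.Agent.H9Misc.DRingPC.exists_bound h
      exact ⟨⟨b, fun i hi => (hsub i).1 (ModuleCat.subsingleton_of_isZero (hb i hi))⟩,
        fun i hi => (hfin i).1 (Groth.Agent.H9Misc.DRingPC.finite_HD h i hi)⟩
    · refine Groth.Agent.H9Misc.DRingPC.of_homology _ b (fun i hi => (hsub i).2 (hb i hi)) fun i hi => ?_
      haveI := (hfin i).2 (hf i hi)
      exact (Groth.Agent.H9Misc.DRingPC.pc'_iff _).1
        (Triage.NoethPC.pc' (A := MvPolynomial (Fin n) R) _) (m - i)
  have hrel : ∀ (m : ℤ) (K : Dual.D A), DerCA.IsRelPseudoCoherent R A m K ↔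
      (∃ b : ℤ, ∀ i : ℤ, b < i → Subsingleton (Dual.HD A K i)) ∧
        ∀ i : ℤ, m ≤ i → Module.Finite A (Dual.HD A K i) := fun m K =>
    ⟨fun ⟨n, α, hα, h⟩ => (key n α hα m K).1 h, fun h => ⟨n₀, α₀, hα₀, (key n₀ α₀ hα₀ m K).2 h⟩⟩
  have hall : ∀ K : Dual.D A, DerCA.IsRelPseudoCoherentAll R A K ↔
      (∃ b : ℤ, ∀ i : ℤ, b < i → Subsingleton (Dual.HD A K i)) ∧ ∀ i : ℤ, Module.Finite A (Dual.HD A K i) :=
    fun K => ⟨fun h => ⟨((hrel 0 K).1 (h 0)).1, fun i => ((hrel i K).1 (h i)).2 i le_rfl⟩,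
      fun ⟨hb, hf⟩ m => (hrel m K).2 ⟨hb, fun i _ => hf i⟩⟩
  refine ⟨hrel m K, hall K, (hall (Dual.inD A M)).trans ?_⟩
  obtain ⟨eH⟩ := Groth.Agent.H9Misc.DRingTor.hd_iso
    (((DerivedCategory.singleFunctorIsoCompQ (ModuleCat.{u} A) 0).app (ModuleCat.of A M)).symm) 0
  let e₀ := (eH ≪≫ HomologicalComplex.singleObjHomologySelfIso (ComplexShape.up ℤ) 0
    (ModuleCat.of A M)).toLinearEquiv
  refine ⟨fun ⟨_, hf⟩ => haveI := hf 0; Module.Finite.equiv e₀, fun h => ?_⟩
  haveI := h
  have hz : ∀ i : ℤ, i ≠ 0 → Subsingleton (Dual.HD A (Dual.inD A M) i) := fun i hi => by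
    rcases lt_or_gt_of_ne hi with hi | hi
    · exact ModuleCat.subsingleton_of_isZero (M := ModuleCat.of A (Dual.HD A (Dual.inD A M) i))
        (DerivedCategory.isZero_of_isGE _ 0 i hi)
    · exact ModuleCat.subsingleton_of_isZero (M := ModuleCat.of A (Dual.HD A (Dual.inD A M) i))
        (DerivedCategory.isZero_of_isLE _ 0 i hi)
  refine ⟨⟨0, fun i hi => hz i (by omega)⟩, fun i => ?_⟩
  rcases eq_or_ne i 0 with rfl | hi
  · exact Module.Finite.equiv e₀.symm
  · haveI := hz i hi
    infer_instance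

end Groth.Agent.S7026
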