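import Groth.Statements.S7027
import Groth.Agent.H9Misc.DRingTorTriangle

set_option autoImplicit false
universe u
open CategoryTheory CategoryTheory.Limits
attribute [local instance] HasDerivedCategory.standard
open DRing

namespace Groth.Agent.S7027

open CategoryTheory.Pretriangulated in
/-- Let R be a commutative ring such that the derived tensor product - ⊗^L_R M exists on D(R) for every
R-module M, let a, b be integers and K → L → M → K[1] a distinguished triangle in D(R). (1) Tor
amplitude of K in [a+1, b+1] together with tor amplitude of L in [a, b] gives tor amplitude of M in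
[a, b]. (2) Tor amplitude of both K and M in [a, b] gives tor amplitude of L in [a, b]. (3) Tor
amplitude of L in [a+1, b+1] together with tor amplitude of M in [a, b] gives tor amplitude of K in
[a+1, b+1]. (Tor amplitude is taken in the flat-representative sense: isomorphic in D(R) to a
complex of flat modules vanishing outside the interval.) -/
theorem result (R : Type u) [CommRing R] [∀ M : ModuleCat.{u} R, DRing.HasLTensor R M] (a b : ℤ)
    (T : Triangle (Dual.D R)) (hT : T ∈ distinguishedTriangles) :
    (DRing.HasTorAmplitudeIn R (a + 1) (b + 1) T.obj₁ → DRing.HasTorAmplitudeIn R a b T.obj₂ →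
        DRing.HasTorAmplitudeIn R a b T.obj₃) ∧
      (DRing.HasTorAmplitudeIn R a b T.obj₁ → DRing.HasTorAmplitudeIn R a b T.obj₃ →
        DRing.HasTorAmplitudeIn R a b T.obj₂) ∧
      (DRing.HasTorAmplitudeIn R (a + 1) (b + 1) T.obj₂ → DRing.HasTorAmplitudeIn R a b T.obj₃ →
        DRing.HasTorAmplitudeIn R (a + 1) (b + 1) T.obj₁) := by
  exact ⟨Groth.Agent.H9Misc.DRingTor.obj₃_of T hT, Groth.Agent.H9Misc.DRingTor.obj₂_of T hT,
    Groth.Agent.H9Misc.DRingTor.obj₁_of T hT⟩

end Groth.Agent.S7027
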