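import Groth.Statements.S7035
import Mathlib
import Groth.Agent.H9Misc.DRingFlatFibre

set_option autoImplicit false
universe u
open CategoryTheory CategoryTheory.Limits
attribute [local instance] HasDerivedCategory.standard
open DRing

namespace Groth.Agent.S7035

attribute [local instance] HasDerivedCategory.standard

/-- Let A → B be a flat homomorphism of commutative rings and d a natural number such that for every
prime p of A, with residue field κ(p), every module over κ(p) ⊗_A B has projective dimension at most
d; assume the derived tensor products - ⊗^L M exist on D(κ(p) ⊗_A B) for all p and the derived base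
changes D(B) → D(B/m) exist for all ideals m of B. Let a, b be integers and K an object of D(B)
which is pseudo-coherent over B and, with scalars restricted to A, has tor amplitude in [a, b]. Then
K is perfect over B and has tor amplitude in [a - d, b] over B. -/
theorem result {A B : Type u} [CommRing A] [CommRing B] [Algebra A B]
    [Module.Flat A B] (d : ℕ)
    (hgl : ∀ (p : PrimeSpectrum A) (M : Type u) [AddCommGroup M]
      [Module (TensorProduct A p.asIdeal.ResidueField B) M],
      HasProjectiveDimensionLT (ModuleCat.of (TensorProduct A p.asIdeal.ResidueField B) M) (d + 1))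
    [∀ (p : PrimeSpectrum A) (M : ModuleCat.{u} (TensorProduct A p.asIdeal.ResidueField B)),
      DRing.HasLTensor (TensorProduct A p.asIdeal.ResidueField B) M]
    [∀ m : Ideal B, DRing.HasLBaseChange (Ideal.Quotient.mk m)] (a b : ℤ) (K : Dual.D B)
    (hK : DRing.IsPseudoCoherent' B K)
    (hKa : DRing.HasTorAmplitudeIn A a b ((DRing.restrictD (algebraMap A B)).obj K)) :
    DRing.IsPerfect B K ∧ DRing.HasTorAmplitudeIn B (a - d) b K := by
  obtain ⟨E, b₀, hz, hE, ⟨e⟩⟩ := hK
  have hamp : DRing.HasTorAmplitudeIn B (a - d) b (DerivedCategory.Q.obj E) := by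
    refine H9Misc.DRingFibre.amp_of_fibres hE hz (a - d) b fun m hm i hi => ?_
    let P : PrimeSpectrum A := ⟨m.comap (algebraMap A B), Ideal.comap_isPrime _ _⟩
    haveI := H9Misc.DRingLBase.hasLBaseChange (algebraMap A P.asIdeal.ResidueField)
    let f : P.asIdeal.ResidueField →ₐ[A] B ⧸ m :=
      Ideal.ResidueField.liftₐ P.asIdeal (Algebra.ofId A (B ⧸ m))
        (fun x hx => (Ideal.Quotient.eq_zero_iff_mem).2 hx) fun x hx => by
          letI := Ideal.Quotient.field m
          exact IsUnit.mk0 _ fun h0 => hx ((Ideal.Quotient.eq_zero_iff_mem (I := m)).1 h0)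
    refine H9Misc.DRingFlatFibre.exactAt_at_point (A' := P.asIdeal.ResidueField) d
      (fun M => hgl P M) (Ideal.Quotient.mk m)
      (Algebra.TensorProduct.lift f (Ideal.Quotient.mkₐ A m) fun _ _ => Commute.all _ _).toRingHom ?_ hE hz e a b
      (fun j hj => H9Misc.DRingFlatFibre.hd_of_amp (H9Misc.DRingLBase.hasTorAmplitudeIn_lbase _ hKa) hj) i hi
    refine RingHom.ext fun x => ?_
    simp
  have hampK : DRing.HasTorAmplitudeIn B (a - d) b K := H9Misc.DRingTor.of_iso e hamp
  exact ⟨H9Misc.DRingFibre.isPerfect_of_amp ⟨E, b₀, hz, hE, ⟨e⟩⟩ hampK, hampK⟩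

end Groth.Agent.S7035
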