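import Groth.Statements.S7037
import Groth.Agent.H9Misc.DRingLTensorCx

set_option autoImplicit false
universe u
open CategoryTheory CategoryTheory.Limits
attribute [local instance] HasDerivedCategory.standard
open DRing

namespace Groth.Agent.S7037

/-- Let R be a commutative ring, K a pseudo-coherent object of D(R), and L a cochain complex of
R-modules which is pseudo-coherent as an object of D(R); assume the derived tensor product - ⊗^L_R L
exists on D(R). Then K ⊗^L_R L is pseudo-coherent. -/
theorem result (R : Type u) [CommRing R] (K : Dual.D R) (hK : DRing.IsPseudoCoherent' R K)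
    (L : DRing.Cx R) (hL : DRing.IsPseudoCoherent' R (DRing.toD L)) [DRing.HasLTensorCx R L] :
    DRing.IsPseudoCoherent' R ((DRing.LTensorCx R L).obj K) := by
  exact Groth.Agent.H9Misc.DRingLTensorCx.isPseudoCoherent K hK L hL

end Groth.Agent.S7037
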