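import Groth.Statements.S7039
-- import your own Groth.Agent.* helpers here

set_option autoImplicit false
universe u
open LocCoh

namespace Groth.Agent.S7039

/-- For a finitely generated ideal I of a commutative ring R and any R-module M, the quotient of M by
its submodule of I-power torsion elements has no nonzero element annihilated by I. -/
theorem result {R : Type u} [CommRing R] (I : Ideal R) (hI : I.FG)
    (M : Type u) [AddCommGroup M] [Module R M] :
    LocCoh.torsionBy I (M ⧸ DRing.torsionSub I M) = ⊥ := by
  classical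
  rw [Submodule.eq_bot_iff]
  intro q hq
  obtain ⟨m, rfl⟩ := Submodule.Quotient.mk_surjective _ q
  rw [Submodule.Quotient.mk_eq_zero]
  rw [Submodule.mem_torsionBySet_iff] at hq
  obtain ⟨s, hs⟩ := hI
  have h : ∀ a ∈ s, ∃ n : ℕ, ∀ b ∈ I ^ n, b • a • m = 0 := by
    intro a ha
    have := hq ⟨a, hs ▸ Submodule.subset_span ha⟩
    exact (Submodule.Quotient.mk_eq_zero (p := DRing.torsionSub I M) (x := a • m)).1 this
  choose n hn using h
  let N := s.attach.sup fun a => n a.1 a.2
  refine ⟨N + 1, fun c hc => ?_⟩
  rw [pow_succ] at hc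
  refine Submodule.mul_induction_on hc (fun b hb a ha => ?_) (fun x y hx hy => by rw [add_smul, hx, hy, add_zero])
  rw [← hs] at ha
  refine Submodule.span_induction ?_ ?_ ?_ ?_ ha
  · intro a ha
    rw [mul_smul]
    exact hn a ha b (Ideal.pow_le_pow_right (Finset.le_sup (f := fun a => n a.1 a.2) (Finset.mem_attach s ⟨a, ha⟩)) hb)
  · simp
  · intro x y _ _ hx hy
    rw [mul_add, add_smul, hx, hy, add_zero]
  · intro r x _ hx
    rw [smul_eq_mul, mul_left_comm, mul_smul, hx, smul_zero]

end Groth.Agent.S7039
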