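import Groth.Statements.S7041
-- import your own Groth.Agent.* helpers here

set_option autoImplicit false
universe u
open TensorProduct
open LocCoh

namespace Groth.Agent.S7041

/-- Let R → R' be a homomorphism of commutative rings and I an ideal of R such that the induced map
R/I^n → R'/I^n R' is bijective for every n > 0. Then for every R-module M in which every element is
killed by a power of I, the map M → R' ⊗_R M sending m to 1 ⊗ m is bijective. -/
theorem result {R R' : Type u} [CommRing R] [CommRing R'] [Algebra R R']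
    (I : Ideal R)
    (hq : ∀ n : ℕ, 0 < n → Function.Bijective
      (Ideal.quotientMap (Ideal.map (algebraMap R R') (I ^ n)) (algebraMap R R') Ideal.le_comap_map))
    (M : Type u) [AddCommGroup M] [Module R M] (hM : LocCoh.IsPowerTorsion I M) :
    Function.Bijective (fun m : M => (1 : R') ⊗ₜ[R] m) := by
  classical
  let φ := algebraMap R R'
  let P : R' → M → M → Prop := fun r m z =>
    ∃ (n : ℕ) (s : R), (∀ a ∈ I ^ (n + 1), a • m = 0) ∧ r - φ s ∈ Ideal.map φ (I ^ (n + 1)) ∧ z = s • m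
  have hex : ∀ r m, ∃ z, P r m z := by
    intro r m
    obtain ⟨n, hn⟩ := hM m
    obtain ⟨q, hq'⟩ := (hq (n + 1) n.succ_pos).2 (Ideal.Quotient.mk _ r)
    obtain ⟨s, rfl⟩ := Ideal.Quotient.mk_surjective q
    rw [Ideal.quotientMap_mk] at hq'
    exact ⟨s • m, n, s, fun a ha => hn a (Ideal.pow_le_pow_right n.le_succ ha),
      Ideal.Quotient.eq.1 hq'.symm, rfl⟩
  have huniq : ∀ r m z z', P r m z → P r m z' → z = z' := by
    rintro r m _ _ ⟨n, s, hn, hs, rfl⟩ ⟨n', s', hn', hs', rfl⟩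
    wlog hnn : n ≤ n' generalizing n n' s s'
    · exact (this n' s' hn' hs' n s hn hs (le_of_not_ge hnn)).symm
    have h1 : φ (s - s') ∈ Ideal.map φ (I ^ (n + 1)) := by
      have := sub_mem (Ideal.map_mono (Ideal.pow_le_pow_right (by omega : n + 1 ≤ n' + 1)) hs') hs
      rw [sub_sub_sub_cancel_left, ← map_sub] at this
      exact this
    have h2 : s - s' ∈ I ^ (n + 1) := by
      rw [← Ideal.Quotient.eq_zero_iff_mem]
      apply (hq (n + 1) n.succ_pos).1
      rw [map_zero, Ideal.quotientMap_mk, Ideal.Quotient.eq_zero_iff_mem]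
      exact h1
    rw [← sub_eq_zero, ← sub_smul, hn _ h2]
  choose g hg using hex
  have haddr : ∀ r r' m, g (r + r') m = g r m + g r' m := by
    intro r r' m
    obtain ⟨n, hn⟩ := hM m
    obtain ⟨n₁, s, hn₁, hs, h1⟩ := hg r m
    obtain ⟨n₂, s', hn₂, hs', h2⟩ := hg r' m
    refine huniq _ m _ _ (hg _ m) ⟨min n₁ n₂, s + s', ?_, ?_, by rw [h1, h2, add_smul]⟩
    · rcases min_choice n₁ n₂ with h | h <;> rw [h] <;> assumption
    · rw [map_add, add_sub_add_comm]
      exact add_mem (Ideal.map_mono (Ideal.pow_le_pow_right (by omega)) hs)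
        (Ideal.map_mono (Ideal.pow_le_pow_right (by omega)) hs')
  have haddm : ∀ r m m', g r (m + m') = g r m + g r m' := by
    intro r m m'
    obtain ⟨n, hn⟩ := hM m
    obtain ⟨n', hn'⟩ := hM m'
    obtain ⟨q, hq'⟩ := (hq (n + n' + 1) (n + n').succ_pos).2 (Ideal.Quotient.mk _ r)
    obtain ⟨s, rfl⟩ := Ideal.Quotient.mk_surjective q
    rw [Ideal.quotientMap_mk] at hq'
    have hs : r - φ s ∈ Ideal.map φ (I ^ (n + n' + 1)) := Ideal.Quotient.eq.1 hq'.symm
    have k1 : ∀ a ∈ I ^ (n + n' + 1), a • m = 0 := fun a ha => hn a (Ideal.pow_le_pow_right (by omega) ha)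
    have k2 : ∀ a ∈ I ^ (n + n' + 1), a • m' = 0 := fun a ha => hn' a (Ideal.pow_le_pow_right (by omega) ha)
    rw [huniq r m _ (s • m) (hg _ _) ⟨n + n', s, k1, hs, rfl⟩,
      huniq r m' _ (s • m') (hg _ _) ⟨n + n', s, k2, hs, rfl⟩]
    refine huniq r _ _ _ (hg _ _) ⟨n + n', s, fun a ha => ?_, hs, (smul_add _ _ _).symm⟩
    rw [smul_add, k1 a ha, k2 a ha, add_zero]
  have hsmulr : ∀ (c : R) r m, g (c • r) m = c • g r m := by
    intro c r m
    obtain ⟨n, s, hn, hs, h1⟩ := hg r m
    refine huniq _ m _ _ (hg _ m) ⟨n, c * s, hn, ?_, by rw [h1, mul_smul]⟩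
    rw [Algebra.smul_def, map_mul, ← mul_sub]
    exact Ideal.mul_mem_left _ _ hs
  have hsmulm : ∀ (c : R) r m, g r (c • m) = c • g r m := by
    intro c r m
    obtain ⟨n, s, hn, hs, h1⟩ := hg r m
    exact huniq r _ _ _ (hg _ _)
      ⟨n, s, fun a ha => by rw [smul_comm, hn a ha, smul_zero], hs, by rw [h1, smul_comm]⟩
  let G : R' ⊗[R] M →ₗ[R] M := TensorProduct.lift
    (LinearMap.mk₂ R g haddr hsmulr haddm hsmulm)
  have hG : ∀ m, G ((1 : R') ⊗ₜ[R] m) = m := by
    intro m
    obtain ⟨n, hn⟩ := hM m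
    show g 1 m = m
    exact huniq 1 m _ _ (hg _ _) ⟨n, 1, fun a ha => hn a (Ideal.pow_le_pow_right n.le_succ ha),
      by simp [φ], (one_smul R m).symm⟩
  refine ⟨fun a b h => by simpa [hG] using congrArg G h, fun x => ⟨G x, ?_⟩⟩
  show (1 : R') ⊗ₜ[R] (G x) = x
  induction x with
  | zero => simp
  | add x y hx hy => rw [map_add, TensorProduct.tmul_add, hx, hy]
  | tmul r m =>
    obtain ⟨n, s, hn, hs, h1⟩ := hg r m
    show (1 : R') ⊗ₜ[R] (g r m) = r ⊗ₜ[R] m
    have key : ∀ y ∈ Ideal.map φ (I ^ (n + 1)), y ⊗ₜ[R] m = (0 : R' ⊗[R] M) := by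
      intro y hy
      rw [Ideal.map, Ideal.span] at hy
      refine Submodule.span_induction ?_ ?_ ?_ ?_ hy
      · rintro _ ⟨a, ha, rfl⟩
        rw [Algebra.algebraMap_eq_smul_one, TensorProduct.smul_tmul, hn a ha, TensorProduct.tmul_zero]
      · simp
      · intro x y _ _ hx hy; rw [TensorProduct.add_tmul, hx, hy, add_zero]
      · intro c x _ hx
        have := congrArg (c • ·) hx
        simpa [TensorProduct.smul_tmul'] using this
    have := key _ hs
    rw [TensorProduct.sub_tmul, sub_eq_zero] at this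
    rw [this, h1, TensorProduct.tmul_smul, TensorProduct.smul_tmul', Algebra.algebraMap_eq_smul_one]

end Groth.Agent.S7041
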