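import Groth.Prelude.Def_DRing3
import Mathlib

set_option autoImplicit false
universe u
open CategoryTheory CategoryTheory.Limits
attribute [local instance] HasDerivedCategory.standard
open DRing

namespace Groth.Agent.S7043

/-- A coherent sequence `z_k = f • z_{k+1}` is a linear map out of `A_f`. -/
lemma exists_hom {A : Type u} [CommRing A] (f : A) {M : Type u} [AddCommGroup M] [Module A M]
    (z : ℕ → M) (hz : ∀ k, f • z (k + 1) = z k) :
    ∃ g : Localization.Away f →ₗ[A] M, g 1 = z 0 := by
  have hzj : ∀ k j, f ^ j • z (k + j) = z k := fun k j => by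
    induction j with
    | zero => simp
    | succ j ih => rw [pow_succ, mul_smul, ← Nat.add_assoc, hz, ih]
  let φ := algebraMap A (Localization.Away f)
  have hwd : ∀ (y : Localization.Away f) (k l : ℕ) (b c : A), y * φ (f ^ k) = φ b → y * φ (f ^ l) = φ c →
      b • z k = c • z l := by
    intro y k l b c hb hc
    have h1 : φ (b * f ^ l) = φ (c * f ^ k) := by rw [map_mul, map_mul, ← hb, ← hc]; ring
    obtain ⟨⟨_, j, rfl⟩, hj⟩ := (IsLocalization.eq_iff_exists (Submonoid.powers f) (Localization.Away f)).1 h1
    dsimp only at hj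
    rw [← hzj k (l + j), ← hzj l (k + j), smul_smul, smul_smul, show l + (k + j) = k + (l + j) by omega]
    congr 1
    rw [pow_add, pow_add]
    linear_combination hj
  have hs : ∀ y : Localization.Away f, ∃ (k : ℕ) (b : A), y * φ (f ^ k) = φ b := fun y => by
    obtain ⟨⟨b, ⟨_, k, rfl⟩⟩, hb⟩ := IsLocalization.surj (Submonoid.powers f) y
    exact ⟨k, b, hb⟩
  choose k b hkb using hs
  let g : Localization.Away f →ₗ[A] M :=
    { toFun := fun y => b y • z (k y)
      map_add' := fun y y' => by
        refine (hwd (y + y') _ (k y + k y') _ (b y * f ^ k y' + b y' * f ^ k y) (hkb _) ?_).trans ?_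
        · rw [map_add, map_mul, map_mul, ← hkb y, ← hkb y', pow_add, map_mul]; ring
        · rw [add_smul, mul_smul, mul_smul, hzj]
          nth_rewrite 1 [show k y + k y' = k y' + k y by omega]
          rw [hzj]
      map_smul' := fun r y => by
        refine (hwd (r • y) _ (k y) _ (r * b y) (hkb _) ?_).trans (mul_smul r (b y) _)
        rw [Algebra.smul_def, mul_assoc, hkb, map_mul] }
  refine ⟨g, (hwd 1 _ 0 _ 1 (hkb 1) (by simp)).trans (one_smul A _)⟩

/-- Let f be an element of a commutative ring A and let M be an A-module which, placed in degree 0, is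
derived complete with respect to the ideal (f). Then the ideal J = ⋂ f^n A annihilates the submodule
⋂ f^n M, which is the kernel of M → lim M/f^n M. (The case M = A says that J has square zero when A
itself is derived complete.) -/
theorem result {A : Type u} [CommRing A] (f : A)
    (M : Type u) [AddCommGroup M] [Module A M]
    (hc : DRing.IsDerivedComplete (Ideal.span {f}) (Dual.inD A M)) :
    (⨅ n : ℕ, Ideal.span {f ^ n}) • (⨅ n : ℕ, (Ideal.span {f ^ n}) • (⊤ : Submodule A M)) = (⊥ : Submodule A M) := by
  rw [eq_bot_iff, Submodule.smul_le]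
  intro a ha x hx
  rw [Submodule.mem_iInf] at ha hx
  choose c hc' using fun n => Ideal.mem_span_singleton'.1 (ha n)
  have hz : ∀ n, f • (c (n + 1) • x) = c n • x := fun n => by
    obtain ⟨m, -, hm⟩ : ∃ m ∈ (⊤ : Submodule A M), f ^ n • m = x := by
      have := hx n
      rwa [Submodule.ideal_span_singleton_smul, Submodule.mem_smul_pointwise_iff_exists] at this
    rw [← hm, smul_smul, smul_smul, smul_smul]
    congr 1
    have h1 := hc' n
    have h2 := hc' (n + 1)
    rw [pow_succ] at h2
    linear_combination h2 - h1
  obtain ⟨g, hg⟩ := exists_hom f (fun n => c n • x) hz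
  haveI := hc f (Ideal.mem_span_singleton_self f) 0
  let g' : ModuleCat.of A (Localization.Away f) ⟶ ModuleCat.of A M := ModuleCat.ofHom g
  have h0 : g' = 0 := by
    apply (DerivedCategory.singleFunctor (ModuleCat.{u} A) 0).map_injective
    refine (cancel_mono ((shiftFunctorZero (Dual.D A) ℤ).inv.app _)).1 ?_
    exact Subsingleton.elim (α := Dual.inD A (Localization.Away f) ⟶ (Dual.inD A M)⟦(0 : ℤ)⟧) _ _
  have hg0 : g = 0 := congrArg ModuleCat.Hom.hom h0
  have h00 := hc' 0
  rw [pow_zero, mul_one] at h00
  rw [Submodule.mem_bot, ← h00, ← hg, hg0, LinearMap.zero_apply]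

end Groth.Agent.S7043
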