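import Groth.Statements.S7046
import Groth.Agent.H9Misc.DRingTel
import Groth.Agent.H9Misc.TBRing

set_option autoImplicit false
universe u
attribute [local instance] HasDerivedCategory.standard
open DRing

namespace Groth.Agent.S7046

/-- A reduced commutative ring A which, placed in degree 0 of D(A), is derived complete with respect to
a finitely generated ideal I is I-adically complete, i.e. separated and complete for the I-adic
topology. -/
theorem result {A : Type u} [CommRing A] [IsReduced A]
    (I : Ideal A) (hI : I.FG) (hc : DRing.IsDerivedComplete I (Dual.inD A A)) :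
    IsAdicComplete I A := by
  have h := (Groth.Agent.H9Misc.DRingTel.isDerivedComplete_inD_iff I A).1 hc
  obtain ⟨s, hs⟩ := hI
  have e : Ideal.ofList s.toList = I := by rw [← hs]; simp [Ideal.ofList]
  have hb := Groth.Agent.H9Misc.TBRing.iInf_pow_pow_eq_bot s.card A s.toList s.length_toList
    (fun g hg => h g (hs ▸ Ideal.subset_span (Finset.mem_toList.1 hg)))
  rw [e] at hb
  have : IsHausdorff I A := ⟨fun x hx => by
    have hx' : x ∈ ⨅ n : ℕ, I ^ n := (Submodule.mem_iInf _).2 fun n => by
      simpa using SModEq.zero.1 (hx n)
    have := Ideal.pow_mem_pow hx' (2 ^ s.card)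
    rw [hb, Ideal.mem_bot] at this
    exact IsReduced.eq_zero x ⟨_, this⟩⟩
  have : IsPrecomplete I A := AdicCompletion.of_surjective_iff.1
    (Groth.Agent.H9Misc.TBMod.surjective_adicCompletion_of I ⟨s, hs⟩ h)
  exact { }

end Groth.Agent.S7046
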