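import Groth.Statements.S7052
import Mathlib.Algebra.Homology.ShortComplex.ModuleCat
import Mathlib.Algebra.Category.ModuleCat.Abelian
import Mathlib.Algebra.Homology.DerivedCategory.SingleTriangle
import Mathlib.CategoryTheory.Triangulated.Yoneda

set_option autoImplicit false
universe u
attribute [local instance] HasDerivedCategory.standard
open DRing

namespace Groth.Agent.S7052

/-- For a commutative ring A, an ideal I, an A-module M and a submodule M₁ such that both M₁ and M/M₁
(placed in degree 0) are derived complete with respect to I, the module M is derived complete with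
respect to I. -/
theorem result {A : Type u} [CommRing A] (I : Ideal A)
    (M : Type u) [AddCommGroup M] [Module A M] (M₁ : Submodule A M)
    (h1 : DRing.IsDerivedComplete I (Dual.inD A M₁)) (h3 : DRing.IsDerivedComplete I (Dual.inD A (M ⧸ M₁))) :
    DRing.IsDerivedComplete I (Dual.inD A M) := by
  open CategoryTheory CategoryTheory.Limits in
  let S : ShortComplex (ModuleCat.{u} A) := ShortComplex.mk (ModuleCat.ofHom M₁.subtype)
    (ModuleCat.ofHom M₁.mkQ) (by ext x; simp)
  open CategoryTheory CategoryTheory.Limits in
  have hS : S.ShortExact := by
    refine { exact := ?_, mono_f := ?_, epi_g := ?_ }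
    · rw [ShortComplex.moduleCat_exact_iff]
      intro x hx
      exact ⟨⟨x, (Submodule.Quotient.mk_eq_zero M₁).1 hx⟩, rfl⟩
    · exact (ModuleCat.mono_iff_injective _).2 M₁.injective_subtype
    · exact (ModuleCat.epi_iff_surjective _).2 M₁.mkQ_surjective
  open CategoryTheory CategoryTheory.Limits in
  exact fun f hf n => by
    have hT := Pretriangulated.Triangle.shift_distinguished _ hS.singleTriangle_distinguished n
    refine ⟨fun x y => ?_⟩
    have key : ∀ z : Dual.inD A (Localization.Away f) ⟶
        (shiftFunctor (Dual.D A) n).obj (Dual.inD A M), z = 0 := fun z => by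
      obtain ⟨g, hg⟩ := Pretriangulated.Triangle.coyoneda_exact₂ _ hT z ((h3 f hf n).elim _ _)
      exact hg.trans ((congrArg (· ≫ _) ((h1 f hf n).elim g 0)).trans zero_comp)
    rw [key x, key y]

end Groth.Agent.S7052
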