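import Groth.Statements.S7054
import Groth.Agent.H9Misc.DRingTel
import Groth.Agent.H9Misc.TBRing

set_option autoImplicit false
universe u
attribute [local instance] HasDerivedCategory.standard
open DRing

namespace Groth.Agent.S7054

/-- For a commutative ring A and an ideal I such that A, placed in degree 0, is derived complete with
respect to I, every object of D(A) isomorphic to a bounded above complex of finite free A-modules is
derived complete with respect to I. -/
theorem result {A : Type u} [CommRing A] (I : Ideal A)
    (hA : DRing.IsDerivedComplete I (Dual.inD A A)) (K : Dual.D A) (hK : DRing.IsPseudoCoherent' A K) :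
    DRing.IsDerivedComplete I K := by
  obtain ⟨E, b, -, hff, ⟨e⟩⟩ := hK
  rw [Groth.Agent.H9Misc.DRingTel.isDerivedComplete_iff]
  intro f hf i
  have hA' := (Groth.Agent.H9Misc.DRingTel.isDerivedComplete_inD_iff I A).1 hA f hf
  have hX : ∀ j, Groth.Agent.H9Misc.TBMod.TBm (E.X j) f := fun j => by
    obtain ⟨hfree, hfin⟩ := hff j
    rcases subsingleton_or_nontrivial A with hA0 | hA0
    · have := Module.subsingleton A (E.X j)
      exact Groth.Agent.H9Misc.TBMod.tbm_of_subsingleton f
    · exact (Groth.Agent.H9Misc.TBRing.tbm_pi hA').of_equiv (Module.finBasis A (E.X j)).equivFun.symm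
  let S := E.sc i
  have hker := (Groth.Agent.H9Misc.TBMod.TBm.ker_coker S.g.hom (hX _) (hX _)).1
  have hH := (Groth.Agent.H9Misc.TBMod.TBm.ker_coker S.moduleCatToCycles (hX _) hker).2
  refine hH.of_equiv ((S.moduleCatHomologyIso).symm ≪≫ ?_).toLinearEquiv
  exact ((DerivedCategory.homologyFunctorFactors (ModuleCat.{u} A) i).app E).symm ≪≫
    (DerivedCategory.homologyFunctor (ModuleCat.{u} A) i).mapIso e

end Groth.Agent.S7054
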