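import Groth.Statements.S7058
import Groth.Agent.H9Misc.RingOrth

set_option autoImplicit false
universe u
attribute [local instance] HasDerivedCategory.standard
open CategoryTheory
open DRing

namespace Groth.Agent.S7058

/-- Let A be a commutative ring, I a finitely generated ideal, and assume the derived completion functor
(left adjoint to the inclusion of derived complete objects of D(A)) exists. If K is a cochain
complex of A-modules and some f in I acts bijectively on every term of K, then the derived
completion of K is zero. -/
theorem result {A : Type u} [CommRing A] (I : Ideal A) (hI : I.FG)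
    [DRing.HasDerivedCompletion I] (K : DRing.Cx A) (f : A) (hf : f ∈ I)
    (hK : ∀ i : ℤ, Function.Bijective (fun x : K.X i => f • x)) :
    Limits.IsZero ((DRing.derivedCompletion I).obj (DRing.toD K)).obj := by
  let L := (DRing.derivedCompletion I).obj (DRing.toD K)
  obtain ⟨E, ⟨e⟩⟩ := Groth.Agent.H9Misc.RingOrth.nonempty_iso_restrictD f K hK
  have h0 := Groth.Agent.H9Misc.RingOrth.restrictD_orth _ _
    (Groth.Agent.H9Misc.RingOrth.awayIso f) L.obj (L.property f hf) E
  have h1 : Subsingleton (DRing.toD K ⟶ L.obj) :=
    @Equiv.subsingleton _ _ e.symm.homFromEquiv h0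
  have h2 : Subsingleton (L ⟶ L) :=
    @Equiv.subsingleton _ _ ((DRing.derivedCompletionAdj I).homEquiv (DRing.toD K) L) h1
  rw [Limits.IsZero.iff_id_eq_zero]
  have := congrArg (fun g : L ⟶ L => g.hom) (h2.elim (𝟙 L) 0)
  exact this

end Groth.Agent.S7058
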