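import Groth.Statements.S7061
import Groth.Agent.H9Misc.DRingFlatCompl

set_option autoImplicit false
universe u
attribute [local instance] HasDerivedCategory.standard
open TensorProduct
open CategoryTheory
open DRing

namespace Groth.Agent.S7061

/-- Let A be a Noetherian commutative ring and I an ideal, and assume the derived completion functor
exists. For a finite A-module M and a flat A-module N, the derived completion of M ⊗_A N (placed in
degree 0) has vanishing cohomology in every nonzero degree, and there is an A-linear isomorphism
from its degree-0 cohomology to the I-adic completion of M ⊗_A N which carries the map M ⊗_A N =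
H^0((M ⊗_A N)[0]) → H^0(((M ⊗_A N)[0])^∧) induced by the canonical morphism to the derived
completion to the canonical map from M ⊗_A N to its I-adic completion. -/
theorem result {A : Type u} [CommRing A] [IsNoetherianRing A]
    (I : Ideal A) [DRing.HasDerivedCompletion I]
    (M N : Type u) [AddCommGroup M] [Module A M] [Module.Finite A M] [AddCommGroup N] [Module A N] [Module.Flat A N] :
    (∀ i : ℤ, i ≠ 0 → Subsingleton (Dual.HD A ((DRing.derivedCompletion I).obj (Dual.inD A (M ⊗[A] N))).obj i)) ∧
      ∃ e : Dual.HD A ((DRing.derivedCompletion I).obj (Dual.inD A (M ⊗[A] N))).obj 0 ≃ₗ[A]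
          AdicCompletion I (M ⊗[A] N),
        ∀ x : M ⊗[A] N,
          e ((((DerivedCategory.singleFunctorCompHomologyFunctorIso (ModuleCat.{u} A) 0).inv.app
                (ModuleCat.of A (M ⊗[A] N))) ≫
              (DerivedCategory.homologyFunctor (ModuleCat.{u} A) 0).map
                (DRing.toDerivedCompletion I (Dual.inD A (M ⊗[A] N)))).hom x) =
            AdicCompletion.of I (M ⊗[A] N) x := by
  haveI : Module.Finite A (ModuleCat.of A M) := ‹Module.Finite A M›
  haveI : Module.Flat A (ModuleCat.of A N) := ‹Module.Flat A N›
  exact Groth.Agent.H9Misc.DRingFlatCompl.completion_tensor I (ModuleCat.of A N) (ModuleCat.of A M)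

end Groth.Agent.S7061
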