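import Groth.Statements.S7065
import Groth.Agent.EtGlue7.Basic
-- import your own Groth.Agent.* helpers here

set_option autoImplicit false
universe u
open EtGlue

namespace Groth.Agent.S7065

/-- Let R → R' be a homomorphism of commutative rings and f an element of R such that the induced map
R/fR → R'/fR' is bijective. Then Spec(R') ⊔ Spec(R_f) → Spec(R) is surjective: every prime of R is
the contraction of a prime of R' or of a prime of R_f. -/
theorem result {R R' : Type u} [CommRing R] [CommRing R']
    [Algebra R R'] (f : R)
    (hq : Function.Bijective
      (Ideal.quotientMap (Ideal.map (algebraMap R R') (Ideal.span {f})) (algebraMap R R') Ideal.le_comap_map))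
    (p : PrimeSpectrum R) :
    (∃ q : PrimeSpectrum R', PrimeSpectrum.comap (algebraMap R R') q = p) ∨
      ∃ q : PrimeSpectrum (Localization.Away f), PrimeSpectrum.comap (algebraMap R (Localization.Away f)) q = p := by
  exact Groth.Agent.EtGlue7.jointly_surjective hq p

end Groth.Agent.S7065
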