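import Groth.Statements.S7069
import Groth.Agent.PCMor.Perfect
import Groth.Agent.H9Misc.DRingRegular
import Mathlib

set_option autoImplicit false
universe u
attribute [local instance] HasDerivedCategory.standard
open MoreMor

namespace Groth.Agent.S7069

/-- A finite type homomorphism of commutative rings A → B, where A is a regular ring of finite Krull
dimension, is perfect: pseudo-coherent with B of finite tor dimension as an A-module. -/
theorem result (A B : Type u) [CommRing A] [CommRing B] [Algebra A B]
    [IsRegularRing A] (hdim : ringKrullDim A < ⊤) [Algebra.FiniteType A B] : MoreMor.IsPerfectHom A B := by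
  obtain ⟨n, φ, hφ⟩ := Algebra.FiniteType.iff_quotient_mvPolynomial''.1 (inferInstance : Algebra.FiniteType A B)
  refine Groth.Agent.PCMor.isPerfectHom_iff_presentation.2 ⟨n, φ, hφ, ?_⟩
  letI := φ.toRingHom.toAlgebra
  haveI : Module.Finite (MvPolynomial (Fin n) A) B := Module.Finite.of_surjective (Algebra.linearMap _ _) hφ
  exact (Groth.Agent.H9Misc.DRingRegular.isPerfectModule_iff
    (fun p => IsRegularRing.isRegularLocalRing_localization p.asIdeal) B).2 inferInstance

end Groth.Agent.S7069
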