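import Groth.Statements.S7077
import Mathlib
import Groth.Agent.H9Misc.DRingTwoTerm
import Groth.Agent.H9Misc.DRingTel

set_option autoImplicit false
universe u
attribute [local instance] HasDerivedCategory.standard
open CategoryTheory
open DRing

namespace Groth.Agent.S7077

/-- (1)⇔(2): let R be a commutative ring and K an object of D(R) whose cohomology modules vanish outside
degrees -1 and 0. Then H^{-1}(K) vanishes and H^0(K) is a projective R-module if and only if
Ext^1_R(K, M) = Hom_{D(R)}(K, M[1]) vanishes for every R-module M. -/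
theorem result {R : Type u} [CommRing R] (K : Dual.D R)
    (hK : ∀ i : ℤ, i ≠ -1 → i ≠ 0 → Subsingleton (Dual.HD R K i)) :
    (Subsingleton (Dual.HD R K (-1)) ∧ Module.Projective R (Dual.HD R K 0)) ↔
      ∀ (M : Type u) [AddCommGroup M] [Module R M], Subsingleton (K ⟶ (Dual.inD R M)⟦(1 : ℤ)⟧) := by
  constructor
  · rintro ⟨hneg, hproj⟩ M _ _
    have hge : DerivedCategory.IsGE K 0 := (Groth.Agent.H9Misc.DRingTwoTerm.isGE_iff_mem K 0).2 fun i hi => by
      rcases eq_or_ne i (-1) with rfl | h
      · exact hneg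
      · exact hK i h (by omega)
    have hle : DerivedCategory.IsLE K 0 := (Groth.Agent.H9Misc.DRingTwoTerm.isLE_iff_mem K 0).2 fun i hi =>
      hK i (by omega) (by omega)
    obtain ⟨Y, ⟨eY⟩⟩ := DerivedCategory.exists_iso_singleFunctor_obj_of_isGE_of_isLE K 0
    haveI := hproj
    have hY : Module.Projective R Y := Module.Projective.of_equiv
      (((DerivedCategory.homologyFunctor (ModuleCat.{u} R) 0).mapIso eY).toLinearEquiv ≪≫ₗ
        Groth.Agent.H9Misc.DRingTel.homologyInD Y)
    let E := (HomologicalComplex.single (ModuleCat.{u} R) (ComplexShape.up ℤ) 0).obj Y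
    have hE0 : Module.Projective R (E.X 0) :=
      Module.Projective.of_equiv (HomologicalComplex.singleObjXSelf (ComplexShape.up ℤ) 0 Y).symm.toLinearEquiv
    have hz : DRing.VanishesOutside E (-1) 0 := fun i hi =>
      HomologicalComplex.isZero_single_obj_X (ComplexShape.up ℤ) 0 Y i (by omega)
    let e : DerivedCategory.Q.obj E ≅ K :=
      ((DerivedCategory.singleFunctorIsoCompQ (ModuleCat.{u} R) 0).app Y).symm ≪≫ eY.symm
    refine ⟨fun ξ ξ' => ?_⟩
    rw [← sub_eq_zero, ← one_smul R (ξ - ξ')]
    exact (Groth.Agent.H9Misc.DRingTwoTerm.annihilates_iff hz hE0 e 1).2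
      ⟨0, (HomologicalComplex.isZero_single_obj_X (ComplexShape.up ℤ) 0 Y (-1) (by omega)).eq_of_src _ _⟩ M _
  · intro H
    obtain ⟨E, hz, hfree, ⟨e⟩⟩ := Groth.Agent.H9Misc.DRingTwoTerm.exists_rep K hK
    haveI := hfree
    obtain ⟨h, hh⟩ := (Groth.Agent.H9Misc.DRingTwoTerm.annihilates_iff hz inferInstance e (1 : R)).1
      (fun N _ _ ξ => (H N).elim _ _)
    rw [one_smul] at hh
    haveI : Mono (E.d (-1) 0) := mono_of_mono_fac hh
    constructor
    · have hex : E.ExactAt (-1) := by
        rw [E.exactAt_iff' (-2) (-1) 0 (by simp) (by simp)]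
        exact (ShortComplex.exact_iff_mono _ ((hz (-2) (Or.inl (by omega))).eq_of_src _ _)).2 (by
          exact (inferInstance : Mono (E.d (-1) 0)))
      exact ModuleCat.subsingleton_of_isZero
        (hex.isZero_homology.of_iso (Groth.Agent.H9Misc.DRingTwoTerm.hIso e (-1)))
    · haveI : IsIso (E.homologyι 0) :=
        E.isIso_homologyι 0 1 (by simp) ((hz 1 (Or.inr one_pos)).eq_of_tgt _ _)
      let s : E.opcycles 0 ⟶ E.X 0 := E.descOpcycles (𝟙 _ - h ≫ E.d (-1) 0) (-1) (by simp)
        (by rw [Preadditive.comp_sub, ← Category.assoc, hh]; simp)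
      have hs : s ≫ E.pOpcycles 0 = 𝟙 _ := by
        rw [← cancel_epi (E.pOpcycles 0)]
        simp [s, Preadditive.sub_comp]
      have hop : Module.Projective R (E.opcycles 0) :=
        Module.Projective.of_split s.hom (E.pOpcycles 0).hom
          (LinearMap.ext fun x => ConcreteCategory.congr_hom hs x)
      exact Module.Projective.of_equiv
        (Groth.Agent.H9Misc.DRingTwoTerm.hIso e 0 ≪≫ asIso (E.homologyι 0)).symm.toLinearEquiv

end Groth.Agent.S7077
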