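import Groth.Statements.S7081
import Mathlib
import Groth.Agent.H9Misc.DRingTwoTerm

set_option autoImplicit false
universe u
attribute [local instance] HasDerivedCategory.standard
open CategoryTheory
open DRing

namespace Groth.Agent.S7081

/-- Let R be a commutative ring and φ : K₁ → K₂, ψ : K₂ → K₃ morphisms in D(R) between objects whose
cohomology vanishes outside degrees -1 and 0. If φ induces the zero map on H^0 and ψ induces the
zero map on H^{-1}, then the composite K₁ → K₃ is zero. -/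
theorem result {R : Type u} [CommRing R] {K₁ K₂ K₃ : Dual.D R}
    (φ : K₁ ⟶ K₂) (ψ : K₂ ⟶ K₃)
    (h₁ : ∀ i : ℤ, i ≠ -1 → i ≠ 0 → Subsingleton (Dual.HD R K₁ i))
    (h₂ : ∀ i : ℤ, i ≠ -1 → i ≠ 0 → Subsingleton (Dual.HD R K₂ i))
    (h₃ : ∀ i : ℤ, i ≠ -1 → i ≠ 0 → Subsingleton (Dual.HD R K₃ i))
    (hφ : (DerivedCategory.homologyFunctor (ModuleCat.{u} R) 0).map φ = 0)
    (hψ : (DerivedCategory.homologyFunctor (ModuleCat.{u} R) (-1)).map ψ = 0) :
    φ ≫ ψ = 0 := by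
  obtain ⟨E₁, z₁, f₁, ⟨e₁⟩⟩ := Groth.Agent.H9Misc.DRingTwoTerm.exists_rep K₁ h₁
  obtain ⟨E₂, z₂, f₂, ⟨e₂⟩⟩ := Groth.Agent.H9Misc.DRingTwoTerm.exists_rep K₂ h₂
  obtain ⟨E₃, z₃, f₃, ⟨e₃⟩⟩ := Groth.Agent.H9Misc.DRingTwoTerm.exists_rep K₃ h₃
  haveI := f₁
  haveI := f₂
  have p₁ : Module.Projective R (E₁.X 0) := inferInstance
  have p₂ : Module.Projective R (E₂.X 0) := inferInstance
  obtain ⟨f, hf⟩ := Groth.Agent.H9Misc.DRingTwoTerm.exists_map (fun i hi => z₁ i (Or.inr hi)) p₁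
    (fun i hi => z₂ i (Or.inl (by omega))) (e₁.hom ≫ φ ≫ e₂.inv)
  obtain ⟨g, hg⟩ := Groth.Agent.H9Misc.DRingTwoTerm.exists_map (fun i hi => z₂ i (Or.inr hi)) p₂
    (fun i hi => z₃ i (Or.inl (by omega))) (e₂.hom ≫ ψ ≫ e₃.inv)
  have hH : ∀ (i : ℤ) {X Y : DRing.Cx R} (m : X ⟶ Y),
      (DerivedCategory.homologyFunctor (ModuleCat.{u} R) i).map (DerivedCategory.Q.map m) = 0 →
        HomologicalComplex.homologyMap m i = 0 := fun i X Y m hm => by
    have e := (DerivedCategory.homologyFunctorFactors (ModuleCat.{u} R) i).hom.naturality m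
    rw [Functor.comp_map, hm, Limits.zero_comp] at e
    exact (cancel_epi ((DerivedCategory.homologyFunctorFactors (ModuleCat.{u} R) i).hom.app X)).1
      (e.symm.trans Limits.comp_zero.symm)
  have hf0 := hH 0 f (by rw [hf, Functor.map_comp, Functor.map_comp, hφ]; simp)
  have hg1 := hH (-1) g (by rw [hg, Functor.map_comp, Functor.map_comp, hψ]; simp)
  haveI : IsIso (E₁.homologyι 0) :=
    E₁.isIso_homologyι 0 1 (by simp) ((z₁ 1 (Or.inr one_pos)).eq_of_tgt _ _)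
  haveI : IsIso (E₃.homologyπ (-1)) :=
    E₃.isIso_homologyπ (-2) (-1) (by simp) ((z₃ (-2) (Or.inl (by omega))).eq_of_src _ _)
  have hop : f.f 0 ≫ E₂.pOpcycles 0 = 0 := by
    rw [← HomologicalComplex.p_opcyclesMap]
    have : HomologicalComplex.opcyclesMap f 0 = 0 := by
      rw [← cancel_epi (E₁.homologyι 0), ← HomologicalComplex.homologyι_naturality, hf0,
        Limits.zero_comp, Limits.comp_zero]
    rw [this, Limits.comp_zero]
  have hex : (ShortComplex.mk (E₂.d (-1) 0) (E₂.pOpcycles 0) (E₂.d_pOpcycles (-1) 0)).Exact :=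
    ShortComplex.exact_of_g_is_cokernel _ (E₂.opcyclesIsCokernel (-1) 0 (by simp))
  haveI : Projective (E₁.X 0) := (IsProjective.iff_projective (E₁.X 0)).1 p₁
  let t : E₁.X 0 ⟶ E₂.X (-1) := hex.liftFromProjective (f.f 0) hop
  have ht : t ≫ E₂.d (-1) 0 = f.f 0 := hex.liftFromProjective_comp _ hop
  have hc : (f.f (-1) - E₁.d (-1) 0 ≫ t) ≫ E₂.d (-1) 0 = 0 := by
    rw [Preadditive.sub_comp, Category.assoc, ht, f.comm, sub_self]
  have hk : (f.f (-1) - E₁.d (-1) 0 ≫ t) ≫ g.f (-1) = 0 := by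
    have hi : E₂.iCycles (-1) ≫ g.f (-1) = 0 := by
      rw [← HomologicalComplex.cyclesMap_i]
      have : HomologicalComplex.cyclesMap g (-1) = 0 := by
        rw [← cancel_mono (E₃.homologyπ (-1)), ← HomologicalComplex.homologyπ_naturality, hg1,
          Limits.comp_zero, Limits.zero_comp]
      rw [this, Limits.zero_comp]
    rw [← E₂.liftCycles_i (f.f (-1) - E₁.d (-1) 0 ≫ t) 0 (by simp) hc, Category.assoc, hi, Limits.comp_zero]
  have hfg : DerivedCategory.Q.map (f ≫ g) = 0 := by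
    refine (Groth.Agent.H9Misc.DRingTwoTerm.map_eq_zero_iff (fun i hi => z₁ i (Or.inr hi)) p₁
      (fun i hi => z₃ i (Or.inl (by omega))) _).2 ⟨t ≫ g.f (-1), ?_, ?_⟩
    · rw [HomologicalComplex.comp_f, Category.assoc, g.comm, ← Category.assoc, ht]
    · rw [Preadditive.sub_comp, sub_eq_zero] at hk
      rw [HomologicalComplex.comp_f, hk, Category.assoc]
  rw [Functor.map_comp, hf, hg] at hfg
  rw [← cancel_epi e₁.hom, ← cancel_mono e₃.inv, Limits.comp_zero, Limits.zero_comp]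
  simpa using hfg

end Groth.Agent.S7081
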