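import Groth.Statements.S7085
-- import your own Groth.Agent.* helpers here

set_option autoImplicit false
universe u
open LocCoh

namespace Groth.Agent.S7085

/-- Let R be a commutative ring, I an ideal generated by finitely many elements f_1, …, f_t, and M an
R-module. Then: M has no nonzero element killed by I if and only if it has no nonzero element killed
by I^n for every n ≥ 1; and M has no nonzero element killed by I if and only if an element of M
vanishing in every localization M_{f_i} is zero. -/
theorem result {R : Type u} [CommRing R] {t : ℕ} (f : Fin t → R)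
    (I : Ideal R) (hI : Ideal.span (Set.range f) = I) (M : Type u) [AddCommGroup M] [Module R M] :
    (LocCoh.torsionBy I M = ⊥ ↔ ∀ n : ℕ, 1 ≤ n → LocCoh.torsionBy (I ^ n) M = ⊥) ∧
    (LocCoh.torsionBy I M = ⊥ ↔
      ∀ m : M, (∀ i : Fin t, LocalizedModule.mkLinearMap (Submonoid.powers (f i)) M m = 0) → m = 0) := by
  classical
  have hpow : LocCoh.torsionBy I M = ⊥ → ∀ n : ℕ, ∀ m : M, (∀ a ∈ I ^ n, a • m = 0) → m = 0 := by
    intro h n
    induction n with
    | zero => intro m hm; simpa using hm 1 (by simp)
    | succ n ih =>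
      intro m hm
      rw [Submodule.eq_bot_iff] at h
      refine h m ((Submodule.mem_torsionBySet_iff _ _).2 fun a => ih _ fun b hb => ?_)
      rw [smul_smul]
      exact hm _ (pow_succ I n ▸ Ideal.mul_mem_mul hb a.2)
  refine ⟨⟨fun h n _ => ?_, fun h => by simpa using h 1 le_rfl⟩, ⟨fun h m hm => ?_, fun h => ?_⟩⟩
  · rw [Submodule.eq_bot_iff]
    exact fun m hm => hpow h n m fun a ha => (Submodule.mem_torsionBySet_iff _ _).1 hm ⟨a, ha⟩
  · have hle : I ≤ ((R ∙ m).annihilator).radical := by
      rw [← hI, Ideal.span_le]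
      rintro _ ⟨i, rfl⟩
      obtain ⟨⟨_, k, rfl⟩, hk⟩ := (IsLocalizedModule.eq_zero_iff (Submonoid.powers (f i))
        (LocalizedModule.mkLinearMap (Submonoid.powers (f i)) M)).1 (hm i)
      exact ⟨k, (Submodule.mem_annihilator_span_singleton m _).2 hk⟩
    obtain ⟨n, hn⟩ := Ideal.exists_pow_le_of_le_radical_of_fg hle ⟨Finset.univ.image f, by simp [← hI]⟩
    exact hpow h n m fun a ha => (Submodule.mem_annihilator_span_singleton m a).1 (hn ha)
  · rw [Submodule.eq_bot_iff]
    intro m hm
    refine h m fun i => (IsLocalizedModule.eq_zero_iff (Submonoid.powers (f i))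
      (LocalizedModule.mkLinearMap (Submonoid.powers (f i)) M)).2
      ⟨⟨f i, Submonoid.mem_powers _⟩, (Submodule.mem_torsionBySet_iff _ _).1 hm ⟨f i, ?_⟩⟩
    exact hI ▸ Ideal.subset_span ⟨i, rfl⟩

end Groth.Agent.S7085
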