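import Groth.Statements.S7091
import Groth.Agent.H9Misc.DRingComplAmp

set_option autoImplicit false
universe u
attribute [local instance] HasDerivedCategory.standard
open CategoryTheory
open DRing

namespace Groth.Agent.S7091

/-- Let A be a commutative ring, I a finitely generated ideal, and assume the derived completion functor
(left adjoint to the inclusion of derived complete objects) exists. If a morphism K → L in D(A)
induces isomorphisms on cohomology in degrees ≥ 1 and a surjection in degree 0, then so does the
induced morphism between the derived completions. -/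
theorem result {A : Type u} [CommRing A] (I : Ideal A) (hI : I.FG)
    [DRing.HasDerivedCompletion I] {K L : Dual.D A} (φ : K ⟶ L)
    (hiso : ∀ i : ℤ, 1 ≤ i → IsIso ((DerivedCategory.homologyFunctor (ModuleCat.{u} A) i).map φ))
    (hepi : Epi ((DerivedCategory.homologyFunctor (ModuleCat.{u} A) 0).map φ)) :
    (∀ i : ℤ, 1 ≤ i → IsIso ((DerivedCategory.homologyFunctor (ModuleCat.{u} A) i).map
        ((DRing.derivedCompletion I).map φ).hom)) ∧
      Epi ((DerivedCategory.homologyFunctor (ModuleCat.{u} A) 0).map ((DRing.derivedCompletion I).map φ).hom) := by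
  open Groth.Agent.H9Misc.DRingCompl in
  obtain ⟨C, C', j, d, j', d', c, hT, hT', hc⟩ := exists_cone_refl (I := I) φ
  open Groth.Agent.H9Misc.DRingCompl in
  have hC : LE C (-1) := le_obj₃ hT (-1) (fun i hi => hiso i (by omega)) hepi
  open Groth.Agent.H9Misc.DRingCompl in
  have hC' : LE C' (-1) := LE.of_refl hc hC
  open Groth.Agent.H9Misc.DRingCompl in
  exact ⟨fun i hi => @CategoryTheory.isIso_of_mono_of_epi _ _ _ _ _ _
      (mono_of_zero hT' (hC' (i - 1) (by omega))) (epi_of_le hT' hC' (by omega)),
    epi_of_le hT' hC' (by omega)⟩

end Groth.Agent.S7091
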