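import Groth.Statements.S7092
import Groth.Agent.H9Misc.DRingComplAmp

set_option autoImplicit false
universe u
attribute [local instance] HasDerivedCategory.standard
open CategoryTheory
open DRing

namespace Groth.Agent.S7092

/-- Let A be a commutative ring, I an ideal generated by a finite set of r elements, and assume the
derived completion functor exists. If a morphism K → L in D(A) induces isomorphisms on cohomology in
degrees ≤ -1 and an injection in degree 0, then the induced morphism of derived completions induces
isomorphisms on cohomology in degrees ≤ -r-1 and an injection in degree -r. -/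
theorem result {A : Type u} [CommRing A] (I : Ideal A) (s : Finset A)
    (hs : Ideal.span (s : Set A) = I) [DRing.HasDerivedCompletion I] {K L : Dual.D A} (φ : K ⟶ L)
    (hiso : ∀ i : ℤ, i ≤ -1 → IsIso ((DerivedCategory.homologyFunctor (ModuleCat.{u} A) i).map φ))
    (hmono : Mono ((DerivedCategory.homologyFunctor (ModuleCat.{u} A) 0).map φ)) :
    (∀ i : ℤ, i ≤ -(s.card : ℤ) - 1 → IsIso ((DerivedCategory.homologyFunctor (ModuleCat.{u} A) i).map
        ((DRing.derivedCompletion I).map φ).hom)) ∧
      Mono ((DerivedCategory.homologyFunctor (ModuleCat.{u} A) (-(s.card : ℤ))).map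
        ((DRing.derivedCompletion I).map φ).hom) := by
  open Groth.Agent.H9Misc.DRingCompl in
  obtain ⟨C, C', j, d, j', d', c, hT, hT', hc⟩ := exists_cone_refl (I := I) φ
  open Groth.Agent.H9Misc.DRingCompl in
  have hC : GE C 0 := ge_obj₃ hT 0 (fun i hi => hiso i (by omega)) hmono
  open Groth.Agent.H9Misc.DRingCompl in
  have hC' : GE C' (0 - (s.card : ℤ)) := GE.of_refl s hs hc hC
  open Groth.Agent.H9Misc.DRingCompl in
  exact ⟨fun i hi => @CategoryTheory.isIso_of_mono_of_epi _ _ _ _ _ _
      (mono_of_zero hT' (hC' (i - 1) (by omega)))
      ((DerivedCategory.HomologySequence.epi_homologyMap_mor₁_iff _ hT' i).2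
        ((isZ (hC' i (by omega))).eq_of_tgt _ _)),
    mono_of_zero hT' (hC' _ (by omega))⟩

end Groth.Agent.S7092
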