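import Groth.Statements.S7100
import Groth.Agent.S5929
import Groth.Agent.S6940
import Groth.Agent.H9Misc.DRingPerfectModule

set_option autoImplicit false
universe u
attribute [local instance] HasDerivedCategory.standard
open DerCA

namespace Groth.Agent.S7100

/-- (1)⇔(4): let R → B → A be homomorphisms of commutative rings with B → A surjective and with R → B
and R → A both flat and of finite presentation. Then an object K of D(A) is pseudo-coherent
(isomorphic in D(A) to a bounded above complex of finite free modules) if and only if its
restriction of scalars to D(B) is pseudo-coherent; and for every integer m, K is m-pseudo-coherent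
if and only if its restriction of scalars to D(B) is m-pseudo-coherent. -/
theorem result (R B A : Type u) [CommRing R] [CommRing B] [CommRing A]
    [Algebra R B] [Algebra R A] [Algebra B A] [IsScalarTower R B A]
    (hφ : Function.Surjective (algebraMap B A))
    [Module.Flat R B] [Algebra.FinitePresentation R B] [Module.Flat R A] [Algebra.FinitePresentation R A]
    (K : Dual.D A) :
    (DRing.IsPseudoCoherent' A K ↔ DRing.IsPseudoCoherent' B ((DRing.restrictD (algebraMap B A)).obj K)) ∧
      ∀ m : ℤ, (DRing.IsPseudoCoherent A m K ↔
        DRing.IsPseudoCoherent B m ((DRing.restrictD (algebraMap B A)).obj K)) := by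
  haveI : Algebra.FinitePresentation B A := Algebra.FinitePresentation.of_restrict_scalars_finitePresentation R B A
  haveI : Module.FinitePresentation B A :=
    Module.finitePresentation_of_surjective (Algebra.linearMap B A) hφ (by
      have := Algebra.FinitePresentation.ker_fG_of_surjective (Algebra.ofId B A) hφ
      exact this)
  obtain ⟨P, hP⟩ := Groth.Agent.S5929.result R B A
  have hA : DRing.IsPseudoCoherentModule' B A := by
    refine ⟨P.cochainComplex, 0, fun i hi => CochainComplex.isZero_of_isStrictlyLE P.cochainComplex 0 i hi, fun i => ?_,
      ⟨CategoryTheory.asIso (DerivedCategory.Q.map P.π') ≪≫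
        ((DerivedCategory.singleFunctorIsoCompQ (ModuleCat.{u} B) 0).app (ModuleCat.of B A)).symm⟩⟩
    rcases lt_or_ge 0 i with hi' | hi'
    · haveI := ModuleCat.subsingleton_of_isZero (CochainComplex.isZero_of_isStrictlyLE P.cochainComplex 0 i hi')
      exact ⟨inferInstance, inferInstance⟩
    · obtain ⟨k, rfl⟩ := Int.exists_eq_neg_ofNat hi'
      haveI := (hP k).1
      haveI := (hP k).2
      exact ⟨Module.Finite.equiv (P.cochainComplexXIso _ k).symm.toLinearEquiv,
        Module.Free.of_equiv (P.cochainComplexXIso _ k).symm.toLinearEquiv⟩
  exact ⟨(Groth.Agent.S6940.result hA K 0).2, fun m => (Groth.Agent.S6940.result hA K m).1⟩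

end Groth.Agent.S7100
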