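import Groth.Statements.S7102
import Groth.Agent.KFlatLib.Ring.RelPerfectRows
import Groth.Agent.S7037
import Groth.Agent.H9Misc.DRingTorLTensor
import Groth.Agent.H9Misc.DRingPerfect
import Groth.Agent.KFlatLib.Ring.LTensorCxBridge
import Groth.Agent.KFlatLib.Ring.SymMonoidal
-- import your own Groth.Agent.* helpers here

set_option autoImplicit false
universe u
attribute [local instance] HasDerivedCategory.standard
open Dual2

namespace Groth.Agent.S7102

/-- Let R → A be a flat homomorphism of finite presentation of commutative rings, E a bounded cochain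
complex of finite projective A-modules (a perfect object of D(A)) for which the derived functor −
⊗^L_A E exists, and M an R-perfect object of D(A). Then M ⊗^L_A E is R-perfect. -/
theorem result (R A : Type u) [CommRing R] [CommRing A] [Algebra R A]
    [Module.Flat R A] [Algebra.FinitePresentation R A] (E : DRing.Cx A) (a b : ℤ)
    (hEb : DRing.VanishesOutside E a b) (hEp : DRing.TermwiseFiniteProjective E) [DRing.HasLTensorCx A E]
    (M : Dual.D A) (hM : Dual2.IsRelPerfect R A M) :
    Dual2.IsRelPerfect R A ((DRing.LTensorCx A E).obj M) := by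
  obtain ⟨hpc, c, d, hamp⟩ := hM
  let φ := algebraMap R A
  haveI := Groth.Agent.KFlatLib.hasLTen A
  refine ⟨Groth.Agent.S7037.result A M hpc E
    ((Groth.Agent.H9Misc.DRingPerfect.isPerfect_iff _).1 ⟨E, a, b, hEb, hEp, ⟨CategoryTheory.Iso.refl _⟩⟩).1, a + c, b + d, ?_⟩
  let L := Groth.Agent.KFlatLib.flatRep M
  have hf : DRing.TermwiseFlat E := fun i => by
    haveI := (hEp i).2
    infer_instance
  have hE : Groth.Agent.H9Misc.DRingLTensor.IsKF E :=
    Groth.Agent.H9Misc.DRingTor.isKF_of_flat hf fun i hi => hEb i (Or.inr hi)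
  have hL : DRing.HasTorAmplitudeIn R c d (DRing.toD ((DRing.restrictCx φ).obj L)) :=
    Groth.Agent.H9Misc.DRingTor.of_iso ((DRing.restrictD φ).mapIso (Groth.Agent.KFlatLib.flatRepIso M).symm ≪≫
      ((ModuleCat.restrictScalars φ).mapDerivedCategoryFactors.app L)) hamp
  obtain ⟨t⟩ := Groth.Agent.KFlatLib.nonempty_LTensorCx_obj_iso E M
  haveI := Groth.Agent.KFlatLib.isIso_ε (A := A) hE L
  haveI := Groth.Agent.KFlatLib.isIso_symm_app (DerivedCategory.Q.obj E) (DerivedCategory.Q.obj L)
  refine Groth.Agent.H9Misc.DRingTor.of_iso ?_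
    (Groth.Agent.H9Misc.DRingTorLTensor.hasTorAmplitudeIn_tensor φ E L hEb hf hL)
  exact ((ModuleCat.restrictScalars φ).mapDerivedCategoryFactors.app _).symm ≪≫ (DRing.restrictD φ).mapIso
    ((CategoryTheory.asIso ((DTen.ε A).app (E, L))).symm ≪≫
      (CategoryTheory.asIso ((DTen.symm A).app (DerivedCategory.Q.obj E, DerivedCategory.Q.obj L))).symm ≪≫
      (DTen.LTen₂ A).mapIso (CategoryTheory.Iso.prod (Groth.Agent.KFlatLib.flatRepIso M) (CategoryTheory.Iso.refl _)) ≪≫ t.symm)

end Groth.Agent.S7102
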