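import Groth.Statements.S7104
import Groth.Agent.KFlatLib.Ring.RelPerfectLocal
import Groth.Agent.FlatSyz5.PC
import Groth.Agent.S7000
import Groth.Agent.S6940
import Groth.Agent.S2137
-- import your own Groth.Agent.* helpers here

set_option autoImplicit false
universe u
attribute [local instance] HasDerivedCategory.standard
open CategoryTheory
open Dual2

namespace Groth.Agent.S7104

/-- Let R be a commutative ring and A an R-algebra which is flat, of finite presentation, and a quotient
of the polynomial ring R[x_1, …, x_d]. Let q be a prime of A lying over the prime p of R, and K a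
pseudo-coherent object of D(A). Write K_q for the derived base change of K to A_q (assumed to exist)
and view it in D(R_p) and in D(R) by restriction of scalars. If the cohomology of K_q ⊗^L_{R_p} κ(p)
(derived tensor with the residue field, assumed to exist) vanishes outside the degrees in [a, b],
then K_q has tor amplitude in [a - d, b] as a complex of R-modules. -/
theorem result (R A : Type u) [CommRing R] [CommRing A] [Algebra R A]
    [Module.Flat R A] [Algebra.FinitePresentation R A] (d : ℕ)
    (ψ : MvPolynomial (Fin d) R →ₐ[R] A) (hψ : Function.Surjective ψ)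
    (q : Ideal A) [q.IsPrime] (p : Ideal R) [p.IsPrime] (hpq : p = Ideal.comap (algebraMap R A) q)
    [DRing.HasLBaseChange (algebraMap A (Localization.AtPrime q))]
    [DRing.HasLTensor (Localization.AtPrime p) (ModuleCat.of (Localization.AtPrime p) p.ResidueField)]
    (K : Dual.D A) (hK : DRing.IsPseudoCoherent' A K) (a b : ℤ)
    (hfib : ∀ i : ℤ, i < a ∨ b < i → Subsingleton (Dual.HD (Localization.AtPrime p)
      ((DRing.LTensor (Localization.AtPrime p) (ModuleCat.of (Localization.AtPrime p) p.ResidueField)).obj
        ((DRing.restrictD (Localization.localRingHom p q (algebraMap R A) hpq)).obj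
          ((DRing.LBaseChange (algebraMap A (Localization.AtPrime q))).obj K))) i)) :
    DRing.HasTorAmplitudeIn R (a - d) b
      ((DRing.restrictD (algebraMap R (Localization.AtPrime q))).obj
        ((DRing.LBaseChange (algebraMap A (Localization.AtPrime q))).obj K)) := by
  classical
  let P := MvPolynomial (Fin d) R
  letI : Algebra P A := ψ.toRingHom.toAlgebra
  haveI : IsScalarTower R P A := IsScalarTower.of_algebraMap_eq fun r => (ψ.commutes r).symm
  let Q := q.comap (algebraMap P A)
  have hpQ : p = Q.comap (algebraMap R P) := by
    rw [hpq, Ideal.comap_comap, ← IsScalarTower.algebraMap_eq]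
  let Rp := Localization.AtPrime p
  let S := Localization.AtPrime Q
  let Aq := Localization.AtPrime q
  let kk := p.ResidueField
  let χ : S →+* Aq := Localization.localRingHom Q q (algebraMap P A) rfl
  let ι : Rp →+* S := Localization.localRingHom p Q (algebraMap R P) hpQ
  have hι : ι.comp (algebraMap R Rp) = algebraMap R S := RingHom.ext fun r => by
    rw [RingHom.comp_apply, Localization.localRingHom_to_map]
    exact (IsScalarTower.algebraMap_apply R P S r).symm
  letI : Algebra S Aq := χ.toAlgebra
  haveI : IsScalarTower P S Aq := IsScalarTower.of_algebraMap_eq fun x => by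
    refine Eq.trans ?_ (Localization.localRingHom_to_map Q q (algebraMap P A) rfl x).symm
    exact IsScalarTower.algebraMap_apply P A Aq x
  -- the localized algebra is pseudo-coherent over the localized polynomial ring
  have hAq : DRing.IsPseudoCoherentModule' S Aq := by
    haveI : Module.Finite P A := Module.Finite.of_surjective (Algebra.linearMap P A) hψ
    haveI : Algebra.FinitePresentation P A := Algebra.FinitePresentation.of_restrict_scalars_finitePresentation R P A
    haveI : Module.FinitePresentation P A :=
      Module.finitePresentation_of_surjective (Algebra.linearMap P A) hψ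
        (Algebra.FinitePresentation.ker_fG_of_surjective (Algebra.ofId P A) hψ)
    haveI : Module.Flat P S := IsLocalization.flat _ Q.primeCompl
    have hsub : Algebra.algebraMapSubmonoid A Q.primeCompl = q.primeCompl := by
      refine SetLike.ext fun x => ⟨?_, fun hx => ?_⟩
      · rintro ⟨y, hy, rfl⟩
        exact hy
      · obtain ⟨y, rfl⟩ := hψ x
        exact ⟨y, hx, rfl⟩
    haveI : IsLocalization (Algebra.algebraMapSubmonoid A Q.primeCompl) Aq := by
      rw [hsub]; infer_instance
    haveI : IsLocalizedModule Q.primeCompl (IsScalarTower.toAlgHom P A Aq).toLinearMap :=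
      isLocalizedModule_iff_isLocalization.2 inferInstance
    let e : TensorProduct P S A ≃ₗ[S] Aq :=
      (IsLocalizedModule.isBaseChange Q.primeCompl S (IsScalarTower.toAlgHom P A Aq).toLinearMap).equiv
    exact Groth.Agent.H9Misc.DRingPC.of_iso'
      ((DerivedCategory.singleFunctor (ModuleCat.{u} S) 0).mapIso e.toModuleIso)
      ((Groth.Agent.S7000.result (A := P) (B := S) 0 A).2 (Groth.Agent.FlatSyz5.pc' R P A))
  let Kq := (DRing.LBaseChange (algebraMap A Aq)).obj K
  have hKq : DRing.IsPseudoCoherent' Aq Kq := (Groth.Agent.H9Misc.DRingPC.pc'_iff _).2 fun m =>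
    Groth.Agent.S2137.result _ K m ((Groth.Agent.H9Misc.DRingPC.pc'_iff _).1 hK m)
  obtain ⟨F, b₀, hb₀, hF, ⟨e⟩⟩ := (Groth.Agent.S6940.result hAq Kq 0).2.1 hKq
  -- exactness on the fibre
  letI : Algebra Rp S := ι.toAlgebra
  haveI : IsScalarTower R Rp S := IsScalarTower.of_algebraMap_eq fun r => (RingHom.congr_fun hι r).symm
  haveI : Module.Flat P S := IsLocalization.flat _ Q.primeCompl
  haveI : Module.Flat R S := Module.Flat.trans R P S
  have hfl : DRing.TermwiseFlat ((DTen.resCx ι).obj F) := fun i => by
    haveI := (hF i).2
    letI : Module Rp (F.X i) := Module.compHom _ ι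
    haveI : IsScalarTower Rp S (F.X i) := IsScalarTower.of_algebraMap_smul fun _ _ => rfl
    haveI : Module.Flat Rp S := (Module.flat_iff_of_isLocalization (S := Rp) (p := p.primeCompl) (M := S)).2 inferInstance
    exact Module.Flat.trans Rp S (F.X i)
  have hKF := Groth.Agent.H9Misc.DRingTor.isKF_of_flat hfl fun i hi =>
    (ModuleCat.restrictScalars ι).map_isZero (hb₀ i hi)
  have hcomp : χ.comp ι = Localization.localRingHom p q (algebraMap R A) hpq := by
    refine Eq.trans ?_ (congrArg (fun f => f) rfl)
    refine IsLocalization.ringHom_ext p.primeCompl (RingHom.ext fun r => ?_)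
    change Localization.localRingHom Q q (algebraMap P A) rfl
      (Localization.localRingHom p Q (algebraMap R P) hpQ (algebraMap R (Localization.AtPrime p) r)) =
      Localization.localRingHom p q (algebraMap R A) hpq (algebraMap R (Localization.AtPrime p) r)
    rw [Localization.localRingHom_to_map, Localization.localRingHom_to_map, Localization.localRingHom_to_map,
      ← IsScalarTower.algebraMap_apply R P A]
  have hamp : DRing.HasTorAmplitudeIn R (a - d) b ((DRing.restrictD (algebraMap R S)).obj (DerivedCategory.Q.obj F)) := by
    let g₀ : kk →ₐ[R] IsLocalRing.ResidueField S :=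
      Ideal.ResidueField.mapₐ p Q (IsScalarTower.toAlgHom R R P) hpQ
    refine Groth.Agent.KFlatLib.amp_of_localized_fibre Q.primeCompl (AlgEquiv.refl : P ≃ₐ[R] P) g₀ hF hb₀ a b fun i hi => ?_
    refine Groth.Agent.KFlatLib.exactAt_fibre_of_atPrime (Rp := Rp) p.primeCompl i ι hι ?_
    refine (Groth.Agent.H9Misc.DRingTor.exactAt_tensC_iff _ hKF ?_ i).1 (hfib i hi)
    exact ((DTen.resFactors ι).app F).symm ≪≫ (DRing.restrictD ι).mapIso e ≪≫
      ((Groth.Agent.H9Misc.DRingRelPC.restrictDCompIso ι χ).app Kq).symm ≪≫
      (eqToIso (congrArg (fun f => DRing.restrictD f) hcomp)).app Kq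
  have hR : χ.comp (algebraMap R S) = algebraMap R Aq := RingHom.ext fun r => by
    rw [RingHom.comp_apply, IsScalarTower.algebraMap_apply R P S r, Localization.localRingHom_to_map,
      ← IsScalarTower.algebraMap_apply R P A, ← IsScalarTower.algebraMap_apply R A Aq]
  exact Groth.Agent.H9Misc.DRingTor.of_iso ((DRing.restrictD (algebraMap R S)).mapIso e ≪≫
    ((Groth.Agent.H9Misc.DRingRelPC.restrictDCompIso (algebraMap R S) χ).app Kq).symm ≪≫
    (eqToIso (congrArg (fun f => DRing.restrictD f) hR)).app Kq) hamp

end Groth.Agent.S7104
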