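import Groth.Statements.S7105
import Mathlib
import Groth.Agent.H9Misc.DRingTwoTerm

set_option autoImplicit false
universe u
attribute [local instance] HasDerivedCategory.standard
open CategoryTheory
open DRing

namespace Groth.Agent.S7105

/-- Let R be a commutative ring, M a cochain complex of R-modules with M^i = 0 for i > 0 and M^0
projective, and K a cochain complex with K^i = 0 for all i ≤ -2. Then the canonical map
Hom_{K(R)}(M, K) → Hom_{D(R)}(M, K), from homotopy classes of chain maps to morphisms in the derived
category, is bijective. -/
theorem result {R : Type u} [CommRing R] (M K : DRing.Cx R)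
    (hM : ∀ i : ℤ, 0 < i → Limits.IsZero (M.X i)) (hM0 : Module.Projective R (M.X 0))
    (hK : ∀ i : ℤ, i ≤ -2 → Limits.IsZero (K.X i)) :
    Function.Bijective (fun φ : (HomotopyCategory.quotient (ModuleCat.{u} R) (ComplexShape.up ℤ)).obj M ⟶
        (HomotopyCategory.quotient (ModuleCat.{u} R) (ComplexShape.up ℤ)).obj K => DerivedCategory.Qh.map φ) := by
  exact Groth.Agent.H9Misc.DRingTwoTerm.bijective_Qh_map hM hM0 hK

end Groth.Agent.S7105
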