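import Groth.Statements.S7111
import Mathlib
import Groth.Agent.CAlgUI.BassBig

set_option autoImplicit false
universe u
open CAlg

namespace Groth.Agent.S7111

/-- Let R be a ring whose quotient by its Jacobson radical is Noetherian and P a projective R-module
such that for every maximal ideal m the localization P_m is not finitely generated over R_m (P has
infinite rank everywhere). Then every element s of P lies in a direct summand of P which is a finite
stably free module. -/
theorem result (R : Type u) [CommRing R]
    [IsNoetherianRing (R ⧸ (⊥ : Ideal R).jacobson)]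
    (P : Type u) [AddCommGroup P] [Module R P] [Module.Projective R P]
    (hP : ∀ (m : Ideal R) [m.IsMaximal],
      ¬ Module.Finite (Localization.AtPrime m) (LocalizedModule m.primeCompl P))
    (s : P) :
    ∃ (K K' : Submodule R P), IsCompl K K' ∧ Module.Finite R K ∧ Module.IsStablyFree R K ∧ s ∈ K := by
  classical
  obtain ⟨g, hg⟩ := Module.projective_def'.1 ‹Module.Projective R P›
  obtain ⟨n, h, π, hπh, hs⟩ := Groth.Agent.CAlgUI.exists_free_summand_mem (Finsupp.linearCombination R id) g (fun y => LinearMap.congr_fun hg y)
    (fun m _ T => Groth.Agent.CAlgUI.not_spanned_mod m (hP m) T) s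
  have hinj : Function.Injective h := Function.LeftInverse.injective fun r => LinearMap.congr_fun hπh r
  have hc : IsCompl (LinearMap.range h) (LinearMap.ker π) := by
    refine ⟨Submodule.disjoint_def.2 fun y hy hy' => ?_, codisjoint_iff.2 (eq_top_iff.2 fun y _ => ?_)⟩
    · obtain ⟨r, rfl⟩ := hy
      have h' : π (h r) = r := LinearMap.congr_fun hπh r
      rw [LinearMap.mem_ker, h'] at hy'
      rw [hy', map_zero]
    · refine Submodule.mem_sup.2 ⟨h (π y), ⟨_, rfl⟩, y - h (π y), ?_, add_sub_cancel _ _⟩
      rw [LinearMap.mem_ker, map_sub, show π (h (π y)) = π y from LinearMap.congr_fun hπh _, sub_self]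
  let eq : (Fin n → R) ≃ₗ[R] LinearMap.range h := LinearEquiv.ofInjective h hinj
  haveI : Module.Free R (LinearMap.range h) := Module.Free.of_equiv eq
  haveI : Module.Finite R (LinearMap.range h) := Module.Finite.equiv eq
  exact ⟨_, _, hc, inferInstance, inferInstance, hs⟩

end Groth.Agent.S7111
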