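import Groth.Statements.S7112
import Groth.Agent.CAlgUI.Local
import Groth.Agent.CAlgUI.Swindle
import Mathlib

set_option autoImplicit false
universe u
open CAlg

namespace Groth.Agent.S7112

/-- A projective module which is big at a maximal ideal is not spanned modulo it by finitely many elements. -/
theorem not_finite_mod {R : Type u} [CommRing R] {P : Type u} [AddCommGroup P] [Module R P]
    [Module.Projective R P] (hc : CAlg.IsCountablyGenerated R P) (m : Ideal R) [m.IsMaximal]
    (hP : ¬ Module.Finite (Localization.AtPrime m) (LocalizedModule m.primeCompl P))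
    {ι : Type*} [Finite ι] (p : ι → P) :
    ∃ x : P, x ∉ Submodule.span R (Set.range p) ⊔ m • (⊤ : Submodule R P) := by
  classical
  by_contra hcon
  push Not at hcon
  apply hP
  let S := Localization.AtPrime m
  let M := LocalizedModule m.primeCompl P
  let l := LocalizedModule.mkLinearMap m.primeCompl P
  haveI : Module.Projective S M := Module.projective_of_isLocalizedModule m.primeCompl l
  obtain ⟨s, hs, hspan⟩ := hc
  have hcM : CAlg.IsCountablyGenerated S M := ⟨l '' s, hs.image _, eq_top_iff.2 fun y _ => by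
    obtain ⟨⟨x, t⟩, rfl⟩ := IsLocalizedModule.mk'_surjective m.primeCompl l y
    have hx : l x ∈ Submodule.span S (l '' s) := by
      have h1 : l x ∈ Submodule.span R (l '' s) := by
        rw [← Submodule.map_span, hspan]; exact ⟨x, trivial, rfl⟩
      exact Submodule.span_le_restrictScalars R S _ h1
    have : IsLocalizedModule.mk' l x t = IsLocalization.mk' S 1 t • l x := by
      rw [← IsLocalizedModule.mk'_one m.primeCompl l x, IsLocalizedModule.mk'_smul_mk', one_smul, mul_one]
    show IsLocalizedModule.mk' l x t ∈ _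
    rw [this]
    exact Submodule.smul_mem _ _ hx⟩
  haveI := Groth.Agent.CAlgUI.free_of_countablyGenerated hcM
  let b := Module.Free.chooseBasis S M
  haveI := Fintype.ofFinite ι
  let T : Finset (Module.Free.ChooseBasisIndex S M) := Finset.univ.biUnion fun i => (b.repr (l (p i))).support
  have hspan' : ∀ x : P, ∀ j, j ∉ T → b.repr (l x) j ∈ IsLocalRing.maximalIdeal S := by
    intro x j hj
    obtain ⟨y, hy, z, hz, rfl⟩ := Submodule.mem_sup.1 (hcon x)
    rw [map_add, map_add, Finsupp.add_apply]
    refine add_mem ?_ ?_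
    · obtain ⟨c, rfl⟩ := (Submodule.mem_span_range_iff_exists_fun R).1 hy
      rw [map_sum, map_sum, Finsupp.finset_sum_apply]
      refine Submodule.sum_mem _ fun i _ => ?_
      rw [map_smul, ← algebraMap_smul S, map_smul, Finsupp.smul_apply]
      have : b.repr (l (p i)) j = 0 := by
        by_contra h
        exact hj (Finset.mem_biUnion.2 ⟨i, Finset.mem_univ i, Finsupp.mem_support_iff.2 h⟩)
      rw [this, smul_zero]
      exact zero_mem _
    · refine Submodule.smul_induction_on hz (fun a ha w _ => ?_) (fun a c ha hc => ?_)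
      · rw [map_smul, ← algebraMap_smul S, map_smul, Finsupp.smul_apply, smul_eq_mul]
        exact Ideal.mul_mem_right _ _ ((IsLocalization.AtPrime.to_map_mem_maximal_iff S m a).2 ha)
      · rw [map_add, map_add, Finsupp.add_apply]; exact add_mem ha hc
  haveI : Finite (Module.Free.ChooseBasisIndex S M) := by
    have : ∀ j, j ∈ T := fun j => by
      by_contra hj
      obtain ⟨⟨x, t⟩, hxt⟩ := IsLocalizedModule.mk'_surjective m.primeCompl l (b j)
      have e : l x = algebraMap R S t • b j := by
        rw [← hxt, algebraMap_smul]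
        exact (IsLocalizedModule.mk'_cancel' l x t).symm
      have := hspan' x j hj
      rw [e, map_smul, Finsupp.smul_apply, Module.Basis.repr_self, Finsupp.single_eq_same, smul_eq_mul,
        mul_one] at this
      exact t.2 ((IsLocalization.AtPrime.to_map_mem_maximal_iff S m _).1 this)
    exact Finite.of_surjective (fun j : T => j.1) fun j => ⟨⟨j, this j⟩, rfl⟩
  exact Module.Finite.of_basis b

theorem split_equiv {R M P : Type*} [CommRing R] [AddCommGroup M] [Module R M] [AddCommGroup P] [Module R P]
    (f : M →ₗ[R] P) (g : P →ₗ[R] M) (h : f.comp g = LinearMap.id) :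
    Nonempty (M ≃ₗ[R] LinearMap.ker f × P) :=
  ⟨((LinearMap.exact_subtype_ker_map f).splitSurjectiveEquiv Subtype.val_injective ⟨g, h⟩).1⟩

/-- A uniformly big projective summand of a free module has elements unimodular in the high coordinates. -/
theorem exists_unimodular {R : Type u} [CommRing R] [IsNoetherianRing (R ⧸ (⊥ : Ideal R).jacobson)]
    {P : Type u} [AddCommGroup P] [Module R P] (f : (ℕ →₀ R) →ₗ[R] P) (g : P →ₗ[R] (ℕ →₀ R))
    (hfg : ∀ y, f (g y) = y)
    (hbig : ∀ (m : Ideal R) [m.IsMaximal] (k : ℕ) (p : Fin k → P),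
      ∃ x : P, x ∉ Submodule.span R (Set.range p) ⊔ m • (⊤ : Submodule R P)) (N : ℕ) :
    ∃ (u : P) (φ : P →ₗ[R] R), φ u = 1 ∧ ∀ y, (∀ i, N ≤ i → g y i = 0) → φ y = 0 := by
  classical
  let J := (⊥ : Ideal R).jacobson
  let S := R ⧸ J
  let π := Ideal.Quotient.mk J
  let I : P → Ideal S := fun p => Ideal.span (Set.range fun i : {i // N ≤ i} => π (g p i.1))
  obtain ⟨_, ⟨p, rfl⟩, hmax⟩ := set_has_maximal_iff_noetherian.2 (inferInstance : IsNoetherian S S)
    (Set.range I) ⟨_, 0, rfl⟩
  have htop : I p = ⊤ := by
    by_contra hne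
    obtain ⟨M, hM, hIM⟩ := Ideal.exists_le_maximal _ hne
    let m := M.comap π
    haveI : m.IsMaximal := Ideal.comap_isMaximal_of_surjective _ Ideal.Quotient.mk_surjective
    obtain ⟨N', hN', hsupp⟩ : ∃ N', N ≤ N' ∧ ∀ i, N' ≤ i → g p i = 0 :=
      ⟨max N ((g p).support.sup id + 1), le_max_left _ _, fun i hi => by
        by_contra h
        have := Finset.le_sup (f := id) (Finsupp.mem_support_iff.2 h)
        simp only [id] at this
        omega⟩
    let ρ : P → (Fin N' → S) := fun y i => π (g y i)
    obtain ⟨t, htρ, ht⟩ := (Submodule.fg_span_iff_fg_span_finset_subset (R := S) (Set.range ρ)).1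
      (IsNoetherian.noetherian _)
    obtain ⟨k, w, hw⟩ : ∃ (k : ℕ) (w : Fin k → P), (t : Set (Fin N' → S)) = Set.range (ρ ∘ w) := by
      choose w hw using fun z : t => htρ z.2
      refine ⟨t.card, w ∘ t.equivFin.symm, ?_⟩
      rw [show ρ ∘ (w ∘ t.equivFin.symm) = (Subtype.val : t → _) ∘ t.equivFin.symm from funext fun i => hw _,
        Set.range_comp, t.equivFin.symm.surjective.range_eq, Set.image_univ, Subtype.range_coe]
    obtain ⟨q, hlow, j, hj, hjm⟩ : ∃ q : P, (∀ i, i < N' → g q i ∈ J) ∧ ∃ j, N' ≤ j ∧ g q j ∉ m := by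
      by_contra hcon
      push Not at hcon
      obtain ⟨x, hx⟩ := hbig m k w
      apply hx
      have hρ : ρ x ∈ Submodule.span S (Set.range (ρ ∘ w)) := by
        rw [← hw, ← ht]; exact Submodule.subset_span ⟨x, rfl⟩
      obtain ⟨c, hc⟩ := (Submodule.mem_span_range_iff_exists_fun S).1 hρ
      choose c' hc' using fun i => Ideal.Quotient.mk_surjective (c i)
      let y := x - ∑ i, c' i • w i
      have hy : ∀ i, i < N' → g y i ∈ J := fun i hi => by
        rw [← Ideal.Quotient.eq_zero_iff_mem]
        have := congrFun hc ⟨i, hi⟩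
        simp only [Finset.sum_apply, Pi.smul_apply, smul_eq_mul, Function.comp_apply, ρ] at this
        simp only [y, map_sub, map_sum, map_smul, Finsupp.sub_apply, Finsupp.finset_sum_apply,
          Finsupp.smul_apply, smul_eq_mul, map_mul, hc']
        rw [sub_eq_zero]
        exact this.symm
      have hall : ∀ i, g y i ∈ m := fun i => by
        by_cases h : i < N'
        · show π (g y i) ∈ M
          rw [Ideal.Quotient.eq_zero_iff_mem.2 (hy i h)]
          exact zero_mem _
        · exact hcon y hy i (by omega)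
      have hy' : y ∈ m • (⊤ : Submodule R P) := by
        rw [← hfg y, ← Finsupp.sum_single (g y), map_finsuppSum]
        refine Submodule.sum_mem _ fun i _ => ?_
        show f (Finsupp.single i (g y i)) ∈ _
        rw [← Finsupp.smul_single_one, map_smul]
        exact Submodule.smul_mem_smul (hall i) Submodule.mem_top
      rw [show x = (∑ i, c' i • w i) + y by simp [y]]
      exact Submodule.mem_sup.2 ⟨_, Submodule.sum_mem _ fun i _ =>
        Submodule.smul_mem _ _ (Submodule.subset_span ⟨i, rfl⟩), y, hy', rfl⟩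
    have hle : I p ≤ I (p + q) := Ideal.span_le.2 fun _ ⟨i, hi⟩ => by
      subst hi
      by_cases h : i.1 < N'
      · refine Ideal.subset_span ⟨i, ?_⟩
        show π (g (p + q) i.1) = π (g p i.1)
        rw [map_add, Finsupp.add_apply, map_add, Ideal.Quotient.eq_zero_iff_mem.2 (hlow _ h), add_zero]
      · show π (g p i.1) ∈ I (p + q)
        rw [hsupp _ (by omega), map_zero]
        exact zero_mem _
    have hmem : π (g q j) ∈ I (p + q) := Ideal.subset_span ⟨⟨j, hN'.trans hj⟩, by
      show π (g (p + q) j) = π (g q j)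
      rw [map_add, Finsupp.add_apply, hsupp _ hj, zero_add]⟩
    refine hmax (I (p + q)) ⟨_, rfl⟩ (lt_of_le_of_ne hle fun e => hjm ?_)
    exact hIM (e.symm ▸ hmem)
  have h1 : π 1 ∈ (Ideal.span (Set.range fun i : {i // N ≤ i} => g p i.1)).map π := by
    rw [Ideal.map_span, ← Set.range_comp]
    show _ ∈ I p
    rw [htop]; exact Submodule.mem_top
  obtain ⟨a, ha, hae⟩ := (Ideal.mem_map_iff_of_surjective π Ideal.Quotient.mk_surjective).1 h1
  have hau : IsUnit a := by
    have := Ideal.mem_jacobson_bot.1 (Ideal.Quotient.eq.1 hae) 1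
    simpa using this
  obtain ⟨v, hv⟩ := hau.exists_right_inv
  obtain ⟨c, hc⟩ := Finsupp.mem_span_range_iff_exists_finsupp.1 ha
  refine ⟨p, v • ∑ i ∈ c.support, c i • (Finsupp.lapply (R := R) i.1).comp g, ?_, fun y hy => ?_⟩
  · simp only [LinearMap.smul_apply, LinearMap.sum_apply, LinearMap.comp_apply, Finsupp.lapply_apply]
    rw [show ∑ i ∈ c.support, c i • g p i.1 = a from hc, smul_eq_mul, mul_comm, hv]
  · simp only [LinearMap.smul_apply, LinearMap.sum_apply, LinearMap.comp_apply, Finsupp.lapply_apply]
    rw [Finset.sum_eq_zero fun i _ => by rw [hy i.1 i.2, smul_zero], smul_zero]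


/-- Commutative case of a result of Bass: let R be a ring whose quotient by its Jacobson radical is
Noetherian and P a countably generated projective R-module such that for every maximal ideal m the
localization P_m is not finitely generated over R_m (P has infinite rank everywhere). Then P is
free. -/
theorem result (R : Type u) [CommRing R]
    [IsNoetherianRing (R ⧸ (⊥ : Ideal R).jacobson)]
    (P : Type u) [AddCommGroup P] [Module R P] [Module.Projective R P]
    (hP : ∀ (m : Ideal R) [m.IsMaximal],
      ¬ Module.Finite (Localization.AtPrime m) (LocalizedModule m.primeCompl P))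
    (hc : CAlg.IsCountablyGenerated R P) : Module.Free R P := by
  classical
  obtain ⟨s, hs, hspan⟩ := hc
  obtain ⟨x, hx⟩ := (hs.union (Set.countable_singleton (0 : P))).exists_eq_range ⟨0, Or.inr rfl⟩
  let f : (ℕ →₀ R) →ₗ[R] P := Finsupp.linearCombination R x
  have hfsurj : Function.Surjective f := by
    rw [← LinearMap.range_eq_top, Finsupp.range_linearCombination, eq_top_iff, ← hspan]
    exact Submodule.span_mono (by rw [← hx]; exact Set.subset_union_left)
  obtain ⟨g, hg⟩ := Module.projective_lifting_property f LinearMap.id hfsurj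
  have hfg : ∀ y, f (g y) = y := fun y => LinearMap.congr_fun hg y
  have hbig : ∀ (m : Ideal R) [m.IsMaximal] (k : ℕ) (p : Fin k → P),
      ∃ y : P, y ∉ Submodule.span R (Set.range p) ⊔ m • (⊤ : Submodule R P) :=
    fun m _ k p => not_finite_mod ⟨s, hs, hspan⟩ m (hP m) p
  choose u φ hφu hφ0 using exists_unimodular f g hfg hbig
  let B : P → ℕ := fun y => (g y).support.sup id + 1
  have hB : ∀ y i, B y ≤ i → g y i = 0 := fun y i hi => by
    by_contra h
    have := Finset.le_sup (f := id) (Finsupp.mem_support_iff.2 h)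
    simp only [id, B] at this hi
    omega
  let N : ℕ → ℕ := fun n => Nat.rec 0 (fun n Nn => max Nn (max (B (x n)) (B (u Nn)))) n
  have hN : Monotone N := monotone_nat_of_le_succ fun n => le_max_left _ _
  have hkill : ∀ k n, k < n → φ (N n) (x k) = 0 ∧ φ (N n) (u (N k)) = 0 := fun k n hkn => by
    have h : max (B (x k)) (B (u (N k))) ≤ N n := (le_max_right _ _).trans (hN hkn)
    exact ⟨hφ0 _ _ fun i hi => hB _ _ ((le_max_left _ _).trans (h.trans hi)),
      hφ0 _ _ fun i hi => hB _ _ ((le_max_right _ _).trans (h.trans hi))⟩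
  let Ψ : (ℕ →₀ R) →ₗ[R] (ℕ →₀ R) :=
    Finsupp.linearCombination R fun k => ∑ n ∈ Finset.range (k + 1), Finsupp.single n (φ (N n) (x k))
  have hΨ : ∀ n, (Finsupp.lapply (R := R) n).comp Ψ = (φ (N n)).comp f := fun n => by
    refine Finsupp.lhom_ext' fun k => LinearMap.ext_ring ?_
    simp only [LinearMap.comp_apply, Finsupp.lsingle_apply, Ψ, f, Finsupp.linearCombination_single, one_smul,
      Finsupp.lapply_apply, Finsupp.finset_sum_apply, Finsupp.single_apply]
    rw [Finset.sum_ite_eq' (Finset.range (k + 1)) n]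
    split
    · rfl
    · rename_i h
      exact ((hkill k n (by simpa [Nat.lt_succ_iff] using h)).1).symm
  let Φ : P →ₗ[R] (ℕ →₀ R) := Ψ.comp g
  have hΦ : ∀ y n, Φ y n = φ (N n) y := fun y n =>
    (LinearMap.congr_fun (hΨ n) (g y)).trans (by rw [LinearMap.comp_apply, hfg])
  have hΦsurj : Function.Surjective Φ := by
    rw [← LinearMap.range_eq_top, eq_top_iff]
    intro v _
    have h1 : ∀ n, Finsupp.single n (1 : R) ∈ LinearMap.range Φ := fun n => by
      induction n using Nat.strong_induction_on with
      | _ n ih =>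
        have e : Φ (u (N n)) - ∑ i ∈ Finset.range n, φ (N i) (u (N n)) • Finsupp.single i (1 : R) =
            Finsupp.single n 1 := by
          ext i
          simp only [Finsupp.sub_apply, Finsupp.finset_sum_apply, Finsupp.smul_apply, Finsupp.single_apply,
            hΦ, smul_eq_mul, mul_ite, mul_one, mul_zero]
          rw [Finset.sum_ite_eq' (Finset.range n) i]
          rcases lt_trichotomy i n with h | h | h
          · rw [if_pos (Finset.mem_range.2 h), if_neg h.ne', sub_self]
          · subst h; rw [if_neg (by simp), if_pos rfl, hφu, sub_zero]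
          · rw [if_neg (by simp; omega), if_neg h.ne, (hkill n i h).2, sub_zero]
        rw [← e]
        exact sub_mem ⟨_, rfl⟩ (Submodule.sum_mem _ fun i hi =>
          Submodule.smul_mem _ _ (ih i (Finset.mem_range.1 hi)))
    rw [← Finsupp.sum_single v]
    refine Submodule.sum_mem _ fun n _ => ?_
    show Finsupp.single n (v n) ∈ _
    rw [← Finsupp.smul_single_one]
    exact Submodule.smul_mem _ _ (h1 n)
  obtain ⟨σ, hσ⟩ := Module.projective_lifting_property Φ LinearMap.id hΦsurj
  obtain ⟨e1⟩ := split_equiv Φ σ hσ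
  obtain ⟨e2⟩ := split_equiv f g hg
  let eI : (ℕ →₀ R) ≃ₗ[R] (ULift.{u} ℕ →₀ R) := Finsupp.domLCongr Equiv.ulift.symm
  obtain ⟨eP⟩ := Groth.Agent.CAlgUI.swindle (P := LinearMap.ker Φ) (Q := (ℕ →₀ R) × LinearMap.ker f)
    ((((LinearEquiv.prodAssoc R _ _ _).symm.trans (e1.symm.prodCongr (LinearEquiv.refl R _))).trans
      (LinearEquiv.prodComm R _ _)).trans (e2.symm.trans eI))
  exact Module.Free.of_equiv (e1.trans (((LinearEquiv.refl R _).prodCongr eI).trans eP)).symm


end Groth.Agent.S7112
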