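import Groth.Statements.S7113
import Groth.Agent.SerreSplit.Splitting

set_option autoImplicit false
universe u
open CAlg

namespace Groth.Agent.S7113

/-- Let R be a ring whose set of maximal ideals, with the Zariski topology, is a Noetherian topological
space of Krull dimension at most d, and let M be an R-module of finite presentation whose
localization M_m at each maximal ideal m contains a free direct summand of rank d + 1. Then M is
isomorphic to R ⊕ M' for some M': there are s in M and a linear form φ on M with φ(s) = 1. (The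
published statement takes the dimension equal to d; a space of smaller dimension satisfies the
hypothesis for a smaller d, so the bound form is equivalent.) -/
theorem result (R : Type u) [CommRing R] (d : ℕ)
    [TopologicalSpace.NoetherianSpace (MaximalSpectrum R)]
    (hdim : topologicalKrullDim (MaximalSpectrum R) ≤ d)
    (M : Type u) [AddCommGroup M] [Module R M] [Module.FinitePresentation R M]
    (hM : ∀ (m : Ideal R) [m.IsMaximal],
      ∃ (f : (Fin (d + 1) → Localization.AtPrime m) →ₗ[Localization.AtPrime m] LocalizedModule m.primeCompl M)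
        (g : LocalizedModule m.primeCompl M →ₗ[Localization.AtPrime m] (Fin (d + 1) → Localization.AtPrime m)),
        g ∘ₗ f = LinearMap.id) :
    ∃ (s : M) (φ : M →ₗ[R] R), φ s = 1 := by
  classical
  have hD : SerreSplit.DimGE R M (d + 1) := by
    intro x m s hm
    obtain ⟨f, g, hgf⟩ := hM x.asIdeal
    choose mu hmu using fun i : Fin (d + 1) =>
      IsLocalizedModule.surj x.asIdeal.primeCompl
        (LocalizedModule.mkLinearMap x.asIdeal.primeCompl M) (f (Pi.single i 1))
    let ψ : Fin (d + 1) → M →ₗ[R] Localization.AtPrime x.asIdeal := fun j =>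
      ((LinearMap.proj j).comp g).restrictScalars R ∘ₗ
        LocalizedModule.mkLinearMap x.asIdeal.primeCompl M
    obtain ⟨φ, hφ⟩ := SerreSplit.exists_det_of_localized x.asIdeal.primeCompl x.asIdeal le_rfl
      (fun i => (mu i).1) ψ (fun i => (mu i).2) (fun i j => by
        have h1 := LinearMap.congr_fun hgf (Pi.single i 1)
        simp only [LinearMap.coe_comp, Function.comp_apply, LinearMap.id_coe, id_eq] at h1
        show g (LocalizedModule.mkLinearMap x.asIdeal.primeCompl M (mu i).1) j = _
        rw [← hmu i, Submonoid.smul_def, LinearMap.map_smul_of_tower, h1]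
        simp [Pi.single_apply, eq_comm, Algebra.smul_def])
    exact (SerreSplit.indep_of_det φ hφ).U_ne_top s hm
  have hbad : SerreSplit.Bad (R := R) (![] : Fin 0 → M) ⊆ ∅ := fun x hx =>
    hx fun c _ i => i.elim0
  obtain ⟨t, F', hF', -, hsub, hco⟩ := SerreSplit.exists_general_element (d + 1)
    (Nat.zero_add _).le hD (![] : Fin 0 → M) ∅ isClosed_empty hbad ∅ (by simp) (fun _ => 0)
  have hF'e : F' = ∅ := by
    by_contra hne
    obtain ⟨x, hx⟩ := Set.nonempty_iff_ne_empty.2 hne
    let Z : TopologicalSpace.IrreducibleCloseds (MaximalSpectrum R) :=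
      ⟨closure {x}, isIrreducible_singleton.closure, isClosed_closure⟩
    have h1 := hco Z (closure_minimal (Set.singleton_subset_iff.2 hx) hF')
    have h2 := le_trans (WithBot.coe_le_coe.2 h1)
      (le_trans (Order.coheight_le_krullDim Z) hdim)
    have h3 : ((d + 1 : ℕ) : ℕ∞) ≤ (d : ℕ∞) := WithBot.coe_le_coe.1 h2
    rw [Nat.cast_le] at h3
    omega
  have hall : ∀ x : MaximalSpectrum R, ∃ φ : M →ₗ[R] R, φ t ∉ x.asIdeal := by
    intro x
    by_contra hne
    push Not at hne
    have hx : x ∉ SerreSplit.Bad (R := R) (Fin.snoc (![] : Fin 0 → M) t : Fin (0 + 1) → M) :=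
      fun h => by simpa [hF'e] using hsub h
    have := (not_not.1 hx) (fun _ => 1) (SerreSplit.mem_N.2 fun φ => by
      simpa [Fin.snoc] using hne φ) 0
    exact x.isMaximal.ne_top ((Ideal.eq_top_iff_one _).2 this)
  have htop : LinearMap.range (LinearMap.applyₗ t : (M →ₗ[R] R) →ₗ[R] R) = (⊤ : Ideal R) := by
    by_contra hne
    obtain ⟨m, hm, hle⟩ := Ideal.exists_le_maximal _ hne
    obtain ⟨φ, hφ⟩ := hall ⟨m, hm⟩
    exact hφ (hle ⟨φ, rfl⟩)
  obtain ⟨φ, hφ⟩ := htop ▸ (Submodule.mem_top : (1 : R) ∈ (⊤ : Ideal R))
  exact ⟨t, φ, hφ⟩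


end Groth.Agent.S7113
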