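import Groth.Statements.S7114
import Mathlib

set_option autoImplicit false
universe u
open CAlg

namespace Groth.Agent.S7114

/-- Let R be a Noetherian local ring of Krull dimension one and x an element of the maximal ideal lying
in no minimal prime of R. Then for every n the length of R/xⁿR is at most n times the length of
R/xR, and equality holds when x is a nonzerodivisor. -/
theorem result (R : Type u) [CommRing R] [IsNoetherianRing R] [IsLocalRing R]
    (hdim : ringKrullDim R = 1) (x : R) (hx : x ∈ IsLocalRing.maximalIdeal R)
    (hmin : ∀ p ∈ minimalPrimes R, x ∉ p) (n : ℕ) :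
    Module.length R (R ⧸ Ideal.span {x ^ n}) ≤ (n : ℕ∞) * Module.length R (R ⧸ Ideal.span {x}) ∧
      (x ∈ nonZeroDivisors R →
        Module.length R (R ⧸ Ideal.span {x ^ n}) = (n : ℕ∞) * Module.length R (R ⧸ Ideal.span {x})) := by
  open Pointwise in
  have key : ∀ n : ℕ, Module.length R (R ⧸ Ideal.span {x ^ (n + 1)}) ≤
      Module.length R (R ⧸ Ideal.span {x ^ n}) + Module.length R (R ⧸ Ideal.span {x}) := by
    intro n
    have hI : x • Ideal.span {x ^ n} = Ideal.span {x ^ (n + 1)} := by
      rw [← Submodule.singleton_set_smul, ← Ideal.submodule_span_eq, Submodule.set_smul_span]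
      simp [pow_succ']
    let f := Ideal.mulQuot x (Ideal.span {x ^ n})
    let g := Ideal.quotOfMul x (Ideal.span {x ^ n})
    have hex : Function.Exact (LinearMap.range f).subtype g := by
      intro y
      rw [Ideal.exact_mulQuot_quotOfMul (Ideal.span {x ^ n}) y, Submodule.coe_subtype,
        Subtype.range_coe]
      rfl
    rw [← hI, Module.length_eq_add_of_exact _ g (LinearMap.range f).injective_subtype
      (Ideal.quotOfMul_surjective _) hex]
    exact add_le_add (Module.length_le_of_surjective f.rangeRestrict
      f.surjective_rangeRestrict) le_rfl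
  refine ⟨?_, fun hnzd => ?_⟩
  · induction n with
    | zero =>
      have : Subsingleton (R ⧸ Ideal.span {x ^ 0}) := by
        rw [pow_zero, Ideal.span_singleton_one]
        exact Submodule.Quotient.subsingleton_iff.mpr rfl
      simp [Module.length_eq_zero]
    | succ n ih =>
      refine (key n).trans ?_
      push_cast
      rw [add_mul, one_mul]
      exact add_le_add ih le_rfl
  · have := Ring.ord_pow hnzd n
    rw [nsmul_eq_mul] at this
    exact this


end Groth.Agent.S7114
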