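import Groth.Statements.S7115
import Mathlib

set_option autoImplicit false
universe u
open CAlg

namespace Groth.Agent.S7115

/-- Let R be a Noetherian local ring of Krull dimension d > 1 with maximal ideal m, let f be an element
of m contained in no minimal prime, and let k be a natural number. Then there are elements g_1, ...,
g_{d-1} of m lying in m^k such that f, g_1, ..., g_{d-1} form a system of parameters: these d
elements of m generate an ideal whose radical is m. -/
theorem result (R : Type u) [CommRing R] [IsNoetherianRing R] [IsLocalRing R]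
    (d : ℕ) (hd : ringKrullDim R = d) (h1 : 1 < d) (f : R) (hf : f ∈ IsLocalRing.maximalIdeal R)
    (hmin : ∀ p ∈ minimalPrimes R, f ∉ p) (k : ℕ) :
    ∃ g : Fin (d - 1) → R, (∀ i, g i ∈ IsLocalRing.maximalIdeal R ^ k) ∧ (∀ i, g i ∈ IsLocalRing.maximalIdeal R) ∧
      IsLocalRing.maximalIdeal R ≤ (Ideal.span (insert f (Set.range g))).radical := by
  classical
  let 𝔪 := IsLocalRing.maximalIdeal R
  have hmh : 𝔪.height = d := by
    have h := IsLocalRing.maximalIdeal_height_eq_ringKrullDim (R := R)
    rw [hd] at h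
    exact_mod_cast h
  have key : ∀ i : ℕ, i + 1 ≤ d → ∃ g : Fin i → R, (∀ j, g j ∈ 𝔪 ^ k ∧ g j ∈ 𝔪) ∧
      ∀ q : Ideal R, q.IsPrime → Ideal.span (insert f (Set.range g)) ≤ q →
        ((i + 1 : ℕ) : ℕ∞) ≤ q.height := by
    intro i
    induction i with
    | zero =>
      refine fun _ => ⟨Fin.elim0, fun j => j.elim0, fun q hq hle => ?_⟩
      have hfq : f ∈ q := hle (Ideal.subset_span (Set.mem_insert _ _))
      rw [zero_add, Nat.cast_one, Order.one_le_iff_ne_zero, ne_eq, Ideal.height_eq_zero_iff]
      exact fun h => hmin q h hfq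
    | succ i ih =>
      intro hi
      obtain ⟨g, hg, hgh⟩ := ih (by omega)
      let J := Ideal.span (insert f (Set.range g))
      let T : Finset (Ideal R) :=
        (Ideal.finite_minimalPrimes_of_isNoetherianRing R J).toFinset.filter (· ≠ 𝔪)
      have hnot : ¬ ((𝔪 ^ (k + 1) : Ideal R) : Set R) ⊆ ⋃ p ∈ (↑T : Set (Ideal R)), (p : Set R) := by
        intro hsub
        obtain ⟨p, hpT, hp⟩ := (Ideal.subset_union_prime_finite T.finite_toSet (f := id) ⊤ ⊤
          (fun p hp _ _ => (Set.Finite.mem_toFinset _ |>.mp (Finset.mem_filter.mp hp).1).isPrime)).mp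
          hsub
        have hpp : p.IsPrime :=
          (Set.Finite.mem_toFinset _ |>.mp (Finset.mem_filter.mp hpT).1).isPrime
        exact (Finset.mem_filter.mp hpT).2 ((IsLocalRing.maximalIdeal.isMaximal R).eq_of_le
          hpp.ne_top ((hpp.pow_le_iff (Nat.succ_ne_zero k)).mp hp)).symm
      obtain ⟨z, hz, hzT⟩ := Set.not_subset.mp hnot
      refine ⟨Fin.snoc g z, ?_, fun q hq hle => ?_⟩
      · refine Fin.lastCases ?_ (fun j => ?_) <;> simp only [Fin.snoc_last, Fin.snoc_castSucc]
        · exact ⟨Ideal.pow_le_pow_right (Nat.le_succ k) hz, Ideal.pow_le_self (Nat.succ_ne_zero k) hz⟩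
        · exact hg j
      · have hJq : J ≤ q := by
          refine Ideal.span_le.mpr fun y hy => hle (Ideal.subset_span ?_)
          rcases hy with rfl | ⟨j, rfl⟩
          · exact Set.mem_insert _ _
          · exact Set.mem_insert_of_mem _ ⟨j.castSucc, by simp⟩
        have hzq : z ∈ q := hle (Ideal.subset_span
          (Set.mem_insert_of_mem _ ⟨Fin.last i, by simp⟩))
        obtain ⟨p, hp, hpq⟩ := Ideal.exists_minimalPrimes_le hJq
        have := hp.isPrime
        by_cases hpm : p = 𝔪
        · have : q = 𝔪 := le_antisymm (IsLocalRing.le_maximalIdeal hq.ne_top) (hpm ▸ hpq)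
          rw [this, hmh]
          exact_mod_cast hi
        · have hlt : p < q := lt_of_le_of_ne hpq fun h => hzT (Set.mem_biUnion (x := p)
            (Finset.mem_filter.mpr ⟨(Set.Finite.mem_toFinset _).mpr hp, hpm⟩) (h ▸ hzq))
          have h2 := Ideal.height_add_one_le_of_lt_of_isPrime hlt
          refine le_trans ?_ h2
          push_cast
          exact add_le_add (by exact_mod_cast hgh p inferInstance hp.le) le_rfl
  obtain ⟨g, hg, hgh⟩ := key (d - 1) (by omega)
  refine ⟨g, fun i => (hg i).1, fun i => (hg i).2, ?_⟩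
  rw [Ideal.radical_eq_sInf]
  refine le_sInf fun q ⟨hle, hq⟩ => ?_
  by_contra hne
  have hlt : q < 𝔪 := lt_of_le_of_ne (IsLocalRing.le_maximalIdeal hq.ne_top)
    fun h => hne (h ▸ le_rfl)
  have h2 := Ideal.height_add_one_le_of_lt_of_isPrime hlt
  rw [hmh] at h2
  have h3 := (add_le_add (hgh q hq hle) le_rfl).trans h2
  have h4 : (((d - 1 + 1 + 1 : ℕ)) : ℕ∞) ≤ (d : ℕ∞) := by exact_mod_cast h3
  have h5 : d - 1 + 1 + 1 ≤ d := by exact_mod_cast h4
  omega


end Groth.Agent.S7115
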