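import Groth.Statements.S7116
import Groth.Agent.S7115

set_option autoImplicit false
universe u
open CAlg

namespace Groth.Agent.S7116

/-- Let R be a Noetherian local ring of Krull dimension d with maximal ideal m and let f be an element
of m contained in no minimal prime. Then there are g_1, ..., g_{d-1} in m and a natural number N
such that f, g_1, ..., g_{d-1} is a system of parameters (these d elements of m generate an ideal
with radical m) and, for every h in m^N, the elements f + h, g_1, ..., g_{d-1} again form a system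
of parameters and the lengths of R/(f, g_1, ..., g_{d-1}) and R/(f + h, g_1, ..., g_{d-1}) agree. -/
theorem result (R : Type u) [CommRing R] [IsNoetherianRing R] [IsLocalRing R]
    (d : ℕ) (hd : ringKrullDim R = d) (f : R) (hf : f ∈ IsLocalRing.maximalIdeal R)
    (hmin : ∀ p ∈ minimalPrimes R, f ∉ p) :
    ∃ (g : Fin (d - 1) → R) (N : ℕ), (∀ i, g i ∈ IsLocalRing.maximalIdeal R) ∧
      IsLocalRing.maximalIdeal R ≤ (Ideal.span (insert f (Set.range g))).radical ∧
      ∀ h ∈ IsLocalRing.maximalIdeal R ^ N,
        IsLocalRing.maximalIdeal R ≤ (Ideal.span (insert (f + h) (Set.range g))).radical ∧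
        Module.length R (R ⧸ Ideal.span (insert f (Set.range g))) =
          Module.length R (R ⧸ Ideal.span (insert (f + h) (Set.range g))) := by
  classical
  set 𝔪 := IsLocalRing.maximalIdeal R with h𝔪
  obtain ⟨g, hgm, hrad⟩ : ∃ g : Fin (d - 1) → R, (∀ i, g i ∈ 𝔪) ∧
      𝔪 ≤ (Ideal.span (insert f (Set.range g))).radical := by
    by_cases h1 : 1 < d
    · obtain ⟨g, -, hg, hr⟩ := S7115.result R d hd h1 f hf hmin 1
      exact ⟨g, hg, hr⟩
    · refine ⟨fun _ => 0, fun _ => zero_mem _, ?_⟩
      rw [Ideal.radical_eq_sInf]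
      refine le_sInf fun q ⟨hle, hq⟩ => ?_
      by_contra hne
      have hlt : q < 𝔪 := lt_of_le_of_ne (IsLocalRing.le_maximalIdeal hq.ne_top)
        fun h => hne (h ▸ le_rfl)
      have hfq : f ∈ q := hle (Ideal.subset_span (Set.mem_insert _ _))
      have hq1 : 1 ≤ q.height := by
        rw [Order.one_le_iff_ne_zero, ne_eq, Ideal.height_eq_zero_iff]
        exact fun h => hmin q h hfq
      have h2 := Ideal.height_add_one_le_of_lt_of_isPrime hlt
      have hmh : 𝔪.height = d := by
        have h := IsLocalRing.maximalIdeal_height_eq_ringKrullDim (R := R)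
        rw [hd] at h
        exact_mod_cast h
      rw [hmh] at h2
      have h3 := (add_le_add hq1 le_rfl).trans h2
      have h4 : ((1 + 1 : ℕ) : ℕ∞) ≤ (d : ℕ∞) := by exact_mod_cast h3
      have := Nat.cast_le.mp h4
      omega
  set I := Ideal.span (insert f (Set.range g))
  obtain ⟨N, hN⟩ := Ideal.exists_pow_le_of_le_radical_of_fg hrad (IsNoetherian.noetherian _)
  refine ⟨g, N + 1, hgm, hrad, fun h hh => ?_⟩
  have hmI : h ∈ 𝔪 * I := by
    rw [pow_succ'] at hh
    exact Ideal.mul_mono le_rfl hN hh
  have heq : Ideal.span (insert (f + h) (Set.range g)) = I := by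
    refine le_antisymm (Ideal.span_le.mpr ?_) ?_
    · rintro y (rfl | hy)
      · exact add_mem (Ideal.subset_span (Set.mem_insert _ _)) (Ideal.mul_le_right hmI)
      · exact Ideal.subset_span (Set.mem_insert_of_mem _ hy)
    · refine Submodule.le_of_le_smul_of_le_jacobson_bot (I := 𝔪) (IsNoetherian.noetherian _)
        (IsLocalRing.maximalIdeal_le_jacobson _) (Ideal.span_le.mpr ?_)
      rintro y (rfl | hy)
      · have h1 : y + h ∈ Ideal.span (insert (y + h) (Set.range g)) :=
          Ideal.subset_span (Set.mem_insert _ _)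
        have := Submodule.sub_mem_sup h1 hmI
        simpa [smul_eq_mul] using this
      · exact Submodule.mem_sup_left (Ideal.subset_span (Set.mem_insert_of_mem _ hy))
  rw [heq]
  exact ⟨hrad, rfl⟩


end Groth.Agent.S7116
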