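import Groth.Statements.S7117
import Groth.Agent.S0616
import Mathlib

set_option autoImplicit false
universe u
open CAlg

namespace Groth.Agent.S7117
lemma lenSelf_congr {A B : Type u} [CommRing A] [CommRing B] (e : A ≃+* B) :
    Module.length A A = Module.length B B := by
  apply WithBot.coe_injective
  rw [Module.coe_length, Module.coe_length]
  exact (Order.krullDim_eq_of_orderIso e.idealComapOrderIso).symm

lemma lenQuot_eq {R : Type u} [CommRing R] (J : Ideal R) :
    Module.length R (R ⧸ J) = Module.length (R ⧸ J) (R ⧸ J) :=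
  Module.length_eq_of_surjective (S := R) (R := R ⧸ J) Ideal.Quotient.mk_surjective

lemma le_of_succ_le {z : WithBot ℕ∞} {d : ℕ} (h : ((d + 1 : ℕ) : WithBot ℕ∞) ≤ z + 1) :
    (d : WithBot ℕ∞) ≤ z := by
  cases z with
  | bot => rw [WithBot.bot_add, le_bot_iff] at h; exact absurd h (WithBot.coe_ne_bot)
  | coe z =>
    cases z with
    | top => exact WithBot.coe_le_coe.mpr le_top
    | coe n =>
      have h' : (((d + 1 : ℕ) : ℕ∞) : WithBot ℕ∞) ≤ (((n + 1 : ℕ) : ℕ∞) : WithBot ℕ∞) := h
      rw [WithBot.coe_le_coe, Nat.cast_le] at h'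
      exact WithBot.coe_le_coe.mpr (Nat.cast_le.mpr (by omega))

lemma locQuotEquiv {R : Type u} [CommRing R] (x : R) (q : Ideal R) [q.IsPrime]
    (q' : Ideal (R ⧸ Ideal.span {x})) [q'.IsPrime] (hq : q'.comap (Ideal.Quotient.mk _) = q) :
    Nonempty (Localization.AtPrime q' ≃+*
      (Localization.AtPrime q ⧸ Ideal.span {algebraMap R (Localization.AtPrime q) x})) := by
  let L := Localization.AtPrime q ⧸ Ideal.span {algebraMap R (Localization.AtPrime q) x}
  let f : R ⧸ Ideal.span {x} →+* L := Ideal.Quotient.lift _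
    ((Ideal.Quotient.mk _).comp (algebraMap R (Localization.AtPrime q))) (fun a ha => by
      obtain ⟨b, rfl⟩ := Ideal.mem_span_singleton'.mp ha
      rw [RingHom.comp_apply, map_mul, Ideal.Quotient.eq_zero_iff_mem]
      exact Ideal.mul_mem_left _ _ (Ideal.mem_span_singleton_self _))
  have hu : ∀ s : q'.primeCompl, IsUnit (f s) := by
    rintro ⟨s, hs⟩
    obtain ⟨r, rfl⟩ := Ideal.Quotient.mk_surjective s
    have hr : r ∈ q.primeCompl := fun h => hs (hq.symm.le h)
    exact (IsLocalization.map_units (Localization.AtPrime q) (⟨r, hr⟩ : q.primeCompl)).map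
      (Ideal.Quotient.mk _)
  let ψ : Localization.AtPrime q' →+* L := IsLocalization.lift hu
  refine ⟨RingEquiv.ofBijective ψ ⟨?_, ?_⟩⟩
  · rw [injective_iff_map_eq_zero]
    intro z hz
    obtain ⟨a, s, rfl⟩ := IsLocalization.exists_mk'_eq q'.primeCompl z
    rw [IsLocalization.lift_mk', Units.mul_left_eq_zero] at hz
    obtain ⟨r, rfl⟩ := Ideal.Quotient.mk_surjective a
    change Ideal.Quotient.mk _ (algebraMap R (Localization.AtPrime q) r) = 0 at hz
    rw [Ideal.Quotient.eq_zero_iff_mem, ← Set.image_singleton, ← Ideal.map_span,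
      IsLocalization.algebraMap_mem_map_algebraMap_iff q.primeCompl] at hz
    obtain ⟨t, ht, htr⟩ := hz
    rw [IsLocalization.mk'_eq_zero_iff]
    refine ⟨⟨Ideal.Quotient.mk _ t, fun h => ht (hq.le h)⟩, ?_⟩
    rw [← map_mul, Ideal.Quotient.eq_zero_iff_mem]
    exact htr
  · intro z
    obtain ⟨w, rfl⟩ := Ideal.Quotient.mk_surjective z
    obtain ⟨a, s, rfl⟩ := IsLocalization.exists_mk'_eq q.primeCompl w
    refine ⟨IsLocalization.mk' _ (Ideal.Quotient.mk _ a)
      (⟨Ideal.Quotient.mk _ s.1, fun h => s.2 (hq.le h)⟩ : q'.primeCompl), ?_⟩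
    rw [IsLocalization.lift_mk'_spec]
    change Ideal.Quotient.mk _ (algebraMap R (Localization.AtPrime q) a) =
      Ideal.Quotient.mk _ (algebraMap R (Localization.AtPrime q) s.1) * Ideal.Quotient.mk _ _
    rw [← map_mul, IsLocalization.mk'_spec']

open Pointwise in
/-- The one dimensional step. -/
lemma sum_le_one_dim {R : Type u} [CommRing R] [IsNoetherianRing R] (x : R) (q : PrimeSpectrum R)
    (hxq : x ∈ q.asIdeal) (hqmin : ∀ r : Ideal R, r.IsPrime → x ∈ r → r ≤ q.asIdeal → r = q.asIdeal)
    (P : Finset (PrimeSpectrum R))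
    (hP : ∀ p ∈ P, p.asIdeal ≤ q.asIdeal ∧ x ∉ p.asIdeal ∧ p.asIdeal ∈ minimalPrimes R)
    (hne : P.Nonempty) :
    ∑ p ∈ P, Module.length (Localization.AtPrime p.asIdeal) (Localization.AtPrime p.asIdeal) ≤
      Module.length (Localization.AtPrime q.asIdeal ⧸ Ideal.span {algebraMap R (Localization.AtPrime q.asIdeal) x})
        (Localization.AtPrime q.asIdeal ⧸ Ideal.span {algebraMap R (Localization.AtPrime q.asIdeal) x}) := by
  classical
  let A := Localization.AtPrime q.asIdeal
  let a : A := algebraMap R A x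
  haveI : IsNoetherianRing A := IsLocalization.isNoetherianRing q.asIdeal.primeCompl A inferInstance
  have hqh : q.asIdeal ∈ (Ideal.span {x}).minimalPrimes :=
    ⟨⟨q.isPrime, (Ideal.span_singleton_le_iff_mem _).mpr hxq⟩, fun r hr hle =>
      (hqmin r hr.1 ((Ideal.span_singleton_le_iff_mem _).mp hr.2) hle).ge⟩
  have h1 : q.asIdeal.height ≤ 1 := Ideal.height_le_one_of_isPrincipal_of_mem_minimalPrimes _ _ hqh
  have h2 : q.asIdeal.height ≠ 0 := by
    obtain ⟨p, hp⟩ := hne
    obtain ⟨hle, hx, -⟩ := hP p hp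
    rw [ne_eq, Ideal.height_eq_zero_iff]
    intro h
    exact hx (((le_antisymm hle (h.2 ⟨p.isPrime, bot_le⟩ hle)) ▸ hxq))
  have hA : ringKrullDim A = 1 := by
    rw [IsLocalization.AtPrime.ringKrullDim_eq_height q.asIdeal A,
      le_antisymm h1 (Order.one_le_iff_ne_zero.mpr h2)]
    rfl
  have hcomap : ∀ P' : Ideal A, P'.IsPrime → P' ∈ minimalPrimes A → P'.comap (algebraMap R A) ∈ minimalPrimes R := by
    intro P' hP' hmin
    refine ⟨⟨Ideal.IsPrime.comap _, bot_le⟩, fun r hr hle => ?_⟩
    have hdisj : Disjoint (q.asIdeal.primeCompl : Set R) (r : Set R) :=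
      Set.disjoint_left.mpr fun y hy hyr => (IsLocalization.map_units A (⟨y, hy⟩ : q.asIdeal.primeCompl))
        |> fun hu => hP'.ne_top (Ideal.eq_top_of_isUnit_mem _ (hle hyr) hu)
    have hp2 := IsLocalization.isPrime_of_isPrime_disjoint q.asIdeal.primeCompl A r hr.1 hdisj
    have h3 : P' ≤ r.map (algebraMap R A) := hmin.2 ⟨hp2, bot_le⟩ (Ideal.map_le_iff_le_comap.mpr hle)
    exact (Ideal.comap_mono (f := algebraMap R A) h3).trans
      (IsLocalization.comap_map_of_isPrime_disjoint q.asIdeal.primeCompl A hr.1 hdisj).le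
  have ha : ∀ P' ∈ minimalPrimes A, a ∉ P' := by
    intro P' hmin haP
    haveI := hmin.isPrime
    have hr := hcomap P' inferInstance hmin
    have hle : P'.comap (algebraMap R A) ≤ q.asIdeal := by
      intro y hy
      by_contra hyq
      exact hmin.isPrime.ne_top (Ideal.eq_top_of_isUnit_mem _ hy
        (IsLocalization.map_units A (⟨y, hyq⟩ : q.asIdeal.primeCompl)))
    have := hqmin _ inferInstance haP hle
    exact h2 (Ideal.height_eq_zero_iff.mpr (this ▸ hr))
  have key := S0616.result hA A a ha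
  have hspan : (a • (⊤ : Submodule A A)) = Ideal.span {a} := by
    rw [← Submodule.ideal_span_singleton_smul, smul_eq_mul, Ideal.mul_top]
  rw [hspan, lenQuot_eq] at key
  rw [key]
  refine le_trans ?_ le_add_self
  have hfinA : {p : PrimeSpectrum A | p.asIdeal ∈ minimalPrimes A}.Finite :=
    (minimalPrimes.finite_of_isNoetherianRing A).preimage (fun _ _ _ _ h => PrimeSpectrum.ext h)
  let Mset : Finset (PrimeSpectrum A) := hfinA.toFinset
  refine le_trans ?_ (finsum_mem_eq_finite_toFinset_sum _ hfinA).ge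
  change _ ≤ ∑ p ∈ Mset, _
  have hdisjp : ∀ p ∈ P, Disjoint (q.asIdeal.primeCompl : Set R) (p.asIdeal : Set R) := fun p hp =>
    Set.disjoint_left.mpr fun y hy hyp => hy ((hP p hp).1 hyp)
  let ι : P → PrimeSpectrum A := fun p => ⟨p.1.asIdeal.map (algebraMap R A),
    IsLocalization.isPrime_of_isPrime_disjoint q.asIdeal.primeCompl A _ p.1.isPrime (hdisjp p.1 p.2)⟩
  have hιc : ∀ p : P, (ι p).asIdeal.comap (algebraMap R A) = p.1.asIdeal := fun p =>
    IsLocalization.comap_map_of_isPrime_disjoint q.asIdeal.primeCompl A p.1.isPrime (hdisjp p.1 p.2)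
  have hιmem : ∀ p : P, ι p ∈ Mset := by
    intro p
    simp only [Mset, Set.Finite.mem_toFinset, Set.mem_ofPred_eq]
    refine ⟨⟨(ι p).isPrime, bot_le⟩, fun Q hQ hle => ?_⟩
    have h3 : p.1.asIdeal ≤ Q.comap (algebraMap R A) := (hP p.1 p.2).2.2.2
      ⟨Ideal.IsPrime.comap _ (hK := hQ.1), bot_le⟩ ((Ideal.comap_mono hle).trans (hιc p).le)
    exact Ideal.map_le_iff_le_comap.mpr h3
  have hιinj : Function.Injective ι := fun p p' h => Subtype.ext (PrimeSpectrum.ext (by
    rw [← hιc p, h, hιc p']))
  rw [← Finset.sum_coe_sort P]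
  refine le_trans ?_ (Finset.sum_le_sum_of_subset (Finset.image_subset_iff.mpr fun p _ => hιmem p) :
    ∑ p ∈ Finset.univ.image ι, _ ≤ _)
  rw [Finset.sum_image fun p _ p' _ h => hιinj h]
  refine Finset.sum_le_sum fun p _ => ?_
  have hlen : (1 : ℕ∞) ≤ Module.length A (A ⧸ ((ι p).asIdeal ⊔ Ideal.span {a})) := by
    have hne : (ι p).asIdeal ⊔ Ideal.span {a} ≠ ⊤ := by
      refine ne_top_of_le_ne_top (IsLocalRing.maximalIdeal.isMaximal A).ne_top
        (sup_le (IsLocalRing.le_maximalIdeal (ι p).isPrime.ne_top) ?_)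
      rw [Ideal.span_singleton_le_iff_mem, ← Localization.AtPrime.map_eq_maximalIdeal]
      exact Ideal.mem_map_of_mem _ hxq
    haveI : Nontrivial (A ⧸ ((ι p).asIdeal ⊔ Ideal.span {a})) := Ideal.Quotient.nontrivial_iff.mpr hne
    exact Order.one_le_iff_pos.mpr Module.length_pos
  refine le_trans ?_ (le_mul_of_one_le_right' hlen)
  refine le_of_eq ?_
  haveI := (ι p).isPrime
  let T := Localization.AtPrime (ι p).asIdeal
  haveI hT : IsLocalization.AtPrime T ((ι p).asIdeal.comap (algebraMap R A)) :=
    IsLocalization.isLocalization_isLocalization_atPrime_isLocalization q.asIdeal.primeCompl T _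
  haveI : IsLocalization p.1.asIdeal.primeCompl T := by
    have h' : IsLocalization ((ι p).asIdeal.comap (algebraMap R A)).primeCompl T := hT
    convert h' using 2
    exact (hιc p).symm
  exact lenSelf_congr (IsLocalization.algEquiv p.1.asIdeal.primeCompl (Localization.AtPrime p.1.asIdeal) T).toRingEquiv

lemma exists_prime_dim_ge {R : Type u} [CommRing R] (J : Ideal R) (d : ℕ)
    (h : (d : WithBot ℕ∞) ≤ ringKrullDim (R ⧸ J)) :
    ∃ q : PrimeSpectrum R, J ≤ q.asIdeal ∧ (d : WithBot ℕ∞) ≤ ringKrullDim (R ⧸ q.asIdeal) := by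
  rw [ringKrullDim_quotient] at h
  obtain ⟨l, hl⟩ := Order.le_krullDim_iff.mp h
  refine ⟨l.head.1, l.head.2, ?_⟩
  rw [ringKrullDim_quotient]
  refine Order.le_krullDim_iff.mpr ⟨⟨l.length, fun i => ⟨(l i).1, ?_⟩, fun i => ?_⟩, hl⟩
  · exact l.monotone (Fin.zero_le i)
  · exact l.step i

theorem sum_le_length (d : ℕ) : ∀ (R : Type u) [CommRing R] [IsNoetherianRing R] [IsLocalRing R],
    ringKrullDim R = d → ∀ g : Fin d → R, (∀ i, g i ∈ IsLocalRing.maximalIdeal R) →
    IsLocalRing.maximalIdeal R ≤ (Ideal.span (Set.range g)).radical →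
    ∀ T : Finset (PrimeSpectrum R), (∀ p ∈ T, ringKrullDim (R ⧸ p.asIdeal) = d) →
    ∑ p ∈ T, Module.length (Localization.AtPrime p.asIdeal) (Localization.AtPrime p.asIdeal) ≤
      Module.length R (R ⧸ Ideal.span (Set.range g)) := by
  classical
  induction d with
  | zero =>
    intro R _ _ _ hd g hg hsop T hT
    have hall : ∀ p : PrimeSpectrum R, p = IsLocalRing.closedPoint R := fun p => by
      have : Ring.KrullDimLE 0 R := Ring.krullDimLE_iff.mpr (by rw [hd])
      exact PrimeSpectrum.ext (IsLocalRing.eq_maximalIdeal (Ideal.IsPrime.isMaximal' p.isPrime))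
    have hT1 : T ⊆ {IsLocalRing.closedPoint R} := fun p _ => Finset.mem_singleton.mpr (hall p)
    refine (Finset.sum_le_sum_of_subset hT1).trans ?_
    rw [Finset.sum_singleton]
    let e : R ≃ₐ[R] Localization.AtPrime (IsLocalRing.closedPoint R).asIdeal :=
      IsLocalization.atUnits R (IsLocalRing.closedPoint R).asIdeal.primeCompl fun y hy => by
        by_contra hu
        exact hy hu
    rw [← lenSelf_congr e.toRingEquiv, lenQuot_eq]
    have hbot : Ideal.span (Set.range g) = ⊥ := by simp
    rw [hbot]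
    exact (lenSelf_congr (RingEquiv.quotientBot R).symm).le
  | succ d ih =>
    intro R _ _ _ hd g hg hsop T hT
    let x := g (Fin.last d)
    have hxm : x ∈ IsLocalRing.maximalIdeal R := hg _
    let R' := R ⧸ Ideal.span {x}
    let π : R →+* R' := Ideal.Quotient.mk _
    have hπ : Function.Surjective π := Ideal.Quotient.mk_surjective
    haveI : Nontrivial R' := Ideal.Quotient.nontrivial_iff.mpr (Ideal.span_singleton_eq_top.not.mpr hxm)
    haveI : IsLocalRing R' := IsLocalRing.of_surjective' π hπ
    have hmax : (IsLocalRing.maximalIdeal R).map π = IsLocalRing.maximalIdeal R' :=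
      IsLocalRing.map_maximalIdeal_of_surjective π hπ
    let g' : Fin d → R' := fun i => π (g i.castSucc)
    have hg' : ∀ i, g' i ∈ IsLocalRing.maximalIdeal R' := fun i => hmax ▸ Ideal.mem_map_of_mem π (hg _)
    have hsupeq : Ideal.span (Set.range g) = Ideal.span {x} ⊔ Ideal.span (Set.range (g ∘ Fin.castSucc)) := by
      apply le_antisymm
      · rw [Ideal.span_le]
        rintro _ ⟨i, rfl⟩
        refine Fin.lastCases ?_ (fun j => ?_) i
        · exact Ideal.mem_sup_left (Ideal.mem_span_singleton_self x)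
        · exact Ideal.mem_sup_right (Ideal.subset_span ⟨j, rfl⟩)
      · refine sup_le ((Ideal.span_singleton_le_iff_mem _).mpr (Ideal.subset_span ⟨_, rfl⟩)) ?_
        exact Ideal.span_mono (Set.range_comp_subset_range _ _)
    have hspan' : Ideal.span (Set.range g') = (Ideal.span (Set.range (g ∘ Fin.castSucc))).map π := by
      rw [Ideal.map_span, ← Set.range_comp]; rfl
    have hspan2 : (Ideal.span (Set.range g)).map π = Ideal.span (Set.range g') := by
      rw [hspan', hsupeq, Ideal.map_sup, Ideal.map_quotient_self, bot_sup_eq]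
    have hsop' : IsLocalRing.maximalIdeal R' ≤ (Ideal.span (Set.range g')).radical := by
      rw [← hmax, ← hspan2]
      exact (Ideal.map_mono hsop).trans (Ideal.map_radical_le _)
    have hlenR : Module.length R' (R' ⧸ Ideal.span (Set.range g')) = Module.length R (R ⧸ Ideal.span (Set.range g)) := by
      rw [lenQuot_eq, lenQuot_eq]
      exact lenSelf_congr ((Ideal.quotEquivOfEq hspan').trans ((DoubleQuot.quotQuotEquivQuotSup _ _).trans
        (Ideal.quotEquivOfEq hsupeq.symm)))
    have hdim' : ringKrullDim R' = d := by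
      apply le_antisymm
      · have h0 : ringKrullDim (R' ⧸ Ideal.span (Set.range g')) ≤ 0 := by
          refine Ring.krullDimLE_iff.mp (Ring.krullDimLE_zero_iff.mpr fun P hP => ?_)
          have hle : Ideal.span (Set.range g') ≤ P.comap (Ideal.Quotient.mk _) :=
            Ideal.mk_ker.symm.le.trans (Ideal.comap_mono bot_le)
          have heq : P.comap (Ideal.Quotient.mk (Ideal.span (Set.range g'))) = IsLocalRing.maximalIdeal R' :=
            le_antisymm (IsLocalRing.le_maximalIdeal (Ideal.IsPrime.comap _).ne_top)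
              (hsop'.trans ((Ideal.IsPrime.comap _).radical_le_iff.mpr hle))
          rw [← Ideal.map_comap_of_surjective _ Ideal.Quotient.mk_surjective P, heq]
          refine (Ideal.map_eq_top_or_isMaximal_of_surjective _ Ideal.Quotient.mk_surjective
            inferInstance).resolve_left fun h => hP.ne_top ?_
          rw [← Ideal.map_comap_of_surjective _ Ideal.Quotient.mk_surjective P, heq, h]
        have hjac : Ideal.span (Set.range g') ≤ Ring.jacobson R' := by
          rw [IsLocalRing.ringJacobson_eq_maximalIdeal, Ideal.span_le]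
          rintro _ ⟨i, rfl⟩; exact hg' i
        refine (ringKrullDim_le_ringKrullDim_quotient_add_spanFinrank _ hjac).trans ?_
        refine (add_le_add h0 le_rfl).trans ?_
        rw [zero_add]
        have := Submodule.spanFinrank_span_le_ncard_of_finite (R := R') (Set.finite_range g')
        have h3 : (Ideal.span (Set.range g')).spanFinrank ≤ d :=
          this.trans (by rw [← Set.image_univ]; exact (Set.ncard_image_le Set.finite_univ).trans (by simp))
        exact_mod_cast h3
      · have h := ringKrullDim_le_ringKrullDim_quotient_add_encard {x}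
          (by rw [IsLocalRing.ringJacobson_eq_maximalIdeal]; simpa using hxm)
        rw [hd, Set.encard_singleton] at h
        exact le_of_succ_le (by exact_mod_cast h)
    have hσ : ∀ p ∈ T, ∃ q : PrimeSpectrum R, p.asIdeal ⊔ Ideal.span {x} ≤ q.asIdeal ∧
        ringKrullDim (R ⧸ q.asIdeal) = d := by
      intro p hp
      haveI : IsLocalRing (R ⧸ p.asIdeal) :=
        IsLocalRing.of_surjective' (Ideal.Quotient.mk p.asIdeal) Ideal.Quotient.mk_surjective
      have h := ringKrullDim_le_ringKrullDim_quotient_add_encard {Ideal.Quotient.mk p.asIdeal x} (by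
        rw [IsLocalRing.ringJacobson_eq_maximalIdeal,
          ← IsLocalRing.map_maximalIdeal_of_surjective _ Ideal.Quotient.mk_surjective]
        exact Set.singleton_subset_iff.mpr (Ideal.mem_map_of_mem _ hxm))
      rw [hT p hp, Set.encard_singleton] at h
      have hiso : ringKrullDim ((R ⧸ p.asIdeal) ⧸ Ideal.span {Ideal.Quotient.mk p.asIdeal x}) =
          ringKrullDim (R ⧸ p.asIdeal ⊔ Ideal.span {x}) := by
        rw [← Set.image_singleton, ← Ideal.map_span]
        exact ringKrullDim_eq_of_ringEquiv (DoubleQuot.quotQuotEquivQuotSup _ _)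
      rw [hiso] at h
      obtain ⟨q, hq1, hq2⟩ := exists_prime_dim_ge _ d
        (le_of_succ_le (by exact_mod_cast h))
      refine ⟨q, hq1, le_antisymm ?_ hq2⟩
      rw [← hdim']
      exact ringKrullDim_le_of_surjective (Ideal.Quotient.factor (le_sup_right.trans hq1))
        (Ideal.Quotient.factor_surjective _)
    choose σ hσ1 hσ2 using hσ
    let σ' : T → PrimeSpectrum R := fun p => σ p.1 p.2
    let Q : Finset (PrimeSpectrum R) := Finset.univ.image σ'
    have hQ : ∀ q ∈ Q, Ideal.span {x} ≤ q.asIdeal ∧ ringKrullDim (R ⧸ q.asIdeal) = d := by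
      intro q hq
      obtain ⟨p, -, rfl⟩ := Finset.mem_image.mp hq
      exact ⟨le_sup_right.trans (hσ1 _ _), hσ2 _ _⟩
    let toR' : Q → PrimeSpectrum R' := fun q =>
      ⟨q.1.asIdeal.map π, Ideal.isPrime_map_quotientMk_of_isPrime (hQ q.1 q.2).1⟩
    have hback : ∀ q : Q, (toR' q).asIdeal.comap π = q.1.asIdeal := fun q => by
      change Ideal.comap π (Ideal.map π q.1.asIdeal) = _
      rw [Ideal.comap_map_of_surjective _ hπ, ← RingHom.ker_eq_comap_bot, Ideal.mk_ker]
      exact sup_eq_left.mpr (hQ q.1 q.2).1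
    have hinjR' : Function.Injective toR' := fun q q' h => Subtype.ext (PrimeSpectrum.ext (by
      rw [← hback q, h, hback q']))
    have hdimT' : ∀ r ∈ Finset.univ.image toR', ringKrullDim (R' ⧸ r.asIdeal) = d := by
      intro r hr
      obtain ⟨q, -, rfl⟩ := Finset.mem_image.mp hr
      rw [← (hQ q.1 q.2).2]
      exact ringKrullDim_eq_of_ringEquiv ((DoubleQuot.quotQuotEquivQuotSup _ _).trans
        (Ideal.quotEquivOfEq (sup_eq_right.mpr (hQ q.1 q.2).1)))
    have hmain := ih R' hdim' g' hg' hsop' _ hdimT'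
    rw [hlenR] at hmain
    refine le_trans ?_ hmain
    rw [Finset.sum_image fun q _ q' _ h => hinjR' h, ← Finset.sum_coe_sort T,
      ← Finset.sum_fiberwise_of_maps_to (t := Q) (g := σ') fun p _ => Finset.mem_image_of_mem _ (Finset.mem_univ p),
      ← Finset.sum_coe_sort Q]
    refine Finset.sum_le_sum fun q _ => ?_
    let F : Finset T := Finset.univ.filter fun p => σ' p = q.1
    haveI := (toR' q).isPrime
    obtain ⟨e⟩ := locQuotEquiv x q.1.asIdeal (toR' q).asIdeal (hback q)
    rw [lenSelf_congr e]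
    have hqmin : ∀ r : Ideal R, r.IsPrime → x ∈ r → r ≤ q.1.asIdeal → r = q.1.asIdeal := by
      intro r hr hxr hle
      by_contra hne
      have h1 : (ringKrullDim (R ⧸ q.1.asIdeal)) + 1 ≤ ringKrullDim (R ⧸ r) := by
        obtain ⟨y, hy, hyr⟩ := SetLike.exists_of_lt (lt_of_le_of_ne hle hne)
        haveI := hr
        have h1 := ringKrullDim_quotient_succ_le_of_nonZeroDivisor (R := R ⧸ r) (r := Ideal.Quotient.mk r y)
          (mem_nonZeroDivisors_of_ne_zero fun h => hyr (Ideal.Quotient.eq_zero_iff_mem.mp h))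
        refine le_trans (add_le_add ?_ le_rfl) h1
        have hiso : ringKrullDim ((R ⧸ r) ⧸ Ideal.span {Ideal.Quotient.mk r y}) = ringKrullDim (R ⧸ r ⊔ Ideal.span {y}) := by
          rw [← Set.image_singleton, ← Ideal.map_span]
          exact ringKrullDim_eq_of_ringEquiv (DoubleQuot.quotQuotEquivQuotSup _ _)
        rw [hiso]
        exact ringKrullDim_le_of_surjective (Ideal.Quotient.factor (sup_le hle ((Ideal.span_singleton_le_iff_mem _).mpr hy)))
          (Ideal.Quotient.factor_surjective _)
      have h2 : ringKrullDim (R ⧸ r) ≤ d := by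
        rw [← hdim']
        exact ringKrullDim_le_of_surjective (Ideal.Quotient.factor ((Ideal.span_singleton_le_iff_mem _).mpr hxr))
          (Ideal.Quotient.factor_surjective _)
      rw [(hQ q.1 q.2).2] at h1
      have h3 : ((d + 1 : ℕ) : WithBot ℕ∞) ≤ (d : ℕ) := by push_cast; exact h1.trans h2
      exact absurd (by exact_mod_cast h3 : d + 1 ≤ d) (by omega)
    have hFne : F.Nonempty := by
      obtain ⟨p, -, hp⟩ := Finset.mem_image.mp q.2
      exact ⟨p, Finset.mem_filter.mpr ⟨Finset.mem_univ _, hp⟩⟩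
    have hmem : ∀ p ∈ F.map ⟨Subtype.val, Subtype.val_injective⟩, p.asIdeal ≤ q.1.asIdeal ∧ x ∉ p.asIdeal ∧
        p.asIdeal ∈ minimalPrimes R := by
      intro p hp
      obtain ⟨⟨p, hpT⟩, hpF, rfl⟩ := Finset.mem_map.mp hp
      have hpq : σ p hpT = q.1 := (Finset.mem_filter.mp hpF).2
      refine ⟨hpq ▸ le_sup_left.trans (hσ1 p hpT), fun hxp => ?_, ?_⟩
      · have h2 : ringKrullDim (R ⧸ p.asIdeal) ≤ d := by
          rw [← hdim']
          exact ringKrullDim_le_of_surjective (Ideal.Quotient.factor ((Ideal.span_singleton_le_iff_mem _).mpr hxp))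
            (Ideal.Quotient.factor_surjective _)
        rw [hT p hpT] at h2
        exact absurd (by exact_mod_cast h2 : d + 1 ≤ d) (by omega)
      · refine ⟨⟨p.isPrime, bot_le⟩, fun r hr hle => ?_⟩
        by_contra hne
        obtain ⟨y, hy, hyr⟩ := SetLike.not_le_iff_exists.mp hne
        haveI := hr.1
        have h1 := ringKrullDim_quotient_succ_le_of_nonZeroDivisor (R := R ⧸ r) (r := Ideal.Quotient.mk r y)
          (mem_nonZeroDivisors_of_ne_zero fun h => hyr (Ideal.Quotient.eq_zero_iff_mem.mp h))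
        have h2 : ringKrullDim (R ⧸ p.asIdeal) ≤ ringKrullDim ((R ⧸ r) ⧸ Ideal.span {Ideal.Quotient.mk r y}) := by
          rw [← Set.image_singleton, ← Ideal.map_span,
            ringKrullDim_eq_of_ringEquiv (DoubleQuot.quotQuotEquivQuotSup _ _)]
          exact ringKrullDim_le_of_surjective (Ideal.Quotient.factor (sup_le hle ((Ideal.span_singleton_le_iff_mem _).mpr hy)))
            (Ideal.Quotient.factor_surjective _)
        rw [hT p hpT] at h2
        have h3 : ((d + 1 + 1 : ℕ) : WithBot ℕ∞) ≤ ((d + 1 : ℕ) : WithBot ℕ∞) := by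
          push_cast
          refine le_trans ?_ ((h1.trans (ringKrullDim_quotient_le r)).trans hd.le)
          exact add_le_add (by exact_mod_cast h2) le_rfl
        exact absurd (by exact_mod_cast h3 : d + 1 + 1 ≤ d + 1) (by omega)
    have hres := sum_le_one_dim x q.1 ((hQ q.1 q.2).1 (Ideal.mem_span_singleton_self x)) hqmin _ hmem (hFne.map)
    rw [Finset.sum_map] at hres
    exact hres


/-- Let R be a Noetherian local ring of Krull dimension d with maximal ideal m, and suppose g_1, ...,
g_d in m form a system of parameters (they generate an ideal with radical m). Then the number of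
minimal prime ideals p of R with R/p of Krull dimension d is at most the length of R/(g_1, ...,
g_d). -/
theorem result (R : Type u) [CommRing R] [IsNoetherianRing R] [IsLocalRing R]
    (d : ℕ) (hd : ringKrullDim R = d) (g : Fin d → R) (hg : ∀ i, g i ∈ IsLocalRing.maximalIdeal R)
    (hsop : IsLocalRing.maximalIdeal R ≤ (Ideal.span (Set.range g)).radical) :
    (Set.ncard {p : Ideal R | p ∈ minimalPrimes R ∧ ringKrullDim (R ⧸ p) = d} : ℕ∞) ≤
      Module.length R (R ⧸ Ideal.span (Set.range g)) := by
  classical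
  have hfin : {p : Ideal R | p ∈ minimalPrimes R ∧ ringKrullDim (R ⧸ p) = d}.Finite :=
    (minimalPrimes.finite_of_isNoetherianRing R).subset fun p hp => hp.1
  let T : Finset (PrimeSpectrum R) := hfin.toFinset.attach.image fun p =>
    ⟨p.1, ((Set.Finite.mem_toFinset hfin).mp p.2).1.isPrime⟩
  have hcard : T.card = Set.ncard {p : Ideal R | p ∈ minimalPrimes R ∧ ringKrullDim (R ⧸ p) = d} := by
    rw [Finset.card_image_of_injective, Finset.card_attach, Set.ncard_eq_toFinset_card _ hfin]
    intro a b h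
    exact Subtype.ext (congrArg PrimeSpectrum.asIdeal h)
  have hT : ∀ p ∈ T, ringKrullDim (R ⧸ p.asIdeal) = d := by
    intro p hp
    obtain ⟨q, -, rfl⟩ := Finset.mem_image.mp hp
    exact ((Set.Finite.mem_toFinset hfin).mp q.2).2
  refine le_trans ?_ (sum_le_length d R hd g hg hsop T hT)
  rw [← hcard]
  refine le_trans ?_ (Finset.sum_le_sum (f := fun _ => (1 : ℕ∞)) fun p _ => Order.one_le_iff_pos.mpr Module.length_pos)
  simp


end Groth.Agent.S7117
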