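import Groth.Statements.S7118
import Groth.Agent.ReducedCutAux.Basic

set_option autoImplicit false
universe u
open CAlg

namespace Groth.Agent.S7118

/-- Let A be a Noetherian normal local domain of Krull dimension 2 and a a nonzero element of the
maximal ideal. Then there is a nonzero element c of A such that A/cA is reduced and a divides some
power cⁿ. (The published statement does not require c to be nonzero and is then satisfied by c = 0;
this row requires c ≠ 0.) -/
theorem result (A : Type u) [CommRing A] [IsDomain A] [IsNoetherianRing A]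
    [IsLocalRing A] [IsIntegrallyClosed A] (hdim : ringKrullDim A = 2) (a : A)
    (ha : a ∈ IsLocalRing.maximalIdeal A) (ha0 : a ≠ 0) :
    ∃ c : A, c ≠ 0 ∧ IsReduced (A ⧸ Ideal.span {c}) ∧ ∃ n : ℕ, a ∣ c ^ n := by
  classical
  have hfin := Ideal.finite_minimalPrimes_of_isNoetherianRing A (Ideal.span ({a} : Set A))
  have hh : ∀ p ∈ (Ideal.span ({a} : Set A)).minimalPrimes, p.IsPrime ∧ p.height = 1 := by
    intro p hp
    haveI := hp.1.1
    refine ⟨inferInstance, le_antisymm
      (Ideal.height_le_one_of_isPrincipal_of_mem_minimalPrimes (Ideal.span {a}) p hp)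
      (Order.one_le_iff_ne_zero.2 fun h => ha0 ?_)⟩
    rw [Ideal.height_eq_zero_iff_eq_bot] at h
    exact Ideal.mem_bot.1 (h ▸ hp.1.2 (Ideal.mem_span_singleton_self a))
  obtain ⟨c, hc0, hc, hred⟩ := Groth.Agent.ReducedCutAux.exists_reduced hdim hfin.toFinset
    fun p hp => hh p (hfin.mem_toFinset.1 hp)
  refine ⟨c, hc0, hred, ?_⟩
  have : c ∈ (Ideal.span ({a} : Set A)).radical := by
    rw [← Ideal.sInf_minimalPrimes]
    exact Submodule.mem_sInf.2 fun p hp => hc p (hfin.mem_toFinset.2 hp)
  obtain ⟨n, hn⟩ := this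
  exact ⟨n, Ideal.mem_span_singleton.1 hn⟩


end Groth.Agent.S7118
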