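import Groth.Statements.S7121
import Groth.Agent.Bezout.Basic

set_option autoImplicit false
universe u
open CAlg

namespace Groth.Agent.S7121

/-- Over a Bézout domain R, a finitely presented module M splits as R^r ⊕ M_tors for some r, and its
torsion part M_tors is a retract (direct summand) of R/f_1R ⊕ … ⊕ R/f_nR for some nonzero f_1, …,
f_n. -/
theorem result (R : Type u) [CommRing R] [IsDomain R] [IsBezout R]
    (M : Type u) [AddCommGroup M] [Module R M] [Module.FinitePresentation R M] :
    (∃ r : ℕ, Nonempty (M ≃ₗ[R] ((Fin r → R) × Submodule.torsion R M))) ∧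
      ∃ (n : ℕ) (f : Fin n → R), (∀ j, f j ≠ 0) ∧
        ∃ (i : Submodule.torsion R M →ₗ[R] ((j : Fin n) → R ⧸ Ideal.span {f j}))
          (p : ((j : Fin n) → R ⧸ Ideal.span {f j}) →ₗ[R] Submodule.torsion R M),
          p ∘ₗ i = LinearMap.id := by
  classical
  let T := Submodule.torsion R M
  have : Module.Free R (M ⧸ T) := Bezout.free_of_torsionFree fun r x hx => by
    by_cases hr : r = 0
    · exact Or.inl hr
    refine Or.inr ?_
    obtain ⟨m, rfl⟩ := Submodule.Quotient.mk_surjective _ x
    rw [← Submodule.Quotient.mk_smul, Submodule.Quotient.mk_eq_zero,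
      Submodule.mem_torsion_iff] at hx
    obtain ⟨⟨s, hs⟩, hsm⟩ := hx
    rw [Submodule.Quotient.mk_eq_zero, Submodule.mem_torsion_iff]
    exact ⟨⟨s * r, mul_mem hs (mem_nonZeroDivisors_of_ne_zero hr)⟩, by
      rw [Submonoid.smul_def] at hsm ⊢; rwa [mul_smul]⟩
  obtain ⟨σ, hσ⟩ := Module.projective_lifting_property T.mkQ LinearMap.id T.mkQ_surjective
  have hσ' : ∀ y, Submodule.Quotient.mk (σ y) = y := LinearMap.congr_fun hσ
  let π : M →ₗ[R] T := LinearMap.codRestrict T (LinearMap.id - σ ∘ₗ T.mkQ) fun x => by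
    rw [← Submodule.Quotient.mk_eq_zero]
    simp [hσ']
  have hπ : ∀ t : T, π t = t := fun t => Subtype.ext (by simp [π, (Submodule.Quotient.mk_eq_zero T).2 t.2])
  let e : M ≃ₗ[R] (M ⧸ T) × T := LinearEquiv.ofLinear (T.mkQ.prod π) (σ.coprod T.subtype)
    (LinearMap.ext fun ⟨y, t⟩ => by
      have h1 : T.mkQ (σ y + t) = y := by simp [hσ', (Submodule.Quotient.mk_eq_zero T).2 t.2]
      refine Prod.ext h1 (Subtype.ext ?_)
      show σ y + (t : M) - σ (T.mkQ (σ y + t)) = t
      rw [h1]; abel)
    (LinearMap.ext fun x => by simp [π])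
  refine ⟨⟨_, ⟨e.trans ((Module.finBasis R (M ⧸ T)).equivFun.prodCongr (LinearEquiv.refl R T))⟩⟩, ?_⟩
  have : Module.FinitePresentation R T :=
    Module.finitePresentation_of_surjective π (fun t => ⟨t, hπ t⟩) (by
      have hk : LinearMap.ker π = LinearMap.range σ := by
        ext x
        constructor
        · intro hx
          exact ⟨T.mkQ x, by
            have := congrArg Subtype.val (LinearMap.mem_ker.1 hx)
            simp [π, sub_eq_zero] at this
            exact this.symm⟩
        · rintro ⟨y, rfl⟩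
          exact Subtype.ext (by simp [π, hσ'])
      rw [hk, ← Submodule.map_top]
      exact Module.Finite.fg_top.map σ)
  obtain ⟨n, c, g, hg⟩ := Submodule.mem_span_set'.1 (Bezout.id_mem_span (R := R) T)
  choose a i p hip using fun j => (g j).2
  -- drop the factors `R / (0)`, which kill torsion
  have hzero : ∀ j, a j = 0 → p j ∘ₗ i j = 0 := by
    intro j hj
    refine LinearMap.ext fun t => ?_
    obtain ⟨s, hs⟩ := (Submodule.mem_torsion_iff _).1 t.2
    obtain ⟨r, hr⟩ := Submodule.Quotient.mk_surjective _ (i j t)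
    have h1 : (s : R) • i j t = 0 := by
      rw [← map_smul, show (s : R) • t = 0 from Subtype.ext hs, map_zero]
    rw [← hr, ← Submodule.Quotient.mk_smul, Submodule.Quotient.mk_eq_zero, hj,
      Ideal.span_singleton_eq_bot.2 rfl, Submodule.mem_bot, smul_eq_mul] at h1
    have hr0 : r = 0 := (mul_eq_zero.1 h1).resolve_left (nonZeroDivisors.ne_zero s.2)
    rw [LinearMap.comp_apply, ← hr, hr0, Submodule.Quotient.mk_zero, map_zero]
    rfl
  let f : Fin n → R := fun j => if a j = 0 then 1 else a j
  have hf : ∀ j, f j ≠ 0 := fun j => by simp only [f]; split_ifs with h <;> simp [h]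
  have hfac : ∀ j, ∃ (i' : T →ₗ[R] R ⧸ Ideal.span {f j}) (p' : (R ⧸ Ideal.span {f j}) →ₗ[R] T),
      p' ∘ₗ i' = c j • (g j : T →ₗ[R] T) := by
    intro j
    by_cases hj : a j = 0
    · exact ⟨0, 0, by rw [hip j, hzero j hj, smul_zero, LinearMap.zero_comp]⟩
    · have e : f j = a j := if_neg hj
      rw [e]
      exact ⟨i j, c j • p j, by rw [hip j, LinearMap.smul_comp]⟩
  choose i' p' hp' using hfac
  refine ⟨n, f, hf, LinearMap.pi i', ∑ j, p' j ∘ₗ LinearMap.proj j, ?_⟩
  rw [← hg]
  refine LinearMap.ext fun t => ?_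
  simp only [LinearMap.coe_comp, Function.comp_apply, LinearMap.coe_sum, Finset.sum_apply,
    LinearMap.pi_apply, LinearMap.proj_apply]
  exact Finset.sum_congr rfl fun j _ => LinearMap.congr_fun (hp' j) t


end Groth.Agent.S7121
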