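import Groth.Statements.S7122
import Groth.Agent.Bezout.Basic

set_option autoImplicit false
universe u
open CAlg

namespace Groth.Agent.S7122

/-- Let R be a Bézout domain, n ≥ 1, and f_1, ..., f_n elements generating the unit ideal. Then some
invertible n × n matrix over R has (f_1, ..., f_n) as its first row. -/
theorem result (R : Type u) [CommRing R] [IsDomain R] [IsBezout R]
    (n : ℕ) (f : Fin (n + 1) → R) (hf : Ideal.span (Set.range f) = ⊤) :
    ∃ A : Matrix (Fin (n + 1)) (Fin (n + 1)) R, IsUnit A.det ∧ A 0 = f := by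
  classical
  obtain ⟨c, hc⟩ := Ideal.mem_span_range_iff_exists_fun.1
    (hf ▸ Submodule.mem_top : (1 : R) ∈ Ideal.span (Set.range f))
  let φ : (Fin (n + 1) → R) →ₗ[R] R := Fintype.linearCombination R f
  have hφc : φ c = 1 := by
    rw [← hc]; simp [φ, Fintype.linearCombination_apply]
  obtain ⟨hfin, -, -⟩ := Bezout.exists_splitting φ
  have hfree : Module.Free R (LinearMap.ker φ) :=
    Bezout.free_of_injective _ _ (LinearMap.ker φ).subtype Subtype.val_injective
  let π : (Fin (n + 1) → R) →ₗ[R] LinearMap.ker φ :=
    LinearMap.codRestrict _ (LinearMap.id - φ.smulRight c) fun x => by simp [hφc]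
  let e : (Fin (n + 1) → R) ≃ₗ[R] R × LinearMap.ker φ :=
    LinearEquiv.ofLinear (φ.prod π) ((LinearMap.toSpanSingleton R _ c).coprod (LinearMap.ker φ).subtype)
      (LinearMap.ext fun ⟨r, k, hk⟩ => by
        rw [LinearMap.mem_ker] at hk
        refine Prod.ext ?_ (Subtype.ext ?_)
        · simp [hk, hφc]
        · simp [π, hk, hφc])
      (LinearMap.ext fun x => by simp [π])
  have hrank : Module.finrank R (LinearMap.ker φ) = n := by
    have := e.finrank_eq
    rw [Module.finrank_prod, Module.finrank_pi, Fintype.card_fin, Module.finrank_self] at this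
    omega
  let b := Module.finBasisOfFinrankEq R (LinearMap.ker φ) hrank
  let E : (Fin (n + 1) → R) ≃ₗ[R] (Fin (n + 1) → R) :=
    e.trans (((LinearEquiv.refl R R).prodCongr b.equivFun).trans
      (Fin.consLinearEquiv R (fun _ : Fin (n + 1) => R)))
  refine ⟨LinearMap.toMatrix' E.toLinearMap, ?_, ?_⟩
  · rw [LinearMap.det_toMatrix']
    exact E.isUnit_det'
  · funext j
    rw [LinearMap.toMatrix'_apply]
    simp [E, e, φ, Fintype.linearCombination_apply_single]


end Groth.Agent.S7122
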