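import Groth.Statements.S7123
import Mathlib

set_option autoImplicit false
universe u
open CAlg

namespace Groth.Agent.S7123

open DirectSum in
/-- For a module P over a ring R these two conditions are equivalent: (1) P is a retract (direct
summand) of a direct sum of cyclic modules R/fR, f ranging over R; (2) for every surjection of
R-modules π : B → C whose kernel A satisfies fA = A ∩ fB for every f in R, each linear map P → C
lifts through π. -/
theorem result (R : Type u) [CommRing R] (P : Type u)
    [AddCommGroup P] [Module R P] :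
    (∃ (ι : Type u) (f : ι → R) (i : P →ₗ[R] (⨁ j, R ⧸ Ideal.span {f j}))
        (p : (⨁ j, R ⧸ Ideal.span {f j}) →ₗ[R] P), p ∘ₗ i = LinearMap.id) ↔
      ∀ (B C : Type u) [AddCommGroup B] [Module R B] [AddCommGroup C] [Module R C] (π : B →ₗ[R] C),
        Function.Surjective π →
        (∀ (f : R) (b : B), π (f • b) = 0 → ∃ a : B, π a = 0 ∧ f • a = f • b) →
        ∀ ψ : P →ₗ[R] C, ∃ φ : P →ₗ[R] B, π ∘ₗ φ = ψ := by
  classical
  constructor
  · rintro ⟨ι, f, i, p, hip⟩ B C _ _ _ _ π hπ hpure ψ
    have key : ∀ j, ∃ φ : (R ⧸ Ideal.span {f j}) →ₗ[R] B,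
        π ∘ₗ φ = ψ ∘ₗ p ∘ₗ DirectSum.lof R ι (fun j => R ⧸ Ideal.span {f j}) j := by
      intro j
      let χ := ψ ∘ₗ p ∘ₗ DirectSum.lof R ι (fun j => R ⧸ Ideal.span {f j}) j
      obtain ⟨b, hb⟩ := hπ (χ (Submodule.Quotient.mk 1))
      have h0 : π (f j • b) = 0 := by
        rw [map_smul, hb, ← map_smul, ← Submodule.Quotient.mk_smul, smul_eq_mul, mul_one,
          (Submodule.Quotient.mk_eq_zero _).2 (Ideal.mem_span_singleton_self _), map_zero]
      obtain ⟨a, ha, hab⟩ := hpure _ _ h0
      have hle : Ideal.span {f j} ≤ LinearMap.ker (LinearMap.toSpanSingleton R B (b - a)) := by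
        rw [Ideal.span_le, Set.singleton_subset_iff]
        show f j • (b - a) = 0
        rw [smul_sub, hab, sub_self]
      refine ⟨(Ideal.span {f j}).liftQ _ hle, Submodule.linearMap_qext _ (LinearMap.ext_ring ?_)⟩
      show π ((1 : R) • (b - a)) = χ (Submodule.Quotient.mk 1)
      rw [one_smul, map_sub, hb, ha, sub_zero]
    choose φ hφ using key
    refine ⟨DirectSum.toModule R ι B φ ∘ₗ i, ?_⟩
    have h1 : π ∘ₗ DirectSum.toModule R ι B φ = ψ ∘ₗ p := by
      refine DirectSum.linearMap_ext R fun j => ?_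
      refine LinearMap.ext fun x => ?_
      simp only [LinearMap.coe_comp, Function.comp_apply, DirectSum.toModule_lof]
      exact LinearMap.congr_fun (hφ j) x
    rw [← LinearMap.comp_assoc, h1, LinearMap.comp_assoc, hip, LinearMap.comp_id]
  · intro h
    let ι := {fx : R × P // fx.1 • fx.2 = 0}
    let f : ι → R := fun j => j.1.1
    have hle : ∀ j : ι, Ideal.span {f j} ≤ LinearMap.ker (LinearMap.toSpanSingleton R P j.1.2) := by
      intro j
      rw [Ideal.span_le, Set.singleton_subset_iff]
      exact j.2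
    let p := DirectSum.toModule R ι P fun j => (Ideal.span {f j}).liftQ _ (hle j)
    have hp : ∀ j, p (DirectSum.lof R ι (fun j => R ⧸ Ideal.span {f j}) j (Submodule.Quotient.mk 1)) = j.1.2 :=
      fun j => by
        simp only [p, DirectSum.toModule_lof, Submodule.liftQ_apply, LinearMap.toSpanSingleton_apply,
          one_smul]
    have hsurj : Function.Surjective p := fun x => ⟨_, hp ⟨(0, x), zero_smul R x⟩⟩
    obtain ⟨i, hi⟩ := h _ P p hsurj (fun r b hb => by
      let j : ι := ⟨(r, p b), by rw [← map_smul]; exact hb⟩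
      refine ⟨b - DirectSum.lof R ι (fun j => R ⧸ Ideal.span {f j}) j (Submodule.Quotient.mk 1),
        by rw [map_sub, hp, sub_self], ?_⟩
      rw [smul_sub, ← map_smul, ← Submodule.Quotient.mk_smul, smul_eq_mul, mul_one,
        (Submodule.Quotient.mk_eq_zero _).2 (Ideal.mem_span_singleton_self r), map_zero, sub_zero])
      LinearMap.id
    exact ⟨ι, f, i, p, hi⟩


end Groth.Agent.S7123
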