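import Groth.Statements.S7124
import Mathlib

set_option autoImplicit false
universe u
open CAlg

namespace Groth.Agent.S7124

/-- Let A ⊆ B be an extension of valuation rings (both valuation domains, the inclusion injective and
local) with fraction fields K ⊆ L such that L/K is finite. Then the residue field of B is finite
over that of A, the value group of A has finite index in the value group of B, and (index of value
groups) · (residue degree) ≤ [L : K]. Here the value group of B is written as Lˣ modulo the units of
B, and that of A as the image of Kˣ in it. -/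
theorem result (A B K L : Type u) [CommRing A] [IsDomain A]
    [ValuationRing A] [CommRing B] [IsDomain B] [ValuationRing B] [Field K] [Field L]
    [Algebra A K] [IsFractionRing A K] [Algebra B L] [IsFractionRing B L] [Algebra A B] [Algebra K L]
    [Algebra A L] [IsScalarTower A K L] [IsScalarTower A B L] (hinj : Function.Injective (algebraMap A B))
    [IsLocalHom (algebraMap A B)] [FiniteDimensional K L] :
    let UB : Subgroup Lˣ := (Units.map (algebraMap B L).toMonoidHom).range
    let ΓA : Subgroup (Lˣ ⧸ UB) := ((QuotientGroup.mk' UB).comp (Units.map (algebraMap K L).toMonoidHom)).range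
    Module.Finite (IsLocalRing.ResidueField A) (IsLocalRing.ResidueField B) ∧ ΓA.index ≠ 0 ∧
      ΓA.index * Module.finrank (IsLocalRing.ResidueField A) (IsLocalRing.ResidueField B) ≤
        Module.finrank K L := by
  classical
  intro UB ΓA
  have hΓn : ΓA.Normal := ⟨fun n hn g => by rwa [mul_comm g n, mul_inv_cancel_right]⟩
  let v := ValuationRing.valuation B L
  have hBL : Function.Injective (algebraMap B L) := IsFractionRing.injective B L
  have hvle : ∀ b : B, v (algebraMap B L b) ≤ 1 := fun b => (ValuationRing.mem_integer_iff B L _).2 ⟨b, rfl⟩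
  have hunit : ∀ b : B, IsUnit b → v (algebraMap B L b) = 1 := by
    rintro b ⟨u, rfl⟩
    refine le_antisymm (hvle _) ?_
    calc (1 : _) = v (algebraMap B L (u : B) * algebraMap B L ((u⁻¹ : Bˣ) : B)) := by
          rw [← map_mul, Units.mul_inv, map_one, map_one]
      _ ≤ v (algebraMap B L (u : B)) := by
          rw [map_mul]; exact mul_le_of_le_one_right' (hvle _)
  have hmem : ∀ x : Lˣ, v (x : L) = 1 → x ∈ UB := by
    intro x hx
    obtain ⟨b, hb⟩ := (ValuationRing.mem_integer_iff B L _).1 (show (x : L) ∈ v.integer from hx.le)
    have hx' : v ((x⁻¹ : Lˣ) : L) = 1 := by rw [Units.val_inv_eq_inv_val, map_inv₀, hx, inv_one]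
    obtain ⟨c, hc⟩ := (ValuationRing.mem_integer_iff B L _).1 (show ((x⁻¹ : Lˣ) : L) ∈ v.integer from hx'.le)
    have hbc : b * c = 1 := hBL (by rw [map_mul, hb, hc, map_one, Units.mul_inv])
    exact ⟨Units.mkOfMulEqOne b c hbc, Units.ext hb⟩
  let q : Lˣ → (Lˣ ⧸ UB) ⧸ ΓA := fun x => QuotientGroup.mk (QuotientGroup.mk x)
  have key : ∀ (s : Finset B) (t : Finset Lˣ),
      LinearIndependent (IsLocalRing.ResidueField A) (fun i : s => IsLocalRing.residue B i) →
      Set.InjOn q t → s.card * t.card ≤ Module.finrank K L := by
    intro s t hs ht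
    have hli : LinearIndependent K (fun p : s × t => algebraMap B L (p.1 : B) * ((p.2 : Lˣ) : L)) := by
      rw [Fintype.linearIndependent_iff]
      intro c hc
      by_contra hne
      simp only [not_forall] at hne
      obtain ⟨⟨i₀, j₀⟩, hij⟩ := hne
      let α : t → L := fun j => ∑ i : s, algebraMap K L (c (i, j)) * algebraMap B L (i : B)
      have hα : ∀ j : t, (∃ i, c (i, j) ≠ 0) → ∃ d : K, d ≠ 0 ∧ v (α j) = v (algebraMap K L d) := by
        rintro j ⟨i₁, hi₁⟩
        let w := ValuationRing.valuation A K
        haveI : Nonempty s := ⟨i₁⟩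
        obtain ⟨im, hwm⟩ := Finite.exists_max fun i : s => w (c (i, j))
        have hcm : c (im, j) ≠ 0 := by
          intro h
          have h' := hwm i₁
          rw [h, map_zero, le_zero_iff, Valuation.zero_iff] at h'
          exact hi₁ h'
        have hcoef : ∀ i : s, ∃ a : A, algebraMap A K a = c (i, j) / c (im, j) := fun i =>
          (ValuationRing.mem_integer_iff A K _).1 (show w (c (i, j) / c (im, j)) ≤ 1 by
            rw [map_div₀]
            exact div_le_one_of_le₀ (hwm i) zero_le)
        choose a ha using hcoef
        let b : B := ∑ i : s, algebraMap A B (a i) * (i : B)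
        have hbu : IsUnit b := by
          by_contra hb
          have h0 : IsLocalRing.residue B b = 0 :=
            (IsLocalRing.residue_eq_zero_iff b).2 ((IsLocalRing.mem_maximalIdeal b).2 hb)
          have h1 : ∑ i : s, IsLocalRing.residue A (a i) • IsLocalRing.residue B (i : B) = 0 := by
            rw [← h0]
            simp only [b, map_sum, map_mul]
            refine Finset.sum_congr rfl fun i _ => ?_
            rw [Algebra.smul_def]
            rfl
          have h2 := Fintype.linearIndependent_iff.1 hs _ h1 im
          have h3 : a im = 1 := IsFractionRing.injective A K (by rw [ha, div_self hcm, map_one])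
          rw [h3, map_one] at h2
          exact one_ne_zero h2
        refine ⟨c (im, j), hcm, ?_⟩
        have hb : α j = algebraMap K L (c (im, j)) * algebraMap B L b := by
          simp only [α, b, map_sum, map_mul, Finset.mul_sum]
          refine Finset.sum_congr rfl fun i _ => ?_
          rw [← mul_assoc, ← IsScalarTower.algebraMap_apply A B L, IsScalarTower.algebraMap_apply A K L,
            ← map_mul, ha, mul_div_cancel₀ _ hcm]
        rw [hb, map_mul, hunit b hbu, mul_one]
      let T : Finset t := Finset.univ.filter fun j => ∃ i, c (i, j) ≠ 0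
      have hT : T.Nonempty := ⟨j₀, Finset.mem_filter.2 ⟨Finset.mem_univ _, i₀, hij⟩⟩
      let F : t → L := fun j => α j * ((j : Lˣ) : L)
      obtain ⟨jm, hjm, hmax⟩ := T.exists_max_image (fun j => v (F j)) hT
      have hne0 : ∀ j ∈ T, v (F j) ≠ 0 := by
        intro j hj
        obtain ⟨d, hd, hvd⟩ := hα j (Finset.mem_filter.1 hj).2
        simp only [F, map_mul, hvd, ne_eq, mul_eq_zero, Valuation.zero_iff, map_eq_zero, hd, Units.ne_zero,
          or_self, not_false_eq_true]
      have hlt : ∀ j ∈ T \ {jm}, v (F j) < v (F jm) := by
        intro j hj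
        rw [Finset.mem_sdiff, Finset.mem_singleton] at hj
        refine lt_of_le_of_ne (hmax j hj.1) fun heq => hj.2 ?_
        obtain ⟨d, hd, hvd⟩ := hα j (Finset.mem_filter.1 hj.1).2
        obtain ⟨d', hd', hvd'⟩ := hα jm (Finset.mem_filter.1 hjm).2
        let D : Lˣ := Units.map (algebraMap K L).toMonoidHom (Units.mk0 d hd)
        let D' : Lˣ := Units.map (algebraMap K L).toMonoidHom (Units.mk0 d' hd')
        have hU : (D * (j : Lˣ))⁻¹ * (D' * (jm : Lˣ)) ∈ UB := by
          apply hmem
          have e : v (algebraMap K L d) * v ((j : Lˣ) : L) = v (algebraMap K L d') * v ((jm : Lˣ) : L) := by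
            simpa [F, map_mul, hvd, hvd'] using heq
          simp only [D, D', Units.val_mul, Units.val_inv_eq_inv_val, Units.coe_map, MonoidHom.coe_coe,
            RingHom.toMonoidHom_eq_coe, Units.val_mk0, map_mul, map_inv₀]
          rw [← e, inv_mul_cancel₀]
          exact mul_ne_zero (by simp [hd]) (by simp)
        have hq : ∀ (d : K) (hd : d ≠ 0) (x : Lˣ),
            q (Units.map (algebraMap K L).toMonoidHom (Units.mk0 d hd) * x) = q x := by
          intro d hd x
          simp only [q, QuotientGroup.mk_mul]
          rw [show (QuotientGroup.mk (QuotientGroup.mk (Units.map (algebraMap K L).toMonoidHom (Units.mk0 d hd)) : Lˣ ⧸ UB) :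
            (Lˣ ⧸ UB) ⧸ ΓA) = 1 from (QuotientGroup.eq_one_iff _).2 ⟨Units.mk0 d hd, rfl⟩, one_mul]
        have : q (j : Lˣ) = q (jm : Lˣ) := by
          rw [← hq d hd, ← hq d' hd' jm]
          exact congrArg QuotientGroup.mk (QuotientGroup.eq.2 hU)
        exact Subtype.ext (ht (Finset.mem_coe.2 j.2) (Finset.mem_coe.2 jm.2) this)
      have hsum : ∑ j ∈ T, F j = 0 := by
        have : ∑ j ∈ T, F j = ∑ j : t, F j := by
          refine Finset.sum_subset (Finset.subset_univ _) fun j _ hj => ?_
          simp only [T, Finset.mem_filter, Finset.mem_univ, true_and, not_exists, not_not] at hj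
          simp [F, α, hj]
        rw [this, ← hc]
        simp only [F, α, Finset.sum_mul, Algebra.smul_def]
        rw [Fintype.sum_prod_type_right]
        simp only [mul_assoc]
      have := v.map_sum_eq_of_lt hjm hlt
      rw [hsum, map_zero] at this
      exact hne0 jm hjm this.symm
    have := hli.fintype_card_le_finrank
    simpa using this
  have hres : ∀ s : Finset (IsLocalRing.ResidueField B),
      LinearIndependent (IsLocalRing.ResidueField A) (fun i : s => (i : IsLocalRing.ResidueField B)) →
      ∀ t : Finset Lˣ, Set.InjOn q t → s.card * t.card ≤ Module.finrank K L := by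
    intro s hs t ht
    let σ : IsLocalRing.ResidueField B → B := Function.surjInv IsLocalRing.residue_surjective
    have hσ : ∀ x, IsLocalRing.residue B (σ x) = x := Function.surjInv_eq IsLocalRing.residue_surjective
    have hinj : Function.Injective σ := Function.injective_surjInv _
    have := key (s.image σ) t ?_ ht
    · rwa [Finset.card_image_of_injective s hinj] at this
    · let e : ↥(s.image σ) → ↥s := fun i => ⟨IsLocalRing.residue B i, by
        obtain ⟨x, hx, hxi⟩ := Finset.mem_image.1 i.2
        rw [← hxi, hσ]; exact hx⟩
      have he : Function.Injective e := by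
        intro i j h
        have h' : IsLocalRing.residue B (i : B) = IsLocalRing.residue B (j : B) := congrArg Subtype.val h
        obtain ⟨x, _, hxi⟩ := Finset.mem_image.1 i.2
        obtain ⟨y, _, hyj⟩ := Finset.mem_image.1 j.2
        rw [← hxi, ← hyj, hσ, hσ] at h'
        exact Subtype.ext (by rw [← hxi, ← hyj, h'])
      exact hs.comp e he
  have hrank : Module.rank (IsLocalRing.ResidueField A) (IsLocalRing.ResidueField B) ≤ Module.finrank K L := by
    refine rank_le fun s hs => ?_
    simpa using hres s hs {1} (by simp)
  haveI hfin : Module.Finite (IsLocalRing.ResidueField A) (IsLocalRing.ResidueField B) :=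
    Module.rank_lt_aleph0_iff.1 (hrank.trans_lt (Cardinal.natCast_lt_aleph0 ..))
  let bB := Module.finBasis (IsLocalRing.ResidueField A) (IsLocalRing.ResidueField B)
  have hq : Function.Surjective q :=
    (QuotientGroup.mk_surjective).comp (QuotientGroup.mk_surjective)
  have hb : ∀ t : Finset ((Lˣ ⧸ UB) ⧸ ΓA),
      Module.finrank (IsLocalRing.ResidueField A) (IsLocalRing.ResidueField B) * t.card ≤ Module.finrank K L := by
    intro t
    let σ := Function.surjInv hq
    have := hres (Finset.univ.image bB) ?_ (t.image σ) ?_
    · simpa [Finset.card_image_of_injective _ bB.injective,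
        Finset.card_image_of_injective _ (Function.injective_surjInv hq), σ] using this
    · let e : ↥(Finset.univ.image bB) → Fin (Module.finrank (IsLocalRing.ResidueField A) (IsLocalRing.ResidueField B)) :=
        fun i => (Finset.mem_image.1 i.2).choose
      have he : ∀ i, bB (e i) = (i : IsLocalRing.ResidueField B) := fun i => (Finset.mem_image.1 i.2).choose_spec.2
      have := bB.linearIndependent.comp e fun i j h => Subtype.ext (by rw [← he i, ← he j, h])
      convert this using 1
      funext i
      exact (he i).symm
    · intro x hx y hy h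
      obtain ⟨x', _, rfl⟩ := Finset.mem_image.1 (Finset.mem_coe.1 hx)
      obtain ⟨y', _, rfl⟩ := Finset.mem_image.1 (Finset.mem_coe.1 hy)
      rw [Function.surjInv_eq hq, Function.surjInv_eq hq] at h
      rw [h]
  have hpos : 0 < Module.finrank (IsLocalRing.ResidueField A) (IsLocalRing.ResidueField B) := Module.finrank_pos
  haveI hfinite : Finite ((Lˣ ⧸ UB) ⧸ ΓA) := by
    by_contra h
    rw [not_finite_iff_infinite] at h
    obtain ⟨t, htc⟩ := Infinite.exists_subset_card_eq ((Lˣ ⧸ UB) ⧸ ΓA) (Module.finrank K L + 1)
    have := hb t
    rw [htc] at this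
    nlinarith
  refine ⟨hfin, ?_, ?_⟩
  · rw [Subgroup.index]
    exact Nat.card_pos.ne'
  · haveI := Fintype.ofFinite ((Lˣ ⧸ UB) ⧸ ΓA)
    rw [Subgroup.index, Nat.card_eq_fintype_card, mul_comm]
    exact hb Finset.univ


end Groth.Agent.S7124
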