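import Groth.Statements.S7130
import Mathlib.RingTheory.Flat.EquationalCriterion
import Mathlib.RingTheory.Flat.Localization
import Mathlib.RingTheory.LocalProperties.Reduced
import Mathlib.Tactic.LinearCombination
import Mathlib.LinearAlgebra.Basis.VectorSpace

set_option autoImplicit false
universe u
open EtAlg

namespace Groth.Agent.S7130

/-- (2) ⇔ (3) ⇔ (4): for a ring A the following are equivalent: every A-module is flat; A is reduced of
Krull dimension zero, in the sense that every prime ideal of A is maximal; the local ring A_p is a
field for every prime p. (The further equivalent condition 'A has weak dimension at most zero'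
coincides with the first condition by definition and is not listed separately.) -/
theorem result (A : Type u) [CommRing A] :
    List.TFAE [∀ (M : Type u) [AddCommGroup M] [Module A M], Module.Flat A M,
      IsReduced A ∧ ∀ p : Ideal A, p.IsPrime → p.IsMaximal,
      ∀ (p : Ideal A) [p.IsPrime], IsField (Localization.AtPrime p)] := by
  tfae_have 1 → 3 := fun h p hp => by
    refine IsLocalRing.isField_iff_maximalIdeal_eq.mpr (eq_bot_iff.mpr fun z hz => ?_)
    obtain ⟨⟨a, s⟩, e⟩ := IsLocalization.surj p.primeCompl z
    have ha : a ∈ p := by
      refine (IsLocalization.AtPrime.to_map_mem_maximal_iff (Localization.AtPrime p) p a).mp ?_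
      rw [← e]; exact Ideal.mul_mem_right _ _ hz
    have := h (A ⧸ Ideal.span {a})
    obtain ⟨κ, y, y', hy, hy'⟩ := Module.Flat.isTrivialRelation_of_sum_smul_eq_zero
      (f := fun _ : Unit => a) (x := fun _ : Unit => (1 : A ⧸ Ideal.span {a}))
      (by simp [Algebra.smul_def])
    choose b hb using fun j => Ideal.Quotient.mk_surjective (y' j)
    have h1 : 1 - ∑ j, y () j * b j ∈ Ideal.span {a} := by
      rw [← Ideal.Quotient.eq_zero_iff_mem, map_sub, map_one, map_sum, sub_eq_zero]
      refine (hy ()).trans (Finset.sum_congr rfl fun j _ => ?_)
      rw [map_mul, hb, Algebra.smul_def]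
      rfl
    obtain ⟨c, hc⟩ := Ideal.mem_span_singleton'.mp h1
    have h2 : a * (1 - a * c) = 0 := by
      have hz' : ∀ j, a * y () j = 0 := fun j => by simpa using hy' j
      have : a * ∑ j, y () j * b j = 0 := by
        rw [Finset.mul_sum]
        exact Finset.sum_eq_zero fun j _ => by rw [← mul_assoc, hz', zero_mul]
      linear_combination this - a * hc
    have h0 : algebraMap A (Localization.AtPrime p) a = 0 := by
      refine (IsLocalization.map_eq_zero_iff p.primeCompl _ a).mpr ⟨⟨1 - a * c, fun h' =>
        hp.ne_top ((Ideal.eq_top_iff_one p).mpr (by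
          simpa using add_mem h' (p.mul_mem_right c ha)))⟩, ?_⟩
      rw [mul_comm]; exact h2
    rw [h0] at e
    rw [Ideal.mem_bot]
    exact (IsLocalization.map_units _ s).mul_left_eq_zero.mp e
  tfae_have 3 → 2 := fun h => by
    refine ⟨isReduced_ofLocalizationMaximal A fun P hP => ?_, fun p hp => ?_⟩
    · let := (h P).toField
      infer_instance
    · obtain ⟨m, hm, hpm⟩ := Ideal.exists_le_maximal p hp.ne_top
      suffices m ≤ p from (le_antisymm hpm this).symm ▸ hm
      intro x hx
      have h0 : algebraMap A (Localization.AtPrime m) x = 0 := by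
        have := (IsLocalization.AtPrime.to_map_mem_maximal_iff (Localization.AtPrime m) m x).mpr hx
        rwa [IsLocalRing.isField_iff_maximalIdeal_eq.mp (h m), Ideal.mem_bot] at this
      obtain ⟨t, ht⟩ := (IsLocalization.map_eq_zero_iff m.primeCompl _ x).mp h0
      exact (hp.mem_or_mem (show (t : A) * x ∈ p from ht ▸ p.zero_mem)).resolve_left
        fun h' => t.2 (hpm h')
  tfae_have 2 → 3 := fun ⟨hred, hmax⟩ p hp => by
    refine IsLocalRing.isField_iff_maximalIdeal_eq.mpr (eq_bot_iff.mpr fun z hz => ?_)
    have : IsNilpotent z := by
      rw [← mem_nilradical, nilradical_eq_sInf, Ideal.mem_sInf]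
      intro Q hQ
      have hQ' : Q.IsPrime := hQ
      have h1 : Q.comap (algebraMap A (Localization.AtPrime p)) = p :=
        (hmax _ inferInstance).eq_of_le hp.ne_top fun x hx => by
          refine (IsLocalization.AtPrime.to_map_mem_maximal_iff (Localization.AtPrime p) p x).mp ?_
          exact IsLocalRing.le_maximalIdeal hQ'.ne_top hx
      rw [← IsLocalization.map_under p.primeCompl (Localization.AtPrime p) Q, Ideal.under_def, h1]
      rwa [← Localization.AtPrime.map_eq_maximalIdeal] at hz
    have := IsReduced.eq_zero z this
    simpa using this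
  tfae_have 3 → 1 := fun h M _ _ => by
    refine Module.flat_of_localized_maximal M fun P hP => ?_
    let : Field (Localization.AtPrime P) := (h P).toField
    have : Module.Free (Localization.AtPrime P) (LocalizedModule P.primeCompl M) :=
      Module.Free.of_basis (Module.Basis.ofVectorSpace _ _)
    exact (Module.flat_iff_of_isLocalization (Localization.AtPrime P) P.primeCompl _).mp inferInstance
  tfae_finish
end Groth.Agent.S7130
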