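import Groth.Statements.S7131
import Groth.Agent.WEtLib.Basic
import Groth.Agent.FlatSyz5.Dim
-- import your own Groth.Agent.* helpers here

set_option autoImplicit false
universe u
open EtAlg

namespace Groth.Agent.S7131

/-- Suppose A → B is weakly étale and every A-module has tor dimension at most d. Then every B-module
has tor dimension at most d over B (weak dimension at most d ascends along weakly étale maps). -/
theorem result (A B : Type u) [CommRing A] [CommRing B] [Algebra A B]
    [Algebra.WeaklyEtale A B] (d : ℕ)
    (hA : ∀ (M : Type u) [AddCommGroup M] [Module A M], DRing.HasTorDimLE A d M)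
    (N : Type u) [AddCommGroup N] [Module B N] : DRing.HasTorDimLE B d N := by
  letI : Module A N := Module.compHom N (algebraMap A B)
  haveI : IsScalarTower A B N := ⟨fun a b n => by rw [Algebra.smul_def, mul_smul]; rfl⟩
  suffices h : ∀ (N : Type u) [AddCommGroup N] [Module A N] [Module B N] [IsScalarTower A B N],
      DRing.HasTorDimLE A d N → DRing.HasTorDimLE B d N from h N (hA N)
  clear hA
  induction d with
  | zero =>
    intro N _ _ _ _ h
    haveI : Module.Flat A N := (Groth.Agent.H9Misc.DRingTor.torDimLE_zero_iff (ModuleCat.of A N)).1 h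
    exact (Groth.Agent.H9Misc.DRingTor.torDimLE_zero_iff (ModuleCat.of B N)).2 (Groth.Agent.WEtLib.flat_of_flat (A := A) (B := B) N)
  | succ d ih =>
    intro N _ _ _ _ h
    let π : (N →₀ B) →ₗ[B] N := Finsupp.linearCombination B id
    have hπ : Function.Surjective π := Finsupp.linearCombination_id_surjective B N
    let πA : (N →₀ B) →ₗ[A] N := π.restrictScalars A
    haveI : Module.Flat A (Groth.Agent.FlatSyz5.kerSeq πA).X₂ := Module.Flat.trans A B (N →₀ B)
    haveI : Module.Flat B (Groth.Agent.FlatSyz5.kerSeq π).X₂ := inferInstanceAs (Module.Flat B (N →₀ B))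
    have hA' : DRing.HasTorDimLE A d (LinearMap.ker π) :=
      (Groth.Agent.H9Misc.DRingTor.torDimLE_succ_iff (Groth.Agent.FlatSyz5.kerSeq_shortExact (π := πA) hπ) d).1 h
    exact (Groth.Agent.H9Misc.DRingTor.torDimLE_succ_iff (Groth.Agent.FlatSyz5.kerSeq_shortExact hπ) d).2
      (ih (LinearMap.ker π) hA')

end Groth.Agent.S7131
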