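import Groth.Statements.S7132
import Groth.Agent.DVR7.Basic
import Mathlib.FieldTheory.PurelyInseparable.Basic
import Mathlib.Tactic.LinearCombination

set_option autoImplicit false
universe u
open EtAlg

namespace Groth.Agent.S7132

/-- For an injective local homomorphism A → B of discrete valuation rings whose fraction fields K ⊆ L
form a finite extension, the residue field of B is finite over that of A, and the ramification index
e times the residue degree f is at most [L : K]. -/
theorem result (A B K L : Type u) [CommRing A] [IsDomain A]
    [IsDiscreteValuationRing A] [CommRing B] [IsDomain B] [IsDiscreteValuationRing B] [Algebra A B]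
    (hinj : Function.Injective (algebraMap A B)) [IsLocalHom (algebraMap A B)]
    [Field K] [Field L] [Algebra A K] [IsFractionRing A K] [Algebra B L] [IsFractionRing B L]
    [Algebra K L] [Algebra A L] [IsScalarTower A K L] [IsScalarTower A B L] [FiniteDimensional K L] :
    Module.Finite (IsLocalRing.ResidueField A) (IsLocalRing.ResidueField B) ∧
      Ideal.ramificationIdx' (IsLocalRing.maximalIdeal A) (IsLocalRing.maximalIdeal B) *
          Module.finrank (IsLocalRing.ResidueField A) (IsLocalRing.ResidueField B) ≤
        Module.finrank K L := by
  classical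
  obtain ⟨ϖ, hϖ⟩ := IsDiscreteValuationRing.exists_irreducible B
  obtain ⟨π, hπ⟩ := IsDiscreteValuationRing.exists_irreducible A
  obtain ⟨u, hu, he⟩ := DVR7.exists_eq_unit_mul_pow hinj hπ hϖ
  set e := Ideal.ramificationIdx' (IsLocalRing.maximalIdeal A) (IsLocalRing.maximalIdeal B)
  have key : ∀ (ι : Type u) [Fintype ι] (b : ι → IsLocalRing.ResidueField B),
      LinearIndependent (IsLocalRing.ResidueField A) b → e * Fintype.card ι ≤ Module.finrank K L := by
    intro ι _ b hb
    choose c hc using fun j => IsLocalRing.residue_surjective (b j)
    have h1 := DVR7.linearIndependent_pow_mul hinj hϖ c (by simpa only [hc] using hb)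
    have h2 := h1.map' (IsScalarTower.toAlgHom A B L).toLinearMap
      (LinearMap.ker_eq_bot.mpr (IsFractionRing.injective B L))
    have h3 := ((LinearIndependent.iff_fractionRing A K).mp h2).fintype_card_le_finrank
    rwa [Fintype.card_prod, Fintype.card_fin] at h3
  have hfin : Module.Finite (IsLocalRing.ResidueField A) (IsLocalRing.ResidueField B) :=
    Module.rank_lt_aleph0_iff.mp (lt_of_le_of_lt (rank_le (n := Module.finrank K L) fun s hs =>
      le_trans (Nat.le_mul_of_pos_left _ he) (by simpa using key _ _ hs)) Cardinal.natCast_lt_aleph0)
  refine ⟨hfin, ?_⟩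
  let bb := Module.Free.chooseBasis (IsLocalRing.ResidueField A) (IsLocalRing.ResidueField B)
  rw [Module.finrank_eq_card_chooseBasisIndex (IsLocalRing.ResidueField A) (IsLocalRing.ResidueField B)]
  exact key _ _ bb.linearIndependent
end Groth.Agent.S7132
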