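import Groth.Statements.S7133
import Groth.Agent.DVR7.Basic
import Mathlib.FieldTheory.PurelyInseparable.Basic
import Mathlib.Tactic.LinearCombination

set_option autoImplicit false
universe u
open EtAlg

namespace Groth.Agent.S7133

/-- For an injective local homomorphism A → B of discrete valuation rings whose fields of fractions are
K ⊆ L: if K has characteristic p > 0 and L/K is purely inseparable, then the ramification index of B
over A is a power of p. -/
theorem result (A B K L : Type u) [CommRing A] [IsDomain A]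
    [IsDiscreteValuationRing A] [CommRing B] [IsDomain B] [IsDiscreteValuationRing B] [Algebra A B]
    (hinj : Function.Injective (algebraMap A B)) [IsLocalHom (algebraMap A B)]
    [Field K] [Field L] [Algebra A K] [IsFractionRing A K] [Algebra B L] [IsFractionRing B L]
    [Algebra K L] [Algebra A L] [IsScalarTower A K L] [IsScalarTower A B L]
    (p : ℕ) (hp : p.Prime) [CharP K p] [IsPurelyInseparable K L] :
    ∃ k : ℕ, Ideal.ramificationIdx' (IsLocalRing.maximalIdeal A) (IsLocalRing.maximalIdeal B) =
      p ^ k := by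
  obtain ⟨ϖ, hϖ⟩ := IsDiscreteValuationRing.exists_irreducible B
  obtain ⟨π, hπ⟩ := IsDiscreteValuationRing.exists_irreducible A
  obtain ⟨u, hu, he⟩ := DVR7.exists_eq_unit_mul_pow hinj hπ hϖ
  set e := Ideal.ramificationIdx' (IsLocalRing.maximalIdeal A) (IsLocalRing.maximalIdeal B)
  have : ExpChar K p := .prime hp
  obtain ⟨n, x, hx⟩ := IsPurelyInseparable.pow_mem K p (algebraMap B L ϖ)
  obtain ⟨a, c, hc, hxeq⟩ := IsFractionRing.div_surjective A x
  have hc0 : algebraMap A B c ≠ 0 :=
    fun h => nonZeroDivisors.ne_zero hc (hinj (h.trans (map_zero _).symm))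
  have hcL : algebraMap A L c ≠ 0 := fun h => hc0 (IsFractionRing.injective B L (by
    rw [← IsScalarTower.algebraMap_apply, h, map_zero]))
  have heq : algebraMap A B a = algebraMap A B c * ϖ ^ p ^ n := by
    refine IsFractionRing.injective B L ?_
    rw [map_mul, ← IsScalarTower.algebraMap_apply, ← IsScalarTower.algebraMap_apply, map_pow, ← hx,
      ← hxeq, map_div₀, ← IsScalarTower.algebraMap_apply, ← IsScalarTower.algebraMap_apply,
      mul_div_cancel₀ _ hcL]
  have ha : a ≠ 0 := fun h => mul_ne_zero hc0 (pow_ne_zero _ hϖ.ne_zero) (by rw [← heq, h, map_zero])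
  obtain ⟨i, v, rfl⟩ := IsDiscreteValuationRing.eq_unit_mul_pow_irreducible ha hπ
  obtain ⟨j, w, rfl⟩ := IsDiscreteValuationRing.eq_unit_mul_pow_irreducible (nonZeroDivisors.ne_zero hc) hπ
  have h4 : ((Units.map (algebraMap A B).toMonoidHom v * u ^ i : Bˣ) : B) * ϖ ^ (e * i) =
      ((Units.map (algebraMap A B).toMonoidHom w * u ^ j : Bˣ) : B) * ϖ ^ (e * j + p ^ n) := by
    rw [map_mul, map_mul, map_pow, map_pow, hu, mul_pow, mul_pow, ← pow_mul, ← pow_mul] at heq
    simp only [Units.val_mul, Units.val_pow_eq_pow_val, Units.coe_map, RingHom.toMonoidHom_eq_coe,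
      MonoidHom.coe_coe, pow_add]
    linear_combination heq
  have h5 := IsDiscreteValuationRing.unit_mul_pow_congr_pow hϖ hϖ _ _ _ _ h4
  have hdvd : e ∣ p ^ n := ⟨i - j, by rw [Nat.mul_sub]; omega⟩
  obtain ⟨k, -, hk⟩ := (Nat.dvd_prime_pow hp).mp hdvd
  exact ⟨k, hk⟩
end Groth.Agent.S7133
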