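import Groth.Statements.S7134
import Groth.Agent.RegFS6.WeakUnram

set_option autoImplicit false
universe u
open EtAlg

namespace Groth.Agent.S7134

/-- For an injective local homomorphism A → B of discrete valuation rings, A → B is formally smooth for
the adic topology of the maximal ideal of B if and only if A → B is weakly unramified and the
residue field of B is a separable (possibly transcendental, i.e. geometrically reduced) extension of
the residue field of A. -/
theorem result (A B : Type u) [CommRing A]
    [IsDomain A] [IsDiscreteValuationRing A] [CommRing B] [IsDomain B] [IsDiscreteValuationRing B] [Algebra A B]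
    (hinj : Function.Injective (algebraMap A B)) [IsLocalHom (algebraMap A B)] :
    CAlgX.IsAdicFormallySmooth A B (IsLocalRing.maximalIdeal B) ↔
      EtRam.IsWeaklyUnramified A B ∧
        Algebra.IsGeometricallyReduced (IsLocalRing.ResidueField A) (IsLocalRing.ResidueField B) := by
    haveI : Module.IsTorsionFree A B := Module.isTorsionFree_iff_algebraMap_injective.mpr hinj
    constructor
    · intro hfs
      let mB : Ideal B := (IsLocalRing.maximalIdeal A).map (algebraMap A B)
      have hne : mB ≠ ⊥ := by
        rw [Ne, Ideal.map_eq_bot_iff_of_injective hinj]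
        exact IsDiscreteValuationRing.not_a_field A
      haveI : Nontrivial (B ⧸ mB) := Ideal.Quotient.nontrivial_iff.mpr (ne_top_of_le_ne_top
        (IsLocalRing.maximalIdeal.isMaximal B).ne_top
        (((IsLocalRing.local_hom_TFAE (algebraMap A B)).out 0 2).mp (inferInstance : IsLocalHom (algebraMap A B))))
      haveI : IsLocalRing (B ⧸ mB) := IsLocalRing.of_surjective' (Ideal.Quotient.mk mB) Ideal.Quotient.mk_surjective
      haveI : IsRegularLocalRing (B ⧸ mB) := by
        obtain ⟨e⟩ := RegFS6.closedFibre_equiv_quot A B
        haveI := FlatLoc6.isRegularRing_of_geometricallyRegular (RegFS6.geometricallyRegular_fibre_of_fs hfs)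
        haveI : IsLocalRing ((IsLocalRing.maximalIdeal A).Fiber B) := e.symm.isLocalRing
        haveI : IsRegularLocalRing ((IsLocalRing.maximalIdeal A).Fiber B) :=
          IsRegularLocalRing.of_isRegularRing_of_isLocalRing _
        exact IsRegularLocalRing.of_ringEquiv e
      haveI := RegLoc6.isDomain_of_isRegularLocalRing (B ⧸ mB)
      have hp : mB.IsPrime := (Ideal.Quotient.isDomain_iff_prime mB).mp inferInstance
      have hm : (IsLocalRing.maximalIdeal A).map (algebraMap A B) = IsLocalRing.maximalIdeal B :=
        IsLocalRing.eq_maximalIdeal (hp.isMaximal hne)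
      haveI := RegFS6.formallySmooth_residue_of_fs hm hfs
      exact ⟨hm, EGA41Lib.FieldFS.isGeometricallyReduced_of_formallySmooth _ _⟩
    · rintro ⟨hm, hsep⟩
      haveI := hsep
      exact RegFS6.fs_of_map_max hm

end Groth.Agent.S7134
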