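import Groth.Statements.S7135
import Groth.Agent.ARPair.Basic

set_option autoImplicit false
universe u
open CAlg

namespace Groth.Agent.S7135

/-- Let A be a Noetherian ring, I an ideal and M, N finite A-modules. If M/IⁿM and N/IⁿN are isomorphic
for every n, then the I-adic completions of M and N are isomorphic as modules over the I-adic
completion of A. -/
theorem result (A : Type u) [CommRing A] [IsNoetherianRing A] (I : Ideal A)
    (M N : Type u) [AddCommGroup M] [Module A M] [Module.Finite A M] [AddCommGroup N] [Module A N]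
    [Module.Finite A N]
    (h : ∀ n : ℕ, Nonempty ((M ⧸ (I ^ n • ⊤ : Submodule A M)) ≃ₗ[A] (N ⧸ (I ^ n • ⊤ : Submodule A N)))) :
    Nonempty (AdicCompletion I M ≃ₗ[AdicCompletion I A] AdicCompletion I N) := by
  classical
  -- lifts of the isomorphism modulo a high power
  obtain ⟨c, hc⟩ := ARPair.exists_hom_approx I M N
  obtain ⟨c', hc'⟩ := ARPair.exists_hom_approx I N M
  obtain ⟨e⟩ := h (1 + c + c')
  obtain ⟨φ, hφ⟩ := (hc (1 + c + c')).2 (e.toLinearMap ∘ₗ Submodule.mkQ _)
  obtain ⟨φ', hφ'⟩ := (hc' (1 + c + c')).2 (e.symm.toLinearMap ∘ₗ Submodule.mkQ _)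
  have hle : ∀ {P : Type u} [AddCommGroup P] [Module A P] {j : ℕ}, 1 ≤ j →
      (I ^ j • ⊤ : Submodule A P) ≤ I • ⊤ := fun {P} _ _ {j} hj =>
    Submodule.smul_mono_left (Ideal.pow_le_self (by omega))
  have hs : LinearMap.range φ ⊔ (I • ⊤ : Submodule A N) = ⊤ := by
    refine eq_top_iff.2 fun y _ => ?_
    obtain ⟨x, hx⟩ := Submodule.Quotient.mk_surjective _ (e.symm (Submodule.Quotient.mk y))
    refine Submodule.mem_sup.2 ⟨φ x, ⟨x, rfl⟩, y - φ x, hle (by omega) (hφ x y ?_), by abel⟩
    simp [hx]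
  have hs' : LinearMap.range φ' ⊔ (I • ⊤ : Submodule A M) = ⊤ := by
    refine eq_top_iff.2 fun x _ => ?_
    obtain ⟨y, hy⟩ := Submodule.Quotient.mk_surjective _ (e (Submodule.Quotient.mk x))
    refine Submodule.mem_sup.2 ⟨φ' y, ⟨y, rfl⟩, x - φ' y, hle (by omega) (hφ' y x ?_), by abel⟩
    simp [hy]
  have surj : ∀ {P Q : Type u} [AddCommGroup P] [Module A P] [AddCommGroup Q] [Module A Q]
      (f : P →ₗ[A] Q), LinearMap.range f ⊔ (I • ⊤ : Submodule A Q) = ⊤ →
      ∀ n, Function.Surjective (f.reduceModIdeal (I ^ n)) := by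
    intro P Q _ _ _ _ f hf n y
    obtain ⟨y, rfl⟩ := Submodule.Quotient.mk_surjective _ y
    have hy : y ∈ LinearMap.range f ⊔ (I ^ n • ⊤ : Submodule A Q) := by
      rw [ARPair.surj_pow I f hf n]; exact Submodule.mem_top
    obtain ⟨_, ⟨x, rfl⟩, z, hz, rfl⟩ := Submodule.mem_sup.1 hy
    refine ⟨Submodule.Quotient.mk x, ?_⟩
    rw [LinearMap.reduceModIdeal_apply, Submodule.Quotient.eq]
    simpa using hz
  have hbij : ∀ n, Function.Bijective (φ.reduceModIdeal (I ^ n)) := by
    intro n
    refine ⟨?_, surj φ hs n⟩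
    let E := φ'.reduceModIdeal (I ^ n) ∘ₗ φ.reduceModIdeal (I ^ n)
    have hE : Function.Surjective E := (surj φ' hs' n).comp (surj φ hs n)
    have hinj : Function.Injective E := (OrzechProperty.bijective_of_surjective_endomorphism E hE).1
    intro a b hab
    exact hinj (by simp [E, hab])
  refine ⟨LinearEquiv.ofBijective (AdicCompletion.map I φ) ⟨fun a b hab => ?_, fun y => ?_⟩⟩
  · refine AdicCompletion.ext fun n => (hbij n).1 ?_
    rw [← AdicCompletion.map_val_apply, ← AdicCompletion.map_val_apply, hab]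
  · choose x hx using fun n => (hbij n).2 (y.val n)
    refine ⟨⟨x, fun {m n} hmn => (hbij m).1 ?_⟩, AdicCompletion.ext fun n => ?_⟩
    · have := LinearMap.congr_fun
        (AdicCompletion.transitionMap_comp_reduceModIdeal (I := I) φ hmn) (x n)
      simp only [LinearMap.coe_comp, Function.comp_apply, LinearMap.coe_restrictScalars] at this
      rw [hx, ← y.2 hmn, ← hx n]
      exact this.symm
    · rw [AdicCompletion.map_val_apply]
      exact hx n


end Groth.Agent.S7135
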