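import Groth.Statements.S7138
import Groth.Agent.Krasner7.Approx
-- import your own Groth.Agent.* helpers here

set_option autoImplicit false
universe u
open EtAlg

namespace Groth.Agent.S7138

open TensorProduct in
/-- Let A be a discrete valuation ring, K its field of fractions, A^ its completion and K^ the fraction
field of A^. Every finite separable extension M of K^ arises by base change: M ≅ K^ ⊗_K L as
K^-algebras for some finite separable extension L/K. -/
theorem result (A K : Type u) [CommRing A] [IsDomain A]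
    [IsDiscreteValuationRing A] [Field K] [Algebra A K] [IsFractionRing A K]
    (Kh : Type u) [Field Kh] [Algebra (AdicCompletion (IsLocalRing.maximalIdeal A) A) Kh]
    [IsFractionRing (AdicCompletion (IsLocalRing.maximalIdeal A) A) Kh] [Algebra A Kh] [Algebra K Kh]
    [IsScalarTower A (AdicCompletion (IsLocalRing.maximalIdeal A) A) Kh] [IsScalarTower A K Kh]
    (M : Type u) [Field M] [Algebra Kh M] [FiniteDimensional Kh M] [Algebra.IsSeparable Kh M] :
    ∃ (L : Type u) (_ : Field L) (_ : Algebra K L), FiniteDimensional K L ∧ Algebra.IsSeparable K L ∧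
      Nonempty ((Kh ⊗[K] L) ≃ₐ[Kh] M) := by
  classical
  obtain ⟨hdom, hdvr⟩ := (Groth.Agent.S0549.result A).mp ⟨inferInstance, inferInstance⟩
  obtain ⟨t0, ht0⟩ := IsDiscreteValuationRing.exists_irreducible A
  let t : AdicCompletion (IsLocalRing.maximalIdeal A) A := algebraMap A _ t0
  have hmax : IsLocalRing.maximalIdeal (AdicCompletion (IsLocalRing.maximalIdeal A) A) = Ideal.span {t} := by
    refine AdicCompletion.maximalIdeal_eq_map.trans ((congrArg (Ideal.map (algebraMap A _))
      ((IsDiscreteValuationRing.irreducible_iff_uniformizer t0).mp ht0)).trans ?_)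
    rw [Ideal.map_span, Set.image_singleton]
  have ht : Irreducible t := (IsDiscreteValuationRing.irreducible_iff_uniformizer t).mpr hmax
  haveI : IsAdicComplete (Ideal.span {t}) (AdicCompletion (IsLocalRing.maximalIdeal A) A) := by
    rw [← hmax]; infer_instance
  have happ : ∀ (x : AdicCompletion (IsLocalRing.maximalIdeal A) A) (N : ℕ), ∃ a : A, t ^ N ∣ x - algebraMap A _ a := by
    intro x N
    induction N with
    | zero => exact ⟨0, by simp⟩
    | succ N ih =>
      obtain ⟨a, y, hy⟩ := ih
      obtain ⟨b, hb⟩ := Ideal.Quotient.mk_surjective (AdicCompletion.evalOneₐ (IsLocalRing.maximalIdeal A) y)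
      have h1 : y - algebraMap A _ b ∈ Ideal.span {t} := by
        rw [← hmax, AdicCompletion.maximalIdeal_eq_map, ← AdicCompletion.ker_evalOneₐ_eq_map _ (IsNoetherian.noetherian _),
          RingHom.mem_ker, map_sub, sub_eq_zero]
        exact hb.symm.trans (DFunLike.congr_fun (AdicCompletion.evalOneₐ_comp_algebraMap_eq_mk (IsLocalRing.maximalIdeal A)) b).symm
      obtain ⟨z, hz⟩ := Ideal.mem_span_singleton'.mp h1
      refine ⟨a + t0 ^ N * b, z, ?_⟩
      rw [map_add, map_mul, map_pow]
      linear_combination hy - (t ^ N) * hz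
  obtain ⟨P, N, hP, hPg⟩ := Groth.Agent.Krasner7.exists_poly ht Kh M
  choose a ha using fun i => happ (P.coeff i) N
  let g0 : Polynomial A := Polynomial.X ^ P.natDegree + ∑ i ∈ Finset.range P.natDegree, Polynomial.C (a i) * Polynomial.X ^ i
  have hlt : (∑ i ∈ Finset.range P.natDegree, Polynomial.C (a i) * Polynomial.X ^ i).degree < (P.natDegree : WithBot ℕ) := by
    refine lt_of_le_of_lt (Polynomial.degree_sum_le _ _) ((Finset.sup_lt_iff (WithBot.bot_lt_coe _)).mpr fun i hi => ?_)
    exact lt_of_le_of_lt (Polynomial.degree_C_mul_X_pow_le i (a i)) (WithBot.coe_lt_coe.mpr (Finset.mem_range.mp hi))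
  have hg0 : g0.Monic := Polynomial.monic_X_pow_add hlt
  have hg0n : g0.natDegree = P.natDegree := by
    refine Polynomial.natDegree_eq_of_degree_eq_some ?_
    rw [Polynomial.degree_add_eq_left_of_degree_lt (by rwa [Polynomial.degree_X_pow]), Polynomial.degree_X_pow]
  obtain ⟨β, hβ, hgen⟩ := hPg (g0.map (algebraMap A _)) (hg0.map _) (by rw [hg0.natDegree_map, hg0n]) (fun i => by
    rw [Polynomial.coeff_sub, Polynomial.coeff_map]
    rcases lt_trichotomy i P.natDegree with h | rfl | h
    · have : g0.coeff i = a i := by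
        simp [g0, Polynomial.coeff_X_pow, h.ne, Polynomial.finset_sum_coeff, h]
      rw [this, ← neg_sub, dvd_neg]; exact ha i
    · rw [show g0.coeff P.natDegree = 1 from hg0n ▸ hg0.coeff_natDegree, hP.coeff_natDegree]
      simp
    · rw [Polynomial.coeff_eq_zero_of_natDegree_lt (hg0n ▸ h), Polynomial.coeff_eq_zero_of_natDegree_lt h]
      simp)
  let f : Polynomial K := g0.map (algebraMap A K)
  have hf : f.map (algebraMap K Kh) = minpoly Kh β := by
    rw [hβ, Polynomial.map_map, Polynomial.map_map, ← IsScalarTower.algebraMap_eq, ← IsScalarTower.algebraMap_eq]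
  have hβi : IsIntegral Kh β := IsIntegral.of_finite Kh β
  haveI hirr : Fact (Irreducible f) := ⟨(hg0.map _).irreducible_of_irreducible_map (algebraMap K Kh) f
    (hf ▸ minpoly.irreducible hβi)⟩
  have hfsep : f.Separable := by
    rw [← Polynomial.separable_map (algebraMap K Kh), hf]; exact Algebra.IsSeparable.isSeparable Kh β
  let L := AdjoinRoot f
  haveI : FiniteDimensional K L := (hg0.map (algebraMap A K)).finite_adjoinRoot
  have hroot : minpoly K (AdjoinRoot.root f) = f := by
    rw [AdjoinRoot.minpoly_root hirr.out.ne_zero, (hg0.map (algebraMap A K)).leadingCoeff, inv_one, Polynomial.C_1, mul_one]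
  haveI hLsep : Algebra.IsSeparable K L := by
    have h1 : IsSeparable K (AdjoinRoot.root f) := show (minpoly K (AdjoinRoot.root f)).Separable by rw [hroot]; exact hfsep
    haveI h2 := IntermediateField.isSeparable_adjoin_simple_iff_isSeparable K L |>.mpr h1
    have h3 : IntermediateField.adjoin K {AdjoinRoot.root f} = ⊤ :=
      IntermediateField.adjoin_eq_top_of_algebra K _ (AdjoinRoot.adjoinRoot_eq_top)
    rw [h3] at h2
    exact Algebra.IsSeparable.of_algHom K _ (IntermediateField.topEquiv (F := K) (E := L)).symm.toAlgHom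
  letI : Algebra K M := ((algebraMap Kh M).comp (algebraMap K Kh)).toAlgebra
  haveI : IsScalarTower K Kh M := IsScalarTower.of_algebraMap_eq fun _ => rfl
  have hfβ : Polynomial.aeval β f = 0 := by
    rw [← Polynomial.aeval_map_algebraMap Kh β f, hf, minpoly.aeval]
  let φ : L →ₐ[K] M := AdjoinRoot.liftAlgHom f (Algebra.ofId K M) β hfβ
  let Φ : Kh ⊗[K] L →ₐ[Kh] M := Algebra.TensorProduct.lift (Algebra.ofId Kh M) φ fun _ _ => Commute.all _ _
  have hsurj : Function.Surjective Φ := by
    rw [← AlgHom.range_eq_top, eq_top_iff, ← IntermediateField.top_toSubalgebra, ← hgen,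
      IntermediateField.adjoin_simple_toSubalgebra_of_isAlgebraic hβi.isAlgebraic, Algebra.adjoin_le_iff]
    intro z hz
    obtain rfl : z = β := hz
    refine ⟨1 ⊗ₜ AdjoinRoot.root f, ?_⟩
    show Φ (1 ⊗ₜ AdjoinRoot.root f) = z
    rw [show Φ (1 ⊗ₜ AdjoinRoot.root f) = Algebra.ofId Kh M 1 * φ (AdjoinRoot.root f) from Algebra.TensorProduct.lift_tmul _ _ _ _ _, map_one, one_mul]
    exact AdjoinRoot.liftAlgHom_root _ _ _ _
  have hdim : Module.finrank Kh (Kh ⊗[K] L) = Module.finrank Kh M := by
    rw [Module.finrank_baseChange, ← IntermediateField.finrank_top' (F := Kh) (E := M), ← hgen,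
      IntermediateField.adjoin.finrank hβi, ← hf, Polynomial.natDegree_map,
      (AdjoinRoot.powerBasis hirr.out.ne_zero).finrank]
    rfl
  refine ⟨L, inferInstance, inferInstance, inferInstance, hLsep, ⟨AlgEquiv.ofBijective Φ ⟨?_, hsurj⟩⟩⟩
  exact (LinearMap.injective_iff_surjective_of_finrank_eq_finrank (f := Φ.toLinearMap) hdim).mpr hsurj

end Groth.Agent.S7138
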