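import Groth.Statements.S7139
import Groth.Agent.InertiaFixed7.Etale
-- import your own Groth.Agent.* helpers here

set_option autoImplicit false
universe u
open EtAlg

namespace Groth.Agent.S7139

/-- A is a discrete valuation ring, K its field of fractions, and L/K is finite Galois with Galois group
G. Write B for the integral closure of A in L, equipped with the induced G-action, m a maximal ideal
of B and I ⊆ G its inertia group. Denote by B' the integral closure of A inside the fixed field L^I,
with a map to B compatible with L^I ⊆ L. Then the image of B' in B is the ring of invariants B^I,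
and A → B'_{m'} is étale, where m' = m ∩ B'. -/
theorem result (A K L B : Type u) [CommRing A] [IsDomain A]
    [IsDiscreteValuationRing A] [Field K] [Field L] [Algebra A K] [IsFractionRing A K] [Algebra K L]
    [Algebra A L] [IsScalarTower A K L] [FiniteDimensional K L] [IsGalois K L]
    [CommRing B] [Algebra A B] [Algebra B L] [IsScalarTower A B L] [IsIntegralClosure B A L]
    [MulSemiringAction (L ≃ₐ[K] L) B]
    (hact : ∀ (σ : L ≃ₐ[K] L) (b : B), algebraMap B L (σ • b) = σ (algebraMap B L b))
    (m : Ideal B) [m.IsMaximal]
    (B' : Type u) [CommRing B'] [Algebra A B'] [Algebra B' B] [IsScalarTower A B' B] [Algebra B' L]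
    [IsScalarTower B' B L]
    [Algebra B' (IntermediateField.fixedField (m.inertia (L ≃ₐ[K] L)))]
    [IsScalarTower B' (IntermediateField.fixedField (m.inertia (L ≃ₐ[K] L))) L]
    [IsIntegralClosure B' A (IntermediateField.fixedField (m.inertia (L ≃ₐ[K] L)))] :
    (∀ b : B, (∀ σ ∈ m.inertia (L ≃ₐ[K] L), σ • b = b) ↔ b ∈ Set.range (algebraMap B' B)) ∧
      Algebra.Etale A (Localization.AtPrime (m.comap (algebraMap B' B))) := by
  have hiB : Function.Injective (algebraMap B L) := IsIntegralClosure.algebraMap_injective B A L
  haveI : IsDomain B := hiB.isDomain _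
  haveI : Module.Finite A B := IsIntegralClosure.finite A K L B
  haveI : SMulCommClass (L ≃ₐ[K] L) A B := ⟨fun σ a b => hiB (by
    rw [Algebra.smul_def, Algebra.smul_def, map_mul, hact, hact, map_mul, map_mul,
      ← IsScalarTower.algebraMap_apply, IsScalarTower.algebraMap_apply A K L, σ.commutes])⟩
  haveI : Algebra.IsInvariant A B (L ≃ₐ[K] L) := by
    refine ⟨fun b hb => ?_⟩
    obtain ⟨y, hy⟩ := (IsGalois.mem_range_algebraMap_iff_fixed (F := K) (algebraMap B L b)).2
      fun σ => by rw [← hact, hb]
    have hint : IsIntegral A (algebraMap B L b) := (IsIntegralClosure.isIntegral A L b).map (IsScalarTower.toAlgHom A B L)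
    rw [← hy] at hint
    obtain ⟨a, ha⟩ := IsIntegrallyClosed.isIntegral_iff.1 ((isIntegral_algebraMap_iff (algebraMap K L).injective).1 hint)
    exact ⟨a, hiB (by rw [← IsScalarTower.algebraMap_apply, IsScalarTower.algebraMap_apply A K L, ha, hy])⟩
  have hinj : Function.Injective (algebraMap A B) := fun a a' h => by
    have h' := congrArg (algebraMap B L) h
    rw [← IsScalarTower.algebraMap_apply, ← IsScalarTower.algebraMap_apply, IsScalarTower.algebraMap_apply A K L,
      IsScalarTower.algebraMap_apply A K L] at h'
    exact IsFractionRing.injective A K ((algebraMap K L).injective h')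
  let T := IntermediateField.fixedField (m.inertia (L ≃ₐ[K] L))
  haveI : IsScalarTower A T L := IsScalarTower.of_algebraMap_eq fun a => by
    rw [IsScalarTower.algebraMap_apply A K L, IsScalarTower.algebraMap_apply A K T]
    rfl
  have hiB' : Function.Injective (algebraMap B' B) := fun a a' h => by
    have h' := congrArg (algebraMap B L) h
    rw [← IsScalarTower.algebraMap_apply, ← IsScalarTower.algebraMap_apply,
      IsScalarTower.algebraMap_apply B' T L, IsScalarTower.algebraMap_apply B' T L] at h'
    exact IsIntegralClosure.algebraMap_injective B' A T ((algebraMap T L).injective h')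
  have hfix : ∀ x : B', ∀ τ ∈ m.inertia (L ≃ₐ[K] L), τ • algebraMap B' B x = algebraMap B' B x := fun x τ hτ => hiB (by
    rw [hact, ← IsScalarTower.algebraMap_apply, IsScalarTower.algebraMap_apply B' T L]
    exact (algebraMap B' T x).2 ⟨τ, hτ⟩)
  have hrange : ∀ b : B, (∀ σ ∈ m.inertia (L ≃ₐ[K] L), σ • b = b) → b ∈ Set.range (algebraMap B' B) := by
    intro b hb
    have hmem : algebraMap B L b ∈ T := fun σ => by
      show (σ : L ≃ₐ[K] L) (algebraMap B L b) = _
      rw [← hact, hb σ σ.2]
    have hint : IsIntegral A (⟨algebraMap B L b, hmem⟩ : T) :=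
      (isIntegral_algebraMap_iff (algebraMap T L).injective).1 ((IsIntegralClosure.isIntegral A L b).map (IsScalarTower.toAlgHom A B L))
    obtain ⟨y, hy⟩ := (IsIntegralClosure.isIntegral_iff (A := B')).1 hint
    exact ⟨y, hiB (by rw [← IsScalarTower.algebraMap_apply, IsScalarTower.algebraMap_apply B' T L, hy]; rfl)⟩
  refine ⟨fun b => ⟨hrange b, ?_⟩, InertiaFixed7.etale_atPrime hinj hiB'
    (fun p hp hne => hp.isMaximal hne)
    (fun p hp p' hp' => (IsLocalRing.eq_maximalIdeal hp).trans (IsLocalRing.eq_maximalIdeal hp').symm) m hrange hfix⟩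
  rintro ⟨x, rfl⟩ σ hσ
  exact hfix x σ hσ

end Groth.Agent.S7139
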