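import Groth.Statements.S7140
import Mathlib.RingTheory.Polynomial.Cyclotomic.Roots
import Mathlib.RingTheory.Polynomial.Cyclotomic.Eval
import Mathlib.NumberTheory.Wilson
import Mathlib.Data.Nat.Choose.Dvd
import Mathlib.RingTheory.AdjoinRoot
import Mathlib.RingTheory.Polynomial.GaussLemma

set_option autoImplicit false
universe u
open EtAlg

namespace Groth.Agent.S7140


open Polynomial in
/-- The polynomial with coefficients built from `t` and `w` (meant: `t ^ (p - 1) * w = p`). -/
noncomputable def Pol (p : ℕ) {A : Type*} [CommRing A] (t w : A) : A[X] :=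
  X ^ p + ∑ i ∈ Finset.Ioo 0 p, C (((p.choose i / p : ℕ) : A) * w * t ^ (i - 1)) * X ^ i

open Polynomial in
theorem Pol_map (p : ℕ) {A B : Type*} [CommRing A] [CommRing B] (φ : A →+* B) (t w : A) :
    (Pol p t w).map φ = Pol p (φ t) (φ w) := by
  simp [Pol, Polynomial.map_sum]

open Polynomial in
theorem Pol_mul (p : ℕ) (hp : p.Prime) {A : Type*} [CommRing A] (t w : A)
    (hw : t ^ (p - 1) * w = p) :
    C (t ^ p) * Pol p t w = (1 + C t * X) ^ p - 1 := by
  have hsplit : Finset.range (p + 1) = insert p (insert 0 (Finset.Ioo 0 p)) := by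
    ext i; simp only [Finset.mem_range, Finset.mem_insert, Finset.mem_Ioo]; omega
  rw [add_comm (1 : A[X]), add_pow, hsplit, Finset.sum_insert (by simp [hp.pos.ne']),
    Finset.sum_insert (by simp)]
  simp only [Pol, one_pow, mul_one, Nat.choose_self, Nat.cast_one, Nat.choose_zero_right, pow_zero,
    mul_add, Finset.mul_sum, mul_pow, ← C_pow]
  have : ∀ i ∈ Finset.Ioo 0 p, C (t ^ p) * (C (((p.choose i / p : ℕ) : A) * w * t ^ (i - 1)) * X ^ i) =
      C (t ^ i) * X ^ i * ((p.choose i : ℕ) : A[X]) := fun i hi => by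
    simp only [Finset.mem_Ioo] at hi
    have hd : p ∣ p.choose i := hp.dvd_choose_self hi.1.ne' hi.2
    rw [← Polynomial.C_eq_natCast, ← mul_assoc, ← C_mul, mul_right_comm (C (t ^ i)), ← C_mul]
    congr 2
    rw [show ((p.choose i : ℕ) : A) = ((p.choose i / p : ℕ) : A) * (p : A) by
      rw [← Nat.cast_mul, Nat.div_mul_cancel hd], ← hw, show t ^ p = t ^ (p - 1) * t by
      rw [← pow_succ, Nat.sub_add_cancel hp.one_le], show t ^ i = t ^ (i - 1) * t by
      rw [← pow_succ, Nat.sub_add_cancel hi.1]]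
    ring
  rw [Finset.sum_congr rfl this]
  ring

open Polynomial in
/-- Let p be a prime and A a ring with an element ζ satisfying 1 + ζ + ... + ζ^(p-1) = 0 (so that A is
an algebra over the ring of integers of the p-th cyclotomic field); set w = 1 - ζ. Then the
polynomial ((1 + wz)^p - 1)/w^p makes sense in A[z]: there is P in A[z] with w^p·P = (1 + wz)^p - 1,
of the form z^p - z + Σ_{0<i<p} a_i z^i with all a_i in the ideal (w), and P(z₁ + z₂ + w z₁ z₂) =
P(z₁) + P(z₂) + w^p P(z₁)P(z₂) for all z₁, z₂ in any A-algebra. (The published statement asks only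
for a primitive p-th root of unity; this row asks that ζ be a root of the p-th cyclotomic
polynomial, the case its proof treats. With ζ only of multiplicative order p the published statement
fails, for example for ζ = (1, e^{2πi/p}) in ℂ × ℂ.) -/
theorem result (p : ℕ) (hp : p.Prime) (A : Type u) [CommRing A] (ζ : A)
    (hζ : aeval ζ (cyclotomic p ℤ) = 0) :
    ∃ P : A[X], C ((1 - ζ) ^ p) * P = (1 + C (1 - ζ) * X) ^ p - 1 ∧
      (∃ a : ℕ → A, (∀ i, a i ∈ Ideal.span {1 - ζ}) ∧
        P = X ^ p - X + (Finset.Ioo 0 p).sum (fun i => C (a i) * X ^ i)) ∧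
      ∀ (S : Type u) [CommRing S] [Algebra A S] (z₁ z₂ : S),
        aeval (z₁ + z₂ + algebraMap A S (1 - ζ) * z₁ * z₂) P =
          aeval z₁ P + aeval z₂ P + algebraMap A S ((1 - ζ) ^ p) * aeval z₁ P * aeval z₂ P := by
  classical
  have : Fact p.Prime := ⟨hp⟩
  let Φ := cyclotomic p ℤ
  have hΦ : Prime Φ := (cyclotomic.irreducible hp.pos).prime
  let R₀ := AdjoinRoot Φ
  have : IsDomain R₀ := AdjoinRoot.isDomain_of_prime hΦ
  have : CharZero R₀ := charZero_of_injective_ringHom (f := algebraMap ℤ R₀)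
    (AdjoinRoot.of.injective_of_degree_ne_zero (by
      rw [degree_cyclotomic, Nat.totient_prime hp]
      exact_mod_cast (Nat.sub_pos_of_lt hp.one_lt).ne'))
  let φ : R₀ →+* A := AdjoinRoot.lift (Int.castRingHom A) ζ (by rwa [← algebraMap_int_eq, ← aeval_def])
  let z₀ : R₀ := AdjoinRoot.root Φ
  have hz : IsPrimitiveRoot z₀ p := by
    rw [← isRoot_cyclotomic_iff, IsRoot.def, ← map_cyclotomic p (algebraMap ℤ R₀), eval_map]
    exact AdjoinRoot.eval₂_root Φ
  let t : R₀ := 1 - z₀
  have ht : t ≠ 0 := sub_ne_zero.mpr fun e => hp.one_lt.ne' (hz.unique (e ▸ IsPrimitiveRoot.one))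
  have hprim : primitiveRoots p R₀ = (Finset.Ioo 0 p).image fun i => z₀ ^ i := by
    symm
    refine Finset.eq_of_subset_of_card_le (fun x hx => ?_) ?_
    · obtain ⟨i, hi, rfl⟩ := Finset.mem_image.mp hx
      simp only [Finset.mem_Ioo] at hi
      exact (mem_primitiveRoots hp.pos).mpr (hz.pow_of_coprime i
        ((hp.coprime_iff_not_dvd.mpr (Nat.not_dvd_of_pos_of_lt hi.1 hi.2)).symm))
    · rw [hz.card_primitiveRoots, Nat.totient_prime hp, Finset.card_image_of_injOn]
      · simp
      · intro i hi j hj e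
        simp only [Finset.coe_Ioo, Set.mem_Ioo] at hi hj
        exact hz.pow_inj hi.2 hj.2 e
  let g : ℕ → R₀ := fun i => ∑ j ∈ Finset.range i, z₀ ^ j
  let w : R₀ := ∏ i ∈ Finset.Ioo 0 p, g i
  have hw : t ^ (p - 1) * w = (p : R₀) := by
    have h1 := eval_one_cyclotomic_prime (R := R₀) (p := p)
    rw [cyclotomic_eq_prod_X_sub_primitiveRoots hz, hprim, Finset.prod_image (fun i hi j hj e => by
      simp only [Finset.coe_Ioo, Set.mem_Ioo] at hi hj
      exact hz.pow_inj hi.2 hj.2 e), eval_prod] at h1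
    rw [← h1, show p - 1 = (Finset.Ioo 0 p).card by simp, ← Finset.prod_const, ← Finset.prod_mul_distrib]
    refine Finset.prod_congr rfl fun i _ => ?_
    rw [eval_sub, eval_X, eval_C]
    exact mul_neg_geom_sum z₀ i
  have hw1 : w + 1 ∈ Ideal.span {t} := by
    rw [← Ideal.Quotient.eq_zero_iff_mem]
    set q := Ideal.Quotient.mk (Ideal.span {t})
    have hq : q z₀ = 1 := by
      have : q t = 0 := Ideal.Quotient.eq_zero_iff_mem.mpr (Ideal.mem_span_singleton_self t)
      rw [map_sub, map_one, sub_eq_zero] at this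
      exact this.symm
    have hqp : q (p : R₀) = 0 := Ideal.Quotient.eq_zero_iff_mem.mpr (Ideal.mem_span_singleton.mpr
      (hw ▸ (dvd_pow_self t (Nat.sub_pos_of_lt hp.one_lt).ne').mul_right w))
    have hfac : q w = ((Nat.factorial (p - 1) : ℕ) : R₀ ⧸ Ideal.span {t}) := by
      rw [← Finset.prod_Ico_id_eq_factorial, Nat.cast_prod]
      simp only [w, g, map_prod, map_sum, map_pow, hq, one_pow, Finset.sum_const, Finset.card_range,
        nsmul_eq_mul, mul_one]
      refine Finset.prod_congr ?_ fun _ _ => rfl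
      ext i; simp only [Finset.mem_Ioo, Finset.mem_Ico]; omega
    obtain ⟨m, hm⟩ : p ∣ Nat.factorial (p - 1) + 1 := by
      rw [← ZMod.natCast_eq_zero_iff, Nat.cast_add, ZMod.wilsons_lemma, Nat.cast_one, neg_add_cancel]
    rw [map_add, map_one, hfac, ← Nat.cast_add_one, hm, Nat.cast_mul, ← map_natCast q p,
      hqp, zero_mul]
  have hφz : φ z₀ = ζ := AdjoinRoot.lift_root _
  have hφt : φ t = 1 - ζ := by rw [map_sub, map_one, hφz]
  have hwA : (1 - ζ) ^ (p - 1) * φ w = (p : A) := by rw [← hφt, ← map_pow, ← map_mul, hw, map_natCast]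
  refine ⟨Pol p (1 - ζ) (φ w), Pol_mul p hp _ _ hwA, ?_, fun S _ _ z₁ z₂ => ?_⟩
  · refine ⟨fun i => if i = 1 then φ w + 1 else if i = 0 then 0 else
      ((p.choose i / p : ℕ) : A) * φ w * (1 - ζ) ^ (i - 1), fun i => ?_, ?_⟩
    · rw [← hφt]
      beta_reduce
      split_ifs with h1 h0
      · have := Ideal.mem_map_of_mem φ hw1
        rwa [Ideal.map_span, Set.image_singleton, map_add, map_one] at this
      · exact Ideal.zero_mem _
      · exact Ideal.mul_mem_left _ _ (Ideal.pow_mem_of_mem _ (Ideal.mem_span_singleton_self _) _ (by omega))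
    · have h1 : (1 : ℕ) ∈ Finset.Ioo 0 p := by simp [hp.one_lt]
      rw [Pol, ← Finset.add_sum_erase _ _ h1, ← Finset.add_sum_erase _ _ h1]
      simp only [Nat.choose_one_right, Nat.div_self hp.pos, Nat.cast_one, one_mul, Nat.sub_self, pow_zero,
        mul_one, if_true, pow_one]
      rw [Finset.sum_congr rfl (g := fun i => C (((p.choose i / p : ℕ) : A) * φ w * (1 - ζ) ^ (i - 1)) * X ^ i)
        (s₂ := (Finset.Ioo 0 p).erase 1) (f := fun i => C (if i = 1 then φ w + 1 else if i = 0 then 0 else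
          ((p.choose i / p : ℕ) : A) * φ w * (1 - ζ) ^ (i - 1)) * X ^ i) (fun i hi => by
          simp only [Finset.mem_erase, Finset.mem_Ioo] at hi
          rw [if_neg hi.1, if_neg hi.2.1.ne'])]
      rw [map_add C, map_one C]
      ring
  · let Q := MvPolynomial (Fin 2) R₀
    let T : Q := MvPolynomial.C t
    let W : Q := MvPolynomial.C w
    have hWT : T ^ (p - 1) * W = (p : Q) := by
      rw [← map_pow, ← map_mul, hw, map_natCast]
    have hev : ∀ x : Q, T ^ p * (Pol p T W).eval x = (1 + T * x) ^ p - 1 := fun x => by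
      simpa using congrArg (Polynomial.eval x) (Pol_mul p hp T W hWT)
    let x₁ : Q := MvPolynomial.X 0
    let x₂ : Q := MvPolynomial.X 1
    have hid : (Pol p T W).eval (x₁ + x₂ + T * x₁ * x₂) = (Pol p T W).eval x₁ + (Pol p T W).eval x₂
        + T ^ p * (Pol p T W).eval x₁ * (Pol p T W).eval x₂ := by
      have hT : T ≠ 0 := fun e => ht (MvPolynomial.C_injective _ _ (e.trans (map_zero _).symm))
      refine mul_left_cancel₀ (pow_ne_zero p hT) ?_
      rw [hev, show 1 + T * (x₁ + x₂ + T * x₁ * x₂) = (1 + T * x₁) * (1 + T * x₂) by ring, mul_pow,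
        show T ^ p * ((Pol p T W).eval x₁ + (Pol p T W).eval x₂
            + T ^ p * (Pol p T W).eval x₁ * (Pol p T W).eval x₂) =
          T ^ p * (Pol p T W).eval x₁ + T ^ p * (Pol p T W).eval x₂
            + (T ^ p * (Pol p T W).eval x₁) * (T ^ p * (Pol p T W).eval x₂) by ring, hev, hev]
      ring
    let ψ : Q →+* S := MvPolynomial.eval₂Hom ((algebraMap A S).comp φ) ![z₁, z₂]
    have hψC : ∀ r, ψ (MvPolynomial.C r) = algebraMap A S (φ r) := fun r => MvPolynomial.eval₂Hom_C _ _ r
    have hψ : ∀ x : Q, ψ ((Pol p T W).eval x) = aeval (ψ x) (Pol p (1 - ζ) (φ w)) := fun x => by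
      rw [← Polynomial.eval_map_apply, Pol_map, aeval_def, ← eval_map, Pol_map, hψC, hψC, hφt]
    have h := congrArg ψ hid
    simp only [map_add, map_mul, map_pow, hψ] at h
    have h0 : ψ x₁ = z₁ := MvPolynomial.eval₂Hom_X' _ _ 0
    have h1 : ψ x₂ = z₂ := MvPolynomial.eval₂Hom_X' _ _ 1
    rw [show ψ T = algebraMap A S (1 - ζ) from (hψC t).trans (congrArg _ hφt), h0, h1, ← map_pow] at h
    exact h
end Groth.Agent.S7140
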