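import Groth.Statements.S7141
import Groth.Agent.WEtMax7.Basic
-- import your own Groth.Agent.* helpers here

set_option autoImplicit false
universe u
open EtAlg

namespace Groth.Agent.S7141

/-- Let K be a field and, for a K-algebra A, let B_max(A) be its largest weakly étale K-subalgebra. (2)
For a K-subalgebra A' ⊆ A one has B_max(A') = B_max(A) ∩ A'. (4) The quotient map A → A_red =
A/nilradical restricts to a bijection B_max(A) → B_max(A_red). (6) If A ≠ 0 and its only idempotents
are 0 and 1, then B_max(A) is a field, algebraic and separable over K. (The published statement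
omits A ≠ 0; this row assumes it, since for A = 0 the largest weakly étale subalgebra is the zero
ring.) -/
theorem result (K : Type u) [Field K] (A : Type u) [CommRing A] [Algebra K A] :
    (∀ A' : Subalgebra K A,
      (EtAlgD.maxWeaklyEtale K A').map A'.val = EtAlgD.maxWeaklyEtale K A ⊓ A') ∧
    (Set.BijOn (Ideal.Quotient.mkₐ K (nilradical A)) (EtAlgD.maxWeaklyEtale K A)
      (EtAlgD.maxWeaklyEtale K (A ⧸ nilradical A))) ∧
    ((∀ e : A, IsIdempotentElem e → e = 0 ∨ e = 1) → Nontrivial A →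
      IsField (EtAlgD.maxWeaklyEtale K A) ∧ Algebra.IsSeparable K (EtAlgD.maxWeaklyEtale K A)) := by
  classical
  haveI := WEtMax7.weaklyEtale_max (K := K) (A := A)
  haveI : IsReduced (EtAlgD.maxWeaklyEtale K A) :=
    WEtLib.isReduced_of_forall_exists (WEtLib.exists_mul_eq (K := K))
  refine ⟨fun A' => ?_, ⟨fun x hx => ?_, fun x hx y hy hxy => ?_, fun z hz => ?_⟩, fun hid hA => ?_⟩
  · ext x
    simp only [Algebra.mem_inf, Subalgebra.mem_map, WEtMax7.mem_max_iff_hasSep]
    constructor
    · rintro ⟨y, hy, rfl⟩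
      exact ⟨WEtMax7.hasSep_map hy A'.val, y.2⟩
    · rintro ⟨⟨f, hf, hx⟩, hxA⟩
      refine ⟨⟨x, hxA⟩, ⟨f, hf, Subtype.ext ?_⟩, rfl⟩
      rw [← A'.val_apply, ← Polynomial.aeval_algHom_apply]
      exact hx
  · exact WEtMax7.mem_max_iff_hasSep.2 (WEtMax7.hasSep_map (WEtMax7.mem_max_iff_hasSep.1 hx) _)
  · have hn : IsNilpotent (x - y) := by
      rw [← mem_nilradical, ← Ideal.Quotient.eq_zero_iff_mem, map_sub, sub_eq_zero]
      exact hxy
    obtain ⟨n, hn⟩ := hn
    have : ((⟨x, hx⟩ : EtAlgD.maxWeaklyEtale K A) - ⟨y, hy⟩) ^ n = 0 := Subtype.ext hn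
    exact sub_eq_zero.1 (congrArg Subtype.val (IsReduced.eq_zero _ ⟨n, this⟩))
  · obtain ⟨f, hf, hzf⟩ := WEtMax7.mem_max_iff_hasSep.1 hz
    obtain ⟨z, rfl⟩ := Ideal.Quotient.mkₐ_surjective K (nilradical A) z
    rw [Polynomial.aeval_algHom_apply] at hzf
    have h1 : IsNilpotent (Polynomial.aeval z f) := mem_nilradical.1 (Ideal.Quotient.eq_zero_iff_mem.1 hzf)
    have h2 : IsUnit (Polynomial.aeval z (Polynomial.derivative f)) := by
      obtain ⟨a, b, hab⟩ := hf
      have h3 := congrArg (Polynomial.aeval z) hab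
      rw [map_add, map_mul, map_mul, map_one] at h3
      refine isUnit_of_mul_isUnit_right (x := Polynomial.aeval z b) ?_
      rw [eq_sub_of_add_eq' h3]
      exact (Commute.isNilpotent_mul_left (Commute.all _ _) h1).isUnit_one_sub
    obtain ⟨r, ⟨hrn, hr⟩, -⟩ := Polynomial.existsUnique_nilpotent_sub_and_aeval_eq_zero h1 h2
    refine ⟨r, WEtMax7.mem_max_iff_hasSep.2 ⟨f, hf, hr⟩, ?_⟩
    exact (Ideal.Quotient.eq.2 (mem_nilradical.2 hrn)).symm
  · haveI : Nontrivial (EtAlgD.maxWeaklyEtale K A) :=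
      (EtAlgD.maxWeaklyEtale K A).val.toRingHom.domain_nontrivial
    have hF : IsField (EtAlgD.maxWeaklyEtale K A) :=
      WEtLib.isField_of_forall_exists (WEtLib.exists_mul_eq (K := K)) fun e he => by
        rcases hid e.1 (congrArg Subtype.val he) with h | h
        · exact Or.inl (Subtype.ext h)
        · exact Or.inr (Subtype.ext h)
    refine ⟨hF, ⟨fun x => ?_⟩⟩
    obtain ⟨f, hf, hxf⟩ := WEtMax7.hasSep_of_weaklyEtale (K := K) x
    exact Polynomial.Separable.of_dvd hf (minpoly.dvd K x hxf)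

end Groth.Agent.S7141
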