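import Groth.Statements.S7143
import Groth.Agent.WEtLib.Domain
-- import your own Groth.Agent.* helpers here

set_option autoImplicit false
universe u
open CategoryTheory
open EtAlg

namespace Groth.Agent.S7143

/-- Every normal domain A with fraction field K is the fibre product V ×_L K for suitable rings V and L
with maps A → V, V → L, K → L (together with the given A → K), where every ideal of V is flat (weak
dimension at most one) and V → L is flat, injective and an epimorphism of rings. -/
theorem result (A K : Type u) [CommRing A] [IsDomain A] [Field K] [Algebra A K]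
    [IsFractionRing A K] [IsIntegrallyClosed A] :
    ∃ (V L : Type u) (_ : CommRing V) (_ : CommRing L) (f : A →+* V) (g : V →+* L) (h : K →+* L),
      g.comp f = h.comp (algebraMap A K) ∧
      (∀ I : Ideal V, Module.Flat V I) ∧ g.Flat ∧ Function.Injective g ∧ Epi (CommRingCat.ofHom g) ∧
      ∀ (v : V) (k : K), g v = h k → ∃! a : A, f a = v ∧ algebraMap A K a = k := by
  classical
  let ι : Type u := {V : ValuationSubring K // ∀ a : A, algebraMap A K a ∈ V}
  let R : Type u := ∀ V : ι, (V.1 : Type u)
  let f : A →+* R := Pi.ringHom fun V => (algebraMap A K).codRestrict V.1.toSubring V.2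
  have hR : WEtLib.GCDSplit R := WEtLib.gcdSplit_pi (fun V : ι => (V.1 : Type u))
  let M : Submonoid R := (nonZeroDivisors A).map f
  have hM : M ≤ nonZeroDivisors R := by
    rintro _ ⟨a, ha, rfl⟩
    refine mem_nonZeroDivisors_iff_right.2 fun z hz => funext fun V => ?_
    refine (mul_eq_zero.1 (congrFun hz V)).resolve_right fun h => ?_
    exact IsFractionRing.to_map_ne_zero_of_mem_nonZeroDivisors (K := K) ha (congrArg Subtype.val h)
  let L := Localization M
  let g : R →+* L := algebraMap R L
  let h : K →+* L := IsLocalization.lift (M := nonZeroDivisors A) (S := K) (g := g.comp f) fun y =>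
    IsLocalization.map_units L (⟨f y, y.1, y.2, rfl⟩ : M)
  refine ⟨R, L, inferInstance, inferInstance, f, g, h, (IsLocalization.lift_comp _).symm,
    fun I => hR.flat_submodule I, RingHom.flat_algebraMap_iff.2 (IsLocalization.flat L M),
    IsLocalization.injective L hM, IsLocalization.epi M L |> fun e => e,
    fun v k hvk => ?_⟩
  obtain ⟨a, s, hs, rfl⟩ := IsFractionRing.div_surjective (A := A) k
  have hk : h (algebraMap A K a / algebraMap A K s) * g (f s) = g (f a) := by
    have hh : ∀ x : A, h (algebraMap A K x) = g (f x) := fun x => IsLocalization.lift_eq _ x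
    rw [← hh s, ← map_mul, div_mul_cancel₀ _ (IsFractionRing.to_map_ne_zero_of_mem_nonZeroDivisors hs), hh]
  rw [← hvk, ← map_mul] at hk
  have hvs : v * f s = f a := IsLocalization.injective L hM hk
  have hv : ∀ V : ι, ((v V : V.1) : K) = algebraMap A K a / algebraMap A K s := fun V => by
    rw [eq_div_iff (IsFractionRing.to_map_ne_zero_of_mem_nonZeroDivisors hs)]
    exact congrArg Subtype.val (congrFun hvs V)
  have hint : algebraMap A K a / algebraMap A K s ∈ (algebraMap A K).range := by
    by_contra hx
    haveI : IsIntegrallyClosedIn (algebraMap A K).range K := by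
      rw [Subring.isIntegrallyClosedIn_iff]
      intro x hx'
      obtain ⟨p, hp, hpx⟩ := hx'
      obtain ⟨p', hp', -, hpm⟩ := Polynomial.lifts_and_natDegree_eq_and_monic
        ((Polynomial.mem_lifts p).2 (Polynomial.map_surjective _ (algebraMap A K).rangeRestrict_surjective p)) hp
      refine IsIntegrallyClosed.isIntegral_iff.1 ⟨p', hpm, ?_⟩
      rw [← hp', Polynomial.eval₂_map] at hpx
      exact hpx
    obtain ⟨V, hVle, hxV⟩ := Subring.exists_le_valuationSubring_of_isIntegrallyClosedIn hx
    exact hxV (hv ⟨V, fun a => hVle ⟨a, rfl⟩⟩ ▸ (v ⟨V, fun a => hVle ⟨a, rfl⟩⟩).2)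
  obtain ⟨c, hc⟩ := hint
  refine ⟨c, ⟨funext fun V => Subtype.ext ?_, hc⟩, fun c' hc' => IsFractionRing.injective A K (hc'.2.trans hc.symm)⟩
  show algebraMap A K c = _
  rw [hc, hv]

end Groth.Agent.S7143
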