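import Groth.Statements.S7144
-- import your own Groth.Agent.* helpers here

set_option autoImplicit false
universe u
open CAlg

namespace Groth.Agent.S7144

/-- (1) ⇔ (2): let R be a nonzero ring. Then for all a, b in R one of a, b divides the other if and only
if R is local and every finitely generated ideal of R is principal. (The further equivalence with
the total ordering of the set of ideals by inclusion is standard and not restated here.) -/
theorem result (R : Type u) [CommRing R] [Nontrivial R] :
    PreValuationRing R ↔ IsLocalRing R ∧ IsBezout R := by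
  constructor
  · intro h
    have hloc : IsLocalRing R := by
      refine ⟨?_⟩
      intro a b hab
      rcases ValuationRing.dvd_total a b with ⟨c, rfl⟩ | ⟨c, rfl⟩
      · left; exact .of_mul_eq_one (1 + c) (by linear_combination hab)
      · right; exact .of_mul_eq_one (c + 1) (by linear_combination hab)
    refine ⟨hloc, IsBezout.iff_span_pair_isPrincipal.2 fun x y => ?_⟩
    rw [Ideal.span_insert]
    rcases ValuationRing.dvd_total x y with hxy | hxy
    · rw [sup_eq_left.mpr (Ideal.span_singleton_le_span_singleton.2 hxy)]; exact ⟨⟨_, rfl⟩⟩
    · rw [sup_eq_right.mpr (Ideal.span_singleton_le_span_singleton.2 hxy)]; exact ⟨⟨_, rfl⟩⟩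
  · rintro ⟨_, _⟩
    refine PreValuationRing.iff_dvd_total.2 ⟨fun a b => ?_⟩
    obtain ⟨g, e : _ = Ideal.span _⟩ := IsBezout.span_pair_isPrincipal a b
    obtain ⟨a, rfl⟩ := Ideal.mem_span_singleton'.mp
        (show a ∈ Ideal.span {g} by rw [← e]; exact Ideal.subset_span (by simp))
    obtain ⟨b, rfl⟩ := Ideal.mem_span_singleton'.mp
        (show b ∈ Ideal.span {g} by rw [← e]; exact Ideal.subset_span (by simp))
    obtain ⟨x, y, e'⟩ := Ideal.mem_span_pair.mp
        (show g ∈ Ideal.span {a * g, b * g} by rw [e]; exact Ideal.subset_span (by simp))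
    rcases IsLocalRing.isUnit_or_isUnit_of_add_one (a := 1 - (x * a + y * b)) (b := x * a + y * b) (by ring) with hu | hu
    · have : g = 0 := by
        have h0 : (1 - (x * a + y * b)) * g = 0 := by linear_combination -e'
        exact hu.mul_right_eq_zero.1 h0
      simp [this]
    · rcases IsLocalRing.isUnit_or_isUnit_of_isUnit_add hu with h' | h' <;> [left; right]
      all_goals exact mul_dvd_mul_right (isUnit_iff_forall_dvd.mp (isUnit_of_mul_isUnit_right h') _) _


end Groth.Agent.S7144
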