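import Groth.Statements.S7145
import Mathlib

set_option autoImplicit false
universe u
open CategoryTheory CategoryTheory.Limits
open CAlg

namespace Groth.Agent.S7145
universe v
lemma exists_fb {R : Type v} [CommRing R] {F : Type v} [AddCommGroup F] [Module R F] {κ : Type*}
    (e : Module.Basis κ R F) (P : Submodule R F) (hP : P.FG) :
    ∃ T : Finset κ, P ≤ Submodule.span R (e '' T) := by
  classical
  obtain ⟨s, rfl⟩ := hP
  refine ⟨s.biUnion fun x => (e.repr x).support, Submodule.span_le.mpr fun x hx => ?_⟩
  rw [SetLike.mem_coe, Module.Basis.mem_span_image]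
  intro i hi
  exact Finset.mem_coe.mpr (Finset.mem_biUnion.mpr ⟨x, hx, hi⟩)


/-- Let R be a ring and F a cochain complex of free R-modules that is zero in all sufficiently large
degrees. Given finitely many elements f_i of F, f_i lying in degree n_i, there is a subcomplex G of
F (a map of complexes G → F injective in every degree) through which every f_i passes, such that G
is zero outside a finite range of degrees and each term of G is a finitely generated free R-module. -/
theorem result (R : Type u) [CommRing R]
    (F : CochainComplex (ModuleCat.{u} R) ℤ) (hfree : ∀ n : ℤ, Module.Free R (F.X n))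
    (b : ℤ) (hb : ∀ n : ℤ, b < n → IsZero (F.X n))
    (N : ℕ) (deg : Fin N → ℤ) (f : ∀ i : Fin N, F.X (deg i)) :
    ∃ (G : CochainComplex (ModuleCat.{u} R) ℤ) (ι : G ⟶ F),
      (∀ n : ℤ, Function.Injective (ι.f n)) ∧
      (∃ a c : ℤ, ∀ n : ℤ, (n < a ∨ c < n) → IsZero (G.X n)) ∧
      (∀ n : ℤ, Module.Finite R (G.X n) ∧ Module.Free R (G.X n)) ∧
      ∀ i : Fin N, f i ∈ Set.range (ι.f (deg i)) := by
  classical
  have := hfree
  let e := fun n => Module.Free.chooseBasis R (F.X n)
  let a : ℤ := -(∑ i, |deg i|)
  have ha : ∀ i, a ≤ deg i := fun i => by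
    have := Finset.single_le_sum (fun j _ => abs_nonneg (deg j)) (Finset.mem_univ i)
    have := neg_abs_le (deg i)
    simp only [a]; omega
  let Sp : ∀ n, Finset (Module.Free.ChooseBasisIndex R (F.X n)) → Submodule R (F.X n) :=
    fun n T => Submodule.span R (e n '' T)
  have hSpfg : ∀ n T, (Sp n T).FG := fun n T => ⟨T.image (e n), by simp [Sp]⟩
  have key : ∀ k : ℕ, ∃ T : ∀ n, Finset (Module.Free.ChooseBasisIndex R (F.X n)),
      (∀ i, f i ∈ Sp (deg i) (T (deg i))) ∧ (∀ n < a, T n = ∅) ∧
      ∀ n < a + (k : ℤ), ∀ x ∈ Sp n (T n), F.d n (n + 1) x ∈ Sp (n + 1) (T (n + 1)) := by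
    intro k
    induction k with
    | zero =>
      refine ⟨fun n => Finset.univ.biUnion fun i : Fin N =>
        if h : deg i = n then h ▸ ((e (deg i)).repr (f i)).support else ∅, fun i => ?_,
        fun n hn => ?_, fun n hn x hx => ?_⟩
      · simp only [Sp, Module.Basis.mem_span_image]
        intro j hj
        exact Finset.mem_coe.mpr (Finset.mem_biUnion.mpr ⟨i, Finset.mem_univ i, by simpa using hj⟩)
      · refine Finset.eq_empty_of_forall_notMem fun j hj => ?_
        obtain ⟨i, -, hi⟩ := Finset.mem_biUnion.mp hj
        rw [dif_neg (fun h => by have := ha i; omega)] at hi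
        simp at hi
      · have he : (Finset.univ.biUnion fun i : Fin N =>
            if h : deg i = n then h ▸ ((e (deg i)).repr (f i)).support else ∅) = ∅ := by
          refine Finset.eq_empty_of_forall_notMem fun j hj => ?_
          obtain ⟨i, -, hi⟩ := Finset.mem_biUnion.mp hj
          rw [dif_neg (fun h => by have := ha i; simp at hn; omega)] at hi
          simp at hi
        simp only [Sp, he, Finset.coe_empty, Set.image_empty, Submodule.span_empty,
          Submodule.mem_bot] at hx
        rw [hx, map_zero]
        exact zero_mem _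
    | succ k ih =>
      obtain ⟨T, h1, h2, h3⟩ := ih
      obtain ⟨U, hU⟩ := exists_fb (e (a + k + 1))
        ((Sp (a + k) (T (a + k))).map (F.d (a + k) (a + k + 1)).hom) ((hSpfg _ _).map _)
      let T' := Function.update T (a + k + 1) (T (a + k + 1) ∪ U)
      have hmono : ∀ n, Sp n (T n) ≤ Sp n (T' n) := fun n => by
        by_cases h : n = a + k + 1
        · subst h
          simp only [T', Function.update_self, Sp]
          exact Submodule.span_mono (Set.image_mono (by simp))
        · simp only [T', Function.update_of_ne h]; exact le_rfl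
      refine ⟨T', fun i => hmono _ (h1 i), fun n hn => ?_, fun n hn x hx => ?_⟩
      · simp only [T', Function.update_of_ne (show n ≠ a + k + 1 by omega)]
        exact h2 n hn
      · have hne : n ≠ a + k + 1 := by omega
        simp only [T', Function.update_of_ne hne] at hx
        rcases lt_or_eq_of_le (show n ≤ a + k by omega) with hlt | rfl
        · exact hmono _ (h3 n hlt x hx)
        · simp only [T', Function.update_self]
          exact Submodule.span_mono (Set.image_mono (by simp)) (hU ⟨x, hx, rfl⟩)
  obtain ⟨T, h1, h2, h3⟩ := key ((b + 1 - a).toNat)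
  let P : ∀ n, Submodule R (F.X n) := fun n => if n ≤ b then Sp n (T n) else ⊥
  have hzero : ∀ n, b < n → ∀ x : F.X n, x = 0 := fun n hn x =>
    haveI := ModuleCat.subsingleton_of_isZero (hb n hn)
    Subsingleton.elim _ _
  have hd : ∀ i j, ∀ x ∈ P i, (F.d i j).hom x ∈ P j := by
    intro i j x hx
    by_cases hij : i + 1 = j
    · subst hij
      by_cases hjb : i + 1 ≤ b
      · simp only [P, if_pos hjb, if_pos (show i ≤ b by omega)] at hx ⊢
        exact h3 i (by omega) x hx
      · rw [hzero (i + 1) (by omega) ((F.d i (i + 1)).hom x)]; exact zero_mem _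
    · rw [F.shape i j hij]; exact zero_mem _
  let G : CochainComplex (ModuleCat.{u} R) ℤ :=
    { X := fun n => ModuleCat.of R (P n)
      d := fun i j => ModuleCat.ofHom ((F.d i j).hom.restrict (hd i j))
      shape := fun i j h => by
        ext x
        change (F.d i j).hom x.1 = 0
        rw [F.shape i j h]; rfl
      d_comp_d' := fun i j k _ _ => by
        ext x
        change (F.d j k).hom ((F.d i j).hom x.1) = 0
        rw [← LinearMap.comp_apply, ← ModuleCat.hom_comp, F.d_comp_d]; rfl }
  refine ⟨G, { f := fun n => ModuleCat.ofHom (P n).subtype, comm' := fun i j _ => rfl }, ?_,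
    ⟨a, b, fun n hn => ?_⟩, fun n => ?_, fun i => ?_⟩
  · exact fun n => Subtype.val_injective
  · refine @ModuleCat.isZero_of_subsingleton _ _ (G.X n) ?_
    have hP : P n = ⊥ := by
      by_cases hnb : n ≤ b
      · simp only [P, if_pos hnb, Sp, h2 n (by omega), Finset.coe_empty, Set.image_empty,
          Submodule.span_empty]
      · simp only [P, if_neg hnb]
    change Subsingleton (P n)
    rw [hP]; infer_instance
  · change Module.Finite R (P n) ∧ Module.Free R (P n)
    by_cases hnb : n ≤ b
    · have hli : LinearIndependent R (fun i : T n => e n i) :=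
        (e n).linearIndependent.comp _ Subtype.val_injective
      have hPn : P n = Submodule.span R (Set.range fun i : T n => e n i) := by
        simp only [P, if_pos hnb, Sp]
        congr 1; ext; simp
      haveI := Module.Finite.span_of_finite R (Set.finite_range fun i : T n => e n i)
      haveI := Module.Free.of_basis (Module.Basis.span hli)
      exact ⟨Module.Finite.equiv (LinearEquiv.ofEq _ _ hPn.symm),
        Module.Free.of_equiv (LinearEquiv.ofEq _ _ hPn.symm)⟩
    · have hPn : P n = ⊥ := by simp only [P, if_neg hnb]
      exact ⟨Module.Finite.equiv (LinearEquiv.ofEq _ _ hPn.symm),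
        Module.Free.of_equiv (LinearEquiv.ofEq _ _ hPn.symm)⟩
  · refine ⟨⟨f i, ?_⟩, rfl⟩
    change f i ∈ P (deg i)
    by_cases hnb : deg i ≤ b
    · simp only [P, if_pos hnb]; exact h1 i
    · rw [hzero _ (by omega) (f i)]; exact zero_mem _


end Groth.Agent.S7145
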