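import Groth.Statements.S7146
import Mathlib

set_option autoImplicit false
universe u
open Filter
open CAlg

namespace Groth.Agent.S7146
open Filter in
theorem tendsto_shift (d : ℕ) : Tendsto (fun n : ℕ => (((n + 1 + d : ℕ) : ℝ) / ((n + 1 : ℕ) : ℝ)) ^ d) atTop (nhds 1) := by
  have h1 : Tendsto (fun n : ℕ => ((n + 1 + d : ℕ) : ℝ) / ((n + 1 : ℕ) : ℝ)) atTop (nhds 1) := by
    have h2 : Tendsto (fun n : ℕ => 1 + (d : ℝ) / ((n + 1 : ℕ) : ℝ)) atTop (nhds (1 + 0)) :=
      tendsto_const_nhds.add ((tendsto_const_div_atTop_nhds_zero_nat (d : ℝ)).comp (tendsto_add_atTop_nat 1))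
    rw [add_zero] at h2
    refine h2.congr fun n => ?_
    have : ((n + 1 : ℕ) : ℝ) ≠ 0 := by positivity
    push_cast at this ⊢
    field_simp
  simpa using h1.pow d

theorem length_le_multichoose {R : Type u} [CommRing R] {d : ℕ} (g : Fin d → R) (n : ℕ) :
    Module.length R (R ⧸ Ideal.span (Set.range g) ^ (n + 1)) ≤
      (Nat.multichoose (d + 1) n : ℕ∞) * Module.length R (R ⧸ Ideal.span (Set.range g)) := by
  classical
  set I := Ideal.span (Set.range g) with hI
  induction n with
  | zero => rw [zero_add, pow_one, Nat.multichoose_zero_right, Nat.cast_one, one_mul]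
  | succ n ih =>
    let J := I ^ (n + 2)
    let q : (R ⧸ J) →ₗ[R] R ⧸ I ^ (n + 1) := Submodule.factor (Ideal.pow_le_pow_right (by omega))
    let mon : Sym (Fin d) (n + 1) → R := fun s => ((s : Multiset (Fin d)).map g).prod
    have hmon : ∀ s, mon s ∈ I ^ (n + 1) := fun s => by
      have h1 : ∀ m : Multiset (Fin d), (m.map g).prod ∈ I ^ m.card := fun m => by
        induction m using Multiset.induction with
        | empty => simp
        | cons a m hm =>
          rw [Multiset.map_cons, Multiset.prod_cons, Multiset.card_cons, pow_succ']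
          exact Ideal.mul_mem_mul (Ideal.subset_span ⟨a, rfl⟩) hm
      have := h1 (s : Multiset (Fin d))
      exact s.2 ▸ this
    let φs : Sym (Fin d) (n + 1) → ((R ⧸ I) →ₗ[R] R ⧸ J) := fun s =>
      Submodule.mapQ I J (LinearMap.mulRight R (mon s)) fun x hx => by
        show x * mon s ∈ J
        rw [show J = I * I ^ (n + 1) from pow_succ' I (n + 1)]
        exact Ideal.mul_mem_mul hx (hmon s)
    let φ : (Sym (Fin d) (n + 1) → R ⧸ I) →ₗ[R] R ⧸ J := ∑ s, φs s ∘ₗ LinearMap.proj s
    have hex : LinearMap.ker q ≤ LinearMap.range φ := by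
      intro x hx
      obtain ⟨x, rfl⟩ := Submodule.Quotient.mk_surjective J x
      have hx' : x ∈ I ^ (n + 1) := (Submodule.Quotient.mk_eq_zero _).1 hx
      have hle : I ^ (n + 1) ≤ (LinearMap.range φ).comap J.mkQ := by
        have hgen : ∀ m : ℕ, I ^ m ≤ Submodule.span R
            (Set.range fun s : Sym (Fin d) m => ((s : Multiset (Fin d)).map g).prod) := by
          intro m
          induction m with
          | zero =>
            rw [pow_zero, Ideal.one_eq_top, top_le_iff, Ideal.eq_top_iff_one]
            exact Submodule.subset_span ⟨Sym.nil, by simp⟩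
          | succ m hm =>
            rw [pow_succ]
            refine (Ideal.mul_mono hm le_rfl).trans ?_
            rw [hI, Ideal.span, Submodule.span_mul_span, Submodule.span_le]
            rintro _ ⟨_, ⟨s, rfl⟩, _, ⟨a, rfl⟩, rfl⟩
            exact Submodule.subset_span ⟨a ::ₛ s, by
              show (Multiset.map g (Sym.cons a s : Sym (Fin d) (m + 1)).toMultiset).prod = _
              rw [Sym.coe_cons, Multiset.map_cons, Multiset.prod_cons]
              exact mul_comm _ _⟩
        refine (hgen _).trans (Submodule.span_le.2 ?_)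
        rintro _ ⟨s, rfl⟩
        refine ⟨Pi.single s (Submodule.Quotient.mk 1), ?_⟩
        rw [LinearMap.sum_apply, Finset.sum_eq_single s]
        · simp only [LinearMap.comp_apply, LinearMap.proj_apply, Pi.single_eq_same]
          show Submodule.Quotient.mk (1 * mon s) = Submodule.Quotient.mk _
          rw [one_mul]
        · intro t _ ht
          simp [Pi.single_eq_of_ne ht]
        · simp
      exact hle hx'
    have hq : Function.Surjective q := Submodule.factor_surjective _
    rw [Module.length_eq_add_of_exact (LinearMap.ker q).subtype q (Submodule.subtype_injective _) hq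
      (LinearMap.exact_subtype_ker_map q), Nat.multichoose_succ_succ, Nat.cast_add, add_mul]
    refine add_le_add ?_ ih
    refine ((Module.length_le_of_injective (Submodule.inclusion hex)
      (Submodule.inclusion_injective hex)).trans
      (Module.length_le_of_surjective φ.rangeRestrict φ.surjective_rangeRestrict)).trans ?_
    rw [Module.length_pi_of_fintype, Finset.sum_const, nsmul_eq_mul, Finset.card_univ,
      Sym.card_sym_eq_multichoose, Fintype.card_fin]



/-- Let R be a Noetherian local ring of Krull dimension d and I the ideal generated by a system of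
parameters g_1, ..., g_d (d elements of the maximal ideal generating an ideal with radical the
maximal ideal); let e_I be the multiplicity of I, i.e. d! times the top coefficient of the numerical
polynomial n ↦ length(R/I^(n+1)), equivalently the limit of d!·length(R/Iⁿ)/n^d. Then e_I ≤
length(R/I). (Stated for a natural number e equal to that limit.) -/
theorem result (R : Type u) [CommRing R] [IsNoetherianRing R] [IsLocalRing R]
    (d : ℕ) (hd : ringKrullDim R = d) (g : Fin d → R) (hg : ∀ i, g i ∈ IsLocalRing.maximalIdeal R)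
    (hsop : IsLocalRing.maximalIdeal R ≤ (Ideal.span (Set.range g)).radical) (e : ℕ)
    (he : Tendsto (fun n : ℕ => (d.factorial : ℝ) * ((Module.length R (R ⧸ Ideal.span (Set.range g) ^ n)).toNat : ℝ) / (n : ℝ) ^ d)
      atTop (nhds (e : ℝ))) :
    (e : ℕ∞) ≤ Module.length R (R ⧸ Ideal.span (Set.range g)) := by
  by_cases htop : Module.length R (R ⧸ Ideal.span (Set.range g)) = ⊤
  · rw [htop]; exact le_top
  obtain ⟨l, hl⟩ := WithTop.ne_top_iff_exists.1 htop
  rw [← hl]
  have hlR : (e : ℝ) ≤ l := by
    refine le_of_tendsto_of_tendsto (he.comp (Filter.tendsto_add_atTop_nat 1))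
      (by simpa using (tendsto_shift d).mul_const (l : ℝ)) (Filter.Eventually.of_forall fun n => ?_)
    have h1 := length_le_multichoose g n
    rw [← hl] at h1
    have hfin : Module.length R (R ⧸ Ideal.span (Set.range g) ^ (n + 1)) ≠ ⊤ :=
      ne_top_of_le_ne_top (ENat.coe_ne_top (Nat.multichoose (d + 1) n * l))
        (le_of_le_of_eq h1 (Nat.cast_mul _ _).symm)
    obtain ⟨a, ha⟩ := WithTop.ne_top_iff_exists.1 hfin
    have h2 : a ≤ Nat.multichoose (d + 1) n * l := by
      have h3 : (a : ℕ∞) ≤ ((Nat.multichoose (d + 1) n * l : ℕ) : ℕ∞) := by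
        rw [Nat.cast_mul]; exact le_of_eq_of_le ha h1
      exact_mod_cast h3
    have h4 : d.factorial * Nat.multichoose (d + 1) n ≤ (n + 1 + d) ^ d := by
      rw [Nat.multichoose_eq, show d + 1 + n - 1 = d + n by omega, ← Nat.choose_symm_add,
        ← Nat.descFactorial_eq_factorial_mul_choose]
      exact (Nat.descFactorial_le_pow _ _).trans (Nat.pow_le_pow_left (by omega) d)
    have h5 : d.factorial * a ≤ (n + 1 + d) ^ d * l :=
      (Nat.mul_le_mul_left _ h2).trans (by rw [← mul_assoc]; exact Nat.mul_le_mul_right _ h4)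
    simp only [Function.comp_apply]
    rw [← ha]
    show (d.factorial : ℝ) * (a : ℝ) / _ ≤ _
    rw [div_pow, div_mul_eq_mul_div]
    push_cast
    rw [div_le_div_iff_of_pos_right (show (0 : ℝ) < ((n : ℝ) + 1) ^ d by positivity)]
    exact_mod_cast h5
  exact ENat.coe_le_coe.2 (Nat.cast_le.1 hlR)


end Groth.Agent.S7146
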