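import Groth.Statements.S7147
import Groth.Agent.SerreSplit.Pairing

set_option autoImplicit false
universe u
open CAlg

namespace Groth.Agent.S7147

/-- Let R be a ring, M a finitely presented R-module and x a maximal ideal of R with residue field κ(x);
write M(x) = M/xM and let B(x) ⊆ M(x) be the orthogonal of the image of Hom_R(M, R) in the dual of
M(x), i.e. the classes of those m in M with φ(m) in x for every linear form φ on M, and V(x) =
M(x)/B(x). For s_1, ..., s_r in M the following are equivalent: (1) there is f in R, f not in x,
such that the map R_f^r → M_f given by the s_i is the inclusion of a direct summand; (2) the images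
of s_1, ..., s_r in V(x) are linearly independent over κ(x). -/
theorem result (R : Type u) [CommRing R] (M : Type u)
    [AddCommGroup M] [Module R M] [Module.FinitePresentation R M] (x : Ideal R) [x.IsMaximal]
    (r : ℕ) (s : Fin r → M) :
    let Mx := M ⧸ (x • ⊤ : Submodule R M)
    let Bx : Submodule (R ⧸ x) Mx :=
      Submodule.span (R ⧸ x) ((x • ⊤ : Submodule R M).mkQ '' {m : M | ∀ φ : M →ₗ[R] R, φ m ∈ x})
    (∃ f : R, f ∉ x ∧
      ∃ g : LocalizedModule (Submonoid.powers f) M →ₗ[Localization.Away f] (Fin r → Localization.Away f),
        g ∘ₗ Fintype.linearCombination (Localization.Away f)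
            (fun i => LocalizedModule.mkLinearMap (Submonoid.powers f) M (s i)) = LinearMap.id) ↔
    LinearIndependent (R ⧸ x) (fun i => Bx.mkQ ((x • ⊤ : Submodule R M).mkQ (s i))) := by
  intro Mx Bx
  classical
  refine Iff.trans ?_ (SerreSplit.linearIndependent_iff_indep x s).symm
  constructor
  · rintro ⟨f, hf, g, hg⟩
    have hS : Submonoid.powers f ≤ x.primeCompl :=
      Submonoid.powers_le.2 hf
    let ψ : Fin r → M →ₗ[R] Localization.Away f := fun j =>
      ((LinearMap.proj j).comp g).restrictScalars R ∘ₗ
        LocalizedModule.mkLinearMap (Submonoid.powers f) M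
    obtain ⟨φ, hφ⟩ := SerreSplit.exists_det_of_localized (Submonoid.powers f) x hS s ψ (fun _ => 1)
      (fun i j => by
        have h1 := LinearMap.congr_fun hg (Pi.single i 1)
        simp only [LinearMap.coe_comp, Function.comp_apply,
          Fintype.linearCombination_apply_single, one_smul, LinearMap.id_coe, id_eq] at h1
        show g (LocalizedModule.mkLinearMap (Submonoid.powers f) M (s i)) j = _
        rw [h1]
        simp [Pi.single_apply, eq_comm])
    exact SerreSplit.indep_of_det φ hφ
  · intro hind
    obtain ⟨φ, hφ⟩ := hind.exists_det
    let A : Matrix (Fin r) (Fin r) R := Matrix.of fun i j => φ j (s i)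
    refine ⟨A.det, hφ, ?_⟩
    let Af := Localization.Away A.det
    let Φ : LocalizedModule (Submonoid.powers A.det) M →ₗ[Af] (Fin r → Af) :=
      LinearMap.pi fun j => LinearMap.extendScalarsOfIsLocalization (Submonoid.powers A.det) Af
        (IsLocalizedModule.map (Submonoid.powers A.det)
          (LocalizedModule.mkLinearMap (Submonoid.powers A.det) M) (Algebra.linearMap R Af) (φ j))
    let B : Matrix (Fin r) (Fin r) Af := (algebraMap R Af).mapMatrix A
    have hB : IsUnit B.det := by
      rw [← RingHom.map_det]
      exact IsLocalization.Away.algebraMap_isUnit A.det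
    refine ⟨(B⁻¹.vecMulLinear).comp Φ, ?_⟩
    apply LinearMap.pi_ext'
    intro i
    apply LinearMap.ext_ring
    simp only [LinearMap.coe_comp, Function.comp_apply, LinearMap.single_apply,
      Fintype.linearCombination_apply_single, one_smul, LinearMap.id_coe, id_eq,
      Matrix.vecMulLinear_apply]
    have h1 : Φ (LocalizedModule.mkLinearMap (Submonoid.powers A.det) M (s i)) =
        Matrix.vecMul (Pi.single i 1) B := by
      ext j
      simp only [Φ, LinearMap.pi_apply, LinearMap.extendScalarsOfIsLocalization_apply',
        IsLocalizedModule.map_apply, Algebra.linearMap_apply, Matrix.single_one_vecMul]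
      rfl
    rw [h1, Matrix.vecMul_vecMul, Matrix.mul_nonsing_inv _ hB, Matrix.vecMul_one]


end Groth.Agent.S7147
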