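import Groth.Statements.S7148
import Mathlib

set_option autoImplicit false
universe u
open CategoryTheory
attribute [local instance] HasDerivedCategory.standard
open CAlg

namespace Groth.Agent.S7148
open Abelian in
theorem factors (A : Type u) [CommRing A] [IsNoetherianRing A] (I : Ideal A)
    (N : Type u) [AddCommGroup N] [Module A N] (p : ℕ) :
    ∀ (M : Type u) [AddCommGroup M] [Module A M] [Module.Finite A M],
    ∃ c : ℕ, ∀ n m : ℕ, m + c ≤ n → ∀ e : Ext (ModuleCat.of A M) (ModuleCat.of A N) p,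
      ∃ e' : Ext (ModuleCat.of A ↥(I ^ n • ⊤ : Submodule A M))
          (ModuleCat.of A ↥(I ^ m • ⊤ : Submodule A N)) p,
        e'.comp (Ext.mk₀ (ModuleCat.ofHom (I ^ m • ⊤ : Submodule A N).subtype)) (add_zero p) =
          (Ext.mk₀ (ModuleCat.ofHom (I ^ n • ⊤ : Submodule A M).subtype)).comp e (zero_add p) := by
  induction p with
  | zero =>
    intro M _ _ _
    refine ⟨0, fun n m hm e => ?_⟩
    obtain ⟨f, rfl⟩ := Ext.homEquiv₀.symm.surjective e
    have hmem : ∀ x : ↥(I ^ n • ⊤ : Submodule A M), f.hom x.1 ∈ (I ^ m • ⊤ : Submodule A N) := by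
      intro x
      have h1 := Submodule.mem_map_of_mem (f := f.hom) x.2
      rw [Submodule.map_smul''] at h1
      exact Submodule.smul_mono (Ideal.pow_le_pow_right (by omega)) le_top h1
    refine ⟨Ext.mk₀ (ModuleCat.ofHom (LinearMap.codRestrict _
      (f.hom ∘ₗ (I ^ n • ⊤ : Submodule A M).subtype) hmem)), ?_⟩
    rw [Ext.homEquiv₀_symm_apply, Ext.mk₀_comp_mk₀, Ext.mk₀_comp_mk₀]
    rfl
  | succ p ih =>
    intro M _ _ _
    obtain ⟨k, π, hπ⟩ := Module.Finite.exists_fin' A M
    let K := LinearMap.ker π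
    let S : ShortComplex (ModuleCat.{u} A) := ShortComplex.mk (ModuleCat.ofHom K.subtype)
      (ModuleCat.ofHom π) (by ext x; exact x.2)
    have hS : S.ShortExact :=
      { exact := (ShortComplex.ShortExact.moduleCat_exact_iff_function_exact S).2
          (fun x => ⟨fun h => ⟨⟨x, h⟩, rfl⟩, fun ⟨y, hy⟩ => hy ▸ y.2⟩)
        mono_f := (ModuleCat.mono_iff_injective _).2 K.injective_subtype
        epi_g := (ModuleCat.epi_iff_surjective _).2 hπ }
    have : Projective S.X₂ :=
      (IsProjective.iff_projective (R := A) (Fin k → A)).1 inferInstance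
    obtain ⟨c₁, hc₁⟩ := Ideal.exists_pow_inf_eq_pow_smul I K
    obtain ⟨c₂, hc₂⟩ := ih K
    refine ⟨c₁ + c₂, fun n m hm e => ?_⟩
    obtain ⟨e₁, rfl⟩ := Ext.contravariant_sequence_exact₃ hS (ModuleCat.of A N) e
      (Ext.eq_zero_of_projective _) (n₀ := p) (by omega)
    let F' : Submodule A (Fin k → A) := I ^ n • ⊤
    let M' : Submodule A M := I ^ n • ⊤
    have hF : F'.map π = M' := by
      rw [Submodule.map_smul'', Submodule.map_top, LinearMap.range_eq_top.2 hπ]
    let π' : F' →ₗ[A] M' := π.restrict fun x hx => hF ▸ Submodule.mem_map_of_mem hx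
    have hπ' : Function.Surjective π' := by
      intro y
      obtain ⟨x, hx, hxy⟩ := Submodule.mem_map.mp (hF.symm ▸ y.2 : (y : M) ∈ F'.map π)
      exact ⟨⟨x, hx⟩, Subtype.ext hxy⟩
    let K' : Submodule A (Fin k → A) := F' ⊓ K
    let S' : ShortComplex (ModuleCat.{u} A) := ShortComplex.mk
      (ModuleCat.ofHom (Submodule.inclusion (inf_le_left : K' ≤ F')))
      (ModuleCat.ofHom π') (by ext x; exact x.2.2)
    have hS' : S'.ShortExact :=
      { exact := (ShortComplex.ShortExact.moduleCat_exact_iff_function_exact S').2 (by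
          intro (x : F')
          constructor
          · intro (h : π' x = 0)
            have h0 : π x.1 = 0 := congrArg Subtype.val h
            exact ⟨(⟨x.1, x.2, h0⟩ : K'), rfl⟩
          · rintro ⟨y, rfl⟩
            exact Subtype.ext (y : K').2.2)
        mono_f := (ModuleCat.mono_iff_injective _).2 (Submodule.inclusion_injective (inf_le_left : K' ≤ F'))
        epi_g := (ModuleCat.epi_iff_surjective _).2 hπ' }
    let φ : S' ⟶ S :=
      { τ₁ := ModuleCat.ofHom (Submodule.inclusion (inf_le_right : K' ≤ K))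
        τ₂ := ModuleCat.ofHom F'.subtype
        τ₃ := ModuleCat.ofHom M'.subtype
        comm₁₂ := rfl
        comm₂₃ := rfl }
    let K'' : Submodule A K := I ^ (n - c₁) • ⊤
    have hj : ∀ x : K', (⟨x.1, x.2.2⟩ : K) ∈ K'' := by
      intro x
      have h1 : x.1 ∈ I ^ (n - c₁) • (I ^ c₁ • ⊤ ⊓ K) := by
        rw [← hc₁ n (by omega)]; exact x.2
      exact (Submodule.mem_smul_top_iff _ K _).mpr (Submodule.smul_mono le_rfl inf_le_right h1)
    let j : K' →ₗ[A] K'' := LinearMap.codRestrict K'' (Submodule.inclusion inf_le_right) hj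
    obtain ⟨e₁', he₁'⟩ := hc₂ (n - c₁) m (by omega) e₁
    let j' := ModuleCat.ofHom (X := K') (Y := K'') j
    let ι'' := ModuleCat.ofHom (X := K'') (Y := K) K''.subtype
    refine ⟨hS'.extClass.comp ((Ext.mk₀ j').comp e₁' (zero_add p)) (by omega), ?_⟩
    have hnat := ShortComplex.ShortExact.extClass_naturality hS' hS φ
    have hτ : φ.τ₁ = j' ≫ ι'' := by
      ext x; rfl
    change _ = (Ext.mk₀ φ.τ₃).comp (hS.extClass.comp e₁ _) _
    rw [← Ext.comp_assoc (Ext.mk₀ φ.τ₃) hS.extClass e₁ (zero_add 1) (by omega) (by omega), ← hnat,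
      Ext.comp_assoc hS'.extClass (Ext.mk₀ φ.τ₁) e₁ (add_zero 1) (zero_add p) (by omega), hτ,
      ← Ext.mk₀_comp_mk₀, Ext.comp_assoc (Ext.mk₀ j') (Ext.mk₀ ι'') e₁ (zero_add 0)
        (zero_add p) (by omega), ← he₁',
      Ext.comp_assoc hS'.extClass _ _ (by omega) (add_zero p) (by omega),
      Ext.comp_assoc (Ext.mk₀ j') e₁' _ (zero_add p) (add_zero p) (by omega)]


/-- Let A be a Noetherian ring, I an ideal, M a finite A-module and N any A-module. For every p > 0
there is c ≥ 0 such that for all n ≥ c the map Ext^p_A(M, N) → Ext^p_A(IⁿM, N) factors through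
Ext^p_A(IⁿM, I^(n-c)N) → Ext^p_A(IⁿM, N). Here Ext^p(X, Y) is the group of morphisms X → Y[p] in
D(A). -/
theorem result (A : Type u) [CommRing A] [IsNoetherianRing A] (I : Ideal A)
    (M N : Type u) [AddCommGroup M] [Module A M] [Module.Finite A M] [AddCommGroup N] [Module A N]
    (p : ℕ) (hp : 0 < p) :
    ∃ c : ℕ, ∀ n : ℕ, c ≤ n →
      ∀ e : Dual.inD A M ⟶ (Dual.inD A N)⟦(p : ℤ)⟧,
        ∃ e' : Dual.inD A ↥(I ^ n • ⊤ : Submodule A M) ⟶ (Dual.inD A ↥(I ^ (n - c) • ⊤ : Submodule A N))⟦(p : ℤ)⟧,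
          e' ≫ ((DerivedCategory.singleFunctor (ModuleCat.{u} A) 0).map
                  (ModuleCat.ofHom (I ^ (n - c) • ⊤ : Submodule A N).subtype))⟦(p : ℤ)⟧' =
            (DerivedCategory.singleFunctor (ModuleCat.{u} A) 0).map
                (ModuleCat.ofHom (I ^ n • ⊤ : Submodule A M).subtype) ≫ e := by
  obtain ⟨c, hc⟩ := factors A I N p M
  refine ⟨c, fun n hn e => ?_⟩
  let E : CategoryTheory.Abelian.Ext (ModuleCat.of A M) (ModuleCat.of A N) p :=
    CategoryTheory.Abelian.Ext.homEquiv.symm e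
  obtain ⟨e', he'⟩ := hc n (n - c) (by omega) E
  refine ⟨e'.hom, ?_⟩
  have h1 := congrArg CategoryTheory.Abelian.Ext.hom he'
  rw [CategoryTheory.Abelian.Ext.comp_hom, CategoryTheory.Abelian.Ext.comp_hom,
    CategoryTheory.Abelian.Ext.mk₀_hom, CategoryTheory.Abelian.Ext.mk₀_hom,
    ShiftedHom.comp_mk₀, ShiftedHom.mk₀_comp] at h1
  rw [show E.hom = e from Equiv.apply_symm_apply _ _] at h1
  exact h1


end Groth.Agent.S7148
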