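import Groth.Statements.S7149
import Groth.Agent.PcExt.ArtinRees

set_option autoImplicit false
universe u
open CategoryTheory
attribute [local instance] HasDerivedCategory.standard
open CAlg

namespace Groth.Agent.S7149

/-- Let A be a Noetherian ring, I an ideal, K a pseudo-coherent object of D(A) and M a finite A-module.
For each integer p there is c such that for all n ≥ c the image of Ext^p_A(K, IⁿM) → Ext^p_A(K, M)
is contained in I^(n-c)·Ext^p_A(K, M); here Ext^p(K, X) = Hom_{D(A)}(K, X[p]) with its natural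
A-module structure. -/
theorem result (A : Type u) [CommRing A] [IsNoetherianRing A] (I : Ideal A)
    (K : Dual.D A) (hK : DRing.IsPseudoCoherent' A K) (M : Type u) [AddCommGroup M] [Module A M] [Module.Finite A M]
    (p : ℤ) :
    ∃ c : ℕ, ∀ n : ℕ, c ≤ n →
      ∀ e : K ⟶ (Dual.inD A ↥(I ^ n • ⊤ : Submodule A M))⟦p⟧,
        e ≫ ((DerivedCategory.singleFunctor (ModuleCat.{u} A) 0).map
              (ModuleCat.ofHom (I ^ n • ⊤ : Submodule A M).subtype))⟦p⟧' ∈
          (I ^ (n - c) • ⊤ : Submodule A (K ⟶ (Dual.inD A M)⟦p⟧)) := by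
  obtain ⟨E, b, hb, hE, ⟨α⟩⟩ := hK
  have := Groth.Agent.PcExt.isKProjective_of_termwiseFiniteFree E b hb hE
  obtain ⟨q, hq⟩ : ∃ q : ℤ, q + p = 0 := ⟨-p, by omega⟩
  obtain ⟨c, hc⟩ := Groth.Agent.PcExt.exists_classMap_mem E M hE I hq
  refine ⟨c, fun n hn e => ?_⟩
  obtain ⟨f, hf, hfe⟩ := Groth.Agent.PcExt.homOfCocycle_surjective E hq (q - 1) (by omega) (α.hom ≫ e)
  let N : Submodule A M := I ^ n • ⊤
  let φ : Groth.Agent.PcExt.cocycles E M q := ⟨N.subtype ∘ₗ f.hom,
    (Groth.Agent.PcExt.mem_cocycles E M).mpr (by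
      rw [show ModuleCat.ofHom (N.subtype ∘ₗ f.hom) = f ≫ ModuleCat.ofHom N.subtype from rfl,
        ← Category.assoc, hf, Limits.zero_comp])⟩
  have h := hc n hn φ fun x => (f.hom x).2
  have h1 := Submodule.mem_map_of_mem
    (f := Linear.leftComp A ((Dual.inD A M)⟦p⟧) α.inv) h
  rw [Submodule.map_smul''] at h1
  have h2 := Submodule.smul_mono (le_refl _) le_top h1
  convert h2 using 1
  change _ = α.inv ≫ Groth.Agent.PcExt.homOfCocycle E hq (f ≫ ModuleCat.ofHom N.subtype) (q - 1) _ _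
  rw [← Groth.Agent.PcExt.homOfCocycle_comp E hq f (q - 1) (by omega) hf, hfe, Category.assoc,
    Iso.inv_hom_id_assoc]


end Groth.Agent.S7149
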