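import Groth.Statements.S7150
import Mathlib
import Groth.Agent.CoeffField.Smooth
import Groth.Agent.CoeffField.AdicSmooth
import Groth.Agent.S2452
-- import your own Groth.Agent.* helpers here

set_option autoImplicit false
universe u
open EtAlg

namespace Groth.Agent.S7150

/-- Suppose p is a prime with p·1 = 0 in the local ring A and some power of the maximal ideal of A is
zero. Then the residue map A → κ_A has a section σ : κ_A → A that is a ring map. If moreover A → A'
is a local homomorphism to another local ring whose maximal ideal has a vanishing power, and the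
residue field extension κ_{A'}/κ_A is separable (possibly transcendental, i.e. geometrically
reduced), then for any such σ there is a section σ' : κ_{A'} → A' compatible with σ. -/
theorem result (p : ℕ) (hp : p.Prime) (A : Type u) [CommRing A]
    [IsLocalRing A] [CharP A p] (hnil : ∃ n : ℕ, IsLocalRing.maximalIdeal A ^ n = ⊥) :
    (∃ σ : IsLocalRing.ResidueField A →+* A, (IsLocalRing.residue A).comp σ = RingHom.id _) ∧
    ∀ (A' : Type u) [CommRing A'] [IsLocalRing A'] [Algebra A A'] [IsLocalHom (algebraMap A A')],
      (∃ n : ℕ, IsLocalRing.maximalIdeal A' ^ n = ⊥) →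
      Algebra.IsGeometricallyReduced (IsLocalRing.ResidueField A) (IsLocalRing.ResidueField A') →
      ∀ σ : IsLocalRing.ResidueField A →+* A, (IsLocalRing.residue A).comp σ = RingHom.id _ →
        ∃ σ' : IsLocalRing.ResidueField A' →+* A', (IsLocalRing.residue A').comp σ' = RingHom.id _ ∧
          σ'.comp (IsLocalRing.ResidueField.map (algebraMap A A')) = (algebraMap A A').comp σ := by
  obtain ⟨n, hn⟩ := hnil
  haveI : Fact p.Prime := ⟨hp⟩
  haveI := CoeffField.isAdicComplete_of_pow_eq_bot (I := IsLocalRing.maximalIdeal A) (N := n) hn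
  letI : Algebra (ZMod p) A := ZMod.algebra A p
  constructor
  · obtain ⟨σ, hσ⟩ := CoeffField.exists_section (ZMod p) A
    exact ⟨σ.toRingHom, RingHom.ext hσ⟩
  intro A' _ _ _ _ hnil' hgr σ hσ
  obtain ⟨n', hn'⟩ := hnil'
  haveI := CoeffField.isAdicComplete_of_pow_eq_bot (I := IsLocalRing.maximalIdeal A') (N := n') hn'
  have key : ∀ (k : Type u) [Field k] [Algebra k A'],
      @Algebra.IsGeometricallyReduced k (IsLocalRing.ResidueField A') _ _
        ((IsLocalRing.residue A').comp (algebraMap k A')).toAlgebra →
      ∃ τ : IsLocalRing.ResidueField A' →+* A', (∀ x, IsLocalRing.residue A' (τ x) = x) ∧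
        ∀ x : k, τ (IsLocalRing.residue A' (algebraMap k A' x)) = algebraMap k A' x := by
    intro k _ _ hk
    haveI : Algebra.IsGeometricallyReduced k (IsLocalRing.ResidueField A') := by
      convert hk using 2
      exact Algebra.algebra_ext _ _ fun x => rfl
    obtain ⟨τ, hτ⟩ := S2452.result (k := k) (A := A')
    exact ⟨τ.toRingHom, hτ, fun x => τ.commutes x⟩
  obtain ⟨τ, hτ, hcomm⟩ := @key (IsLocalRing.ResidueField A) _ ((algebraMap A A').comp σ).toAlgebra (by
    refine Eq.mp (congrArg (fun i => @Algebra.IsGeometricallyReduced _ _ _ _ i) (Algebra.algebra_ext _ _ fun x => ?_)) hgr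
    symm
    show IsLocalRing.residue A' (algebraMap A A' (σ x)) = IsLocalRing.ResidueField.map (algebraMap A A') x
    conv_rhs => rw [← show IsLocalRing.residue A (σ x) = x from RingHom.congr_fun hσ x]
    rfl)
  refine ⟨τ, RingHom.ext hτ, RingHom.ext fun x => ?_⟩
  refine Eq.trans ?_ (hcomm x)
  show τ (IsLocalRing.ResidueField.map (algebraMap A A') x) = τ (IsLocalRing.residue A' (algebraMap A A' (σ x)))
  conv_lhs => rw [← show IsLocalRing.residue A (σ x) = x from RingHom.congr_fun hσ x]
  rfl

end Groth.Agent.S7150
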