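import Groth.Statements.S7152
import Mathlib
-- import your own Groth.Agent.* helpers here

set_option autoImplicit false
universe u
open EtAlg

namespace Groth.Agent.S7152

/-- Let A' ⊆ A be an extension of rings and f an element of A'. Assume A is finite over A', f is a
nonzerodivisor on A, and A'_f = A_f. Then there is n₀ > 0 such that for all n ≥ n₀ the following
holds: given a ring B', a nonzerodivisor g of B' and an isomorphism φ' : A'/fⁿA' → B'/gⁿB' sending
the class of f to the class of g, one can find a ring B containing B' as a subring and finite as a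
B'-module, together with a ring isomorphism φ : A/fA → B/gB that agrees with φ' (i.e. the square
formed by the maps A'/fⁿA' → A/fA and B'/gⁿB' → B/gB commutes). -/
theorem result (A' A : Type u) [CommRing A'] [CommRing A] [Algebra A' A]
    (hinj : Function.Injective (algebraMap A' A)) [Module.Finite A' A] (f : A')
    (hf : algebraMap A' A f ∈ nonZeroDivisors A)
    (hloc : Function.Bijective (IsLocalization.Away.map (Localization.Away f)
      (Localization.Away (algebraMap A' A f)) (algebraMap A' A) f)) :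
    ∃ n₀ : ℕ, 0 < n₀ ∧ ∀ n : ℕ, n₀ ≤ n →
      ∀ (B' : Type u) [CommRing B'] (g : B'), g ∈ nonZeroDivisors B' →
        ∀ φ' : (A' ⧸ Ideal.span {f ^ n}) ≃+* (B' ⧸ Ideal.span {g ^ n}),
        φ' (Ideal.Quotient.mk (Ideal.span {f ^ n}) f) = Ideal.Quotient.mk (Ideal.span {g ^ n}) g →
        ∃ (B : Type u) (_ : CommRing B) (_ : Algebra B' B),
          Function.Injective (algebraMap B' B) ∧ Module.Finite B' B ∧
          ∃ φ : (A ⧸ Ideal.span {algebraMap A' A f}) ≃+* (B ⧸ Ideal.span {algebraMap B' B g}),
            ∀ (a' : A') (b' : B'),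
              φ' (Ideal.Quotient.mk (Ideal.span {f ^ n}) a') = Ideal.Quotient.mk (Ideal.span {g ^ n}) b' →
              φ (Ideal.Quotient.mk (Ideal.span {algebraMap A' A f}) (algebraMap A' A a')) =
                Ideal.Quotient.mk (Ideal.span {algebraMap B' B g}) (algebraMap B' B b') := by
  classical
  -- the conductor exponent
  have hF : ∀ a : A, ∃ k : ℕ, ∀ m, k ≤ m → ∃ h : A', algebraMap A' A h = algebraMap A' A f ^ m * a := by
    intro a
    obtain ⟨z, hz⟩ := hloc.2 (algebraMap A (Localization.Away (algebraMap A' A f)) a)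
    obtain ⟨y, ⟨_, i, rfl⟩, rfl⟩ := IsLocalization.exists_mk'_eq (Submonoid.powers f) z
    rw [IsLocalization.Away.map, IsLocalization.map_mk', IsLocalization.mk'_eq_iff_eq_mul, ← map_mul,
      IsLocalization.eq_iff_exists (Submonoid.powers (algebraMap A' A f))] at hz
    obtain ⟨⟨_, l, rfl⟩, hl⟩ := hz
    refine ⟨l + i, fun m hm => ⟨f ^ (m - i) * y, ?_⟩⟩
    obtain ⟨d, rfl⟩ := Nat.exists_eq_add_of_le hm
    rw [show l + i + d - i = l + d by omega]
    simp only [map_mul, map_pow, pow_add] at hl ⊢
    linear_combination (algebraMap A' A f ^ d) * hl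
  obtain ⟨G, hG⟩ := Module.Finite.fg_top (R := A') (M := A)
  choose k hk using hF
  let c := G.sup k
  have hc : ∀ a : A, ∃ h : A', algebraMap A' A h = algebraMap A' A f ^ c * a := by
    intro a
    have ha : a ∈ Submodule.span A' (G : Set A) := hG ▸ Submodule.mem_top
    induction ha using Submodule.span_induction with
    | mem x hx => exact hk x c (Finset.le_sup hx)
    | zero => exact ⟨0, by rw [map_zero, mul_zero]⟩
    | add x y _ _ hx hy =>
      obtain ⟨p, hp⟩ := hx
      obtain ⟨q, hq⟩ := hy
      exact ⟨p + q, by rw [map_add, hp, hq, mul_add]⟩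
    | smul r x _ hx =>
      obtain ⟨p, hp⟩ := hx
      exact ⟨r * p, by rw [map_mul, hp, Algebra.smul_def]; ring⟩
  choose h hh using hc
  refine ⟨2 * c + 1, by omega, fun n hn B' _ g hg φ' hφ' => ?_⟩
  let R := Localization.Away g
  let u : R := IsLocalization.Away.invSelf g
  have hu : algebraMap B' R g * u = 1 := IsLocalization.Away.mul_invSelf g
  have hu' : ∀ m : ℕ, algebraMap B' R g ^ m * u ^ m = 1 := fun m => by rw [← mul_pow, hu, one_pow]
  have hRinj : Function.Injective (algebraMap B' R) := IsLocalization.injective R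
    (Submonoid.powers_le.2 hg)
  have hfn : ∀ m : ℕ, algebraMap A' A f ^ m ∈ nonZeroDivisors A := fun m => pow_mem hf m
  let Rel : A' → B' → Prop := fun a' b' => φ' (Ideal.Quotient.mk _ a') = Ideal.Quotient.mk _ b'
  have hRel : ∀ a', ∃ b', Rel a' b' := fun a' => by
    obtain ⟨b', hb'⟩ := Ideal.Quotient.mk_surjective (φ' (Ideal.Quotient.mk _ a'))
    exact ⟨b', hb'.symm⟩
  choose lift hlift using hRel
  have hRelEq : ∀ {a' b₁ b₂}, Rel a' b₁ → Rel a' b₂ → ∃ r, b₁ = b₂ + g ^ n * r := fun {a' b₁ b₂} h₁ h₂ => by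
    obtain ⟨r, hr⟩ := Ideal.mem_span_singleton'.1 (Ideal.Quotient.eq.1 (h₁.symm.trans h₂))
    exact ⟨r, by rw [← sub_eq_iff_eq_add', ← hr, mul_comm]⟩
  have hRmul : ∀ {a₁ a₂ b₁ b₂}, Rel a₁ b₁ → Rel a₂ b₂ → Rel (a₁ * a₂) (b₁ * b₂) := fun {a₁ a₂ b₁ b₂} h₁ h₂ => by
    show φ' _ = _
    rw [map_mul, map_mul, h₁, h₂, map_mul]
  have hRadd : ∀ {a₁ a₂ b₁ b₂}, Rel a₁ b₁ → Rel a₂ b₂ → Rel (a₁ + a₂) (b₁ + b₂) := fun {a₁ a₂ b₁ b₂} h₁ h₂ => by
    show φ' _ = _
    rw [map_add, map_add, h₁, h₂, map_add]
  have hRf : ∀ m : ℕ, Rel (f ^ m) (g ^ m) := fun m => by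
    show φ' _ = _
    rw [map_pow, map_pow, hφ', map_pow]
  -- the module `J'`
  let Lift : A → B' := fun a => lift (h a)
  let J' : Ideal B' := Ideal.span (Finset.image Lift G : Set B') ⊔ Ideal.span {g ^ c}
  have hh_add : ∀ a b, h (a + b) = h a + h b := fun a b => hinj (by rw [map_add, hh, hh, hh, mul_add])
  have hh_smul : ∀ r a, h (r • a) = r * h a := fun r a => hinj (by rw [map_mul, hh, hh, Algebra.smul_def]; ring)
  have hgn : ∀ {m} (_ : c ≤ m) (b : B'), g ^ m * b ∈ J' := fun {m} hm b => by
    obtain ⟨d, rfl⟩ := Nat.exists_eq_add_of_le hm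
    rw [pow_add, mul_assoc]
    exact Ideal.mem_sup_right (Ideal.mul_mem_right _ _ (Ideal.mem_span_singleton_self _))
  have hJmem : ∀ a b', Rel (h a) b' → b' ∈ J' := fun a b' hab => by
    have key : ∀ a, lift (h a) ∈ J' := fun a => by
      have ha : a ∈ Submodule.span A' (G : Set A) := hG ▸ Submodule.mem_top
      induction ha using Submodule.span_induction with
      | mem x hx => exact Ideal.mem_sup_left (Ideal.subset_span (Finset.mem_image_of_mem _ hx))
      | zero =>
        have h0 : Rel (h 0) 0 := by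
          show φ' _ = _
          rw [show h 0 = 0 from hinj (by rw [hh, mul_zero, map_zero]), map_zero, map_zero, map_zero]
        obtain ⟨r, hr⟩ := hRelEq (hlift (h 0)) h0
        rw [hr, zero_add]
        exact hgn (by omega) _
      | add x y _ _ hx hy =>
        obtain ⟨r, hr⟩ := hRelEq (hlift (h (x + y))) (by rw [hh_add]; exact hRadd (hlift _) (hlift _))
        rw [hr]
        exact add_mem (add_mem hx hy) (hgn (by omega) _)
      | smul t x _ hx =>
        obtain ⟨r, hr⟩ := hRelEq (hlift (h (t • x))) (by rw [hh_smul]; exact hRmul (hlift t) (hlift _))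
        rw [hr]
        exact add_mem (Ideal.mul_mem_left _ _ hx) (hgn (by omega) _)
    obtain ⟨r, hr⟩ := hRelEq hab (hlift (h a))
    rw [hr]
    exact add_mem (key a) (hgn (by omega) _)
  have hJex : ∀ b' ∈ J', ∃ a, Rel (h a) b' := fun b' hb' => by
    obtain ⟨y, hy, z, hz, rfl⟩ := Submodule.mem_sup.1 hb'
    obtain ⟨r, rfl⟩ := Ideal.mem_span_singleton'.1 hz
    obtain ⟨r', hr'⟩ := Ideal.Quotient.mk_surjective (φ'.symm (Ideal.Quotient.mk _ r))
    have hr'' : Rel r' r := by
      show φ' _ = _
      rw [hr', RingEquiv.apply_symm_apply]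
    obtain ⟨a, ha⟩ : ∃ a, Rel (h a) y := by
      clear hb'
      induction hy using Submodule.span_induction with
      | mem x hx =>
        obtain ⟨a, -, rfl⟩ := Finset.mem_image.1 (Finset.mem_coe.1 hx)
        exact ⟨a, hlift _⟩
      | zero =>
        refine ⟨0, ?_⟩
        show φ' _ = _
        rw [show h 0 = 0 from hinj (by rw [hh, mul_zero, map_zero]), map_zero, map_zero, map_zero]
      | add x y _ _ hx hy =>
        obtain ⟨a, ha⟩ := hx
        obtain ⟨b, hb⟩ := hy
        exact ⟨a + b, by rw [hh_add]; exact hRadd ha hb⟩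
      | smul t x _ hx =>
        obtain ⟨a, ha⟩ := hx
        obtain ⟨t', ht'⟩ := Ideal.Quotient.mk_surjective (φ'.symm (Ideal.Quotient.mk _ t))
        refine ⟨t' • a, ?_⟩
        rw [hh_smul]
        exact hRmul (show φ' _ = _ by rw [ht', RingEquiv.apply_symm_apply]) ha
    refine ⟨a + algebraMap A' A r', ?_⟩
    rw [hh_add, show h (algebraMap A' A r') = r' * f ^ c from hinj (by rw [hh, map_mul, map_pow, mul_comm])]
    exact hRadd ha (hRmul hr'' (hRf c))
  -- the ring
  let B : Subalgebra B' R :=
    { carrier := {x | ∃ j ∈ J', algebraMap B' R g ^ c * x = algebraMap B' R j}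
      add_mem' := by
        rintro x y ⟨j, hj, hx⟩ ⟨l, hl, hy⟩
        exact ⟨j + l, add_mem hj hl, by rw [mul_add, hx, hy, map_add]⟩
      mul_mem' := by
        rintro x y ⟨j, hj, hx⟩ ⟨l, hl, hy⟩
        obtain ⟨a, ha⟩ := hJex j hj
        obtain ⟨b, hb⟩ := hJex l hl
        have hab : Rel (f ^ c * h (a * b)) (g ^ c * lift (h (a * b))) := hRmul (hRf c) (hlift _)
        rw [show f ^ c * h (a * b) = h a * h b from hinj (by rw [map_mul, map_mul, map_pow, hh, hh, hh]; ring)] at hab
        obtain ⟨r, hr⟩ := hRelEq (hRmul ha hb) hab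
        refine ⟨lift (h (a * b)) + g ^ (n - c) * r, add_mem (hJmem _ _ (hlift _)) (hgn (by omega) _), ?_⟩
        have e : g ^ c * (lift (h (a * b)) + g ^ (n - c) * r) = j * l := by
          rw [hr, mul_add, ← mul_assoc, ← pow_add, Nat.add_sub_cancel' (by omega : c ≤ n)]
        have e' := congrArg (algebraMap B' R) e
        rw [map_mul, map_mul, map_pow, ← hx, ← hy] at e'
        calc algebraMap B' R g ^ c * (x * y)
            = u ^ c * (algebraMap B' R g ^ c * x * (algebraMap B' R g ^ c * y)) := by
              linear_combination (-(algebraMap B' R g ^ c * (x * y))) * hu' c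
          _ = algebraMap B' R (lift (h (a * b)) + g ^ (n - c) * r) := by
              rw [← e']
              linear_combination (algebraMap B' R (lift (h (a * b)) + g ^ (n - c) * r)) * hu' c
      algebraMap_mem' := fun b => ⟨g ^ c * b, hgn le_rfl b, by rw [map_mul, map_pow]⟩ }
  have hBmem : ∀ {j}, j ∈ J' → algebraMap B' R j * u ^ c ∈ B := fun {j} hj =>
    ⟨j, hj, by linear_combination (algebraMap B' R j) * hu' c⟩
  let mkB : A → B := fun a => ⟨_, hBmem (hJmem a _ (hlift (h a)))⟩
  have hdiv : ∀ (m : ℕ) (_ : c + 1 ≤ m) (x y : B) (r : B'),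
      algebraMap B' R g ^ c * (x : R) = algebraMap B' R g ^ c * (y : R) + algebraMap B' R (g ^ m * r) →
      (Ideal.Quotient.mk (Ideal.span {algebraMap B' B g}) x) = Ideal.Quotient.mk _ y := fun m hm x y r hxy => by
    refine Ideal.Quotient.eq.2 (Ideal.mem_span_singleton'.2 ⟨algebraMap B' B (g ^ (m - c - 1) * r), Subtype.ext ?_⟩)
    show algebraMap B' R (g ^ (m - c - 1) * r) * algebraMap B' R g = (x : R) - (y : R)
    obtain ⟨d, rfl⟩ := Nat.exists_eq_add_of_le hm
    rw [show c + 1 + d - c - 1 = d by omega]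
    rw [map_mul, map_pow] at hxy ⊢
    linear_combination (-(u ^ c)) * hxy + ((x : R) - (y : R) - algebraMap B' R g ^ (d + 1) * algebraMap B' R r) * hu' c
  have hmk : ∀ a b', Rel (h a) b' → ∀ hb : b' ∈ J',
      Ideal.Quotient.mk (Ideal.span {algebraMap B' B g}) (mkB a) = Ideal.Quotient.mk _ ⟨_, hBmem hb⟩ := fun a b' hab hb => by
    obtain ⟨r, hr⟩ := hRelEq (hlift (h a)) hab
    refine hdiv n (by omega) _ _ r ?_
    show algebraMap B' R g ^ c * (algebraMap B' R (lift (h a)) * u ^ c) = algebraMap B' R g ^ c * (algebraMap B' R b' * u ^ c) + _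
    rw [hr, map_add]
    linear_combination (algebraMap B' R (g ^ n * r)) * hu' c
  let ψ : A →+* B ⧸ Ideal.span {algebraMap B' B g} :=
    { toFun := fun a => Ideal.Quotient.mk _ (mkB a)
      map_one' := by
        have hb : g ^ c ∈ J' := by simpa using hgn (le_refl c) 1
        rw [hmk 1 (g ^ c) (by rw [show h 1 = f ^ c from hinj (by rw [hh, map_pow, mul_one])]; exact hRf c) hb, ← map_one (Ideal.Quotient.mk (Ideal.span {algebraMap B' B g}))]
        refine congrArg _ (Subtype.ext ?_)
        show algebraMap B' R (g ^ c) * u ^ c = 1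
        rw [map_pow, hu']
      map_zero' := by
        have hb : (0 : B') ∈ J' := zero_mem _
        rw [hmk 0 0 (by show φ' _ = _; rw [show h 0 = 0 from hinj (by rw [hh, mul_zero, map_zero]), map_zero, map_zero, map_zero]) hb,
          ← map_zero (Ideal.Quotient.mk (Ideal.span {algebraMap B' B g}))]
        refine congrArg _ (Subtype.ext ?_)
        show algebraMap B' R 0 * u ^ c = 0
        rw [map_zero, zero_mul]
      map_add' := fun a b => by
        rw [hmk (a + b) (lift (h a) + lift (h b)) (by rw [hh_add]; exact hRadd (hlift _) (hlift _))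
          (add_mem (hJmem a _ (hlift _)) (hJmem b _ (hlift _))), ← map_add]
        refine congrArg _ (Subtype.ext ?_)
        show algebraMap B' R (lift (h a) + lift (h b)) * u ^ c = algebraMap B' R (lift (h a)) * u ^ c + algebraMap B' R (lift (h b)) * u ^ c
        rw [map_add, add_mul]
      map_mul' := fun a b => by
        have hab : Rel (h a * h b) (g ^ c * lift (h (a * b))) := by
          rw [show h a * h b = f ^ c * h (a * b) from hinj (by rw [map_mul, map_mul, map_pow, hh, hh, hh]; ring)]
          exact hRmul (hRf c) (hlift _)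
        obtain ⟨r, hr⟩ := hRelEq hab (hRmul (hlift (h a)) (hlift (h b)))
        rw [← map_mul]
        refine hdiv (n - c) (by omega) _ _ r ?_
        obtain ⟨d, hd⟩ := Nat.exists_eq_add_of_le (show c ≤ n by omega)
        have hr' := congrArg (algebraMap B' R) hr
        subst hd
        rw [show c + d - c = d by omega]
        show algebraMap B' R g ^ c * (algebraMap B' R (lift (h (a * b))) * u ^ c) =
          algebraMap B' R g ^ c * (algebraMap B' R (lift (h a)) * u ^ c * (algebraMap B' R (lift (h b)) * u ^ c)) + _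
        simp only [map_add, map_mul, map_pow, pow_add] at hr' ⊢
        linear_combination (u ^ c) * hr' +
          (algebraMap B' R g ^ d * algebraMap B' R r -
            u ^ c * algebraMap B' R (lift (h a)) * algebraMap B' R (lift (h b))) * hu' c }
  have hsurj : Function.Surjective ψ := fun z => by
    obtain ⟨⟨x, j, hj, hx⟩, rfl⟩ := Ideal.Quotient.mk_surjective z
    obtain ⟨a, ha⟩ := hJex j hj
    refine ⟨a, (hmk a j ha hj).trans (congrArg _ (Subtype.ext ?_))⟩
    show algebraMap B' R j * u ^ c = x
    rw [← hx]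
    linear_combination x * hu' c
  have hker : RingHom.ker ψ = Ideal.span {algebraMap A' A f} := by
    refine le_antisymm (fun a ha => ?_) ((Ideal.span_singleton_le_iff_mem _).2 ?_)
    · obtain ⟨⟨x, j, hj, hx⟩, hxz⟩ := Ideal.mem_span_singleton'.1 (Ideal.Quotient.eq_zero_iff_mem.1 (RingHom.mem_ker.1 ha))
      obtain ⟨b, hb⟩ := hJex j hj
      have hxz' : x * algebraMap B' R g = algebraMap B' R (lift (h a)) * u ^ c := congrArg Subtype.val hxz
      have hla : lift (h a) = j * g := hRinj (by
        rw [map_mul, ← hx]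
        linear_combination (-(algebraMap B' R g ^ c)) * hxz' - (algebraMap B' R (lift (h a))) * hu' c)
      have h1 : φ' (Ideal.Quotient.mk _ (h a)) = φ' (Ideal.Quotient.mk _ (h b * f)) := by
        rw [hlift (h a), hla]
        exact (hRmul hb (by simpa using hRf 1)).symm
      obtain ⟨r, hr⟩ := Ideal.mem_span_singleton'.1 (Ideal.Quotient.eq.1 (φ'.injective h1))
      obtain ⟨d, hd⟩ := Nat.exists_eq_add_of_le (show c + 1 ≤ n by omega)
      refine Ideal.mem_span_singleton'.2 ⟨b + algebraMap A' A r * algebraMap A' A f ^ d, ?_⟩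
      refine (mul_cancel_left_mem_nonZeroDivisors (hfn c)).1 ?_
      have hr' := congrArg (algebraMap A' A) hr
      rw [hd] at hr'
      simp only [map_sub, map_mul, map_pow, hh, pow_add, pow_one] at hr'
      linear_combination hr'
    · rw [RingHom.mem_ker]
      show Ideal.Quotient.mk _ (mkB _) = 0
      have hb : g ^ c * g ∈ J' := Ideal.mul_mem_right _ _ (by simpa using hgn (le_refl c) 1)
      rw [hmk _ (g ^ c * g) (by
        rw [show h (algebraMap A' A f) = f ^ c * f from hinj (by rw [hh, map_mul, map_pow])]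
        exact hRmul (hRf c) (by simpa using hRf 1)) hb, Ideal.Quotient.eq_zero_iff_mem]
      refine Ideal.mem_span_singleton'.2 ⟨1, Subtype.ext ?_⟩
      show 1 * algebraMap B' R g = algebraMap B' R (g ^ c * g) * u ^ c
      rw [map_mul, map_pow]
      linear_combination (-(algebraMap B' R g)) * hu' c
  refine ⟨B, inferInstance, inferInstance, fun x y hxy => hRinj (congrArg Subtype.val hxy), ?_,
    (Ideal.quotEquivOfEq hker.symm).trans (RingHom.quotientKerEquivOfSurjective hsurj), fun a' b' hab => ?_⟩
  · have hJfg : J'.FG := Submodule.FG.sup ⟨_, rfl⟩ ⟨{g ^ c}, by rw [Finset.coe_singleton]⟩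
    haveI : Module.Finite B' J' := Module.Finite.iff_fg.2 hJfg
    let L : J' →ₗ[B'] B :=
      { toFun := fun j => ⟨_, hBmem j.2⟩
        map_add' := fun j l => Subtype.ext (by
          show algebraMap B' R ((j : B') + l) * u ^ c = algebraMap B' R j * u ^ c + algebraMap B' R l * u ^ c
          rw [map_add, add_mul])
        map_smul' := fun r j => Subtype.ext (by
          show algebraMap B' R (r * (j : B')) * u ^ c = r • (algebraMap B' R j * u ^ c)
          rw [map_mul, Algebra.smul_def, mul_assoc]) }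
    refine Module.Finite.of_surjective L fun x => ?_
    obtain ⟨x, j, hj, hx⟩ := x
    refine ⟨⟨j, hj⟩, Subtype.ext ?_⟩
    show algebraMap B' R j * u ^ c = x
    rw [← hx]
    linear_combination x * hu' c
  · show ψ (algebraMap A' A a') = Ideal.Quotient.mk _ (algebraMap B' B b')
    have hb : g ^ c * b' ∈ J' := hgn le_rfl b'
    refine (hmk _ (g ^ c * b') (by
      rw [show h (algebraMap A' A a') = f ^ c * a' from hinj (by rw [hh, map_mul, map_pow])]
      exact hRmul (hRf c) hab) hb).trans (congrArg _ (Subtype.ext ?_))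
    show algebraMap B' R (g ^ c * b') * u ^ c = algebraMap B' R b'
    rw [map_mul, map_pow]
    linear_combination (algebraMap B' R b') * hu' c

end Groth.Agent.S7152
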