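import Groth.Statements.S7154
import Groth.Agent.EtRam7.Epp.Main
-- import your own Groth.Agent.* helpers here

set_option autoImplicit false
universe u
open EtAlg

namespace Groth.Agent.S7154

/-- Let A → B → C be injective local homomorphisms of discrete valuation rings whose fields of fractions
are K ⊆ L ⊆ M, where A and B are complete, A → B is weakly unramified, M/L is finite, and the
residue field k of A is an algebraically closed field of characteristic p > 0 which, inside the
residue field κ_B of B, is exactly the set of elements admitting a pⁿ-th root for every n. Then some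
finite extension K₁/K is a weak solution for A → C. -/
theorem result (p : ℕ) (hp : p.Prime) (A B C K L M : Type u)
    [CommRing A] [IsDomain A] [IsDiscreteValuationRing A] [CommRing B] [IsDomain B] [IsDiscreteValuationRing B]
    [CommRing C] [IsDomain C] [IsDiscreteValuationRing C]
    [Algebra A B] [Algebra B C] [Algebra A C] [IsScalarTower A B C]
    (hAB : Function.Injective (algebraMap A B)) (hBC : Function.Injective (algebraMap B C))
    [IsLocalHom (algebraMap A B)] [IsLocalHom (algebraMap B C)]
    [Field K] [Field L] [Field M] [Algebra A K] [IsFractionRing A K] [Algebra B L] [IsFractionRing B L]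
    [Algebra C M] [IsFractionRing C M] [Algebra K L] [Algebra L M] [Algebra K M] [IsScalarTower K L M]
    [Algebra A L] [IsScalarTower A K L] [IsScalarTower A B L] [Algebra B M] [IsScalarTower B L M] [IsScalarTower B C M]
    [Algebra A M] [IsScalarTower A K M] [IsScalarTower A C M]
    [IsAlgClosed (IsLocalRing.ResidueField A)] [CharP (IsLocalRing.ResidueField A) p]
    [IsAdicComplete (IsLocalRing.maximalIdeal A) A] [IsAdicComplete (IsLocalRing.maximalIdeal B) B]
    (hw : EtRam.IsWeaklyUnramified A B) [FiniteDimensional L M]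
    (hk : ∀ x : IsLocalRing.ResidueField B, (∀ n : ℕ, ∃ y : IsLocalRing.ResidueField B, y ^ (p ^ n) = x) ↔
      x ∈ Set.range (algebraMap (IsLocalRing.ResidueField A) (IsLocalRing.ResidueField B))) :
    ∃ (K₁ : Type u) (_ : Field K₁) (_ : Algebra K K₁), FiniteDimensional K K₁ ∧ EtRam.IsWeakSolution C K M K₁ := by
  classical
  haveI : Fact p.Prime := ⟨hp⟩
  let Ω := AlgebraicClosure L
  obtain ⟨W, hW₀⟩ := EtRam7.exists_dominates (A := B) (K := L) (L := Ω)
  have hW : EtRam.Dominates B ((algebraMap L Ω).comp (algebraMap B L)) W := by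
    rwa [← IsScalarTower.algebraMap_eq B L Ω]
  let N : IntermediateField L Ω := IntermediateField.normalClosure L M Ω
  haveI : FiniteDimensional L N := normalClosure.is_finiteDimensional L M Ω
  obtain ⟨E₀, F, hE₀, hF, hNF, hT⟩ := EtRam7.Epp.exists_tight (A := A) (K := K) hW p hw hk N
  let E : IntermediateField K Ω := IntermediateField.normalClosure K E₀ Ω
  haveI : FiniteDimensional K E := normalClosure.is_finiteDimensional K E₀ Ω
  haveI : Normal K E := (Algebra.IsAlgebraic.isNormalClosure_normalClosure (F := K) (K := E₀) (L := Ω)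
    (fun x => IsAlgClosed.splits _)).normal
  have hle : E₀ ≤ E := E₀.fieldRange_val.symm.le.trans (AlgHom.fieldRange_le_normalClosure E₀.val)
  have hT₁ := EtRam7.Epp.Tight.extend (A := A) hW hle hT
  obtain ⟨-, ϖ, hϖE, hϖ0, hϖ1, hmax⟩ := hT₁
  refine ⟨E, inferInstance, inferInstance, inferInstance, ?_⟩
  intro M' _ _ _ _ _ _ hgen W' hW'
  letI : Algebra L M' := ((algebraMap M M').comp (algebraMap L M)).toAlgebra
  haveI : IsScalarTower L M M' := IsScalarTower.of_algebraMap_eq fun _ => rfl
  haveI : IsScalarTower K L M' := IsScalarTower.of_algebraMap_eq fun x => by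
    rw [IsScalarTower.algebraMap_apply K M M', IsScalarTower.algebraMap_apply K L M]; rfl
  haveI : Algebra.IsAlgebraic M M' := by
    haveI : Algebra.IsIntegral M M' := ⟨fun x => by
      have hx : x ∈ Algebra.adjoin M (Set.range (algebraMap E M')) := hgen ▸ Algebra.mem_top
      refine Algebra.adjoin_le (S := integralClosure M M') ?_ hx
      rintro _ ⟨e, rfl⟩
      exact (((Algebra.IsIntegral.isIntegral (R := K) e).map (IsScalarTower.toAlgHom K E M')).tower_top : IsIntegral M _)⟩
    infer_instance
  haveI : Algebra.IsAlgebraic L M' := Algebra.IsAlgebraic.trans L M M'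
  let ι : M' →ₐ[L] Ω := IsAlgClosed.lift
  obtain ⟨W'', hW''⟩ := EtRam7.exists_extension (ι : M' →+* Ω) W'
  have heq : W'' = W := by
    refine EtRam7.Epp.valuationSubring_unique hW ?_
    have hcomp : ∀ b : B, algebraMap L Ω (algebraMap B L b) =
        ι (algebraMap M M' (algebraMap C M (algebraMap B C b))) := fun b => by
      rw [← IsScalarTower.algebraMap_apply B C M, IsScalarTower.algebraMap_apply B L M,
        ← IsScalarTower.algebraMap_apply L M M', ι.commutes]
    refine ⟨fun b => ?_, fun b hb => ?_⟩
    · have h1 := hW'.1 (algebraMap B C b)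
      rw [← hW''] at h1
      rw [RingHom.comp_apply, hcomp]
      exact h1
    · have h1 := hW'.2 (algebraMap B C b) (map_nonunit (algebraMap B C) b hb)
      rw [← hW'', EtRam7.valuation_lt_one_comap] at h1
      rw [RingHom.comp_apply, hcomp]
      exact h1
  subst heq
  subst hW''
  let f : E →ₐ[K] Ω := (ι.restrictScalars K).comp (IsScalarTower.toAlgHom K E M')
  have hf : f.fieldRange = E := AlgHom.fieldRange_of_normal f
  have hin : ∀ x : M', ι x ∈ F ⊔ IntermediateField.adjoin L (E : Set Ω) := by
    intro x
    have hx : x ∈ Algebra.adjoin M (Set.range (algebraMap E M')) := hgen ▸ Algebra.mem_top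
    induction hx using Algebra.adjoin_induction with
    | mem y hy =>
      obtain ⟨e, rfl⟩ := hy
      exact (le_sup_right : IntermediateField.adjoin L (E : Set Ω) ≤ _)
        (IntermediateField.subset_adjoin L _ (hf.le ⟨e, rfl⟩))
    | algebraMap m =>
      exact (le_sup_left : F ≤ _) (hNF (AlgHom.fieldRange_le_normalClosure
        (ι.comp (IsScalarTower.toAlgHom L M M')) ⟨m, rfl⟩))
    | add y z _ _ hy hz => rw [map_add]; exact add_mem hy hz
    | mul y z _ _ hy hz => rw [map_mul]; exact mul_mem hy hz
  refine EtRam7.isWeaklyUnramified_inclOfComap _ (algebraMap E M') fun x hx => ?_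
  obtain ⟨a, ha⟩ := hf.ge hϖE
  have ha' : ι (algebraMap E M' a) = ϖ := ha
  rw [EtRam7.valuation_lt_one_comap] at hx
  refine ⟨a, (EtRam7.valuation_lt_one_comap _ _).2 (show W''.valuation (ι (algebraMap E M' a)) < 1 from ha' ▸ hϖ1), ?_⟩
  have h2 : W''.valuation (ι x) ≤ W''.valuation (ι (algebraMap E M' a)) := by
    rw [ha']; exact hmax _ (hin x) hx
  by_contra hlt
  rw [not_le] at hlt
  have hx0 : x ≠ 0 := fun h => by simp [h] at hlt
  have h3 : (W''.comap (ι : M' →+* Ω)).valuation (algebraMap E M' a / x) < 1 := by
    rwa [map_div₀, div_lt_one₀ (zero_lt_iff.2 ((Valuation.ne_zero_iff _).2 hx0))]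
  rw [EtRam7.valuation_lt_one_comap, map_div₀, map_div₀,
    div_lt_one₀ (zero_lt_iff.2 ((Valuation.ne_zero_iff _).2 ((map_ne_zero (ι : M' →+* Ω)).2 hx0)))] at h3
  exact absurd h2 (not_le.2 h3)


end Groth.Agent.S7154
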