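import Groth.Statements.S7155
import Mathlib
import Groth.Agent.EtRam7.ASStep
-- import your own Groth.Agent.* helpers here

set_option autoImplicit false
universe u
open EtAlg

namespace Groth.Agent.S7155

/-- Let A → B → C be injective local homomorphisms of discrete valuation rings whose fields of fractions
are K ⊆ L ⊆ M, where A → B is weakly unramified, K has characteristic p, M/L is Galois of degree p,
and κ_A, inside κ_B, is exactly the set of elements admitting a pⁿ-th root for every n. Then some
finite separable extension K₁/K that is totally ramified with respect to A is a weak solution for A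
→ C. (The published statement asks for K₁/K Galois; this row asks only that K₁/K be separable, which
is what the printed construction provides.) -/
theorem result (p : ℕ) (hp : p.Prime) (A B C K L M : Type u)
    [CommRing A] [IsDomain A] [IsDiscreteValuationRing A] [CommRing B] [IsDomain B] [IsDiscreteValuationRing B]
    [CommRing C] [IsDomain C] [IsDiscreteValuationRing C]
    [Algebra A B] [Algebra B C] [Algebra A C] [IsScalarTower A B C]
    (hAB : Function.Injective (algebraMap A B)) (hBC : Function.Injective (algebraMap B C))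
    [IsLocalHom (algebraMap A B)] [IsLocalHom (algebraMap B C)]
    [Field K] [Field L] [Field M] [Algebra A K] [IsFractionRing A K] [Algebra B L] [IsFractionRing B L]
    [Algebra C M] [IsFractionRing C M] [Algebra K L] [Algebra L M] [Algebra K M] [IsScalarTower K L M]
    [Algebra A L] [IsScalarTower A K L] [IsScalarTower A B L] [Algebra B M] [IsScalarTower B L M] [IsScalarTower B C M]
    [Algebra A M] [IsScalarTower A K M] [IsScalarTower A C M]
    (hw : EtRam.IsWeaklyUnramified A B) [CharP K p] [IsGalois L M] (hdeg : Module.finrank L M = p)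
    (hk : ∀ x : IsLocalRing.ResidueField B, (∀ n : ℕ, ∃ y : IsLocalRing.ResidueField B, y ^ (p ^ n) = x) ↔
      x ∈ Set.range (algebraMap (IsLocalRing.ResidueField A) (IsLocalRing.ResidueField B))) :
    ∃ (K₁ : Type u) (_ : Field K₁) (_ : Algebra K K₁), FiniteDimensional K K₁ ∧ Algebra.IsSeparable K K₁ ∧
      EtRam.IsTotallyRamified A ((algebraMap K K₁).comp (algebraMap A K)) ∧ EtRam.IsWeakSolution C K M K₁ := by
  classical
  haveI : Fact p.Prime := ⟨hp⟩
  haveI : CharP L p := charP_of_injective_algebraMap (algebraMap K L).injective p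
  haveI : CharP A p := RingHom.charP (algebraMap A K) (IsFractionRing.injective A K) p
  haveI : CharP B p := RingHom.charP (algebraMap B L) (IsFractionRing.injective B L) p
  haveI : CharP (IsLocalRing.ResidueField A) p := ringChar.of_eq
    (CharP.ringChar_of_prime_eq_zero hp (by rw [← map_natCast (IsLocalRing.residue A), CharP.cast_eq_zero, map_zero]))
  haveI : CharP (IsLocalRing.ResidueField B) p := ringChar.of_eq
    (CharP.ringChar_of_prime_eq_zero hp (by rw [← map_natCast (IsLocalRing.residue B), CharP.cast_eq_zero, map_zero]))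
  obtain ⟨z, ⟨l, hl⟩, hgen⟩ := EtRam7.exists_artinSchreier_generator p hdeg
  obtain ⟨π, hπ⟩ := IsDiscreteValuationRing.exists_irreducible A
  have hπB : Irreducible (algebraMap A B π) := by
    rw [IsDiscreteValuationRing.irreducible_iff_uniformizer, ← hw, hπ.maximalIdeal_eq, Ideal.map_span,
      Set.image_singleton]
  obtain ⟨b₀, d, hd, rfl⟩ := IsFractionRing.div_surjective (A := B) l
  obtain ⟨n, v, rfl⟩ := IsDiscreteValuationRing.eq_unit_mul_pow_irreducible (nonZeroDivisors.ne_zero hd) hπB
  set b : B := b₀ * ((v⁻¹ : Bˣ) : B)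
  have hl' : z ^ p - z = algebraMap L M (algebraMap B L b / algebraMap B L (algebraMap A B π) ^ n) := by
    rw [hl]
    congr 1
    have hv : algebraMap B L (v : B) ≠ 0 := (v.isUnit.map _).ne_zero
    simp only [b, map_mul, map_pow, map_units_inv]
    field_simp
  have hperf : ∀ a : A, ∃ r : A, IsLocalRing.residue A a = IsLocalRing.residue A r ^ p := by
    intro a
    have h := (hk (algebraMap (IsLocalRing.ResidueField A) (IsLocalRing.ResidueField B) (IsLocalRing.residue A a))).2
      ⟨_, rfl⟩
    obtain ⟨y, hy⟩ := h 1
    rw [pow_one] at hy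
    obtain ⟨x, hx⟩ := (hk y).1 fun m => by
      obtain ⟨w, hw⟩ := h (m + 1)
      refine ⟨w, frobenius_inj (IsLocalRing.ResidueField B) p ?_⟩
      simp only [frobenius_def]
      rw [← pow_mul, ← pow_succ, hw, hy]
    obtain ⟨r, rfl⟩ := IsLocalRing.residue_surjective x
    exact ⟨r, (algebraMap (IsLocalRing.ResidueField A) (IsLocalRing.ResidueField B)).injective
      (by rw [map_pow, hx, hy])⟩
  obtain ⟨k, hnf⟩ := EtRam7.exists_normal_form (p := p) (A := A) hπB.maximalIdeal_eq hk n b
  obtain ⟨K₁, iF, iK, iA, iT, hdeg₁, hsep, htot, π₁, c₀, c₁, -, hc₀, -, hr, -⟩ :=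
    S7157.result p hp A K π hπ.maximalIdeal_eq (2 * n + 2) (by omega) k
  haveI : FiniteDimensional K K₁ := Module.finite_of_finrank_pos (hdeg₁ ▸ pow_pos hp.pos k)
  rcases hnf with ⟨e, d', he, hpe, hd', hAS⟩ | ⟨a, hAS⟩
  · refine ⟨K₁, iF, iK, inferInstance, hsep, ?_,
      EtRam7.isWeakSolution_of_good p hπ hπB hdeg₁ hc₀ hr hl' hgen he hpe hd' hAS⟩
    rwa [← IsScalarTower.algebraMap_eq]
  · exact EtRam7.exists_weakSolution_of_class p hπ hπB hw hperf htot hc₀ hr hl' hgen a hAS

end Groth.Agent.S7155
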