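import Groth.Statements.S7156
import Mathlib
import Groth.Agent.S7157
import Groth.Agent.EtRam7.InsepStep
-- import your own Groth.Agent.* helpers here

set_option autoImplicit false
set_option linter.style.haveILetI false
set_option maxHeartbeats 1000000
universe u
open EtAlg

open Polynomial
open scoped TensorProduct

namespace Groth.Agent.S7156

open TensorProduct in
/-- Let A → B → C be injective local homomorphisms of discrete valuation rings whose fields of fractions
are K ⊆ L ⊆ M, and let π be a uniformizer of A; suppose B is a Nagata ring, A → B is weakly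
unramified, and M/L is purely inseparable of prime degree p. Then one of the following holds: the
extension A → C is itself weakly unramified; or else C = B[π^(1/p)]; or else there is a separable
degree-p extension K₁/K, totally ramified with respect to A, for which L ⊗_K K₁ and M ⊗_K K₁ are
fields and the integral closures A₁ → B₁ → C₁ are weakly unramified extensions, i.e. K₁ is a weak
solution for A ⊆ B and for A ⊆ C. -/
theorem result (p : ℕ) (hp : p.Prime) (A B C K L M : Type u)
    [CommRing A] [IsDomain A] [IsDiscreteValuationRing A] [CommRing B] [IsDomain B] [IsDiscreteValuationRing B]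
    [CommRing C] [IsDomain C] [IsDiscreteValuationRing C]
    [Algebra A B] [Algebra B C] [Algebra A C] [IsScalarTower A B C]
    (hAB : Function.Injective (algebraMap A B)) (hBC : Function.Injective (algebraMap B C))
    [IsLocalHom (algebraMap A B)] [IsLocalHom (algebraMap B C)]
    [Field K] [Field L] [Field M] [Algebra A K] [IsFractionRing A K] [Algebra B L] [IsFractionRing B L]
    [Algebra C M] [IsFractionRing C M] [Algebra K L] [Algebra L M] [Algebra K M] [IsScalarTower K L M]
    [Algebra A L] [IsScalarTower A K L] [IsScalarTower A B L] [Algebra B M] [IsScalarTower B L M] [IsScalarTower B C M]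
    [Algebra A M] [IsScalarTower A K M] [IsScalarTower A C M]
    (π : A) (hπ : IsLocalRing.maximalIdeal A = Ideal.span {π}) (hB : CAlg.IsNagata B)
    (hw : EtRam.IsWeaklyUnramified A B) [IsPurelyInseparable L M] (hdeg : Module.finrank L M = p) :
    EtRam.IsWeaklyUnramified A C ∨
      (∃ c : C, c ^ p = algebraMap A C π ∧ Algebra.adjoin B {c} = ⊤) ∨
      ∃ (K₁ : Type u) (_ : Field K₁) (_ : Algebra K K₁),
        Module.finrank K K₁ = p ∧ Algebra.IsSeparable K K₁ ∧
          EtRam.IsTotallyRamified A ((algebraMap K K₁).comp (algebraMap A K)) ∧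
          IsField (L ⊗[K] K₁) ∧ IsField (M ⊗[K] K₁) ∧
          EtRam.IsWeakSolution B K L K₁ ∧ EtRam.IsWeakSolution C K M K₁ := by
  classical
  haveI := Fact.mk hp
  haveI : FiniteDimensional L M := Module.finite_of_finrank_pos (hdeg ▸ hp.pos)
  obtain ⟨q, hqE⟩ := ExpChar.exists L
  haveI : CharP L p := by
    obtain ⟨x, hx⟩ : ∃ x : M, x ∉ (algebraMap L M).range := by
      by_contra hne
      push Not at hne
      have h1 : Module.finrank L M = 1 := finrank_eq_one 1 one_ne_zero fun x => by
        obtain ⟨l, hl⟩ := hne x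
        exact ⟨l, by rw [← hl, Algebra.smul_def, mul_one]⟩
      rw [hdeg] at h1
      exact hp.ne_one h1
    obtain ⟨n, y, hny⟩ := IsPurelyInseparable.minpoly_eq_X_pow_sub_C L q x
    have hint : IsIntegral L x := Algebra.IsIntegral.isIntegral x
    have hd : (minpoly L x).natDegree ∣ p := hdeg ▸ minpoly.degree_dvd hint
    have hd1 : (minpoly L x).natDegree ≠ 1 := fun h => hx (minpoly.natDegree_eq_one_iff.1 h)
    have hdp := (hp.eq_one_or_self_of_dvd _ hd).resolve_left hd1
    rw [hny, natDegree_X_pow_sub_C] at hdp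
    rcases hqE with _ | ⟨hq⟩
    · rw [one_pow] at hdp; exact absurd hdp.symm hp.ne_one
    · have hdvd : q ∣ p := by
        rcases Nat.eq_zero_or_pos n with rfl | hn
        · rw [pow_zero] at hdp; exact absurd hdp.symm hp.ne_one
        · exact hdp ▸ dvd_pow_self _ hn.ne'
      rw [← (Nat.prime_dvd_prime_iff_eq hq hp).1 hdvd]
      assumption
  haveI : CharP M p := charP_of_injective_algebraMap (algebraMap L M).injective p
  haveI : CharP K p := (RingHom.charP_iff (algebraMap K L) (algebraMap K L).injective p).2 ‹_›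
  have hpowL : ∀ x : M, ∃ l : L, algebraMap L M l = x ^ p := by
    intro x
    obtain ⟨n, y, hny⟩ := IsPurelyInseparable.minpoly_eq_X_pow_sub_C L p x
    have hd : (minpoly L x).natDegree ∣ p := hdeg ▸ minpoly.degree_dvd (Algebra.IsIntegral.isIntegral x)
    rw [hny, natDegree_X_pow_sub_C] at hd
    have hxy : x ^ p ^ n = algebraMap L M y := by
      have h1 := minpoly.aeval L x
      rw [hny] at h1
      simpa [sub_eq_zero] using h1
    obtain ⟨k, hk⟩ := hd
    exact ⟨y ^ k, by rw [map_pow, ← hxy, ← pow_mul, ← hk]⟩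
  have hinjC : Function.Injective (algebraMap C M) := IsFractionRing.injective C M
  have hpow : ∀ x : C, ∃ b : B, algebraMap B M b = algebraMap C M x ^ p := by
    intro x
    obtain ⟨l, hl⟩ := hpowL (algebraMap C M x)
    rcases ValuationRing.isInteger_or_isInteger B l with ⟨b, hb⟩ | ⟨b, hb⟩
    · exact ⟨b, by rw [IsScalarTower.algebraMap_apply B L M, hb, hl]⟩
    · rcases eq_or_ne l 0 with rfl | hl0
      · exact ⟨0, by rw [map_zero, ← hl, map_zero]⟩
      have h1 : algebraMap B C b * x ^ p = 1 := by
        apply hinjC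
        rw [map_mul, map_pow, ← IsScalarTower.algebraMap_apply B C M, IsScalarTower.algebraMap_apply B L M,
          hb, ← hl, ← map_mul, inv_mul_cancel₀ hl0, map_one, map_one]
      obtain ⟨bu, rfl⟩ := isUnit_of_map_unit (algebraMap B C) b (IsUnit.of_mul_eq_one _ h1)
      refine ⟨((bu⁻¹ : Bˣ) : B), ?_⟩
      rw [IsScalarTower.algebraMap_apply B L M, map_units_inv, hb, inv_inv, hl]
  have hπA : Irreducible π := (IsDiscreteValuationRing.irreducible_iff_uniformizer π).2 hπ
  set πB := algebraMap A B π with hπBdef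
  have hπB : Irreducible πB := by
    rw [IsDiscreteValuationRing.irreducible_iff_uniformizer, ← hw, hπ, Ideal.map_span, Set.image_singleton]
  obtain ⟨ϖ, hϖ⟩ := IsDiscreteValuationRing.exists_irreducible C
  obtain ⟨eu, heu, hepos⟩ := DVR7.exists_eq_unit_mul_pow hBC hπB hϖ
  set e := Ideal.ramificationIdx' (IsLocalRing.maximalIdeal B) (IsLocalRing.maximalIdeal C) with he
  obtain ⟨β, hβ⟩ := hpow ϖ
  have hϖβ : algebraMap B C β = ϖ ^ p :=
    hinjC (by rw [map_pow, ← IsScalarTower.algebraMap_apply B C M, hβ])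
  have hβ0 : β ≠ 0 := fun h => pow_ne_zero p hϖ.ne_zero (by rw [← hϖβ, h, map_zero])
  obtain ⟨j, v, hv⟩ := IsDiscreteValuationRing.eq_unit_mul_pow_irreducible hβ0 hπB
  have hej : p = e * j := by
    have h1 : ((Units.map (algebraMap B C).toMonoidHom v * eu ^ j : Cˣ) : C) * ϖ ^ (e * j) = ((1 : Cˣ) : C) * ϖ ^ p := by
      rw [Units.val_one, one_mul, ← hϖβ, hv, map_mul, map_pow, heu, mul_pow, pow_mul]
      simp [mul_assoc]
    exact (IsDiscreteValuationRing.unit_mul_pow_congr_pow hϖ hϖ _ _ _ _ h1).symm
  rcases hp.eq_one_or_self_of_dvd e ⟨j, hej⟩ with he1 | hep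
  · left
    show (IsLocalRing.maximalIdeal A).map (algebraMap A C) = IsLocalRing.maximalIdeal C
    rw [IsScalarTower.algebraMap_eq A B C, ← Ideal.map_map, hw, hπB.maximalIdeal_eq, hϖ.maximalIdeal_eq,
      Ideal.map_span, Set.image_singleton, heu, he1, pow_one, mul_comm,
      Ideal.span_singleton_mul_right_unit eu.isUnit]
  right
  have hj1 : j = 1 := by
    rw [hep] at hej
    exact (Nat.eq_of_mul_eq_mul_left hp.pos (by rw [mul_one]; exact hej)).symm
  subst hj1
  rw [pow_one] at hv
  set π' : B := (v : B) * πB with hπ'def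
  have hπ' : Irreducible π' := (irreducible_units_mul v).2 hπB
  have hϖp : ϖ ^ p = algebraMap B C π' := by rw [← hϖβ, hv]
  haveI : FaithfulSMul C M := (faithfulSMul_iff_algebraMap_injective C M).2 hinjC
  have hcoeffϖ := EtRam7.exists_coeff hp hdeg hpow hπ' ϖ
    (by rw [← map_pow, hϖp, ← IsScalarTower.algebraMap_apply B C M])
  by_cases hrep : ∃ l : Fin p → L, algebraMap B L (v : B) = ∑ i, l i ^ p * algebraMap B L πB ^ (i : ℕ)
  · left
    obtain ⟨l, hl⟩ := hrep
    let Ω := AlgebraicClosure M
    haveI : CharP Ω p := charP_of_injective_algebraMap (algebraMap M Ω).injective p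
    obtain ⟨y, hy⟩ := IsAlgClosed.exists_pow_nat_eq (algebraMap L Ω (algebraMap B L πB)) hp.pos
    let ψ : M →ₐ[L] Ω := IsScalarTower.toAlgHom L M Ω
    have hϖy : ψ (algebraMap C M ϖ) ∈ IntermediateField.adjoin L {y} := by
      have h1 : ψ (algebraMap C M ϖ) = ∑ i, algebraMap L Ω (l i) * y ^ ((i : ℕ) + 1) := by
        apply frobenius_inj Ω p
        rw [frobenius_def, frobenius_def, ← map_pow, ← map_pow, hϖp, ← IsScalarTower.algebraMap_apply B C M,
          IsScalarTower.algebraMap_apply B L M, AlgHom.commutes, hπ'def, map_mul, hl, Finset.sum_mul,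
          map_sum, sum_pow_char]
        refine Finset.sum_congr rfl fun i _ => ?_
        rw [map_mul, map_mul, map_pow, map_pow, mul_pow, ← pow_mul, mul_comm ((i : ℕ) + 1) p, pow_mul, hy,
          pow_succ, mul_assoc]
      rw [h1]
      exact sum_mem fun i _ => mul_mem (IntermediateField.algebraMap_mem _ _)
        (pow_mem (IntermediateField.mem_adjoin_simple_self L y) _)
    have hirr : Irreducible (X ^ p - Polynomial.C (algebraMap B L π') : L[X]) :=
      X_pow_sub_C_irreducible_of_prime hp fun z => EtRam7.pow_ne_uniformizer hπ' hp z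
    have hgen : IntermediateField.adjoin L {algebraMap C M ϖ} = ⊤ := by
      refine IntermediateField.eq_of_le_of_finrank_eq le_top ?_
      rw [IntermediateField.adjoin.finrank (Algebra.IsIntegral.isIntegral _),
        ← minpoly.eq_of_irreducible_of_monic hirr (by
          rw [map_sub, map_pow, aeval_X, aeval_C, ← map_pow, hϖp, ← IsScalarTower.algebraMap_apply B L M,
            ← IsScalarTower.algebraMap_apply B C M, sub_self])
          (monic_X_pow_sub_C _ hp.ne_zero), natDegree_X_pow_sub_C, IntermediateField.finrank_top', hdeg]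
    have hle : ψ.fieldRange ≤ IntermediateField.adjoin L {y} := by
      rw [AlgHom.fieldRange_eq_map, ← hgen, IntermediateField.adjoin_map, Set.image_singleton]
      exact IntermediateField.adjoin_simple_le_iff.2 hϖy
    have hyint : IsIntegral L y := IsIntegral.of_pow hp.pos (hy ▸ isIntegral_algebraMap)
    haveI : FiniteDimensional L (IntermediateField.adjoin L {y}) := IntermediateField.adjoin.finiteDimensional hyint
    have hfin : Module.finrank L (IntermediateField.adjoin L {y}) ≤ p := by
      rw [IntermediateField.adjoin.finrank hyint]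
      have hdvd : minpoly L y ∣ X ^ p - Polynomial.C (algebraMap B L πB) := minpoly.dvd L y (by simp [hy])
      exact (natDegree_le_of_dvd hdvd (monic_X_pow_sub_C _ hp.ne_zero).ne_zero).trans natDegree_X_pow_sub_C.le
    have heq : ψ.fieldRange = IntermediateField.adjoin L {y} :=
      IntermediateField.eq_of_le_of_finrank_le hle (hfin.trans (le_of_eq (by
        rw [← hdeg]; exact (AlgEquiv.ofInjectiveField ψ).toLinearEquiv.finrank_eq)))
    obtain ⟨c₀, hc₀⟩ : y ∈ ψ.fieldRange := heq ▸ IntermediateField.mem_adjoin_simple_self L y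
    have hc₀p : c₀ ^ p = algebraMap B M πB := by
      apply ψ.injective
      show ψ (c₀ ^ p) = ψ (algebraMap B M πB)
      rw [map_pow, show ψ c₀ = y from hc₀, hy, IsScalarTower.algebraMap_apply B L M, AlgHom.commutes]
    obtain ⟨c, rfl⟩ := IsIntegrallyClosed.isIntegral_iff.1 (IsIntegral.of_pow (R := C) hp.pos
      (show IsIntegral C (c₀ ^ p) by rw [hc₀p, IsScalarTower.algebraMap_apply B C M]; exact isIntegral_algebraMap))
    refine ⟨c, hinjC ?_, eq_top_iff.2 fun x _ => ?_⟩
    · rw [map_pow, hc₀p, hπBdef, IsScalarTower.algebraMap_apply A B C, IsScalarTower.algebraMap_apply B C M]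
    obtain ⟨b, rfl⟩ := EtRam7.exists_coeff hp hdeg hpow hπB c hc₀p x
    exact sum_mem fun i _ => mul_mem (Subalgebra.algebraMap_mem _ _)
      (pow_mem (Algebra.subset_adjoin (Set.mem_singleton c)) _)
  right
  obtain ⟨m, w, t, hvw, ht⟩ := EtRam7.exists_residue_not_pth_power hp hB hπB (v : B) hrep
  haveI : CharP A p := (RingHom.charP_iff _ (IsFractionRing.injective A K) p).2 ‹_›
  haveI : CharP (IsLocalRing.ResidueField A) p := CharP.of_ringHom_of_ne_zero (IsLocalRing.residue A) p hp.ne_zero
  obtain ⟨K₁, _, _, _, _, hdeg₁, hsep, htot, r₀, b₀, b₁, -, hb₀, -, hr₀, -⟩ :=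
    S7157.result p hp A K π hπ (m + 2) (by omega) 1
  rw [pow_one] at hdeg₁ hr₀
  haveI : FiniteDimensional K K₁ := Module.finite_of_finrank_pos (hdeg₁ ▸ hp.pos)
  rw [IsScalarTower.algebraMap_eq A K K₁] at htot
  have hfield : IsField (L ⊗[K] K₁) := EtRam7.isField_tensor_of_totallyRamified hAB hw K₁ htot
  refine ⟨K₁, inferInstance, inferInstance, hdeg₁, hsep, htot, hfield,
    EtRam7.isField_tensor_of_pow_mem p hpowL hfield,
    EtRam7.isWeakSolution_of_totallyRamified A B K L hw K₁ htot, ?_⟩
  refine EtRam7.isWeakSolution_insep_step p hdeg₁ π hπB ϖ hϖ v hϖp (fun x => ?_) m w t hvw ht r₀ b₀ hb₀ hr₀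
  obtain ⟨b, rfl⟩ := hcoeffϖ x
  refine ⟨b ⟨0, hp.pos⟩, ?_⟩
  rw [← Finset.add_sum_erase _ _ (Finset.mem_univ (⟨0, hp.pos⟩ : Fin p)), pow_zero, mul_one, add_sub_cancel_left]
  refine Finset.dvd_sum fun i hi => Dvd.dvd.mul_left (dvd_pow_self _ fun h => Finset.ne_of_mem_erase hi (Fin.ext h)) _

end Groth.Agent.S7156
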