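import Groth.Statements.S7158
import Mathlib
import Groth.Agent.EtRam7.ArtinSchreier
-- import your own Groth.Agent.* helpers here

set_option autoImplicit false
universe u
open EtAlg

namespace Groth.Agent.S7158

/-- Let A be a discrete valuation ring whose fraction field K has characteristic p > 0, let ξ be an
element of K and let L = K(z) be obtained by adjoining a root z of z^p - z = ξ. Then L/K is a Galois
extension, and it falls under one of four cases: (1) L = K; (2) L/K has degree p and is unramified
with respect to A; (3) L/K has degree p and is totally ramified with respect to A (ramification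
index p); (4) exactly one valuation ring of L dominates A (so B, the integral closure of A in L, is
itself a discrete valuation ring), the extension A → B is weakly unramified, and its residue field
extension is purely inseparable of degree p. Moreover, with π a uniformizer of A: (A) if ξ lies in
A, case (1) or (2) holds; (B) if ξ = π⁻ⁿa with n > 0 prime to p and a a unit of A, case (3) holds;
(C) if ξ = π⁻ⁿa with n > 0 divisible by p and the residue class of a not a p-th power, case (4)
holds. -/
theorem result (p : ℕ) (hp : p.Prime) (A K L : Type u) [CommRing A] [IsDomain A]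
    [IsDiscreteValuationRing A] [Field K] [Algebra A K] [IsFractionRing A K] [Field L] [Algebra K L] [Algebra A L]
    [IsScalarTower A K L] [CharP K p] (π : A) (hπ : IsLocalRing.maximalIdeal A = Ideal.span {π})
    (ξ : K) (z : L) (hz : z ^ p - z = algebraMap K L ξ) (hgen : IntermediateField.adjoin K {z} = ⊤) :
    let g : A →+* L := algebraMap A L
    let case1 : Prop := Module.finrank K L = 1
    let case2 : Prop := EtRam.IsUnramifiedExt A g ∧ Module.finrank K L = p
    let case3 : Prop := EtRam.IsTotallyRamified A g ∧ Module.finrank K L = p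
    let case4 : Prop := (∃ V : ValuationSubring L, EtRam.Dominates A g V) ∧
      (∀ V V' : ValuationSubring L, EtRam.Dominates A g V → EtRam.Dominates A g V' → V = V') ∧
      ∀ (V : ValuationSubring L) (h : EtRam.Dominates A g V),
        letI : Algebra A V := (RingHom.codRestrict g V h.1).toAlgebra
        ∀ [IsLocalHom (algebraMap A V)],
          EtRam.IsWeaklyUnramified A V ∧
            IsPurelyInseparable (IsLocalRing.ResidueField A) (IsLocalRing.ResidueField V) ∧
            Module.finrank (IsLocalRing.ResidueField A) (IsLocalRing.ResidueField V) = p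
    IsGalois K L ∧ (case1 ∨ case2 ∨ case3 ∨ case4) ∧
      ((∃ a : A, algebraMap A K a = ξ) → case1 ∨ case2) ∧
      (∀ (n : ℕ) (a : Aˣ), 0 < n → ¬ p ∣ n → ξ * algebraMap A K π ^ n = algebraMap A K a → case3) ∧
      (∀ (n : ℕ) (a : A), 0 < n → p ∣ n → (∀ r : A, IsLocalRing.residue A a ≠ IsLocalRing.residue A r ^ p) →
          ξ * algebraMap A K π ^ n = algebraMap A K a → case4) := by
  intro g case1 case2 case3 case4
  haveI : Fact p.Prime := ⟨hp⟩
  have hπ' : Irreducible π := (IsDiscreteValuationRing.irreducible_iff_uniformizer π).2 hπ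
  obtain ⟨_, hgal, hfr⟩ := EtRam7.galois_of_artinSchreier hz hgen
  have hA : ∀ (ξ : K) (z : L), z ^ p - z = algebraMap K L ξ → IntermediateField.adjoin K {z} = ⊤ →
      (∃ a : A, algebraMap A K a = ξ) → case1 ∨ case2 := by
    rintro ξ z hz hgen ⟨a, rfl⟩
    exact EtRam7.as_integral π hπ' hz hgen
  have hB : ∀ (ξ : K) (z : L), z ^ p - z = algebraMap K L ξ → IntermediateField.adjoin K {z} = ⊤ →
      ∀ (n : ℕ) (a : A), 0 < n → ¬ p ∣ n → IsUnit a → ξ * algebraMap A K π ^ n = algebraMap A K a → case3 :=
    fun ξ z hz hgen n a hn hpn ha h => EtRam7.as_totallyRamified π hπ' hn hpn ha hz hgen h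
  have hC : ∀ (ξ : K) (z : L), z ^ p - z = algebraMap K L ξ → IntermediateField.adjoin K {z} = ⊤ →
      ∀ (n : ℕ) (a : A), 0 < n → p ∣ n → (∀ r : A, IsLocalRing.residue A a ≠ IsLocalRing.residue A r ^ p) →
        ξ * algebraMap A K π ^ n = algebraMap A K a → case4 :=
    fun ξ z hz hgen n a hn hpn ha h => EtRam7.as_inseparable π hπ' hn hpn ha hz hgen h
  have hπK : algebraMap A K π ≠ 0 := fun h => hπ'.ne_zero (IsFractionRing.injective A K (h.trans (map_zero _).symm))
  have hmain : ∀ (n : ℕ) (ξ : K) (z : L) (a : A), z ^ p - z = algebraMap K L ξ →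
      IntermediateField.adjoin K {z} = ⊤ → ξ * algebraMap A K π ^ n = algebraMap A K a →
        case1 ∨ case2 ∨ case3 ∨ case4 := by
    intro n
    induction n with
    | zero =>
      intro ξ z a hz hgen h
      rcases hA ξ z hz hgen ⟨a, by rw [← h, pow_zero, mul_one]⟩ with h | h
      · exact Or.inl h
      · exact Or.inr (Or.inl h)
    | succ m ih =>
      intro ξ z a hz hgen h
      by_cases hu : IsUnit a
      swap
      · have hmem : a ∈ IsLocalRing.maximalIdeal A := hu
        rw [hπ] at hmem
        obtain ⟨c, rfl⟩ := Ideal.mem_span_singleton.1 hmem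
        refine ih ξ z c hz hgen (mul_right_cancel₀ hπK ?_)
        rw [mul_assoc, ← pow_succ, h, map_mul, mul_comm]
      by_cases hpn : p ∣ m + 1
      swap
      · exact Or.inr (Or.inr (Or.inl (hB ξ z hz hgen _ a m.succ_pos hpn hu h)))
      by_cases hr : ∀ r : A, IsLocalRing.residue A a ≠ IsLocalRing.residue A r ^ p
      · exact Or.inr (Or.inr (Or.inr (hC ξ z hz hgen _ a m.succ_pos hpn hr h)))
      push Not at hr
      obtain ⟨r, hr⟩ := hr
      obtain ⟨c, hc⟩ : π ∣ a - r ^ p := by
        rw [← Ideal.mem_span_singleton, ← hπ, ← IsLocalRing.residue_eq_zero_iff, map_sub, map_pow, hr, sub_self]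
      obtain ⟨q, hq⟩ := hpn
      have hp2 := hp.two_le
      have hq1 : q ≠ 0 := fun h0 => by rw [h0, mul_zero] at hq; omega
      have hqm : q + 1 ≤ m + 1 := by
        rw [hq]
        calc q + 1 ≤ q + q := by omega
          _ = 2 * q := by omega
          _ ≤ p * q := Nat.mul_le_mul_right q hp2
      haveI : CharP L p := charP_of_injective_algebraMap (algebraMap K L).injective p
      set t : K := algebraMap A K r / algebraMap A K π ^ q with ht
      refine ih (ξ - t ^ p + t) (z - algebraMap K L t) (c + r * π ^ (m - q)) ?_ ?_ ?_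
      · rw [sub_pow_char, map_add, map_sub, map_pow, ← hz]
        ring
      · refine top_le_iff.1 ((le_of_eq hgen.symm).trans (IntermediateField.adjoin_le_iff.2 ?_))
        intro w hw
        rw [Set.mem_singleton_iff.1 hw]
        have := add_mem (IntermediateField.mem_adjoin_simple_self K (z - algebraMap K L t))
          (IntermediateField.algebraMap_mem (IntermediateField.adjoin K {z - algebraMap K L t}) t)
        rwa [sub_add_cancel] at this
      · apply mul_right_cancel₀ hπK
        rw [mul_assoc, ← pow_succ, add_mul, sub_mul, h, ht, div_pow, ← pow_mul, mul_comm q p, ← hq,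
          div_mul_cancel₀ _ (pow_ne_zero _ hπK), show m + 1 = q + (m - q + 1) by omega, pow_add,
          ← mul_assoc, div_mul_cancel₀ _ (pow_ne_zero _ hπK), ← map_pow, ← map_pow, ← map_mul, ← map_mul,
          ← map_sub, ← map_add, hc]
        congr 1
        ring
  refine ⟨hgal, ?_, hA ξ z hz hgen, fun n a hn hpn h => hB ξ z hz hgen n a hn hpn a.isUnit h, hC ξ z hz hgen⟩
  obtain ⟨a, b, hb, rfl⟩ := IsFractionRing.div_surjective (A := A) ξ
  obtain ⟨n, v, rfl⟩ := IsDiscreteValuationRing.eq_unit_mul_pow_irreducible (nonZeroDivisors.ne_zero hb) hπ'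
  refine hmain n _ z (a * ((v⁻¹ : Aˣ) : A)) hz hgen ?_
  have hv : algebraMap A K (v : A) ≠ 0 := (v.isUnit.map _).ne_zero
  rw [map_mul, map_mul, map_pow, map_units_inv]
  field_simp

end Groth.Agent.S7158
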