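import Groth.Statements.S7159
import Mathlib
import Groth.Agent.EtRam7.Kummer
-- import your own Groth.Agent.* helpers here

set_option autoImplicit false
universe u
open EtAlg

namespace Groth.Agent.S7159

open Polynomial in
/-- Let A be a discrete valuation ring whose fraction field K has characteristic 0 and whose residue
field has characteristic p, and suppose A contains an element ζ with 1 + ζ + ... + ζ^(p-1) = 0 (a
primitive p-th root of unity); set w = 1 - ζ and let P in A[t] be the polynomial with w^p·P(t) = (1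
+ wt)^p - 1. Let ξ be an element of K and let L = K(z) be obtained by adjoining a root z of P(z) =
ξ. Then L/K is a Galois extension, and it falls under one of four cases: (1) L = K; (2) L/K has
degree p and is unramified with respect to A; (3) L/K has degree p and is totally ramified with
respect to A (ramification index p); (4) exactly one valuation ring of L dominates A (so B, the
integral closure of A in L, is itself a discrete valuation ring), the extension A → B is weakly
unramified, and its residue field extension is purely inseparable of degree p. Moreover, with π a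
uniformizer of A: (A) if ξ lies in A, case (1) or (2) holds; (B) if ξ = π⁻ⁿa with n > 0 prime to p
and a a unit of A, case (3) holds; (C) if ξ = π⁻ⁿa with n > 0 divisible by p and the residue class
of a not a p-th power, case (4) holds. -/
theorem result (p : ℕ) (hp : p.Prime) (A K L : Type u) [CommRing A] [IsDomain A]
    [IsDiscreteValuationRing A] [Field K] [Algebra A K] [IsFractionRing A K] [Field L] [Algebra K L] [Algebra A L]
    [IsScalarTower A K L] [CharZero K] [CharP (IsLocalRing.ResidueField A) p] (ζ : A)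
    (hζ : aeval ζ (cyclotomic p ℤ) = 0) (P : A[X]) (hP : C ((1 - ζ) ^ p) * P = (1 + C (1 - ζ) * X) ^ p - 1) (π : A) (hπ : IsLocalRing.maximalIdeal A = Ideal.span {π})
    (ξ : K) (z : L) (hz : aeval z P = algebraMap K L ξ) (hgen : IntermediateField.adjoin K {z} = ⊤) :
    let g : A →+* L := algebraMap A L
    let case1 : Prop := Module.finrank K L = 1
    let case2 : Prop := EtRam.IsUnramifiedExt A g ∧ Module.finrank K L = p
    let case3 : Prop := EtRam.IsTotallyRamified A g ∧ Module.finrank K L = p
    let case4 : Prop := (∃ V : ValuationSubring L, EtRam.Dominates A g V) ∧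
      (∀ V V' : ValuationSubring L, EtRam.Dominates A g V → EtRam.Dominates A g V' → V = V') ∧
      ∀ (V : ValuationSubring L) (h : EtRam.Dominates A g V),
        letI : Algebra A V := (RingHom.codRestrict g V h.1).toAlgebra
        ∀ [IsLocalHom (algebraMap A V)],
          EtRam.IsWeaklyUnramified A V ∧
            IsPurelyInseparable (IsLocalRing.ResidueField A) (IsLocalRing.ResidueField V) ∧
            Module.finrank (IsLocalRing.ResidueField A) (IsLocalRing.ResidueField V) = p
    IsGalois K L ∧ (case1 ∨ case2 ∨ case3 ∨ case4) ∧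
      ((∃ a : A, algebraMap A K a = ξ) → case1 ∨ case2) ∧
      (∀ (n : ℕ) (a : Aˣ), 0 < n → ¬ p ∣ n → ξ * algebraMap A K π ^ n = algebraMap A K a → case3) ∧
      (∀ (n : ℕ) (a : A), 0 < n → p ∣ n → (∀ r : A, IsLocalRing.residue A a ≠ IsLocalRing.residue A r ^ p) →
          ξ * algebraMap A K π ^ n = algebraMap A K a → case4) := by
  intro g case1 case2 case3 case4
  haveI : Fact p.Prime := ⟨hp⟩
  haveI : CharZero A := (algebraMap A K).charZero
  have hζ' := EtRam7.isPrimitiveRoot_of_aeval (p := p) hζ
  obtain ⟨hlm, c₀, hc₀⟩ := EtRam7.lambda_facts hζ'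
  have hl : 1 - ζ ≠ 0 := sub_ne_zero.2 (hζ'.ne_one hp.one_lt).symm
  generalize (1 : A) - ζ = l at hP hlm hc₀ hl
  obtain ⟨hm, hd⟩ := EtRam7.kummerPoly_facts hl hP
  have hπ' : Irreducible π := (IsDiscreteValuationRing.irreducible_iff_uniformizer π).2 hπ
  have hA : ∀ (ξ : K) (z : L), aeval z P = algebraMap K L ξ → IntermediateField.adjoin K {z} = ⊤ →
      (∃ a : A, algebraMap A K a = ξ) → case1 ∨ case2 := by
    rintro ξ z hz hgen ⟨a, rfl⟩
    exact EtRam7.kummer_integral hl hP hζ' hlm hc₀ π hπ' hz hgen
  have hB : ∀ (ξ : K) (z : L), aeval z P = algebraMap K L ξ → IntermediateField.adjoin K {z} = ⊤ →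
      ∀ (n : ℕ) (a : A), 0 < n → ¬ p ∣ n → IsUnit a → ξ * algebraMap A K π ^ n = algebraMap A K a → case3 :=
    fun ξ z hz hgen n a hn hpn ha h => by
      obtain ⟨_, hfr⟩ := EtRam7.finite_of_kummer hl hP hz hgen
      exact EtRam7.monic_totallyRamified hm hd π hπ' hn hpn ha hz hfr h
  have hC : ∀ (ξ : K) (z : L), aeval z P = algebraMap K L ξ → IntermediateField.adjoin K {z} = ⊤ →
      ∀ (n : ℕ) (a : A), 0 < n → p ∣ n → (∀ r : A, IsLocalRing.residue A a ≠ IsLocalRing.residue A r ^ p) →
        ξ * algebraMap A K π ^ n = algebraMap A K a → case4 :=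
    fun ξ z hz hgen n a hn hpn ha h => by
      obtain ⟨_, hfr⟩ := EtRam7.finite_of_kummer hl hP hz hgen
      exact EtRam7.monic_inseparable hm hd π hπ' hn hpn ha hz hfr h
  have hinj := IsFractionRing.injective A K
  have hπK : algebraMap A K π ≠ 0 := fun h => hπ'.ne_zero (hinj (h.trans (map_zero _).symm))
  have hlK : algebraMap A K l ≠ 0 := fun h => hl (hinj (h.trans (map_zero _).symm))
  have hlL : algebraMap A L l ≠ 0 := by
    rw [IsScalarTower.algebraMap_apply A K L]; simpa using hlK
  have hmain : ∀ (n : ℕ) (ξ : K) (z : L) (a : A), aeval z P = algebraMap K L ξ →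
      IntermediateField.adjoin K {z} = ⊤ → ξ * algebraMap A K π ^ n = algebraMap A K a →
      (∃ b : Aˣ, 1 + algebraMap A K l ^ p * ξ = algebraMap A K b) → case1 ∨ case2 ∨ case3 ∨ case4 := by
    intro n
    induction n with
    | zero =>
      intro ξ z a hz hgen h _
      rcases hA ξ z hz hgen ⟨a, by rw [← h, pow_zero, mul_one]⟩ with h | h
      · exact Or.inl h
      · exact Or.inr (Or.inl h)
    | succ m ih =>
      intro ξ z a hz hgen h hb
      by_cases hu : IsUnit a
      swap
      · have hmem : a ∈ IsLocalRing.maximalIdeal A := hu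
        rw [hπ] at hmem
        obtain ⟨c, rfl⟩ := Ideal.mem_span_singleton.1 hmem
        refine ih ξ z c hz hgen (mul_right_cancel₀ hπK ?_) hb
        rw [mul_assoc, ← pow_succ, h, map_mul, mul_comm]
      by_cases hpn : p ∣ m + 1
      swap
      · exact Or.inr (Or.inr (Or.inl (hB ξ z hz hgen _ a m.succ_pos hpn hu h)))
      by_cases hr : ∀ r : A, IsLocalRing.residue A a ≠ IsLocalRing.residue A r ^ p
      · exact Or.inr (Or.inr (Or.inr (hC ξ z hz hgen _ a m.succ_pos hpn hr h)))
      push Not at hr
      obtain ⟨r, hr⟩ := hr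
      obtain ⟨c₁, hc₁⟩ : π ∣ a - r ^ p := by
        rw [← Ideal.mem_span_singleton, ← hπ, ← IsLocalRing.residue_eq_zero_iff, map_sub, map_pow, hr, sub_self]
      obtain ⟨q, hq⟩ := hpn
      obtain ⟨b, hb⟩ := hb
      have hba : ((b : A) - 1) * π ^ (m + 1) = l ^ p * a := by
        apply hinj
        rw [map_mul, map_sub, map_one, map_pow, map_mul, map_pow, ← hb, ← h]
        ring
      obtain ⟨c, hc⟩ : π ^ q ∣ l := by
        rw [← IsIntegrallyClosed.pow_dvd_pow_iff hp.ne_zero, ← pow_mul, mul_comm q p, ← hq]
        exact (IsUnit.dvd_mul_right hu).1 ⟨(b : A) - 1, by rw [← hba, mul_comm]⟩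
      have hbc : (b : A) = 1 + c ^ p * a := by
        rw [← sub_eq_iff_eq_add']
        refine mul_right_cancel₀ (pow_ne_zero (m + 1) hπ'.ne_zero) (hba.trans ?_)
        rw [hc, hq, mul_pow, ← pow_mul, mul_comm q p]
        ring
      have hg : IsUnit (1 + c * r) := by
        refine IsLocalRing.residue_ne_zero_iff_isUnit _ |>.1 fun h0 => ?_
        refine (IsLocalRing.residue_ne_zero_iff_isUnit _).2 b.isUnit ?_
        rw [hbc, map_add, map_one, map_mul, map_pow, hr, ← mul_pow, ← map_mul, ← one_pow p, ← add_pow_char,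
          ← map_one (IsLocalRing.residue A), ← map_add, h0, zero_pow hp.ne_zero]
      set g₁ : A := 1 + c * r with hg₁
      have hgK : algebraMap A K g₁ ≠ 0 := (hg.map _).ne_zero
      set t : K := algebraMap A K r / algebraMap A K π ^ q with ht
      have hlt : algebraMap A K l * t = algebraMap A K (c * r) := by
        rw [ht, hc, map_mul, map_mul, map_pow]; field_simp
      obtain ⟨e₁, he₁⟩ : π ∣ (P.scaleRoots (π ^ q)).eval r - r ^ p := by
        have hs : (P.scaleRoots (π ^ q)).Monic := (Polynomial.monic_scaleRoots_iff _).2 hm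
        conv => arg 2; arg 1; rw [hs.as_sum]
        rw [Polynomial.natDegree_scaleRoots, hd, eval_add, eval_pow, eval_X, eval_finsetSum, add_sub_cancel_left]
        refine Finset.dvd_sum fun i hi => ?_
        rw [eval_mul, eval_C, coeff_scaleRoots, hd]
        refine dvd_mul_of_dvd_left (dvd_mul_of_dvd_right ?_ _) _
        rw [← pow_mul]
        refine dvd_pow_self π (Nat.mul_ne_zero ?_ ?_)
        · intro h0; rw [h0, mul_zero] at hq; omega
        · have := Finset.mem_range.1 hi; omega
      have hscale : aeval t P * algebraMap A K π ^ (m + 1) = algebraMap A K (r ^ p + π * e₁) := by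
        rw [← he₁, add_sub_cancel, ← eval₂_at_apply,
          show algebraMap A K r = algebraMap A K (π ^ q) * t by rw [ht, map_pow]; field_simp,
          scaleRoots_eval₂_mul, hd, ← aeval_def, map_pow, ← pow_mul, mul_comm q p, ← hq, mul_comm]
      set ξ' : K := (ξ - aeval t P) / algebraMap A K g₁ ^ p with hξ'
      have hkey := EtRam7.aeval_kummerPoly (R := K) hP t
      rw [hlt, ← map_one (algebraMap A K), ← map_add, ← hg₁, map_one] at hkey
      have hb' : 1 + algebraMap A K l ^ p * ξ' = algebraMap A K ↑(b * (hg.unit ^ p)⁻¹) := by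
        rw [hξ', Units.val_mul, map_mul, map_units_inv, Units.val_pow_eq_pow_val, IsUnit.unit_spec, map_pow, ← hb]
        field_simp
        linear_combination -hkey
      refine ih ξ' ((z - algebraMap K L t) / algebraMap A L g₁)
        ((c₁ - e₁) * ↑(hg.unit ^ p)⁻¹) ?_ ?_ ?_ ⟨_, hb'⟩
      · have hgL : algebraMap A L g₁ ≠ 0 := (hg.map _).ne_zero
        apply mul_left_cancel₀ (pow_ne_zero p hlL)
        rw [EtRam7.aeval_kummerPoly hP]
        have hw : 1 + algebraMap A L l * ((z - algebraMap K L t) / algebraMap A L g₁) =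
            (1 + algebraMap A L l * z) / algebraMap A L g₁ := by
          have : algebraMap A L g₁ = 1 + algebraMap A L l * algebraMap K L t := by
            rw [IsScalarTower.algebraMap_apply A K L l, ← map_mul, hlt, ← IsScalarTower.algebraMap_apply, hg₁,
              map_add, map_one]
          field_simp
          linear_combination this
        have h3 := EtRam7.aeval_kummerPoly (R := L) hP z
        rw [hz] at h3
        have h4 := congrArg (algebraMap K L) hkey
        simp only [map_mul, map_pow, map_sub, map_one, ← IsScalarTower.algebraMap_apply] at h4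
        rw [hw, hξ', div_pow, map_div₀, map_sub, map_pow, ← IsScalarTower.algebraMap_apply]
        field_simp
        linear_combination -h3 + h4
      · refine top_le_iff.1 ((le_of_eq hgen.symm).trans (IntermediateField.adjoin_le_iff.2 ?_))
        intro w hw
        rw [Set.mem_singleton_iff.1 hw]
        set M := IntermediateField.adjoin K {(z - algebraMap K L t) / algebraMap A L g₁}
        have h1 := add_mem (mul_mem (IntermediateField.mem_adjoin_simple_self K ((z - algebraMap K L t) / algebraMap A L g₁))
          (IntermediateField.algebraMap_mem M (algebraMap A K g₁))) (IntermediateField.algebraMap_mem M t)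
        rwa [← IsScalarTower.algebraMap_apply, div_mul_cancel₀ _ (hg.map _).ne_zero, sub_add_cancel] at h1
      · apply mul_right_cancel₀ hπK
        rw [mul_assoc, ← pow_succ, hξ', div_mul_eq_mul_div, sub_mul, h, hscale, ← map_sub, map_mul, map_units_inv,
          Units.val_pow_eq_pow_val, IsUnit.unit_spec, map_pow,
          show a - (r ^ p + π * e₁) = π * (c₁ - e₁) by linear_combination hc₁, map_mul]
        field_simp
  obtain ⟨_, hfr⟩ := EtRam7.finite_of_kummer hl hP hz hgen
  refine ⟨(EtRam7.galois_of_kummer hl hP hζ' hz hgen).1, ?_, hA ξ z hz hgen,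
    fun n a hn hpn h => hB ξ z hz hgen n a hn hpn a.isUnit h, hC ξ z hz hgen⟩
  set u : K := 1 + algebraMap A K l ^ p * ξ with hu
  set w : L := 1 + algebraMap A L l * z with hw
  have hwu : w ^ p = algebraMap K L u := by
    have h3 := EtRam7.aeval_kummerPoly (R := L) hP z
    rw [hz] at h3
    rw [hw, hu, map_add, map_one, map_mul, map_pow, ← IsScalarTower.algebraMap_apply, h3]
    ring
  have hzw : z = (w - 1) / algebraMap A L l := by rw [hw]; field_simp; ring
  by_cases hu0 : u = 0
  · refine Or.inl ?_
    have hw0 : w = 0 := eq_zero_of_pow_eq_zero (n := p) (by rw [hwu, hu0, map_zero])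
    have hzb : z ∈ (⊥ : IntermediateField K L) := IntermediateField.mem_bot.2
      ⟨-(algebraMap A K l)⁻¹, by rw [hzw, hw0, map_neg, map_inv₀, ← IsScalarTower.algebraMap_apply]; ring⟩
    rw [IntermediateField.adjoin_simple_eq_bot_iff.2 hzb] at hgen
    exact IntermediateField.bot_eq_top_iff_finrank_eq_one.1 hgen
  obtain ⟨a, d, hd₀, hξ⟩ := IsFractionRing.div_surjective (A := A) ξ
  obtain ⟨n, v₀, hv₀⟩ := IsDiscreteValuationRing.eq_unit_mul_pow_irreducible (nonZeroDivisors.ne_zero hd₀) hπ'
  set a' : A := a * ((v₀⁻¹ : Aˣ) : A)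
  have hξn : ξ * algebraMap A K π ^ n = algebraMap A K a' := by
    have hv : algebraMap A K (v₀ : A) ≠ 0 := (v₀.isUnit.map _).ne_zero
    rw [← hξ, hv₀, map_mul, map_mul, map_pow, map_units_inv]
    field_simp
  have huA : u * algebraMap A K π ^ n = algebraMap A K (π ^ n + l ^ p * a') := by
    rw [hu, add_mul, one_mul, mul_assoc, hξn]
    simp only [a', map_add, map_mul, map_pow]
  obtain ⟨m, v, hv⟩ := IsDiscreteValuationRing.eq_unit_mul_pow_irreducible
    (show π ^ n + l ^ p * a' ≠ 0 from fun h0 => by
      rw [h0, map_zero] at huA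
      exact hu0 ((mul_eq_zero.1 huA).resolve_right (pow_ne_zero _ hπK))) hπ'
  set k : ℤ := (m : ℤ) - n with hk
  have huk : u = algebraMap A K v * algebraMap A K π ^ k := by
    refine mul_right_cancel₀ (pow_ne_zero n hπK) ?_
    rw [huA, hv, map_mul, map_pow, mul_assoc, ← zpow_natCast _ n, ← zpow_add₀ hπK, hk, sub_add_cancel, zpow_natCast]
  by_cases hpk : (p : ℤ) ∣ k
  swap
  · refine Or.inr (Or.inr (Or.inl ?_))
    obtain ⟨x, y, hxy⟩ := (Nat.prime_iff_prime_int.1 hp).coprime_iff_not_dvd.2 hpk
    refine EtRam7.isTotallyRamified_of_elt π hπ' hp.pos (w ^ y * algebraMap A L π ^ x) hfr fun V hV => ?_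
    have hvw : V.valuation w ^ (p : ℤ) = V.valuation (algebraMap A L π) ^ k := by
      rw [zpow_natCast, ← map_pow, hwu, huk, map_mul, map_zpow₀, map_mul, map_zpow₀,
        ← IsScalarTower.algebraMap_apply, ← IsScalarTower.algebraMap_apply,
        EtRam7.valuation_eq_one_of_isUnit hV v.isUnit, one_mul]
    have hπv : V.valuation (algebraMap A L π) ≠ 0 := by
      rw [Valuation.ne_zero_iff, IsScalarTower.algebraMap_apply A K L]; simpa using hπK
    rw [← zpow_natCast, map_mul, map_zpow₀, map_zpow₀, mul_zpow, ← zpow_mul, ← zpow_mul, mul_comm y, zpow_mul, hvw,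
      ← zpow_mul, ← zpow_add₀ hπv, show k * y + x * (p : ℤ) = 1 by linear_combination hxy, zpow_one]
  obtain ⟨j, hj⟩ := hpk
  obtain ⟨e, ε, hε⟩ := IsDiscreteValuationRing.eq_unit_mul_pow_irreducible hl hπ'
  set w' : L := w / algebraMap A L π ^ j with hw'
  have hπL : algebraMap A L π ≠ 0 := by
    rw [IsScalarTower.algebraMap_apply A K L]; simpa using hπK
  have hw'p : w' ^ p = algebraMap A L v := by
    rw [hw', div_pow, hwu, huk, map_mul, map_zpow₀, ← IsScalarTower.algebraMap_apply,
      ← IsScalarTower.algebraMap_apply, hj, ← zpow_natCast (algebraMap A L π ^ j) p, ← zpow_mul, mul_comm j,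
      mul_div_cancel_right₀ _ (zpow_ne_zero _ hπL)]
  have hεK : algebraMap A K (ε : A) ≠ 0 := (ε.isUnit.map _).ne_zero
  refine hmain (p * e) ((algebraMap A K v - 1) / algebraMap A K l ^ p) ((w' - 1) / algebraMap A L l)
    (((v : A) - 1) * ((ε⁻¹ : Aˣ) : A) ^ p) ?_ ?_ ?_ ⟨v, ?_⟩
  · apply mul_left_cancel₀ (pow_ne_zero p hlL)
    rw [EtRam7.aeval_kummerPoly hP, map_div₀, map_sub, map_one, map_pow, ← IsScalarTower.algebraMap_apply,
      ← IsScalarTower.algebraMap_apply, mul_div_cancel₀ _ hlL, mul_div_cancel₀ _ (pow_ne_zero p hlL),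
      add_sub_cancel, hw'p]
  · refine top_le_iff.1 ((le_of_eq hgen.symm).trans (IntermediateField.adjoin_le_iff.2 ?_))
    intro x hx
    rw [Set.mem_singleton_iff.1 hx]
    set M := IntermediateField.adjoin K {(w' - 1) / algebraMap A L l}
    have hlM : algebraMap A L l ∈ M := by
      rw [IsScalarTower.algebraMap_apply A K L]; exact M.algebraMap_mem _
    have hπM : algebraMap A L π ∈ M := by
      rw [IsScalarTower.algebraMap_apply A K L]; exact M.algebraMap_mem _
    have h1 : w' ∈ M := by
      have := add_mem (mul_mem (IntermediateField.mem_adjoin_simple_self K ((w' - 1) / algebraMap A L l)) hlM) (one_mem M)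
      rwa [div_mul_cancel₀ _ hlL, sub_add_cancel] at this
    have h2 : w ∈ M := by
      have := mul_mem h1 (zpow_mem hπM j)
      rwa [hw', div_mul_cancel₀ _ (zpow_ne_zero _ hπL)] at this
    rw [hzw]
    exact div_mem (sub_mem h2 (one_mem M)) hlM
  · rw [hε, map_mul, map_pow, map_mul, map_sub, map_one, map_pow, map_units_inv, inv_pow]
    field_simp
    ring
  · rw [mul_div_cancel₀ _ (pow_ne_zero p hlK)]
    ring

end Groth.Agent.S7159
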