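import Groth.Statements.S7160
import Mathlib.Algebra.Homology.ShortComplex.Linear
import Mathlib.Algebra.Homology.DerivedCategory.Linear
import Mathlib.Algebra.Homology.DerivedCategory.HomologySequence
import Mathlib.Algebra.Homology.Linear
import Mathlib.Algebra.Category.ModuleCat.Abelian

set_option autoImplicit false
universe u
open CategoryTheory CategoryTheory.Pretriangulated
attribute [local instance] HasDerivedCategory.standard
open CAlg

namespace Groth.Agent.S7160

/-- Let R be a ring, f an element of R, M an object of D(R) and C the cone of f : M → M. Suppose that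
H^i(M)_f = 0 whenever i < 0 (every element of H^i(M) is killed by a power of f) and that H^i(C) = 0
whenever i < -1. Then H^i(M) vanishes for every i < 0. -/
theorem result (R : Type u) [CommRing R] (f : R) (M C : Dual.D R)
    (g : M ⟶ C) (h : C ⟶ M⟦(1 : ℤ)⟧) (hT : Triangle.mk (f • 𝟙 M) g h ∈ distinguishedTriangles)
    (hloc : ∀ i : ℤ, i < 0 → ∀ x : Dual.HD R M i, ∃ n : ℕ, f ^ n • x = 0)
    (hC : ∀ i : ℤ, i < -1 → Subsingleton (Dual.HD R C i)) :
    ∀ i : ℤ, i < 0 → Subsingleton (Dual.HD R M i) := by
  intro i hi
  let H := DerivedCategory.homologyFunctor (ModuleCat.{u} R) 0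
  have hex := DerivedCategory.HomologySequence.exact₁ _ hT (i - 1) i (by omega)
  have hz : Subsingleton (Dual.HD R C (i - 1)) := hC (i - 1) (by omega)
  have hmono : Mono ((DerivedCategory.homologyFunctor (ModuleCat.{u} R) i).map (f • 𝟙 M)) := by
    refine hex.mono_g ?_
    exact (@ModuleCat.isZero_of_subsingleton R _ _ hz).eq_of_src _ _
  have hQ : (DerivedCategory.homologyFunctor (ModuleCat.{u} R) i).map (f • 𝟙 M) =
      f • 𝟙 ((DerivedCategory.homologyFunctor (ModuleCat.{u} R) i).obj M) := by
    let e : DerivedCategory.Q.obj (DerivedCategory.Q.objPreimage M) ≅ M :=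
      DerivedCategory.Q.objObjPreimageIso M
    let F := DerivedCategory.homologyFunctorFactors (ModuleCat.{u} R) i
    have h1 : f • 𝟙 M = e.inv ≫ DerivedCategory.Q.map (f • 𝟙 _) ≫ e.hom := by
      rw [Functor.map_smul, CategoryTheory.Functor.map_id, Linear.smul_comp, Category.id_comp,
        Linear.comp_smul, e.inv_hom_id]
    have h2 : (DerivedCategory.homologyFunctor (ModuleCat.{u} R) i).map
        (DerivedCategory.Q.map (f • 𝟙 (DerivedCategory.Q.objPreimage M))) =
        f • 𝟙 _ := by
      rw [← cancel_epi (F.inv.app _)]
      refine (F.inv.naturality _).symm.trans ?_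
      change HomologicalComplex.homologyMap _ i ≫ _ = _
      have h3 : HomologicalComplex.homologyMap (f • 𝟙 (DerivedCategory.Q.objPreimage M)) i =
          f • 𝟙 _ := by
        change ShortComplex.homologyMap ((HomologicalComplex.shortComplexFunctor (ModuleCat.{u} R)
          (ComplexShape.up ℤ) i).map _) = _
        rw [show (HomologicalComplex.shortComplexFunctor (ModuleCat.{u} R) (ComplexShape.up ℤ) i).map
            (f • 𝟙 (DerivedCategory.Q.objPreimage M)) = f • 𝟙 ((HomologicalComplex.shortComplexFunctor
              (ModuleCat.{u} R) (ComplexShape.up ℤ) i).obj (DerivedCategory.Q.objPreimage M))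
            from by ext <;> rfl,
          ShortComplex.homologyMap_smul, ShortComplex.homologyMap_id]
        rfl
      rw [h3, Linear.smul_comp, Category.id_comp, Linear.comp_smul]
      exact congrArg (f • ·) (Category.comp_id _).symm
    rw [h1, Functor.map_comp, Functor.map_comp, h2, Linear.smul_comp, Category.id_comp,
      Linear.comp_smul, ← Functor.map_comp, e.inv_hom_id, CategoryTheory.Functor.map_id]
  rw [hQ, ModuleCat.mono_iff_injective] at hmono
  refine subsingleton_of_forall_eq 0 fun x => ?_
  obtain ⟨n, hn⟩ := hloc i hi x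
  induction n with
  | zero => simpa using hn
  | succ k ih =>
    refine ih (hmono ?_)
    rw [pow_succ', mul_smul] at hn
    change f • (f ^ k • x) = f • (0 : Dual.HD R M i)
    rw [hn, smul_zero]


end Groth.Agent.S7160
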