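import Groth.Statements.S7161
import Groth.Agent.TorBridge.LES
import Mathlib.RingTheory.Filtration

set_option autoImplicit false
universe u
open CategoryTheory
open CAlg

namespace Groth.Agent.S7161
open CategoryTheory Limits MonoidalCategory

/-- `Tor_p(f, N)`. -/
noncomputable abbrev TN {A : Type u} [CommRing A] {X Y : ModuleCat.{u} A} (f : X ⟶ Y) (N : ModuleCat.{u} A)
    (p : ℕ) : ((Groth.Agent.TorBridge.tenF X).leftDerived p).obj N ⟶
      ((Groth.Agent.TorBridge.tenF Y).leftDerived p).obj N :=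
  ((Tor (ModuleCat.{u} A) p).map f).app N

/-- Tensoring a fixed resolution. -/
noncomputable abbrev cx {A : Type u} [CommRing A] (X : ModuleCat.{u} A) {N : ModuleCat.{u} A}
    (P : ProjectiveResolution N) : ChainComplex (ModuleCat.{u} A) ℕ :=
  ((Groth.Agent.TorBridge.tenF X).mapHomologicalComplex _).obj P.complex

/-- The map of tensored resolutions. -/
noncomputable abbrev cxMap {A : Type u} [CommRing A] {X Y : ModuleCat.{u} A} (f : X ⟶ Y) {N : ModuleCat.{u} A}
    (P : ProjectiveResolution N) : cx X P ⟶ cx Y P :=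
  (NatTrans.mapHomologicalComplex ((tensoringLeft (ModuleCat.{u} A)).map f) _).app P.complex

theorem TN_eq {A : Type u} [CommRing A] {X Y : ModuleCat.{u} A} (f : X ⟶ Y) (N : ModuleCat.{u} A)
    (P : ProjectiveResolution N) (p : ℕ) :
    TN f N p = (P.isoLeftDerivedObj (Groth.Agent.TorBridge.tenF X) p).hom ≫
      (HomologicalComplex.homologyFunctor _ _ p).map (cxMap f P) ≫
        (P.isoLeftDerivedObj (Groth.Agent.TorBridge.tenF Y) p).inv :=
  ProjectiveResolution.leftDerived_app_eq ((tensoringLeft (ModuleCat.{u} A)).map f) P p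

theorem TN_comp {A : Type u} [CommRing A] {X Y Z : ModuleCat.{u} A} (f : X ⟶ Y) (g : Y ⟶ Z)
    (N : ModuleCat.{u} A) (p : ℕ) : TN (f ≫ g) N p = TN f N p ≫ TN g N p := by
  show ((Tor (ModuleCat.{u} A) p).map (f ≫ g)).app N = _
  rw [Functor.map_comp, NatTrans.comp_app]
  rfl

theorem TN_zero {A : Type u} [CommRing A] (X Y : ModuleCat.{u} A) (N : ModuleCat.{u} A) (p : ℕ) :
    TN (0 : X ⟶ Y) N p = 0 := by
  rw [TN_eq _ N (ProjectiveResolution.of N) p]
  rw [show cxMap (0 : X ⟶ Y) (ProjectiveResolution.of N) = 0 from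
    HomologicalComplex.hom_ext _ _ fun j => ModuleCat.hom_ext (LinearMap.rTensor_zero _)]
  rw [Functor.map_zero, zero_comp, comp_zero]

theorem ten_smul {A : Type u} [CommRing A] (M X : ModuleCat.{u} A) (a : A) :
    ((tensoringLeft (ModuleCat.{u} A)).map (a • 𝟙 M)).app X =
      (Groth.Agent.TorBridge.tenF M).map (a • 𝟙 X) :=
  ModuleCat.hom_ext (TensorProduct.ext' fun m x => TensorProduct.smul_tmul a m x)

theorem TN_smul_id {A : Type u} [CommRing A] (M : ModuleCat.{u} A) (N : ModuleCat.{u} A) (a : A)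
    (ha : ∀ y : N, a • y = 0) (p : ℕ) : TN (a • 𝟙 M) N p = 0 := by
  let P := ProjectiveResolution.of N
  have h0 : a • 𝟙 N = 0 := ModuleCat.hom_ext (LinearMap.ext ha)
  have h1 := Functor.leftDerived_map_eq (Groth.Agent.TorBridge.tenF M) p (f := a • 𝟙 N) (P := P) (Q := P)
    (a • 𝟙 P.complex) (by
      refine HomologicalComplex.to_single_hom_ext ?_
      simp [h0]
      refine ModuleCat.hom_ext (LinearMap.ext fun x => ?_)
      show a • (P.π.f 0).hom x = 0
      exact ha _)
  have h2 : cxMap (a • 𝟙 M) P =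
      ((Groth.Agent.TorBridge.tenF M).mapHomologicalComplex _).map (a • 𝟙 P.complex) := by
    refine HomologicalComplex.hom_ext _ _ fun j => ?_
    rw [Functor.mapHomologicalComplex_map_f, HomologicalComplex.smul_f_apply, HomologicalComplex.id_f]
    exact ten_smul M _ a
  have h3 := Functor.leftDerived_map_eq (Groth.Agent.TorBridge.tenF M) p (f := a • 𝟙 N) (P := P) (Q := P)
    0 (by simp [h0])
  rw [h3, Functor.comp_map, Functor.comp_map, Functor.map_zero, Functor.map_zero, zero_comp, comp_zero] at h1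
  rw [TN_eq _ N P p, h2, ← h1]

theorem TN_exact {A : Type u} [CommRing A] (S : ShortComplex (ModuleCat.{u} A)) (hS : S.ShortExact)
    (N : ModuleCat.{u} A) (p : ℕ) (y : ((Groth.Agent.TorBridge.tenF S.X₂).leftDerived p).obj N)
    (hy : TN S.g N p y = 0) : ∃ z, TN S.f N p z = y := by
  let P : ProjectiveResolution N := ProjectiveResolution.of _
  let f : cx S.X₁ P ⟶ cx S.X₂ P := cxMap S.f P
  let g : cx S.X₂ P ⟶ cx S.X₃ P := cxMap S.g P
  have hfg : f ≫ g = 0 := by
    refine HomologicalComplex.hom_ext _ _ fun j => ModuleCat.hom_ext ?_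
    show S.g.hom.rTensor (P.complex.X j) ∘ₗ S.f.hom.rTensor (P.complex.X j) = 0
    rw [← LinearMap.rTensor_comp, ← ModuleCat.hom_comp, S.zero, ModuleCat.hom_zero, LinearMap.rTensor_zero]
  have hT : (ShortComplex.mk f g hfg).ShortExact := by
    refine HomologicalComplex.shortExact_of_degreewise_shortExact _ fun j => ?_
    haveI : Module.Projective A (P.complex.X j) := (IsProjective.iff_projective _).2 (P.projective j)
    have he : Function.Exact S.f.hom S.g.hom :=
      (ShortComplex.ShortExact.moduleCat_exact_iff_function_exact _).1 hS.exact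
    exact
      { exact := (ShortComplex.ShortExact.moduleCat_exact_iff_function_exact _).2
          (rTensor_exact (P.complex.X j) he ((ModuleCat.epi_iff_surjective _).1 hS.epi_g))
        mono_f := (ModuleCat.mono_iff_injective _).2 (Module.Flat.rTensor_preserves_injective_linearMap
          (M := P.complex.X j) S.f.hom ((ModuleCat.mono_iff_injective _).1 hS.mono_f))
        epi_g := (ModuleCat.epi_iff_surjective _).2
          (LinearMap.rTensor_surjective (P.complex.X j) ((ModuleCat.epi_iff_surjective _).1 hS.epi_g)) }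
  have hex := hT.homology_exact₂ p
  rw [ShortComplex.ShortExact.moduleCat_exact_iff_function_exact] at hex
  rw [TN_eq _ N P p] at hy
  have hy' : (HomologicalComplex.homologyFunctor _ _ p).map (cxMap S.g P)
      ((P.isoLeftDerivedObj (Groth.Agent.TorBridge.tenF S.X₂) p).hom y) = 0 := by
    refine (ModuleCat.mono_iff_injective (P.isoLeftDerivedObj (Groth.Agent.TorBridge.tenF S.X₃) p).inv).1
      inferInstance ?_
    rw [map_zero]
    simpa using hy
  obtain ⟨z, hz⟩ := (hex _).1 hy'
  refine ⟨(P.isoLeftDerivedObj (Groth.Agent.TorBridge.tenF S.X₁) p).inv z, ?_⟩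
  rw [TN_eq _ N P p]
  simp only [ModuleCat.hom_comp, LinearMap.comp_apply, Iso.inv_hom_id_apply]
  rw [show (HomologicalComplex.homologyFunctor _ _ p).map (cxMap S.f P) z = _ from hz]
  simp

/-- `Tor_p(f, N) = 0` for all `p` and all `N` killed by `I`. -/
def TZ {A : Type u} [CommRing A] (I : Ideal A) {X Y : ModuleCat.{u} A} (f : X ⟶ Y) : Prop :=
  ∀ N : ModuleCat.{u} A, (∀ a ∈ I, ∀ y : N, a • y = 0) → ∀ p, TN f N p = 0

/-- Some `I ^ n • M → M` is `TZ`. -/
def Good {A : Type u} [CommRing A] (I : Ideal A) (M : Type u) [AddCommGroup M] [Module A M] : Prop :=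
  ∃ n : ℕ, TZ I (ModuleCat.ofHom (I ^ n • (⊤ : Submodule A M)).subtype)

theorem TZ.factor {A : Type u} [CommRing A] {I : Ideal A} {X X' Y' Y : ModuleCat.{u} A} {g : X' ⟶ Y'}
    (hg : TZ I g) (a : X ⟶ X') (b : Y' ⟶ Y) {f : X ⟶ Y} (h : f = a ≫ g ≫ b) : TZ I f := by
  intro N hN p
  rw [h, TN_comp, TN_comp, hg N hN p, zero_comp, comp_zero]

theorem map_mem_smul_top {A : Type u} [CommRing A] {M M' : Type u} [AddCommGroup M] [Module A M]
    [AddCommGroup M'] [Module A M'] (g : M →ₗ[A] M') (I : Ideal A) {x : M}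
    (hx : x ∈ I • (⊤ : Submodule A M)) : g x ∈ I • (⊤ : Submodule A M') := by
  have := Submodule.mem_map_of_mem (f := g) hx
  rw [Submodule.map_smul''] at this
  exact Submodule.smul_mono le_rfl le_top this

theorem good_of_extension {A : Type u} [CommRing A] [IsNoetherianRing A] {I : Ideal A} {M : Type u}
    [AddCommGroup M] [Module A M] [Module.Finite A M] (T : Submodule A M) (hT : Good I T)
    (hQ : ∀ L : Submodule A M, Good I (L ⧸ T.comap L.subtype)) : Good I M := by
  obtain ⟨n₁, hn₁⟩ := hT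
  obtain ⟨c, hc⟩ := Ideal.exists_pow_inf_eq_pow_smul I T
  let L : Submodule A M := I ^ (n₁ + c) • ⊤
  let K : Submodule A L := T.comap L.subtype
  have hKT : ∀ x : K, ((x : L) : M) ∈ I ^ n₁ • T := fun x => by
    have h1 : ((x : L) : M) ∈ I ^ (n₁ + c) • ⊤ ⊓ T := ⟨(x : L).2, x.2⟩
    rw [hc (n₁ + c) (Nat.le_add_left c n₁), Nat.add_sub_cancel] at h1
    exact Submodule.smul_mono le_rfl inf_le_right h1
  have hT' : ∀ x : K, (⟨((x : L) : M), x.2⟩ : T) ∈ I ^ n₁ • (⊤ : Submodule A T) := fun x => by
    have h1 : ((x : L) : M) ∈ (I ^ n₁ • (⊤ : Submodule A T)).map T.subtype := by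
      rw [Submodule.map_smul'', Submodule.map_subtype_top]; exact hKT x
    obtain ⟨w, hw, e⟩ := h1
    rwa [show (⟨((x : L) : M), x.2⟩ : T) = w from Subtype.ext e.symm]
  obtain ⟨m, hm⟩ := hQ L
  refine ⟨m + (n₁ + c), fun N hN p => ?_⟩
  let U : Submodule A M := I ^ (m + (n₁ + c)) • ⊤
  have hUL : U ≤ L := Submodule.smul_mono_left (Ideal.pow_le_pow_right (Nat.le_add_left _ m))
  have hU : ∀ x : U, K.mkQ (Submodule.inclusion hUL x) ∈ I ^ m • (⊤ : Submodule A (L ⧸ K)) := fun x => by
    refine map_mem_smul_top K.mkQ _ ?_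
    have h1 : ((x : U) : M) ∈ (I ^ m • (⊤ : Submodule A L)).map L.subtype := by
      rw [Submodule.map_smul'', Submodule.map_subtype_top, ← Submodule.mul_smul, ← pow_add]
      exact x.2
    obtain ⟨w, hw, e⟩ := h1
    rwa [show Submodule.inclusion hUL x = w from Subtype.ext e.symm]
  let S : ShortComplex (ModuleCat.{u} A) :=
    ShortComplex.mk (ModuleCat.ofHom K.subtype) (ModuleCat.ofHom K.mkQ)
      (ModuleCat.hom_ext (LinearMap.ext fun x => (Submodule.Quotient.mk_eq_zero K).2 x.2))
  have hS : S.ShortExact :=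
    { exact := (ShortComplex.ShortExact.moduleCat_exact_iff_function_exact _).2 (LinearMap.exact_subtype_mkQ K)
      mono_f := (ModuleCat.mono_iff_injective _).2 K.injective_subtype
      epi_g := (ModuleCat.epi_iff_surjective _).2 K.mkQ_surjective }
  let ι : ModuleCat.of A U ⟶ ModuleCat.of A L := ModuleCat.ofHom (Submodule.inclusion hUL)
  let κ : ModuleCat.of A L ⟶ ModuleCat.of A M := ModuleCat.ofHom L.subtype
  have h1 : TZ I (ι ≫ S.g) := hm.factor
    (ModuleCat.ofHom ((K.mkQ.comp (Submodule.inclusion hUL)).codRestrict _ hU)) (𝟙 _) rfl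
  have h2 : TZ I (S.f ≫ κ) := hn₁.factor
    (ModuleCat.ofHom (((L.subtype.comp K.subtype).codRestrict T fun x => x.2).codRestrict _ hT'))
    (ModuleCat.ofHom T.subtype) rfl
  have hcomp : TN (ModuleCat.ofHom U.subtype) N p = TN ι N p ≫ TN κ N p := by
    rw [← TN_comp]; rfl
  show TN (ModuleCat.ofHom U.subtype) N p = 0
  rw [hcomp]
  refine ModuleCat.hom_ext (LinearMap.ext fun x => ?_)
  have h3 : TN S.g N p (TN ι N p x) = 0 := by
    have := h1 N hN p
    rw [TN_comp] at this
    exact LinearMap.congr_fun (congrArg ModuleCat.Hom.hom this) x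
  obtain ⟨z, hz⟩ := TN_exact S hS N p _ h3
  show TN κ N p (TN ι N p x) = 0
  rw [← hz]
  have := h2 N hN p
  rw [TN_comp] at this
  exact LinearMap.congr_fun (congrArg ModuleCat.Hom.hom this) z

theorem good_of_sup_span {A : Type u} [CommRing A] [IsNoetherianRing A] (J : Ideal A) (a : A)
    (hJ : ∀ (M : Type u) [AddCommGroup M] [Module A M] [Module.Finite A M], Good J M)
    (M : Type u) [AddCommGroup M] [Module A M] [Module.Finite A M] :
    Good (Ideal.span {a} ⊔ J) M := by
  let I := Ideal.span {a} ⊔ J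
  have haI : a ∈ I := Submodule.mem_sup_left (Ideal.mem_span_singleton_self a)
  have step1 : ∀ (M : Type u) [AddCommGroup M] [Module A M] [Module.Finite A M],
      (∀ x : M, a • x = 0) → Good I M := by
    intro M _ _ _ hM
    obtain ⟨n, hn⟩ := hJ M
    have hle : ∀ k, I ^ k • (⊤ : Submodule A M) ≤ J ^ k • ⊤ := by
      intro k
      induction k with
      | zero => simp
      | succ k ih =>
        rw [pow_succ', pow_succ', Submodule.mul_smul, Submodule.mul_smul]
        refine (Submodule.smul_mono le_rfl ih).trans ?_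
        rw [Submodule.sup_smul]
        refine sup_le ?_ le_rfl
        rw [Submodule.ideal_span_singleton_smul]
        intro x hx
        obtain ⟨y, -, rfl⟩ := hx
        show a • y ∈ _
        rw [hM]
        exact zero_mem _
    refine ⟨n, fun N hN p => ?_⟩
    refine (TZ.factor hn (ModuleCat.ofHom (Submodule.inclusion (hle n))) (𝟙 _) rfl) N ?_ p
    exact fun b hb => hN b (Submodule.mem_sup_right hb)
  have step2 : ∀ (c : ℕ) (M : Type u) [AddCommGroup M] [Module A M] [Module.Finite A M],
      (∀ x : M, a ^ c • x = 0) → Good I M := by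
    intro c
    induction c with
    | zero =>
      intro M _ _ _ hM
      refine ⟨0, fun N hN p => ?_⟩
      rw [show (ModuleCat.ofHom (I ^ 0 • (⊤ : Submodule A M)).subtype) = 0 from
        ModuleCat.hom_ext (LinearMap.ext fun x => by
          show (x : M) = 0
          simpa using hM (x : M))]
      exact TN_zero _ _ N p
    | succ c ih =>
      intro M _ _ _ hM
      refine good_of_extension (LinearMap.range (a • LinearMap.id : M →ₗ[A] M)) (ih _ fun x => ?_)
        fun L => step1 _ fun z => ?_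
      · obtain ⟨y, hy⟩ := x.2
        refine Subtype.ext ?_
        show a ^ c • (x : M) = 0
        rw [← hy]
        show a ^ c • a • y = 0
        rw [← mul_smul, ← pow_succ]
        exact hM y
      · obtain ⟨y, rfl⟩ := Submodule.mkQ_surjective _ z
        rw [Submodule.mkQ_apply, ← Submodule.Quotient.mk_smul, Submodule.Quotient.mk_eq_zero]
        exact ⟨(y : M), rfl⟩
  have step3 : ∀ (M : Type u) [AddCommGroup M] [Module A M] [Module.Finite A M],
      (∀ x : M, a • x = 0 → x = 0) → Good I M := by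
    intro M _ _ _ hM
    let T : Submodule A M := LinearMap.range (a • LinearMap.id : M →ₗ[A] M)
    obtain ⟨n, hn⟩ := step1 (M ⧸ T) fun z => by
      obtain ⟨y, rfl⟩ := Submodule.mkQ_surjective _ z
      rw [Submodule.mkQ_apply, ← Submodule.Quotient.mk_smul, Submodule.Quotient.mk_eq_zero]
      exact ⟨y, rfl⟩
    refine ⟨n, fun N hN p => ?_⟩
    let S : ShortComplex (ModuleCat.{u} A) :=
      ShortComplex.mk (a • 𝟙 (ModuleCat.of A M)) (ModuleCat.ofHom T.mkQ)
        (ModuleCat.hom_ext (LinearMap.ext fun x => (Submodule.Quotient.mk_eq_zero T).2 ⟨x, rfl⟩))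
    have hS : S.ShortExact :=
      { exact := (ShortComplex.ShortExact.moduleCat_exact_iff_function_exact _).2 fun y =>
          ⟨fun hy => (Submodule.Quotient.mk_eq_zero T).1 hy, fun hy => (Submodule.Quotient.mk_eq_zero T).2 hy⟩
        mono_f := (ModuleCat.mono_iff_injective _).2 fun x y hxy => sub_eq_zero.1 (hM _ (by
          rw [smul_sub, sub_eq_zero]; exact hxy))
        epi_g := (ModuleCat.epi_iff_surjective _).2 T.mkQ_surjective }
    let ι : ModuleCat.of A (I ^ n • (⊤ : Submodule A M) : Submodule A M) ⟶ ModuleCat.of A M :=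
      ModuleCat.ofHom (I ^ n • (⊤ : Submodule A M)).subtype
    have h1 : TZ I (ι ≫ S.g) := hn.factor
      (ModuleCat.ofHom ((T.mkQ.comp (I ^ n • (⊤ : Submodule A M)).subtype).codRestrict _
        fun x => map_mem_smul_top T.mkQ _ x.2)) (𝟙 _) rfl
    show TN ι N p = 0
    refine ModuleCat.hom_ext (LinearMap.ext fun x => ?_)
    have h2 : TN S.g N p (TN ι N p x) = 0 := by
      have := h1 N hN p
      rw [TN_comp] at this
      exact LinearMap.congr_fun (congrArg ModuleCat.Hom.hom this) x
    obtain ⟨z, hz⟩ := TN_exact S hS N p _ h2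
    rw [show TN S.f N p = 0 from TN_smul_id (ModuleCat.of A M) N a (hN a haI) p] at hz
    exact hz.symm
  let f : ℕ →o Submodule A M :=
    ⟨fun c => LinearMap.ker (a ^ c • LinearMap.id : M →ₗ[A] M), fun i j hij x hx => by
      rw [LinearMap.mem_ker, LinearMap.smul_apply, LinearMap.id_apply] at hx ⊢
      rw [← Nat.add_sub_of_le hij, pow_add, mul_comm, mul_smul, hx, smul_zero]⟩
  obtain ⟨c, hc⟩ := monotone_stabilizes_iff_noetherian.2 (inferInstance : IsNoetherian A M) f
  refine good_of_extension (f c) (step2 c _ fun x => Subtype.ext x.2) fun L => step3 _ fun z hz => ?_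
  obtain ⟨y, rfl⟩ := Submodule.mkQ_surjective _ z
  rw [Submodule.mkQ_apply, ← Submodule.Quotient.mk_smul, Submodule.Quotient.mk_eq_zero] at hz
  rw [Submodule.mkQ_apply, Submodule.Quotient.mk_eq_zero]
  show (y : M) ∈ f c
  rw [hc (c + 1) (Nat.le_succ c)]
  show a ^ (c + 1) • (y : M) = 0
  rw [pow_succ, mul_smul]
  exact hz

theorem good_span {A : Type u} [CommRing A] [IsNoetherianRing A] (s : Finset A) :
    ∀ (M : Type u) [AddCommGroup M] [Module A M] [Module.Finite A M], Good (Ideal.span (s : Set A)) M := by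
  classical
  induction s using Finset.induction with
  | empty =>
    intro M _ _ _
    refine ⟨1, fun N hN p => ?_⟩
    rw [show (ModuleCat.ofHom ((Ideal.span ((∅ : Finset A) : Set A)) ^ 1 • (⊤ : Submodule A M)).subtype) = 0 from
      ModuleCat.hom_ext (LinearMap.ext fun x => by
        show (x : M) = 0
        have := x.2
        simpa using this)]
    exact TN_zero _ _ N p
  | insert a s _ ih =>
    intro M _ _ _
    rw [Finset.coe_insert, Ideal.span_insert]
    exact good_of_sup_span _ a ih M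


/-- Let A be a Noetherian ring, I an ideal, M a finite A-module and N an A-module annihilated by I. Then
there is an integer n > 0 such that the maps Tor_p^A(IⁿM, N) → Tor_p^A(M, N) induced by IⁿM ⊆ M are
zero for all p ≥ 0. -/
theorem result (A : Type u) [CommRing A] [IsNoetherianRing A] (I : Ideal A)
    (M N : Type u) [AddCommGroup M] [Module A M] [Module.Finite A M] [AddCommGroup N] [Module A N]
    (hN : ∀ a ∈ I, ∀ y : N, a • y = 0) :
    ∃ n : ℕ, 0 < n ∧ ∀ p : ℕ,
      ((CategoryTheory.Tor (ModuleCat.{u} A) p).map (ModuleCat.ofHom (I ^ n • ⊤ : Submodule A M).subtype)).app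
        (ModuleCat.of A N) = 0 := by
  obtain ⟨s, hs⟩ : I.FG := IsNoetherian.noetherian I
  obtain ⟨n, hn⟩ := good_span s M
  change Ideal.span (s : Set A) = I at hs
  rw [hs] at hn
  refine ⟨n + 1, n.succ_pos, fun p => ?_⟩
  exact (hn.factor (ModuleCat.ofHom (Submodule.inclusion
    (Submodule.smul_mono_left (Ideal.pow_le_pow_right n.le_succ)))) (𝟙 _) rfl) (ModuleCat.of A N) hN p


end Groth.Agent.S7161
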