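import Groth.Statements.S7163
import Groth.Agent.SerreSplit.Splitting

set_option autoImplicit false
universe u
open CAlg

namespace Groth.Agent.S7163

/-- Let R be a ring whose set Ω of closed points of Spec R is a Noetherian topological space and M a
finitely presented R-module; for x in Ω write M(x) = M/xM, B(x) for the classes of elements m with
φ(m) in x for every linear form φ, and V(x) = M(x)/B(x). Let s_1, ..., s_h be elements of M, F ⊆ Ω a
closed subset containing the set Z(s_1, ..., s_h) of points where the images of the s_i in V(x) are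
linearly dependent, x_1, ..., x_n pairwise distinct points of F, v_i elements of M(x_i), and k ≥ 0
an integer with h + k ≤ dim V(x) for all x in Ω. Then there are s in M and a closed F' ⊆ Ω such that
(a) s(x_i) and v_i have the same image in V(x_i), (b) Z(s_1, ..., s_h, s) ⊆ F ∪ F', and (c) each
irreducible component of F′ is of codimension at least k in Ω (equivalently, so is each irreducible
closed subset of Ω lying in F′). -/
theorem result (R : Type u) [CommRing R] [TopologicalSpace.NoetherianSpace (MaximalSpectrum R)]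
    (M : Type u) [AddCommGroup M] [Module R M] [Module.FinitePresentation R M]
    (h : ℕ) (s : Fin h → M) (F : Set (MaximalSpectrum R)) (hF : IsClosed F)
    (n : ℕ) (xs : Fin n → MaximalSpectrum R) (hxs : Function.Injective xs) (hxF : ∀ i, xs i ∈ F)
    (v : ∀ i : Fin n, M ⧸ ((xs i).asIdeal • ⊤ : Submodule R M)) (k : ℕ) :
    let Bq : ∀ x : MaximalSpectrum R, Submodule (R ⧸ x.asIdeal) (M ⧸ (x.asIdeal • ⊤ : Submodule R M)) :=
      fun x => Submodule.span (R ⧸ x.asIdeal)
        ((x.asIdeal • ⊤ : Submodule R M).mkQ '' {m : M | ∀ φ : M →ₗ[R] R, φ m ∈ x.asIdeal})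
    let img : ∀ x : MaximalSpectrum R, M → (M ⧸ (x.asIdeal • ⊤ : Submodule R M)) ⧸ Bq x :=
      fun x m => (Bq x).mkQ ((x.asIdeal • ⊤ : Submodule R M).mkQ m)
    (∀ x : MaximalSpectrum R, h + k ≤ Module.finrank (R ⧸ x.asIdeal) ((M ⧸ (x.asIdeal • ⊤ : Submodule R M)) ⧸ Bq x)) →
    (∀ x : MaximalSpectrum R, ¬ LinearIndependent (R ⧸ x.asIdeal) (fun i => img x (s i)) → x ∈ F) →
    ∃ (t : M) (F' : Set (MaximalSpectrum R)), IsClosed F' ∧
      (∀ i : Fin n, img (xs i) t = (Bq (xs i)).mkQ (v i)) ∧
      (∀ x : MaximalSpectrum R,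
        ¬ LinearIndependent (R ⧸ x.asIdeal) (Fin.snoc (fun i => img x (s i)) (img x t)) → x ∈ F ∪ F') ∧
      ∀ Z : TopologicalSpace.IrreducibleCloseds (MaximalSpectrum R), (Z : Set (MaximalSpectrum R)) ⊆ F' →
        (k : ℕ∞) ≤ Order.coheight Z := by
  intro Bq img hdim hbad
  have hD : SerreSplit.DimGE R M (h + k) := by
    intro x m s' hm htop
    have hspan : Submodule.span (R ⧸ x.asIdeal) (Set.range fun i => img x (s' i)) = ⊤ := by
      rw [eq_top_iff]
      rintro q -
      obtain ⟨q', rfl⟩ := Submodule.mkQ_surjective _ q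
      obtain ⟨a, rfl⟩ := Submodule.mkQ_surjective _ q'
      obtain ⟨c, hc⟩ := SerreSplit.mem_U.1 (htop ▸ Submodule.mem_top : a ∈ SerreSplit.U x.asIdeal s')
      rw [show (Bq x).mkQ ((x.asIdeal • ⊤ : Submodule R M).mkQ a) = img x (∑ i, c i • s' i) from
        (SerreSplit.mkQ_mkQ_eq_iff x.asIdeal a _).2 hc]
      have : img x (∑ i, c i • s' i) = ∑ i, Ideal.Quotient.mk x.asIdeal (c i) • img x (s' i) := by
        simp only [img, map_sum]
        rfl
      rw [this]
      exact Submodule.sum_mem _ fun i _ => Submodule.smul_mem _ _ (Submodule.subset_span ⟨i, rfl⟩)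
    let := Ideal.Quotient.field x.asIdeal
    have h1 := finrank_range_le_card (R := R ⧸ x.asIdeal) (fun i => img x (s' i))
    rw [Set.finrank, hspan, finrank_top, Fintype.card_fin] at h1
    have := hdim x
    omega
  choose vr hvr using fun i => Submodule.mkQ_surjective _ (v i)
  classical
  let vv : MaximalSpectrum R → M := fun x => if hx : ∃ i, xs i = x then vr hx.choose else 0
  have hvv : ∀ i, vv (xs i) = vr i := by
    intro i
    have hx : ∃ j, xs j = xs i := ⟨i, rfl⟩
    simp only [vv, dif_pos hx]
    rw [hxs hx.choose_spec]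
  obtain ⟨t, F', hF', ht, hsub, hco⟩ := SerreSplit.exists_general_element k le_rfl hD s F hF
    (fun x hx => hbad x fun hli => hx ((SerreSplit.linearIndependent_iff_indep x.asIdeal s).1 hli))
    (Finset.univ.image xs) (by simpa [Set.range_subset_iff] using hxF) vv
  refine ⟨t, F', hF', fun i => ?_, fun x hx => ?_, hco⟩
  · rw [← hvr i]
    refine (SerreSplit.mkQ_mkQ_eq_iff (xs i).asIdeal t (vr i)).2 ?_
    rw [← hvv i]
    exact ht _ (Finset.mem_image_of_mem xs (Finset.mem_univ i))
  · refine hsub fun hind => hx ?_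
    have h1 := (SerreSplit.linearIndependent_iff_indep x.asIdeal (Fin.snoc s t : Fin (h + 1) → M)).2 hind
    convert h1 using 1
    ext i
    induction i using Fin.lastCases with
    | last => simp [img, Bq]
    | cast i => simp [img, Bq]


end Groth.Agent.S7163
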