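import Groth.Statements.S7164
import Groth.Agent.PcExt.ArtinRees

set_option autoImplicit false
universe u
open CategoryTheory
attribute [local instance] HasDerivedCategory.standard
open CAlg

namespace Groth.Agent.S7164

/-- Let A be a Noetherian ring, I an ideal, K a pseudo-coherent object of D(A) and a an integer. Assume
that for every finite A-module M and every i ≥ a the module Ext^i_A(K, M) is I-power torsion. Then
for i ≥ a and M finite the inverse system (Ext^i_A(K, M/IⁿM))_n is essentially constant with value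
Ext^i_A(K, M) (so that Ext^i_A(K, M) = lim Ext^i_A(K, M/IⁿM)): concretely, some comparison map
Ext^i(K, M) → Ext^i(K, M/I^mM) is injective and for every n there is m' ≥ n such that the image of
the transition map Ext^i(K, M/I^(m')M) → Ext^i(K, M/IⁿM) is contained in the image of Ext^i(K, M).
Here Ext^i(K, X) = Hom_{D(A)}(K, X[i]). -/
theorem result (A : Type u) [CommRing A] [IsNoetherianRing A]
    (I : Ideal A) (K : Dual.D A) (hK : DRing.IsPseudoCoherent' A K) (a : ℤ)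
    (htors : ∀ (M : Type u) [AddCommGroup M] [Module A M], Module.Finite A M → ∀ i : ℤ, a ≤ i →
      ∀ e : K ⟶ (Dual.inD A M)⟦i⟧, ∃ n : ℕ, ∀ x ∈ I ^ n, x • e = 0)
    (M : Type u) [AddCommGroup M] [Module A M] [Module.Finite A M] (i : ℤ) (hi : a ≤ i) :
    let Mq : ℕ → Submodule A M := fun n => I ^ n • ⊤
    let c : ∀ n : ℕ, (K ⟶ (Dual.inD A M)⟦i⟧) → (K ⟶ (Dual.inD A (M ⧸ Mq n))⟦i⟧) :=
      fun n e => e ≫ ((DerivedCategory.singleFunctor (ModuleCat.{u} A) 0).map (ModuleCat.ofHom (Mq n).mkQ))⟦i⟧'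
    let t : ∀ n m : ℕ, n ≤ m → (K ⟶ (Dual.inD A (M ⧸ Mq m))⟦i⟧) → (K ⟶ (Dual.inD A (M ⧸ Mq n))⟦i⟧) :=
      fun n m hnm e => e ≫ ((DerivedCategory.singleFunctor (ModuleCat.{u} A) 0).map (ModuleCat.ofHom
        (Submodule.mapQ (Mq m) (Mq n) (LinearMap.id : M →ₗ[A] M) (Submodule.smul_mono_left (Ideal.pow_le_pow_right hnm)))))⟦i⟧'
    (∃ m : ℕ, Function.Injective (c m)) ∧
      ∀ n : ℕ, ∃ (m' : ℕ) (hnm : n ≤ m'), Set.range (t n m' hnm) ⊆ Set.range (c n) := by
  intro Mq c t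
  obtain ⟨E, b, hb, hE, ⟨α⟩⟩ := hK
  have := Groth.Agent.PcExt.isKProjective_of_termwiseFiniteFree E b hb hE
  have key : ∀ (X : Type u) [AddCommGroup X] [Module A X], Module.Finite A X → ∀ j : ℤ, a ≤ j →
      ∀ e : DRing.toD E ⟶ (Dual.inD A X)⟦j⟧, ∃ n : ℕ, ∀ x ∈ I ^ n, x • e = 0 := by
    intro X _ _ hX j hj e
    obtain ⟨n, hn⟩ := htors X hX j hj (α.inv ≫ e)
    refine ⟨n, fun x hx => ?_⟩
    have h1 := hn x hx
    rw [← Linear.comp_smul] at h1
    exact (cancel_epi α.inv).mp (h1.trans Limits.comp_zero.symm)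
  obtain ⟨⟨m, hm⟩, h2⟩ := Groth.Agent.PcExt.essentially_constant E M hE I i
    (fun N j hj => key N inferInstance j (le_trans hi hj)) (key M inferInstance i hi)
  refine ⟨⟨m, fun e₁ e₂ h12 => ?_⟩, fun n => ?_⟩
  · have h0 := hm (α.hom ≫ (e₁ - e₂)) (by
      rw [Category.assoc, Preadditive.sub_comp, sub_eq_zero.mpr h12, Limits.comp_zero])
    exact sub_eq_zero.mp ((cancel_epi α.hom).mp (h0.trans Limits.comp_zero.symm))
  · obtain ⟨m', hnm, h⟩ := h2 n
    refine ⟨m', hnm, ?_⟩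
    rintro _ ⟨x, rfl⟩
    obtain ⟨y, hy⟩ := h (α.hom ≫ x)
    refine ⟨α.inv ≫ y, ?_⟩
    apply (cancel_epi α.hom).mp
    change α.hom ≫ ((α.inv ≫ y) ≫ _) = α.hom ≫ (x ≫ _)
    rw [Category.assoc, Iso.hom_inv_id_assoc, hy, Category.assoc]


end Groth.Agent.S7164
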