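import Groth.Statements.S7165
import Mathlib
import Groth.Agent.KrullAki.Basic
-- import your own Groth.Agent.* helpers here

set_option autoImplicit false
universe u
open EtAlg

namespace Groth.Agent.S7165

open TensorProduct

/-- Integral closure in a field generated by a finite type algebra over a Noetherian integral extension. -/
theorem isNoetherianRing_integralClosure_field {A B A' F : Type u} [CommRing A] [CommRing B] [IsDomain B]
    [IsDiscreteValuationRing B] [Algebra A B] [Algebra.EssFiniteType A B] [CommRing A'] [Algebra A A']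
    [IsNoetherianRing A'] [Algebra.IsIntegral A A'] [Field F] [Algebra A F] [Algebra B F] [IsScalarTower A B F]
    (hBF : Function.Injective (algebraMap B F)) (ψ : A' →ₐ[A] F)
    (hfrac : ∀ z : F, ∃ c x : A' ⊗[A] B,
      Algebra.TensorProduct.lift ψ (IsScalarTower.toAlgHom A B F) (fun _ _ => Commute.all _ _) c ≠ 0 ∧
      z * Algebra.TensorProduct.lift ψ (IsScalarTower.toAlgHom A B F) (fun _ _ => Commute.all _ _) c =
        Algebra.TensorProduct.lift ψ (IsScalarTower.toAlgHom A B F) (fun _ _ => Commute.all _ _) x) :
    IsNoetherianRing (integralClosure B F) := by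
  let Λ := Algebra.TensorProduct.lift ψ (IsScalarTower.toAlgHom A B F) (fun _ _ => Commute.all _ _)
  have : IsNoetherianRing (A' ⊗[A] B) := Algebra.EssFiniteType.isNoetherianRing A' _
  let C := Λ.toRingHom.range
  have : IsNoetherianRing C := isNoetherianRing_of_surjective _ _ Λ.toRingHom.rangeRestrict Λ.toRingHom.rangeRestrict_surjective
  let iB : B →+* C := Λ.toRingHom.rangeRestrict.comp
    (Algebra.TensorProduct.includeRight : B →ₐ[A] A' ⊗[A] B).toRingHom
  let : Algebra B C := iB.toAlgebra
  have : IsScalarTower B C F := IsScalarTower.of_algebraMap_eq fun b => by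
    show algebraMap B F b = Λ (1 ⊗ₜ b)
    rw [Algebra.TensorProduct.lift_tmul, map_one, one_mul]
    rfl
  have hint : Algebra.IsIntegral B C := ⟨fun c => by
    obtain ⟨z, rfl⟩ := Λ.toRingHom.rangeRestrict_surjective c
    induction z using TensorProduct.induction_on with
    | zero => rw [map_zero]; exact isIntegral_zero
    | add x y hx hy => rw [map_add]; exact hx.add hy
    | tmul a b =>
      have e : (a ⊗ₜ[A] b : A' ⊗[A] B) = (a ⊗ₜ 1) * (1 ⊗ₜ b) := by simp
      rw [e, map_mul]
      refine IsIntegral.mul ?_ (isIntegral_algebraMap (R := B) (x := b))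
      let : Algebra A C := (iB.comp (algebraMap A B)).toAlgebra
      have : IsScalarTower A B C := IsScalarTower.of_algebraMap_eq fun x => rfl
      let g : A' →ₐ[A] C :=
        { Λ.toRingHom.rangeRestrict.comp (Algebra.TensorProduct.includeLeftRingHom : A' →+* A' ⊗[A] B) with
          commutes' := fun x => congrArg Λ.toRingHom.rangeRestrict
            ((Algebra.TensorProduct.tmul_one_eq_one_tmul x) : _) }
      exact ((Algebra.IsIntegral.isIntegral (R := A) a).map g).tower_top⟩
  have hinj : Function.Injective (algebraMap B C) := fun x y h => hBF (by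
    rw [IsScalarTower.algebraMap_apply B C F, IsScalarTower.algebraMap_apply B C F, h])
  have : Ring.KrullDimLE 1 C := by
    rw [Ring.krullDimLE_one_iff_of_noZeroDivisors]
    intro P hP hPp
    have := hPp
    refine Ideal.isMaximal_of_isIntegral_of_isMaximal_comap (R := B) P (IsPrime.to_maximal_ideal fun h => hP ?_)
    exact Ideal.eq_bot_of_comap_eq_bot h
  have : IsFractionRing C F := IsFractionRing.of_field _ _ fun z => by
    obtain ⟨c, x, hc, h⟩ := hfrac z
    exact ⟨⟨Λ x, x, rfl⟩, ⟨Λ c, c, rfl⟩, (eq_div_iff hc).2 h⟩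
  have h1 := Groth.Agent.KrullAki.isNoetherianRing_subalgebra (integralClosure C F)
  refine isNoetherianRing_of_ringEquiv (integralClosure C F) (RingEquiv.subringCongr
    (s := (integralClosure C F).toSubring) (t := (integralClosure B F).toSubring) (SetLike.ext fun z => ?_))
  exact ⟨fun h => isIntegral_trans (R := B) (A := C) z h, fun h => h.tower_top⟩

/-- Let A → B be an injective local homomorphism of discrete valuation rings whose fields of fractions
are K ⊆ L, the A-algebra B being essentially of finite type. Let K' ⊇ K be an algebraic extension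
field for which A', the integral closure of A in K', is a Noetherian ring, and let L' = (L ⊗_K
K')_red. Then B', the integral closure of B in L', is a Noetherian ring. (The published statement
also asserts that Spec B' → Spec A' is surjective and that the residue field extensions are finitely
generated; this row states only that B' is Noetherian.) -/
theorem result (A B K L : Type u) [CommRing A] [IsDomain A]
    [IsDiscreteValuationRing A] [CommRing B] [IsDomain B] [IsDiscreteValuationRing B] [Algebra A B]
    (hinj : Function.Injective (algebraMap A B)) [IsLocalHom (algebraMap A B)] [Algebra.EssFiniteType A B]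
    [Field K] [Field L] [Algebra A K] [IsFractionRing A K] [Algebra B L] [IsFractionRing B L]
    [Algebra K L] [Algebra A L] [IsScalarTower A K L] [IsScalarTower A B L]
    (K' : Type u) [Field K'] [Algebra K K'] [Algebra A K'] [IsScalarTower A K K'] [Algebra.IsAlgebraic K K']
    (hA' : IsNoetherianRing (integralClosure A K'))
    (L' : Type u) [CommRing L'] [IsReduced L'] [Algebra K L'] [Algebra L L'] [Algebra K' L'] [Algebra B L']
    [IsScalarTower K L L'] [IsScalarTower K K' L'] [IsScalarTower B L L']
    (q : L ⊗[K] K' →ₐ[K] L') (hq : Function.Surjective q) (hker : RingHom.ker q.toRingHom = nilradical (L ⊗[K] K'))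
    (hqL : ∀ y : L, q (y ⊗ₜ 1) = algebraMap L L' y) (hqK : ∀ z : K', q (1 ⊗ₜ z) = algebraMap K' L' z) :
    IsNoetherianRing (integralClosure B L') := by
  classical
  have : Algebra.EssFiniteType B L := Algebra.EssFiniteType.of_isLocalization L (nonZeroDivisors B)
  have : Algebra.EssFiniteType A L := Algebra.EssFiniteType.comp A B L
  have : Algebra.EssFiniteType K L := Algebra.EssFiniteType.of_comp A K L
  have : IsNoetherianRing (K' ⊗[K] L) := Algebra.EssFiniteType.isNoetherianRing K' _
  have : IsNoetherianRing (L ⊗[K] K') :=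
    isNoetherianRing_of_ringEquiv (K' ⊗[K] L) (Algebra.TensorProduct.comm K K' L).toRingEquiv
  have : IsNoetherianRing L' := isNoetherianRing_of_surjective _ _ q.toRingHom hq
  let qL : L ⊗[K] K' →ₐ[L] L' := { q.toRingHom with commutes' := fun y => hqL y }
  have : Algebra.IsIntegral K K' := Algebra.IsAlgebraic.isIntegral
  have : Algebra.IsIntegral L L' := ⟨fun z => by
    obtain ⟨w, rfl⟩ := hq z
    exact (Algebra.IsIntegral.isIntegral (R := L) w).map qL⟩
  have : IsArtinianRing L' := by
    rw [isArtinianRing_iff_isNoetherianRing_krullDimLE_zero]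
    refine ⟨inferInstance, Ring.KrullDimLE.mk₀ fun P hP => ?_⟩
    have := hP
    exact Ideal.isMaximal_of_isIntegral_of_isMaximal_comap (R := L) P
      ((Ideal.eq_bot_or_top (P.comap (algebraMap L L'))).resolve_right (Ideal.IsPrime.ne_top inferInstance) ▸ Ideal.bot_isMaximal)
  have := hA'
  -- each factor
  have hfac : ∀ P : MaximalSpectrum L', IsNoetherianRing (integralClosure B (L' ⧸ P.asIdeal)) := by
    intro P
    let := Ideal.Quotient.field P.asIdeal
    let π : L' →+* L' ⧸ P.asIdeal := Ideal.Quotient.mk P.asIdeal
    let : Algebra A (L' ⧸ P.asIdeal) := ((algebraMap B (L' ⧸ P.asIdeal)).comp (algebraMap A B)).toAlgebra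
    have : IsScalarTower A B (L' ⧸ P.asIdeal) := IsScalarTower.of_algebraMap_eq fun _ => rfl
    let g : L ⊗[K] K' →+* L' ⧸ P.asIdeal := π.comp q.toRingHom
    have hg : Function.Surjective g := Ideal.Quotient.mk_surjective.comp hq
    have hgL : ∀ y, g (y ⊗ₜ 1) = π (algebraMap L L' y) := fun y => congrArg π (hqL y)
    have hgB : ∀ b, g (algebraMap B L b ⊗ₜ 1) = algebraMap B (L' ⧸ P.asIdeal) b := fun b => by
      rw [hgL, ← IsScalarTower.algebraMap_apply B L L']
      rfl
    let ψ : integralClosure A K' →ₐ[A] L' ⧸ P.asIdeal :=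
      { (π.comp (algebraMap K' L')).comp (integralClosure A K').val.toRingHom with
        commutes' := fun a => by
          show π (algebraMap K' L' (algebraMap A K' a)) = π (algebraMap B L' (algebraMap A B a))
          rw [IsScalarTower.algebraMap_apply A K K', ← IsScalarTower.algebraMap_apply K K' L',
            IsScalarTower.algebraMap_apply K L L', ← IsScalarTower.algebraMap_apply A K L,
            IsScalarTower.algebraMap_apply B L L', ← IsScalarTower.algebraMap_apply A B L] }
    have hBinj : Function.Injective (algebraMap B (L' ⧸ P.asIdeal)) := fun x y h => by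
      rw [← hgB, ← hgB, hgL, hgL] at h
      exact IsFractionRing.injective B L ((π.comp (algebraMap L L')).injective h)
    let Λ := Algebra.TensorProduct.lift ψ (IsScalarTower.toAlgHom A B (L' ⧸ P.asIdeal)) (fun _ _ => Commute.all _ _)
    refine isNoetherianRing_integralClosure_field hBinj ψ fun z => ?_
    obtain ⟨w, rfl⟩ := hg z
    show ∃ c x, Λ c ≠ 0 ∧ g w * Λ c = Λ x
    induction w using TensorProduct.induction_on with
    | zero => exact ⟨1, 0, by simp, by simp⟩
    | add w₁ w₂ h₁ h₂ =>
      obtain ⟨c, x, hc, hx⟩ := h₁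
      obtain ⟨d, y, hd, hy⟩ := h₂
      refine ⟨c * d, x * d + y * c, by rw [map_mul]; exact mul_ne_zero hc hd, ?_⟩
      simp only [map_add, map_mul, ← hx, ← hy]
      ring
    | tmul l w =>
      obtain ⟨b, s, hs, rfl⟩ := IsFractionRing.div_surjective (A := B) l
      have hw : IsAlgebraic A w :=
        (IsFractionRing.isAlgebraic_iff A K K').2 (Algebra.IsAlgebraic.isAlgebraic w)
      obtain ⟨t, ht0, ht⟩ := hw.exists_integral_multiple
      have hs0 : (s : B) ≠ 0 := nonZeroDivisors.ne_zero hs
      refine ⟨1 ⊗ₜ (s * algebraMap A B t), (⟨t • w, ht⟩ : integralClosure A K') ⊗ₜ b, ?_, ?_⟩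
      · rw [Algebra.TensorProduct.lift_tmul, map_one, one_mul]
        exact fun h => mul_ne_zero hs0 (fun h => ht0 (hinj (h.trans (map_zero _).symm))) (hBinj (h.trans (map_zero _).symm))
      · rw [Algebra.TensorProduct.lift_tmul, Algebra.TensorProduct.lift_tmul, map_one, one_mul]
        have e1 : ψ ⟨t • w, ht⟩ = g ((1 : L) ⊗ₜ (t • w)) := (congrArg π (hqK _)).symm
        rw [e1, IsScalarTower.toAlgHom_apply, IsScalarTower.toAlgHom_apply, ← hgB, ← hgB, ← map_mul g, ← map_mul g]
        congr 1
        simp only [Algebra.TensorProduct.tmul_mul_tmul, mul_one, one_mul]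
        rw [map_mul, ← IsScalarTower.algebraMap_apply A B L, IsScalarTower.algebraMap_apply A K L, ← mul_assoc,
          div_mul_cancel₀ _ (IsFractionRing.to_map_ne_zero_of_mem_nonZeroDivisors hs), mul_comm,
          ← Algebra.smul_def, TensorProduct.smul_tmul, algebraMap_smul]
  have : Finite (MaximalSpectrum L') := inferInstance
  let e : L' ≃+* ∀ P : MaximalSpectrum L', L' ⧸ P.asIdeal := (IsArtinianRing.equivPi L').toRingEquiv
  let ea : L' ≃ₐ[B] ∀ P : MaximalSpectrum L', L' ⧸ P.asIdeal := AlgEquiv.ofRingEquiv (f := e) fun b => rfl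
  have : ∀ P : MaximalSpectrum L', IsNoetherianRing (integralClosure B (L' ⧸ P.asIdeal)) := hfac
  let θ : integralClosure B L' →+* ∀ P : MaximalSpectrum L', integralClosure B (L' ⧸ P.asIdeal) :=
    RingHom.pi fun P => ((Ideal.Quotient.mk P.asIdeal).comp (integralClosure B L').val.toRingHom).codRestrict _
      fun x => x.2.map (Ideal.Quotient.mkₐ B P.asIdeal)
  have hθ : Function.Bijective θ := by
    refine ⟨fun x y h => Subtype.ext (ea.injective (funext fun P => congrArg Subtype.val (congrFun h P))), fun v => ?_⟩
    have : Fintype (MaximalSpectrum L') := Fintype.ofFinite _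
    have hv : IsIntegral B (fun P => (v P : L' ⧸ P.asIdeal)) := by
      choose f hf hfv using fun P : MaximalSpectrum L' => (v P).2
      refine ⟨∏ P, f P, Polynomial.monic_prod_of_monic _ _ fun P _ => hf P, funext fun Q => ?_⟩
      show Pi.evalAlgHom B (fun P : MaximalSpectrum L' => L' ⧸ P.asIdeal) Q
        (Polynomial.aeval (fun P => (v P : L' ⧸ P.asIdeal)) (∏ P, f P)) = 0
      rw [← Polynomial.aeval_algHom_apply, map_prod]
      exact Finset.prod_eq_zero (Finset.mem_univ Q) (hfv Q)
    refine ⟨⟨ea.symm (fun P => (v P : L' ⧸ P.asIdeal)), hv.map ea.symm.toAlgHom⟩, funext fun P => Subtype.ext ?_⟩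
    exact congrFun (ea.apply_symm_apply (fun P => (v P : L' ⧸ P.asIdeal))) P
  exact isNoetherianRing_of_ringEquiv _ (RingEquiv.ofBijective θ hθ).symm

end Groth.Agent.S7165
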