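import Groth.Statements.S7167
import Groth.Agent.PCMor.Scheme

set_option autoImplicit false
universe u
attribute [local instance] HasDerivedCategory.standard
open FlatMor

namespace Groth.Agent.S7167

open AlgebraicGeometry CategoryTheory Limits in
/-- Let S' → S be flat and f' : X' → S' the base change of a pseudo-coherent morphism f : X → S. Then f'
is pseudo-coherent. -/
theorem result {X S X' S' : Scheme.{u}} (f : X ⟶ S) (f' : X' ⟶ S') (g' : X' ⟶ X) (g : S' ⟶ S)
    [Flat g] (hc : IsPullback g' f' f g) (hf : MoreMor.IsPseudoCoherentMor f) : MoreMor.IsPseudoCoherentMor f' := by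
  exact Groth.Agent.PCMor.baseChange f f' g' g hc hf

end Groth.Agent.S7167
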