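import Groth.Statements.S7168
import Groth.Agent.S2066
import Groth.Agent.S2068
import Mathlib

set_option autoImplicit false
universe u
attribute [local instance] HasDerivedCategory.standard
open FlatMor

namespace Groth.Agent.S7168

open AlgebraicGeometry CategoryTheory Limits in
/-- A pseudo-coherent morphism of schemes is locally of finite presentation. -/
theorem result {X S : Scheme.{u}} (f : X ⟶ S) (hf : MoreMor.IsPseudoCoherentMor f) :
    LocallyOfFinitePresentation f := by
  refine ⟨fun {V} hV {U} hU e => ?_⟩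
  obtain ⟨n, φ, hφ, hpc⟩ := hf U V hU hV e
  letI := (f.appLE V U e).hom.toAlgebra
  letI := φ.toRingHom.toAlgebra
  have h1 := ((Groth.Agent.S2066.result _).1.2 hpc) (-1)
  have h2 := (Groth.Agent.S2068.result _ (-1) h1).2 fun i hi =>
    DerivedCategory.isZero_of_isLE _ 0 i (by omega)
  rw [show (-1 : ℤ) + 1 = 0 by norm_num] at h2
  haveI : Module.FinitePresentation (MvPolynomial (Fin n) Γ(S, V)) Γ(X, U) :=
    @Module.FinitePresentation.of_equiv _ _ _ _ _ _ _ _
      (((DerivedCategory.singleFunctorCompHomologyFunctorIso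
        (ModuleCat.{u} (MvPolynomial (Fin n) Γ(S, V))) 0).app (ModuleCat.of _ Γ(X, U))).toLinearEquiv) h2
  have hfp : Algebra.FinitePresentation Γ(S, V) Γ(X, U) :=
    Algebra.FinitePresentation.of_surjective hφ
      (Module.FinitePresentation.fg_ker (Algebra.linearMap (MvPolynomial (Fin n) Γ(S, V)) Γ(X, U)) hφ)
  exact hfp

end Groth.Agent.S7168
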