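import Groth.Statements.S7169
import Groth.Agent.PCMor.Scheme

set_option autoImplicit false
universe u
attribute [local instance] HasDerivedCategory.standard
open FlatMor

namespace Groth.Agent.S7169

open AlgebraicGeometry CategoryTheory Limits in
/-- If X and Y are pseudo-coherent over a base scheme S (via g : Y → S and f ≫ g), then any S-morphism f
: X → Y is pseudo-coherent. -/
theorem result {X Y S : Scheme.{u}} (f : X ⟶ Y) (g : Y ⟶ S)
    (hX : MoreMor.IsPseudoCoherentMor (f ≫ g)) (hY : MoreMor.IsPseudoCoherentMor g) : MoreMor.IsPseudoCoherentMor f := by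
  exact Groth.Agent.PCMor.cancel f g hX hY

end Groth.Agent.S7169
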