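import Groth.Statements.S7170
import Groth.Agent.PCMor.Scheme

set_option autoImplicit false
universe u
attribute [local instance] HasDerivedCategory.standard
open FlatMor

namespace Groth.Agent.S7170

open AlgebraicGeometry CategoryTheory Limits in
/-- For a finite morphism f : X → S, pseudo-coherence of f is equivalent to pseudo-coherence of the
O_S-module f_* O_X; as f is affine, the latter means that O_X(f⁻¹ V) is a pseudo-coherent
O_S(V)-module for every affine open V of S, the form used here. -/
theorem result {X S : Scheme.{u}} (f : X ⟶ S) [IsFinite f] :
    MoreMor.IsPseudoCoherentMor f ↔ ∀ (V : S.Opens), IsAffineOpen V →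
      (letI := (f.app V).hom.toAlgebra
       DRing.IsPseudoCoherentModule' Γ(S, V) Γ(X, f ⁻¹ᵁ V)) := by
  exact Groth.Agent.PCMor.iff_of_isFinite f

end Groth.Agent.S7170
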