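import Groth.Statements.S7173
import Groth.Agent.PerfMor.Spread
import Groth.Agent.S0563
import Groth.Agent.S7067

set_option autoImplicit false
universe u
attribute [local instance] HasDerivedCategory.standard
open FlatMor

namespace Groth.Agent.S7173

open AlgebraicGeometry CategoryTheory Limits in
/-- A morphism locally of finite type to a regular scheme S (locally Noetherian with all local rings
regular) whose affine opens have finite Krull dimension is perfect. (The published statement carries
no dimension hypothesis; its proof is the ring statement for a finite type algebra over a regular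
ring of finite dimension, so finite Krull dimension of the affine opens of S is assumed here.) -/
theorem result {X S : Scheme.{u}} (f : X ⟶ S) [LocallyOfFiniteType f] [IsLocallyNoetherian S]
    (hreg : ∀ s : S, IsRegularLocalRing (S.presheaf.stalk s))
    (hdim : ∀ V : S.Opens, IsAffineOpen V → ringKrullDim Γ(S, V) < ⊤) :
    MoreMor.IsPerfectMor f := by
  have hf : MoreMor.IsPseudoCoherentMor f := (Groth.Agent.PCMor.pcMor_iff f).2 fun V U e => by
    haveI : IsNoetherianRing Γ(S, V.1) := IsLocallyNoetherian.component_noetherian V
    letI := (f.appLE V U e).hom.toAlgebra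
    haveI : Algebra.FiniteType Γ(S, V.1) Γ(X, U.1) := HasRingHomProperty.appLE @LocallyOfFiniteType f inferInstance V U e
    exact Groth.Agent.PCMor.isPseudoCoherentHom_iff.1 (Groth.Agent.S7067.result Γ(S, V.1) Γ(X, U.1))
  rw [Groth.Agent.PerfMor.perfMor_iff_stalks f hf]
  intro x
  letI := (f.stalkMap x).hom.toAlgebra
  haveI := hreg (f x)
  obtain ⟨d, hd⟩ : ∃ d : ℕ, ringKrullDim (S.presheaf.stalk (f x)) = d := by
    obtain ⟨n, hn⟩ : ∃ n : ℕ, ringKrullDim (S.presheaf.stalk (f x)) = n :=
      ⟨_, ((isRegularLocalRing_iff _).mp inferInstance).symm⟩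
    exact ⟨n, hn⟩
  exact ⟨d, (Groth.Agent.H9Misc.DRingTor.torDimLE_iff d
    (ModuleCat.of (S.presheaf.stalk (f x)) (X.presheaf.stalk x))).2
    (Groth.Agent.H9Misc.DRingTor.inD_of_projDim d _ (Groth.Agent.S0563.result _ d hd _))⟩

end Groth.Agent.S7173
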