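import Groth.Statements.S7174
import Groth.Agent.PerfMor.Spread

set_option autoImplicit false
universe u
attribute [local instance] HasDerivedCategory.standard
open FlatMor

namespace Groth.Agent.S7174

open AlgebraicGeometry CategoryTheory Limits in
/-- (1) ⇔ (3): for a pseudo-coherent f : X → S, f is perfect exactly when, at every point x of X, the
stalk O_{X,x}, viewed as a module over O_{S,f(x)} through the stalk map, is of finite tor dimension.
(The intermediate condition on the structure sheaf as a sheaf of f⁻¹O_S-modules is not restated.) -/
theorem result {X S : Scheme.{u}} (f : X ⟶ S) (hf : MoreMor.IsPseudoCoherentMor f) :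
    MoreMor.IsPerfectMor f ↔ ∀ x : X,
      (letI := (f.stalkMap x).hom.toAlgebra
       DRing.HasFiniteTorDim ↑(S.presheaf.stalk (f x)) ↑(X.presheaf.stalk x)) := by
  rw [Groth.Agent.PerfMor.perfMor_iff_stalks f hf]
  exact forall_congr' fun x => Iff.rfl

end Groth.Agent.S7174
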