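import Groth.Statements.S7175
import Groth.Agent.S1105
import Groth.Agent.S1004
import Groth.Agent.KFlatLib.Scheme.TildePerf
import Groth.Agent.QCoh.Qcqs
import Groth.Agent.PerfMor.Scheme
import Groth.Agent.KRegLib.Perfect
import Groth.Agent.QCoh.Tilde
import Groth.Agent.QCoh.VanIdeal

set_option autoImplicit false
universe u
attribute [local instance] HasDerivedCategory.standard
open FlatMor

namespace Groth.Agent.S7175

open AlgebraicGeometry CategoryTheory Limits in
/-- For a perfect closed immersion i : Z → X, the O_X-module i_* O_Z is a perfect object of D(O_X). -/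
theorem result {Z X : Scheme.{u}} (i : Z ⟶ X) [IsClosedImmersion i]
    (hi : MoreMor.IsPerfectMor i) :
    DCoh.IsPerfect (DCoh.inD X ((Coh.push i).obj (Coh.structureModule Z))) := by
  open Groth.Agent in
  let M : X.Modules := (Coh.push i).obj (Coh.structureModule Z)
  have hM : Coh.IsQCoh M := QCoh.isQCoh_pushforward i QCoh.isQCoh_structureModule
  rw [KFlatLib.isPerfect_iff]
  intro x
  obtain ⟨D, hD, hxD, -⟩ := exists_isAffineOpen_mem_and_subset (U := ⊤) (x := x) trivial
  let R := Γ(X, D)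
  let j := hD.fromSpec
  let N : (Spec R).Modules := M.restrict j
  haveI := QCoh.tilde_preservesFiniteLimits (R := R)
  have hiso : IsIso (Scheme.Modules.fromTildeΓ N) :=
    (isQuasicoherent_iff_isIso_fromTildeΓ _).1 (QCoh.isQCoh_restrict j hM)
  let Γ₀ : ModuleCat.{u} R := moduleSpecΓFunctor.obj N
  have eN : (tilde.functor R).obj Γ₀ ≅ N := @asIso _ _ _ _ (Scheme.Modules.fromTildeΓ N) hiso
  let U := i ⁻¹ᵁ (j ''ᵁ ⊤)
  have himg : j ''ᵁ ⊤ = D := by rw [Scheme.Hom.image_top_eq_opensRange, IsAffineOpen.opensRange_fromSpec]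
  have hU : U = i ⁻¹ᵁ D := congrArg (i ⁻¹ᵁ ·) himg
  have hUaff : IsAffineOpen U := hU ▸ hD.preimage i
  letI : Algebra R Γ(Z, U) := (i.appLE D U hU.le).hom.toAlgebra
  have hpq : PerfMor.PQ (algebraMap R Γ(Z, U)) := (PerfMor.perfMor_iff i).1 hi ⟨D, hD⟩ ⟨U, hUaff⟩ hU.le
  haveI : Module.Finite R Γ(Z, U) := by
    refine Module.Finite.of_surjective (Algebra.linearMap R Γ(Z, U)) ?_
    have gen : ∀ (O : Z.Opens) (hO : O ≤ i ⁻¹ᵁ D), O = i ⁻¹ᵁ D → Function.Surjective (i.appLE D O hO).hom := by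
      rintro _ hO rfl
      rw [← Scheme.Hom.app_eq_appLE]
      exact i.app_surjective D hD
    exact gen U hU.le hU
  have hperf : DRing.IsPerfectModule R Γ(Z, U) := by
    obtain ⟨d, hd⟩ := PerfMor.ftd_algebraMap_iff.1 hpq.2
    exact (H9Misc.DRingPerfect.isPerfect_iff _).2 ⟨PCMor.q_iff_of_finite.1 hpq.1, _, _,
      (H9Misc.DRingTor.torDimLE_iff _ (ModuleCat.of R Γ(Z, U))).1 hd⟩
  have hscal : ∀ r : R, i.app (j ''ᵁ ⊤) ((j.appIso ⊤).inv ((Spec R).presheaf.map (𝟙 _)
      ((Scheme.ΓSpecIso R).inv r))) = algebraMap R Γ(Z, U) r := fun r => by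
    rw [CategoryTheory.Functor.map_id]
    have h1 : (Scheme.ΓSpecIso R).inv ≫ (j.appIso ⊤).inv =
        X.presheaf.map (eqToHom himg).op := by
      rw [Iso.comp_inv_eq, Scheme.Hom.appIso_hom', Scheme.Hom.map_appLE]
      simp only [Scheme.Hom.appLE, j, IsAffineOpen.fromSpec_app_self, Category.assoc, ← Functor.map_comp]
      convert (Category.comp_id _).symm using 2
      exact CategoryTheory.Functor.map_id _ _
    show i.app (j ''ᵁ ⊤) (((Scheme.ΓSpecIso R).inv ≫ (j.appIso ⊤).inv) r) = i.appLE D U hU.le r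
    rw [h1, ← CommRingCat.comp_apply, Scheme.Hom.app_eq_appLE, Scheme.Hom.map_appLE]
  have hperf' : DRing.IsPerfectModule R Γ₀ := by
    refine KRegLib.isPerfectModule_congr ?_ hperf
    exact
      { toFun := fun z => z
        invFun := fun z => z
        map_add' := fun _ _ => rfl
        map_smul' := fun r z => by
          show (algebraMap R Γ(Z, U) r * z : Γ(Z, U)) = _
          rw [← hscal]
          rfl
        left_inv := fun _ => rfl
        right_inv := fun _ => rfl }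
  have hloc := (KFlatLib.isPerfect_iff ((DCoh.tildeD R).obj (Dual.inD R Γ₀))).1
    ((Groth.Agent.S1105.result R _).2 hperf')
  have hxj : x ∈ Set.range j.base := by
    rw [hD.range_fromSpec]
    exact hxD
  obtain ⟨y, hy⟩ := hxj
  obtain ⟨V, k, hk, hyk, P, hP, ⟨eP⟩⟩ := hloc y
  haveI := hk
  refine ⟨V, k ≫ j, inferInstance, ?_, P, hP, ?_⟩
  · obtain ⟨v, hv⟩ := hyk
    exact ⟨v, by show j (k v) = x; rw [show k v = y from hv]; exact hy⟩
  have e1 : (KFlatLib.rho j).obj (DCoh.inD X M) ≅ DCoh.inD (Spec R) N :=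
    ((Scheme.Modules.restrictFunctor j).mapDerivedCategorySingleFunctor 0).app M
  have e2 : (DCoh.tildeD R).obj (Dual.inD R Γ₀) ≅ DCoh.inD (Spec R) N :=
    ((tilde.functor R).mapDerivedCategorySingleFunctor 0).app Γ₀ ≪≫
      (DerivedCategory.singleFunctor (Spec R).Modules 0).mapIso eN
  exact ⟨eP ≪≫ (KFlatLib.rho k).mapIso (e2 ≪≫ e1.symm) ≪≫ KFlatLib.rhoComp k j (k ≫ j) rfl _⟩

end Groth.Agent.S7175
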