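import Groth.Statements.S7176
import Groth.Agent.KRegLib.Kinds
import Groth.Agent.KRegLib.PermMor

set_option autoImplicit false
universe u
attribute [local instance] HasDerivedCategory.standard
open FlatMor

namespace Groth.Agent.S7176

open AlgebraicGeometry CategoryTheory Limits in
/-- Let i : Z → Y and j : Y → X be immersions with X locally Noetherian, j ∘ i a regular immersion and i
perfect. Then i is a regular immersion and j is a regular immersion at every point i(z), z in Z.
(The published statement concludes that j is a regular immersion outright; its proof works in the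
local rings of X at points of Z, and for Z empty the hypotheses hold for every immersion j, so the
conclusion on j is stated at the points of i(Z) only.) Over a locally Noetherian scheme the four
kinds of regular immersion agree; the kind is a parameter here. -/
theorem result {Z Y X : Scheme.{u}} (i : Z ⟶ Y) (j : Y ⟶ X) [IsImmersion i] [IsImmersion j]
    [IsLocallyNoetherian X] (k : RegImm.Kind) (h : RegImm.IsRegularImmersion k (i ≫ j)) (hi : MoreMor.IsPerfectMor i) :
    RegImm.IsRegularImmersion k i ∧ ∀ z : Z, RegImm.IsRegularImmersionAt k j (i z) := by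
  open Groth.Agent KRegLib in
  -- a regular immersion is a Koszul morphism
  have hfwd : ∀ {A B : Scheme.{u}} (f : A ⟶ B) [IsImmersion f] (a : A),
      RegImm.IsRegularImmersionAt .koszul f a → Synt.IsKoszulAt f a := by
    intro A B f _ a ha
    obtain ⟨D, hD, haD, -, hci⟩ := exists_affine_isClosedImmersion_restrict f a ⊤ trivial
    obtain ⟨hD', hDs⟩ := Synt29.surjective_app_of_isClosedImmersion_restrict f D hD
    haveI := hci
    have hK := kReg_of_regImmAt f a ha hD haD
    haveI : Algebra.Smooth Γ(B, D) Γ(B, D) := ⟨inferInstance, inferInstance⟩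
    have hc := congrArg PrimeSpectrum.asIdeal
      (IsAffineOpen.comap_primeIdealOf_appLE (f := f) D hD (f ⁻¹ᵁ D) hD' le_rfl haD)
    have he : (f.appLE D (f ⁻¹ᵁ D) le_rfl).hom = (f.app D).hom := by rw [Scheme.Hom.app_eq_appLE]
    rw [← hc, PrimeSpectrum.comap_asIdeal, he] at hK
    exact isKoszulAt_of_kReg f hD' hD le_rfl a haD (f.app D).hom
      (by rw [Algebra.algebraMap_self, RingHom.comp_id, he]) hDs hK
  -- and conversely over a locally noetherian base
  have hback : ∀ {A B : Scheme.{u}} [IsLocallyNoetherian B] (f : A ⟶ B) [IsImmersion f] (a : A),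
      Synt.IsKoszulAt f a → RegImm.IsRegularImmersionAt k f a := by
    intro A B _ f _ a ha
    obtain ⟨⟨V, hV⟩, ⟨U, hU⟩, haU, e, hl⟩ := exists_chart_of_isKoszulAt f a ha
    obtain ⟨O, hO, hOU⟩ := f.isEmbedding.isInducing.isOpen_iff.1 U.2
    let O' : B.Opens := ⟨O, hO⟩
    have hOU' : f ⁻¹ᵁ O' = U := TopologicalSpace.Opens.ext hOU
    obtain ⟨W, hW, haW, hWO, hci⟩ := exists_affine_isClosedImmersion_restrict f a (O' ⊓ V)
      ⟨(hOU'.ge haU : a ∈ f ⁻¹ᵁ O'), e haU⟩
    obtain ⟨g, hgW, hga⟩ := hV.exists_basicOpen_le (V := W) ⟨f a, haW⟩ (e haU)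
    let D := B.basicOpen g
    have hD : IsAffineOpen D := hV.basicOpen g
    haveI := hci
    haveI : IsClosedImmersion (f ∣_ D) := isClosedImmersion_restrict_of_le f hgW
    obtain ⟨hD', hDs⟩ := Synt29.surjective_app_of_isClosedImmersion_restrict f D hD
    have hDU : f ⁻¹ᵁ D ≤ U := fun y hy => hOU'.le (show y ∈ f ⁻¹ᵁ O' from (hWO (hgW hy)).1)
    let U' := A.basicOpen ((f.appLE V U e).hom g)
    have hU' : U' = f ⁻¹ᵁ D := by
      show A.basicOpen (f.appLE V U e g) = _
      rw [Scheme.basicOpen_appLE]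
      exact inf_eq_right.2 hDU
    letI : Algebra Γ(B, V) Γ(B, D) := (B.presheaf.map (homOfLE (B.basicOpen_le g)).op).hom.toAlgebra
    haveI : IsLocalization.Away g Γ(B, D) := hV.isLocalization_basicOpen g
    haveI := hU.isLocalization_basicOpen ((f.appLE V U e).hom g)
    have hl' : RingHomIsLCI (f.appLE D U' hU'.le).hom := by
      convert lci_propertyIsLocal.localizationAwayPreserves (f.appLE V U e).hom g Γ(B, D) Γ(A, U') hl using 1
      refine IsLocalization.ringHom_ext (Submonoid.powers g) ?_
      rw [IsLocalization.Away.map, IsLocalization.map_comp, RingHom.algebraMap_toAlgebra,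
        RingHom.algebraMap_toAlgebra, ← CommRingCat.hom_comp, ← CommRingCat.hom_comp, Scheme.Hom.map_appLE,
        Scheme.Hom.appLE_map]
    have hl'' : RingHomIsLCI (f.app D).hom := by
      have gen : ∀ (O₁ : A.Opens) (h₁ : O₁ ≤ f ⁻¹ᵁ D), O₁ = f ⁻¹ᵁ D →
          RingHomIsLCI (f.appLE D O₁ h₁).hom → RingHomIsLCI (f.app D).hom := by
        rintro _ h₁ rfl hh
        rwa [Scheme.Hom.app_eq_appLE]
      exact gen _ _ hU' hl'
    letI : Algebra Γ(B, D) Γ(A, f ⁻¹ᵁ D) := (f.app D).hom.toAlgebra
    haveI : Algebra.Smooth Γ(B, D) Γ(B, D) := ⟨inferInstance, inferInstance⟩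
    have hK := kReg_of_isLCI (A := Γ(B, D)) hl'' (Algebra.ofId Γ(B, D) Γ(A, f ⁻¹ᵁ D)) hDs
      (hD'.primeIdealOf ⟨a, hga⟩).asIdeal
    refine regImmAt_of_kReg k f a hD hga ?_
    have hc := congrArg PrimeSpectrum.asIdeal
      (IsAffineOpen.comap_primeIdealOf_appLE (f := f) D hD (f ⁻¹ᵁ D) hD' le_rfl hga)
    rw [← hc, PrimeSpectrum.comap_asIdeal, show (f.appLE D (f ⁻¹ᵁ D) le_rfl).hom = (f.app D).hom from by
      rw [Scheme.Hom.app_eq_appLE]]
    exact hK
  haveI : IsImmersion (i ≫ j) := inferInstance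
  have hij : ∀ z : Z, Synt.IsKoszulAt (i ≫ j) z := fun z =>
    hfwd (i ≫ j) z (regImmAt_of_regImmAt k .koszul (i ≫ j) z (h.2 z))
  haveI : IsLocallyNoetherian Y := LocallyOfFiniteType.isLocallyNoetherian j
  have hp := isKoszulAt_of_comp i j (finPdCharts_of_perfect i hi) hij
  exact ⟨⟨inferInstance, fun z => hback i z (hp z).1⟩, fun z => hback j (i z) (hp z).2⟩

end Groth.Agent.S7176
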