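import Groth.Statements.S7177
import Groth.Agent.Approx.DiagFlat
import Mathlib.RingTheory.Flat.Localization

set_option autoImplicit false
set_option backward.isDefEq.respectTransparency false
set_option backward.isDefEq.respectTransparency.types false
universe u
open FlatMor

namespace Groth.Agent.S7177

open AlgebraicGeometry CategoryTheory Limits in
/-- Let f : X → Y have flat diagonal and let F be an O_X-module flat over Y. Then F is flat as an
O_X-module. -/
theorem result {X Y : Scheme.{u}} (f : X ⟶ Y) [Flat (pullback.diagonal f)] (F : X.Modules)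
    (hF : FlatMod.IsFlatOver f F) : FlatMod.IsFlat F := by
  intro x
  obtain ⟨U, hU, hxU, -⟩ := exists_isAffineOpen_mem_and_subset (X := Y) (x := f x) (U := ⊤) trivial
  obtain ⟨V, hV, hxV, hVU⟩ := exists_isAffineOpen_mem_and_subset (X := X) (x := x) (U := f ⁻¹ᵁ U) hxU
  let φ := f.appLE U V hVU
  letI := φ.hom.toAlgebra
  have hd0 : Flat (pullback.diagonal (Spec.map φ)) := by
    have hP : MorphismProperty.diagonal @Flat f := ‹_›
    have h1 : MorphismProperty.diagonal @Flat (Spec.map φ ≫ hU.fromSpec) := by
      rw [IsAffineOpen.SpecMap_appLE_fromSpec f hU hV hVU]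
      exact MorphismProperty.comp_mem _ _ _
        (show Flat (pullback.diagonal hV.fromSpec) from inferInstance) hP
    let e : pullback (Spec.map φ) (Spec.map φ) ≅
        pullback (Spec.map φ ≫ hU.fromSpec) (Spec.map φ ≫ hU.fromSpec) :=
      { hom := pullback.lift (pullback.fst _ _) (pullback.snd _ _) (by rw [pullback.condition_assoc])
        inv := pullback.lift (pullback.fst _ _) (pullback.snd _ _) (by
          rw [← cancel_mono hU.fromSpec, Category.assoc, Category.assoc, pullback.condition])
        hom_inv_id := by apply pullback.hom_ext <;> simp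
        inv_hom_id := by apply pullback.hom_ext <;> simp }
    have he : pullback.diagonal (Spec.map φ ≫ hU.fromSpec) = pullback.diagonal (Spec.map φ) ≫ e.hom := by
      apply pullback.hom_ext <;> simp [e]
    have h2 : Flat (pullback.diagonal (Spec.map φ ≫ hU.fromSpec)) := h1
    haveI : IsIso e.hom := e.isIso_hom
    rwa [he, MorphismProperty.cancel_right_of_respectsIso (P := @Flat)] at h2
  have hd : (Algebra.TensorProduct.lmul' Γ(Y, U) (S := Γ(X, V))).Flat := by
    have h : Flat (pullback.diagonal (Spec.map (CommRingCat.ofHom (algebraMap Γ(Y, U) Γ(X, V))))) := hd0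
    rwa [AlgebraicGeometry.diagonal_SpecMap, MorphismProperty.cancel_right_of_respectsIso (P := @Flat),
      HasRingHomProperty.Spec_iff (P := @Flat)] at h
  haveI := Groth.Agent.Approx.DiagFlat.pure_diag_of_flat hd
  letI aU := TopCat.Presheaf.algebra_section_stalk Y.presheaf (⟨f x, hxU⟩ : U)
  letI aV := TopCat.Presheaf.algebra_section_stalk X.presheaf (⟨x, hxV⟩ : V)
  haveI := hU.isLocalization_stalk ⟨f x, hxU⟩
  haveI := hV.isLocalization_stalk ⟨x, hxV⟩
  letI := (f.stalkMap x).hom.toAlgebra
  letI := FlatMod.moduleStalkOver f F x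
  haveI : Module.Flat (Y.presheaf.stalk (f x)) (F.presheaf.stalk x) := hF x
  letI : Module Γ(Y, U) (F.presheaf.stalk x) := Module.compHom _ (algebraMap Γ(Y, U) (Y.presheaf.stalk (f x)))
  letI : Module Γ(X, V) (F.presheaf.stalk x) := Module.compHom _ (algebraMap Γ(X, V) (X.presheaf.stalk x))
  haveI : IsScalarTower Γ(Y, U) (Y.presheaf.stalk (f x)) (F.presheaf.stalk x) :=
    IsScalarTower.of_algebraMap_smul fun _ _ => rfl
  haveI : IsScalarTower Γ(X, V) (X.presheaf.stalk x) (F.presheaf.stalk x) :=
    IsScalarTower.of_algebraMap_smul fun _ _ => rfl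
  haveI : IsScalarTower Γ(Y, U) Γ(X, V) (F.presheaf.stalk x) := IsScalarTower.of_algebraMap_smul fun a m => by
    show X.presheaf.germ V x hxV (f.appLE U V hVU a) • m = f.stalkMap x (Y.presheaf.germ U (f x) hxU a) • m
    rw [Scheme.Hom.germ_stalkMap_apply f U x hxU, Scheme.Hom.appLE, CommRingCat.comp_apply,
      X.presheaf.germ_res_apply]
  haveI : Module.Flat Γ(Y, U) (Y.presheaf.stalk (f x)) :=
    IsLocalization.flat _ (hU.primeIdealOf ⟨f x, hxU⟩).asIdeal.primeCompl
  haveI : Module.Flat Γ(Y, U) (F.presheaf.stalk x) := Module.Flat.trans Γ(Y, U) (Y.presheaf.stalk (f x)) _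
  haveI : Module.Flat Γ(X, V) (F.presheaf.stalk x) :=
    Groth.Agent.Approx.DiagFlat.flat_of_flat (A := Γ(Y, U)) (B := Γ(X, V)) _
  exact (Module.flat_iff_of_isLocalization (X.presheaf.stalk x) (hV.primeIdealOf ⟨x, hxV⟩).asIdeal.primeCompl _).2 ‹_›

end Groth.Agent.S7177
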