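import Groth.Statements.S7178
import Mathlib

set_option autoImplicit false
set_option backward.isDefEq.respectTransparency.types false
universe u
open FlatMor

namespace Groth.Agent.S7178

open AlgebraicGeometry CategoryTheory Limits in
/-- (1) ⇔ (2): f : X → S is weakly étale if and only if, whenever U ⊆ X and V ⊆ S are affine opens and f
maps U into V, the ring O_X(U) is a weakly étale O_S(V)-algebra (flat, with flat multiplication map
O_X(U) ⊗ O_X(U) → O_X(U) over O_S(V)). -/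
theorem result {X S : Scheme.{u}} (f : X ⟶ S) :
    WeaklyEtale f ↔ ∀ (U : X.Opens) (V : S.Opens) (_ : IsAffineOpen U) (_ : IsAffineOpen V) (hUV : U ≤ f ⁻¹ᵁ V),
      (letI := (f.appLE V U hUV).hom.toAlgebra
       Algebra.WeaklyEtale Γ(S, V) Γ(X, U)) := by
  have key : ∀ (A B : CommRingCat.{u}) (φ : A ⟶ B), WeaklyEtale (Spec.map φ) ↔
      (letI := φ.hom.toAlgebra; Algebra.WeaklyEtale A B) := by
    intro A B φ
    algebraize [φ.hom]
    have h1 : Flat (Spec.map φ) ↔ Module.Flat A B := Flat.SpecMap_iff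
    have h2 : Flat (pullback.diagonal (Spec.map φ)) ↔
        (Algebra.TensorProduct.lmul' A (S := B)).Flat := by
      rw [show Spec.map φ = Spec.map (CommRingCat.ofHom (algebraMap A B)) from rfl, diagonal_SpecMap,
        MorphismProperty.cancel_right_of_respectsIso (P := (@Flat : MorphismProperty Scheme.{u})), Flat.SpecMap_iff]
      rfl
    exact ⟨fun h => ⟨h1.1 h.flat, h2.1 h.flat_diagonal⟩, fun h => ⟨h1.2 h.flat, h2.2 h.flat_lmul'⟩⟩
  have hres : ∀ (U : X.Opens) (V : S.Opens) (hU : IsAffineOpen U) (hV : IsAffineOpen V) (e : U ≤ f ⁻¹ᵁ V),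
      WeaklyEtale (f.resLE V U e) ↔
        (letI := (f.appLE V U e).hom.toAlgebra; Algebra.WeaklyEtale Γ(S, V) Γ(X, U)) := by
    intro U V hU hV e
    rw [← key _ _ (f.appLE V U e)]
    refine (MorphismProperty.arrow_mk_iso_iff @WeaklyEtale (Arrow.isoMk hU.isoSpec hV.isoSpec ?_)).trans Iff.rfl
    rw [IsAffineOpen.isoSpec_hom, IsAffineOpen.isoSpec_hom]
    exact Scheme.Opens.toSpecΓ_SpecMap_appLE ..
  constructor
  · intro _ U V hU hV e
    exact (hres U V hU hV e).1 inferInstance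
  · intro h
    rw [IsZariskiLocalAtTarget.iff_of_iSup_eq_top (P := @WeaklyEtale) _ (iSup_affineOpens_eq_top S)]
    intro V
    rw [IsZariskiLocalAtSource.iff_of_openCover (P := @WeaklyEtale)
      (Scheme.affineCover ((f ⁻¹ᵁ V.1).toScheme))]
    intro i
    let g := (f ⁻¹ᵁ V.1).toScheme.affineCover.f i
    have e : (f ⁻¹ᵁ V.1).ι ''ᵁ g.opensRange ≤ f ⁻¹ᵁ V.1 := Scheme.Opens.ι_image_le _ _
    have hU : IsAffineOpen ((f ⁻¹ᵁ V.1).ι ''ᵁ g.opensRange) :=
      (isAffineOpen_opensRange g).image_of_isOpenImmersion _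
    have h3 := (hres _ _ hU V.2 e).2 (h _ _ hU V.2 e)
    let k : (f ⁻¹ᵁ V.1).toScheme.affineCover.X i ≅ ((f ⁻¹ᵁ V.1).ι ''ᵁ g.opensRange).toScheme :=
      IsOpenImmersion.isoOfRangeEq (g ≫ (f ⁻¹ᵁ V.1).ι) ((f ⁻¹ᵁ V.1).ι ''ᵁ g.opensRange).ι (by
        simp [Set.range_comp])
    have heq : g ≫ f ∣_ V.1 = k.hom ≫ f.resLE V.1 _ e := by
      rw [← cancel_mono V.1.ι]
      simp [k]
    exact (heq ▸ (inferInstance : WeaklyEtale (k.hom ≫ f.resLE V.1 _ e)) :)

end Groth.Agent.S7178
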