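import Groth.Statements.S7179
import Groth.Agent.S7128
import Groth.Agent.S7178
-- import your own Groth.Agent.* helpers here

set_option autoImplicit false
universe u
open FlatMor

namespace Groth.Agent.S7179

open AlgebraicGeometry CategoryTheory Limits in
/-- The source of a weakly étale morphism with reduced target is reduced. -/
theorem result {X Y : Scheme.{u}} (f : X ⟶ Y) [WeaklyEtale f] [IsReduced Y] : IsReduced X := by
  refine @isReduced_of_isReduced_stalk _ fun x => ?_
  obtain ⟨V, hV, hxV, -⟩ := exists_isAffineOpen_mem_and_subset (U := (⊤ : Y.Opens)) (x := f x) trivial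
  obtain ⟨U, hU, hxU, hUV⟩ := exists_isAffineOpen_mem_and_subset (U := f ⁻¹ᵁ V) (x := x) hxV
  letI := (f.appLE V U hUV).hom.toAlgebra
  haveI : Algebra.WeaklyEtale Γ(Y, V) Γ(X, U) := (S7178.result f).1 inferInstance U V hU hV hUV
  haveI : _root_.IsReduced Γ(X, U) := S7128.result Γ(Y, V) Γ(X, U)
  haveI : IsReduced U.toScheme := by
    haveI : _root_.IsReduced (CommRingCat.of Γ(X, U)) := by assumption
    exact isReduced_of_isOpenImmersion hU.isoSpec.hom
  haveI : _root_.IsReduced (U.toScheme.presheaf.stalk ⟨x, hxU⟩) := isReduced_stalk_of_isReduced U.toScheme ⟨x, hxU⟩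
  exact isReduced_of_injective (U.stalkIso ⟨x, hxU⟩).inv.hom
    ((ConcreteCategory.bijective_of_isIso (U.stalkIso ⟨x, hxU⟩).inv).injective)

end Groth.Agent.S7179
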