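import Groth.Statements.S7186
import Groth.Agent.SeesawX.Glue17

set_option autoImplicit false
set_option backward.isDefEq.respectTransparency false
set_option backward.isDefEq.respectTransparency.types false
universe u
open FlatMor

namespace Groth.Agent.S7186

open AlgebraicGeometry CategoryTheory Limits in
/-- Let f : X → S be flat, proper and of finite presentation such that O_T → (f_T)_* O_{X_T} is an
isomorphism for every base change T → S. Suppose E is an O_X-module that is finite locally free and
whose restriction to each fibre X_s is free, and let S be reduced. Then E is isomorphic to the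
pullback of a finite locally free O_S-module. -/
theorem result {X S : Scheme.{u}} (f : X ⟶ S) [Flat f] [IsProper f] [LocallyOfFinitePresentation f]
    (hO : ∀ (T : Scheme.{u}) (g : T ⟶ S) (U : T.Opens), IsIso ((pullback.snd f g).app U))
    (E : X.Modules) (hE : FlatMod.IsFinLocFree E)
    (hfib : ∀ s : S, ∃ r : ℕ, Nonempty ((Scheme.Modules.pullback (f.fiberι s)).obj E ≅ FlatMod.freeMod (f.fiber s) r))
    [IsReduced S] :
    ∃ N : S.Modules, FlatMod.IsFinLocFree N ∧ Nonempty ((Scheme.Modules.pullback f).obj N ≅ E) := by
  have hu := Groth.Agent.SeesawX.univPush_of_isIso_app hO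
  have hcon := Groth.Agent.SeesawX.connectedSpace_fiber_of_isIso_app hO
  obtain ⟨Z, ι, h₁, h₂, -, h⟩ := Groth.Agent.SeesawX.exists_seesaw_finLocFree_of_univPush (f := f) hu hcon hE
  haveI := h₁
  have hr : Set.range ι = Set.univ := by
    rw [Groth.Agent.SeesawX.range_eq_free_fibre ι h]
    exact Set.eq_univ_of_forall fun s => hfib s
  haveI : IsClosedImmersion ι := IsClosedImmersion.of_isPreimmersion ι (by rw [hr]; exact isClosed_univ)
  haveI : Surjective ι := ⟨fun s => by have : s ∈ Set.range ι := hr ▸ trivial; exact this⟩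
  haveI : IsIso ι := isIso_of_isClosedImmersion_of_surjective ι
  obtain ⟨M, hM, ⟨e⟩⟩ := (h (𝟙 S) f (𝟙 X) (IsPullback.of_horiz_isIso ⟨by simp⟩)).1 ⟨inv ι, IsIso.inv_hom_id ι⟩
  exact ⟨M, hM, ⟨e.symm ≪≫ (Scheme.Modules.pullbackId X).app E⟩⟩

end Groth.Agent.S7186
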