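import Groth.Statements.S7187
import Groth.Agent.RelPC17.FibTriv

set_option autoImplicit false
set_option backward.isDefEq.respectTransparency false
set_option backward.isDefEq.respectTransparency.types false
universe u
open FlatMor

namespace Groth.Agent.S7187

open AlgebraicGeometry CategoryTheory Limits in
/-- Let X and Y be Noetherian schemes and f : X → Y a proper morphism with O_Y → f_* O_X an isomorphism,
fibres of dimension at most 1, and H^1(X_y, O_{X_y}) = 0 for all y. Then f^* is injective on
isomorphism classes of invertible modules, and for every invertible O_X-module L whose restriction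
to each fibre X_y is trivial the direct image f_* L is an invertible O_Y-module. (The published
statement asserts moreover that such an L is isomorphic to f^* f_* L, so that f^* is a bijection
onto the classes of fibrewise trivial invertible modules; that last step is not stated here.) -/
theorem result {X Y : Scheme.{u}} (f : X ⟶ Y) [IsProper f] [IsNoetherian X] [IsNoetherian Y]
    (hO : ∀ U : Y.Opens, IsIso (f.app U))
    (hdim : ∀ y : Y, topologicalKrullDim ↥(f.fiber y) ≤ 1)
    (hH1 : ∀ y : Y, Subsingleton (Coh.HH (f.fiber y) (Coh.structureModule (f.fiber y)) 1)) :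
    (∀ N N' : Y.Modules, PicF.IsInvertible N → PicF.IsInvertible N' →
        Nonempty ((Scheme.Modules.pullback f).obj N ≅ (Scheme.Modules.pullback f).obj N') → Nonempty (N ≅ N')) ∧
    (∀ L : X.Modules, PicF.IsInvertible L →
        (∀ y : Y, Nonempty ((Scheme.Modules.pullback (f.fiberι y)).obj L ≅ Coh.structureModule (f.fiber y))) →
          PicF.IsInvertible ((Scheme.Modules.pushforward f).obj L)) := by
  open Groth.Agent in
  have hb : ∀ U : Y.Opens, Function.Bijective (f.app U) := fun U =>
    (ConcreteCategory.isIso_iff_bijective _).1 (hO U)
  refine ⟨fun N N' hN hN' ⟨e⟩ => ?_, fun L hL hT => ?_⟩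
  · have := H23.PullPush.isIso_unit_of_isFinLocFree f hb N (H23.PullPush.isFinLocFree_of_isInvertible hN)
    have := H23.PullPush.isIso_unit_of_isFinLocFree f hb N' (H23.PullPush.isFinLocFree_of_isInvertible hN')
    exact ⟨asIso ((Scheme.Modules.pullbackPushforwardAdjunction f).unit.app N) ≪≫
      (Scheme.Modules.pushforward f).mapIso e ≪≫
      (asIso ((Scheme.Modules.pullbackPushforwardAdjunction f).unit.app N')).symm⟩
  · exact RelPC17.FibTriv.isInvertible_pushforward f hL (by simpa using hdim) hH1
      (fun y => (H23.SeesawGlobal.fieldTriv_iff_residueField y).2 (hT y)) hb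

end Groth.Agent.S7187
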