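import Groth.Statements.S7188
import Groth.Agent.SeesawX.Closed
import Groth.Agent.SeesawX.Crit

set_option autoImplicit false
set_option backward.isDefEq.respectTransparency false
set_option backward.isDefEq.respectTransparency.types false
set_option linter.style.haveILetI false
universe u
open FlatMor

namespace Groth.Agent.S7188

open AlgebraicGeometry CategoryTheory Limits in
theorem geometricallyIntegral_of {X S : Scheme.{u}} (f : X ⟶ S)
    (hgeo : ∀ (K : Type u) [Field K] (x : Spec (CommRingCat.of K) ⟶ S), IsIntegral (pullback f x)) :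
    GeometricallyIntegral f := by
  refine ⟨fun K _ y Z fst snd h => ?_⟩
  haveI := hgeo K y
  haveI : Nonempty Z := ⟨h.isoPullback.inv (Classical.arbitrary _)⟩
  exact isIntegral_of_isOpenImmersion h.isoPullback.hom

open AlgebraicGeometry CategoryTheory Limits in
/-- Let f : X → S be flat, proper and of finite presentation with O_T → (f_T)_* O_{X_T} an isomorphism
for every base change, let E be an invertible O_X-module, and let j : Z → S be the immersion of
finite presentation representing the locus of those T → S over which the pullback of E comes from a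
finite locally free O_T-module. If every geometric fibre of f is an integral scheme, j is a closed
immersion (the locus is a closed subscheme of S). -/
theorem result {X S Z : Scheme.{u}} (f : X ⟶ S) [Flat f] [IsProper f] [LocallyOfFinitePresentation f]
    (hO : ∀ (T : Scheme.{u}) (g : T ⟶ S) (U : T.Opens), IsIso ((pullback.snd f g).app U))
    (E : X.Modules) (hE : PicF.IsInvertible E)
    (j : Z ⟶ S) [IsImmersion j] [LocallyOfFinitePresentation j]
    (hZ : ∀ (T : Scheme.{u}) (g : T ⟶ S), (∃ g' : T ⟶ Z, g' ≫ j = g) ↔
        ∃ N : T.Modules, FlatMod.IsFinLocFree N ∧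
          Nonempty ((Scheme.Modules.pullback (pullback.snd f g)).obj N ≅ (Scheme.Modules.pullback (pullback.fst f g)).obj E))
    (hgeo : ∀ (K : Type u) [Field K] (x : Spec (CommRingCat.of K) ⟶ S), IsIntegral (pullback f x)) :
    IsClosedImmersion j := by
  haveI := geometricallyIntegral_of f hgeo
  suffices h : Set.range j = {s : S | Nonempty ((Scheme.Modules.pullback (f.fiberι s)).obj E ≅ Coh.structureModule (f.fiber s))} from
    IsClosedImmersion.of_isPreimmersion j (h ▸ SeesawX.isClosed_fibre_trivial f hE)
  ext s
  constructor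
  · rintro ⟨z, rfl⟩
    haveI : IsIso (j.residueFieldMap z) := (ConcreteCategory.isIso_iff_bijective _).2 ⟨RingHom.injective _, fun a => by
      obtain ⟨b, rfl⟩ := IsLocalRing.residue_surjective a
      obtain ⟨c, rfl⟩ := j.stalkMap_surjective z b
      exact ⟨IsLocalRing.residue _ c, rfl⟩⟩
    obtain ⟨N, hN, ⟨e⟩⟩ := (hZ _ (S.fromSpecResidueField (j z))).1
      ⟨CategoryTheory.inv (Spec.map (j.residueFieldMap z)) ≫ Z.fromSpecResidueField z, by
        rw [Category.assoc, ← Scheme.Hom.SpecMap_residueFieldMap_fromSpecResidueField, IsIso.inv_hom_id_assoc]⟩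
    let T := Spec (S.residueField (j z))
    haveI : Subsingleton ↥T := inferInstanceAs (Subsingleton (PrimeSpectrum (S.residueField (j z))))
    haveI : Nonempty ↥T := inferInstanceAs (Nonempty (PrimeSpectrum (S.residueField (j z))))
    obtain ⟨U, n, hU, hn⟩ := hN (Classical.arbitrary T)
    have hNn : FlatMod.IsFinLocFreeOfRank n N := fun x => ⟨U, by
      rwa [Subsingleton.elim x (Classical.arbitrary T)], hn⟩
    haveI : IsIntegral (f.fiber (j z)) :=
      GeometricallyIntegral.geometrically_isIntegral _ _ _ (IsPullback.of_hasPullback f (S.fromSpecResidueField (j z)))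
    let w : ↥(f.fiber (j z)) := Classical.arbitrary _
    have h1 := ((ConsPropLib.isFinLocFreeOfRank_iff.1 ((ConsPropLib.isFinLocFreeOfRank_iso e).1
      (TFOneX.isFinLocFreeOfRank_pullback (f.fiberToSpecResidueField (j z)) hNn))).2 w)
    have h2 := (ConsPropLib.isFinLocFreeOfRank_iff.1 (SeesawX.isFinLocFreeOfRank_one
      (PicClLib.isInvertible_pullback (f.fiberι (j z)) hE))).2 w
    obtain rfl : n = 1 := h1.symm.trans h2
    obtain ⟨τ⟩ := NefPull.triv_of_subsingleton (SeesawX.isInvertible_of_rank_one hNn)
    obtain ⟨v⟩ := PicClLib.nonempty_pullback_structureModule (f.fiberToSpecResidueField (j z))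
    exact ⟨e.symm ≪≫ (Scheme.Modules.pullback _).mapIso τ ≪≫ v⟩
  · rintro ⟨τ⟩
    obtain ⟨v⟩ := PicClLib.nonempty_pullback_structureModule (f.fiberToSpecResidueField s)
    have hT : FlatMod.IsFinLocFree (Coh.structureModule (Spec (S.residueField s))) := fun x =>
      (SeesawX.isFinLocFreeOfRank_one InvX.isInvertible_structureModule x).elim fun U h => ⟨U, 1, h⟩
    obtain ⟨g', hg'⟩ := (hZ _ (S.fromSpecResidueField s)).2 ⟨_, hT, ⟨v ≪≫ τ.symm⟩⟩
    obtain ⟨p⟩ : Nonempty ↥(Spec (S.residueField s)) := inferInstanceAs (Nonempty (PrimeSpectrum (S.residueField s)))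
    exact ⟨g' p, by rw [← Scheme.Hom.comp_apply, hg', Scheme.fromSpecResidueField_apply]⟩

end Groth.Agent.S7188
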