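import Groth.Statements.S7191
import Mathlib
import Groth.Agent.FlatMisc.CDecompLim
import Groth.Agent.MorLib.LimCons

set_option autoImplicit false
universe u
open CategoryTheory AlgebraicGeometry
open FlatMor

namespace Groth.Agent.S7191

/-- Let S = lim S_i be a cofiltered limit of schemes with affine transition morphisms, f₀ : X₀ → Y₀ a
morphism over some S_{i₀} with Y₀ quasi-compact and quasi-separated and f₀ locally of finite
presentation, and f : X → Y its base change to S. If f is completely decomposed (every point of Y is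
the image of a point of X with the same residue field), then some base change f_i : X_i → Y_i of f₀
to an S_i, i → i₀, is completely decomposed. -/
theorem result {I : Type u} [SmallCategory I] [IsCofiltered I]
    (D : I ⥤ Scheme.{u}) (c : Limits.Cone D) (hc : Limits.IsLimit c)
    [∀ (i j : I) (a : i ⟶ j), IsAffineHom (D.map a)]
    (i0 : I) {X0 Y0 X Y : Scheme.{u}} (f0 : X0 ⟶ Y0) (q0 : Y0 ⟶ D.obj i0) [CompactSpace ↥Y0] [QuasiSeparatedSpace ↥Y0]
    [LocallyOfFinitePresentation f0]
    (f : X ⟶ Y) (q : Y ⟶ c.pt) (pY : Y ⟶ Y0) (pX : X ⟶ X0)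
    (hY : IsPullback pY q q0 (c.π.app i0)) (hX : IsPullback pX f f0 pY)
    (hcd : ∀ y : Y, ∃ x : X, f x = y ∧ Function.Bijective (f.residueFieldMap x)) :
    ∃ (i : I) (a : i ⟶ i0) (Xi Yi : Scheme.{u}) (fi : Xi ⟶ Yi) (qi : Yi ⟶ D.obj i) (pYi : Yi ⟶ Y0) (pXi : Xi ⟶ X0),
      IsPullback pYi qi q0 (D.map a) ∧ IsPullback pXi fi f0 pYi ∧
      ∀ y : Yi, ∃ x : Xi, fi x = y ∧ Function.Bijective (fi.residueFieldMap x) := by
  classical
  open AlgebraicGeometry CategoryTheory Limits in
  haveI : ∀ {i j : I} (a : i ⟶ j), IsAffineHom (D.map a) := fun a => inferInstance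
  let D' := MorLib.BC.diag D q0
  let e := MorLib.BC.cone D q0 hY
  have he := MorLib.BC.isLimitCone D q0 hY hc
  haveI : ∀ {i j : Over i0} (a : i ⟶ j), IsAffineHom (D'.map a) := fun a => MorLib.BC.isAffineHom_map D q0 a
  let t := MorLib.BC.toStart D q0
  have hq : ∀ j, e.π.app j ≫ t.app j = pY := fun j => MorLib.BC.proj_fst D q0 hY j
  haveI : ∀ j, QuasiSeparatedSpace (D'.obj j) := fun j => MorLib.BC.quasiSeparatedSpace_obj D q0 j
  haveI : CompactSpace (D'.obj (Over.mk (𝟙 i0))) := MorLib.BC.compactSpace_obj D q0 _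
  obtain ⟨j, -, hj⟩ := (MorLib.LimPro.subset_iff he (Over.mk (𝟙 i0)) (fun _ => Set.univ)
    (fun j => {w | FlatMisc.CDecompLim.Good f0 (t.app j) w})
    (fun j _ => MorLib.LimCons.pro_univ) (fun j _ => FlatMisc.CDecompLim.isIndConstructible_good)
    (fun _ _ _ _ _ => trivial)
    (fun a b φ w hw => by
      have h := FlatMisc.CDecompLim.good_map (D'.map φ) hw
      rwa [show D'.map φ ≫ t.app b = t.app a from (t.naturality φ).trans (Category.comp_id _)] at h)).mp (by
      intro s _
      obtain ⟨x, rfl, hx⟩ := hcd s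
      obtain ⟨a, ha⟩ := FlatMisc.CDecompLim.good_of_point x hx
      have h2 : (a ≫ pX) ≫ f0 = Y.fromSpecResidueField (f x) ≫ pY := by
        rw [Category.assoc, hX.w, ← Category.assoc, ha, Category.comp_id]
      obtain ⟨j, hj⟩ := FlatMisc.CDecompLim.exists_good (f := f0) D' e he t pY hq (f x) ⟨a ≫ pX, h2⟩
      exact Set.mem_iUnion.mpr ⟨j, hj⟩)
  refine ⟨j.left, j.hom, _, _, pullback.snd f0 (pullback.fst q0 (D.map j.hom)), pullback.snd q0 (D.map j.hom),
    pullback.fst q0 (D.map j.hom), pullback.fst f0 _, IsPullback.of_hasPullback _ _, IsPullback.of_hasPullback _ _,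
    fun y => ?_⟩
  exact FlatMisc.CDecompLim.exists_point (hj j (𝟙 j) (Set.mem_univ y))

end Groth.Agent.S7191
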