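import Groth.Statements.S7192
import Groth.Agent.MorLib.WeightTest
import Groth.Agent.MorLib.WeightConsFun
import Groth.Agent.MorLib.LimCons
import Groth.Agent.MorLib.BaseChangeLim

set_option autoImplicit false
universe u
open CategoryTheory AlgebraicGeometry
open FlatMor

namespace Groth.Agent.S7192

open CategoryTheory.Limits TopologicalSpace Topology Groth.Agent.MorLib.WT

theorem exists_isConstructible_of_con {I : Type u} [SmallCategory I] [IsCofiltered I] {D : I ⥤ Scheme.{u}}
    {c : Cone D} (hc : IsLimit c) [∀ {i j : I} (f : i ⟶ j), IsAffineHom (D.map f)] [∀ i, IsAffine (D.obj i)]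
    (i₀ : I) {w : c.pt → ℤ} (hw : Con w) (hfin : (Set.range w).Finite) :
    ∃ (i : I) (_ : i ⟶ i₀) (wi : D.obj i → ℤ), Con wi ∧ ∀ x, wi (c.π.app i x) = w x := by
  classical
  let S := hfin.toFinset
  choose j φ Z hZ hZ' using fun n : ℤ =>
    Groth.Agent.MorLib.LimCons.exists_isConstructible_preimage_eq hc i₀ (hw {n})
  obtain ⟨k, hk⟩ := IsCofiltered.inf_objs_exists (insert i₀ (S.image j))
  let a : ∀ n : S, k ⟶ j n.1 := fun n =>
    (hk (Finset.mem_insert_of_mem (Finset.mem_image_of_mem _ n.2))).some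
  let Zk : S → Set (D.obj k) := fun n => D.map (a n) ⁻¹' Z n.1
  refine ⟨k, (hk (Finset.mem_insert_self _ _)).some, ∑ n : S, (Zk n).indicator fun _ => n.1,
    con_finset_sum _ _ (fun n => (D.map (a n)).isConstructible_preimage (hZ n.1)) _, fun x => ?_⟩
  have hmem : ∀ n : S, c.π.app k x ∈ Zk n ↔ w x = n.1 := fun n => by
    show D.map (a n) (c.π.app k x) ∈ Z n.1 ↔ _
    rw [← Scheme.Hom.comp_apply, c.w]
    exact Set.ext_iff.mp (hZ' n.1) x
  rw [Finset.sum_apply, Finset.sum_eq_single (⟨w x, hfin.mem_toFinset.mpr ⟨x, rfl⟩⟩ : S)]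
  · rw [Set.indicator_of_mem ((hmem _).mpr rfl)]
  · intro n _ hne
    rw [Set.indicator_of_notMem (fun hm => hne (Subtype.ext ((hmem n).mp hm).symm))]
  · intro hne; exact absurd (Finset.mem_univ _) hne

theorem pro_of_cons {X : Scheme.{u}} {E : Set X} (hE : IsConstructible E) : ProCons.IsProConstructible E :=
  fun x => ⟨Set.univ, isOpen_univ, trivial, {Subtype.val ⁻¹' E}, fun T hT => by
    rw [Set.mem_singleton_iff.mp hT]
    exact hE.isLocallyConstructible.preimage_of_isOpenEmbedding
      isOpen_univ.isOpenEmbedding_subtypeVal, (Set.sInter_singleton _).symm⟩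

theorem ind_of_cons {X : Scheme.{u}} {E : Set X} (hE : IsConstructible E) : ProCons.IsIndConstructible E :=
  fun x => ⟨Set.univ, isOpen_univ, trivial, {Subtype.val ⁻¹' E}, fun T hT => by
    rw [Set.mem_singleton_iff.mp hT]
    exact hE.isLocallyConstructible.preimage_of_isOpenEmbedding
      isOpen_univ.isOpenEmbedding_subtypeVal, (Set.sUnion_singleton _).symm⟩

theorem exists_common {C : Type u} [SmallCategory C] [IsCofiltered C] {κ : Type*} [Finite κ] (J : C)
    (K : κ → C) (g : ∀ a, K a ⟶ J) : ∃ (M : C) (t : M ⟶ J) (m : ∀ a, M ⟶ K a), ∀ a, m a ≫ g a = t := by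
  classical
  haveI := Fintype.ofFinite κ
  have key : ∀ s : Finset κ, ∃ (M : C) (t : M ⟶ J), ∀ a ∈ s, ∃ m : M ⟶ K a, m ≫ g a = t := fun s => by
    induction s using Finset.induction_on with
    | empty => exact ⟨J, 𝟙 J, fun a ha => absurd ha (by simp)⟩
    | insert b s _ ih =>
      obtain ⟨M, t, hM⟩ := ih
      obtain ⟨M', u, v, huv⟩ := IsCofiltered.cospan t (g b)
      refine ⟨M', u ≫ t, fun a ha => ?_⟩
      rcases Finset.mem_insert.mp ha with rfl | ha
      · exact ⟨v, huv.symm⟩
      · obtain ⟨m, hm⟩ := hM a ha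
        exact ⟨u ≫ m, by rw [Category.assoc, hm]⟩
  obtain ⟨M, t, hM⟩ := key Finset.univ
  choose m hm using fun a => hM a (Finset.mem_univ a)
  exact ⟨M, t, m, hm⟩

set_option backward.isDefEq.respectTransparency.types false in
theorem main {I : Type u} [SmallCategory I] [IsCofiltered I]
    (D : I ⥤ Scheme.{u}) (c : Cone D) (hc : IsLimit c) [∀ i, IsAffine (D.obj i)]
    (i0 : I) {X0 X : Scheme.{u}} [IsAffine X0] (f0 : X0 ⟶ D.obj i0) [LocallyQuasiFinite f0]
    [LocallyOfFinitePresentation f0]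
    (f : X ⟶ c.pt) (pX : X ⟶ X0) (hX : IsPullback pX f f0 (c.π.app i0))
    (w : X → ℤ) (hw : MoreMor.IsWeighting f w) :
    ∃ (i : I) (a : i ⟶ i0) (Xi : Scheme.{u}) (fi : Xi ⟶ D.obj i) (pXi : Xi ⟶ X0) (g : X ⟶ Xi) (wi : Xi → ℤ),
      IsPullback pXi fi f0 (D.map a) ∧ g ≫ fi = f ≫ c.π.app i ∧ g ≫ pXi = pX ∧
      MoreMor.IsWeighting fi wi ∧ ∀ x : X, wi (g x) = w x := by
  classical
  haveI : ∀ {i j : I} (a : i ⟶ j), IsAffineHom (D.map a) := fun a => inferInstance
  haveI : IsAffine c.pt := Scheme.isAffine_of_isLimit _ hc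
  haveI : LocallyQuasiFinite f := MorphismProperty.of_isPullback hX inferInstance
  haveI : LocallyOfFinitePresentation f := MorphismProperty.of_isPullback hX inferInstance
  haveI : IsAffine X := IsAffine.of_isIso hX.isoPullback.hom
  let DX := Groth.Agent.MorLib.BC.diag D f0
  haveI : ∀ j, IsAffine (DX.obj j) := fun j => inferInstanceAs (IsAffine (pullback f0 (D.map j.hom)))
  let cX : Cone DX := Groth.Agent.MorLib.BC.cone D f0 hX
  have hcX : IsLimit cX := Groth.Agent.MorLib.BC.isLimitCone D f0 hX hc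
  have hwc : Con w := fun P => by
    have hfin := finite_range_weighting (f := f) hw
    have : w ⁻¹' P = ⋃ n ∈ Set.range w ∩ P, {x | w x = n} := by
      ext x; simp
    rw [this]
    exact IsConstructible.biUnion (hfin.subset Set.inter_subset_left) fun n _ =>
      (isLocallyConstructible_level hw n).isConstructible
  obtain ⟨J, -, wJ, hwJ, hwJ'⟩ := exists_isConstructible_of_con hcX (Over.mk (𝟙 i0)) (w := w) hwc
    (finite_range_weighting (f := f) hw)
  -- test pieces
  obtain ⟨κ, _, t, ht⟩ := exists_covered f0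
  let t' : κ → Test f := fun a => (t a).baseChange hX
  let sJ : IsPullback (pullback.fst f0 (D.map J.hom)) (pullback.snd f0 (D.map J.hom)) f0 (D.map J.hom) :=
    IsPullback.of_hasPullback _ _
  have key : ∀ a : κ, ∃ (K : Over i0) (g : K ⟶ J),
      ∀ (L : Over i0) (l : L ⟶ K), IsLocallyConstant
        (((t a).baseChange (IsPullback.of_hasPullback f0 (D.map L.hom))).val
          (wJ ∘ ⇑(DX.map (l ≫ g)))) := by
    intro a
    let DV := Groth.Agent.MorLib.BC.diag D (t a).g
    haveI : ∀ j, IsAffine (DV.obj j) := fun j =>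
      haveI := (t a).affine; inferInstanceAs (IsAffine (pullback (t a).g (D.map j.hom)))
    let cV : Cone DV := Groth.Agent.MorLib.BC.cone D (t a).g (IsPullback.of_hasPullback (t a).g (c.π.app i0))
    have hcV : IsLimit cV := Groth.Agent.MorLib.BC.isLimitCone D (t a).g _ hc
    let φ : DV.obj J → ℤ := ((t a).baseChange sJ).val wJ
    have hφ : Con φ ∧ (Set.range φ).Finite := by
      let tJ := (t a).baseChange sJ
      haveI := tJ.affine
      haveI := tJ.finite
      haveI : LocallyOfFinitePresentation (pullback.snd f0 (D.map J.hom)) :=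
        MorphismProperty.pullback_snd _ _ inferInstance
      haveI : LocallyOfFinitePresentation (pullback.snd (pullback.snd f0 (D.map J.hom)) tJ.g) :=
        MorphismProperty.pullback_snd _ _ inferInstance
      haveI : LocallyOfFinitePresentation (tJ.W.ι ≫ pullback.snd (pullback.snd f0 (D.map J.hom)) tJ.g) :=
        inferInstance
      haveI : IsAffine (tJ.W : Scheme.{u}) :=
        isAffine_of_isAffineHom (tJ.W.ι ≫ pullback.snd (pullback.snd f0 (D.map J.hom)) tJ.g)
      haveI : IsAffine (DX.obj J) := inferInstance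
      haveI : QuasiCompact (tJ.W.ι ≫ pullback.fst (pullback.snd f0 (D.map J.hom)) tJ.g) := inferInstance
      exact con_fibreIntegral (tJ.W.ι ≫ pullback.snd (pullback.snd f0 (D.map J.hom)) tJ.g)
        (w := wJ ∘ ⇑(tJ.W.ι ≫ pullback.fst (pullback.snd f0 (D.map J.hom)) tJ.g)) (hwJ.comp _)
    have hcomp : ∀ {L : Over i0} (l : L ⟶ J) (v : DV.obj L),
        ((t a).baseChange (IsPullback.of_hasPullback f0 (D.map L.hom))).val (wJ ∘ ⇑(DX.map l)) v =
          φ (DV.map l v) := fun {L} l v =>
      Test.val_comp (t a) _ sJ (Groth.Agent.MorLib.BC.map_fst D f0 l)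
        (Groth.Agent.MorLib.BC.isPullback_map D f0 l).w (by rw [← D.map_comp, Over.w l])
        (Groth.Agent.MorLib.BC.isPullback_map D (t a).g l) (Groth.Agent.MorLib.BC.map_fst D (t a).g l) wJ v
    have hlim : ∀ v : cV.pt, φ (cV.π.app J v) = ((t' a).val w) v := fun v => by
      have := Test.val_comp (t a) hX sJ (Groth.Agent.MorLib.BC.proj_fst D f0 hX J)
        (Groth.Agent.MorLib.BC.isPullback_proj D f0 hX J).w (c.w J.hom)
        (Groth.Agent.MorLib.BC.isPullback_proj D (t a).g (IsPullback.of_hasPullback (t a).g (c.π.app i0)) J)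
        (Groth.Agent.MorLib.BC.proj_fst D (t a).g (IsPullback.of_hasPullback (t a).g (c.π.app i0)) J) wJ v
      exact this.symm.trans (congrArg (fun u => Test.val (t' a) u v) (funext hwJ'))
    have hlc := (t' a).val_isLocallyConstant hw
    choose K g hg using fun n : ℤ => Groth.Agent.MorLib.LimCons.exists_isOpen hcV J
      (Z := φ ⁻¹' {n}) (pro_of_cons (hφ.1 _))
      (ind_of_cons (hφ.1 _))
      (by
        have e : (cV.π.app J ⁻¹' (φ ⁻¹' {n}) : Set cV.pt) = ((t' a).val w) ⁻¹' {n} := by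
          ext v; exact iff_of_eq (congrArg (· = n) (hlim v))
        rw [e]
        exact hlc _)
    obtain ⟨M, toJ, m, hm⟩ := exists_common J (fun n : hφ.2.toFinset => K n.1) (fun n => g n.1)
    refine ⟨M, toJ, fun L l => ?_⟩
    rw [IsLocallyConstant.iff_eventually_eq]
    intro v
    let n : hφ.2.toFinset := ⟨φ (DV.map (l ≫ toJ) v), hφ.2.mem_toFinset.mpr ⟨_, rfl⟩⟩
    have ho := (hg n.1).preimage (DV.map (l ≫ m n)).continuous
    have he : ∀ v', DV.map (g n.1) (DV.map (l ≫ m n) v') = DV.map (l ≫ toJ) v' := fun v' => by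
      rw [← Scheme.Hom.comp_apply, ← DV.map_comp, Category.assoc, hm]
    filter_upwards [ho.mem_nhds (x := v) (show φ (DV.map (g n.1) (DV.map (l ≫ m n) v)) = n.1 by rw [he])]
      with v' hv'
    rw [hcomp, hcomp]
    exact (congrArg φ (he v')).symm.trans hv'
  choose K g hK using key
  obtain ⟨M, toJ, m, hm⟩ := exists_common J K g
  haveI : LocallyQuasiFinite (pullback.snd f0 (D.map M.hom)) := MorphismProperty.pullback_snd _ _ inferInstance
  haveI : LocallyOfFiniteType (pullback.snd f0 (D.map M.hom)) := MorphismProperty.pullback_snd _ _ inferInstance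
  refine ⟨M.left, M.hom, pullback f0 (D.map M.hom), pullback.snd _ _, pullback.fst _ _,
    Groth.Agent.MorLib.BC.proj D f0 hX M, wJ ∘ ⇑(DX.map toJ), IsPullback.of_hasPullback _ _,
    Groth.Agent.MorLib.BC.proj_snd D f0 hX M, Groth.Agent.MorLib.BC.proj_fst D f0 hX M, ?_, fun x => ?_⟩
  · refine isWeighting_of_test (ht.baseChange (IsPullback.of_hasPullback f0 (D.map M.hom))) fun a => ?_
    have h := hK a M (m a)
    have e : DX.map (m a ≫ g a) = DX.map toJ := by rw [hm]
    rwa [e] at h
  · show wJ (DX.map toJ (cX.π.app M x)) = w x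
    rw [← Scheme.Hom.comp_apply, cX.w]
    exact hwJ' x


/-- Let Y = lim Y_i be a cofiltered limit of affine schemes and f₀ : X₀ → Y_{i₀} a quasi-finite morphism
of finite presentation between affine schemes, with base changes f : X → Y and f_i : X_i → Y_i. If w
is a weighting of f, then for some i → i₀ there is a weighting w_i of f_i which pulls back to w
along X → X_i. -/
theorem result {I : Type u} [SmallCategory I] [IsCofiltered I]
    (D : I ⥤ Scheme.{u}) (c : Limits.Cone D) (hc : Limits.IsLimit c) [∀ i, IsAffine (D.obj i)]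
    (i0 : I) {X0 X : Scheme.{u}} [IsAffine X0] (f0 : X0 ⟶ D.obj i0) [LocallyQuasiFinite f0] [LocallyOfFinitePresentation f0] [QuasiCompact f0]
    (f : X ⟶ c.pt) (pX : X ⟶ X0) (hX : IsPullback pX f f0 (c.π.app i0))
    (w : X → ℤ) (hw : MoreMor.IsWeighting f w) :
    ∃ (i : I) (a : i ⟶ i0) (Xi : Scheme.{u}) (fi : Xi ⟶ D.obj i) (pXi : Xi ⟶ X0) (g : X ⟶ Xi) (wi : Xi → ℤ),
      IsPullback pXi fi f0 (D.map a) ∧ g ≫ fi = f ≫ c.π.app i ∧ g ≫ pXi = pX ∧
      MoreMor.IsWeighting fi wi ∧ ∀ x : X, wi (g x) = w x := by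
  exact main D c hc i0 f0 f pX hX w hw

end Groth.Agent.S7192
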