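import Groth.Statements.S7193
import Groth.Agent.WeilAff.Free

set_option autoImplicit false
set_option backward.isDefEq.respectTransparency false
set_option backward.isDefEq.respectTransparency.types false
universe u
open CategoryTheory AlgebraicGeometry
open FlatMor

namespace Groth.Agent.S7193

/-- Let Z, X and S be affine schemes with morphisms Z → S and X → S, and suppose Γ(Z, O_Z) is a finite
free Γ(S, O_S)-module; then the functor Mor_S(Z, X) on schemes over S is represented by some scheme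
W over S with W affine. -/
theorem result {Z X S : Scheme.{u}} [IsAffine Z] [IsAffine X] [IsAffine S] (g : Z ⟶ S) (f : X ⟶ S)
    (hfree : letI := (g.appTop).hom.toAlgebra
      Module.Finite Γ(S, ⊤) Γ(Z, ⊤) ∧ Module.Free Γ(S, ⊤) Γ(Z, ⊤)) :
    ∃ W : Over S, IsAffine W.left ∧ Nonempty ((Flatn.morS g f).RepresentableBy W) := by
  letI : Algebra Γ(S, ⊤) Γ(Z, ⊤) := g.appTop.hom.toAlgebra
  letI : Algebra Γ(S, ⊤) Γ(X, ⊤) := f.appTop.hom.toAlgebra
  haveI : Module.Finite Γ(S, ⊤) Γ(Z, ⊤) := hfree.1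
  haveI : Module.Free Γ(S, ⊤) Γ(Z, ⊤) := hfree.2
  obtain ⟨Q, _, _, ⟨r⟩⟩ := WeilAff.exists_morS_spec (B := Γ(S, ⊤)) (B' := Γ(Z, ⊤)) Γ(X, ⊤)
  obtain ⟨w, hw⟩ := WeilAff.exists_univ_of_chart (g := g) (f := f) S.isoSpec.inv
    (iZ := Z.isoSpec.inv) (iX := X.isoSpec.inv)
    (IsPullback.of_horiz_isIso ⟨(Scheme.isoSpec_inv_naturality g).symm⟩)
    (IsPullback.of_horiz_isIso ⟨(Scheme.isoSpec_inv_naturality f).symm⟩) r
  refine ⟨_, ?_, WeilAff.nonempty_representableBy g f w fun Y => hw Y (Y.hom ≫ S.isoSpec.hom) (by simp)⟩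
  show IsAffine (Spec (CommRingCat.of Q))
  infer_instance

end Groth.Agent.S7193
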