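import Groth.Statements.S7196
import Groth.Agent.WeilAff.Zariski
import Groth.Agent.AlgSpDec.FinsetAffine

set_option autoImplicit false
set_option backward.isDefEq.respectTransparency false
set_option backward.isDefEq.respectTransparency.types false
universe u
open CategoryTheory AlgebraicGeometry
open FlatMor

namespace Groth.Agent.S7196

/-- For Z → S finite locally free and X → S separated, locally of finite type and with discrete fibres
(locally quasi-finite), the functor T ↦ {S-morphisms T ×_S Z → X} on S-schemes is represented by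
some S-scheme. -/
theorem result {Z X S : Scheme.{u}} (g : Z ⟶ S) (f : X ⟶ S) (hg : Mor2.IsFinLocFree g)
    [IsSeparated f] [LocallyQuasiFinite f] [LocallyOfFiniteType f] :
    (Flatn.morS g f).IsRepresentable := by
  obtain ⟨h1, h2, h3⟩ := hg
  obtain ⟨W, ⟨r⟩⟩ := WeilAff.Zar.exists_representableBy g f fun s d x hx => by
    obtain ⟨V, hV, hsV, -⟩ := exists_isAffineOpen_mem_and_subset (X := S) (x := s) (U := ⊤) trivial
    haveI : IsAffine V.toScheme := hV
    haveI : IsSeparated (f ∣_ V) := IsZariskiLocalAtTarget.restrict (P := @IsSeparated) inferInstance V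
    haveI : LocallyQuasiFinite (f ∣_ V) := IsZariskiLocalAtTarget.restrict (P := @LocallyQuasiFinite) inferInstance V
    haveI : LocallyOfFiniteType (f ∣_ V) := IsZariskiLocalAtTarget.restrict (P := @LocallyOfFiniteType) inferInstance V
    let y : Fin d → ↥(f ⁻¹ᵁ V).toScheme := fun k => ⟨x k, show f (x k) ∈ V by rw [hx k]; exact hsV⟩
    obtain ⟨U, hU, hyU⟩ := AlgSpDec.exists_affineOpen_of_finite (f ∣_ V) (Set.finite_range y)
    exact ⟨(f ⁻¹ᵁ V).ι ''ᵁ U, hU.image_of_isOpenImmersion _, fun k => ⟨y k, hyU ⟨k, rfl⟩, rfl⟩⟩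
  exact r.isRepresentable

end Groth.Agent.S7196
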