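import Groth.Statements.S7197
import Groth.Agent.AmpleFam17.BlowUp
import Groth.Agent.Chow17.Cover

set_option autoImplicit false
set_option backward.isDefEq.respectTransparency false
set_option backward.isDefEq.respectTransparency.types false
set_option linter.style.haveILetI false
universe u
open FlatMor

namespace Groth.Agent.S7197

open AlgebraicGeometry CategoryTheory Limits in
/-- A quasi-compact quasi-separated scheme X with finitely many irreducible components admits a
quasi-compact dense open U together with a blowing up X' → X which is U-admissible and whose source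
X' carries an ample family of invertible modules. -/
theorem result (X : Scheme.{u}) [CompactSpace ↥X] [QuasiSeparatedSpace ↥X]
    (hirr : (irreducibleComponents ↥X).Finite) :
    ∃ (U : X.Opens) (𝓘 : X.IdealSheafData) (X' : Scheme.{u}) (b : X' ⟶ X),
      IsCompact (U : Set ↥X) ∧ Dense (U : Set ↥X) ∧ BlowUp.IsAdmissibleFor U 𝓘 ∧ BlowUp.IsBlowUp b 𝓘 ∧
      MoreMor.HasAmpleFamily X' := by
  obtain ⟨W, m, U, hW, hWd, hU, hWU, hcov⟩ := Groth.Agent.Chow17.exists_dense_affine_cover hirr
  obtain ⟨I, X', b, hI, hb, -, hfam⟩ := Groth.Agent.AmpleFam17.exists_blowUp_hasAmpleFamily W U hU hWU hcov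
  exact ⟨W, I, X', b, hW.isCompact, hWd, hI, hb, hfam⟩

end Groth.Agent.S7197
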