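import Groth.Statements.S7198
import Groth.Agent.FppfRefine.Scheme

set_option autoImplicit false
universe w u
open FlatMor

namespace Groth.Agent.S7198

open AlgebraicGeometry CategoryTheory Limits in
/-- Any fppf covering {S_i → S} is refined by a family built in four steps — cover S by Zariski opens
U_j; over each U_j take a surjective finite locally free W_j → U_j; cover each W_j by Zariski opens
W_{j,k}; over each of those take a surjective finite locally free T_{j,k} → W_{j,k} — where every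
composite T_{j,k} → S factors through some S_i. Stated pointwise: around every point of S, and then
around every point of the finite locally free cover, such data exist. -/
theorem result {S : Scheme.{u}} (E : PreZeroHypercover.{w} S)
    (hflat : ∀ i, Flat (E.f i)) (hfp : ∀ i, LocallyOfFinitePresentation (E.f i))
    (hsurj : ∀ s : S, ∃ (i : E.I₀) (x : E.X i), E.f i x = s) (s : S) :
    ∃ (U : S.Opens) (W : Scheme.{u}) (π : W ⟶ U.toScheme), s ∈ U ∧ Mor2.IsFinLocFree π ∧ Surjective π ∧
      ∀ w : W, ∃ (W' : W.Opens) (T : Scheme.{u}) (ρ : T ⟶ W'.toScheme) (i : E.I₀) (r : T ⟶ E.X i),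
        w ∈ W' ∧ Mor2.IsFinLocFree ρ ∧ Surjective ρ ∧ r ≫ E.f i = ρ ≫ W'.ι ≫ π ≫ U.ι := by
  open Groth.Agent FppfRefine in
  obtain ⟨i, x, rfl⟩ := hsurj s
  haveI := hflat i
  haveI := hfp i
  obtain ⟨D, hD, hxD, -⟩ := exists_isAffineOpen_mem_and_subset (U := ⊤) (x := E.f i x) trivial
  obtain ⟨U₀, hU₀, hxU₀, hUD⟩ := exists_isAffineOpen_mem_and_subset (U := E.f i ⁻¹ᵁ D) (x := x) hxD
  let B := Γ(S, D)
  let B' := Γ(E.X i, U₀)
  letI : Algebra B B' := ((E.f i).appLE D U₀ hUD).hom.toAlgebra
  haveI : Module.Flat B B' := HasRingHomProperty.appLE @Flat (E.f i) inferInstance ⟨D, hD⟩ ⟨U₀, hU₀⟩ hUD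
  haveI : Algebra.FinitePresentation B B' :=
    HasRingHomProperty.appLE @LocallyOfFinitePresentation (E.f i) inferInstance ⟨D, hD⟩ ⟨U₀, hU₀⟩ hUD
  let q : PrimeSpectrum B' := hU₀.primeIdealOf ⟨x, hxU₀⟩
  obtain ⟨b, hb, W, _, _, hW1, hW2, hW3, hW⟩ := exists_tower (B := B) q
  haveI := hW1
  haveI := hW2
  haveI := hW3
  haveI := finitePresentation_of_free (Localization.Away b) W
  obtain ⟨h1, h2, h3, h4⟩ := specMap_props (Localization.Away b) W
  let e₂ : Spec (CommRingCat.of (Localization.Away b)) ⟶ Spec Γ(S, D) :=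
    Spec.map (CommRingCat.ofHom (algebraMap B (Localization.Away b)))
  haveI : IsOpenImmersion e₂ := IsOpenImmersion.of_isLocalization b
  haveI : IsOpenImmersion hD.fromSpec := hD.isOpenImmersion_fromSpec
  let e : Spec (CommRingCat.of (Localization.Away b)) ⟶ S := e₂ ≫ hD.fromSpec
  have hdb : Disjoint (Submonoid.powers b : Set B) (q.asIdeal.comap (algebraMap B B')) :=
    (Ideal.disjoint_powers_iff_notMem_of_isPrime _).2 hb
  let pb : PrimeSpectrum (Localization.Away b) := ⟨(q.asIdeal.comap (algebraMap B B')).map (algebraMap B _),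
    IsLocalization.isPrime_of_isPrime_disjoint (Submonoid.powers b) _ _ inferInstance hdb⟩
  have hpb : e₂ pb = hD.primeIdealOf ⟨E.f i x, hxD⟩ := by
    apply PrimeSpectrum.ext
    exact (IsLocalization.comap_map_of_isPrime_disjoint (Submonoid.powers b) _ inferInstance hdb).trans
      (congrArg PrimeSpectrum.asIdeal
        (IsAffineOpen.comap_primeIdealOf_appLE (f := E.f i) D hD U₀ hU₀ hUD hxU₀))
  let π : Spec (CommRingCat.of W) ⟶ (e.opensRange : Scheme.{u}) :=
    Spec.map (CommRingCat.ofHom (algebraMap (Localization.Away b) W)) ≫ e.isoOpensRange.hom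
  haveI : Surjective π := inferInstanceAs (Surjective (_ ≫ _))
  have hπ : Mor2.IsFinLocFree π :=
    ⟨inferInstanceAs (IsFinite (_ ≫ _)), inferInstanceAs (Flat (_ ≫ _)),
      inferInstanceAs (LocallyOfFinitePresentation (_ ≫ _))⟩
  refine ⟨e.opensRange, Spec (CommRingCat.of W), π, ⟨pb, ?_⟩, hπ, inferInstance, fun w => ?_⟩
  · show hD.fromSpec (e₂ pb) = E.f i x
    exact (congrArg hD.fromSpec hpb).trans (hD.fromSpec_primeIdealOf _)
  let w₀ : PrimeSpectrum W := w
  obtain ⟨a, ha, T, _, _, j, hT1, hT2, hT3, hj⟩ := hW w₀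
  haveI := hT1
  haveI := hT2
  haveI := hT3
  obtain ⟨g1, g2, g3, g4⟩ := specMap_props (Localization.Away a) T
  let ja : Spec (CommRingCat.of (Localization.Away a)) ⟶ Spec (CommRingCat.of W) :=
    Spec.map (CommRingCat.ofHom (algebraMap W (Localization.Away a)))
  haveI : IsOpenImmersion ja := IsOpenImmersion.of_isLocalization a
  let ρ : Spec (CommRingCat.of T) ⟶ (ja.opensRange : Scheme.{u}) :=
    Spec.map (CommRingCat.ofHom (algebraMap (Localization.Away a) T)) ≫ ja.isoOpensRange.hom
  haveI : Surjective ρ := inferInstanceAs (Surjective (_ ≫ _))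
  have hρ : Mor2.IsFinLocFree ρ :=
    ⟨inferInstanceAs (IsFinite (_ ≫ _)), inferInstanceAs (Flat (_ ≫ _)),
      inferInstanceAs (LocallyOfFinitePresentation (_ ≫ _))⟩
  have hdw : Disjoint (Submonoid.powers a : Set W) w₀.asIdeal :=
    (Ideal.disjoint_powers_iff_notMem_of_isPrime _).2 ha
  refine ⟨ja.opensRange, Spec (CommRingCat.of T), ρ, i, Spec.map (CommRingCat.ofHom j) ≫ hU₀.fromSpec,
    ⟨⟨w₀.asIdeal.map (algebraMap W _),
      IsLocalization.isPrime_of_isPrime_disjoint (Submonoid.powers a) _ _ inferInstance hdw⟩, ?_⟩,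
    hρ, inferInstance, ?_⟩
  · exact PrimeSpectrum.ext
      (IsLocalization.comap_map_of_isPrime_disjoint (Submonoid.powers a) _ inferInstance hdw)
  · simp only [ρ, π, Category.assoc, Scheme.Hom.isoOpensRange_hom_ι, Scheme.Hom.isoOpensRange_hom_ι_assoc]
    simp only [ja, e, e₂, ← IsAffineOpen.SpecMap_appLE_fromSpec (E.f i) hD hU₀ hUD, ← Spec.map_comp_assoc]
    refine congrArg (fun m => m ≫ hD.fromSpec) (congrArg Spec.map ?_)
    ext z
    exact RingHom.congr_fun hj z

end Groth.Agent.S7198
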