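import Groth.Statements.S7199
import Mathlib
import Groth.Agent.CAlgOdd.RatFuncIndep

set_option autoImplicit false
universe u
open FlatMor

namespace Groth.Agent.S7199

/-- Take a field k, an integral domain A that is a finitely generated k-algebra, n ≥ 2 and g_1, …, g_n ∈
A, and suppose some irreducible component of the common zero locus of g_1 and g_2 in Spec A has
dimension dim A − 2. Then for suitable c_1, …, c_n ∈ k the n + 2 elements x_1, …, x_n, Σ g_i x_i, Σ
c_i g_i of the rational function field Frac(A)(x_1, …, x_n) form an algebraically independent family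
over k. -/
theorem result {k A : Type u} [Field k] [CommRing A] [IsDomain A] [Algebra k A]
    [Algebra.FiniteType k A] (m : ℕ) (g : Fin (m + 2) → A)
    (p : Ideal A) (hp : p ∈ (Ideal.span {g 0, g 1}).minimalPrimes) (hdim : ringKrullDim (A ⧸ p) + 2 = ringKrullDim A) :
    ∃ c : Fin (m + 2) → k,
      AlgebraicIndependent k
        (Sum.elim
          (fun i : Fin (m + 2) => algebraMap (MvPolynomial (Fin (m + 2)) (FractionRing A)) (FractionRing (MvPolynomial (Fin (m + 2)) (FractionRing A))) (MvPolynomial.X i))
          ![∑ i, algebraMap A (FractionRing (MvPolynomial (Fin (m + 2)) (FractionRing A))) (g i) *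
              algebraMap (MvPolynomial (Fin (m + 2)) (FractionRing A)) (FractionRing (MvPolynomial (Fin (m + 2)) (FractionRing A))) (MvPolynomial.X i),
            algebraMap A (FractionRing (MvPolynomial (Fin (m + 2)) (FractionRing A))) (∑ i, c i • g i)]) := by
  classical
  let K := FractionRing A
  refine ⟨Pi.single 0 1, ?_⟩
  have hsum : ∑ i, (Pi.single 0 1 : Fin (m + 2) → k) i • g i = g 0 := by
    rw [Finset.sum_eq_single 0]
    · simp
    · intro b _ hb; simp [hb]
    · simp
  rw [hsum]
  have h1 := Groth.Agent.RatFuncIndep.algebraicIndependent_of_codim_two (k := k) (g 0) (g 1) p hp hdim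
  have h2 : AlgebraicIndependent k ![algebraMap A K (g 0), algebraMap A K (g 1)] := by
    have := h1.map' (f := IsScalarTower.toAlgHom k A K) (IsFractionRing.injective A K)
    convert this using 1
    ext i; fin_cases i <;> rfl
  have h3 := Groth.Agent.RatFuncIndep.algebraicIndependent_linear (k := k) (fun i => algebraMap A K (g i)) 0 1 h2
  have h4 := h3.map' (f := IsScalarTower.toAlgHom k (MvPolynomial (Fin (m + 2)) K) (FractionRing (MvPolynomial (Fin (m + 2)) K)))
    (IsFractionRing.injective _ _)
  convert h4 using 1
  funext y
  rcases y with i | j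
  · rfl
  · fin_cases j
    · simp [map_sum, map_mul, IsScalarTower.algebraMap_apply A (MvPolynomial (Fin (m + 2)) K) (FractionRing (MvPolynomial (Fin (m + 2)) K)), MvPolynomial.algebraMap_apply]
      rfl
    · simp [IsScalarTower.algebraMap_apply A (MvPolynomial (Fin (m + 2)) K) (FractionRing (MvPolynomial (Fin (m + 2)) K)), MvPolynomial.algebraMap_apply]
      rfl

end Groth.Agent.S7199
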