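import Groth.Statements.S7200
import Mathlib
import Groth.Agent.GeomLinSection.Basic

set_option autoImplicit false
universe u
open FlatMor

namespace Groth.Agent.S7200

open AlgebraicGeometry in
/-- Suppose K/k is a finitely generated field extension with K geometrically irreducible over k; let n ≥
1 and g_1, …, g_n ∈ K, and suppose some c ∈ kⁿ makes the n + 2 elements x_1, …, x_n, ξ = Σ g_i x_i,
Σ c_i g_i of Ω = K(x_1, …, x_n) algebraically independent over k. Then Ω remains geometrically
irreducible over its subfield generated over k by x_1, …, x_n and ξ. -/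
theorem result {k K : Type u} [Field k] [Field K] [Algebra k K]
    (hfg : (⊤ : IntermediateField k K).FG)
    [GeometricallyIrreducible (Spec.map (CommRingCat.ofHom (algebraMap k K)))]
    (m : ℕ) (g : Fin (m + 1) → K) (c : Fin (m + 1) → k)
    (hind : AlgebraicIndependent k
      (Sum.elim
        (fun i : Fin (m + 1) => algebraMap (MvPolynomial (Fin (m + 1)) K) (FractionRing (MvPolynomial (Fin (m + 1)) K)) (MvPolynomial.X i))
        ![∑ i, algebraMap K (FractionRing (MvPolynomial (Fin (m + 1)) K)) (g i) * algebraMap (MvPolynomial (Fin (m + 1)) K) (FractionRing (MvPolynomial (Fin (m + 1)) K)) (MvPolynomial.X i),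
          algebraMap K (FractionRing (MvPolynomial (Fin (m + 1)) K)) (∑ i, c i • g i)])) :
    GeometricallyIrreducible (Spec.map (CommRingCat.ofHom (algebraMap
      ↥(IntermediateField.adjoin k
        (Set.range (fun i : Fin (m + 1) => algebraMap (MvPolynomial (Fin (m + 1)) K) (FractionRing (MvPolynomial (Fin (m + 1)) K)) (MvPolynomial.X i)) ∪
          {∑ i, algebraMap K (FractionRing (MvPolynomial (Fin (m + 1)) K)) (g i) * algebraMap (MvPolynomial (Fin (m + 1)) K) (FractionRing (MvPolynomial (Fin (m + 1)) K)) (MvPolynomial.X i)}))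
      (FractionRing (MvPolynomial (Fin (m + 1)) K))))) := by
  let Ω := FractionRing (MvPolynomial (Fin (m + 1)) K)
  let x : Fin (m + 1) → Ω := fun i => algebraMap (MvPolynomial (Fin (m + 1)) K) Ω (MvPolynomial.X i)
  have hev : ∀ p : MvPolynomial (Fin (m + 1)) K, MvPolynomial.aeval x p = algebraMap (MvPolynomial (Fin (m + 1)) K) Ω p := fun p =>
    AlgHom.congr_fun (MvPolynomial.algHom_ext (f := MvPolynomial.aeval x)
      (g := IsScalarTower.toAlgHom K (MvPolynomial (Fin (m + 1)) K) Ω) fun i => MvPolynomial.aeval_X x i) p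
  have hx : AlgebraicIndependent K x := fun p q h => by
    apply IsFractionRing.injective (MvPolynomial (Fin (m + 1)) K) Ω
    rw [← hev, ← hev, h]
  have hgen : IntermediateField.adjoin K (Set.range x) = ⊤ := by
    refine top_unique fun z _ => (IntermediateField.mem_adjoin_range_iff K x z).2 ?_
    obtain ⟨p, q, _, rfl⟩ := IsFractionRing.div_surjective (MvPolynomial (Fin (m + 1)) K) z
    exact ⟨p, q, by rw [hev, hev]⟩
  have hsep := GeomLinSection.sepClosedIn_section hx hgen hfg
    (GeomLinSection.sepClosedIn_of_geometricallyIrreducible k K ‹_›) g c hind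
  refine GeomConn5.geometricallyIrreducible_spec_field _ _ fun a ha => ?_
  set ξ := ∑ i, algebraMap K Ω (g i) * x i
  have heq := IntermediateField.adjoin_adjoin_left k (Set.range x) ({ξ} : Set Ω)
  obtain ⟨r, hr⟩ := hsep a (GeomLinSection.isSeparable_map
    (F := IntermediateField.adjoin k (Set.range x ∪ {ξ}))
    { toFun := fun z => ⟨z.1, show z.1 ∈ (IntermediateField.adjoin (IntermediateField.adjoin k (Set.range x)) ({ξ} : Set Ω)).restrictScalars k from heq.ge z.2⟩
      map_one' := rfl, map_mul' := fun _ _ => rfl, map_zero' := rfl, map_add' := fun _ _ => rfl }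
    (RingHom.id Ω) (fun z => rfl) ha)
  exact ⟨⟨r.1, heq.le r.2⟩, hr⟩

end Groth.Agent.S7200
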