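import Groth.Statements.S7201
import Mathlib
import Groth.Agent.CompletionRigid.Basic

set_option autoImplicit false
universe u
open FlatMor

namespace Groth.Agent.S7201

open AlgebraicGeometry CategoryTheory Limits in
/-- Let h : T → S be a morphism of finite type between Noetherian schemes, t a point of T with image s,
and σ : O_{T,t} → O_{S,s}^∧ a local O_{S,s}-algebra map to the completion. For every N ≥ 1 there is
a morphism of finite type g : T' → T and a point t' over t such that σ factors through O_{T,t} →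
O_{T',t'}, and any local O_{S,s}-algebra map σ' : O_{T,t} → O_{S,s}^∧ factoring through O_{T,t} →
O_{T',t'} agrees with σ modulo m_s^N. -/
theorem result {T S : Scheme.{u}} [IsNoetherian T] [IsNoetherian S]
    (h : T ⟶ S) [LocallyOfFiniteType h] [QuasiCompact h] (t : T)
    (σ : ↑(T.presheaf.stalk t) →+* (AdicCompletion (IsLocalRing.maximalIdeal ↑(S.presheaf.stalk (h t))) ↑(S.presheaf.stalk (h t))))
    (hσ : σ.comp (h.stalkMap t).hom = algebraMap ↑(S.presheaf.stalk (h t)) (AdicCompletion (IsLocalRing.maximalIdeal ↑(S.presheaf.stalk (h t))) ↑(S.presheaf.stalk (h t))))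
    (hloc : ∀ a ∈ IsLocalRing.maximalIdeal ↑(T.presheaf.stalk t),
      σ a ∈ (IsLocalRing.maximalIdeal ↑(S.presheaf.stalk (h t))).map (algebraMap ↑(S.presheaf.stalk (h t)) (AdicCompletion (IsLocalRing.maximalIdeal ↑(S.presheaf.stalk (h t))) ↑(S.presheaf.stalk (h t)))))
    (N : ℕ) (hN : 1 ≤ N) :
    ∃ (T' : Scheme.{u}) (g : T' ⟶ T) (t' : T') (hg : g t' = t) (τ : ↑(T'.presheaf.stalk t') →+* (AdicCompletion (IsLocalRing.maximalIdeal ↑(S.presheaf.stalk (h t))) ↑(S.presheaf.stalk (h t)))),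
      LocallyOfFiniteType g ∧ QuasiCompact g ∧
      τ.comp ((g.stalkMap t').hom.comp (T.presheaf.stalkCongr (Inseparable.of_eq hg)).inv.hom) = σ ∧
      ∀ (σ' : ↑(T.presheaf.stalk t) →+* (AdicCompletion (IsLocalRing.maximalIdeal ↑(S.presheaf.stalk (h t))) ↑(S.presheaf.stalk (h t)))),
        σ'.comp (h.stalkMap t).hom = algebraMap ↑(S.presheaf.stalk (h t)) (AdicCompletion (IsLocalRing.maximalIdeal ↑(S.presheaf.stalk (h t))) ↑(S.presheaf.stalk (h t))) →
        (∀ a ∈ IsLocalRing.maximalIdeal ↑(T.presheaf.stalk t),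
          σ' a ∈ (IsLocalRing.maximalIdeal ↑(S.presheaf.stalk (h t))).map (algebraMap ↑(S.presheaf.stalk (h t)) (AdicCompletion (IsLocalRing.maximalIdeal ↑(S.presheaf.stalk (h t))) ↑(S.presheaf.stalk (h t))))) →
        (∃ τ' : ↑(T'.presheaf.stalk t') →+* (AdicCompletion (IsLocalRing.maximalIdeal ↑(S.presheaf.stalk (h t))) ↑(S.presheaf.stalk (h t))),
          τ'.comp ((g.stalkMap t').hom.comp (T.presheaf.stalkCongr (Inseparable.of_eq hg)).inv.hom) = σ') →
        ∀ a : ↑(T.presheaf.stalk t), σ a - σ' a ∈ (IsLocalRing.maximalIdeal ↑(S.presheaf.stalk (h t)) ^ N).map (algebraMap ↑(S.presheaf.stalk (h t)) (AdicCompletion (IsLocalRing.maximalIdeal ↑(S.presheaf.stalk (h t))) ↑(S.presheaf.stalk (h t)))) := by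
  haveI : IsLocalHom σ := ⟨fun a ha => by
    by_contra hna
    have h1 := hloc a ((IsLocalRing.mem_maximalIdeal a).mpr hna)
    rw [← AdicCompletion.maximalIdeal_eq_map] at h1
    exact (IsLocalRing.mem_maximalIdeal _).mp h1 ha⟩
  obtain ⟨T', g, t', hg, τ, hft, hqc, hτ, hpin⟩ :=
    CompletionRigid.exists_pinning h t _ (algebraMap _ _) σ hσ N
      (fun x => CompletionRigid.exists_sub_mem_pow (IsNoetherian.noetherian _) N x)
  exact ⟨T', g, t', hg, τ, hft, hqc, hτ, fun σ' hσ' _ hτ' => hpin σ' hσ' hτ'⟩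

end Groth.Agent.S7201
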