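import Groth.Statements.S7203
import Groth.Agent.PopescuLib.SchemePoint
import Groth.Agent.PopescuLib.FormalIso
import Groth.Agent.RadPtLib.Basic

set_option autoImplicit false
universe u
open FlatMor

namespace Groth.Agent.S7203

open AlgebraicGeometry CategoryTheory Limits in
/-- Let S be locally Noetherian, p : X → S and q : Y → S locally of finite type, x in X and y in Y over
the same point s with O_{S,s} a G-ring, and φ : O_{Y,y}^∧ ≅ O_{X,x}^∧ an isomorphism of
O_{S,s}-algebras between the completed local rings. For every N ≥ 1 there are a scheme U, a point u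
and morphisms e : U → X, f : U → Y over S which are both elementary étale neighbourhoods (of (X, x)
and of (Y, y)) such that O_{Y,y}^∧ → O_{U,u}^∧ and O_{Y,y}^∧ → O_{X,x}^∧ → O_{U,u}^∧ (φ followed by
the map induced by e) agree modulo m_u^N; the last condition is written on O_{U,u}/m_u^N through
lifts modulo the N-th powers of the maximal ideals. -/
theorem result {X Y S : Scheme.{u}} [IsLocallyNoetherian S]
    (p : X ⟶ S) (q : Y ⟶ S) [LocallyOfFiniteType p] [LocallyOfFiniteType q] (x : X) (y : Y) (hxy : p x = q y)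
    (hG : CAlg.IsGRing ↑(S.presheaf.stalk (p x)))
    (φ : (AdicCompletion (IsLocalRing.maximalIdeal ↑(Y.presheaf.stalk y)) ↑(Y.presheaf.stalk y)) ≃+* (AdicCompletion (IsLocalRing.maximalIdeal ↑(X.presheaf.stalk x)) ↑(X.presheaf.stalk x)))
    (hφ : φ.toRingHom.comp ((algebraMap ↑(Y.presheaf.stalk y) (AdicCompletion (IsLocalRing.maximalIdeal ↑(Y.presheaf.stalk y)) ↑(Y.presheaf.stalk y))).comp
        ((q.stalkMap y).hom.comp (S.presheaf.stalkCongr (Inseparable.of_eq hxy)).hom.hom)) =
      (algebraMap ↑(X.presheaf.stalk x) (AdicCompletion (IsLocalRing.maximalIdeal ↑(X.presheaf.stalk x)) ↑(X.presheaf.stalk x))).comp (p.stalkMap x).hom)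
    (N : ℕ) (hN : 1 ≤ N) :
    ∃ (U : Scheme.{u}) (u : U) (e : U ⟶ X) (heu : e u = x) (f : U ⟶ Y) (hfu : f u = y),
      Etale e ∧ Function.Bijective (e.residueFieldMap u) ∧ Etale f ∧ Function.Bijective (f.residueFieldMap u) ∧
      f ≫ q = e ≫ p ∧
      ∀ (b : (AdicCompletion (IsLocalRing.maximalIdeal ↑(Y.presheaf.stalk y)) ↑(Y.presheaf.stalk y))) (cY : ↑(Y.presheaf.stalk y)) (cX : ↑(X.presheaf.stalk x)),
        AdicCompletion.evalₐ (IsLocalRing.maximalIdeal ↑(Y.presheaf.stalk y)) N b =
          Ideal.Quotient.mk (IsLocalRing.maximalIdeal ↑(Y.presheaf.stalk y) ^ N) cY →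
        AdicCompletion.evalₐ (IsLocalRing.maximalIdeal ↑(X.presheaf.stalk x)) N (φ b) =
          Ideal.Quotient.mk (IsLocalRing.maximalIdeal ↑(X.presheaf.stalk x) ^ N) cX →
        Ideal.Quotient.mk (IsLocalRing.maximalIdeal ↑(U.presheaf.stalk u) ^ N)
            ((f.stalkMap u).hom ((Y.presheaf.stalkCongr (Inseparable.of_eq hfu)).inv.hom cY)) =
          Ideal.Quotient.mk (IsLocalRing.maximalIdeal ↑(U.presheaf.stalk u) ^ N)
            ((e.stalkMap u).hom ((X.presheaf.stalkCongr (Inseparable.of_eq heu)).inv.hom cX)) := by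
  haveI : IsLocallyNoetherian X := LocallyOfFiniteType.isLocallyNoetherian p
  haveI : IsLocallyNoetherian Y := LocallyOfFiniteType.isLocallyNoetherian q
  let L := ↑(X.presheaf.stalk x)
  let O := ↑(Y.presheaf.stalk y)
  haveI := Groth.Agent.FlatLoc6.isLocalRing_cpl L
  haveI := Groth.Agent.FlatLoc6.isLocalRing_cpl O
  have fgL : (IsLocalRing.maximalIdeal L).FG := IsNoetherian.noetherian _
  have fgO : (IsLocalRing.maximalIdeal O).FG := IsNoetherian.noetherian _
  have hφpow : ∀ n, ∀ z ∈ (IsLocalRing.maximalIdeal O ^ n).map (algebraMap O (AdicCompletion (IsLocalRing.maximalIdeal O) O)),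
      φ z ∈ (IsLocalRing.maximalIdeal L ^ n).map (algebraMap L (AdicCompletion (IsLocalRing.maximalIdeal L) L)) := by
    intro n z hz
    rw [Ideal.map_pow, ← AdicCompletion.maximalIdeal_eq_map_of_fg fgO] at hz
    rw [Ideal.map_pow, ← AdicCompletion.maximalIdeal_eq_map_of_fg fgL]
    have h1 := Ideal.mem_map_of_mem φ.toRingHom hz
    rw [Ideal.map_pow, show Ideal.map φ.toRingHom _ = _ from IsLocalRing.map_ringEquiv_maximalIdeal φ] at h1
    exact h1
  have heval : ∀ n, ∀ z ∈ (IsLocalRing.maximalIdeal L ^ n).map (algebraMap L (AdicCompletion (IsLocalRing.maximalIdeal L) L)),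
      AdicCompletion.evalₐ (IsLocalRing.maximalIdeal L) n z = 0 := fun n z hz =>
    (Ideal.map_le_iff_le_comap.2 (fun w hw => by
      show AdicCompletion.evalₐ (IsLocalRing.maximalIdeal L) n (algebraMap L _ w) = 0
      rw [AlgHom.commutes]; exact Ideal.Quotient.eq_zero_iff_mem.2 hw) :
      _ ≤ RingHom.ker (AdicCompletion.evalₐ (IsLocalRing.maximalIdeal L) n)) hz
  let φ₁ := φ.toRingHom.comp (algebraMap O (AdicCompletion (IsLocalRing.maximalIdeal O) O))
  have hloc : ∀ b ∈ IsLocalRing.maximalIdeal O,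
      φ₁ b ∈ (IsLocalRing.maximalIdeal L).map (algebraMap L (AdicCompletion (IsLocalRing.maximalIdeal L) L)) := by
    intro b hb
    have h1 := hφpow 1 (algebraMap O _ b) (Ideal.mem_map_of_mem _ (by rwa [pow_one]))
    rwa [pow_one] at h1
  let M := max N 2
  have hNM : N ≤ M := le_max_left _ _
  have h2M : 2 ≤ M := le_max_right _ _
  obtain ⟨U, e, u, heu, f, hfu, hEt, hbij, hfq, σ, hker, heσ, hfσ⟩ :=
    Groth.Agent.PopescuLib.exists_etale_nbhd_approx p q x y hxy hG φ₁ hφ hloc M (by omega)
  haveI := hEt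
  haveI : LocallyOfFiniteType e := inferInstance
  haveI : LocallyOfFiniteType (f ≫ q) := by rw [hfq]; infer_instance
  haveI : LocallyOfFiniteType f := locallyOfFiniteType_of_comp f q
  haveI : IsLocallyNoetherian U := LocallyOfFiniteType.isLocallyNoetherian e
  let P := ↑(U.presheaf.stalk u)
  let g : O →+* P := (f.stalkMap u).hom.comp (Y.presheaf.stalkCongr (Inseparable.of_eq hfu)).inv.hom
  let ι : L →+* P := (e.stalkMap u).hom.comp (X.presheaf.stalkCongr (Inseparable.of_eq heu)).inv.hom
  haveI hgloc : IsLocalHom g := inferInstanceAs <| IsLocalHom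
    ((Y.presheaf.stalkCongr (Inseparable.of_eq hfu)).inv ≫ f.stalkMap u).hom
  haveI hιloc : IsLocalHom ι := inferInstanceAs <| IsLocalHom
    ((X.presheaf.stalkCongr (Inseparable.of_eq heu)).inv ≫ e.stalkMap u).hom
  have hLm : (IsLocalRing.maximalIdeal L).map ι = IsLocalRing.maximalIdeal P := by
    rw [← Ideal.map_map, show (IsLocalRing.maximalIdeal L).map (X.presheaf.stalkCongr (Inseparable.of_eq heu)).inv.hom =
      IsLocalRing.maximalIdeal (X.presheaf.stalk (e u)) from
      IsLocalRing.map_ringEquiv_maximalIdeal (X.presheaf.stalkCongr (Inseparable.of_eq heu)).symm.commRingCatIsoToRingEquiv]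
    exact ((Groth.Agent.StalkLoc7.stalkMap_formallyUnramified_iff e u).1 (FormallyUnramified.stalkMap e u)).1
  have hLg : ∀ z : P, ∃ l, z - ι l ∈ IsLocalRing.maximalIdeal P ^ M := fun z => by
    obtain ⟨l, hl⟩ := Ideal.Quotient.mk_surjective (σ z)
    refine ⟨l, ?_⟩
    rw [← hker, map_sub]
    show σ z - σ (ι l) = 0
    rw [show σ (ι l) = _ from heσ l, hl, sub_self]
  have hgs : ∀ z : P, ∃ b, z - g b ∈ IsLocalRing.maximalIdeal P ^ M := fun z => by
    obtain ⟨l, hl⟩ := Ideal.Quotient.mk_surjective (σ z)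
    let w := φ.symm (algebraMap L (AdicCompletion (IsLocalRing.maximalIdeal L) L) l)
    obtain ⟨b, hb⟩ := Groth.Agent.CplFib6.exists_sub_mem_pow O M w
    refine ⟨b, ?_⟩
    rw [← hker, map_sub]
    show σ z - σ (g b) = 0
    rw [show σ (g b) = _ from hfσ b, ← hl, sub_eq_zero]
    have h1 := heval M _ (hφpow M _ hb)
    rw [map_sub, map_sub, show φ w = algebraMap L _ l from φ.apply_symm_apply _, sub_eq_zero, AlgHom.commutes] at h1
    exact h1
  have hMle : IsLocalRing.maximalIdeal P ^ M ≤ IsLocalRing.maximalIdeal P := Ideal.pow_le_self (by omega)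
  have hgres : ∀ z : P, ∃ b, z - g b ∈ IsLocalRing.maximalIdeal P := fun z =>
    (hgs z).imp fun b hb => hMle hb
  have hgm : (IsLocalRing.maximalIdeal O).map g = IsLocalRing.maximalIdeal P := by
    have hle : (IsLocalRing.maximalIdeal O).map g ≤ IsLocalRing.maximalIdeal P :=
      ((IsLocalRing.local_hom_TFAE g).out 0 2).mp hgloc
    refine le_antisymm hle ?_
    refine Submodule.le_of_le_smul_of_le_jacobson_bot (IsNoetherian.noetherian (IsLocalRing.maximalIdeal P))
      (IsLocalRing.maximalIdeal_le_jacobson (⊥ : Ideal P)) fun z hz => ?_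
    obtain ⟨b, hb⟩ := hgs z
    have h1 : g b ∈ IsLocalRing.maximalIdeal P := by simpa using sub_mem hz (hMle hb)
    have h2 : b ∈ IsLocalRing.maximalIdeal O := fun hu => h1 (hu.map g)
    rw [show z = g b + (z - g b) by ring]
    refine Submodule.add_mem_sup (Ideal.mem_map_of_mem g h2) ?_
    rw [smul_eq_mul, ← pow_two]
    exact Ideal.pow_le_pow_right h2M hb
  have hgflat : g.Flat := by
    letI := g.toAlgebra
    letI := ι.toAlgebra
    haveI : IsLocalHom (algebraMap O P) := hgloc
    haveI : IsLocalHom (algebraMap L P) := hιloc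
    haveI : Module.Flat L P := by
      show ι.Flat
      exact RingHom.Flat.comp (RingHom.Flat.of_bijective (X.presheaf.stalkCongr (Inseparable.of_eq heu)).symm.commRingCatIsoToRingEquiv.bijective)
        (Flat.stalkMap e u)
    exact Groth.Agent.PopescuLib.flat_of_formal_iso O P L hgm hgres hLm
      (fun z => (hLg z).imp fun l hl => hMle hl) φ
  let cY := (Y.presheaf.stalkCongr (Inseparable.of_eq hfu))
  have hfres : Function.Bijective (f.residueFieldMap u) := by
    refine ⟨RingHom.injective _, fun w => ?_⟩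
    obtain ⟨z, rfl⟩ := IsLocalRing.residue_surjective w
    obtain ⟨b, hb⟩ := hgres z
    refine ⟨Y.residue (f u) (cY.inv.hom b), ?_⟩
    refine (congr($(Scheme.residue_residueFieldMap f u) (cY.inv.hom b))).trans ?_
    exact (Ideal.Quotient.eq.2 hb).symm
  have hgeq : (f.stalkMap u).hom = g.comp cY.hom.hom := RingHom.ext fun z => by
    show _ = (f.stalkMap u).hom (cY.inv.hom (cY.hom.hom z))
    exact congrArg (f.stalkMap u).hom (cY.hom_inv_id_apply z).symm
  have hfflat : (f.stalkMap u).hom.Flat := by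
    rw [hgeq]
    exact RingHom.Flat.comp (RingHom.Flat.of_bijective cY.commRingCatIsoToRingEquiv.bijective) hgflat
  have hfunr : (f.stalkMap u).hom.FormallyUnramified := by
    refine (Groth.Agent.StalkLoc7.stalkMap_formallyUnramified_iff f u).2 ⟨?_, ?_⟩
    · have h0 : (IsLocalRing.maximalIdeal (Y.presheaf.stalk (f u))).map cY.hom.hom = IsLocalRing.maximalIdeal O :=
        IsLocalRing.map_ringEquiv_maximalIdeal cY.commRingCatIsoToRingEquiv
      exact (congrArg (Ideal.map · _) hgeq).trans (((Ideal.map_map cY.hom.hom g).symm.trans (by rw [h0])).trans hgm)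
    · letI := (f.residueFieldMap u).hom.toAlgebra
      let er : Y.residueField (f u) ≃ₐ[Y.residueField (f u)] U.residueField u :=
        AlgEquiv.ofBijective (Algebra.ofId _ _) hfres
      exact ⟨Module.Finite.equiv er.toLinearEquiv, Algebra.IsSeparable.of_algHom _ _ er.symm.toAlgHom⟩
  obtain ⟨W, huW, hW⟩ := Groth.Agent.StalkLoc7.exists_etale f u hfunr hfflat
  let w : W.toScheme := ⟨u, huW⟩
  refine ⟨W.toScheme, w, W.ι ≫ e, heu, W.ι ≫ f, hfu, inferInstance, ?_, hW, ?_, by rw [Category.assoc, hfq, Category.assoc],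
    fun b bY bX hbY hbX => ?_⟩
  · rw [Scheme.residueFieldMap_comp]
    exact (Groth.Agent.RadPtLib.bijective_residueFieldMap W.ι w).comp hbij
  · rw [Scheme.residueFieldMap_comp]
    exact (Groth.Agent.RadPtLib.bijective_residueFieldMap W.ι w).comp hfres
  · have h1 : AdicCompletion.evalₐ (IsLocalRing.maximalIdeal L) N (φ₁ bY) = Ideal.Quotient.mk _ bX := by
      have hb0 : AdicCompletion.evalₐ (IsLocalRing.maximalIdeal O) N (b - algebraMap O _ bY) = 0 := by
        rw [map_sub, hbY, AlgHom.commutes]; exact sub_self _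
      have h2 := heval N _ (hφpow N _ (Groth.Agent.PopescuLib.mem_map_of_evalₐ_eq_zero _ fgO N hb0))
      rw [map_sub, map_sub, hbX, sub_eq_zero] at h2
      exact h2.symm
    have hz : g bY - ι bX ∈ IsLocalRing.maximalIdeal P ^ N := by
      obtain ⟨l, hl⟩ := Ideal.Quotient.mk_surjective (AdicCompletion.evalₐ (IsLocalRing.maximalIdeal L) M (φ₁ bY))
      have hlN : l - bX ∈ IsLocalRing.maximalIdeal L ^ N := by
        rw [← Ideal.Quotient.eq, ← h1]
        have h3 : AdicCompletion.evalₐ (IsLocalRing.maximalIdeal L) M (φ₁ bY - algebraMap L _ l) = 0 := by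
          rw [map_sub, ← hl, AlgHom.commutes]; exact sub_self _
        have h4 := heval N _ (Ideal.map_mono (Ideal.pow_le_pow_right hNM)
          (Groth.Agent.PopescuLib.mem_map_of_evalₐ_eq_zero _ fgL M h3))
        rw [map_sub, AlgHom.commutes, sub_eq_zero] at h4
        exact h4.symm
      have h2 : g bY - ι l ∈ IsLocalRing.maximalIdeal P ^ M := by
        rw [← hker, map_sub]
        show σ (g bY) - σ (ι l) = 0
        rw [show σ (g bY) = _ from hfσ bY, show σ (ι l) = _ from heσ l, hl, sub_self]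
      have h3 := Ideal.mem_map_of_mem ι hlN
      rw [Ideal.map_pow, hLm, map_sub] at h3
      simpa using add_mem (Ideal.pow_le_pow_right hNM h2) h3
    rw [Ideal.Quotient.eq]
    let ρ : P →+* W.toScheme.presheaf.stalk w := (W.ι.stalkMap w).hom
    haveI hρ : IsLocalHom ρ := inferInstanceAs <| IsLocalHom (W.ι.stalkMap w).hom
    have h6 : ρ (g bY - ι bX) ∈ IsLocalRing.maximalIdeal (W.toScheme.presheaf.stalk w) ^ N :=
      Ideal.pow_right_mono (((IsLocalRing.local_hom_TFAE ρ).out 0 2).mp hρ) N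
        ((Ideal.map_pow ρ _ N).le (Ideal.mem_map_of_mem ρ hz))
    rw [map_sub] at h6
    rw [Scheme.Hom.stalkMap_comp, Scheme.Hom.stalkMap_comp]
    exact h6

end Groth.Agent.S7203
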