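import Groth.Statements.S7204
import Mathlib

set_option autoImplicit false
universe w u
open FlatMor

namespace Groth.Agent.S7204

open AlgebraicGeometry CategoryTheory Limits in
/-- Let (X_i)_{i ∈ I} be a diagram of schemes and (W, X_i → W) a cocone under it. If there is an fpqc
covering {W_a → W} such that each W_a is the colimit (in schemes) of the base-changed diagram (X_i
×_W W_a), and each W_a ×_W W_b is the colimit of (X_i ×_W W_a ×_W W_b), then W is the colimit of
(X_i) in the category of schemes. -/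
theorem result {J : Type u} [SmallCategory J] (D : J ⥤ Scheme.{u}) (c : Cocone D)
    (F : PreZeroHypercover.{w} c.pt) (hF : F.presieve₀ ∈ Scheme.fpqcPrecoverage c.pt)
    (h1 : ∀ a : F.I₀, Nonempty (IsColimit ((Over.forgetCocone (F.X a)).whisker
      (D.toOver c.pt (fun j => c.ι.app j) (fun g => c.w g) ⋙ Over.pullback (F.f a)))))
    (h2 : ∀ a b : F.I₀, Nonempty (IsColimit ((Over.forgetCocone (pullback (F.f a) (F.f b))).whisker
      (D.toOver c.pt (fun j => c.ι.app j) (fun g => c.w g) ⋙ Over.pullback (pullback.fst (F.f a) (F.f b) ≫ F.f a))))) :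
    Nonempty (IsColimit c) := by
  classical
  open AlgebraicGeometry CategoryTheory Limits Opposite in
  exact (by
  have hsieve : Sieve.generate F.presieve₀ ∈ Scheme.fpqcTopology c.pt :=
    Precoverage.generate_mem_toGrothendieck hF
  have hsheaf : ∀ T : Scheme.{u}, Presieve.IsSheaf Scheme.fpqcTopology (yoneda.obj T) := fun T =>
    GrothendieckTopology.Subcanonical.isSheaf_of_isRepresentable _
  let G : Over c.pt ⥤ Over c.pt := 𝟭 _
  let DD := D.toOver c.pt (fun j => c.ι.app j) (fun g => c.w g)
  -- the component maps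
  have main : ∀ s : Cocone D, ∃! t : c.pt ⟶ s.pt, ∀ j, c.ι.app j ≫ t = s.ι.app j := by
    intro s
    have hta : ∀ a : F.I₀, ∃ t : F.X a ⟶ s.pt,
        ∀ j, pullback.snd (c.ι.app j) (F.f a) ≫ t = pullback.fst (c.ι.app j) (F.f a) ≫ s.ι.app j := by
      intro a
      let sa : Cocone ((DD ⋙ Over.pullback (F.f a)) ⋙ Over.forget (F.X a)) :=
        { pt := s.pt
          ι := { app := fun j => pullback.fst (c.ι.app j) (F.f a) ≫ s.ι.app j
                 naturality := fun i j g => by
                  show pullback.lift _ _ _ ≫ pullback.fst (c.ι.app j) (F.f a) ≫ s.ι.app j = _ ≫ 𝟙 _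
                  rw [Category.comp_id, pullback.lift_fst_assoc]
                  exact (Category.assoc _ _ _).trans (congrArg _ (s.w g)) } }
      exact ⟨(h1 a).some.desc sa, fun j => (h1 a).some.fac sa j⟩
    choose ta hta using hta
    have hcompat : Presieve.Arrows.PullbackCompatible (yoneda.obj s.pt) F.f (fun a => ta a) := by
      intro a b
      show pullback.fst (F.f a) (F.f b) ≫ ta a = pullback.snd (F.f a) (F.f b) ≫ ta b
      refine (h2 a b).some.hom_ext fun j => ?_
      show pullback.snd (c.ι.app j) (pullback.fst (F.f a) (F.f b) ≫ F.f a) ≫ pullback.fst (F.f a) (F.f b) ≫ ta a =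
        pullback.snd (c.ι.app j) (pullback.fst (F.f a) (F.f b) ≫ F.f a) ≫ pullback.snd (F.f a) (F.f b) ≫ ta b
      let P := pullback (c.ι.app j) (pullback.fst (F.f a) (F.f b) ≫ F.f a)
      let la : P ⟶ pullback (c.ι.app j) (F.f a) := pullback.lift (pullback.fst _ _)
        (pullback.snd _ _ ≫ pullback.fst (F.f a) (F.f b)) (by rw [Category.assoc]; exact pullback.condition)
      let lb : P ⟶ pullback (c.ι.app j) (F.f b) := pullback.lift (pullback.fst _ _)
        (pullback.snd _ _ ≫ pullback.snd (F.f a) (F.f b))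
        (by rw [Category.assoc, ← pullback.condition (f := F.f a)]; exact pullback.condition)
      have ea : pullback.snd (c.ι.app j) (pullback.fst (F.f a) (F.f b) ≫ F.f a) ≫ pullback.fst (F.f a) (F.f b) =
        la ≫ pullback.snd _ _ := (pullback.lift_snd _ _ _).symm
      have eb : pullback.snd (c.ι.app j) (pullback.fst (F.f a) (F.f b) ≫ F.f a) ≫ pullback.snd (F.f a) (F.f b) =
        lb ≫ pullback.snd _ _ := (pullback.lift_snd _ _ _).symm
      rw [reassoc_of% ea, reassoc_of% eb, hta, hta, pullback.lift_fst_assoc, pullback.lift_fst_assoc]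
    obtain ⟨t, ht, htu⟩ := (Presieve.isSheafFor_arrows_iff_pullbacks _ _).1
      ((hsheaf s.pt).isSheafFor (Presieve.ofArrows F.X F.f) hsieve) (fun a => ta a) hcompat
    have ht' : ∀ a, F.f a ≫ t = ta a := ht
    refine ⟨t, fun j => ?_, fun t' ht'' => htu t' fun a => ?_⟩
    · refine ((hsheaf s.pt) _ (Scheme.fpqcTopology.pullback_stable (c.ι.app j) hsieve)).isSeparatedFor.ext
        fun Z g hg => ?_
      show g ≫ c.ι.app j ≫ t = g ≫ s.ι.app j
      obtain ⟨Y, k, _, ⟨a⟩, e⟩ := hg
      have h1 : g ≫ c.ι.app j = k ≫ F.f a := e.symm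
      rw [reassoc_of% h1, ht', ← pullback.lift_snd_assoc g k h1 (ta a), hta, pullback.lift_fst_assoc]
    · show F.f a ≫ t' = ta a
      refine (h1 a).some.hom_ext fun j => ?_
      show pullback.snd (c.ι.app j) (F.f a) ≫ F.f a ≫ t' = pullback.snd (c.ι.app j) (F.f a) ≫ ta a
      rw [← pullback.condition_assoc, ht'', hta]
  choose t ht htu using main
  exact ⟨{ desc := t, fac := ht, uniq := fun s m hm => htu s m hm }⟩)

end Groth.Agent.S7204
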