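import Groth.Statements.S7210
import Groth.Agent.RelPC17.Finite

set_option autoImplicit false
set_option backward.isDefEq.respectTransparency false
set_option backward.isDefEq.respectTransparency.types false
universe u
open CategoryTheory CategoryTheory.Limits AlgebraicGeometry Opposite TopologicalSpace
attribute [local instance] HasDerivedCategory.standard
open FlatMor

namespace Groth.Agent.S7210

/-- Let p : X ⟶ S and q : Y ⟶ S be locally of finite type and π : X ⟶ Y a finite morphism over S (π ≫ q
= p). Let E be an object of D(O_X) all of whose cohomology sheaves are quasi-coherent, and m an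
integer. Then, Rπ_* being assumed to exist, relative m-pseudo-coherence of E with respect to p is
equivalent to relative m-pseudo-coherence of Rπ_* E with respect to q (chart form). -/
theorem result {X Y S : Scheme.{u}} (p : X ⟶ S) (q : Y ⟶ S)
    [LocallyOfFiniteType p] [LocallyOfFiniteType q] (π : X ⟶ Y) [IsFinite π] (w : π ≫ q = p)
    [DCoh.HasRpush π] (m : ℤ) (E : DCoh.D X) (hE : DCoh.IsQCohD E) :
    DerSch.IsPseudoCoherentRel p m E ↔ DerSch.IsPseudoCoherentRel q m ((DCoh.Rpush π).obj E) := by
  exact Groth.Agent.RelPC17.rel_rpush_finite_iff p q π w m E hE

end Groth.Agent.S7210
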