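import Groth.Statements.S7215
import Groth.Agent.RelPC17.Terms

set_option autoImplicit false
set_option backward.isDefEq.respectTransparency false
set_option backward.isDefEq.respectTransparency.types false
universe u
open CategoryTheory CategoryTheory.Limits AlgebraicGeometry Opposite TopologicalSpace
attribute [local instance] HasDerivedCategory.standard
open FlatMor

namespace Groth.Agent.S7215

/-- Let f : X ⟶ S be a morphism of schemes, m an integer, and F a cochain complex of O_X-modules which
vanishes in degrees above some b and whose term F^i, viewed in degree 0 of D(O_X), is (m -
i)-pseudo-coherent relative to f for every i (chart form; in particular f is locally of finite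
type). Then the class of F is m-pseudo-coherent relative to f. (Stated for a complex bounded above
by one degree b on all of X; the published statement also allows a bound that varies locally on X.) -/
theorem result {X S : Scheme.{u}} (f : X ⟶ S) (m : ℤ)
    (F : CochainComplex X.Modules ℤ) (b : ℤ) (hb : ∀ i : ℤ, b < i → IsZero (F.X i))
    (h : ∀ i : ℤ, DerSch.IsPseudoCoherentRel f (m - i) (DCoh.inD X (F.X i))) :
    DerSch.IsPseudoCoherentRel f m (DCoh.toD X F) := by
  haveI := (h 0).1
  exact RelPC17.rel_of_terms F b m hb h

end Groth.Agent.S7215
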