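import Groth.Statements.S7223
import Groth.Agent.NLBC.BaseChange
import Groth.Agent.Synt29.NLPerfect

set_option autoImplicit false
universe u
open CategoryTheory CategoryTheory.Limits TensorProduct
attribute [local instance] HasDerivedCategory.standard
open FlatMor

namespace Groth.Agent.S7223

/-- Let A → B and A → A' be ring homomorphisms and B' an algebra over A' and over B making the square
cocartesian, B' = B ⊗_A A'. If A → B and A' → B' are both local complete intersection homomorphisms
(of finite type, with Koszul-regular kernel for a polynomial presentation), then the kernel of the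
canonical map H^{-1}(NL_{B/A} ⊗_B B') → H^{-1}(NL_{B'/A'}) (presentations on all elements) is a
finite projective B'-module. -/
theorem result (A B A' B' : Type u) [CommRing A] [CommRing B]
    [CommRing A'] [CommRing B'] [Algebra A B] [Algebra A' B'] [Algebra A A'] [Algebra B B'] [Algebra A B']
    [IsScalarTower A A' B'] [IsScalarTower A B B'] [Algebra.IsPushout A A' B B']
    (hB : LCI.IsLCI A B) (hB' : LCI.IsLCI A' B') :
    Module.Finite B' (LinearMap.ker (NLCx.bcH1Map
        ((Algebra.Generators.self A B).defaultHom (Algebra.Generators.self A' B')).toExtensionHom)) ∧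
      Module.Projective B' (LinearMap.ker (NLCx.bcH1Map
        ((Algebra.Generators.self A B).defaultHom (Algebra.Generators.self A' B')).toExtensionHom)) := by
  obtain ⟨n, G, hp, hf⟩ := Groth.Agent.Synt29.exists_presentation_of_isLCI hB
  obtain ⟨m, G₁, hp₁, hf₁⟩ := Groth.Agent.Synt29.exists_presentation_of_isLCI hB'
  obtain ⟨G', hG'⟩ := Groth.Agent.NLBC.exists_generators (R' := A') (S' := B') G
  haveI := hp
  haveI := hf
  haveI := hp₁
  haveI : Module.Projective B' G'.toExtension.Cotangent := Groth.Agent.Synt29.projective_cotangent_of_retract G' G₁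
  let q := Groth.Agent.NLBC.bcLift (S' := B') (NLCx.sameVarsHom G G' hG').toExtensionHom
  obtain ⟨s, hs⟩ := Module.projective_lifting_property q LinearMap.id (Groth.Agent.NLBC.bcLift_surjective G G' hG')
  let r : TensorProduct B B' G.toExtension.Cotangent →ₗ[B'] LinearMap.ker q :=
    (LinearMap.id - s ∘ₗ q).codRestrict _ fun x => by
      rw [LinearMap.mem_ker, LinearMap.sub_apply, map_sub, LinearMap.id_apply, LinearMap.comp_apply,
        ← LinearMap.comp_apply q s, hs, LinearMap.id_apply, sub_self]
  have hr : r ∘ₗ (LinearMap.ker q).subtype = LinearMap.id := by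
    refine LinearMap.ext fun x => Subtype.ext ?_
    show x.1 - s (q x.1) = x.1
    rw [LinearMap.mem_ker.1 x.2, map_zero, sub_zero]
  haveI : Module.Finite B' (LinearMap.ker q) :=
    Module.Finite.of_surjective r fun x => ⟨x.1, LinearMap.congr_fun hr x⟩
  haveI : Module.Projective B' (LinearMap.ker q) := Module.Projective.of_split _ r hr
  obtain ⟨e₁⟩ := Groth.Agent.NLBC.nonempty_kerBcH1Map_equiv G G' hG'
  let e₂ := Groth.Agent.NLBC.kerEquiv (G.defaultHom (Algebra.Generators.self A B)).toExtensionHom
    ((Algebra.Generators.self A B).defaultHom G).toExtensionHom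
    (G'.defaultHom (Algebra.Generators.self A' B')).toExtensionHom
    ((Algebra.Generators.self A' B').defaultHom G').toExtensionHom (NLCx.sameVarsHom G G' hG').toExtensionHom
    ((Algebra.Generators.self A B).defaultHom (Algebra.Generators.self A' B')).toExtensionHom
  exact ⟨Module.Finite.equiv (e₁.symm ≪≫ₗ e₂), Module.Projective.of_equiv (e₁.symm ≪≫ₗ e₂)⟩

end Groth.Agent.S7223
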