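import Groth.Statements.S7225
import Groth.Agent.NLBC.CxHom

set_option autoImplicit false
universe u
open CategoryTheory CategoryTheory.Limits TensorProduct
attribute [local instance] HasDerivedCategory.standard
open FlatMor

namespace Groth.Agent.S7225

/-- Let A be a ring, M a submonoid of A, A' a localization of A at M and B an A'-algebra, viewed also as
an A-algebra. Let G be a presentation of B over A by a polynomial algebra and G' the presentation of
B over A' with the same generators (G'(i) = G(i), written through the identity algebra map of B).
Then the canonical chain map NL(G) → NL(G') from the naive cotangent complex of the presentation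
over A to that of the presentation over A' is an isomorphism of complexes (so that NL_{B/A} →
NL_{B/A'} is a homotopy equivalence). -/
theorem result (A A' B : Type u) [CommRing A] [CommRing A'] [CommRing B]
    [Algebra A A'] (M : Submonoid A) [IsLocalization M A'] [Algebra A' B] [Algebra A B] [IsScalarTower A A' B]
    {ι : Type u} (G : Algebra.Generators A B ι) (G' : Algebra.Generators A' B ι) (h : ∀ i, G'.val i = algebraMap B B (G.val i)) :
    IsIso (NLCx.map (NLCx.sameVarsHom (S' := B) G G' h).toExtensionHom) := by
  haveI : Module.Flat A A' := IsLocalization.flat A' M
  haveI : IsLocalization (Algebra.algebraMapSubmonoid B M) B := IsLocalization.self fun x hx => by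
    obtain ⟨m, hm, rfl⟩ := hx
    rw [IsScalarTower.algebraMap_apply A A' B]
    exact (IsLocalization.map_units A' (⟨m, hm⟩ : M)).map _
  haveI : Algebra.IsPushout A A' B B := Algebra.IsPushout.symm (Algebra.isPushout_of_isLocalization (R := A) (T := B) (A := A') (B := B) M)
  let f := (NLCx.sameVarsHom (S' := B) G G' h).toExtensionHom
  have h₀ := Groth.Agent.NLBC.bcLift_bijective_of_flat_base (S' := B) G G' h
  have h₁ := Groth.Agent.NLBC.bcLiftSp_bijective (S' := B) G G' h
  refine Groth.Agent.NLBC.map_isIso f ?_ ?_
  · have e : ∀ x, Algebra.Extension.Cotangent.map f x =
        Groth.Agent.NLBC.bcLift (S' := B) f ((TensorProduct.lid B _).symm x) := fun x => by simp [f]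
    exact (funext e : (Algebra.Extension.Cotangent.map f : _ → _) = _) ▸ h₀.comp (TensorProduct.lid B _).symm.bijective
  · have e : ∀ x, Algebra.Extension.CotangentSpace.map f x =
        Groth.Agent.NLBC.bcLiftSp (S' := B) f ((TensorProduct.lid B _).symm x) := fun x => by simp [f]
    exact (funext e : (Algebra.Extension.CotangentSpace.map f : _ → _) = _) ▸ h₁.comp (TensorProduct.lid B _).symm.bijective

end Groth.Agent.S7225
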