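import Groth.Statements.S7228
import Groth.Agent.RelPC17.BaseChange

set_option autoImplicit false
set_option backward.isDefEq.respectTransparency false
set_option backward.isDefEq.respectTransparency.types false
universe u
open CategoryTheory CategoryTheory.Limits AlgebraicGeometry Opposite TopologicalSpace
attribute [local instance] HasDerivedCategory.standard
open FlatMor

namespace Groth.Agent.S7228

/-- Let f : X ⟶ S be locally of finite type and let (h_i : S_i ⟶ S) be an fppf covering of the base:
every h_i is flat and locally of finite presentation and the h_i are jointly surjective. Write X_i =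
X ×_S S_i with projections g_i : X_i ⟶ X and f_i : X_i ⟶ S_i, let E be an object of D(O_X) with
quasi-coherent cohomology sheaves, and let m be an integer. Then, the derived pullbacks Lg_i^* being
assumed to exist, E is m-pseudo-coherent relative to f if and only if for every i the object Lg_i^*
E is m-pseudo-coherent relative to f_i (chart form). -/
theorem result {X S : Scheme.{u}} (f : X ⟶ S)
    [LocallyOfFiniteType f] {ι : Type u} (Si : ι → Scheme.{u}) (h : ∀ i, Si i ⟶ S) [∀ i, Flat (h i)]
    [∀ i, LocallyOfFinitePresentation (h i)] (hcov : ∀ s : S, ∃ (i : ι) (t : Si i), (h i).base t = s)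
    [∀ i, DCoh.HasLpull (pullback.fst f (h i))] (m : ℤ) (E : DCoh.D X) (hE : DCoh.IsQCohD E) :
    DerSch.IsPseudoCoherentRel f m E ↔
      ∀ i, DerSch.IsPseudoCoherentRel (pullback.snd f (h i)) m ((DCoh.Lpull (pullback.fst f (h i))).obj E) := by
  exact ⟨fun H i => Groth.Agent.RelPC17.rel_lpull_of_qcoh f (h i) hE H,
    fun H => Groth.Agent.RelPC17.rel_of_lpull_family f Si h
      (fun V hV => Groth.Agent.RelPC17.exists_lifts_fppf Si h hcov V hV) hE H⟩

end Groth.Agent.S7228
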