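import Groth.Statements.S7233
import Groth.Agent.RelPC17.JacFibre
import Groth.Agent.KFlatLib.Perfect.Basic

set_option autoImplicit false
set_option backward.isDefEq.respectTransparency false
set_option backward.isDefEq.respectTransparency.types false
universe u
open CategoryTheory CategoryTheory.Limits AlgebraicGeometry Opposite TopologicalSpace
attribute [local instance] HasDerivedCategory.standard
open FlatMor

namespace Groth.Agent.S7233

/-- Let R be a ring and I an ideal of R contained in the Jacobson radical of R. Let f : X ⟶ Spec R be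
proper, flat and of finite presentation, and let X₀ = X ×_{Spec R} Spec(R/I) with projections i : X₀
⟶ X and f₀ : X₀ ⟶ Spec(R/I). Let E be a pseudo-coherent object of D(O_X) (m-pseudo-coherent for
every m) and assume the derived pullback Li^* exists. Suppose Li^* E is perfect relative to
Spec(R/I): it is represented by a cochain complex whose class is pseudo-coherent and which, locally
on X₀, has finite tor amplitude stalkwise over the local rings of Spec(R/I). Then E is perfect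
relative to Spec R: locally on X, every cochain complex representing E has finite tor amplitude
stalkwise over the local rings of Spec R. -/
theorem result (R : Type u) [CommRing R] (I : Ideal R)
    (hI : I ≤ Ideal.jacobson ⊥) {X : Scheme.{u}} (f : X ⟶ Spec (CommRingCat.of R)) [IsProper f] [Flat f]
    [LocallyOfFinitePresentation f]
    [DCoh.HasLpull (pullback.fst f (Spec.map (CommRingCat.ofHom (Ideal.Quotient.mk I))))]
    (E : DCoh.D X) (hpc : ∀ m : ℤ, DCoh.IsPseudoCoherentD m E)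
    (h₀ : ∃ F₀ : CochainComplex (pullback f (Spec.map (CommRingCat.ofHom (Ideal.Quotient.mk I)))).Modules ℤ,
      Nonempty (DCoh.toD _ F₀ ≅ (DCoh.Lpull (pullback.fst f (Spec.map (CommRingCat.ofHom (Ideal.Quotient.mk I))))).obj E) ∧
        (∀ m : ℤ, DCoh.IsPseudoCoherentD m (DCoh.toD _ F₀)) ∧
        DerSch.LocFiniteTorAmplitude (pullback.snd f (Spec.map (CommRingCat.ofHom (Ideal.Quotient.mk I)))) F₀) :
    DerSch.LocFiniteTorAmplitudeD f E := by
  haveI : CompactSpace X := QuasiCompact.compactSpace_of_compactSpace f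
  set s := Spec.map (CommRingCat.ofHom (Ideal.Quotient.mk I))
  haveI : IsClosedImmersion s := IsClosedImmersion.spec_of_surjective _ Ideal.Quotient.mk_surjective
  set i := pullback.fst f s
  set f₀ := pullback.snd f s
  haveI : CompactSpace (pullback f s : Scheme.{u}) := QuasiCompact.compactSpace_of_compactSpace i
  obtain ⟨F₀, ⟨eF₀⟩, -, hamp⟩ := h₀
  have hE : ∀ m, KFlatLib.LocPC m E := fun m => (KFlatLib.isPseudoCoherentD_iff _ _).1 (hpc m)
  obtain ⟨b, hb⟩ := KFlatLib.exists_bound_of_locPC (hE 0)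
  -- one lower bound on the compact closed subscheme
  choose V lo hi hxV hV using hamp
  obtain ⟨t, ht⟩ := isCompact_univ.elim_finite_subcover (fun x => (V x : Set (pullback f s : Scheme.{u})))
    (fun x => (V x).2) fun x _ => Set.mem_iUnion.2 ⟨x, hxV x⟩
  obtain ⟨a, ha⟩ := (t.image lo).finite_toSet.bddBelow
  intro F ⟨eF⟩ y₀
  refine ⟨⊤, a, max b a, trivial, fun y _ => ?_⟩
  -- a closed point in the closure
  obtain ⟨x, hx, hxc⟩ := (isClosed_closure (s := ({y} : Set X))).exists_closed_singleton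
    ⟨y, subset_closure rfl⟩
  have hyx : y ⤳ x := specializes_iff_mem_closure.2 hx
  have hfx : IsClosed ({f x} : Set (Spec (CommRingCat.of R))) := by
    simpa using f.isClosedMap _ hxc
  have hIx : f x ∈ Set.range s := by
    have hmax := (PrimeSpectrum.isClosed_singleton_iff_isMaximal (f x)).1 hfx
    refine (range_comap_of_surjective _ _ Ideal.Quotient.mk_surjective).ge ?_
    rw [Ideal.mk_ker]
    exact hI.trans (sInf_le ⟨bot_le, hmax⟩)
  obtain ⟨x₀, rfl⟩ : x ∈ Set.range i := by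
    rw [Scheme.Pullback.range_fst]
    exact hIx
  -- a chart
  obtain ⟨W, hW, hxW, -⟩ := exists_isAffineOpen_mem_and_subset (x := i x₀) (U := ⊤) trivial
  let j := hW.fromSpec
  obtain ⟨v, hv⟩ : i x₀ ∈ Set.range j := hW.range_fromSpec.ge hxW
  obtain ⟨w, rfl⟩ : y ∈ Set.range j := hyx.mem_open j.isOpenEmbedding.isOpen_range ⟨v, hv⟩
  have hwv : w ⤳ v := (j.isOpenEmbedding.isInducing.specializes_iff).1 (hv ▸ hyx)
  obtain ⟨T, hTle, hTf, ⟨eT⟩⟩ := RelPC17.JacScheme.exists_chart_resolution hE b hb j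
  haveI := hTle
  have hTk := KFlatLib.isKFlat_of_isStrictlyLE T b fun n => KFlatLib.isFlat_of_isFinLocFree (hTf n)
  let i₀ := pullback.fst j i
  let j₀ := pullback.snd j i
  have sq : IsPullback i₀ (j₀ ≫ f₀) (j ≫ f) s :=
    (IsPullback.of_hasPullback j i).paste_vert (IsPullback.of_hasPullback f s)
  obtain ⟨p, hp₁, hp₂⟩ := Scheme.Pullback.exists_preimage_pullback v x₀ hv
  haveI := KFlatLib.hasLpull i₀
  have eR : DCoh.toD _ ((KFlatLib.pullCx j).obj (KFlatLib.repK E)) ≅ DCoh.toD _ T :=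
    DerivedCategory.Q.mapIso ((KFlatLib.restrictPullCxIso j).app _).symm ≪≫
      ((KFlatLib.rhoQ j).app _).symm ≪≫ (KFlatLib.rho j).mapIso (KFlatLib.repKIso E) ≪≫ eT.symm
  have e₁ : DCoh.toD _ ((KFlatLib.pullCx i₀).obj T) ≅
      DCoh.toD _ ((KFlatLib.pullCx i₀).obj ((KFlatLib.pullCx j).obj (KFlatLib.repK E))) :=
    (KFlatLib.lpullIso i₀ hTk).symm ≪≫ (DCoh.Lpull i₀).mapIso eR.symm ≪≫
      KFlatLib.lpullIso i₀ (KFlatLib.isKFlat_pullback j (KFlatLib.isKFlat_repK E))
  have e₂ : DCoh.toD _ ((KFlatLib.pullCx i₀).obj ((KFlatLib.pullCx j).obj (KFlatLib.repK E))) ≅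
      DCoh.toD _ ((KFlatLib.pullCx j₀).obj ((KFlatLib.pullCx i).obj (KFlatLib.repK E))) :=
    DerivedCategory.Q.mapIso ((KFlatLib.pullCxCompIso i₀ j).app _ ≪≫
      (NatIso.mapHomologicalComplex (Scheme.Modules.pullbackCongr pullback.condition) _).app _ ≪≫
      ((KFlatLib.pullCxCompIso j₀ i).app _).symm)
  have e₃ : DCoh.toD _ ((KFlatLib.pullCx j₀).obj ((KFlatLib.pullCx i).obj (KFlatLib.repK E))) ≅
      DCoh.toD _ ((KFlatLib.pullCx j₀).obj F₀) :=
    DerivedCategory.Q.mapIso ((KFlatLib.restrictPullCxIso j₀).app _).symm ≪≫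
      KFlatLib.restrictQIso j₀ (KFlatLib.lpullRepIso i E ≪≫ eF₀.symm) ≪≫
      DerivedCategory.Q.mapIso ((KFlatLib.restrictPullCxIso j₀).app F₀)
  obtain ⟨z, hzt, hz⟩ : ∃ z ∈ t, x₀ ∈ V z := by
    simpa using ht (Set.mem_univ x₀)
  obtain ⟨E₁, hv₁, hf₁, he₁⟩ := hV z x₀ hz
  have h₀x : DerSch.HasTorAmplitudeAt f₀ a (hi z) F₀ (j₀ p) := by
    have hle : a ≤ lo z := ha (Finset.mem_coe.2 (Finset.mem_image_of_mem lo hzt))
    have h1 : DerSch.HasTorAmplitudeAt f₀ a (hi z) F₀ x₀ := ⟨E₁, fun n hn => hv₁ n (by omega), hf₁, he₁⟩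
    exact hp₂.symm ▸ h1
  have hU := (RelPC17.JacFibre.hasTorAmplitudeAt_pullCx_iff j₀ f₀ F₀ p a (hi z)).1 h₀x
  obtain ⟨hC, hex⟩ := RelPC17.JacFibre.flat_exact_of_amp (b₀ := b) (j₀ ≫ f₀) (j ≫ f) i₀ s sq hTf
    (e₁ ≪≫ e₂ ≪≫ e₃).symm p hU
  rw [show i₀ p = v from hp₁] at hC hex
  have hw := RelPC17.JacScheme.amp_at_generization (b := b) (j ≫ f) hTf a hwv hC hex
  refine (RelPC17.JacFibre.hasTorAmplitudeAt_pullCx_iff j f F w a (max b a)).2
    (RelPC17.hasTorAmplitudeAt_of_iso (j ≫ f) ?_ hw)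
  exact eT ≪≫ (KFlatLib.rho j).mapIso eF.symm ≪≫ (KFlatLib.rhoQ j).app F ≪≫
    DerivedCategory.Q.mapIso ((KFlatLib.restrictPullCxIso j).app F)

end Groth.Agent.S7233
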