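import Groth.Statements.S7234
import Groth.Agent.RelPC17.AffineTilde

set_option autoImplicit false
set_option backward.isDefEq.respectTransparency false
set_option backward.isDefEq.respectTransparency.types false
universe u
open CategoryTheory CategoryTheory.Limits AlgebraicGeometry Opposite TopologicalSpace
attribute [local instance] HasDerivedCategory.standard
open FlatMor

namespace Groth.Agent.S7234

/-- (1) ⇔ (3): let f : X ⟶ S be locally of finite type, E an object of D(O_X) all of whose cohomology
sheaves are quasi-coherent, and m an integer. Then E is m-pseudo-coherent relative to f (chart form)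
if and only if for every affine open U of X mapping into an affine open V of S the complex RΓ(U, E),
viewed in D(Γ(X, U)), is m-pseudo-coherent relative to Γ(S, V) in the ring-level sense. Here RΓ(U,
E) is expressed through the equivalence of D(Γ(X, U)) with the quasi-coherent derived category of
the affine scheme U: the condition is asked of every object M of D(Γ(X, U)) whose associated complex
of modules on Spec Γ(X, U) is isomorphic to E|_U carried along U ≅ Spec Γ(X, U) (the functor M ↦ M~
being assumed left exact, which it is). -/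
theorem result {X S : Scheme.{u}} (f : X ⟶ S)
    [LocallyOfFiniteType f] [∀ U : X.affineOpens, PreservesFiniteLimits (tilde.functor (X.presheaf.obj (op (U : X.Opens))))]
    (E : DCoh.D X) (hE : DCoh.IsQCohD E) (m : ℤ) :
    DerSch.IsPseudoCoherentRel f m E ↔
      ∀ (U : X.affineOpens) (V : S.affineOpens) (h : (U : X.Opens) ≤ f ⁻¹ᵁ (V : S.Opens))
        (G : CochainComplex X.Modules ℤ), Nonempty (DCoh.toD X G ≅ E) →
        ∀ M : Dual.D Γ(X, (U : X.Opens)),
          Nonempty ((DCoh.tildeD (X.presheaf.obj (op (U : X.Opens)))).obj M ≅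
            DCoh.toD _ ((DerSch.pushCx U.2.isoSpec.hom).obj ((DCoh.restrictCx (U : X.Opens)).obj G))) →
          letI := (f.appLE (V : S.Opens) (U : X.Opens) h).hom.toAlgebra
          DerCA.IsRelPseudoCoherent Γ(S, (V : S.Opens)) Γ(X, (U : X.Opens)) m M := by
  open Groth.Agent.RelPC17 Groth.Agent.KFlatLib Groth.Agent.H9Misc.DRingRelPC in
  · constructor
    · rintro hf U V h G ⟨eG⟩ M ⟨eM⟩
      letI := (f.appLE (V : S.Opens) (U : X.Opens) h).hom.toAlgebra
      obtain ⟨n, φ, hφ⟩ := exists_isChart h (finiteType_appLE U.2 V.2 h)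
      haveI : IsClosedImmersion (imm (U : X.Opens) φ) := isClosedImmersion_imm U.2 hφ.1
      have h' : PCat m E (U : X.Opens) φ := fun {_} =>
        @rel_iff _ _ f _ m E |>.1 hf (U : X.Opens) (V : S.Opens) U.2 V.2 h n φ hφ
      exact (iff_via ({ φ with commutes' := RingHom.congr_fun hφ.2 } :
          MvPolynomial (Fin n) Γ(S, (V : S.Opens)) →ₐ[Γ(S, (V : S.Opens))] Γ(X, (U : X.Opens))) hφ.1 M m).2
        ((pcat_iff_tilde U.2 φ hφ.1 G eG M eM m).1 h')
    · intro H
      refine rel_iff.2 fun U V hU hV h n φ hφ => ?_
      letI := (f.appLE V U h).hom.toAlgebra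
      haveI : PreservesFiniteLimits (tilde.functor Γ(X, U)) :=
        (inferInstance : PreservesFiniteLimits
          (tilde.functor (X.presheaf.obj (op ((⟨U, hU⟩ : X.affineOpens) : X.Opens)))))
      let G := DerivedCategory.Q.objPreimage E
      obtain ⟨M, ⟨eM⟩⟩ := exists_tilde_model hU G (repIso E) hE
      haveI := isClosedImmersion_imm hU hφ.1
      intro _
      exact (pcat_iff_tilde hU φ hφ.1 G (repIso E) M eM m).2
        ((iff_via ({ φ with commutes' := RingHom.congr_fun hφ.2 } :
            MvPolynomial (Fin n) Γ(S, V) →ₐ[Γ(S, V)] Γ(X, U)) hφ.1 M m).1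
          (H ⟨U, hU⟩ ⟨V, hV⟩ h G ⟨repIso E⟩ M ⟨eM⟩))

end Groth.Agent.S7234
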