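import Groth.Statements.S7237
import Mathlib

set_option autoImplicit false
universe u
open TensorProduct
open FlatMor

namespace Groth.Agent.S7237

/-- Let A be a ring and M a finitely generated A-module, and let C = Sym_A(M) be the symmetric algebra
of M with its canonical A-linear map ι : M → C. Then Ω_{C/A} = M ⊗_A C: the C-linear map C ⊗_A M →
Ω_{C/A} obtained by extending scalars in the A-linear map m ↦ d(ι m), d being the universal
A-derivation of C, is bijective. (The published lemma also computes the whole naive cotangent
complex of the presentation of C attached to a surjection A^m → M with kernel K, namely as K ⊗_A C →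
⊕_j C dy_j; only its consequence for Ω is asserted here.) -/
theorem result (A : Type u) [CommRing A] (M : Type u)
    [AddCommGroup M] [Module A M] [Module.Finite A M] :
    Function.Bijective (LinearMap.liftBaseChange (SymmetricAlgebra A M)
      ((KaehlerDifferential.D A (SymmetricAlgebra A M)).toLinearMap.restrictScalars A ∘ₗ SymmetricAlgebra.ι A M)) := by
  classical
  let g : SymmetricAlgebra A M →ₐ[A] TrivSqZeroExt (SymmetricAlgebra A M) (SymmetricAlgebra A M ⊗[A] M) :=
    SymmetricAlgebra.lift
      { toFun := fun m => TrivSqZeroExt.inl (SymmetricAlgebra.ι A M m) + TrivSqZeroExt.inr (1 ⊗ₜ m)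
        map_add' := fun a b => by
          refine TrivSqZeroExt.ext ?_ ?_ <;> simp [TensorProduct.tmul_add]
        map_smul' := fun r a => by
          refine TrivSqZeroExt.ext ?_ ?_ <;> simp [TensorProduct.tmul_smul] }
  have hfst : ∀ c, (g c).fst = c := by
    intro c
    induction c using SymmetricAlgebra.induction with
    | algebraMap r => simp [TrivSqZeroExt.algebraMap_eq_inl']
    | ι m => simp [g]
    | mul a b ha hb => rw [map_mul, TrivSqZeroExt.fst_mul, ha, hb]
    | add a b ha hb => rw [map_add, TrivSqZeroExt.fst_add, ha, hb]
  let δ : Derivation A (SymmetricAlgebra A M) (SymmetricAlgebra A M ⊗[A] M) :=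
    Derivation.mk'
      { toFun := fun c => (g c).snd
        map_add' := fun a b => by simp
        map_smul' := fun r a => by simp }
      (fun a b => by
        show (g (a * b)).snd = a • (g b).snd + b • (g a).snd
        rw [map_mul, TrivSqZeroExt.snd_mul, hfst, hfst, op_smul_eq_smul])
  set F := LinearMap.liftBaseChange (SymmetricAlgebra A M)
    ((KaehlerDifferential.D A (SymmetricAlgebra A M)).toLinearMap.restrictScalars A ∘ₗ SymmetricAlgebra.ι A M) with hF
  have hleft : δ.liftKaehlerDifferential ∘ₗ F = LinearMap.id := by
    refine TensorProduct.AlgebraTensorModule.ext fun c m => ?_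
    simp [F, δ, g, TensorProduct.smul_tmul']
  have hsurj : Function.Surjective F := by
    rw [← LinearMap.range_eq_top, eq_top_iff, ← KaehlerDifferential.span_range_derivation A (SymmetricAlgebra A M), Submodule.span_le]
    rintro _ ⟨c, rfl⟩
    induction c using SymmetricAlgebra.induction with
    | algebraMap r => simp
    | ι m => exact ⟨1 ⊗ₜ m, by simp [F]⟩
    | mul a b ha hb =>
      rw [Derivation.leibniz]
      exact add_mem (Submodule.smul_mem _ a hb) (Submodule.smul_mem _ b ha)
    | add a b ha hb => rw [map_add]; exact add_mem ha hb
  exact ⟨Function.LeftInverse.injective (g := δ.liftKaehlerDifferential) (LinearMap.congr_fun hleft), hsurj⟩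

end Groth.Agent.S7237
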