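import Groth.Statements.S7238
import Groth.Agent.PopescuLib.FormalNbhdCore
import Groth.Agent.PopescuLib.GRing
import Mathlib

set_option autoImplicit false
universe u
open FlatMor

namespace Groth.Agent.S7238

open scoped TensorProduct

set_option maxHeartbeats 3200000

open AlgebraicGeometry CategoryTheory Limits IsLocalRing in
/-- Let S be a locally Noetherian scheme and T a scheme of finite type over ℤ; let p : X ⟶ S and q : Y ⟶
T be locally of finite type; let x ∈ X with image s ∈ S such that O_{S,s} is a G-ring, and y ∈ Y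
with image t ∈ T. Let σ : O_{T,t} → O_{S,s}^∧ be a local homomorphism into the completion, let Y_σ =
Y ×_T Spec(O_{S,s}^∧) be the base change of q along Spec(O_{S,s}^∧) → Spec(O_{T,t}) → T, let y_σ ∈
Y_σ be a point lying over y and over the closed point of Spec(O_{S,s}^∧), and let φ : O_{X,x}^∧ ≅
O_{Y_σ,y_σ}^∧ be an isomorphism of completed local rings compatible with the two O_{S,s}-algebra
structures. Then there are: an elementary étale neighbourhood e : (V, v) ⟶ (S, s) (étale, v ↦ s,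
trivial residue field extension) together with τ : V ⟶ T with τ(v) = t; an elementary étale
neighbourhood a : (W, w) ⟶ (X, x); and a morphism b : W ⟶ Y ×_{T,τ} V with W ⟶ X ⟶ S equal to W ⟶ Y
×_T V ⟶ V ⟶ S, such that b is étale and b(w) lies over y and over v with trivial residue field
extension. (The published statement says more precisely that (W, w) is an elementary étale
neighbourhood of the point y_τ of Y ×_T V corresponding to y_σ under the identification of the fibre
of Y_σ over the closed point with the fibre of Y ×_T V over v; that identification is not expressed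
here, only that b(w) lies over y and v.) -/
theorem result {X Y S T : Scheme.{u}} [IsLocallyNoetherian S]
    (p : X ⟶ S) (q : Y ⟶ T) [LocallyOfFiniteType p] [LocallyOfFiniteType q]
    [LocallyOfFiniteType (specULiftZIsTerminal.from T)] [CompactSpace T]
    (x : X) (hG : CAlg.IsGRing ↑(S.presheaf.stalk (p x))) (y : Y)
    (σ : ↑(T.presheaf.stalk (q y)) →+*
      AdicCompletion (maximalIdeal ↑(S.presheaf.stalk (p x))) ↑(S.presheaf.stalk (p x)))
    [IsLocalHom σ]
    (yσ : ↑(pullback q (Spec.map (CommRingCat.ofHom σ) ≫ T.fromSpecStalk (q y))))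
    (hyσ : (pullback.fst q (Spec.map (CommRingCat.ofHom σ) ≫ T.fromSpecStalk (q y))) yσ = y)
    (hyσc : (pullback.snd q (Spec.map (CommRingCat.ofHom σ) ≫ T.fromSpecStalk (q y))) yσ =
      closedPoint (AdicCompletion (maximalIdeal ↑(S.presheaf.stalk (p x))) ↑(S.presheaf.stalk (p x))))
    (φ : AdicCompletion (maximalIdeal ↑(X.presheaf.stalk x)) ↑(X.presheaf.stalk x) ≃+*
      AdicCompletion (maximalIdeal ↑((pullback q (Spec.map (CommRingCat.ofHom σ) ≫ T.fromSpecStalk (q y))).presheaf.stalk yσ))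
        ↑((pullback q (Spec.map (CommRingCat.ofHom σ) ≫ T.fromSpecStalk (q y))).presheaf.stalk yσ))
    (hφ : φ.toRingHom.comp ((algebraMap ↑(X.presheaf.stalk x)
        (AdicCompletion (maximalIdeal ↑(X.presheaf.stalk x)) ↑(X.presheaf.stalk x))).comp (p.stalkMap x).hom) =
      ((algebraMap _ (AdicCompletion (maximalIdeal
          ↑((pullback q (Spec.map (CommRingCat.ofHom σ) ≫ T.fromSpecStalk (q y))).presheaf.stalk yσ)) _)).comp
        ((pullback.snd q (Spec.map (CommRingCat.ofHom σ) ≫ T.fromSpecStalk (q y))).stalkMap yσ).hom).comp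
        ((((Spec (CommRingCat.of (AdicCompletion (maximalIdeal ↑(S.presheaf.stalk (p x))) ↑(S.presheaf.stalk (p x))))).presheaf.germ
            ⊤ ((pullback.snd q (Spec.map (CommRingCat.ofHom σ) ≫ T.fromSpecStalk (q y))) yσ) trivial).hom.comp
          ((Scheme.ΓSpecIso (CommRingCat.of (AdicCompletion (maximalIdeal ↑(S.presheaf.stalk (p x)))
            ↑(S.presheaf.stalk (p x))))).inv.hom.comp
            (algebraMap ↑(S.presheaf.stalk (p x))
              (AdicCompletion (maximalIdeal ↑(S.presheaf.stalk (p x))) ↑(S.presheaf.stalk (p x)))))))) :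
    ∃ (V : Scheme.{u}) (v : V) (e : V ⟶ S) (τ : V ⟶ T) (W : Scheme.{u}) (w : W) (a : W ⟶ X)
      (b : W ⟶ pullback q τ),
      Etale e ∧ e v = p x ∧ Function.Bijective (e.residueFieldMap v) ∧ τ v = q y ∧
      Etale a ∧ a w = x ∧ Function.Bijective (a.residueFieldMap w) ∧
      a ≫ p = b ≫ pullback.snd q τ ≫ e ∧
      Etale b ∧ (pullback.fst q τ) (b w) = y ∧ (pullback.snd q τ) (b w) = v ∧
      Function.Bijective (b.residueFieldMap w) := by
  obtain ⟨V, hV, hxV, -⟩ := exists_isAffineOpen_mem_and_subset (x := p x) (U := ⊤) trivial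
  obtain ⟨UA, hUA, hxA, hAV⟩ := exists_isAffineOpen_mem_and_subset (x := x) (U := p ⁻¹ᵁ V) hxV
  obtain ⟨UT, hUT, hyT, -⟩ := exists_isAffineOpen_mem_and_subset (x := q y) (U := ⊤) trivial
  obtain ⟨UB, hUB, hyB, hBT⟩ := exists_isAffineOpen_mem_and_subset (x := y) (U := q ⁻¹ᵁ UT) hyT
  haveI : IsNoetherianRing Γ(S, V) := IsLocallyNoetherian.component_noetherian ⟨V, hV⟩
  haveI : Algebra.FiniteType ℤ Γ(T, UT) := PopescuLib.finiteType_int_sections hUT
  have hA1 := p.finiteType_appLE hV hUA hAV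
  have hB1 := q.finiteType_appLE hUT hUB hBT
  letI : Algebra Γ(S, V) Γ(X, UA) := (p.appLE V UA hAV).hom.toAlgebra
  letI : Algebra Γ(T, UT) Γ(Y, UB) := (q.appLE UT UB hBT).hom.toAlgebra
  haveI : Algebra.FiniteType Γ(S, V) Γ(X, UA) := hA1
  haveI : Algebra.FiniteType Γ(T, UT) Γ(Y, UB) := hB1
  let Rh := AdicCompletion (maximalIdeal ↑(S.presheaf.stalk (p x))) ↑(S.presheaf.stalk (p x))
  letI : Algebra Γ(S, V) (S.presheaf.stalk (p x)) := (S.presheaf.germ V (p x) hxV).hom.toAlgebra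
  haveI : IsLocalization.AtPrime (S.presheaf.stalk (p x)) (hV.primeIdealOf ⟨p x, hxV⟩).asIdeal :=
    hV.isLocalization_stalk ⟨p x, hxV⟩
  letI : Algebra Γ(X, UA) ↑(X.presheaf.stalk x) := (X.presheaf.germ UA x hxA).hom.toAlgebra
  haveI : IsLocalization.AtPrime ↑(X.presheaf.stalk x) (hUA.primeIdealOf ⟨x, hxA⟩).asIdeal :=
    hUA.isLocalization_stalk ⟨x, hxA⟩
  letI : Algebra Γ(T, UT) (AdicCompletion (maximalIdeal ↑(S.presheaf.stalk (p x))) ↑(S.presheaf.stalk (p x))) :=
    (σ.comp (T.presheaf.germ UT (q y) hyT).hom).toAlgebra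
  haveI : IsNoetherianRing ↑(S.presheaf.stalk (p x)) :=
    IsLocalization.isNoetherianRing (hV.primeIdealOf ⟨p x, hxV⟩).asIdeal.primeCompl ↑(S.presheaf.stalk (p x)) inferInstance
  have hreg : CAlg.IsRegularHom ↑(S.presheaf.stalk (p x)) (AdicCompletion (maximalIdeal ↑(S.presheaf.stalk (p x))) ↑(S.presheaf.stalk (p x))) := by
    haveI := IsLocalization.isNoetherianRing (maximalIdeal ↑(S.presheaf.stalk (p x))).primeCompl (Localization.AtPrime (maximalIdeal ↑(S.presheaf.stalk (p x)))) inferInstance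
    exact PopescuLib.regular_cpl_of_ringEquiv
      (IsLocalization.atUnits ↑(S.presheaf.stalk (p x)) (maximalIdeal ↑(S.presheaf.stalk (p x))).primeCompl (fun u hu => by
        exact IsLocalRing.notMem_maximalIdeal.mp hu) :
          ↑(S.presheaf.stalk (p x)) ≃ₐ[↑(S.presheaf.stalk (p x))] Localization.AtPrime (maximalIdeal ↑(S.presheaf.stalk (p x)))).symm.toRingEquiv (hG.2 (maximalIdeal ↑(S.presheaf.stalk (p x))))
  have hg : Spec.map (CommRingCat.ofHom σ) ≫ T.fromSpecStalk (q y) =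
      Spec.map (CommRingCat.ofHom (algebraMap Γ(T, UT)
        (AdicCompletion (maximalIdeal ↑(S.presheaf.stalk (p x))) ↑(S.presheaf.stalk (p x))))) ≫ hUT.fromSpec := by
    rw [← hUT.fromSpecStalk_eq_fromSpecStalk hyT, IsAffineOpen.fromSpecStalk, ← Spec.map_comp_assoc]
    rfl
  obtain ⟨j, hj, hj1, hj2, hjr⟩ := PopescuLib.exists_chart q hUT hUB hBT rfl _ hg
  obtain ⟨z, rfl⟩ := hjr yσ (by rw [hyσ]; exact hyB)
  haveI := hj
  let Ch := Rh ⊗[Γ(T, UT)] Γ(Y, UB)
  let OY : Type u := ↑((pullback q (Spec.map (CommRingCat.ofHom σ) ≫ T.fromSpecStalk (q y))).presheaf.stalk (j z))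
  let ι0 : OY ≃+* (Spec (CommRingCat.of Ch)).presheaf.stalk z := (asIso (j.stalkMap z)).commRingCatIsoToRingEquiv
  let PC : Ideal Ch := z.asIdeal
  haveI : PC.IsPrime := z.isPrime
  letI : Algebra Ch ((Spec (CommRingCat.of Ch)).presheaf.stalk z) :=
    (((Spec (CommRingCat.of Ch)).presheaf.germ ⊤ z trivial).hom.comp (Scheme.ΓSpecIso (CommRingCat.of Ch)).inv.hom).toAlgebra
  haveI : IsLocalization.AtPrime ((Spec (CommRingCat.of Ch)).presheaf.stalk z) PC :=
    PopescuLib.isLocalization_germ_top (CommRingCat.of Ch) z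
  letI : Algebra Ch OY := (ι0.symm.toRingHom.comp (algebraMap Ch ((Spec (CommRingCat.of Ch)).presheaf.stalk z))).toAlgebra
  haveI : IsLocalization.AtPrime OY PC :=
    (IsLocalization.isLocalization_iff_of_ringEquiv PC.primeCompl ι0.symm).1 inferInstance
  have hPCRh : PC.comap (algebraMap Rh Ch) = maximalIdeal Rh := by
    have h1 : (Spec.map (CommRingCat.ofHom (algebraMap Rh Ch))) z = closedPoint Rh := by
      rw [← hj2, Scheme.Hom.comp_apply]
      exact hyσc
    exact congrArg PrimeSpectrum.asIdeal h1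
  have hPC : ∀ r ∈ maximalIdeal ↑(S.presheaf.stalk (p x)), algebraMap Rh Ch (algebraMap ↑(S.presheaf.stalk (p x)) _ r) ∈ PC := fun r hr => by
    rw [← Ideal.mem_comap, hPCRh, AdicCompletion.maximalIdeal_eq_map_of_fg (IsNoetherian.noetherian _)]
    exact Ideal.mem_map_of_mem _ hr
  have hPUA : (hUA.primeIdealOf ⟨x, hxA⟩).asIdeal.comap (algebraMap Γ(S, V) Γ(X, UA)) =
      (hV.primeIdealOf ⟨p x, hxV⟩).asIdeal :=
    congr($(IsAffineOpen.comap_primeIdealOf_appLE V hV UA hUA hAV hxA).1)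
  have hφ' : ∀ l : Γ(S, V), φ (algebraMap _ _ (algebraMap Γ(X, UA) ↑(X.presheaf.stalk x) (algebraMap Γ(S, V) Γ(X, UA) l))) =
      algebraMap OY _ (algebraMap Ch OY (algebraMap Rh Ch (algebraMap Γ(S, V) Rh l))) := by
    intro l
    have h1 : (p.stalkMap x).hom ((S.presheaf.germ V (p x) hxV).hom l) =
        algebraMap Γ(X, UA) ↑(X.presheaf.stalk x) (algebraMap Γ(S, V) Γ(X, UA) l) := by
      rw [Scheme.Hom.germ_stalkMap_apply]
      exact (TopCat.Presheaf.germ_res_apply X.presheaf (homOfLE hAV) x hxA _).symm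
    rw [← h1]
    refine (RingHom.congr_fun hφ _).trans ?_
    refine congrArg (algebraMap OY _) (ι0.injective ?_)
    show (j.stalkMap z).hom _ = ι0 (ι0.symm _)
    rw [RingEquiv.apply_symm_apply, IsScalarTower.algebraMap_apply Γ(S, V) ↑(S.presheaf.stalk (p x)) Rh]
    exact PopescuLib.stalkMap_germ_top j _ (CommRingCat.ofHom (algebraMap Rh Ch)) hj2 z _
  obtain ⟨A', _, _, _, W', _, γ, aW, bW, K, _, χ, hA', haE, hbE, hbγ, haγ, hka, hkb, hkΛ, hFv, hFa, hFb⟩ :=
    PopescuLib.exists_formal_nbhd_core (R := ↑(S.presheaf.stalk (p x))) (O := ↑(X.presheaf.stalk x)) (OY := OY)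
      (hV.primeIdealOf ⟨p x, hxV⟩).asIdeal hreg (hUA.primeIdealOf ⟨x, hxA⟩).asIdeal hPUA PC hPC φ hφ'
  haveI := hA'
  obtain ⟨j', hj', hj1', hj2', -⟩ := PopescuLib.exists_chart q hUT hUB hBT rfl
    (Spec.map (CommRingCat.ofHom (algebraMap Γ(T, UT) A')) ≫ hUT.fromSpec) rfl
  haveI := hj'
  let w : Spec (CommRingCat.of W') := ⟨RingHom.ker χ, RingHom.ker_isPrime χ⟩
  let v : Spec (CommRingCat.of A') := ⟨RingHom.ker (χ.comp γ), RingHom.ker_isPrime _⟩
  haveI : Etale (Spec.map (CommRingCat.ofHom (algebraMap Γ(S, V) A'))) :=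
    (HasRingHomProperty.Spec_iff (P := @Etale)).mpr (RingHom.etale_algebraMap.mpr hA')
  haveI : Etale (Spec.map (CommRingCat.ofHom aW)) := (HasRingHomProperty.Spec_iff (P := @Etale)).mpr haE
  haveI : Etale (Spec.map (CommRingCat.ofHom bW)) := (HasRingHomProperty.Spec_iff (P := @Etale)).mpr hbE
  have hfy : (Spec.map (CommRingCat.ofHom (Algebra.TensorProduct.includeRight :
      Γ(Y, UB) →ₐ[Γ(T, UT)] Ch).toRingHom) ≫ hUB.fromSpec) z = y := by
    rw [← hj1, Scheme.Hom.comp_apply]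
    exact hyσ
  have hPCy : PC.comap (Algebra.TensorProduct.includeRight : Γ(Y, UB) →ₐ[Γ(T, UT)] Ch).toRingHom =
      (hUB.primeIdealOf ⟨y, hyB⟩).asIdeal := by
    have h1 : (Spec.map (CommRingCat.ofHom (Algebra.TensorProduct.includeRight :
        Γ(Y, UB) →ₐ[Γ(T, UT)] Ch).toRingHom)) z = hUB.primeIdealOf ⟨y, hyB⟩ := by
      refine hUB.fromSpec.isOpenEmbedding.injective ?_
      rw [hUB.fromSpec_primeIdealOf, ← Scheme.Hom.comp_apply]
      exact hfy
    exact congrArg PrimeSpectrum.asIdeal h1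
  have hv : (Spec.map (CommRingCat.ofHom γ)) w = v := PrimeSpectrum.ext (RingHom.comap_ker χ γ)
  have hev : (Spec.map (CommRingCat.ofHom (algebraMap Γ(S, V) A')) ≫ hV.fromSpec) v = p x := by
    have h1 : (Spec.map (CommRingCat.ofHom (algebraMap Γ(S, V) A'))) v = hV.primeIdealOf ⟨p x, hxV⟩ :=
      PrimeSpectrum.ext ((RingHom.comap_ker (χ.comp γ) (algebraMap Γ(S, V) A')).trans hkΛ)
    rw [Scheme.Hom.comp_apply, h1, hV.fromSpec_primeIdealOf]
  have hbfst : (Spec.map (CommRingCat.ofHom bW) ≫ j') ≫ pullback.fst q _ =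
      Spec.map (CommRingCat.ofHom (bW.comp (Algebra.TensorProduct.includeRight :
        Γ(Y, UB) →ₐ[Γ(T, UT)] A' ⊗[Γ(T, UT)] Γ(Y, UB)).toRingHom)) ≫ hUB.fromSpec := by
    rw [Category.assoc, hj1', ← Spec.map_comp_assoc]
    rfl
  have hbsnd : (Spec.map (CommRingCat.ofHom bW) ≫ j') ≫ pullback.snd q _ = Spec.map (CommRingCat.ofHom γ) := by
    rw [Category.assoc, hj2', ← Spec.map_comp, ← hbγ]
    rfl
  have hby : ((Spec.map (CommRingCat.ofHom bW) ≫ j') ≫ pullback.fst q _) w = y := by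
    rw [hbfst]
    have h1 : (Spec.map (CommRingCat.ofHom (bW.comp (Algebra.TensorProduct.includeRight :
        Γ(Y, UB) →ₐ[Γ(T, UT)] A' ⊗[Γ(T, UT)] Γ(Y, UB)).toRingHom))) w = hUB.primeIdealOf ⟨y, hyB⟩ :=
      PrimeSpectrum.ext ((RingHom.comap_ker χ _).trans (hkb.trans hPCy))
    rw [Scheme.Hom.comp_apply, h1, hUB.fromSpec_primeIdealOf]
  have hbv : ((Spec.map (CommRingCat.ofHom bW) ≫ j') ≫ pullback.snd q _) w = v := by rw [hbsnd, hv]
  have hτ : (Spec.map (CommRingCat.ofHom (algebraMap Γ(T, UT) A')) ≫ hUT.fromSpec) v = q y := by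
    rw [← hbv, ← hby, ← Scheme.Hom.comp_apply, ← Scheme.Hom.comp_apply]
    simp only [Category.assoc, pullback.condition]
  refine ⟨Spec (CommRingCat.of A'), v, Spec.map (CommRingCat.ofHom (algebraMap Γ(S, V) A')) ≫ hV.fromSpec,
    Spec.map (CommRingCat.ofHom (algebraMap Γ(T, UT) A')) ≫ hUT.fromSpec, Spec (CommRingCat.of W'), w,
    Spec.map (CommRingCat.ofHom aW) ≫ hUA.fromSpec, Spec.map (CommRingCat.ofHom bW) ≫ j',
    inferInstance, hev, ?_, hτ, inferInstance, ?_, ?_, ?_, inferInstance, ?_, ?_, ?_⟩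
  · exact PopescuLib.bijective_rfm_affine _ _ v (χ.comp γ) rfl hFv
  · have h1 : (Spec.map (CommRingCat.ofHom aW)) w = hUA.primeIdealOf ⟨x, hxA⟩ :=
      PrimeSpectrum.ext ((RingHom.comap_ker χ aW).trans hka)
    rw [Scheme.Hom.comp_apply, h1, hUA.fromSpec_primeIdealOf]
  · exact PopescuLib.bijective_rfm_affine _ _ w χ rfl hFa
  · rw [← Category.assoc (Spec.map (CommRingCat.ofHom bW) ≫ j'), hbsnd, ← Spec.map_comp_assoc, Category.assoc,
      ← IsAffineOpen.SpecMap_appLE_fromSpec p hV hUA hAV, ← Spec.map_comp_assoc]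
    congr 2
    exact CommRingCat.hom_ext haγ
  · exact (Scheme.Hom.comp_apply _ (pullback.fst q _) w).symm.trans hby
  · exact (Scheme.Hom.comp_apply _ (pullback.snd q _) w).symm.trans hbv
  · exact PopescuLib.bijective_rfm_affine _ _ w χ rfl hFb

end Groth.Agent.S7238
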