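import Groth.Statements.S7239
import Groth.Agent.KFlatLib.Scheme.Coherator
-- import your own Groth.Agent.* helpers here

set_option autoImplicit false
universe u
open CategoryTheory CategoryTheory.Limits AlgebraicGeometry
attribute [local instance] HasDerivedCategory.standard
open Perf

namespace Groth.Agent.S7239

/-- Let X be a quasi-compact and quasi-separated scheme. Then the inclusion functor of the full
subcategory D_QCoh(O_X) of D(O_X) (objects all of whose cohomology sheaves are quasi-coherent) into
D(O_X) is a left adjoint, i.e. it admits a right adjoint D(O_X) ⥤ D_QCoh(O_X). -/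
theorem result (X : Scheme.{u}) [CompactSpace ↥X] [QuasiSeparatedSpace ↥X] :
    (ObjectProperty.ι (DCoh.IsQCohD (X := X))).IsLeftAdjoint := by
  exact Groth.Agent.KFlatLib.DQSmall.isLeftAdjoint_incl_DQCoh X

end Groth.Agent.S7239
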