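import Groth.Statements.S7250
import Groth.Agent.KFlatLib.Scheme.RelPerfectSch
-- import your own Groth.Agent.* helpers here

set_option autoImplicit false
universe u
open CategoryTheory CategoryTheory.Limits AlgebraicGeometry
attribute [local instance] HasDerivedCategory.standard
open Perf

namespace Groth.Agent.S7250

/-- Let f : X ⟶ S be flat and locally of finite presentation. The S-perfect objects of D(O_X)
(pseudo-coherent and locally of finite tor dimension over f⁻¹O_S, the latter in the form: locally
represented by a bounded complex of O_X-modules flat over S) form a saturated triangulated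
subcategory: the property contains zero, is stable under all shifts, is closed under the middle term
of distinguished triangles, and is stable under retracts. -/
theorem result {X S : Scheme.{u}} (f : X ⟶ S) [Flat f] [LocallyOfFinitePresentation f] :
    ObjectProperty.IsTriangulated (fun E : DCoh.D X => (∀ m : ℤ, DCoh.IsPseudoCoherentD m E) ∧ DCoh.LocHasFiniteRelTorDim f E) ∧
    ObjectProperty.IsStableUnderRetracts (fun E : DCoh.D X => (∀ m : ℤ, DCoh.IsPseudoCoherentD m E) ∧ DCoh.LocHasFiniteRelTorDim f E) := by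
  let P : ObjectProperty (DCoh.D X) := fun E => (∀ m : ℤ, DCoh.IsPseudoCoherentD m E) ∧ DCoh.LocHasFiniteRelTorDim f E
  have hP : ∀ E, P E ↔ KFlatLib.RelPerfectSch.RelPerf f E := KFlatLib.RelPerfectSch.relPerf_iff f
  haveI : P.IsClosedUnderIsomorphisms := ⟨fun e h => (hP _).2 (((hP _).1 h).of_iso e)⟩
  haveI : P.IsStableUnderShift ℤ := ⟨fun n => ⟨fun E h => (hP _).2 (((hP _).1 h).shift n)⟩⟩
  haveI : P.ContainsZero := ⟨⟨_, isZero_zero _, (hP _).2 (KFlatLib.RelPerfectSch.relPerf_of_perfect f
    ((KFlatLib.isPerfect_iff _).2 (KFlatLib.locSP_of_isZero (isZero_zero _))))⟩⟩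
  haveI : P.IsTriangulatedClosed₂ := ⟨fun T hT h₁ h₃ => P.le_isoClosure _
    ((hP _).2 (KFlatLib.RelPerfectSch.relPerf_obj₂ f T hT ((hP _).1 h₁) ((hP _).1 h₃)))⟩
  exact ⟨(⟨⟩ : P.IsTriangulated), ⟨fun r h => (hP _).2 (KFlatLib.RelPerfectSch.relPerf_of_retract f r ((hP _).1 h))⟩⟩

end Groth.Agent.S7250
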