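import Groth.Statements.S7251
import Groth.Agent.KFlatLib.Scheme.QCohDerived
-- import your own Groth.Agent.* helpers here

set_option autoImplicit false
universe u
open CategoryTheory CategoryTheory.Limits AlgebraicGeometry
attribute [local instance] HasDerivedCategory.standard
open Perf

namespace Groth.Agent.S7251

/-- Let f : X ⟶ Y be a quasi-compact and quasi-separated morphism of schemes. Assume Rf_* exists and
sends D_QCoh(O_X) into D_QCoh(O_Y), let an adjunction Lf^* ⊣ Rf_* be given as data, and assume the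
inclusion functors D_QCoh ⥤ D have (chosen) right adjoints DQ_X and DQ_Y. Then Rf_* ∘ DQ_X = DQ_Y ∘
Rf_*: for every K ∈ D(O_X) the comparison map Rf_*(DQ_X K) ⟶ DQ_Y(Rf_* K) in D_QCoh(O_Y),
corresponding under the adjunction to Rf_* applied to the counit DQ_X K ⟶ K, is an isomorphism. -/
theorem result {X Y : Scheme.{u}} (f : X ⟶ Y) [QuasiCompact f] [QuasiSeparated f]
    [DCoh.HasRpush f] (h : DCoh.RpushPreservesQCoh f) [DCoh.HasLpull f] (adj : DCoh.Lpull f ⊣ DCoh.Rpush f)
    [(ObjectProperty.ι (DCoh.IsQCohD (X := X))).IsLeftAdjoint] [(ObjectProperty.ι (DCoh.IsQCohD (X := Y))).IsLeftAdjoint]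
    (K : DCoh.D X) :
    IsIso ((Adjunction.ofIsLeftAdjoint (ObjectProperty.ι (DCoh.IsQCohD (X := Y)))).homEquiv
      (⟨(DCoh.Rpush f).obj (((ObjectProperty.ι (DCoh.IsQCohD (X := X))).rightAdjoint.obj K).obj),
        h _ (((ObjectProperty.ι (DCoh.IsQCohD (X := X))).rightAdjoint.obj K).property)⟩ : DCoh.DQCoh Y)
      ((DCoh.Rpush f).obj K)
      ((DCoh.Rpush f).map ((Adjunction.ofIsLeftAdjoint (ObjectProperty.ι (DCoh.IsQCohD (X := X)))).counit.app K))) := by
  let ιY := ObjectProperty.ι (DCoh.IsQCohD (X := Y))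
  let ιX := ObjectProperty.ι (DCoh.IsQCohD (X := X))
  let aY := Adjunction.ofIsLeftAdjoint ιY
  let aX := Adjunction.ofIsLeftAdjoint ιX
  refine isIso_iff_yoneda_map_bijective _ |>.2 fun M => ?_
  let L : DCoh.DQCoh X := ⟨(DCoh.Lpull f).obj M.obj, Groth.Agent.KFlatLib.isQCohD_lpull f M.property⟩
  let ε := aX.counit.app K
  have h₁ : Function.Bijective (fun φ : (DCoh.Lpull f).obj M.obj ⟶ (ιX.rightAdjoint.obj K).obj => φ ≫ ε) := by
    have hb := (aX.homEquiv L K).symm.bijective.comp
      ((ObjectProperty.fullyFaithfulι (DCoh.IsQCohD (X := X))).homEquiv (X := L) (Y := ιX.rightAdjoint.obj K)).symm.bijective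
    convert hb using 1
    funext φ
    simp only [Function.comp, Adjunction.homEquiv_counit]
    rfl
  have h₂ : Function.Bijective (fun g : M.obj ⟶ (DCoh.Rpush f).obj (ιX.rightAdjoint.obj K).obj =>
      g ≫ (DCoh.Rpush f).map ε) := by
    have hb := (adj.homEquiv M.obj K).bijective.comp
      (h₁.comp (adj.homEquiv M.obj (ιX.rightAdjoint.obj K).obj).symm.bijective)
    convert hb using 1
    funext g
    simp only [Function.comp]
    rw [adj.homEquiv_naturality_right, Equiv.apply_symm_apply]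
  let T : DCoh.DQCoh Y := ⟨(DCoh.Rpush f).obj (ιX.rightAdjoint.obj K).obj, h _ (ιX.rightAdjoint.obj K).property⟩
  have h₃ := (aY.homEquiv M ((DCoh.Rpush f).obj K)).bijective.comp
    (h₂.comp ((ObjectProperty.fullyFaithfulι (DCoh.IsQCohD (X := Y))).homEquiv (X := M) (Y := T)).bijective)
  convert h₃ using 1
  funext g
  simp only [Function.comp]
  exact ((aY.homEquiv_naturality_left g _).symm)

end Groth.Agent.S7251
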