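import Groth.Statements.S7253
import Groth.Agent.LocCohDepth.Compare
import Groth.Agent.LocCohDepth.Equations
import Groth.Agent.LocCohDepth.KoszulFlat
-- import your own Groth.Agent.* helpers here

set_option autoImplicit false
universe u
open CategoryTheory CategoryTheory.Limits AlgebraicGeometry
attribute [local instance] HasDerivedCategory.standard
open Perf

namespace Groth.Agent.S7253

/-- Let X be a scheme, U ⊆ X an open subscheme and Z = X ∖ U. Assume that, locally on X, Z is the
vanishing set of a Koszul-regular sequence having c elements: every point of X has an affine open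
neighbourhood V and a sequence f₁, …, f_c in O_X(V), Koszul-regular in the ring O_X(V), whose common
zero locus meets V exactly in Z ∩ V. Then the local cohomology sheaves ℋ^i_Z(F) (right derived
functors, computed with injective resolutions, of F ↦ ker(F → j_*(F|_U))) vanish for every i ≠ c and
every flat quasi-coherent O_X-module F. -/
theorem result {X : Scheme.{u}} (U : X.Opens) [HasInjectiveResolutions X.Modules]
    (c : ℕ) (hZ : ∀ x : X, ∃ (V : X.Opens) (fs : List Γ(X, V)), x ∈ V ∧ IsAffineOpen V ∧ fs.length = c ∧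
      LCI.IsKoszulRegularSeq Γ(X, V) fs ∧
      X.zeroLocus (U := V) {a | a ∈ fs} ∩ (V : Set ↥X) = (U : Set ↥X)ᶜ ∩ (V : Set ↥X))
    (F : X.Modules) (hF : Coh.IsQCoh F) (hFl : FlatMod.IsFlat F) (i : ℕ) (hi : i ≠ c) :
    IsZero (((DCoh.gammaZ U.ι).rightDerived i).obj F) := by
  refine Groth.Agent.LocCohDepth.isZero_HZshM_of U i F ?_
  refine Groth.Agent.GrLib8.HZshPre.isZero_of_locallyZero (X := X.carrier) U (Coh.toAb F) i fun O z y hy => ?_
  obtain ⟨V, fs, hyV, hV, hlen, hreg, hfs⟩ := hZ y
  obtain ⟨a, haO, hya⟩ := hV.exists_basicOpen_le (V := O) ⟨y, hy⟩ hyV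
  have hWV : X.basicOpen a ≤ V := X.basicOpen_le a
  have hW : IsAffineOpen (X.basicOpen a) := hV.basicOpen a
  haveI : Module.Flat Γ(X, X.basicOpen a) Γ(F, X.basicOpen a) :=
    (Groth.Agent.QCoh.flat_sections_iff hF hW).2 fun x _ => hFl x
  have hflat : (X.presheaf.map (homOfLE hWV).op).hom.Flat := by
    haveI := hV.isLocalization_basicOpen a
    exact RingHom.flat_algebraMap_iff.2 (IsLocalization.flat Γ(X, X.basicOpen a) (Submonoid.powers a))
  refine ⟨X.basicOpen a, haO, hya, ?_⟩
  refine (Groth.Agent.LocCohDepth.subsingleton_HZ_of_extCech U hF hW _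
    (Groth.Agent.LocCohDepth.mem_iff_restrict U hWV fs hfs) i ?_).elim _ _
  refine Groth.Agent.LocCohDepth.extCech_isZero_of_flat _ hflat _ hreg _ ?_
  rw [hlen]
  exact_mod_cast hi

end Groth.Agent.S7253
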