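import Groth.Statements.S7256
import Groth.Agent.KFlatLib.Scheme.RpushPerfectCore
import Groth.Agent.KFlatLib.Scheme.StalkTorAmp
import Groth.Agent.KFlatLib.Scheme.ProperCompact
-- import your own Groth.Agent.* helpers here

set_option autoImplicit false
universe u
open CategoryTheory CategoryTheory.Limits AlgebraicGeometry
attribute [local instance] HasDerivedCategory.standard
open Perf

namespace Groth.Agent.S7256

/-- Let S be a Noetherian scheme, f : X ⟶ S locally of finite type and E ∈ D(O_X), represented by a
cochain complex F, such that (1) E is bounded with coherent cohomology sheaves, (2) the support of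
every Hⁱ(E) is proper over S, and (3) viewed in D(f⁻¹O_S), the object E is of finite tor dimension
(stalkwise form: there is one interval [a, b] such that at every point of X the complex of stalks of
F has tor amplitude in [a, b] over the local ring of S). Assuming Rf_* exists, Rf_*E is a perfect
object of D(O_S). -/
theorem result {X S : Scheme.{u}} [IsNoetherian S]
    (f : X ⟶ S) [LocallyOfFiniteType f] [DCoh.HasRpush f] (F : CochainComplex X.Modules ℤ)
    (hcoh : DCoh.IsCohD (DCoh.toD X F)) (hbdd : ∃ a b : ℤ, ∀ i : ℤ, (i < a ∨ b < i) → IsZero (DCoh.HD (DCoh.toD X F) i))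
    (hsupp : ∀ i : ℤ, ClSub.IsProperOver f (CohB1.support (DCoh.HD (DCoh.toD X F) i)))
    (htor : DerSch.HasFiniteTorAmplitude f F) :
    DCoh.IsPerfect ((DCoh.Rpush f).obj (DCoh.toD X F)) := by
  haveI := KFlatLib.hasLpull f
  obtain ⟨a, b, hab⟩ := htor
  obtain ⟨c, d, hcd⟩ := hbdd
  let Z : Set X := ⋃ i ∈ (Finset.Icc c d : Finset ℤ), CohB1.support (DCoh.HD (DCoh.toD X F) i)
  refine (KFlatLib.isPerfect_iff _).2 (KFlatLib.locSP_rpush_of_amp f _ c d hcd
    (fun i => ⟨hcoh i, hsupp i⟩) Z
    (isClosed_biUnion_finset fun i _ => (hsupp i).1)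
    ((Finset.Icc c d).finite_toSet.isCompact_biUnion fun i _ => KFlatLib.isCompact_of_isProperOver f (hsupp i))
    (fun i => ?_) a b (fun G _ M eM _ i hi => KFlatLib.isZero_hd_ltensor_lpull_stalk f hab G M eM i hi))
  by_cases hi : i ∈ Finset.Icc c d
  · exact Set.subset_biUnion_of_mem (u := fun i => CohB1.support (DCoh.HD (DCoh.toD X F) i)) hi
  · rw [KFlatLib.support_eq_empty_of_zero (hcd i (by simp only [Finset.mem_Icc, not_and_or] at hi; omega))]
    exact Set.empty_subset _

end Groth.Agent.S7256
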