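import Groth.Statements.S7260
import Groth.Agent.KExact.RlimQCoh
-- import your own Groth.Agent.* helpers here

set_option autoImplicit false
set_option linter.style.haveILetI false
set_option backward.isDefEq.respectTransparency false
set_option backward.isDefEq.respectTransparency.types false

universe u
open CategoryTheory CategoryTheory.Limits AlgebraicGeometry
attribute [local instance] HasDerivedCategory.standard
open Perf

namespace Groth.Agent.S7260

attribute [local instance] HasDerivedCategory.standard
open Groth.Agent.KExact Groth.Agent.KFlatLib Groth.Agent


/-- Let X be a scheme and (F_n)_{n ≥ 0} an inverse system of quasi-coherent O_X-modules whose transition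
maps F_{n+1} ⟶ F_n are surjective for n ≥ 1. Then R lim F_n = lim F_n, that is, lim F_n placed in
degree 0 is a derived limit in D(O_X) of the system (F_n[0]) (granted the countable product exists
there), and H^p(U, lim F_n) = 0 for every affine open U ⊆ X and every p > 0. (The published
statement is phrased for the system of q-th cohomology sheaves of an inverse system in D_QCoh(O_X);
the proof uses only that these form an inverse system of quasi-coherent modules with surjective
transition maps, which is the form stated here.) -/
theorem result {X : Scheme.{u}} (F : ℕ → X.Modules)
    (hF : ∀ n, Coh.IsQCoh (F n)) (t : ∀ n, F (n + 1) ⟶ F n) (ht : ∀ n, 1 ≤ n → Epi (t n))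
    [HasProduct fun n => DCoh.inD X (F n)] :
    DCoh.IsRlim (fun n => DCoh.inD X (F n)) (fun n => (DerivedCategory.singleFunctor X.Modules 0).map (t n))
        (DCoh.inD X (Limits.limit (Functor.ofOpSequence t))) ∧
      ∀ (U : X.Opens), IsAffineOpen U → ∀ p : ℕ, 0 < p →
        Subsingleton (Coh.HHon X (Limits.limit (Functor.ofOpSequence t)) U p) := by
  exact Groth.Agent.KExact.RlimQCoh.main F hF t ht
end Groth.Agent.S7260
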