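import Groth.Statements.S7261
import Groth.Agent.KFlatLib.Scheme.ApproxAffine
import Groth.Agent.KFlatLib.Scheme.Generator
-- import your own Groth.Agent.* helpers here

set_option autoImplicit false
universe u
open CategoryTheory CategoryTheory.Limits AlgebraicGeometry
attribute [local instance] HasDerivedCategory.standard
open Perf

namespace Groth.Agent.S7261

/-- Let X be an affine scheme, T = V(f_1, …, f_r) the common zero locus of r global functions, m ∈ ℤ,
and E an m-pseudo-coherent object of D(O_X) with quasi-coherent cohomology sheaves such that Hⁱ(E)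
is supported on T for i ≥ m - r + 1. Then approximation holds for (T, E, m): there are a perfect
object P of D(O_X) supported on T and a morphism α : P ⟶ E inducing isomorphisms Hⁱ(P) ⟶ Hⁱ(E) for i
> m and an epimorphism Hᵐ(P) ⟶ Hᵐ(E). (The published hypothesis asks that X ∖ T be a union of r
affine opens; the published proof begins by writing T as the zero locus of r functions, and this row
takes that as the hypothesis.) -/
theorem result (X : Scheme.{u}) [IsAffine X] (fs : Finset Γ(X, ⊤))
    (m : ℤ) (E : DCoh.D X) (hq : DCoh.IsQCohD E) (hpc : DCoh.IsPseudoCoherentD m E)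
    (hsupp : ∀ i : ℤ, m - (fs.card : ℤ) + 1 ≤ i → CohB1.support (DCoh.HD E i) ⊆ X.zeroLocus (U := ⊤) (↑fs : Set Γ(X, ⊤))) :
    ∃ (P : DCoh.D X) (α : P ⟶ E), DCoh.IsPerfect P ∧
      (∀ i : ℤ, CohB1.support (DCoh.HD P i) ⊆ X.zeroLocus (U := ⊤) (↑fs : Set Γ(X, ⊤))) ∧
      (∀ i : ℤ, m < i → IsIso ((DerivedCategory.homologyFunctor X.Modules i).map α)) ∧
      Epi ((DerivedCategory.homologyFunctor X.Modules m).map α) := by
  classical
  let T : Set X := X.zeroLocus (U := ⊤) (↑fs : Set Γ(X, ⊤))
  let O : X.Opens := ⟨Tᶜ, (X.zeroLocus_isClosed _).isOpen_compl⟩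
  have hO : (X.isoSpec.inv ⁻¹ᵁ O) = KFlatLib.KoszulOrth.pU (A := Γ(X, ⊤)) fs.toList := by
    ext p
    refine Iff.trans ?_ (KFlatLib.KoszulOrth.mem_pU_iff (A := Γ(X, ⊤)) fs.toList p).symm
    have hb : ∀ f : Γ(X, ⊤), X.isoSpec.inv.base p ∈ X.basicOpen f ↔ f ∉ (p : PrimeSpectrum Γ(X, ⊤)).asIdeal :=
      fun f => by
        rw [← Scheme.toSpecΓ_preimage_basicOpen]
        show X.toSpecΓ.base (X.isoSpec.inv.base p) ∈ PrimeSpectrum.basicOpen f ↔ _
        rw [← Scheme.Hom.comp_apply, Scheme.isoSpec_inv_toSpecΓ]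
        rfl
    show X.isoSpec.inv.base p ∉ T ↔ _
    simp only [T, Scheme.mem_zeroLocus_iff, Finset.mem_coe, Finset.mem_toList, not_forall, not_not, exists_prop]
    exact exists_congr fun f => and_congr_right fun _ => hb f
  obtain ⟨P, α, hP, hz, hiso, hepi⟩ := KFlatLib.Approx.exists_approx_affine_of_list fs.toList O hO m E hq hpc
    (fun i hi => by
      rw [Finset.length_toList] at hi
      exact (hsupp i (by omega)).trans fun x hx h => h hx)
  refine ⟨P, α, (KFlatLib.isPerfect_iff _).2 hP, fun i x hx => Classical.by_contradiction fun hxT => ?_, hiso, hepi⟩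
  exact hx (KFlatLib.Generator.subsingleton_stalk_of_isZero_rho O.ι hz i ⟨x, hxT⟩)

end Groth.Agent.S7261
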