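import Groth.Statements.S7265
import Groth.Agent.KFlatLib.Scheme.ApproxGlue
-- import your own Groth.Agent.* helpers here

set_option autoImplicit false
universe u
open CategoryTheory CategoryTheory.Limits AlgebraicGeometry
attribute [local instance] HasDerivedCategory.standard
open Perf

open Groth.Agent.KFlatLib Groth.Agent.KFlatLib.Generator Groth.Agent.KFlatLib.PerfectLift TopologicalSpace

namespace Groth.Agent.S7265

/-- Let X be a scheme, U ⊆ X an open subscheme, T ⊆ U a subset closed in X, E ∈ D(O_X) with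
quasi-coherent cohomology sheaves and m ∈ ℤ. If approximation holds for (T, E|_U, m) on U (there are
a perfect P ∈ D(O_U) supported on T and P ⟶ E|_U inducing isomorphisms on Hⁱ for i > m and a
surjection on Hᵐ) and the sheaves Hⁱ(E), i ≥ m, are supported on T, then approximation holds for (T,
E, m) on X. -/
theorem result {X : Scheme.{u}} (U : X.Opens) (T : Set ↥X) (hT : IsClosed T)
    (hTU : T ⊆ (U : Set ↥X)) (E : DCoh.D X) (hE : DCoh.IsQCohD E) (m : ℤ)
    (happ : ∃ (P : DCoh.D (U : Scheme.{u})) (α : P ⟶ (DCoh.restrictD U.ι).obj E), DCoh.IsPerfect P ∧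
      (∀ i : ℤ, CohB1.support (DCoh.HD P i) ⊆ {v : ↥(U : Scheme.{u}) | U.ι.base v ∈ T}) ∧
      (∀ i : ℤ, m < i → IsIso ((DerivedCategory.homologyFunctor _ i).map α)) ∧
      Epi ((DerivedCategory.homologyFunctor _ m).map α))
    (hsupp : ∀ i : ℤ, m ≤ i → CohB1.support (DCoh.HD E i) ⊆ T) :
    ∃ (P : DCoh.D X) (α : P ⟶ E), DCoh.IsPerfect P ∧ (∀ i : ℤ, CohB1.support (DCoh.HD P i) ⊆ T) ∧
      (∀ i : ℤ, m < i → IsIso ((DerivedCategory.homologyFunctor X.Modules i).map α)) ∧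
      Epi ((DerivedCategory.homologyFunctor X.Modules m).map α) := by
  obtain ⟨P, α, hP, hPT, hα⟩ := happ
  obtain ⟨Q, ψ, e, hQ, hQT, hψ⟩ := Approx.exists_push_map U T hT hTU P ((isPerfect_iff _).1 hP) hPT α
  refine ⟨Q, ψ, (isPerfect_iff _).2 hQ, hQT, ?_⟩
  let Tc : X.Opens := ⟨Tᶜ, hT.isOpen_compl⟩
  refine Approx.isPcMap_of_local U Tc (top_le_iff.1 fun x _ =>
    Opens.mem_sup.2 ((em (x ∈ T)).imp (fun h => hTU h) id)) m ψ ?_ ?_
  · rw [hψ]
    exact (isPcMap_of_isIso m _).comp hα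
  · have hz : ∀ i, m ≤ i → IsZero (DCoh.HD ((rho Tc.ι).obj E) i) :=
      fun i hi => isZero_of_stalk _ fun (y : Tc) => @ModuleCat.isZero_of_subsingleton _ _ _
        (not_not.1 fun hy => y.2 (hsupp i hi ((Approx.mem_support_rho Tc.ι E i y).1 hy)))
    have hz' : ∀ i, IsZero (DCoh.HD ((rho Tc.ι).obj Q) i) :=
      fun i => isZero_of_stalk _ fun (y : Tc) => @ModuleCat.isZero_of_subsingleton _ _ _
        (not_not.1 fun hy => y.2 (hQT i ((Approx.mem_support_rho Tc.ι Q i y).1 hy)))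
    exact ⟨fun i hi => ⟨⟨0, (hz' i).eq_of_src _ _, (hz i hi.le).eq_of_src _ _⟩⟩,
      ⟨fun _ _ _ => (hz m le_rfl).eq_of_src _ _⟩⟩

end Groth.Agent.S7265
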