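import Groth.Statements.S7266
import Groth.Agent.KFlatLib.Scheme.ApproxGlue
-- import your own Groth.Agent.* helpers here

set_option autoImplicit false
universe u
open CategoryTheory CategoryTheory.Limits AlgebraicGeometry
attribute [local instance] HasDerivedCategory.standard
open Perf

open Groth.Agent.KFlatLib Groth.Agent.KFlatLib.Generator Groth.Agent.KFlatLib.PerfectLift TopologicalSpace

namespace Groth.Agent.S7266

/-- Let X be a scheme written as X = U ∪ V with U, V open, where V is affine and both U and the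
intersection U ∩ V are quasi-compact. Suppose approximation by perfect complexes is valid on U; it
is then also valid on X. Here 'approximation by perfect complexes holds on Y' means: for every
closed T ⊆ Y with retrocompact complement there is an integer r such that for every m ∈ ℤ and every
(m - r)-pseudo-coherent E ∈ D(O_Y) with quasi-coherent cohomology sheaves and Hⁱ(E) supported on T
for i ≥ m - r, there are a perfect P ∈ D(O_Y) supported on T and P ⟶ E inducing isomorphisms on Hⁱ
for i > m and a surjection on Hᵐ. -/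
theorem result {X : Scheme.{u}} (U V : X.Opens)
    (hU : IsCompact (U : Set ↥X)) (hV : IsAffineOpen V) (hUV : IsCompact ((U ⊓ V : X.Opens) : Set ↥X)) (hcov : U ⊔ V = ⊤)
    (hAU : (∀ (T : Set ↥(U : Scheme.{u})), IsClosed T → IsRetrocompact Tᶜ → ∃ r : ℤ, ∀ (m : ℤ) (E : DCoh.D (U : Scheme.{u})), DCoh.IsQCohD E →
        DCoh.IsPseudoCoherentD (m - r) E → (∀ i : ℤ, m - r ≤ i → CohB1.support (DCoh.HD E i) ⊆ T) →
        ∃ (P : DCoh.D (U : Scheme.{u})) (α : P ⟶ E), DCoh.IsPerfect P ∧ (∀ i : ℤ, CohB1.support (DCoh.HD P i) ⊆ T) ∧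
          (∀ i : ℤ, m < i → IsIso ((DerivedCategory.homologyFunctor _ i).map α)) ∧
          Epi ((DerivedCategory.homologyFunctor _ m).map α))) :
    (∀ (T : Set ↥X), IsClosed T → IsRetrocompact Tᶜ → ∃ r : ℤ, ∀ (m : ℤ) (E : DCoh.D X), DCoh.IsQCohD E →
        DCoh.IsPseudoCoherentD (m - r) E → (∀ i : ℤ, m - r ≤ i → CohB1.support (DCoh.HD E i) ⊆ T) →
        ∃ (P : DCoh.D X) (α : P ⟶ E), DCoh.IsPerfect P ∧ (∀ i : ℤ, CohB1.support (DCoh.HD P i) ⊆ T) ∧
          (∀ i : ℤ, m < i → IsIso ((DerivedCategory.homologyFunctor _ i).map α)) ∧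
          Epi ((DerivedCategory.homologyFunctor _ m).map α)) := by
  intro T hT hTc
  obtain ⟨r, hr⟩ := hAU (U.ι.base ⁻¹' T) (hT.preimage U.ι.continuous) (fun s hsc hso => by
    refine U.ι.isOpenEmbedding.isInducing.isCompact_iff.2 ?_
    rw [← Set.preimage_compl, Set.inter_comm, Set.image_inter_preimage, Set.inter_comm]
    exact hTc (hsc.image U.ι.continuous) (U.ι.isOpenEmbedding.isOpenMap s hso))
  obtain ⟨r', hr'⟩ := Approx.hasApprox_step U V hU hV hUV hcov T hT (hTc hV.isCompact V.2)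
    ⟨r, fun m E hE hpc hs => by
      obtain ⟨P, α, hP, hPT, hα⟩ := hr m E hE ((isPseudoCoherentD_iff _ _).2 hpc) hs
      exact ⟨P, α, (isPerfect_iff _).1 hP, hPT, hα⟩⟩
  refine ⟨r', fun m E hE hpc hs => ?_⟩
  obtain ⟨P, α, hP, hPT, hα⟩ := hr' m E hE ((isPseudoCoherentD_iff _ _).1 hpc) hs
  exact ⟨P, α, (isPerfect_iff _).2 hP, hPT, hα⟩

end Groth.Agent.S7266
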