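import Groth.Statements.S7268
import Groth.Agent.KFlatLib.Scheme.TildePush
-- import your own Groth.Agent.* helpers here

set_option autoImplicit false
universe u
open CategoryTheory CategoryTheory.Limits AlgebraicGeometry
attribute [local instance] HasDerivedCategory.standard
open Perf

namespace Groth.Agent.S7268

/-- Let A → B be a ring map and f : X = Spec B ⟶ Y = Spec A the corresponding morphism of affine
schemes. Assuming Rf_* exists on the unbounded derived category (and tilde is recorded as exact over
A and over B), the square formed by D(B) ⟶ D(A) (restriction of scalars), the tilde functors D(B) ⟶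
D_QCoh(O_X), D(A) ⟶ D_QCoh(O_Y) and Rf_* commutes: the functors M ↦ Rf_*(M~) and M ↦ (M_A)~ from
D(B) to D(O_Y) are isomorphic (existence of a natural isomorphism only). -/
theorem result {A B : Type u} [CommRing A] [CommRing B] (φ : A →+* B)
    [PreservesFiniteLimits (tilde.functor (CommRingCat.of A))] [PreservesFiniteLimits (tilde.functor (CommRingCat.of B))]
    [DCoh.HasRpush (Spec.map (CommRingCat.ofHom φ))] :
    Nonempty (DCoh.tildeD (CommRingCat.of B) ⋙ DCoh.Rpush (Spec.map (CommRingCat.ofHom φ)) ≅
      DRing.restrictD φ ⋙ DCoh.tildeD (CommRingCat.of A)) := by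
  exact KFlatLib.nonempty_tildeD_rpush_iso (CommRingCat.ofHom φ)

end Groth.Agent.S7268
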