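import Groth.Statements.S7272
import Groth.Agent.KExact.SPerfectLoc
-- import your own Groth.Agent.* helpers here

set_option autoImplicit false
set_option linter.style.haveILetI false
set_option backward.isDefEq.respectTransparency false
set_option backward.isDefEq.respectTransparency.types false

universe u
open CategoryTheory CategoryTheory.Limits AlgebraicGeometry
attribute [local instance] HasDerivedCategory.standard
open Perf

namespace Groth.Agent.S7272

/-- Suppose X is a scheme that is quasi-compact, quasi-separated and has the resolution property; write
A for the additive category of finite locally free O_X-modules and D_perf(O_X) for the full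
subcategory of perfect objects of D(O_X). The obvious functor from bounded complexes in A to
D_perf(O_X) identifies D_perf(O_X) with the localisation of the bounded (homotopy) category of A at
the quasi-isomorphisms: stated here as 'the functor from the full subcategory of bounded complexes
of finite locally free modules to D_perf(O_X), E ↦ E viewed in D(O_X), is a localization functor for
the class of quasi-isomorphisms' (that this functor lands in perfect objects is supplied as the
hypothesis h). -/
theorem result (X : Scheme.{u}) [CompactSpace ↥X] [QuasiSeparatedSpace ↥X]
    (hX : PerfAux.HasResolutionProperty X)
    (h : ∀ E : ObjectProperty.FullSubcategory (fun E : CochainComplex X.Modules ℤ => DCoh.IsStrictlyPerfect E), DCoh.IsPerfect ((ObjectProperty.ι (fun E : CochainComplex X.Modules ℤ => DCoh.IsStrictlyPerfect E) ⋙ DerivedCategory.Q).obj E)) :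
    (ObjectProperty.lift (fun K : DCoh.D X => DCoh.IsPerfect K) (ObjectProperty.ι (fun E : CochainComplex X.Modules ℤ => DCoh.IsStrictlyPerfect E) ⋙ DerivedCategory.Q) h).IsLocalization
      ((HomologicalComplex.quasiIso X.Modules (ComplexShape.up ℤ)).inverseImage (ObjectProperty.ι (fun E : CochainComplex X.Modules ℤ => DCoh.IsStrictlyPerfect E))) := KExact.SPerfect.isLocalization hX h
end Groth.Agent.S7272
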