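import Groth.Statements.S7277
import Groth.Agent.KExact.HomFinite
-- import your own Groth.Agent.* helpers here

set_option autoImplicit false
set_option linter.style.haveILetI false
set_option backward.isDefEq.respectTransparency false
set_option backward.isDefEq.respectTransparency.types false

universe u
open CategoryTheory CategoryTheory.Limits AlgebraicGeometry
attribute [local instance] HasDerivedCategory.standard
open Perf

namespace Groth.Agent.S7277

attribute [local instance] HasDerivedCategory.standard
open Groth.Agent.KExact Groth.Agent.KFlatLib Groth.Agent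


/-- Let A be a Noetherian ring and X a scheme proper over Spec A. For K ∈ D⁻_Coh(O_X) (bounded above,
coherent cohomology sheaves) and L ∈ D⁺_Coh(O_X) (bounded below, coherent cohomology sheaves), the
A-modules Extⁿ(K, L) = Hom_{D(O_X)}(K, L[n]) are finite for all n (A acts on morphisms of D(O_X)
through A → Γ(X, O_X)). -/
theorem result (A : Type u) [CommRing A] [IsNoetherianRing A] (X : Scheme.{u})
    [X.Over (Spec (CommRingCat.of A))] [IsProper (X ↘ Spec (CommRingCat.of A))] (K L : DCoh.D X)
    (hK : DCoh.IsCohD K) (hKb : ∃ b : ℤ, K.IsLE b) (hL : DCoh.IsCohD L) (hLa : ∃ a : ℤ, L.IsGE a) (n : ℤ) :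
    Module.Finite A (K ⟶ L⟦n⟧) := by
  haveI : IsNoetherian X := Groth.Agent.KExact.BCNat.isNoetherian_of_ft (X ↘ Spec (CommRingCat.of A))
  obtain ⟨b, hb⟩ := hKb
  obtain ⟨a, ha⟩ := hLa
  haveI := hb
  haveI := ha
  haveI : (L⟦n⟧).IsGE (a - n) := DerivedCategory.TStructure.t.isGE_shift L a n (a - n) (by omega)
  exact Groth.Agent.KExact.HomFinite.finite_hom (A := A) K (L⟦n⟧) b (a - n) hK (KFlatLib.isCohD_shift hL n)
end Groth.Agent.S7277
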