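import Groth.Statements.S7278
import Groth.Agent.KFlatLib.Scheme.RelPerfectSch
-- import your own Groth.Agent.* helpers here

set_option autoImplicit false
universe u
open CategoryTheory CategoryTheory.Limits AlgebraicGeometry Opposite
attribute [local instance] HasDerivedCategory.standard
open Perf

namespace Groth.Agent.S7278

/-- Let f : X ⟶ S be flat and locally of finite presentation and E an object of D(O_X) with
quasi-coherent cohomology sheaves (tilde recorded as exact). For affine opens U ⊆ X and V ⊆ S with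
f(U) ⊆ V, say that E is algebraically perfect on U over V when every M ∈ D(Γ(U, O_X)) whose
associated object M~ on Spec Γ(U, O_X) is isomorphic to the restriction E|_U (transported along U ≅
Spec Γ(U, O_X)) is Γ(V, O_S)-perfect: pseudo-coherent as a complex of Γ(U, O_X)-modules and of
finite tor dimension over Γ(V, O_S) through f^♯ (such M exist and are unique up to isomorphism,
namely RΓ(U, E)). Then: E is S-perfect (pseudo-coherent, and locally on X represented by a bounded
complex of O_X-modules flat over S) if and only if E is algebraically perfect on every affine open U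
over every affine open V with U ⊆ f⁻¹V; and E is S-perfect as soon as this holds for the members
U_ij of affine open coverings f⁻¹V_i = ⋃ U_ij attached to an affine open covering S = ⋃ V_i. -/
theorem result {X S : Scheme.{u}} (f : X ⟶ S) [Flat f] [LocallyOfFinitePresentation f]
    [∀ R : CommRingCat.{u}, PreservesFiniteLimits (tilde.functor R)]
    (E : DCoh.D X) (hE : DCoh.IsQCohD E) :
    (((∀ m : ℤ, DCoh.IsPseudoCoherentD m E) ∧ DCoh.LocHasFiniteRelTorDim f E) ↔
      ∀ (U : X.Opens) (hU : IsAffineOpen U) (V : S.Opens) (hV : IsAffineOpen V) (hUV : U ≤ f ⁻¹ᵁ V)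
        (M : DerivedCategory (ModuleCat.{u} Γ(X, U))),
        Nonempty ((DCoh.restrictD hU.isoSpec.inv).obj ((DCoh.restrictD U.ι).obj E) ≅ (DCoh.tildeD Γ(X, U)).obj M) →
          @Dual2.IsRelPerfect Γ(S, V) Γ(X, U) _ _ (f.appLE V U hUV).hom.toAlgebra M) ∧
    (∀ (ι : Type u) (V : ι → S.Opens) (hV : ∀ i, IsAffineOpen (V i)) (hVcov : ⨆ i, V i = ⊤)
        (κ : ι → Type u) (U : ∀ i, κ i → X.Opens) (hU : ∀ i j, IsAffineOpen (U i j))
        (hUV : ∀ i j, U i j ≤ f ⁻¹ᵁ V i) (hUcov : ∀ i, ⨆ j, U i j = f ⁻¹ᵁ V i),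
        (∀ (i : ι) (j : κ i) (M : DerivedCategory (ModuleCat.{u} Γ(X, U i j))),
          Nonempty ((DCoh.restrictD (hU i j).isoSpec.inv).obj ((DCoh.restrictD (U i j).ι).obj E) ≅
              (DCoh.tildeD Γ(X, U i j)).obj M) →
            @Dual2.IsRelPerfect Γ(S, V i) Γ(X, U i j) _ _ (f.appLE (V i) (U i j) (hUV i j)).hom.toAlgebra M) →
        (∀ m : ℤ, DCoh.IsPseudoCoherentD m E) ∧ DCoh.LocHasFiniteRelTorDim f E) := by
  constructor
  · rw [KFlatLib.RelPerfectSch.relPerf_iff]
    constructor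
    · intro h U hU V hV hUV M he
      letI := (f.appLE V U hUV).hom.toAlgebra
      obtain ⟨e⟩ := he
      exact (KFlatLib.RelPerfectSch.relPerf_chart_iff f hU.fromSpec hV.fromSpec
        (IsAffineOpen.SpecMap_appLE_fromSpec f hV hU hUV) M
        ((KFlatLib.rhoComp hU.isoSpec.inv U.ι hU.fromSpec rfl E).symm ≪≫ e)).1 (h.restrict hU.fromSpec)
    · intro h
      refine KFlatLib.RelPerfectSch.RelPerf.of_local fun x => ?_
      obtain ⟨V, hV, hxV, -⟩ := exists_isAffineOpen_mem_and_subset (x := f.base x) (U := ⊤) trivial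
      obtain ⟨U, hU, hxU, hle⟩ := exists_isAffineOpen_mem_and_subset (x := x) (U := f ⁻¹ᵁ V) hxV
      letI := (f.appLE V U hle).hom.toAlgebra
      obtain ⟨M, ⟨e⟩⟩ := KFlatLib.exists_tildeD_iso (R := Γ(X, U)) (KFlatLib.isQCohD_rho hU.fromSpec hE)
      exact ⟨_, hU.fromSpec, inferInstance, hU.range_fromSpec.symm ▸ hxU,
        (KFlatLib.RelPerfectSch.relPerf_chart_iff f hU.fromSpec hV.fromSpec
          (IsAffineOpen.SpecMap_appLE_fromSpec f hV hU hle) M e.symm).2 (h U hU V hV hle M
            ⟨KFlatLib.rhoComp hU.isoSpec.inv U.ι hU.fromSpec rfl E ≪≫ e.symm⟩)⟩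
  · intro ι V hV hVcov κ U hU hUV hUcov h
    rw [KFlatLib.RelPerfectSch.relPerf_iff]
    refine KFlatLib.RelPerfectSch.RelPerf.of_local fun x => ?_
    obtain ⟨i, hi⟩ := TopologicalSpace.Opens.mem_iSup.1 (show f.base x ∈ ⨆ i, V i by rw [hVcov]; trivial)
    obtain ⟨j, hj⟩ := TopologicalSpace.Opens.mem_iSup.1 (show x ∈ ⨆ j, U i j by rw [hUcov i]; exact hi)
    letI := (f.appLE (V i) (U i j) (hUV i j)).hom.toAlgebra
    obtain ⟨M, ⟨e⟩⟩ := KFlatLib.exists_tildeD_iso (R := Γ(X, U i j)) (KFlatLib.isQCohD_rho (hU i j).fromSpec hE)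
    exact ⟨_, (hU i j).fromSpec, inferInstance, (hU i j).range_fromSpec.symm ▸ hj,
      (KFlatLib.RelPerfectSch.relPerf_chart_iff f (hU i j).fromSpec (hV i).fromSpec
        (IsAffineOpen.SpecMap_appLE_fromSpec f (hV i) (hU i j) (hUV i j)) M e.symm).2 (h i j M
          ⟨KFlatLib.rhoComp (hU i j).isoSpec.inv (U i j).ι (hU i j).fromSpec rfl E ≪≫ e.symm⟩)⟩

end Groth.Agent.S7278
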