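import Groth.Statements.S7280
import Groth.Agent.CxSuppLib.Basic
import Groth.Agent.S6593
import Groth.Agent.KFlatLib.Scheme.RpushCoprodQCoh
import Groth.Agent.KFlatLib.Scheme.DQCohSmall
-- import your own Groth.Agent.* helpers here

set_option autoImplicit false
set_option linter.style.haveILetI false
set_option backward.isDefEq.respectTransparency false
set_option backward.isDefEq.respectTransparency.types false

universe u
open CategoryTheory CategoryTheory.Limits AlgebraicGeometry
attribute [local instance] HasDerivedCategory.standard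
open Perf

namespace Groth.Agent.S7280

open CategoryTheory.Limits AlgebraicGeometry
open Groth.Agent.KFlatLib

set_option linter.style.haveILetI false
set_option backward.isDefEq.respectTransparency false
set_option backward.isDefEq.respectTransparency.types false

/-- Coproducts exist in the derived category of modules. -/
lemma hasCoproduct_D {Z : Scheme.{u}} {ι : Type u} (C : ι → DCoh.D Z) : HasCoproduct C := by
  let K := fun i => DerivedCategory.Q.objPreimage (C i)
  haveI := preservesColimit_Q K
  haveI : HasCoproduct fun i => DerivedCategory.Q.obj (K i) :=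
    ⟨⟨⟨_, (Cofan.isColimitMapCoconeEquiv DerivedCategory.Q _ _)
      (isColimitOfPreserves DerivedCategory.Q (coproductIsCoproduct K))⟩⟩⟩
  exact hasColimit_of_iso (Discrete.natIso fun i => (repIso (C i.as)).symm :
    Discrete.functor C ≅ Discrete.functor fun i => DerivedCategory.Q.obj (K i))


/-- Let X be a scheme, j : U ⟶ X an open immersion which is quasi-compact, and T = X ∖ U (a closed
subset with retrocompact complement). Assuming the unbounded derived functor RΓ_T = i_* RH_T of
sections with support in T exists on D(O_X): for every family Eᵢ of objects of D_QCoh(O_X) indexed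
by a small type whose direct sums ∐ Eᵢ and ∐ RΓ_T(Eᵢ) exist in D(O_X), the canonical map ∐ RΓ_T(Eᵢ)
⟶ RΓ_T(∐ Eᵢ) is an isomorphism. (The published statement is RH_T(⊕ Eᵢ) = ⊕ RH_T(Eᵢ) in D(i⁻¹O_X) for
the inclusion i : T → X; since i_* identifies D(i⁻¹O_X) with the objects of D(O_X) supported on T
and commutes with direct sums, this is the same assertion for i_* RH_T = RΓ_T.) -/
theorem result {U X : Scheme.{u}} (j : U ⟶ X) [IsOpenImmersion j] [QuasiCompact j]
    [CxOX.HasRgammaZ j] {ι : Type u} (E : ι → DCoh.D X) (hE : ∀ i, DCoh.IsQCohD (E i)) [HasCoproduct E]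
    [HasCoproduct (fun i => (CxOX.RgammaZ j).obj (E i))] :
    IsIso (Sigma.desc (fun i => (CxOX.RgammaZ j).map (Sigma.ι E i))) := by
  haveI := hasRpush_scheme j
  choose F h g δ hT hA hF using fun i => CxSuppLib.exists_triangle j (E i)
  let G : ι → DCoh.D X := fun i => (DCoh.Rpush j).obj (F i)
  haveI hGco : HasCoproduct G := hasCoproduct_D G
  haveI : HasCoproduct F := hasCoproduct_D F
  let T : ι → Pretriangulated.Triangle (DCoh.D X) := fun i =>
    Pretriangulated.Triangle.mk ((CxOX.RgammaZToId j).app (E i)) (g i) (δ i)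
  haveI : HasCoproduct fun i => (T i).obj₁ := inferInstanceAs (HasCoproduct fun i => (CxOX.RgammaZ j).obj (E i))
  haveI : HasCoproduct fun i => (T i).obj₂ := inferInstanceAs (HasCoproduct E)
  haveI : HasCoproduct fun i => (T i).obj₃ := hGco
  have hsum := Groth.Agent.S6593.result T hT
  have hFq : ∀ i, DCoh.IsQCohD (F i) := fun i =>
    isQCohD_of_iso (hF i).some.symm (isQCohD_restrictD j (hE i))
  haveI : QuasiSeparated j := inferInstance
  haveI := isIso_sigmaDesc_rpush j F hFq
  have horth : CxSuppLib.IsOrth j (∐ G) :=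
    (CxSuppLib.isOrth_rpush j (∐ F)).of_iso j (asIso (Sigma.desc fun i => (DCoh.Rpush j).map (Sigma.ι F i))).symm
  let a : (∐ fun i => (CxOX.RgammaZ j).obj (E i)) ⟶ ∐ E :=
    Limits.Sigma.map fun i => (CxOX.RgammaZToId j).app (E i)
  haveI : (DCoh.restrictD j).IsLeftAdjoint := ⟨_, ⟨(nonempty_rho_adj j).some⟩⟩
  have hz : IsZero ((DCoh.restrictD j).obj (∐ fun i => (CxOX.RgammaZ j).obj (E i))) := by
    haveI : HasCoproduct fun i => (DCoh.restrictD j).obj ((CxOX.RgammaZ j).obj (E i)) := hasCoproduct_D _
    refine IsZero.of_iso ?_ (PreservesCoproduct.iso (DCoh.restrictD j) _)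
    rw [IsZero.iff_id_eq_zero]
    exact Sigma.hom_ext _ _ fun i => (CxSuppLib.isZero_restrictD_RgammaZ j (E i)).eq_of_src _ _
  refine CxSuppLib.isIso_of_bijective j a ((CxOX.RgammaZToId j).app (∐ E)) hz
    (CxSuppLib.isZero_restrictD_RgammaZ j _) (fun C hC => CxSuppLib.bijective_of_triangle j _ hsum horth hC)
    (fun C hC => CxSuppLib.bijective_toId j hC _) _ ?_
  refine Sigma.hom_ext _ _ fun i => ?_
  simp only [a, Sigma.ι_desc_assoc, Sigma.ι_map]
  exact (CxOX.RgammaZToId j).naturality (Sigma.ι E i)
end Groth.Agent.S7280
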