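import Groth.Statements.S7285
import Groth.Agent.ProEtLib.LanSheaf
-- import your own Groth.Agent.* helpers here

set_option autoImplicit false
open CategoryTheory CategoryTheory.Limits AlgebraicGeometry Opposite
universe u
open ProEtS

namespace Groth.Agent.S7285

/-- Let f be a morphism of schemes from X to Y and F a sheaf of sets on the small pro-etale site of Y.
For an affine weakly contractible object W of the small pro-etale site of X, the value at W of the
pullback of F along f is the colimit of the values F(V) over morphisms from W to the base change of
V, V ranging over the pro-etale site of Y; equivalently, the left Kan extension presheaf of F along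
base change has the same sections over W as its sheafification. (Continuity of base change between
the small pro-etale sites is carried as a binder.) -/
theorem result {X Y : Scheme.{u}} (f : X ⟶ Y) [ProEtS.PCont f]
    (F : Sheaf (Scheme.ProEt.topology Y) (Type (u + 1))) (W : X.ProEt) [IsAffine W.left]
    (hW : ProEtS.IsWC W) :
    Function.Bijective
      ((toSheafify (Scheme.ProEt.topology X) ((ProEtS.bcP f).op.lan.obj F.obj)).app (op W)) :=   Groth.Agent.ProEtLib.bijective_toSheafify_app _ W
    (Groth.Agent.ProEtLib.criterion_of_wContractible (Groth.Agent.ProEtLib.wContractible_of_isWC hW))
    fun O hd hc t => Groth.Agent.ProEtLib.existsUnique_lan_of_disjoint f F W O hd hc t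

end Groth.Agent.S7285
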