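import Groth.Statements.S7287
import Groth.Agent.FibDim.Minimal
-- import your own Groth.Agent.* helpers here

set_option autoImplicit false
open CategoryTheory CategoryTheory.Limits AlgebraicGeometry Opposite
universe u
open RelCyc

namespace Groth.Agent.S7287

/-- Let f from X to S be locally of finite type, r a natural number and g from S' to S a surjective
morphism. Let S'' be the fibre product of S' with itself over S (projections p, q), X' the base
change of X along g (structure map f', projection g' to X), and X'' the base change of X along S''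
with structure map f'' and the two projections p', q' to X' lying over p and q and compatible with
the projections to X. Let x be a point of X whose residue field has transcendence degree r over that
of f(x). If x1 and x2 are points of X' mapping to x whose residue fields have transcendence degree r
over those of their images in S', then there is a point of X'' whose residue field has transcendence
degree r over that of its image in S'' and whose two projections are x1 and x2. -/
theorem result {X S S' S'' X' X'' : Scheme.{u}}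
    (f : X ⟶ S) [LocallyOfFiniteType f] (r : ℕ) (g : S' ⟶ S) [Surjective g]
    (p q : S'' ⟶ S') (hS : IsPullback p q g g)
    (f' : X' ⟶ S') (g' : X' ⟶ X) (hX : IsPullback g' f' f g)
    (f'' : X'' ⟶ S'') (p' q' : X'' ⟶ X') (hp : IsPullback p' f'' f' p) (hq : IsPullback q' f'' f' q)
    (hpq : p' ≫ g' = q' ≫ g')
    (x : ↥X) (hx : Dual3.resTrdeg f x = r)
    (x₁ x₂ : ↥X') (h₁ : g'.base x₁ = x) (h₂ : g'.base x₂ = x)
    (hx₁ : Dual3.resTrdeg f' x₁ = r) (hx₂ : Dual3.resTrdeg f' x₂ = r) :
    ∃ x'' : ↥X'', Dual3.resTrdeg f'' x'' = r ∧ p'.base x'' = x₁ ∧ q'.base x'' = x₂ := by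
  classical
  haveI : LocallyOfFiniteType f' := MorphismProperty.of_isPullback hX ‹_›
  haveI : LocallyOfFiniteType f'' := MorphismProperty.of_isPullback hp ‹_›
  have hrd : ∀ {A B : Scheme.{u}} (h : A ⟶ B) [LocallyOfFiniteType h] (a : A),
      (Groth.Agent.FibDim.rd h a : Cardinal) = Dual3.resTrdeg h a :=
    fun h _ a => Groth.Agent.FibDim.rd_eq_rdeg h a
  have hr₁ : Groth.Agent.FibDim.rd f' x₁ = r := by exact_mod_cast (hrd f' x₁).trans hx₁
  have hr₂ : Groth.Agent.FibDim.rd f' x₂ = r := by exact_mod_cast (hrd f' x₂).trans hx₂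
  have hr : Groth.Agent.FibDim.rd f x = r := by exact_mod_cast (hrd f x).trans hx
  -- a point over the pair
  let σ : pullback g' g' ⟶ S'' := hS.lift (pullback.fst g' g' ≫ f') (pullback.snd g' g' ≫ f') (by
    rw [Category.assoc, Category.assoc, ← hX.w, ← Category.assoc, ← Category.assoc, pullback.condition])
  let m : pullback g' g' ⟶ X'' := hp.lift (pullback.fst g' g') σ (hS.lift_fst _ _ _).symm
  have hm₁ : m ≫ p' = pullback.fst g' g' := hp.lift_fst _ _ _
  have hm₂ : m ≫ q' = pullback.snd g' g' := hX.hom_ext
    (by rw [Category.assoc, ← hpq, ← Category.assoc, hm₁, pullback.condition])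
    (by
      rw [Category.assoc, hq.w, ← Category.assoc, hp.lift_snd]
      exact hS.lift_snd _ _ _)
  obtain ⟨w₀, hw₁, hw₂⟩ := Scheme.Pullback.exists_preimage_pullback x₁ x₂ (h₁.trans h₂.symm)
  have hz₁ : p'.base (m.base w₀) = x₁ := by
    rw [← hw₁, ← hm₁]; rfl
  have hz₂ : q'.base (m.base w₀) = x₂ := by
    rw [← hw₂, ← hm₂]; rfl
  -- among the points over the pair and over the same point of the base, one of largest degree
  let P : ℕ → Prop := fun n => ∃ z : ↥X'', p'.base z = x₁ ∧ q'.base z = x₂ ∧
    f''.base z = f''.base (m.base w₀) ∧ Groth.Agent.FibDim.rd f'' z = n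
  have hPle : ∀ z : ↥X'', p'.base z = x₁ → Groth.Agent.FibDim.rd f'' z ≤ r := fun z hz => by
    rw [← hr₁, ← hz]
    exact Groth.Agent.FibDim.rd_baseChange_le hp z
  have hP0 : P (Groth.Agent.FibDim.rd f'' (m.base w₀)) := ⟨_, hz₁, hz₂, rfl, rfl⟩
  obtain ⟨z, hzp, hzq, hzf, hzrd⟩ := Nat.findGreatest_spec (P := P) (hPle _ hz₁) hP0
  refine ⟨z, ?_, hzp, hzq⟩
  suffices h : Groth.Agent.FibDim.rd f'' z = r by rw [← hrd, h]
  rw [Groth.Agent.FibDim.rd_baseChange_eq_of_minimal hp z fun w hw hwp hwf => ?_]
  · exact (congrArg _ hzp).trans hr₁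
  by_contra hne
  have hqw : q'.base w = x₂ := by
    by_contra hne2
    have hs : q'.base w ⤳ x₂ := hzq ▸ hw.map q'.continuous
    have he : f'.base (q'.base w) = f'.base x₂ := by
      rw [← hzq]
      show (q' ≫ f').base w = (q' ≫ f').base z
      rw [hq.w]
      exact congrArg q.base hwf
    have hlt := Groth.Agent.FibDim.rd_lt f' hs hne2 he
    have hle := Groth.Agent.FibDim.rd_baseChange_le hX (q'.base w)
    have hgx : g'.base (q'.base w) = x := by
      show (q' ≫ g').base w = x
      rw [← hpq, ← h₁, ← hzp]
      exact congrArg g'.base hwp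
    rw [hr₂] at hlt
    rw [hgx, hr] at hle
    omega
  have hwr := hPle w (hwp.trans hzp)
  have hlt := Groth.Agent.FibDim.rd_lt f'' hw hne hwf
  have hmax := Nat.le_findGreatest (P := P) hwr ⟨w, hwp.trans hzp, hqw, hwf.trans hzf, rfl⟩
  omega
end Groth.Agent.S7287
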