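import Groth.Statements.S7288
import Groth.Agent.EtModWLib.EpsMod

set_option autoImplicit false
open CategoryTheory CategoryTheory.Limits AlgebraicGeometry Opposite
universe u
open EtModW

namespace Groth.Agent.S7288

/-- Let X be a scheme and Λ a ring. The essential image of the pullback functor from sheaves of
Λ-modules on the small etale site of X to sheaves of Λ-modules on the small pro-etale site is a weak
Serre subcategory: the kernel and the cokernel of a morphism between objects of the essential image
lie in it, and an extension of two objects of the essential image lies in it. (Continuity of the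
inclusion of the etale site into the pro-etale site is carried as a binder.) -/
theorem result (Λ : Type (u + 1)) [CommRing Λ] (X : Scheme.{u})
    [ProEtS.EpsCont X] :
    (∀ (F G : EtModW.ModP Λ X) (φ : F ⟶ G), (EtModW.epsPullMod Λ X).essImage F →
      (EtModW.epsPullMod Λ X).essImage G →
        (EtModW.epsPullMod Λ X).essImage (kernel φ) ∧ (EtModW.epsPullMod Λ X).essImage (cokernel φ)) ∧
    ∀ (T : ShortComplex (EtModW.ModP Λ X)), T.ShortExact →
      (EtModW.epsPullMod Λ X).essImage T.X₁ → (EtModW.epsPullMod Λ X).essImage T.X₃ →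
        (EtModW.epsPullMod Λ X).essImage T.X₂ := by
  refine ⟨fun F G φ ⟨E, ⟨e⟩⟩ ⟨E', ⟨e'⟩⟩ => ?_, fun T hT h1 h3 =>
    EtModWLib.essImage_epsPullMod_extension hT h1 h3⟩
  obtain ⟨g, hg⟩ := (EtModW.epsPullMod Λ X).map_surjective (e.hom ≫ φ ≫ e'.inv)
  have w : (EtModW.epsPullMod Λ X).map g ≫ e'.hom = e.hom ≫ φ := by
    rw [hg, Category.assoc, Category.assoc, Iso.inv_hom_id, Category.comp_id]
  exact ⟨⟨kernel g, ⟨PreservesKernel.iso (EtModW.epsPullMod Λ X) g ≪≫ kernel.mapIso _ φ e e' w⟩⟩,
    ⟨cokernel g, ⟨PreservesCokernel.iso (EtModW.epsPullMod Λ X) g ≪≫ cokernel.mapIso _ φ e e' w⟩⟩⟩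

end Groth.Agent.S7288
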