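import Groth.Statements.S7292
import Groth.Agent.HTopCov.FPSys
import Groth.Agent.HTopCov.LimV
import Groth.Agent.HTopCov.ValPh

set_option autoImplicit false
set_option backward.isDefEq.respectTransparency false
set_option backward.isDefEq.respectTransparency.types false
open CategoryTheory CategoryTheory.Limits AlgebraicGeometry Opposite
universe w u
open HTop

namespace Groth.Agent.S7292

/-- Let f be a morphism of affine schemes from X to Y. The following are equivalent: (1) the one-member
family given by f is a standard V covering; (2) X (with f) is the limit, as a scheme over Y, of a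
cofiltered system of affine schemes X_i over Y such that each one-member family X_i over Y is a ph
covering; (3) the same with each X_i over Y an h covering. -/
theorem result {X Y : Scheme.{u}} [IsAffine X] [IsAffine Y] (f : X ⟶ Y) :
    List.TFAE
      [HTop.IsStandardV (PreZeroHypercover.singleton.{w} f),
       ∃ (I : Type u) (_ : SmallCategory I) (_ : IsCofiltered I) (D : I ⥤ Over Y) (c : Cone D)
          (_ : IsLimit ((Over.forget Y).mapCone c)) (_ : c.pt ≅ Over.mk f),
          (∀ i, IsAffine (D.obj i).left) ∧ ∀ i, HTop.IsPhCover (PreZeroHypercover.singleton.{w} (D.obj i).hom),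
       ∃ (I : Type u) (_ : SmallCategory I) (_ : IsCofiltered I) (D : I ⥤ Over Y) (c : Cone D)
          (_ : IsLimit ((Over.forget Y).mapCone c)) (_ : c.pt ≅ Over.mk f),
          (∀ i, IsAffine (D.obj i).left) ∧ ∀ i, HTop.IsHCover (PreZeroHypercover.singleton.{w} (D.obj i).hom)] := by
  classical
  have key : ∀ (A B : Over Y), (A ≅ B) → IsAffine B.left → HTop.IsStandardV (PreZeroHypercover.singleton.{w} A.hom) →
      HTop.IsStandardV (PreZeroHypercover.singleton.{w} B.hom) := fun A B e hB h =>
    ⟨inferInstance, inferInstanceAs (Finite PUnit), fun _ => hB, fun V _ _ g => by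
      obtain ⟨W, hW, hW', φ, hφ, j, l, hl⟩ := h.lift V g
      refine ⟨W, hW, hW', φ, hφ, PUnit.unit, (show Spec W ⟶ A.left from l) ≫ e.hom.left, ?_⟩
      change (_ ≫ e.hom.left) ≫ B.hom = _
      rw [Category.assoc, Over.w]
      exact hl⟩
  tfae_have 1 → 3 := by
    intro h
    obtain ⟨I, hI, hI', D, c, hc, e, haff, hfp⟩ := Groth.Agent.HTopCov.exists_fp_system f
    haveI := haff
    haveI : ∀ i, IsAffine ((D ⋙ Over.forget Y).obj i) := haff
    haveI : IsAffine c.pt.left := Scheme.isAffine_of_isLimit _ hc
    refine ⟨I, hI, hI', D, c, hc, e, haff, fun i => ⟨fun _ => hfp i, ?_⟩⟩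
    have hi := (Groth.Agent.HTopCov.isStandardV_singleton_isLimit_iff D c hc).1
      (key (Over.mk f) c.pt e.symm inferInstance h) i
    haveI := haff i
    exact Groth.Agent.HTopCov.isVCover_of_hasValLift _ hi.lift
  tfae_have 3 → 2 := by
    rintro ⟨I, hI, hI', D, c, hc, e, haff, h⟩
    exact ⟨I, hI, hI', D, c, hc, e, haff, fun i => Groth.Agent.HTopCov.isPhCover_of_isVCover _ (h i).1 (h i).2⟩
  tfae_have 2 → 1 := by
    rintro ⟨I, hI, hI', D, c, hc, e, haff, h⟩
    haveI := haff
    haveI : ∀ i, IsAffine ((D ⋙ Over.forget Y).obj i) := haff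
    haveI : IsAffine c.pt.left := Scheme.isAffine_of_isLimit _ hc
    exact key c.pt (Over.mk f) e (inferInstanceAs (IsAffine X))
      ((Groth.Agent.HTopCov.isStandardV_singleton_isLimit_iff D c hc).2 fun i =>
        ⟨inferInstance, inferInstanceAs (Finite PUnit), fun _ => haff i,
          Groth.Agent.HTopCov.hasValLift_of_isVCover (Groth.Agent.HTopCov.isVCover_of_isPhCover _ (h i))⟩)
  tfae_finish

end Groth.Agent.S7292
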