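import Groth.Statements.S7300
import Groth.Agent.TorBound.Bound

set_option autoImplicit false
set_option backward.isDefEq.respectTransparency false
set_option backward.isDefEq.respectTransparency.types false
set_option maxHeartbeats 400000
universe u
open CategoryTheory CategoryTheory.Limits AlgebraicGeometry
open Resolve
open Groth.Agent

namespace Groth.Agent.S7300

/-- Let (A, m) be a local normal Nagata domain of dimension two and a ∈ A nonzero. There is an integer N
such that for every proper morphism X → Spec A from an integral normal scheme which is an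
isomorphism over some nonempty open (a normal modification), the A-module of a-torsion elements of
H^1(X, O_X) has length at most N. (The published statement bounds the length of the cokernel of A →
H^0(Z, O_Z), where Z ⊂ X is the closed subscheme cut out by a; this row bounds the a-torsion of
H^1(X, O_X), which is the same module by the exact sequence 0 → O_X → O_X → O_Z → 0 given by
multiplication by a and H^0(X, O_X) = A.) -/
theorem result (A : Type u) [CommRing A] [IsDomain A] [IsLocalRing A] [IsNoetherianRing A]
    [IsIntegrallyClosed A] (hN : CAlg.IsNagata A) (hdim : ringKrullDim A = 2) (a : A) (ha : a ≠ 0) :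
    ∃ N : ℕ, ∀ (X : Scheme.{u}) [X.Over (Spec (CommRingCat.of A))], IsProper (X ↘ Spec (CommRingCat.of A)) →
      IsIntegral X → Pi1.IsNormalScheme X →
      (∃ U : (Spec (CommRingCat.of A)).Opens, (U : Set (Spec (CommRingCat.of A))).Nonempty ∧ IsIso ((X ↘ Spec (CommRingCat.of A)) ∣_ U)) →
      Module.length A ↥(Submodule.torsionBy A (Coh.HH X (Coh.structureModule X) 1) a) ≤ (N : ℕ∞) := by
  by_cases hu : IsUnit a
  · refine ⟨0, fun X _ _ _ _ _ => le_of_eq ?_⟩
    rw [Nat.cast_zero, Module.length_eq_zero_iff]
    refine subsingleton_of_forall_eq 0 fun z => Subtype.ext ?_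
    obtain ⟨v, rfl⟩ := hu
    have h : (v : A) • z.1 = 0 := z.2
    show z.1 = 0
    rw [← one_smul A z.1, ← v.inv_mul, mul_smul, h, smul_zero]
  have hheight : (IsLocalRing.maximalIdeal (CommRingCat.of A : CommRingCat.{u})).height = 2 := by
    have h := IsLocalRing.maximalIdeal_height_eq_ringKrullDim (R := A)
    rw [hdim] at h
    exact WithBot.coe_eq_coe.1 h
  obtain ⟨n, hn⟩ := TorBound.exists_bound (R := CommRingCat.of A) (a := a) hN hheight ha
    ((IsLocalRing.mem_maximalIdeal a).2 hu)
  refine ⟨n, fun X _ hP hI hNn hU => ?_⟩
  haveI := hI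
  haveI := hP
  obtain ⟨hgen, hbir⟩ := RatSing.birational_of_isIso (X ↘ Spec (CommRingCat.of A)) hU
  let N : NormSeq.Model (Spec (CommRingCat.of A)) :=
    { Z := X, G := X ↘ Spec (CommRingCat.of A), gen := hgen, bir := hbir }
  haveI : IsProper N.G := hP
  exact hn N hNn hU

end Groth.Agent.S7300
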