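import Groth.Statements.S7303
import Mathlib
import Groth.Agent.FibrePP.Main
import Groth.Agent.OmegaLib.IdealMod
import Groth.Agent.S8914
import Groth.Agent.InvX.Pullback

set_option autoImplicit false
set_option linter.style.haveILetI false
set_option backward.isDefEq.respectTransparency false
set_option backward.isDefEq.respectTransparency.types false
universe u
open CategoryTheory CategoryTheory.Limits AlgebraicGeometry
open Resolve

namespace Groth.Agent.S7303

/-- A frame of an ideal module generates the ideal and is a nonzerodivisor. -/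
theorem frame_spec {X : Scheme.{u}} {I : X.IdealSheafData} {V : X.affineOpens} {e : Γ(ClSub.idealMod I, V.1)}
    (he : InvX.IsFrame e) :
    OmegaSh.idealSect I V.1 e ∈ nonZeroDivisors Γ(X, V.1) ∧ I.ideal V = Ideal.span {OmegaSh.idealSect I V.1 e} := by
  refine ⟨?_, le_antisymm (fun g hg => ?_) ?_⟩
  · rw [mem_nonZeroDivisors_iff_right]
    intro r hr
    rw [← OmegaLib.idealSect_smul] at hr
    have h0 : r • e = 0 := OmegaLib.idealSect_injective I V.1 (hr.trans (map_zero _).symm)
    have := (he V.1 le_rfl).1 (a₁ := r) (a₂ := 0)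
    simp only [AModX.res_self, zero_smul] at this
    exact this h0
  · obtain ⟨c, hc⟩ := OmegaLib.exists_of_mem I V g hg
    obtain ⟨r, hr⟩ := he.exists_coord le_rfl c
    rw [AModX.res_self] at hr
    rw [← hc, hr, OmegaLib.idealSect_smul]
    exact Ideal.mul_mem_left _ r (Ideal.mem_span_singleton_self _)
  · rw [Ideal.span_singleton_le_iff_mem]
    exact OmegaLib.idealSect_mem I V e

/-- Let (A, m) be a local Noetherian normal domain of dimension two, f : X → Spec A a proper morphism
from an integral normal scheme which is an isomorphism over some nonempty open, and Z ⊂ X a nonempty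
effective Cartier divisor, with ideal sheaf I, whose support lies in the closed fibre of f. Then the
conormal sheaf of Z in X, namely the pullback of I to Z, is not isomorphic to O_Z. (The published
statement adds that the restriction of the conormal sheaf to some irreducible component of the
closed fibre contained in Z has positive degree; this row states only that the conormal sheaf is not
trivial.) -/
theorem result (A : Type u) [CommRing A] [IsDomain A] [IsLocalRing A] [IsNoetherianRing A]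
    [IsIntegrallyClosed A] (hdim : ringKrullDim A = 2)
    (X : Scheme.{u}) (f : X ⟶ Spec (CommRingCat.of A)) [IsProper f] [IsIntegral X]
    (hbir : ∃ U : (Spec (CommRingCat.of A)).Opens, (U : Set (Spec (CommRingCat.of A))).Nonempty ∧ IsIso (f ∣_ U)) (hXn : Pi1.IsNormalScheme X)
    (I : X.IdealSheafData) (hI : BlowUp.IsEffCartierIdeal I) (hne : (I.support : Set X).Nonempty)
    (hZ : (I.support : Set X) ⊆ f.base ⁻¹' {IsLocalRing.closedPoint A}) :
    IsEmpty ((Scheme.Modules.pullback I.subschemeι).obj (ClSub.idealMod I) ≅ Coh.structureModule I.subscheme) := by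
  haveI : IsLocallyNoetherian X := LocallyOfFiniteType.isLocallyNoetherian f
  refine ⟨fun ε => ?_⟩
  let i := I.subschemeι
  let M := ClSub.idealMod I
  let θ : M ⟶ ClSub.quotMod I := (Scheme.Modules.pullbackPushforwardAdjunction i).homEquiv _ _ ε.hom
  have hθ : ∀ (W : X.Opens) (y : Γ(M, W)), θ.app W y = ε.hom.app (i ⁻¹ᵁ W) (InvX.pullElt i y) := fun W y => rfl
  have hinv : PicF.IsInvertible M := (S8914.result I).2 hI
  have hdata : ∀ x : X, ∃ (W : X.Opens) (e : Γ(M, W)), x ∈ W ∧ InvX.IsFrame e ∧ (x ∈ I.support →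
      (show Γ(I.subscheme, i ⁻¹ᵁ W) from θ.app W e) = 1) := by
    intro x
    obtain ⟨U₀, hx₀, e₀, he₀⟩ := InvX.exists_frame hinv x
    obtain ⟨V, hV, hxV, hVU⟩ := exists_isAffineOpen_mem_and_subset hx₀
    let e := AModX.res M (show V ≤ U₀ from hVU) e₀
    have he : InvX.IsFrame e := he₀.res _
    by_cases hx : x ∈ I.support
    swap
    · exact ⟨V, e, hxV, he, fun h => absurd h hx⟩
    let c : Γ(I.subscheme, i ⁻¹ᵁ V) := θ.app V e
    have hc : IsUnit c := by
      have hp := InvX.isFrame_pullElt i he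
      obtain ⟨r, hr⟩ := hp.exists_coord le_rfl (ε.inv.app (i ⁻¹ᵁ V) (1 : Γ(I.subscheme, i ⁻¹ᵁ V)))
      rw [AModX.res_self] at hr
      have h1 := congrArg (ε.hom.app (i ⁻¹ᵁ V)) hr
      rw [Scheme.Modules.Hom.app_smul] at h1
      have h2 : ε.hom.app (i ⁻¹ᵁ V) (ε.inv.app (i ⁻¹ᵁ V) (1 : Γ(I.subscheme, i ⁻¹ᵁ V))) =
          (1 : Γ(I.subscheme, i ⁻¹ᵁ V)) := by
        exact ConcreteCategory.congr_hom
          (congrArg (fun ψ => Scheme.Modules.Hom.app ψ (i ⁻¹ᵁ V)) ε.inv_hom_id) _
      rw [h2] at h1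
      exact IsUnit.of_mul_eq_one r ((mul_comm _ _).trans h1.symm)
    obtain ⟨d, hd⟩ := I.subschemeι_app_surjective ⟨V, hV⟩ ((hc.unit⁻¹ : Units _) : Γ(I.subscheme, i ⁻¹ᵁ V))
    have hle : X.basicOpen d ≤ V := X.basicOpen_le d
    refine ⟨X.basicOpen d, AModX.resR hle d • AModX.res M hle e, ?_, (he.res hle).isUnit_smul ?_, fun _ => ?_⟩
    · obtain ⟨z, hz⟩ : x ∈ Set.range i := by rw [I.range_subschemeι]; exact hx
      have hzV : z ∈ i ⁻¹ᵁ V := show i z ∈ V from hz ▸ hxV
      have h1 : z ∈ I.subscheme.basicOpen ((i.app V).hom d) := by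
        rw [show (i.app V).hom d = ((hc.unit⁻¹ : Units _) : Γ(I.subscheme, i ⁻¹ᵁ V)) from hd,
          Scheme.basicOpen_of_isUnit _ (Units.isUnit _)]
        exact hzV
      rw [← Scheme.preimage_basicOpen] at h1
      rw [← hz]
      exact h1
    · exact RingedSpace.isUnit_res_basicOpen _ d
    · rw [← AModX.res_smul, AModX.app_res, Scheme.Modules.Hom.app_smul]
      have h1 : (show Γ(I.subscheme, i ⁻¹ᵁ V) from d • θ.app V e) = 1 :=
        (congrArg (fun t => t * c) hd).trans (hc.val_inv_mul)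
      exact (congrArg (fun t : Γ(I.subscheme, i ⁻¹ᵁ V) => (I.subscheme.presheaf.map
        (homOfLE (i.preimage_mono hle)).op).hom t) h1).trans (map_one _)
  choose W e hxW hfr hθ1 using hdata
  have hne' : ∀ x : X, Nonempty (W x) := fun x => ⟨⟨x, hxW x⟩⟩
  let zz : ∀ x : X, Γ(X, W x) := fun x => OmegaSh.idealSect I (W x) (e x)
  have hloc : ∀ (x : X) (ξ : X) (hξ : ξ ∈ W x),
      (ξ ∈ I.support ↔ X.presheaf.germ (W x) ξ hξ (zz x) ∈ IsLocalRing.maximalIdeal (X.presheaf.stalk ξ)) ∧
      X.presheaf.germ (W x) ξ hξ (zz x) ≠ 0 := by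
    intro x ξ hξ
    obtain ⟨V, hV, hξV, hVW⟩ := exists_isAffineOpen_mem_and_subset hξ
    have hV' := (hfr x).res (show V ≤ W x from hVW)
    obtain ⟨h1, h2⟩ := frame_spec (V := ⟨V, hV⟩) hV'
    have h3 : OmegaSh.idealSect I V (AModX.res M (show V ≤ W x from hVW) (e x)) =
        AModX.resR (show V ≤ W x from hVW) (zz x) := by
      have h4 := AModX.app_res (ClSub.idealModι I) (show V ≤ W x from hVW) (e x)
      exact h4
    rw [h3] at h1 h2
    have h5 : X.presheaf.germ V ξ hξV (AModX.resR (show V ≤ W x from hVW) (zz x)) =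
        X.presheaf.germ (W x) ξ hξ (zz x) := X.presheaf.germ_res_apply _ _ _ _
    refine ⟨?_, ?_⟩
    · rw [Scheme.IdealSheafData.mem_support_iff_of_mem (U := ⟨V, hV⟩) hξV, h2, X.zeroLocus_span,
        Scheme.mem_zeroLocus_iff, IsLocalRing.mem_maximalIdeal]
      simp only [Set.mem_singleton_iff, forall_eq]
      rw [Scheme.mem_basicOpen _ _ _ hξV, h5]
      rfl
    · rw [← h5, map_ne_zero_iff _ (germ_injective_of_isIntegral X ξ hξV)]
      haveI : Nonempty V := ⟨⟨ξ, hξV⟩⟩
      exact nonZeroDivisors.ne_zero h1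
  let g : ∀ x : X, X.functionField := fun x =>
    algebraMap (X.presheaf.stalk x) X.functionField (X.presheaf.germ (W x) x (hxW x) (zz x))
  have hg : ∀ (x ξ : X) (h : ξ ⤳ x) (hξ : ξ ∈ W x),
      g x = algebraMap (X.presheaf.stalk ξ) X.functionField (X.presheaf.germ (W x) ξ hξ (zz x)) := by
    intro x ξ h hξ
    show algebraMap (X.presheaf.stalk x) _ _ = _
    rw [← FibrePP.algebraMap_specializes h]
    exact congrArg _ (X.presheaf.germ_stalkSpecializes_apply (hxW x) h (zz x))
  classical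
  let φ : X → X.functionField := fun x => if x ∈ I.support then (g x)⁻¹ else 0
  have hpos : ∀ x ξ : X, ξ ⤳ x → ξ ∈ I.support → x ∈ I.support := fun x ξ h hξ =>
    h.mem_closed I.support.isClosed hξ
  have hφ : ∀ ξ x : X, ξ ⤳ x → φ ξ - φ x ∈ FibrePP.O ξ := by
    intro ξ x h
    by_cases hx : x ∈ I.support
    swap
    · have hξ : ξ ∉ I.support := fun hξ => hx (hpos x ξ h hξ)
      simp only [φ, hx, hξ, if_false, sub_zero]
      exact zero_mem _
    have hξW : ξ ∈ W x := h.mem_open (W x).2 (hxW x)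
    by_cases hξ : ξ ∈ I.support
    swap
    · simp only [φ, hξ, if_false, hx, if_true, zero_sub]
      refine neg_mem ?_
      rw [hg x ξ h hξW]
      obtain ⟨w, hw⟩ := IsLocalRing.notMem_maximalIdeal.1 (fun hm => hξ (((hloc x ξ hξW).1).2 hm))
      refine ⟨((w⁻¹ : Units _) : X.presheaf.stalk ξ), eq_inv_of_mul_eq_one_left ?_⟩
      rw [← hw, ← map_mul, Units.inv_mul, map_one]
    simp only [φ, hξ, if_true, hx]
    obtain ⟨V, hV, hξV, hVW⟩ := exists_isAffineOpen_mem_and_subset
      (show ξ ∈ W ξ ⊓ W x from ⟨hxW ξ, hξW⟩)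
    have hV1 : V ≤ W ξ := fun y hy => (hVW hy).1
    have hV2 : V ≤ W x := fun y hy => (hVW hy).2
    obtain ⟨b, hb⟩ := (hfr ξ).exists_coord hV1 (AModX.res M hV2 (e x))
    have h1 : (i.app V).hom b = 1 := by
      have h2 := congrArg (θ.app V) hb
      rw [Scheme.Modules.Hom.app_smul, AModX.app_res, AModX.app_res] at h2
      have h3 := congrArg (fun t : Γ(I.subscheme, i ⁻¹ᵁ W ξ) => (I.subscheme.presheaf.map
        (homOfLE (i.preimage_mono hV1)).op).hom t) (hθ1 ξ hξ)
      have h4 := congrArg (fun t : Γ(I.subscheme, i ⁻¹ᵁ W x) => (I.subscheme.presheaf.map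
        (homOfLE (i.preimage_mono hV2)).op).hom t) (hθ1 x hx)
      have h5 : (1 : Γ(I.subscheme, i ⁻¹ᵁ V)) = (i.app V).hom b * 1 :=
        ((h4.trans (map_one _)).symm.trans h2).trans (congrArg (fun t => (i.app V).hom b * t) (h3.trans (map_one _)))
      rw [mul_one] at h5
      exact h5.symm
    obtain ⟨-, hspan⟩ := frame_spec (V := ⟨V, hV⟩) ((hfr ξ).res hV1)
    have hmem : b - 1 ∈ I.ideal ⟨V, hV⟩ := by
      rw [← I.ker_subschemeι_app, RingHom.mem_ker, map_sub, map_one]
      exact sub_eq_zero.2 h1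
    rw [hspan, Ideal.mem_span_singleton'] at hmem
    obtain ⟨q, hq⟩ := hmem
    have hzξ : OmegaSh.idealSect I V (AModX.res M hV1 (e ξ)) = AModX.resR hV1 (zz ξ) :=
      AModX.app_res (ClSub.idealModι I) hV1 (e ξ)
    have hzx : AModX.resR hV2 (zz x) = b * AModX.resR hV1 (zz ξ) := by
      refine ((AModX.app_res (ClSub.idealModι I) hV2 (e x)).symm.trans
        (congrArg (OmegaSh.idealSect I V) hb)).trans ?_
      rw [OmegaLib.idealSect_smul, hzξ]
    rw [hzξ] at hq
    let ev : Γ(X, V) →+* X.presheaf.stalk ξ := (X.presheaf.germ V ξ hξV).hom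
    have hevξ : ev (AModX.resR hV1 (zz ξ)) = X.presheaf.germ (W ξ) ξ (hxW ξ) (zz ξ) :=
      X.presheaf.germ_res_apply _ _ _ _
    have hevx : ev (AModX.resR hV2 (zz x)) = X.presheaf.germ (W x) ξ hξW (zz x) :=
      X.presheaf.germ_res_apply _ _ _ _
    have hbu : IsUnit (ev b) := by
      by_contra hu
      have h6 := congrArg ev hq
      rw [map_mul, map_sub, map_one, hevξ] at h6
      have h7 : (1 : X.presheaf.stalk ξ) ∈ IsLocalRing.maximalIdeal (X.presheaf.stalk ξ) := by
        have := Ideal.sub_mem _ ((IsLocalRing.mem_maximalIdeal _).2 hu)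
          (Ideal.mul_mem_left _ (ev q) ((hloc ξ ξ (hxW ξ)).1.1 hξ))
        rwa [h6, sub_sub_cancel] at this
      exact (IsLocalRing.maximalIdeal.isMaximal _).ne_top ((Ideal.eq_top_iff_one _).2 h7)
    obtain ⟨w, hw⟩ := hbu
    have hK : g x = algebraMap _ X.functionField (ev b) * g ξ := by
      rw [hg x ξ h hξW, ← hevx, hzx, map_mul, map_mul, hevξ]
    have hK0 : g ξ ≠ 0 := (map_ne_zero_iff _ (FibrePP.algebraMap_injective ξ)).2 (hloc ξ ξ (hxW ξ)).2
    have hb0 : algebraMap _ X.functionField (ev b) ≠ 0 := by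
      rw [← hw]; exact (map_ne_zero_iff _ (FibrePP.algebraMap_injective ξ)).2 w.ne_zero
    refine ⟨((w⁻¹ : Units _) : X.presheaf.stalk ξ) * ev q, ?_⟩
    have h8 := congrArg (fun t => algebraMap _ X.functionField (ev t)) hq
    simp only [map_mul, map_sub, map_one, hevξ] at h8
    have h9 : algebraMap _ X.functionField ((w⁻¹ : Units _) : X.presheaf.stalk ξ) =
        (algebraMap _ X.functionField (ev b))⁻¹ := by
      refine eq_inv_of_mul_eq_one_left ?_
      rw [← hw, ← map_mul, Units.inv_mul, map_one]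
    rw [map_mul, hK, h9]
    have h10 : algebraMap _ X.functionField (ev q) * g ξ = algebraMap _ X.functionField (ev b) - 1 := h8
    field_simp
    linear_combination h10
  obtain ⟨x, hx⟩ := hne
  have hfin := FibrePP.mem_O_of_fibre hdim f hbir hXn φ hφ (fun y hy => by
    have : y ∉ I.support := fun h => hy (hZ h)
    simp [φ, this, zero_mem]) x
  simp only [φ, show x ∈ I.support from hx, if_true] at hfin
  obtain ⟨r, hr⟩ := hfin
  refine ((hloc x x (hxW x)).1.1 hx) (IsUnit.of_mul_eq_one r (FibrePP.algebraMap_injective x ?_))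
  rw [map_mul, hr, map_one]
  exact mul_inv_cancel₀ ((map_ne_zero_iff _ (FibrePP.algebraMap_injective x)).2 (hloc x x (hxW x)).2)

end Groth.Agent.S7303
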