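import Groth.Statements.S7304
import Mathlib
import Groth.Agent.PointBlow.Basic
import Groth.Agent.RegBlow6.Geometry
import Groth.Agent.CplRegular.Regular

set_option autoImplicit false
universe u
open CategoryTheory CategoryTheory.Limits AlgebraicGeometry
open Resolve

namespace Groth.Agent.S7304

/-- Let (A, m) be a Noetherian local ring with m-adic completion A^, and U ⊂ Spec A, U^ ⊂ Spec A^ the
punctured spectra. If c : Y → Spec A^ is a U^-admissible blowing up (a blowing up in a
quasi-coherent ideal of finite type whose support misses U^), then there is a U-admissible blowing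
up b : X → Spec A such that Y is isomorphic, over Spec A^, to the base change of X to Spec A^. -/
theorem result (A : Type u) [CommRing A] [IsLocalRing A] [IsNoetherianRing A]
    (Y : Scheme.{u}) (c : Y ⟶ Spec (CommRingCat.of (Curv2.cpl A)))
    (J : (Spec (CommRingCat.of (Curv2.cpl A))).IdealSheafData)
    (hJ : BlowUp.IsAdmissibleFor (FEt.puncturedSpec (Curv2.cpl A)) J) (hc : BlowUp.IsBlowUp c J) :
    ∃ (I : (Spec (CommRingCat.of A)).IdealSheafData) (X : Scheme.{u}) (b : X ⟶ Spec (CommRingCat.of A)),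
      BlowUp.IsAdmissibleFor (FEt.puncturedSpec A) I ∧ BlowUp.IsBlowUp b I ∧
      ∃ e : Y ≅ Curv2.bcCpl A b, e.hom ≫ Curv2.bcCplSnd A b = c := by
  classical
  haveI : IsNoetherianRing (CommRingCat.of A) := ‹IsNoetherianRing A›
  let C := Curv2.cpl A
  let ι : A →+* C := algebraMap A C
  let K : Ideal C := Groth.Agent.H23.StalkIdeal.tI J
  have hJeq : J = Groth.Agent.BlowUpLib.centre K := Groth.Agent.PointBlow.eq_centre J
  have hzero : ∀ (R : Type u) [CommRing R] (Q : Ideal R) (P : PrimeSpectrum R), Q ≤ P.asIdeal ↔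
      (P : ↥(Spec (CommRingCat.of R))) ∈ ((Groth.Agent.BlowUpLib.centre Q).support : Set ↥(Spec (CommRingCat.of R))) := by
    intro R _ Q P
    rw [show ((Groth.Agent.BlowUpLib.centre Q).support : Set ↥(Spec (CommRingCat.of R))) = _ from
      Scheme.IdealSheafData.coe_support_ofIdealTop _, Spec_zeroLocus]
    refine Iff.trans ?_ (PrimeSpectrum.mem_zeroLocus P _).symm
    have hbij := ConcreteCategory.bijective_of_isIso (Scheme.ΓSpecIso (CommRingCat.of R)).inv
    constructor
    · intro h a ha
      obtain ⟨c, hc, hca⟩ := (Ideal.mem_map_iff_of_surjective _ hbij.2).1 ha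
      rw [← hbij.1 hca]
      exact h hc
    · intro h a ha
      exact h (show a ∈ _ from Ideal.mem_map_of_mem _ ha)
  have hmC : IsLocalRing.maximalIdeal C = (IsLocalRing.maximalIdeal A).map ι := AdicCompletion.maximalIdeal_eq_map
  have hmfg : (IsLocalRing.maximalIdeal C).FG := hmC ▸ Ideal.FG.map (IsNoetherian.noetherian (IsLocalRing.maximalIdeal A)) ι
  obtain ⟨n, hn⟩ : ∃ n, IsLocalRing.maximalIdeal C ^ n ≤ K := by
    refine Ideal.exists_pow_le_of_le_radical_of_fg (I := IsLocalRing.maximalIdeal C) ?_ hmfg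
    rw [Ideal.radical_eq_sInf]
    refine le_sInf fun P hP => ?_
    have hmem := (hzero C K ⟨P, hP.2⟩).1 hP.1
    rw [← hJeq] at hmem
    by_contra hne
    refine Set.disjoint_left.1 hJ.2 hmem fun h => hne ?_
    exact (congrArg PrimeSpectrum.asIdeal (Set.mem_singleton_iff.1 h)).ge
  let I₀ : Ideal A := K.comap ι
  have hnA : IsLocalRing.maximalIdeal A ^ n ≤ I₀ := Ideal.map_le_iff_le_comap.1 (by
    rw [Ideal.map_pow, ← hmC]; exact hn)
  have hmap : I₀.map ι = K := by
    refine le_antisymm Ideal.map_comap_le fun c hc => ?_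
    obtain ⟨a, ha⟩ := Submodule.Quotient.mk_surjective _ (AdicCompletion.eval (IsLocalRing.maximalIdeal A) A n c)
    have h0 : AdicCompletion.eval (IsLocalRing.maximalIdeal A) A n (c - ι a) = 0 := by
      rw [map_sub, sub_eq_zero, ← ha]
      rfl
    rw [← LinearMap.mem_ker, ← AdicCompletion.pow_smul_top_eq_ker_eval (IsNoetherian.noetherian _),
      Ideal.smul_top_eq_map] at h0
    change c - ι a ∈ ((IsLocalRing.maximalIdeal A) ^ n).map ι at h0
    have haI : a ∈ I₀ := by
      show ι a ∈ K
      have hcK : c - ι a ∈ K := hn (by rw [hmC, ← Ideal.map_pow]; exact h0)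
      exact (Submodule.sub_mem_iff_right K hc).1 hcK
    have : c = (c - ι a) + ι a := by ring
    rw [this]
    exact add_mem (Ideal.map_mono hnA h0) (Ideal.mem_map_of_mem ι haI)
  let I := Groth.Agent.BlowUpLib.centre I₀
  have hIft : BlowUp.IsFiniteTypeIdeal I := fun V => by
    haveI : IsNoetherianRing Γ(Spec (CommRingCat.of A), V.1) := IsLocallyNoetherian.component_noetherian V
    exact IsNoetherian.noetherian _
  have hIdis : Disjoint (I.support : Set ↥(Spec (CommRingCat.of A))) (FEt.puncturedSpec A : Set ↥(Spec (CommRingCat.of A))) := by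
    refine Set.disjoint_left.2 fun P hP hP' => hP' ?_
    have hle := (hzero A I₀ P).2 hP
    exact PrimeSpectrum.ext (le_antisymm (IsLocalRing.le_maximalIdeal P.2.ne_top)
      (P.2.le_of_pow_le (hnA.trans hle)))
  obtain ⟨X, b, hb⟩ := Groth.Agent.BlowUpLib.exists_blowUp (C := I)
  let q := Spec.map (CommRingCat.ofHom (algebraMap A C))
  haveI : Flat q := (HasRingHomProperty.Spec_iff (P := @Flat)).2
    (RingHom.flat_algebraMap_iff.2 (inferInstance : Module.Flat A C))
  have hbc : BlowUp.IsBlowUp (Curv2.bcCplSnd A b) J := by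
    have h := Groth.Agent.BlowUpLib.isBlowUp_of_isPullback (IsPullback.of_hasPullback b q).flip hb
    have he : I.comap q = J := by
      rw [hJeq, ← hmap]
      exact Groth.Agent.RegBlow6.comap_centre_specMap ι I₀
    rwa [he] at h
  obtain ⟨e, he⟩ := Groth.Agent.BlowUpLib.exists_iso hc hbc
  exact ⟨I, X, b, ⟨hIft, hIdis⟩, hb, e, he⟩

end Groth.Agent.S7304
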