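import Groth.Statements.S7306
import Groth.Agent.SurfRes.Tfae
-- import your own Groth.Agent.* helpers here

set_option autoImplicit false
set_option backward.isDefEq.respectTransparency false
set_option backward.isDefEq.respectTransparency.types false
set_option maxHeartbeats 800000
universe u
open CategoryTheory CategoryTheory.Limits AlgebraicGeometry
open Resolve

namespace Groth.Agent.S7306


open Groth.Agent.NormSeq (Nice)

variable (Y : Scheme.{u}) [IsIntegral Y] [IsNoetherian Y] (hdim : topologicalKrullDim Y = 2)
  [QuasiCompact (Y.fromSpecStalk (genericPoint Y))] [QuasiSeparated (Y.fromSpecStalk (genericPoint Y))]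

include hdim in
theorem cond_of_alteration {X : Scheme.{u}} (g : X ⟶ Y) (hg : Curv2.IsAlteration g)
    (hreg : ∀ x : X, IsRegularLocalRing (X.presheaf.stalk x)) :
    IsFinite (Curv2.normalizationι Y) ∧
      {y : ↥(Curv2.normalization Y) | ¬ IsRegularLocalRing ((Curv2.normalization Y).presheaf.stalk y)}.Finite ∧
      ∀ y : ↥(Curv2.normalization Y), ¬ IsRegularLocalRing ((Curv2.normalization Y).presheaf.stalk y) →
        IsDomain (Curv2.cpl ((Curv2.normalization Y).presheaf.stalk y)) ∧
        IsIntegrallyClosed (Curv2.cpl ((Curv2.normalization Y).presheaf.stalk y)) := by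
  obtain ⟨hP, hX, -, hdom, -⟩ := hg
  haveI := hP
  haveI := hX
  haveI := hdom
  haveI hfin : IsFinite (Curv2.normalizationι Y) := SurfRes.isFinite_normalization_of_alteration g hreg
  haveI := Synt29.isIntegral_normalization Y
  obtain ⟨hνgen, hνbir, hνpre⟩ := Synt29.normalization_generic Y
  haveI : IsLocallyNoetherian (Curv2.normalization Y) :=
    LocallyOfFiniteType.isLocallyNoetherian (Curv2.normalizationι Y)
  haveI : CompactSpace (Curv2.normalization Y) :=
    QuasiCompact.compactSpace_of_compactSpace (Curv2.normalizationι Y)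
  haveI : IsNoetherian (Curv2.normalization Y) := {}
  have hn := NormCurve.isNormalScheme_normalization Y
  obtain ⟨k, hk, -⟩ := S9690.result Y g (FrobTwist.isNormalScheme_of_regular hreg) fun x hx => by
    obtain rfl : x = genericPoint X := by
      have h := hx.2 (IrreducibleSpace.isIrreducible_univ X) (Set.subset_univ _)
      exact IsGenericPoint.eq (isGenericPoint_def.2 (Set.univ_subset_iff.1 h)) (genericPoint_spec X)
    exact SurfRes.map_generic_of_dominant g
  haveI : IsProper (k ≫ Curv2.normalizationι Y) := hk.symm ▸ hP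
  haveI : IsProper k := IsProper.of_comp k (Curv2.normalizationι Y)
  have hkgen : k (genericPoint X) = genericPoint (Curv2.normalization Y) := by
    have h1 : k (genericPoint X) ∈ (Curv2.normalizationι Y).base ⁻¹' {genericPoint Y} := by
      show Curv2.normalizationι Y (k (genericPoint X)) = _
      rw [← Scheme.Hom.comp_apply, hk, SurfRes.map_generic_of_dominant g]
    rw [hνpre] at h1
    exact h1
  haveI := SurfRes.isDominant_of_map_generic k hkgen
  obtain ⟨W, hW, hW1⟩ := SurfRes.exists_open_regular k hn hreg
  have hd : ∀ z : Curv2.normalization Y, ringKrullDim ((Curv2.normalization Y).presheaf.stalk z) ≤ 2 := fun z =>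
    (NormSeq.dim_le (Curv2.normalizationι Y) hνbir z).trans ((SchTop.ringKrullDim_stalk_le _).trans hdim.le)
  refine ⟨hfin, ?_, fun y _ => SurfRes.cpl_normal_of_alteration k hn hreg y⟩
  refine (PointBlow.finite_of_closed_points W.isOpen.isClosed_compl fun z hz => ?_).subset
    fun z hz h => hz (hW z h)
  exact SurfSeq.closed_two hd (SurfSeq.eq_two (hd z) fun h1 => hz (hW1 z h1))

include hdim in
theorem resolution_of_cond (hfin : IsFinite (Curv2.normalizationι Y))
    (hs : {y : ↥(Curv2.normalization Y) | ¬ IsRegularLocalRing ((Curv2.normalization Y).presheaf.stalk y)}.Finite)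
    (hc : ∀ y : ↥(Curv2.normalization Y), ¬ IsRegularLocalRing ((Curv2.normalization Y).presheaf.stalk y) →
        IsDomain (Curv2.cpl ((Curv2.normalization Y).presheaf.stalk y)) ∧
        IsIntegrallyClosed (Curv2.cpl ((Curv2.normalization Y).presheaf.stalk y))) :
    ∃ (X : Scheme.{u}) (g : X ⟶ Y), IsProper g ∧ IsIntegral X ∧
        (∃ V : Y.Opens, (V : Set Y).Nonempty ∧ IsIso (g ∣_ V)) ∧ ∀ x : X, IsRegularLocalRing (X.presheaf.stalk x) := by
  haveI := hfin
  haveI := Synt29.isIntegral_normalization Y
  obtain ⟨hνgen, hνbir, -⟩ := Synt29.normalization_generic Y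
  haveI : IsLocallyNoetherian (Curv2.normalization Y) :=
    LocallyOfFiniteType.isLocallyNoetherian (Curv2.normalizationι Y)
  haveI : CompactSpace (Curv2.normalization Y) :=
    QuasiCompact.compactSpace_of_compactSpace (Curv2.normalizationι Y)
  haveI : IsNoetherian (Curv2.normalization Y) := {}
  have hn := NormCurve.isNormalScheme_normalization Y
  have hN : Nice (Curv2.normalization Y) :=
    { integral := inferInstance
      noeth := inferInstance
      normal := hn
      fin := fun Z' _ g' _ hg' _ _ => RegRes.isFinite_normalizationι_of_birational g' hg' hn fun z => by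
        let A := (Curv2.normalization Y).presheaf.stalk z
        haveI := (hn z).2
        by_cases hz : IsRegularLocalRing A
        · haveI := hz
          refine RegRes.finBir_of_resolution A (𝟙 (Spec A)) inferInstance fun s => ?_
          letI : Algebra A ((Spec A).presheaf.stalk s) := (StructureSheaf.toStalk A s).hom.toAlgebra
          haveI : IsLocalization.AtPrime ((Spec A).presheaf.stalk s) s.asIdeal :=
            inferInstanceAs (IsLocalization.AtPrime ((Spec.structureSheaf A).presheaf.stalk s) s.asIdeal)
          haveI := RegLoc6.isRegularLocalRing_localization A s.asIdeal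
          exact IsRegularLocalRing.of_ringEquiv (IsLocalization.algEquiv s.asIdeal.primeCompl
            (Localization.AtPrime s.asIdeal) ((Spec A).presheaf.stalk s)).toRingEquiv
        · haveI : IsDomain (EGA4.Cpl A) := (hc z hz).1
          haveI : IsReduced (EGA4.Cpl A) := inferInstance
          exact NormSeq.finBir_of_isReduced_cpl
      dim := fun z => (NormSeq.dim_le (Curv2.normalizationι Y) hνbir z).trans
        ((SchTop.ringKrullDim_stalk_le _).trans hdim.le) }
  obtain ⟨X, g, hint, hP, hbir, -, hreg⟩ := SurfRes.exists_resolution_cpl _ _ hN hs le_rfl hc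
  haveI := hint
  haveI := hP
  let f := g ≫ Curv2.normalizationι Y
  have hfbir : IsIso (f.stalkMap (genericPoint X)) := NormSeq.isIso_stalkMap_comp g _ hbir hνbir
  haveI : IsProper f := inferInstanceAs (IsProper (g ≫ Curv2.normalizationι Y))
  have hcl : IsClosed {w : X | ¬ IsIso (f.stalkMap w)} := by
    rw [← isOpen_compl_iff, isOpen_iff_forall_mem_open]
    intro w hw
    obtain ⟨W, hwW, hOI⟩ := PurBir.exists_isOpenImmersion_of_isIso_stalkMap f (not_not.1 hw)
    haveI := hOI
    exact ⟨W, fun y hy hn => hn (PurBir.isIso_stalkMap_of_mem f (W := W) hy), W.isOpen, hwW⟩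
  let U : Y.Opens := ⟨(f '' {w | ¬ IsIso (f.stalkMap w)})ᶜ, (f.isClosedMap _ hcl).isOpen_compl⟩
  have hne : genericPoint Y ∈ U := by
    rintro ⟨w, hw, hwg⟩
    refine hw ?_
    obtain rfl : w = genericPoint X :=
      SurfSeq.eq_of_isIso f hfbir ((SurfSeq.map_generic f hfbir).trans hwg.symm) hfbir
    exact hfbir
  exact ⟨X, f, inferInstance, hint, ⟨U, ⟨_, hne⟩,
    Sol.isIso_restrict_of_stalk f hfbir U ⟨_, hne⟩ fun w hw => not_not.1 fun h => hw ⟨w, h, rfl⟩⟩, hreg⟩


theorem alteration_of_resolution {X : Scheme.{u}} (g : X ⟶ Y) [IsProper g] [IsIntegral X] (V : Y.Opens)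
    (hV : (V : Set Y).Nonempty) [IsIso (g ∣_ V)] : Curv2.IsAlteration g :=
  ⟨inferInstance, inferInstance, inferInstance,
    SurfRes.isDominant_of_map_generic g (SurfSeq.map_generic g (RegRes.isIso_generic_of_restrict g V hV)),
    V, hV, inferInstance⟩

/-- Let Y be an integral Noetherian scheme of dimension two. Then (1) there is an alteration X → Y with
X regular, if and only if (2) Y has a resolution of singularities, i.e. a proper morphism X → Y from
an integral regular scheme which is an isomorphism over a nonempty open of Y; and (2) holds if and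
only if (4) the normalization Y' → Y is finite, Y' has finitely many non-regular points, and at each
non-regular point of Y' the completion of the local ring is a normal domain. (The published
statement lists a further equivalent condition, resolution by a finite sequence of normalized
blowings up in closed points; this row does not include it, and it is stated separately. The
quasi-compactness and quasi-separatedness binders on Spec K(Y) → Y always hold; they are needed only
to form the normalization.) -/
theorem result (Y : Scheme.{u}) [IsIntegral Y] [IsNoetherian Y]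
    (hdim : topologicalKrullDim Y = 2)
    [QuasiCompact (Y.fromSpecStalk (genericPoint Y))] [QuasiSeparated (Y.fromSpecStalk (genericPoint Y))] :
    ((∃ (X : Scheme.{u}) (g : X ⟶ Y), Curv2.IsAlteration g ∧ ∀ x : X, IsRegularLocalRing (X.presheaf.stalk x)) ↔
      (∃ (X : Scheme.{u}) (g : X ⟶ Y), IsProper g ∧ IsIntegral X ∧
        (∃ V : Y.Opens, (V : Set Y).Nonempty ∧ IsIso (g ∣_ V)) ∧ ∀ x : X, IsRegularLocalRing (X.presheaf.stalk x))) ∧
    ((∃ (X : Scheme.{u}) (g : X ⟶ Y), IsProper g ∧ IsIntegral X ∧
        (∃ V : Y.Opens, (V : Set Y).Nonempty ∧ IsIso (g ∣_ V)) ∧ ∀ x : X, IsRegularLocalRing (X.presheaf.stalk x)) ↔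
      (IsFinite (Curv2.normalizationι Y) ∧
        {y : ↥(Curv2.normalization Y) | ¬ IsRegularLocalRing ((Curv2.normalization Y).presheaf.stalk y)}.Finite ∧
        ∀ y : ↥(Curv2.normalization Y), ¬ IsRegularLocalRing ((Curv2.normalization Y).presheaf.stalk y) →
          IsDomain (Curv2.cpl ((Curv2.normalization Y).presheaf.stalk y)) ∧
          IsIntegrallyClosed (Curv2.cpl ((Curv2.normalization Y).presheaf.stalk y)))) := by
  refine ⟨⟨fun ⟨X, g, hg, hreg⟩ => ?_, fun ⟨X, g, hP, hint, ⟨V, hV, hiso⟩, hreg⟩ =>
      ⟨X, g, alteration_of_resolution Y g V hV, hreg⟩⟩,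
    ⟨fun ⟨X, g, hP, hint, ⟨V, hV, hiso⟩, hreg⟩ => ?_, fun ⟨h1, h2, h3⟩ => resolution_of_cond Y hdim h1 h2 h3⟩⟩
  · obtain ⟨h1, h2, h3⟩ := cond_of_alteration Y hdim g hg hreg
    exact resolution_of_cond Y hdim h1 h2 h3
  · exact cond_of_alteration Y hdim g (alteration_of_resolution Y g V hV) hreg

end Groth.Agent.S7306
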