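import Groth.Statements.S7321
import Mathlib
import Groth.Agent.CurveRes.Basic

set_option autoImplicit false
universe u
open CategoryTheory CategoryTheory.Limits AlgebraicGeometry
open Resolve

namespace Groth.Agent.S7321

/-- Let Y be an integral Noetherian scheme of dimension one. Then (1) there is an alteration X → Y with
X regular, if and only if (2) Y has a resolution of singularities, i.e. a proper morphism X → Y from
an integral regular scheme which is an isomorphism over a nonempty open of Y; and (2) holds if and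
only if (4) the normalization morphism of Y is finite. (A further equivalent condition, a finite
sequence of blowings up in closed points ending in a regular scheme, is stated separately. The
quasi-compactness and quasi-separatedness binders on Spec K(Y) → Y always hold; they are needed only
to form the normalization.) -/
theorem result (Y : Scheme.{u}) [IsIntegral Y] [IsNoetherian Y]
    (hdim : topologicalKrullDim Y = 1)
    [QuasiCompact (Y.fromSpecStalk (genericPoint Y))] [QuasiSeparated (Y.fromSpecStalk (genericPoint Y))] :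
    ((∃ (X : Scheme.{u}) (g : X ⟶ Y), Curv2.IsAlteration g ∧ ∀ x : X, IsRegularLocalRing (X.presheaf.stalk x)) ↔
      (∃ (X : Scheme.{u}) (g : X ⟶ Y), IsProper g ∧ IsIntegral X ∧
        (∃ V : Y.Opens, (V : Set Y).Nonempty ∧ IsIso (g ∣_ V)) ∧ ∀ x : X, IsRegularLocalRing (X.presheaf.stalk x))) ∧
    ((∃ (X : Scheme.{u}) (g : X ⟶ Y), IsProper g ∧ IsIntegral X ∧
        (∃ V : Y.Opens, (V : Set Y).Nonempty ∧ IsIso (g ∣_ V)) ∧ ∀ x : X, IsRegularLocalRing (X.presheaf.stalk x)) ↔
      IsFinite (Curv2.normalizationι Y)) := by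
  have h41 : (∃ (X : Scheme.{u}) (g : X ⟶ Y), Curv2.IsAlteration g ∧ ∀ x : X, IsRegularLocalRing (X.presheaf.stalk x)) →
      IsFinite (Curv2.normalizationι Y) := by
    rintro ⟨X, g, ⟨hp, hX, -, hd, -⟩, hreg⟩
    haveI := hp
    haveI := hX
    haveI := hd
    exact Groth.Agent.CurveRes.isFinite_of_proper Y g fun x =>
      haveI := hreg x
      Groth.Agent.RegLoc6.isIntegrallyClosed_of_isRegularLocalRing _
  have h24 : IsFinite (Curv2.normalizationι Y) →
      ∃ (X : Scheme.{u}) (g : X ⟶ Y), IsProper g ∧ IsIntegral X ∧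
        (∃ V : Y.Opens, (V : Set Y).Nonempty ∧ IsIso (g ∣_ V)) ∧ ∀ x : X, IsRegularLocalRing (X.presheaf.stalk x) := by
    intro hf
    haveI := hf
    obtain ⟨V, hV, hi⟩ := Groth.Agent.CurveRes.exists_isIso_of_isFinite Y
    exact ⟨Curv2.normalization Y, Curv2.normalizationι Y, inferInstance,
      inferInstanceAs (IsIntegral (Y.fromSpecStalk (genericPoint Y)).normalization), ⟨V, hV.nonempty, hi⟩,
      fun y => Groth.Agent.CurveRes.regular_normalization Y hdim.le y⟩
  have h12 : (∃ (X : Scheme.{u}) (g : X ⟶ Y), IsProper g ∧ IsIntegral X ∧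
        (∃ V : Y.Opens, (V : Set Y).Nonempty ∧ IsIso (g ∣_ V)) ∧ ∀ x : X, IsRegularLocalRing (X.presheaf.stalk x)) →
      ∃ (X : Scheme.{u}) (g : X ⟶ Y), Curv2.IsAlteration g ∧ ∀ x : X, IsRegularLocalRing (X.presheaf.stalk x) := by
    rintro ⟨X, g, hp, hX, ⟨V, hV, hi⟩, hreg⟩
    haveI := hi
    refine ⟨X, g, ⟨hp, hX, inferInstance, ⟨?_⟩, V, hV, inferInstance⟩, hreg⟩
    have hVd : (V : Set Y) ⊆ Set.range g := fun y hy => by
      obtain ⟨v, hv⟩ := (g ∣_ V).surjective ⟨y, hy⟩
      exact ⟨v.1, (morphismRestrict_base_coe g V v).symm.trans (congrArg Subtype.val hv)⟩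
    exact Dense.mono hVd (V.2.dense hV)
  exact ⟨⟨fun h => h24 (h41 h), h12⟩, ⟨fun h => h41 (h12 h), h24⟩⟩

end Groth.Agent.S7321
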