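import Groth.Statements.S7324
import Mathlib
import Groth.Agent.FibrePP.LocalPic
import Groth.Agent.FibrePP.Main
import Groth.Agent.Contraction7.Fibre
import Groth.Agent.BlowUpLib.Glue
import Groth.Agent.Lib.BlowUpInt
import Groth.Agent.S1622
import Groth.Agent.S2821
import Groth.Agent.S4991

set_option autoImplicit false
set_option linter.style.haveILetI false
set_option backward.isDefEq.respectTransparency false
set_option backward.isDefEq.respectTransparency.types false
universe u
open CategoryTheory CategoryTheory.Limits AlgebraicGeometry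
open Resolve

open TopologicalSpace
open scoped Groth.Agent.H23.PicMul

namespace Groth.Agent.S7324

/-- Let (A, m) be a regular local ring of dimension two and b : X → Spec A the blowing up in m, with
exceptional divisor E, ideal sheaf I = O_X(-E), and M = O_X(E) an inverse of I for the tensor
product. Then Pic(X) = Z generated by O_X(E): every invertible O_X-module is isomorphic to I^{⊗ n}
or to M^{⊗ n} for some n ≥ 0, and I^{⊗ n} is not isomorphic to O_X for n ≥ 1. -/
theorem result (A : Type u) [CommRing A] [IsRegularLocalRing A] (hA : ringKrullDim A = 2)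
    (X : Scheme.{u}) (b : X ⟶ Spec (CommRingCat.of A)) (hb : BlowUp.IsBlowUp b (Curv2.idealSheaf A (IsLocalRing.maximalIdeal A)))
    (M : X.Modules) (hM : ClSub.IsInverseOf M (ClSub.idealMod (BlowUp.exceptional b (Curv2.idealSheaf A (IsLocalRing.maximalIdeal A))))) :
    (∀ L : X.Modules, PicF.IsInvertible L → ∃ n : ℕ,
      Nonempty (L ≅ CohB1.tensorPow (ClSub.idealMod (BlowUp.exceptional b (Curv2.idealSheaf A (IsLocalRing.maximalIdeal A)))) n) ∨
        Nonempty (L ≅ CohB1.tensorPow M n)) ∧
    ∀ n : ℕ, 1 ≤ n →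
      IsEmpty (CohB1.tensorPow (ClSub.idealMod (BlowUp.exceptional b (Curv2.idealSheaf A (IsLocalRing.maximalIdeal A)))) n ≅
        Coh.structureModule X) := by
  haveI : IsDomain A := (S2821.result A).1
  haveI : UniqueFactorizationMonoid A := (S2821.result A).2
  haveI : IsIntegrallyClosed A := inferInstance
  haveI : IsDomain (CommRingCat.of A) := ‹IsDomain A›
  haveI : IsNoetherianRing (CommRingCat.of A) := inferInstanceAs (IsNoetherianRing A)
  obtain ⟨hirr, hreg⟩ := S1622.result A hA X b hb
  haveI : IsIntegral X := by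
    rcases Lib.BlowUpInt.isEmpty_or_birational hb with hX | ⟨hX, -, -⟩
    · exact hX.elim hirr.toNonempty.some
    · exact hX
  haveI : IsProper b := BlowUpLib.isProper_of_isBlowUp (C := Curv2.idealSheaf A (IsLocalRing.maximalIdeal A)) hb fun V => by
    haveI : IsNoetherianRing Γ(Spec (CommRingCat.of A), V.1) := IsLocallyNoetherian.component_noetherian V
    exact IsNoetherian.noetherian _
  haveI : IsLocallyNoetherian X := LocallyOfFiniteType.isLocallyNoetherian b
  haveI : CompactSpace X := QuasiCompact.compactSpace_of_compactSpace b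
  have hXn : Pi1.IsNormalScheme X := fun x => by
    haveI := hreg x
    exact ⟨RegLoc6.isDomain_of_isRegularLocalRing _, RegLoc6.isIntegrallyClosed_of_isRegularLocalRing _⟩
  let k := A ⧸ IsLocalRing.maximalIdeal A
  letI : Field k := Ideal.Quotient.field _
  let i : Spec (CommRingCat.of k) ⟶ Spec (CommRingCat.of A) :=
    Spec.map (CommRingCat.ofHom (Ideal.Quotient.mk (IsLocalRing.maximalIdeal A)))
  haveI : IsClosedImmersion i := IsClosedImmersion.spec_of_surjective _ Ideal.Quotient.mk_surjective
  have hker : i.ker = Curv2.idealSheaf A (IsLocalRing.maximalIdeal A) := RegBlow6.ker_specMk _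
  have hpt : (i.ker.support : Set (Spec (CommRingCat.of A))) = {IsLocalRing.closedPoint A} := by
    rw [Scheme.Hom.support_ker, i.isClosedEmbedding.isClosed_range.closure_eq]
    haveI : Subsingleton ↥(Spec (CommRingCat.of k)) := inferInstanceAs (Subsingleton (PrimeSpectrum k))
    rw [Set.range_eq_singleton_iff]
    intro z
    refine PrimeSpectrum.ext ?_
    show Ideal.comap (Ideal.Quotient.mk (IsLocalRing.maximalIdeal A)) (z : PrimeSpectrum k).asIdeal = _
    rw [((Ideal.eq_bot_or_top (z : PrimeSpectrum k).asIdeal).resolve_right (z : PrimeSpectrum k).isPrime.ne_top),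
      ← RingHom.ker_eq_comap_bot, Ideal.mk_ker]
    rfl
  have hy : IsClosed ({IsLocalRing.closedPoint A} : Set (Spec (CommRingCat.of A))) :=
    IsLocalRing.isClosed_singleton_closedPoint A
  haveI : IsIso (b ∣_ ⟨({IsLocalRing.closedPoint A} : Set (Spec (CommRingCat.of A)))ᶜ, hy.isOpen_compl⟩) :=
    BlowUpLib.isIso_restrict hb _ fun x hx hmem => hx (by rw [← hpt, hker]; exact hmem)
  let I := BlowUp.exceptional b (Curv2.idealSheaf A (IsLocalRing.maximalIdeal A))
  have hsupp : (I.support : Set X) = b ⁻¹' {IsLocalRing.closedPoint A} := by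
    show (((Curv2.idealSheaf A (IsLocalRing.maximalIdeal A)).comap b).support : Set X) = _
    rw [Scheme.IdealSheafData.support_comap, TopologicalSpace.Closeds.coe_preimage, ← hker, hpt]
  -- the exceptional divisor is reduced
  have hregA : ∀ x : Spec (CommRingCat.of A), IsRegularLocalRing ((Spec (CommRingCat.of A)).presheaf.stalk x) := fun x => by
    haveI := S0564.result A (x : PrimeSpectrum A).asIdeal
    exact IsRegularLocalRing.of_ringEquiv (StructureSheaf.stalkIso A x).toRingEquiv
  have hregk : ∀ x : Spec (CommRingCat.of k), IsRegularLocalRing ((Spec (CommRingCat.of k)).presheaf.stalk x) := fun x => by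
    haveI : (x : PrimeSpectrum k).asIdeal.IsPrime := PrimeSpectrum.isPrime _
    haveI : IsRegularLocalRing k := inferInstance
    haveI := S0564.result k (x : PrimeSpectrum k).asIdeal
    exact IsRegularLocalRing.of_ringEquiv (StructureSheaf.stalkIso k x).toRingEquiv
  haveI : IsReduced I.subscheme := by
    have hlci : KRegLib.IsLCI' i := by
      rw [KRegLib.isLCI'_iff]
      intro U V hU hV e
      letI := (i.appLE V U e).hom.toAlgebra
      haveI := KRegLib.isRegularRing_sections hregA hV
      haveI := KRegLib.isRegularRing_sections hregk hU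
      haveI : Algebra.FiniteType Γ(Spec (CommRingCat.of A), V) Γ(Spec (CommRingCat.of k), U) :=
        i.finiteType_appLE hV hU e
      exact KRegLib.isLCI_of_regular _ _
    have hri := KRegLib.regClosed_of_isLCI' i hlci
    have hb' : BlowUp.IsBlowUp b i.ker := hker ▸ hb
    show IsReduced ((Curv2.idealSheaf A (IsLocalRing.maximalIdeal A)).comap b).subscheme
    rw [← hker]
    let E := BlowUp.exceptional b i.ker
    have hle : i.ker ≤ (E.subschemeι ≫ b).ker := by
      rw [← Scheme.IdealSheafData.map_ker, Scheme.IdealSheafData.le_map_iff_comap_le,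
        Scheme.IdealSheafData.ker_subschemeι]
    let g := IsClosedImmersion.lift i (E.subschemeι ≫ b) hle
    have hg : g ≫ i = E.subschemeι ≫ b := IsClosedImmersion.lift_fac _ _ _
    haveI := RegBlow6.smooth_exceptional i hri b hb' g hg
    show IsReduced E.subscheme
    haveI : ∀ z : E.subscheme, _root_.IsReduced (E.subscheme.presheaf.stalk z) := fun z => by
      haveI := hregk (g z)
      haveI : IsRegularLocalRing (E.subscheme.presheaf.stalk z) :=
        (S4991.result g z ⟨⊤, trivial, inferInstance⟩).2 inferInstance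
      haveI := RegLoc6.isDomain_of_isRegularLocalRing (E.subscheme.presheaf.stalk z)
      infer_instance
    exact isReduced_of_isReduced_stalk _
  haveI : IsDomain ((Spec (CommRingCat.of A)).presheaf.stalk (IsLocalRing.closedPoint A)) :=
    (StructureSheaf.stalkIso A (IsLocalRing.closedPoint A)).toRingEquiv.symm.toMulEquiv.isDomain _
  haveI : UniqueFactorizationMonoid ((Spec (CommRingCat.of A)).presheaf.stalk (IsLocalRing.closedPoint A)) :=
    (stalkClosedPointIso (CommRingCat.of A)).symm.commRingCatIsoToRingEquiv.toMulEquiv.uniqueFactorizationMonoid ‹_›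
  -- the generic point of the fibre
  obtain ⟨e, he⟩ := BlowUpLib.exists_iso (BlowUpLib.isBlowUp_local (IsLocalRing.maximalIdeal A)) hb
  obtain ⟨η₀, hη₁, hη₀⟩ := Contraction7.exists_fibre_generic' hA
  have hsurj : Function.Surjective e.hom := fun z => ⟨e.inv z, by rw [← Scheme.Hom.comp_apply, e.inv_hom_id]; rfl⟩
  have hto : ∀ z, b (e.hom z) = BlowUpLib.toBase (IsLocalRing.maximalIdeal A) z := fun z => by
    rw [← Scheme.Hom.comp_apply, he]
  have hgenη : ∀ z, b z = IsLocalRing.closedPoint A → e.hom η₀ ⤳ z := by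
    intro z hz
    obtain ⟨z, rfl⟩ := hsurj z
    exact ((hη₀ z ((hto z).symm.trans hz)).1).map e.hom.continuous
  have hUne : ((⟨({IsLocalRing.closedPoint A} : Set (Spec (CommRingCat.of A)))ᶜ, hy.isOpen_compl⟩ :
      (Spec (CommRingCat.of A)).Opens) : Set (Spec (CommRingCat.of A))).Nonempty := by
    refine ⟨(⟨⊥, Ideal.isPrime_bot⟩ : PrimeSpectrum A), fun h => ?_⟩
    have h1 : (⊥ : Ideal A) = IsLocalRing.maximalIdeal A := congrArg PrimeSpectrum.asIdeal h
    have h0 := ringKrullDim_eq_zero_of_isField (IsLocalRing.isField_iff_maximalIdeal_eq.2 h1.symm)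
    rw [hA] at h0
    exact absurd h0 (by norm_num)
  have hη : b (e.hom η₀) = IsLocalRing.closedPoint A := (hto η₀).trans hη₁
  obtain ⟨-, hηne, ω, hω, hoff, ⟨π, hπ, hπω⟩, -⟩ := FibrePP.exists_local_data b (fun x _ => hXn x) hy
    ((IsLocalRing.specializes_closedPoint (b (genericPoint X) : PrimeSpectrum A))) hb.1 hsupp hη hgenη
  have hall : ∀ p, b p ⤳ IsLocalRing.closedPoint A := fun p => IsLocalRing.specializes_closedPoint (b p : PrimeSpectrum A)
  refine ⟨fun L hL => ?_, fun n hn => ⟨fun ψ => ?_⟩⟩
  · obtain ⟨n, h | h⟩ := FibrePP.cl_cases b (fun x _ => hXn x) hy hall hb.1 hsupp hη hgenη L hL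
    · rw [← H23.PicMul.cl_tensorPow] at h
      exact ⟨n, Or.inl (H23.PicMul.cl_eq_iff.1 h)⟩
    · refine ⟨n, Or.inr (H23.PicMul.cl_eq_iff.1 ?_)⟩
      rw [H23.PicMul.cl_tensorPow]
      have hMI : PicF.cl M * PicF.cl (ClSub.idealMod I) = 1 := by
        rw [← H23.PicMul.cl_tensor, H23.PicMul.one_def]; exact H23.PicMul.cl_eq_iff.2 hM
      calc PicF.cl L = PicF.cl L * (PicF.cl M * PicF.cl (ClSub.idealMod I)) ^ n := by rw [hMI, one_pow, mul_one]
        _ = (PicF.cl L * PicF.cl (ClSub.idealMod I) ^ n) * PicF.cl M ^ n := by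
          rw [mul_pow, mul_comm (PicF.cl M ^ n), mul_assoc]
        _ = PicF.cl M ^ n := by rw [h, one_mul]
  · have h1 := hω.pow n
    rw [← H23.PicMul.cl_tensorPow, (H23.PicMul.cl_eq_iff.2 ⟨ψ⟩).trans H23.PicMul.one_def.symm] at h1
    obtain ⟨c, hc, hu⟩ := h1.exists_const
    have hcu : ∀ p, b p ≠ IsLocalRing.closedPoint A → FibrePP.UnitAt p c := fun p hp => by
      obtain ⟨u, hu⟩ := hu p
      have h2 : FibrePP.UnitAt p (ω p ^ n) := by
        have := (hoff p hp).zpow (n : ℤ)
        rwa [zpow_natCast] at this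
      have h3 : c = (algebraMap _ X.functionField (u : X.presheaf.stalk p))⁻¹ * ω p ^ n := by
        rw [hu, inv_mul_cancel_left₀ ((map_ne_zero_iff _ (FibrePP.algebraMap_injective p)).2 u.ne_zero)]
      rw [h3]
      exact (FibrePP.UnitAt.inv ⟨u, rfl⟩).mul h2
    obtain ⟨r, hr⟩ := FibrePP.mem_O_of_fibre hA b ⟨_, hUne, inferInstance⟩ hXn (fun _ => c⁻¹)
      (fun ξ x _ => by rw [sub_self]; exact zero_mem _) (fun p hp => (hcu p hp).inv.mem) (e.hom η₀)
    obtain ⟨u, hu'⟩ := hu (e.hom η₀)
    have h4 : IsUnit (π ^ n) := by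
      refine IsUnit.of_mul_eq_one (r * ((u⁻¹ : Units _) : X.presheaf.stalk (e.hom η₀))) (FibrePP.algebraMap_injective _ ?_)
      rw [map_mul, map_mul, map_pow, ← hπω, hu', hr, map_one]
      have h5 : algebraMap _ X.functionField ((u⁻¹ : Units _) : X.presheaf.stalk (e.hom η₀)) =
          (algebraMap _ X.functionField (u : X.presheaf.stalk (e.hom η₀)))⁻¹ :=
        eq_inv_of_mul_eq_one_left (by rw [← map_mul, Units.inv_mul, map_one])
      have h6 := (map_ne_zero_iff _ (FibrePP.algebraMap_injective (e.hom η₀))).2 u.ne_zero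
      rw [h5]
      field_simp
    exact hπ.not_isUnit ((isUnit_pow_iff (by omega)).1 h4)

end Groth.Agent.S7324
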