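import Groth.Statements.S7326
import Groth.Agent.H26.VertApply

set_option autoImplicit false
universe u
open CategoryTheory CategoryTheory.Limits AlgebraicGeometry
open Models

open scoped Groth.Agent.H23.PicMul

namespace Groth.Agent.S7326

/-- Let R be a discrete valuation ring with fraction field K, C a smooth proper curve over K with H^0(C,
O_C) = K, X a regular proper model of C, Γ_1, …, Γ_n the irreducible components of the closed fibre
with multiplicities m_i, d = gcd(m_i), and D = Σ (m_i/d) Γ_i the effective Cartier divisor with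
ideal sheaf I_D = Π I(Γ_i)^{m_i/d}. Then O_X(D) (any L with L ⊗ I_D ≅ O_X) has order dividing d in
Pic(X), i.e. L^{⊗ d} ≅ O_X, and the conormal sheaf I_D|_D, an invertible O_D-module, has order
dividing d in Pic(D). -/
theorem result (R : Type u) [CommRing R] [IsDomain R] [IsDiscreteValuationRing R]
    (C X : Scheme.{u}) (f : C ⟶ Spec (CommRingCat.of (FractionRing R))) (p : X ⟶ Spec (CommRingCat.of R))
    (hC : Curve.IsSmoothProperCurve (FractionRing R) C f) (hH0 : IsIso f.appTop)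
    (hX : Models.IsRegularProperModel R X p C f)
    {n : ℕ} (Γ : Fin n → ArSurf.VertComp R (Over.mk p)) (hΓ : Models.IsComponentList R (Over.mk p) Γ)
    (L : X.Modules)
    (hL : ClSub.IsInverseOf L (ClSub.idealMod (∏ i, (Γ i).ι.ker ^ (Models.mult R (Over.mk p) (Γ i) / Models.multGcd R (Over.mk p) Γ)))) :
    Nonempty (CohB1.tensorPow L (Models.multGcd R (Over.mk p) Γ) ≅ Coh.structureModule X) ∧
      Nonempty (CohB1.tensorPow ((Scheme.Modules.pullback
          (∏ i, (Γ i).ι.ker ^ (Models.mult R (Over.mk p) (Γ i) / Models.multGcd R (Over.mk p) Γ)).subschemeι).obj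
          (ClSub.idealMod (∏ i, (Γ i).ι.ker ^ (Models.mult R (Over.mk p) (Γ i) / Models.multGcd R (Over.mk p) Γ))))
          (Models.multGcd R (Over.mk p) Γ) ≅
        Coh.structureModule (∏ i, (Γ i).ι.ker ^ (Models.mult R (Over.mk p) (Γ i) / Models.multGcd R (Over.mk p) Γ)).subscheme) := by
  obtain ⟨L0, hL0⟩ := Groth.Agent.H26.VertModel.exists_inverses hX hΓ
  let D := Groth.Agent.H26.VertModel.mkData hX hΓ L0 hL0
  set d := Models.multGcd R (Over.mk p) Γ with hd
  have hdm : ∀ i, d ∣ Models.mult R (Over.mk p) (Γ i) := fun i => Finset.gcd_dvd (Finset.mem_univ i)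
  let z : Fin n → ℕ := fun i => Models.mult R (Over.mk p) (Γ i) / d
  obtain ⟨-, hcl⟩ := Groth.Agent.H26.IdealCl.eff_and_cl_prod Finset.univ (fun j => (Γ j).ι.ker) D.heff z
  have h0 : ∀ i, PicF.cl (Y := (Over.mk p).left) (L0 i) * PicF.cl (ClSub.idealMod (Γ i).ι.ker) = 1 := fun i => by
    rw [← Groth.Agent.H23.PicMul.cl_tensor]
    exact Groth.Agent.H23.PicMul.cl_eq_iff.2 (hL0 i)
  have hm : ∏ i, PicF.cl (Y := (Over.mk p).left) (L0 i) ^ (z i * d) = (1 : PicF.Cl (Over.mk p).left) := by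
    have h := congrArg Units.val D.P_mult
    rw [Units.val_one, show D.m = fun i => ((z i * d : ℕ) : ℤ) from funext fun i => by
      rw [Nat.div_mul_cancel (hdm i)]; rfl, D.P_natCast, Groth.Agent.H26.IdealCl.cl_multiTwist] at h
    exact h
  have hI : PicF.cl (ClSub.idealMod (∏ i, (Γ i).ι.ker ^ z i)) ^ d = (1 : PicF.Cl (Over.mk p).left) := by
    rw [hcl, ← Finset.prod_pow]
    calc ∏ i, (PicF.cl (ClSub.idealMod (Γ i).ι.ker) ^ z i) ^ d
        = (∏ i, (PicF.cl (ClSub.idealMod (Γ i).ι.ker) ^ z i) ^ d) * ∏ i, PicF.cl (Y := (Over.mk p).left) (L0 i) ^ (z i * d) := by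
          rw [hm, mul_one]
      _ = 1 := by
          rw [← Finset.prod_mul_distrib]
          refine Finset.prod_eq_one fun i _ => ?_
          rw [← pow_mul, ← mul_pow, mul_comm (PicF.cl _) (PicF.cl (Y := (Over.mk p).left) (L0 i)), h0 i, one_pow]
  have hL1 : PicF.cl (Y := (Over.mk p).left) L * PicF.cl (ClSub.idealMod (∏ i, (Γ i).ι.ker ^ z i)) = 1 := by
    rw [← Groth.Agent.H23.PicMul.cl_tensor]
    exact Groth.Agent.H23.PicMul.cl_eq_iff.2 hL
  refine ⟨Groth.Agent.H23.PicMul.cl_eq_iff.1 ?_, Groth.Agent.H23.PicMul.cl_eq_iff.1 ?_⟩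
  · rw [Groth.Agent.H23.PicMul.cl_tensorPow]
    calc PicF.cl (Y := (Over.mk p).left) L ^ d = PicF.cl (Y := (Over.mk p).left) L ^ d * PicF.cl (ClSub.idealMod (∏ i, (Γ i).ι.ker ^ z i)) ^ d := by rw [hI, mul_one]
      _ = 1 := by rw [← mul_pow, hL1, one_pow]
  · rw [Groth.Agent.H23.PicMul.cl_tensorPow]
    show Groth.Agent.H23.PicMul.pullHom _ (PicF.cl (ClSub.idealMod (∏ i, (Γ i).ι.ker ^ z i))) ^ d = 1
    rw [← map_pow, hI, map_one]

end Groth.Agent.S7326
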