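import Groth.Statements.S7329
import Groth.Agent.PInsep.Funct
import Groth.Agent.PInsep.Length
import Groth.Agent.CompleteNagata.Complete
import Groth.Agent.TraceRat.Val
import Groth.Agent.S1648
import Groth.Agent.S2821

set_option autoImplicit false
set_option backward.isDefEq.respectTransparency false
set_option backward.isDefEq.respectTransparency.types false
set_option maxHeartbeats 1000000
universe u
open CategoryTheory CategoryTheory.Limits AlgebraicGeometry
open Resolve
open Groth.Agent

namespace Groth.Agent.S7329

/-- The bound, for a finite extension given by a map `σ` inverting the `p`-th power map. -/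
theorem aux (p : ℕ) [Fact p.Prime] {R S : CommRingCat.{u}} [IsRegularLocalRing R] [IsDomain R] [CharP R p]
    [IsAdicComplete (IsLocalRing.maximalIdeal R) R] [IsIntegrallyClosed R] (hdA : ringKrullDim R = 2)
    [IsDomain S] [IsIntegrallyClosed S] [Algebra R S] [Module.Finite R S]
    [Algebra (Spec R).functionField (Spec S).functionField]
    (hcompat : ∀ r : R, algebraMap (Spec R).functionField (Spec S).functionField (algebraMap R _ r) =
      algebraMap S (Spec S).functionField (algebraMap R S r))
    (σ : (Spec S).functionField →+* (Spec R).functionField)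
    (hpow : ∀ z : (Spec S).functionField, algebraMap (Spec R).functionField (Spec S).functionField (σ z) = z ^ p)
    (y : S)
    (hspan : ∀ z : (Spec S).functionField, ∃ c : Fin p → (Spec R).functionField,
      z = ∑ k, algebraMap _ (Spec S).functionField (c k) * algebraMap S (Spec S).functionField y ^ (k : ℕ))
    (hind : ∀ c : Fin p → (Spec R).functionField,
      ∑ k, algebraMap _ (Spec S).functionField (c k) * algebraMap S (Spec S).functionField y ^ (k : ℕ) = 0 → c = 0) :
    (∃ N : ℕ, ∀ (X : Scheme.{u}) [X.Over (Spec (CommRingCat.of S))], IsProper (X ↘ Spec (CommRingCat.of S)) →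
        IsIntegral X → Pi1.IsNormalScheme X →
        (∃ U : (Spec (CommRingCat.of S)).Opens, (U : Set (Spec (CommRingCat.of S))).Nonempty ∧ IsIso ((X ↘ Spec (CommRingCat.of S)) ∣_ U)) →
        Module.length S (Coh.HH X (Coh.structureModule X) 1) ≤ (N : ℕ∞)) := by
  have hp : 0 < p := (Fact.out : p.Prime).pos
  haveI : CharP (Spec R).functionField p :=
    charP_of_injective_algebraMap (IsFractionRing.injective R (Spec R).functionField) p
  have hfinj := (algebraMap (Spec R).functionField (Spec S).functionField).injective
  have hιinj := IsFractionRing.injective R (Spec R).functionField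
  have hex : ∀ b : S, ∃ a : R,
      algebraMap R (Spec R).functionField a = σ (algebraMap S (Spec S).functionField b) := fun b => by
    refine IsIntegrallyClosed.algebraMap_eq_of_integral ?_
    obtain ⟨P, hP, hPb⟩ := Algebra.IsIntegral.isIntegral (R := R) (b ^ p)
    refine ⟨P, hP, hfinj ?_⟩
    have e : (algebraMap (Spec R).functionField (Spec S).functionField).comp (algebraMap R (Spec R).functionField) =
        (algebraMap S (Spec S).functionField).comp (algebraMap R S) := RingHom.ext hcompat
    rw [map_zero, Polynomial.hom_eval₂, hpow, e, ← map_pow (algebraMap S (Spec S).functionField),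
      ← Polynomial.hom_eval₂, hPb, map_zero]
  choose t ht using hex
  let τ : S →+* R :=
    { toFun := t
      map_one' := hιinj (by rw [ht, map_one, map_one, map_one])
      map_mul' := fun x y => hιinj (by rw [ht, map_mul, map_mul, map_mul, ht, ht])
      map_zero' := hιinj (by rw [ht, map_zero, map_zero, map_zero])
      map_add' := fun x y => hιinj (by rw [ht, map_add, map_add, map_add, ht, ht]) }
  have hστ : ∀ b : S, σ (algebraMap S (Spec S).functionField b) = algebraMap R (Spec R).functionField (τ b) :=
    fun b => (ht b).symm
  have hτ : ∀ r : R, τ (algebraMap R S r) = r ^ p := fun r => hιinj (hfinj (by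
    rw [← hστ, hpow, ← hcompat, map_pow, map_pow]))
  have hsat : ∀ (z : (Spec S).functionField) (r : R), σ z = algebraMap R (Spec R).functionField r →
      ∃ e : S, τ e = r := fun z r hz => by
    have h1 : _root_.IsIntegral S (z ^ p) := by
      rw [← hpow, hz, hcompat]
      exact isIntegral_algebraMap
    obtain ⟨e, he⟩ := IsIntegrallyClosed.algebraMap_eq_of_integral (IsIntegral.of_pow hp h1)
    exact ⟨e, hιinj (by rw [← hστ, he, hz])⟩
  have hht : (IsLocalRing.maximalIdeal R).height = 2 := by
    have h := IsLocalRing.maximalIdeal_height_eq_ringKrullDim (R := R)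
    rw [hdA] at h
    exact WithBot.coe_eq_coe.1 h
  obtain ⟨D, π, hD, hfix, hlin, hbd⟩ := PInsep.exists_retraction (A := R) (Spec R).functionField
    (algebraMap S (Spec S).functionField) (algebraMap R S)
    (algebraMap (Spec R).functionField (Spec S).functionField) σ τ p
    (fun c => hfinj (by rw [hpow, map_pow])) hτ hστ hcompat hspan hind fun x hx => PInsep.exists_funct p R hx
  obtain ⟨d, c, n, I, N, hN, -, hgood, hval⟩ :=
    PInsep.exists_obstruction σ τ p hp hτ hστ hsat hht hD π hfix hlin hbd
  have hNA : CAlg.IsNagata R := CompleteNagata.isNagata_of_complete R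
  have hR : NormSeq.Nice (Spec R) := NormSeq.nice_of_finBir (NormSeq.finBir_of_isNagata hNA) (le_of_eq hdA)
  have hrat := TraceRat.ratVal_of_isRationalSing hR (S1648.result R hNA hdA)
  refine ⟨(Module.length S (S ⧸ I)).toNat, fun X _ hP hI hNn hU => ?_⟩
  haveI := hI
  haveI := hP
  obtain ⟨hgen, hbir⟩ := RatSing.birational_of_isIso (X ↘ Spec (CommRingCat.of S)) hU
  let M : NormSeq.Model (Spec S) :=
    { Z := X, G := X ↘ Spec (CommRingCat.of S), gen := hgen, bir := hbir }
  haveI : IsProper M.G := hP
  rw [ENat.coe_toNat (PInsep.length_quotient_ne_top R S I N hN)]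
  exact PInsep.length_le (M := M) hστ p hp hτ hpow hNn hrat hgood I hval

/-- In a purely inseparable extension of degree `p` the `p`-th powers lie in the base. -/
theorem pow_mem_base {p : ℕ} (hp : p.Prime) {F E : Type u} [Field F] [Field E] [Algebra F E] [ExpChar F p]
    [FiniteDimensional F E] [IsPurelyInseparable F E] (hdeg : Module.finrank F E = p) (x : E) :
    (∃ c, algebraMap F E c = x ^ p) ∧ ((minpoly F x).natDegree = p ∨ x ∈ (algebraMap F E).range) := by
  obtain ⟨n, c, hc⟩ := IsPurelyInseparable.minpoly_eq_X_pow_sub_C F p x
  have hdegree : (minpoly F x).natDegree = p ^ n := by rw [hc, Polynomial.natDegree_X_pow_sub_C]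
  have h0 := minpoly.aeval F x
  rw [hc, map_sub, map_pow, Polynomial.aeval_X, Polynomial.aeval_C, sub_eq_zero] at h0
  have hle : p ^ n ≤ p ^ 1 := by
    rw [← hdegree, pow_one, ← hdeg]
    exact minpoly.natDegree_le x
  rcases Nat.le_one_iff_eq_zero_or_eq_one.1 ((Nat.pow_le_pow_iff_right hp.one_lt).1 hle) with rfl | rfl
  · rw [pow_zero, pow_one] at h0
    exact ⟨⟨c ^ p, by rw [map_pow, h0]⟩, Or.inr ⟨c, h0.symm⟩⟩
  · rw [pow_one] at h0 hdegree
    exact ⟨⟨c, h0.symm⟩, Or.inl hdegree⟩

theorem main (p : ℕ) [Fact p.Prime] {R S : CommRingCat.{u}} [IsRegularLocalRing R] [IsDomain R]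
    [IsIntegrallyClosed R] [CharP R p] [IsAdicComplete (IsLocalRing.maximalIdeal R) R] (hdA : ringKrullDim R = 2)
    [IsDomain S] [IsIntegrallyClosed S] [Algebra R S] [Module.Finite R S]
    (L : Type u) [Field L] [Algebra R L] [Algebra (FractionRing R) L] [IsScalarTower R (FractionRing R) L]
    [Algebra S L] [IsScalarTower R S L] [IsFractionRing S L] [IsIntegralClosure S R L]
    (hdeg : Module.finrank (FractionRing R) L = p) [IsPurelyInseparable (FractionRing R) L] :
    (∃ N : ℕ, ∀ (X : Scheme.{u}) [X.Over (Spec (CommRingCat.of S))], IsProper (X ↘ Spec (CommRingCat.of S)) →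
        IsIntegral X → Pi1.IsNormalScheme X →
        (∃ U : (Spec (CommRingCat.of S)).Opens, (U : Set (Spec (CommRingCat.of S))).Nonempty ∧ IsIso ((X ↘ Spec (CommRingCat.of S)) ∣_ U)) →
        Module.length S (Coh.HH X (Coh.structureModule X) 1) ≤ (N : ℕ∞)) := by
  have hp : p.Prime := Fact.out
  haveI : CharP (FractionRing R) p :=
    charP_of_injective_algebraMap (IsFractionRing.injective R (FractionRing R)) p
  haveI : ExpChar (FractionRing R) p := ExpChar.prime hp
  haveI : FiniteDimensional (FractionRing R) L := Module.finite_of_finrank_pos (hdeg ▸ hp.pos)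
  let eR : FractionRing R ≃+* (Spec R).functionField :=
    (IsLocalization.algEquiv (nonZeroDivisors R) (FractionRing R) (Spec R).functionField).toRingEquiv
  let eS : L ≃+* (Spec S).functionField :=
    (IsLocalization.algEquiv (nonZeroDivisors S) L (Spec S).functionField).toRingEquiv
  have heR : ∀ a : R, eR (algebraMap R (FractionRing R) a) = algebraMap R (Spec R).functionField a := fun a =>
    (IsLocalization.algEquiv (nonZeroDivisors R) (FractionRing R) (Spec R).functionField).commutes a
  have heS : ∀ b : S, eS (algebraMap S L b) = algebraMap S (Spec S).functionField b := fun b =>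
    (IsLocalization.algEquiv (nonZeroDivisors S) L (Spec S).functionField).commutes b
  letI : Algebra (Spec R).functionField (Spec S).functionField :=
    ((eS.toRingHom.comp (algebraMap (FractionRing R) L)).comp eR.symm.toRingHom).toAlgebra
  have halg : ∀ c, algebraMap (Spec R).functionField (Spec S).functionField (eR c) =
      eS (algebraMap (FractionRing R) L c) := fun c => by
    show eS (algebraMap (FractionRing R) L (eR.symm (eR c))) = _
    rw [eR.symm_apply_apply]
  have hpk := fun x => (pow_mem_base (F := FractionRing R) (E := L) hp hdeg x).1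
  choose s hs using hpk
  have hinj := (algebraMap (FractionRing R) L).injective
  haveI : CharP L p := charP_of_injective_algebraMap hinj p
  haveI : ExpChar L p := ExpChar.prime hp
  let s' : L →+* FractionRing R :=
    { toFun := s
      map_one' := hinj (by rw [hs, one_pow, map_one])
      map_mul' := fun x y => hinj (by rw [hs, map_mul, hs, hs, mul_pow])
      map_zero' := hinj (by rw [hs, zero_pow hp.ne_zero, map_zero])
      map_add' := fun x y => hinj (by rw [hs, map_add, hs, hs, add_pow_expChar]) }
  obtain ⟨x, hx⟩ : ∃ x : L, x ∉ (algebraMap (FractionRing R) L).range := by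
    by_contra h
    push Not at h
    have h1 : Module.finrank (FractionRing R) L ≤ 1 := by
      refine finrank_le_one (1 : L) fun w => ?_
      obtain ⟨c, hc⟩ := h w
      exact ⟨c, by rw [Algebra.smul_def, mul_one, hc]⟩
    exact absurd (hdeg ▸ h1) (not_le.2 hp.one_lt)
  obtain ⟨⟨r, hr⟩, hy⟩ :=
    (Algebra.IsIntegral.isIntegral (R := FractionRing R) x).exists_multiple_integral_of_isLocalization
      (nonZeroDivisors R) x
  obtain ⟨y, hyx⟩ := (IsIntegralClosure.isIntegral_iff (A := S)).1 hy
  have hymem : (algebraMap S L y) ∉ (algebraMap (FractionRing R) L).range := by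
    rintro ⟨c, hc⟩
    refine hx ⟨c / algebraMap R (FractionRing R) r, ?_⟩
    have hr0 : algebraMap R L r ≠ 0 := by
      rw [IsScalarTower.algebraMap_apply R (FractionRing R) L]
      exact (map_ne_zero_iff _ hinj).2
        ((map_ne_zero_iff _ (IsFractionRing.injective R (FractionRing R))).2 (nonZeroDivisors.ne_zero hr))
    rw [map_div₀, hc, ← IsScalarTower.algebraMap_apply, show (algebraMap S L y) = algebraMap R L r * x from hyx.trans (Algebra.smul_def r x),
      mul_div_cancel_left₀ _ hr0]
  have hydeg := (pow_mem_base (F := FractionRing R) (E := L) hp hdeg (algebraMap S L y)).2.resolve_right hymem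
  have hli : LinearIndependent (FractionRing R) fun i : Fin p => (algebraMap S L y) ^ (i : ℕ) := by
    have h := linearIndependent_pow (K := FractionRing R) (algebraMap S L y)
    exact h.comp (Fin.cast hydeg.symm) (Fin.cast_injective _)
  have hspan := hli.span_eq_top_of_card_eq_finrank (b := fun i : Fin p => (algebraMap S L y) ^ (i : ℕ))
    (by rw [Fintype.card_fin, hdeg])
  have hsum : ∀ c : Fin p → FractionRing R,
      eS (∑ k, c k • (algebraMap S L y) ^ (k : ℕ)) = ∑ k, algebraMap (Spec R).functionField (Spec S).functionField (eR (c k)) *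
        algebraMap S (Spec S).functionField y ^ (k : ℕ) := fun c => by
    rw [map_sum]
    refine Finset.sum_congr rfl fun k _ => ?_
    rw [Algebra.smul_def, map_mul, map_pow, halg, heS]
  haveI : Nonempty (Fin p) := ⟨⟨0, hp.pos⟩⟩
  exact aux p (R := R) (S := S) hdA
    (fun r => by
      rw [← heR, halg, ← heS, ← IsScalarTower.algebraMap_apply, ← IsScalarTower.algebraMap_apply])
    ((eR.toRingHom.comp s').comp eS.symm.toRingHom)
    (fun z => by
      show algebraMap _ _ (eR (s (eS.symm z))) = _
      rw [halg, hs, map_pow, eS.apply_symm_apply])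
    y
    (fun z => by
      have hz : eS.symm z ∈ Submodule.span (FractionRing R) (Set.range fun i : Fin p => (algebraMap S L y) ^ (i : ℕ)) :=
        hspan ▸ Submodule.mem_top
      obtain ⟨c, hc⟩ := (Submodule.mem_span_range_iff_exists_fun _).1 hz
      refine ⟨fun k => eR (c k), ?_⟩
      rw [← hsum, hc, eS.apply_symm_apply])
    (fun c hc => by
      have h := hsum (fun k => eR.symm (c k))
      simp only [RingEquiv.apply_symm_apply] at h
      rw [hc, map_eq_zero_iff _ eS.injective] at h
      funext k
      exact eR.symm.injective ((Fintype.linearIndependent_iff.1 hli _ h k).trans (map_zero _).symm))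


/-- Let p be a prime number, A a complete regular local ring of dimension two and characteristic p with
fraction field K, L/K a purely inseparable extension of degree p, and B the integral closure of A in
L. Then reduction to rational singularities is possible for B: the lengths of the B-modules H^1(Y,
O_Y), over all proper morphisms Y → Spec B from an integral normal scheme which are an isomorphism
over a nonempty open, are bounded. -/
theorem result (p : ℕ) [Fact p.Prime] (A : Type u) [CommRing A] [IsRegularLocalRing A]
    [CharP A p] [IsAdicComplete (IsLocalRing.maximalIdeal A) A] (hdA : ringKrullDim A = 2)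
    (L : Type u) [Field L] [Algebra A L] [Algebra (FractionRing A) L] [IsScalarTower A (FractionRing A) L]
    (hdeg : Module.finrank (FractionRing A) L = p) [IsPurelyInseparable (FractionRing A) L] :
    (∃ N : ℕ, ∀ (X : Scheme.{u}) [X.Over (Spec (CommRingCat.of ↥(integralClosure A L)))], IsProper (X ↘ Spec (CommRingCat.of ↥(integralClosure A L))) →
        IsIntegral X → Pi1.IsNormalScheme X →
        (∃ U : (Spec (CommRingCat.of ↥(integralClosure A L))).Opens, (U : Set (Spec (CommRingCat.of ↥(integralClosure A L)))).Nonempty ∧ IsIso ((X ↘ Spec (CommRingCat.of ↥(integralClosure A L))) ∣_ U)) →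
        Module.length ↥(integralClosure A L) (Coh.HH X (Coh.structureModule X) 1) ≤ (N : ℕ∞)) := by
  haveI := (S2821.result A).1
  haveI : IsIntegrallyClosed A := RegLoc6.isIntegrallyClosed_of_isRegularLocalRing A
  haveI : FiniteDimensional (FractionRing A) L := Module.finite_of_finrank_pos (hdeg ▸ (Fact.out : p.Prime).pos)
  haveI : Module.Finite A ↥(integralClosure A L) := CompleteNagata.isN2_of_complete A L inferInstance
  haveI : IsFractionRing ↥(integralClosure A L) L :=
    integralClosure.isFractionRing_of_finite_extension (FractionRing A) L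
  haveI : IsIntegrallyClosed ↥(integralClosure A L) :=
    integralClosure.isIntegrallyClosedOfFiniteExtension (FractionRing A)
  exact main p (R := CommRingCat.of A) (S := CommRingCat.of ↥(integralClosure A L)) hdA L hdeg

end Groth.Agent.S7329
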