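import Groth.Statements.S7330
import Mathlib
import Groth.Agent.R1Push.Reduction

set_option autoImplicit false
universe u
open CategoryTheory CategoryTheory.Limits AlgebraicGeometry
open Resolve

namespace Groth.Agent.S7330

/-- Let (A, m) be a local normal Nagata domain of dimension two for which reduction to rational
singularities is possible (the lengths of H^1(X, O_X) over all proper morphisms X → Spec A from an
integral normal scheme which are an isomorphism over a nonempty open are bounded). Then there is
such a normal modification f : X → Spec A, with f projective, such that at each closed point x of X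
the stalk O_{X,x} is a rational singularity. (The published statement obtains X by a finite sequence
of normalized blowings up in closed points; this row asserts only the resulting modification.) -/
theorem result (A : Type u) [CommRing A] [IsDomain A] [IsLocalRing A] [IsNoetherianRing A]
    [IsIntegrallyClosed A] (hN : CAlg.IsNagata A) (hdim : ringKrullDim A = 2)
    (hA : (∃ N : ℕ, ∀ (X : Scheme.{u}) [X.Over (Spec (CommRingCat.of A))], IsProper (X ↘ Spec (CommRingCat.of A)) →
        IsIntegral X → Pi1.IsNormalScheme X →
        (∃ U : (Spec (CommRingCat.of A)).Opens, (U : Set (Spec (CommRingCat.of A))).Nonempty ∧ IsIso ((X ↘ Spec (CommRingCat.of A)) ∣_ U)) →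
        Module.length A (Coh.HH X (Coh.structureModule X) 1) ≤ (N : ℕ∞))) :
    ∃ (X : Scheme.{u}) (f : X ⟶ Spec (CommRingCat.of A)), IsProper f ∧ IsIntegral X ∧ Pi1.IsNormalScheme X ∧
      (∃ U : (Spec (CommRingCat.of A)).Opens, (U : Set (Spec (CommRingCat.of A))).Nonempty ∧ IsIso (f ∣_ U)) ∧
      RelProj.IsProjective f ∧
      ∀ x : X, IsClosed ({x} : Set X) → Curv2.IsRationalSing (X.presheaf.stalk x) := by
  obtain ⟨N, hN'⟩ := hA
  have hR := Groth.Agent.RatSing.nice_spec (R := CommRingCat.of A) hN hdim
  obtain ⟨M, hP, hM, hproj, hrat⟩ := Groth.Agent.R1Push.exists_rational hR hdim.le N fun M hP hn => by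
    letI : M.Z.Over (Spec (CommRingCat.of A)) := ⟨M.G⟩
    haveI := hP
    exact hN' M.Z hP M.integral hn (Groth.Agent.RatUp.exists_isIso_restrict hR M.G M.bir)
  haveI := hP
  exact ⟨M.Z, M.G, hP, M.integral, hM.normal, Groth.Agent.RatUp.exists_isIso_restrict hR M.G M.bir, hproj,
    fun x _ => hrat x⟩

end Groth.Agent.S7330
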