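import Groth.Statements.S7334
import Groth.Agent.GRVal.Main

set_option autoImplicit false
universe u
open CategoryTheory CategoryTheory.Limits AlgebraicGeometry
attribute [local instance] HasDerivedCategory.standard
open Resolve

namespace Groth.Agent.S7334

/-- Let (A, m, κ) be a local Noetherian normal domain of dimension two which is Nagata, and f : X → Spec
A a proper morphism from an integral normal scheme which is an isomorphism over a nonempty open.
Then Hom(κ[-1], Rf_* O_X) = 0, computed in D(O_{Spec A}) with κ[-1] the shift of the quasi-coherent
module attached to κ. The published statement computes this group in D(A), identified with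
D_QCoh(O_{Spec A}); this row computes it in D(O_{Spec A}), which gives the same group because D_QCoh
is a full subcategory containing both objects. Existence of Rf_* on the unbounded derived category
and left exactness of M ↦ M~ are carried as instance hypotheses. -/
theorem result (A : Type u) [CommRing A] [IsDomain A] [IsLocalRing A] [IsNoetherianRing A]
    [IsIntegrallyClosed A] (hN : CAlg.IsNagata A) (hdim : ringKrullDim A = 2)
    (X : Scheme.{u}) (f : X ⟶ Spec (CommRingCat.of A)) [IsProper f] [IsIntegral X] (hXn : Pi1.IsNormalScheme X)
    (hbir : ∃ U : (Spec (CommRingCat.of A)).Opens, (U : Set (Spec (CommRingCat.of A))).Nonempty ∧ IsIso (f ∣_ U))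
    [PreservesFiniteLimits (tilde.functor (CommRingCat.of A))] [DCoh.HasRpush f] :
    Subsingleton ((((DCoh.tildeD (CommRingCat.of A)).obj (Dual.inD A (IsLocalRing.ResidueField A)))⟦(-1 : ℤ)⟧) ⟶
      (DCoh.Rpush f).obj (DCoh.inD X (Coh.structureModule X))) := by
  exact GRVal.subsingleton_hom f hdim hbir hXn

end Groth.Agent.S7334
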