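import Groth.Statements.S7335
import Groth.Agent.GRDual.Main
import Groth.Agent.GRDual.TwistVanish
import Groth.Agent.RatSing.Exceptional
import Groth.Agent.RatSing.Fibre

set_option autoImplicit false
set_option backward.isDefEq.respectTransparency false
set_option backward.isDefEq.respectTransparency.types false
universe u
open CategoryTheory CategoryTheory.Limits AlgebraicGeometry
attribute [local instance] HasDerivedCategory.standard
open Resolve

namespace Groth.Agent.S7335

/-- Let (A, m) be a local normal Nagata domain of dimension two which defines a rational singularity, is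
not regular, and has a dualizing module ω_A; let b : X → Spec A be the blowing up in m, with
exceptional ideal sheaf I = O_X(1), and let ω_X be the dualizing module of X normalized relative to
ω_A (the degree-zero cohomology sheaf of b^!(ω_A~), with b^! the right adjoint of Rb_* on D_QCoh;
these existence statements are carried as hypotheses). Then H^1(X, ω_X(n)) = 0 for all n ≥ 0, where
ω_X(n) = ω_X ⊗ I^{⊗ n}. -/
theorem result (A : Type u) [CommRing A] [IsDomain A] [IsLocalRing A] [IsNoetherianRing A]
    [IsIntegrallyClosed A] (hN : CAlg.IsNagata A) (hdim : ringKrullDim A = 2) (hA : Curv2.IsRationalSing A)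
    (hnr : ¬ IsRegularLocalRing A)
    (X : Scheme.{u}) (f : X ⟶ Spec (CommRingCat.of A)) (hb : BlowUp.IsBlowUp f (Curv2.idealSheaf A (IsLocalRing.maximalIdeal A)))
    (ωA : Type u) [AddCommGroup ωA] [Module A ωA] (hω : Dual.IsDualizing A (Dual.inD A ωA))
    [PreservesFiniteLimits (tilde.functor (CommRingCat.of A))]
    [DCoh.HasRpush f] (h : DCoh.RpushPreservesQCoh f) [DCoh.HasShriek f h]
    (WA : DCoh.DQCoh (Spec (CommRingCat.of A))) (hWA : Nonempty (WA.obj ≅ (DCoh.tildeD (CommRingCat.of A)).obj (Dual.inD A ωA))) (n : ℕ) :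
    Subsingleton (Coh.HH X (CohB1.tensorMod (DCoh.dualizingMod f h WA 0)
      (CohB1.tensorPow (ClSub.idealMod (BlowUp.exceptional f (Curv2.idealSheaf A (IsLocalRing.maximalIdeal A)))) n)) 1) := by
  haveI : IsDomain (CommRingCat.of A) := ‹IsDomain A›
  haveI : IsLocalRing (CommRingCat.of A) := ‹IsLocalRing A›
  haveI : IsNoetherianRing (CommRingCat.of A) := ‹IsNoetherianRing A›
  haveI : IsIntegrallyClosed (CommRingCat.of A) := ‹IsIntegrallyClosed A›
  obtain ⟨hI, hP, hXn, U, hU, hiso, -⟩ :=
    Groth.Agent.RatSing.blowUp_facts (R := CommRingCat.of A) (b := f) hb hN hdim hA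
  haveI := hI
  haveI := hP
  haveI := hiso
  obtain ⟨eW⟩ := hWA
  have h0 : Subsingleton (Coh.HH X (DCoh.dualizingMod f h WA 0) 1) := by
    show Subsingleton (Coh.HH X (DCoh.HD (DCoh.dualizingCx f h WA) (-((0 : ℕ) : ℤ))) 1)
    rw [Nat.cast_zero, neg_zero]
    exact Groth.Agent.GRDual.subsingleton_H1 f hdim ⟨U, hU, hiso⟩ hXn hω h WA eW
  exact Groth.Agent.GRDual.subsingleton_HH_one_tensorPow f
    (Groth.Agent.RelPC17.BirFibre.fibre_dim_le_one f
      (Groth.Agent.RelPC17.BirFibre.dim_spec_le A 2 (by rw [hdim]; norm_cast)) U hU)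
    (Groth.Agent.GRDual.isQCohD_dualizingCx f h WA _) (Groth.Agent.PPSheaf.isQCoh_idealMod _)
    (Groth.Agent.RatSing.isGloballyGenerated_centre (IsLocalRing.maximalIdeal A) f _
      (fun V => Groth.Agent.BlowUpLib.ideal_comap_centre _ f V)) h0 n

end Groth.Agent.S7335
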