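import Groth.Statements.S7336
import Mathlib
import Groth.Agent.FibrePP.Curves

set_option autoImplicit false
set_option linter.style.haveILetI false
set_option backward.isDefEq.respectTransparency false
set_option backward.isDefEq.respectTransparency.types false
universe u
open CategoryTheory CategoryTheory.Limits AlgebraicGeometry
open Resolve

open TopologicalSpace

namespace Groth.Agent.S7336

/-- Let (A, m) be a local Noetherian normal domain of dimension two and f : X → Spec A a proper morphism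
from an integral scheme which is an isomorphism over some nonempty open and is not an isomorphism
(so that every irreducible component of the closed fibre is a curve). Then there is a nonzero a ∈ m
such that for every irreducible component C of the closed fibre, with generic point ξ, there are a
closed point x ∈ C lying on no other component and a factorization a = g · q in O_{X,x} with g in
the maximal ideal of O_{X,x} and g not vanishing identically on C near x, i.e. the image of g in
O_{X,ξ} is a unit. -/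
theorem result (A : Type u) [CommRing A] [IsDomain A] [IsLocalRing A] [IsNoetherianRing A]
    [IsIntegrallyClosed A] (hdim : ringKrullDim A = 2)
    (X : Scheme.{u}) (f : X ⟶ Spec (CommRingCat.of A)) [IsProper f] [IsIntegral X]
    (hbir : ∃ U : (Spec (CommRingCat.of A)).Opens, (U : Set (Spec (CommRingCat.of A))).Nonempty ∧ IsIso (f ∣_ U)) (hf : ¬ IsIso f) :
    ∃ a : A, a ≠ 0 ∧ a ∈ IsLocalRing.maximalIdeal A ∧
      ∀ C ∈ irreducibleComponents ↥(f.base ⁻¹' {IsLocalRing.closedPoint A}),
        ∃ (x ξ : ↥(f.base ⁻¹' {IsLocalRing.closedPoint A})) (hξx : (ξ : X) ⤳ (x : X)),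
          x ∈ C ∧ IsGenericPoint ξ C ∧ IsClosed ({(x : X)} : Set X) ∧
          (∀ C' ∈ irreducibleComponents ↥(f.base ⁻¹' {IsLocalRing.closedPoint A}), C' ≠ C → x ∉ C') ∧
          ∃ g q : X.presheaf.stalk (x : X), g ∈ IsLocalRing.maximalIdeal (X.presheaf.stalk (x : X)) ∧
            (X.presheaf.germ ⊤ (x : X) trivial).hom (Coh.toGlobal f a) = g * q ∧
            IsUnit ((X.presheaf.stalkSpecializes hξx).hom g) := by
  haveI : IsDomain (CommRingCat.of A) := ‹IsDomain A›
  haveI : IsNoetherianRing (CommRingCat.of A) := ‹IsNoetherianRing A›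
  haveI : IsLocallyNoetherian X := LocallyOfFiniteType.isLocallyNoetherian f
  haveI : CompactSpace X := QuasiCompact.compactSpace_of_compactSpace f
  haveI : IsNoetherian X := {}
  haveI : NoetherianSpace ↥X := inferInstance
  obtain ⟨U, hU, hiso⟩ := hbir
  haveI := hiso
  have hY : Pi1.IsNormalScheme (Spec (CommRingCat.of A)) := fun y => by
    letI := TopCat.Presheaf.algebra_section_stalk (Spec (CommRingCat.of A)).presheaf (⟨y, trivial⟩ : (⊤ : (Spec (CommRingCat.of A)).Opens))
    haveI := (isAffineOpen_top (Spec (CommRingCat.of A))).isLocalization_stalk ⟨y, trivial⟩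
    haveI : IsIntegrallyClosed Γ(Spec (CommRingCat.of A), ⊤) :=
      IsIntegrallyClosed.of_equiv (Scheme.ΓSpecIso (CommRingCat.of A)).symm.commRingCatIsoToRingEquiv
    exact ⟨inferInstance, isIntegrallyClosed_of_isLocalization _
      ((isAffineOpen_top (Spec (CommRingCat.of A))).primeIdealOf ⟨y, trivial⟩).asIdeal.primeCompl
      (Ideal.primeCompl_le_nonZeroDivisors _)⟩
  obtain ⟨V, hV, hno⟩ := FibrePP.exists_isoLocus f hU hY
  have hm : IsLocalRing.closedPoint A ∉ V := fun h => hf (by
    have hVtop : V = ⊤ := top_le_iff.1 fun p _ =>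
      (IsLocalRing.specializes_closedPoint (show PrimeSpectrum A from p)).mem_open V.2 h
    subst hVtop
    exact (IsZariskiLocalAtTarget.iff_of_iSup_eq_top (P := MorphismProperty.isomorphisms Scheme)
      (fun _ : Unit => (⊤ : (Spec (CommRingCat.of A)).Opens)) (iSup_const (ι := Unit))).2 fun _ => hV)
  have hclF : IsClosed (f.base ⁻¹' {IsLocalRing.closedPoint A}) :=
    (IsLocalRing.isClosed_singleton_closedPoint A).preimage f.continuous
  have hgen := H26.BiratFibre.apply_genericPoint_eq f hU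
  have hxU : genericPoint X ∈ f ⁻¹ᵁ U := by
    show f (genericPoint X) ∈ U
    rw [hgen]
    exact ((genericPoint_spec ↥(Spec (CommRingCat.of A))).mem_open_set_iff U.2).2 (by simpa using hU)
  haveI : IsIso (f.stalkMap (genericPoint X)) :=
    (MorphismProperty.isomorphisms CommRingCat).arrow_mk_iso_iff
      (morphismRestrictStalkMap f U ⟨genericPoint X, hxU⟩) |>.1 (inferInstanceAs (IsIso _))
  -- every nonzero local function divides a nonzero element of the base
  have key : ∀ (x : X) (g : X.presheaf.stalk x), g ≠ 0 → ∃ (t : A) (q : X.presheaf.stalk x), t ≠ 0 ∧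
      (X.presheaf.germ ⊤ x trivial).hom (Coh.toGlobal f t) = g * q := by
    intro x g hg
    let η := genericPoint X
    have hsp : η ⤳ x := genericPoint_specializes x
    have hinj : Function.Injective (X.presheaf.stalkSpecializes hsp).hom :=
      IsFractionRing.injective (X.presheaf.stalk x) X.functionField
    letI := TopCat.Presheaf.algebra_section_stalk (Spec (CommRingCat.of A)).presheaf (⟨f η, trivial⟩ : (⊤ : (Spec (CommRingCat.of A)).Opens))
    haveI := (isAffineOpen_top (Spec (CommRingCat.of A))).isLocalization_stalk ⟨f η, trivial⟩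
    obtain ⟨c, hc⟩ := (ConcreteCategory.bijective_of_isIso (f.stalkMap η)).2 ((X.presheaf.stalkSpecializes hsp).hom g)
    obtain ⟨⟨t, s⟩, hts⟩ := IsLocalization.surj
      ((isAffineOpen_top (Spec (CommRingCat.of A))).primeIdealOf ⟨f η, trivial⟩).asIdeal.primeCompl c
    have hgl : ∀ r : Γ(Spec (CommRingCat.of A), ⊤), (X.presheaf.stalkSpecializes hsp).hom
        ((X.presheaf.germ ⊤ x trivial).hom (f.appTop.hom r)) =
          f.stalkMap η (algebraMap _ ((Spec (CommRingCat.of A)).presheaf.stalk (f η)) r) := fun r => by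
      refine (X.presheaf.germ_stalkSpecializes_apply (show x ∈ (⊤ : X.Opens) from trivial) hsp _).trans ?_
      exact (Scheme.Hom.germ_stalkMap_apply f ⊤ η trivial r).symm
    let t' : A := (Scheme.ΓSpecIso (CommRingCat.of A)).hom.hom t
    have ht' : Coh.toGlobal f t' = f.appTop.hom t := congrArg f.appTop.hom (Iso.hom_inv_id_apply _ _)
    have heq : g * (X.presheaf.germ ⊤ x trivial).hom (f.appTop.hom s.1) =
        (X.presheaf.germ ⊤ x trivial).hom (f.appTop.hom t) := hinj (by
      rw [map_mul, hgl, hgl, ← hc, ← map_mul]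
      exact congrArg _ hts)
    refine ⟨t', (X.presheaf.germ ⊤ x trivial).hom (f.appTop.hom s.1), fun h0 => ?_, by rw [ht', heq]⟩
    have ht0 : t = 0 := (ConcreteCategory.bijective_of_isIso (Scheme.ΓSpecIso (CommRingCat.of A)).hom).1 (by
      rw [map_zero]; exact h0)
    subst ht0
    simp only [map_zero] at hts
    have hu : IsUnit (algebraMap _ ((Spec (CommRingCat.of A)).presheaf.stalk (f η)) s.1) :=
      IsLocalization.map_units _ s
    rw [hu.mul_left_eq_zero] at hts
    rw [hts, map_zero] at hc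
    exact hg (hinj (hc.symm.trans (map_zero _).symm))
  have hdata : ∀ C : irreducibleComponents ↥(f.base ⁻¹' {IsLocalRing.closedPoint A}),
      ∃ (x ξ : ↥(f.base ⁻¹' {IsLocalRing.closedPoint A})) (hξx : (ξ : X) ⤳ (x : X)),
        x ∈ C.1 ∧ IsGenericPoint ξ C.1 ∧ IsClosed ({(x : X)} : Set X) ∧
        (∀ C' ∈ irreducibleComponents ↥(f.base ⁻¹' {IsLocalRing.closedPoint A}), C' ≠ C.1 → x ∉ C') ∧
        ∃ (g q : X.presheaf.stalk (x : X)) (t : A), t ≠ 0 ∧
          g ∈ IsLocalRing.maximalIdeal (X.presheaf.stalk (x : X)) ∧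
          (X.presheaf.germ ⊤ (x : X) trivial).hom (Coh.toGlobal f t) = g * q ∧
          IsUnit ((X.presheaf.stalkSpecializes hξx).hom g) := by
    rintro ⟨C, hC⟩
    obtain ⟨x, ξ, hxC, hξC, hxcl, hne, hoth⟩ := FibrePP.exists_closed_point f (hno _ hm) hC
    have hsp : ξ ⤳ x := hξC.specializes hxC
    have hsp' : (ξ : X) ⤳ (x : X) := hsp.map continuous_subtype_val
    have hnsp : ¬ (x : X) ⤳ (ξ : X) := fun h => hne (Subtype.ext (h.antisymm hsp').eq)
    rw [specializes_iff_forall_open] at hnsp
    push Not at hnsp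
    obtain ⟨O, hOo, hξO, hxO⟩ := hnsp
    obtain ⟨W, hW, hxW, -⟩ := exists_isAffineOpen_mem_and_subset (U := (⊤ : X.Opens)) (x := (x : X)) trivial
    have hξW : (ξ : X) ∈ W := hsp'.mem_open W.2 hxW
    obtain ⟨r, hr, hξr⟩ := hW.exists_basicOpen_le ⟨(ξ : X), (show (ξ : X) ∈ (⟨O, hOo⟩ : X.Opens) from hξO)⟩ hξW
    have hxr : ¬ IsUnit (X.presheaf.germ W (x : X) hxW r) := fun h =>
      hxO (hr ((X.mem_basicOpen r (x : X) hxW).2 h))
    have hg0 : X.presheaf.germ W (x : X) hxW r ≠ 0 := fun h => by
      have h1 := (X.mem_basicOpen r (ξ : X) hξW).1 hξr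
      rw [← X.presheaf.germ_stalkSpecializes_apply hxW hsp' r, h, map_zero] at h1
      exact not_isUnit_zero h1
    obtain ⟨t, q, ht, htq⟩ := key _ _ hg0
    refine ⟨x, ξ, hsp', hxC, hξC, ?_, hoth, _, q, t, ht, (IsLocalRing.mem_maximalIdeal _).2 hxr, htq, ?_⟩
    · have := hclF.isClosedEmbedding_subtypeVal.isClosedMap _ hxcl
      rwa [Set.image_singleton] at this
    · rw [X.presheaf.germ_stalkSpecializes_apply hxW hsp' r]
      exact (X.mem_basicOpen r (ξ : X) hξW).1 hξr
  choose x ξ hξx hxC hgenC hcl hoth g q t ht0 hg htq hu using hdata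
  haveI : Fintype (irreducibleComponents ↥(f.base ⁻¹' {IsLocalRing.closedPoint A})) :=
    NoetherianSpace.finite_irreducibleComponents.fintype
  have hmbot : IsLocalRing.maximalIdeal A ≠ ⊥ := fun h => by
    have hA : IsField A := IsLocalRing.isField_iff_maximalIdeal_eq.2 h
    rw [ringKrullDim_eq_zero_of_isField hA] at hdim
    exact absurd hdim (by norm_num)
  obtain ⟨a₀, ha₀, ha₀0⟩ := Submodule.exists_mem_ne_zero_of_ne_bot hmbot
  refine ⟨a₀ * ∏ C, t C, mul_ne_zero ha₀0 (Finset.prod_ne_zero_iff.2 fun C _ => ht0 C),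
    Ideal.mul_mem_right _ _ ha₀, fun C hC => ?_⟩
  obtain ⟨b, hb⟩ := Finset.dvd_prod_of_mem t (Finset.mem_univ (⟨C, hC⟩ : irreducibleComponents _))
  refine ⟨x ⟨C, hC⟩, ξ ⟨C, hC⟩, hξx ⟨C, hC⟩, hxC ⟨C, hC⟩, hgenC ⟨C, hC⟩, hcl ⟨C, hC⟩,
    fun C' hC' hne => hoth ⟨C, hC⟩ C' hC' hne, g ⟨C, hC⟩,
    (X.presheaf.germ ⊤ (x ⟨C, hC⟩ : X) trivial).hom (Coh.toGlobal f (a₀ * b)) * q ⟨C, hC⟩, hg ⟨C, hC⟩, ?_, hu ⟨C, hC⟩⟩
  rw [hb, mul_left_comm a₀, map_mul, map_mul, htq]
  ring

end Groth.Agent.S7336
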