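import Groth.Statements.S7337
import Groth.Agent.RatSing.ExcTwist

set_option autoImplicit false
set_option backward.isDefEq.respectTransparency false
set_option backward.isDefEq.respectTransparency.types false
set_option maxHeartbeats 800000
universe u
open CategoryTheory CategoryTheory.Limits AlgebraicGeometry
open Resolve
open Groth.Agent

namespace Groth.Agent.S7337

/-- Let (A, m, κ) be a local normal Nagata domain of dimension two defining a rational singularity, let
X → Spec A (the structure morphism of X over Spec A) be the blowing up in m, and let E ⊂ X be the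
exceptional divisor with ideal sheaf I = O_X(1), so that O_E(n) pushed forward to X is I^{⊗ n} ⊗
O_X/I. Then E is Cohen–Macaulay of dimension one; H^1(E, O_E(n)) = 0 for n ≥ 0; and H^0(E, O_E(n)) ≅
m^n/m^{n+1} for n ≥ 0. (The published statement also asserts that E is proper over κ, that O_E(1) is
very ample, and that deg O_E(1) ≥ 1 with equality only for A regular; this row does not restate
those, and states the description of H^0(E, O_E(n)) as an equality of A-lengths.) -/
theorem result (A : Type u) [CommRing A] [IsDomain A] [IsLocalRing A] [IsNoetherianRing A]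
    [IsIntegrallyClosed A] (hN : CAlg.IsNagata A) (hdim : ringKrullDim A = 2) (hA : Curv2.IsRationalSing A)
    (X : Scheme.{u}) [X.Over (Spec (CommRingCat.of A))]
    (hb : BlowUp.IsBlowUp (X ↘ Spec (CommRingCat.of A)) (Curv2.idealSheaf A (IsLocalRing.maximalIdeal A))) (n : ℕ) :
    (∀ e : ↥(BlowUp.exceptional (X ↘ Spec (CommRingCat.of A)) (Curv2.idealSheaf A (IsLocalRing.maximalIdeal A))).subscheme,
        LocCoh.IsCohenMacaulayLocalRing
          ((BlowUp.exceptional (X ↘ Spec (CommRingCat.of A)) (Curv2.idealSheaf A (IsLocalRing.maximalIdeal A))).subscheme.presheaf.stalk e)) ∧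
      topologicalKrullDim ↥(BlowUp.exceptional (X ↘ Spec (CommRingCat.of A)) (Curv2.idealSheaf A (IsLocalRing.maximalIdeal A))).subscheme = 1 ∧
      Subsingleton (Coh.HH X (CohB1.tensorMod
        (CohB1.tensorPow (ClSub.idealMod (BlowUp.exceptional (X ↘ Spec (CommRingCat.of A)) (Curv2.idealSheaf A (IsLocalRing.maximalIdeal A)))) n)
        (ClSub.quotMod (BlowUp.exceptional (X ↘ Spec (CommRingCat.of A)) (Curv2.idealSheaf A (IsLocalRing.maximalIdeal A))))) 1) ∧
      Module.length A (Coh.HH X (CohB1.tensorMod
        (CohB1.tensorPow (ClSub.idealMod (BlowUp.exceptional (X ↘ Spec (CommRingCat.of A)) (Curv2.idealSheaf A (IsLocalRing.maximalIdeal A)))) n)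
        (ClSub.quotMod (BlowUp.exceptional (X ↘ Spec (CommRingCat.of A)) (Curv2.idealSheaf A (IsLocalRing.maximalIdeal A))))) 0) =
        Module.length A (↥(IsLocalRing.maximalIdeal A ^ n) ⧸
          (Submodule.comap (IsLocalRing.maximalIdeal A ^ n).subtype (IsLocalRing.maximalIdeal A ^ (n + 1)))) := by
  haveI : IsDomain (CommRingCat.of A) := ‹IsDomain A›
  haveI : IsLocalRing (CommRingCat.of A) := ‹IsLocalRing A›
  haveI : IsNoetherianRing (CommRingCat.of A) := ‹IsNoetherianRing A›
  haveI : IsIntegrallyClosed (CommRingCat.of A) := ‹IsIntegrallyClosed A›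
  obtain ⟨hXi, hP, hXn, U, hU, hiso, hUc⟩ := RatSing.blowUp_facts (R := CommRingCat.of A) hb hN hdim hA
  haveI := hXi
  haveI := hP
  haveI := hiso
  refine ⟨fun e => RatSing.isCohenMacaulay_exceptional (R := CommRingCat.of A) hb hXn hdim hU e,
    RatSing.topologicalKrullDim_exceptional (R := CommRingCat.of A) hb hXn hdim hU hUc,
    RatSing.subsingleton_H1_pwQuot hN hdim hA X _ hXn ⟨U, hU, hiso⟩ hb.1 n, ?_⟩
  exact RatSing.length_H0_pwQuot hN hdim hA X _ hXn ⟨U, hU, hiso⟩ hb.1 n

end Groth.Agent.S7337
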