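import Groth.Statements.S7338
import Mathlib
import Groth.Agent.R1Push.Main
import Groth.Agent.GeomIrrSpread.SmoothNeutral
import Groth.Agent.RegRes.Main

set_option autoImplicit false
universe u
open CategoryTheory CategoryTheory.Limits AlgebraicGeometry
open Resolve

namespace Groth.Agent.S7338

/-- Let (A, m) be a Noetherian normal local domain of dimension two, and X, X' integral schemes proper
over Spec A, each an isomorphism over some nonempty open of Spec A (modifications), with X normal,
and g : X' → X a morphism over Spec A. Then R^1 g_* O_{X'} is generated by global sections and its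
support is a finite set of closed points of X, and there is a short exact sequence 0 → H^1(X, O_X) →
H^1(X', O_{X'}) → H^0(X, R^1 g_* O_{X'}) → 0, recorded here as the additivity of A-lengths. (R^1 g_*
is the right derived functor of g_* on O-modules; that O_{X'}-modules have injective resolutions is
carried as an instance hypothesis.) -/
theorem result (A : Type u) [CommRing A] [IsDomain A] [IsLocalRing A] [IsNoetherianRing A]
    [IsIntegrallyClosed A] (hdim : ringKrullDim A = 2)
    (X X' : Scheme.{u}) [X.Over (Spec (CommRingCat.of A))] [X'.Over (Spec (CommRingCat.of A))]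
    [IsProper (X ↘ Spec (CommRingCat.of A))] [IsProper (X' ↘ Spec (CommRingCat.of A))] [IsIntegral X] [IsIntegral X']
    (hX : ∃ U : (Spec (CommRingCat.of A)).Opens, (U : Set (Spec (CommRingCat.of A))).Nonempty ∧ IsIso ((X ↘ Spec (CommRingCat.of A)) ∣_ U))
    (hX' : ∃ U : (Spec (CommRingCat.of A)).Opens, (U : Set (Spec (CommRingCat.of A))).Nonempty ∧ IsIso ((X' ↘ Spec (CommRingCat.of A)) ∣_ U))
    (hXn : Pi1.IsNormalScheme X) (g : X' ⟶ X) (hg : g ≫ (X ↘ Spec (CommRingCat.of A)) = X' ↘ Spec (CommRingCat.of A))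
    [HasInjectiveResolutions X'.Modules] :
    Curv2.IsGloballyGenerated ((Coh.Rpush g 1).obj (Coh.structureModule X')) ∧
      {x : X | Nontrivial (((Coh.Rpush g 1).obj (Coh.structureModule X')).presheaf.stalk x)}.Finite ∧
      (∀ x : X, Nontrivial (((Coh.Rpush g 1).obj (Coh.structureModule X')).presheaf.stalk x) → IsClosed ({x} : Set X)) ∧
      Module.length A (Coh.HH X' (Coh.structureModule X') 1) =
        Module.length A (Coh.HH X (Coh.structureModule X) 1) +
          Module.length A (Coh.HH X ((Coh.Rpush g 1).obj (Coh.structureModule X')) 0) := by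
  obtain ⟨U, hU, hUi⟩ := hX
  obtain ⟨U', hU', hUi'⟩ := hX'
  haveI := hUi
  haveI := hUi'
  haveI : IsProper (g ≫ (X ↘ Spec (CommRingCat.of A))) := hg.symm ▸ inferInstance
  haveI : IsProper g := IsProper.of_comp g (X ↘ Spec (CommRingCat.of A))
  haveI : IsLocallyNoetherian X := LocallyOfFiniteType.isLocallyNoetherian (X ↘ Spec (CommRingCat.of A))
  haveI : CompactSpace X := QuasiCompact.compactSpace_of_compactSpace (X ↘ Spec (CommRingCat.of A))
  haveI : IsNoetherian X := {}
  have hf := Groth.Agent.RegRes.isIso_generic_of_restrict (X ↘ Spec (CommRingCat.of A)) U hU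
  have hf' := Groth.Agent.RegRes.isIso_generic_of_restrict (X' ↘ Spec (CommRingCat.of A)) U' hU'
  have hgen : g (genericPoint X') = genericPoint X := by
    have h1 : (X ↘ Spec (CommRingCat.of A)) (g (genericPoint X')) =
        (X ↘ Spec (CommRingCat.of A)) (genericPoint X) := by
      rw [← Scheme.Hom.comp_apply, hg, Groth.Agent.SurfSeq.map_generic _ hf', Groth.Agent.SurfSeq.map_generic _ hf]
    exact Groth.Agent.SurfSeq.eq_of_isIso _ hf h1.symm hf
  have hbir : IsIso (g.stalkMap (genericPoint X')) :=
    Groth.Agent.RegRes.isIso_stalkMap_left g (X ↘ Spec (CommRingCat.of A)) _ (by rw [hg]; exact hf') (by rw [hgen]; exact hf)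
  have hd : ∀ x : X, ringKrullDim (X.presheaf.stalk x) ≤ 2 := fun x =>
    (Groth.Agent.NormSeq.dim_le _ hf x).trans ((SchTop.ringKrullDim_stalk_le _).trans
      ((PrimeSpectrum.topologicalKrullDim_eq_ringKrullDim (R := A)).trans hdim).le)
  obtain ⟨hgg, hfin, hcl⟩ := Groth.Agent.R1Push.support_Rpush_one hXn hd g hbir
  refine ⟨hgg, hfin, hcl, Groth.Agent.R1Push.length_h1 g hg ?_ ?_⟩
  · obtain ⟨hfin', hpt⟩ := Groth.Agent.R1Push.finite_bad hXn hd g hbir
    let V : X.Opens := ⟨(g '' {w | ¬ IsIso (g.stalkMap w)})ᶜ, by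
      rw [isOpen_compl_iff, ← Set.biUnion_of_singleton (g '' _)]
      exact hfin'.isClosed_biUnion hpt⟩
    have hV : genericPoint X ∈ V := by
      rintro ⟨w, hw, hwg⟩
      refine hw ?_
      obtain rfl : w = genericPoint X' :=
        Groth.Agent.SurfSeq.eq_of_isIso g hbir (hgen.trans hwg.symm) hbir
      exact hbir
    haveI := Groth.Agent.Sol.isIso_restrict_of_stalk g hbir V ⟨_, hV⟩ fun w hw => not_not.1 fun h => hw ⟨w, h, rfl⟩
    exact Groth.Agent.H26.Contract.bijective_app g ⟨_, hV⟩ hXn
  · exact Groth.Agent.RelPC17.HighVanish.subsingleton_HH_of_fibre_dim (X ↘ Spec (CommRingCat.of A)) 1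
      (Groth.Agent.RelPC17.BirFibre.fibre_dim_le_one _
        (Groth.Agent.RelPC17.BirFibre.dim_spec_le A 2 (by rw [hdim]; norm_cast)) U hU)
      Groth.Agent.QCoh.isQCoh_structureModule 2 (by omega)

end Groth.Agent.S7338
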