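import Groth.Statements.S7339
import Mathlib
import Groth.Agent.ExcTwist.Main

set_option autoImplicit false
universe u
open CategoryTheory CategoryTheory.Limits AlgebraicGeometry
open Resolve

namespace Groth.Agent.S7339

/-- Let X be a Noetherian scheme, ι : E → X a closed immersion which is an exceptional curve of the
first kind, with ideal sheaf I and M = O_X(E) an inverse of I for the tensor product, and L an
invertible O_X-module whose pullback to E ≅ P^1_k (for some field k and isomorphism e : P^1_k ≅ E)
is isomorphic to O(n). If H^1(X, L) = 0 and n ≥ 0, then H^1(X, L(iE)) = 0 for 0 ≤ i ≤ n + 1, where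
L(iE) = L ⊗ M^{⊗ i}. (The published statement also asserts, for n ≤ 0, that H^1(X, L) → H^1(X, L(E))
is injective; this row states only the vanishing for n ≥ 0.) -/
theorem result {E X : Scheme.{u}} [IsNoetherian X] (ι : E ⟶ X) [IsClosedImmersion ι]
    (hE : Models.IsExcCurve ι) (M : X.Modules) (hM : ClSub.IsInverseOf M (ClSub.idealMod ι.ker))
    (L : X.Modules) (hL : PicF.IsInvertible L)
    (k : Type u) [Field k] (e : CohB1.ProjSpace 1 k ≅ E) (n : ℕ)
    (hn : Nonempty ((Scheme.Modules.pullback (e.hom ≫ ι)).obj L ≅ Twist.twistProjSpace 1 k (n : ℤ)))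
    (h1 : Subsingleton (Coh.HH X L 1)) (i : ℕ) (hi : i ≤ n + 1) :
    Subsingleton (Coh.HH X (CohB1.tensorMod L (CohB1.tensorPow M i)) 1) := by
  exact Groth.Agent.ExcTwist.main ι hE M hM L hL k e n hn h1 i hi

end Groth.Agent.S7339
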