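import Groth.Statements.S7340
import Mathlib
-- import your own Groth.Agent.* helpers here

set_option autoImplicit false
universe u
open Polynomial
open Resolve

namespace Groth.Agent.S7340

open KaehlerDifferential

theorem universal (p : ℕ) (hp : p.Prime) :
    ∃ G : MvPolynomial (Fin 2) ℤ,
      MvPolynomial.pderiv 0 G = (MvPolynomial.X 0 + MvPolynomial.X 1) ^ (p - 1) - MvPolynomial.X 0 ^ (p - 1) ∧
      MvPolynomial.pderiv 1 G = (MvPolynomial.X 0 + MvPolynomial.X 1) ^ (p - 1) - MvPolynomial.X 1 ^ (p - 1) := by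
  obtain ⟨r, hr⟩ := exists_add_pow_prime_eq hp (MvPolynomial.X 0 : MvPolynomial (Fin 2) ℤ) (MvPolynomial.X 1)
  refine ⟨MvPolynomial.X 0 * MvPolynomial.X 1 * r, ?_, ?_⟩
  · refine mul_left_cancel₀ (Nat.cast_ne_zero.2 hp.ne_zero : (p : MvPolynomial (Fin 2) ℤ) ≠ 0) ?_
    have h := congrArg (MvPolynomial.pderiv (R := ℤ) (σ := Fin 2) 0) hr
    simp only [map_add, MvPolynomial.pderiv_pow, mul_assoc, Derivation.leibniz,
      Derivation.map_natCast, smul_eq_mul, MvPolynomial.pderiv_X_self, ne_eq, Fin.reduceEq,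
      not_false_eq_true, MvPolynomial.pderiv_X_of_ne, mul_zero, mul_one, zero_mul, add_zero,
      zero_add] at h ⊢
    linear_combination -h
  · refine mul_left_cancel₀ (Nat.cast_ne_zero.2 hp.ne_zero : (p : MvPolynomial (Fin 2) ℤ) ≠ 0) ?_
    have h := congrArg (MvPolynomial.pderiv (R := ℤ) (σ := Fin 2) 1) hr
    simp only [map_add, MvPolynomial.pderiv_pow, mul_assoc, Derivation.leibniz,
      Derivation.map_natCast, smul_eq_mul, MvPolynomial.pderiv_X_self, ne_eq, Fin.reduceEq,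
      not_false_eq_true, MvPolynomial.pderiv_X_of_ne, mul_zero, mul_one, zero_mul, add_zero,
      zero_add] at h ⊢
    linear_combination -h

theorem D_aeval {R S : Type*} [CommRing R] [CommRing S] [Algebra R S] {σ : Type*} [Fintype σ]
    [DecidableEq σ] (f : σ → S) (G : MvPolynomial σ ℤ) :
    D R S (MvPolynomial.aeval f G) = ∑ i, MvPolynomial.aeval f (MvPolynomial.pderiv i G) • D R S (f i) := by
  induction G using MvPolynomial.induction_on with
  | C n => simp
  | add a b ha hb => simp [ha, hb, add_smul, Finset.sum_add_distrib]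
  | mul_X a i ha =>
    simp only [map_mul, MvPolynomial.aeval_X, Derivation.leibniz, ha, map_add, smul_eq_mul,
      MvPolynomial.pderiv_X, add_smul, Finset.sum_add_distrib, Finset.smul_sum, smul_smul]
    congr 1
    rw [Finset.sum_eq_single i]
    · simp
    · intro j _ hj; simp [Pi.single_eq_of_ne (Ne.symm hj)]
    · simp

section Trace

variable {p : ℕ} [Fact p.Prime] {R : Type*} [CommRing R] [CharP R p] {S : Type*} [CommRing S]
  [Algebra R S] (hinj : Function.Injective (algebraMap R S))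
  {b : R} {y : S} (hy : y ^ p = algebraMap R S b)
  (hspan : ∀ z : S, ∃ c : Fin p → R, z = ∑ j, c j • y ^ (j : ℕ))
  {T : Ω[S⁄R] →ₗ[R] Ω[R⁄ℤ]}
  (hT : ∀ i : ℕ, i + 2 ≤ p → T (y ^ i • D R S y) = 0)
  (hT' : T (y ^ (p - 1) • D R S y) = D ℤ R b)

include hspan hT in
theorem exact_eq_zero (w : S) : T (D R S w) = 0 := by
  obtain ⟨c, rfl⟩ := hspan w
  simp only [map_sum, Derivation.map_smul, map_smul]
  refine Finset.sum_eq_zero fun j _ => ?_
  rw [Derivation.leibniz_pow, map_nsmul]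
  rcases Nat.eq_zero_or_pos (j : ℕ) with h | h
  · simp [h]
  · rw [hT _ (by have := j.isLt; omega)]; simp

include hspan hT in
theorem low (z : S) (i : ℕ) (hi : i + 2 ≤ p) : T (z ^ i • D R S z) = 0 := by
  have h := exact_eq_zero hspan hT (z ^ (i + 1))
  rw [Derivation.leibniz_pow, add_tsub_cancel_right, map_nsmul, ← Nat.cast_smul_eq_nsmul R] at h
  have hu : IsUnit ((i + 1 : ℕ) : R) := by
    have h1 : IsUnit ((i + 1 : ℕ) : ZMod p) := (isUnit_iff_ne_zero).2 fun h0 => by
      have := Nat.le_of_dvd (by omega) ((ZMod.natCast_eq_zero_iff _ _).1 h0)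
      omega
    simpa using h1.map (ZMod.castHom dvd_rfl R)
  exact hu.smul_eq_zero.1 h

include hspan hT in
theorem theta_add (u v : S) : T ((u + v) ^ (p - 1) • D R S (u + v)) =
    T (u ^ (p - 1) • D R S u) + T (v ^ (p - 1) • D R S v) := by
  obtain ⟨G, h0, h1⟩ := universal p Fact.out
  have h := exact_eq_zero hspan hT (MvPolynomial.aeval ![u, v] G)
  rw [D_aeval, Fin.sum_univ_two, h0, h1] at h
  simp only [map_sub, map_pow, map_add, MvPolynomial.aeval_X, Matrix.cons_val_zero,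
    Matrix.cons_val_one, sub_smul] at h
  rw [map_add (D R S), smul_add, map_add]
  try simp only [map_add, map_sub] at h
  linear_combination (norm := abel) h

omit [CharP R p] in
theorem scale (c : R) (w : S) :
    (c • w) ^ (p - 1) • D R S (c • w) = c ^ p • (w ^ (p - 1) • D R S w) := by
  have hp1 : p - 1 + 1 = p := Nat.sub_add_cancel (Fact.out (p := p.Prime)).one_le
  rw [Derivation.map_smul, _root_.smul_pow, ← algebraMap_smul S c, ← algebraMap_smul S (c ^ p),
    ← algebraMap_smul S (c ^ (p - 1)), smul_eq_mul, smul_smul, smul_smul]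
  congr 1
  conv_rhs => rw [← hp1, pow_succ, map_mul]
  simp
  ring

include hy hT' in
theorem theta_monomial (j : ℕ) :
    T ((y ^ j) ^ (p - 1) • D R S (y ^ j)) = D ℤ R (b ^ j) := by
  cases j with
  | zero => simp
  | succ j =>
    have hp1 : p - 1 + 1 = p := Nat.sub_add_cancel (Fact.out (p := p.Prime)).one_le
    have he : (y ^ (j + 1)) ^ (p - 1) * y ^ j = algebraMap R S (b ^ j) * y ^ (p - 1) := by
      rw [map_pow, ← hy, ← pow_mul, ← pow_mul, ← pow_add, ← pow_add]
      congr 1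
      conv_rhs => rw [← hp1]
      rw [hp1]
      have := Fact.out (p := p.Prime) |>.one_le
      obtain ⟨q, rfl⟩ : ∃ q, p = q + 1 := ⟨p - 1, by omega⟩
      simp; ring
    rw [Derivation.leibniz_pow, add_tsub_cancel_right, smul_comm, smul_smul, he, mul_smul,
      algebraMap_smul, map_nsmul, map_smul, hT', Derivation.leibniz_pow, add_tsub_cancel_right]

include hinj hy hspan hT hT' in
theorem top (z : S) (r : R) (hz : z ^ p = algebraMap R S r) :
    T (z ^ (p - 1) • D R S z) = D ℤ R r := by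
  obtain ⟨c, rfl⟩ := hspan z
  haveI : CharP S p := charP_of_injective_algebraMap hinj p
  have hr : r = ∑ j, c j ^ p * b ^ (j : ℕ) := by
    apply hinj
    rw [← hz, sum_pow_char, map_sum]
    refine Finset.sum_congr rfl fun j _ => ?_
    rw [_root_.smul_pow, Algebra.smul_def, map_mul, map_pow, map_pow, ← hy, ← pow_mul, ← pow_mul, mul_comm p]
  let θ : S →+ Ω[R⁄ℤ] := AddMonoidHom.mk' (fun w => T (w ^ (p - 1) • D R S w)) (theta_add hspan hT)
  show θ (∑ j, c j • y ^ (j : ℕ)) = _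
  rw [hr, map_sum, map_sum]
  refine Finset.sum_congr rfl fun j _ => ?_
  show T _ = _
  rw [scale, map_smul, theta_monomial hy hT', Derivation.leibniz (D ℤ R) (c j ^ p),
    Derivation.leibniz_pow (D ℤ R) (c j) p, ← Nat.cast_smul_eq_nsmul R p, CharP.cast_eq_zero,
    zero_smul, smul_zero, add_zero]

include hinj hy hspan hT hT' in
theorem value (z : S) (r : R) (hz : z ^ p = algebraMap R S r) (m : ℕ) :
    T (z ^ m • D R S z) = r ^ (m / p) • if m % p + 1 = p then D ℤ R r else 0 := by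
  conv_lhs => rw [← Nat.div_add_mod m p, pow_add, pow_mul, hz, ← map_pow, mul_smul, algebraMap_smul,
    map_smul]
  have hlt := Nat.mod_lt m (Fact.out (p := p.Prime)).pos
  split_ifs with h
  · rw [show m % p = p - 1 by omega, top hinj hy hspan hT hT' z r hz]
  · rw [low hspan hT z _ (by omega)]

end Trace

theorem expand_sum {R : Type*} [CommRing R] {S M : Type*} [CommRing S] [Algebra R S]
    [AddCommGroup M] [Module R M] (T : Ω[S⁄R] →ₗ[R] M) {n : ℕ} (c d : Fin n → R) (z : S) :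
    T ((∑ i, c i • z ^ (i : ℕ)) • D R S (∑ j, d j • z ^ (j : ℕ))) =
      ∑ i, ∑ j, (c i * d j) • (j : ℕ) • T (z ^ ((i : ℕ) + ((j : ℕ) - 1)) • D R S z) := by
  simp only [map_sum, Derivation.map_smul, Finset.sum_smul, Finset.smul_sum]
  rw [Finset.sum_comm]
  refine Finset.sum_congr rfl fun i _ => Finset.sum_congr rfl fun j _ => ?_
  rw [Derivation.leibniz_pow, smul_assoc, smul_comm _ (d j), smul_comm _ (j : ℕ), smul_smul (M := S),
    ← pow_add, map_smul, map_smul, map_nsmul, smul_smul]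

theorem data (p : ℕ) [Fact p.Prime] (R : Type u) [CommRing R] [Nontrivial R] (a : R) :
    Function.Injective (algebraMap R (AdjoinRoot (X ^ p - C a : R[X]))) ∧
    AdjoinRoot.root (X ^ p - C a) ^ p = algebraMap R (AdjoinRoot (X ^ p - C a : R[X])) a ∧
    ∀ z : AdjoinRoot (X ^ p - C a : R[X]), ∃ c : Fin p → R,
      z = ∑ j, c j • AdjoinRoot.root (X ^ p - C a) ^ (j : ℕ) := by
  have hp := (Fact.out (p := p.Prime)).ne_zero
  have hm : (X ^ p - C a : R[X]).Monic := monic_X_pow_sub_C a hp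
  have hd : (X ^ p - C a : R[X]).natDegree = p := natDegree_X_pow_sub_C
  refine ⟨(injective_iff_map_eq_zero _).2 fun r hr => ?_, ?_, fun z => ?_⟩
  · by_contra h0
    refine hm.not_dvd_of_natDegree_lt (C_ne_zero.2 h0) ?_ (AdjoinRoot.mk_eq_zero.1 hr)
    rw [natDegree_C, hd]; omega
  · have := AdjoinRoot.eval₂_root (X ^ p - C a)
    simpa [eval₂_sub, sub_eq_zero] using this
  · let pb := AdjoinRoot.powerBasis' hm
    have hdim : pb.dim = p := hd
    refine ⟨fun j => pb.basis.repr z (Fin.cast hdim.symm j), ?_⟩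
    conv_lhs => rw [← pb.basis.sum_repr z]
    rw [← Fintype.sum_equiv (finCongr hdim.symm) _ _ (fun j => rfl)]
    refine Finset.sum_congr rfl fun j _ => ?_
    rw [PowerBasis.basis_eq_pow]
    rfl

/-- Let p be a prime number and R an F_p-algebra, a, b ∈ R, S_a = R[x]/(x^p - a) and S_b = R[y]/(y^p -
b). The trace Tr_x : Ω_{S_a/R} → Ω_R is the R-linear map with x^i dx ↦ 0 for 0 ≤ i ≤ p - 2 and
x^{p-1} dx ↦ da (these determine it, Ω_{S_a/R} being free over R on the x^i dx), and similarly Tr_y.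
Then for every R-algebra homomorphism φ : S_a → S_b one has Tr_x = Tr_y ∘ φ_*: for all s, t ∈ S_a,
Tr_x(s dt) = Tr_y(φ(s) dφ(t)). Here Ω_R is the module of absolute differentials Ω_{R/Z}. -/
theorem result (p : ℕ) [Fact p.Prime] (R : Type u) [CommRing R] [CharP R p] (a b : R)
    (φ : AdjoinRoot (X ^ p - C a : R[X]) →ₐ[R] AdjoinRoot (X ^ p - C b : R[X]))
    (Tx : Ω[AdjoinRoot (X ^ p - C a : R[X])⁄R] →ₗ[R] Ω[R⁄ℤ])
    (Ty : Ω[AdjoinRoot (X ^ p - C b : R[X])⁄R] →ₗ[R] Ω[R⁄ℤ])
    (hTx : ∀ i : ℕ, i + 2 ≤ p →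
      Tx (AdjoinRoot.root (X ^ p - C a) ^ i • KaehlerDifferential.D R _ (AdjoinRoot.root (X ^ p - C a))) = 0)
    (hTx' : Tx (AdjoinRoot.root (X ^ p - C a) ^ (p - 1) • KaehlerDifferential.D R _ (AdjoinRoot.root (X ^ p - C a))) =
      KaehlerDifferential.D ℤ R a)
    (hTy : ∀ i : ℕ, i + 2 ≤ p →
      Ty (AdjoinRoot.root (X ^ p - C b) ^ i • KaehlerDifferential.D R _ (AdjoinRoot.root (X ^ p - C b))) = 0)
    (hTy' : Ty (AdjoinRoot.root (X ^ p - C b) ^ (p - 1) • KaehlerDifferential.D R _ (AdjoinRoot.root (X ^ p - C b))) =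
      KaehlerDifferential.D ℤ R b)
    (s t : AdjoinRoot (X ^ p - C a : R[X])) :
    Tx (s • KaehlerDifferential.D R _ t) = Ty (φ s • KaehlerDifferential.D R _ (φ t)) := by
  haveI : Nontrivial R := CharP.nontrivial_of_char_ne_one (Fact.out (p := p.Prime)).ne_one
  obtain ⟨ia, ha, sa⟩ := data p R a
  obtain ⟨ib, hb, sb⟩ := data p R b
  set x := AdjoinRoot.root (X ^ p - C a : R[X])
  have hz : φ x ^ p = algebraMap R _ a := by rw [← map_pow, ha, AlgHom.commutes]
  have key : ∀ m : ℕ, Tx (x ^ m • KaehlerDifferential.D R _ x) =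
      Ty (φ x ^ m • KaehlerDifferential.D R _ (φ x)) := fun m => by
    rw [value ia ha sa hTx hTx' x a ha, value ib hb sb hTy hTy' (φ x) a hz]
  obtain ⟨cs, rfl⟩ := sa s
  obtain ⟨ct, rfl⟩ := sa t
  rw [expand_sum Tx cs ct x]
  have hφ : ∀ c : Fin p → R, φ (∑ i, c i • x ^ (i : ℕ)) = ∑ i, c i • φ x ^ (i : ℕ) := fun c => by simp [map_sum]
  rw [hφ, hφ]
  rw [expand_sum Ty cs ct (φ x)]
  simp only [key]


end Groth.Agent.S7340
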