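import Groth.Statements.S7341
import Groth.Agent.NumType.Rows
-- import your own Groth.Agent.* helpers here

set_option autoImplicit false
open Finset
open Models Models.NumericalType

namespace Groth.Agent.S7341

/-- Classification of proper subgraphs which are chains of three vertices: let T be a numerical type on
n > 3 indices and i, j, k distinct (-2)-indices with a_ij > 0 and a_jk > 0. Then a_ik = 0 and, up to
reversing the order of i, j, k, one of the following holds for some integer w: (A3) w_i = w_j = w_k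
= w, a_ij = a_jk = w, with 2 m_i ≥ m_j, 2 m_j ≥ m_i + m_k, 2 m_k ≥ m_j; (C3) w_i = w_j = w, w_k =
2w, a_ij = w, a_jk = 2w, with 2 m_i ≥ m_j, 2 m_j ≥ m_i + 2 m_k, 2 m_k ≥ m_j; (B3) w_i = w_j = 2w,
w_k = w, a_ij = a_jk = 2w, with 2 m_i ≥ m_j, 2 m_j ≥ m_i + m_k, m_k ≥ m_j. -/
theorem result {n : ℕ} (T : Models.NumericalType n) (hn : 3 < n) (i j k : Fin n)
    (hij : i ≠ j) (hjk : j ≠ k) (hik : i ≠ k) (hi : T.IsMinusTwo i) (hj : T.IsMinusTwo j) (hk : T.IsMinusTwo k)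
    (h1 : 0 < T.a i j) (h2 : 0 < T.a j k) :
    T.a i k = 0 ∧ ∃ (i' k' : Fin n) (w : ℤ), ((i' = i ∧ k' = k) ∨ (i' = k ∧ k' = i)) ∧
      ((T.w i' = w ∧ T.w j = w ∧ T.w k' = w ∧ T.a i' j = w ∧ T.a j k' = w ∧
          T.m j ≤ 2 * T.m i' ∧ T.m i' + T.m k' ≤ 2 * T.m j ∧ T.m j ≤ 2 * T.m k') ∨
        (T.w i' = w ∧ T.w j = w ∧ T.w k' = 2 * w ∧ T.a i' j = w ∧ T.a j k' = 2 * w ∧
          T.m j ≤ 2 * T.m i' ∧ T.m i' + 2 * T.m k' ≤ 2 * T.m j ∧ T.m j ≤ 2 * T.m k') ∨
        (T.w i' = 2 * w ∧ T.w j = 2 * w ∧ T.w k' = w ∧ T.a i' j = 2 * w ∧ T.a j k' = 2 * w ∧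
          T.m j ≤ 2 * T.m i' ∧ T.m i' + T.m k' ≤ 2 * T.m j ∧ T.m j ≤ T.m k')) := by
  let v : Fin (2 + 1) ↪ Fin n := ⟨![i, j, k], fun a b e => by
    fin_cases a <;> fin_cases b <;> simp_all [eq_comm]⟩
  have hp := NumType.isPath_ofFin (T := T) v le_rfl (fun p => by fin_cases p <;> assumption)
    (fun p q hpq _ => by
      fin_cases p <;> fin_cases q <;> simp at hpq
      · exact h1.ne'
      · exact h2.ne')
  have e0 : NumType.ofFin v 0 = i := by simp [NumType.ofFin, v]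
  have e1 : NumType.ofFin v 1 = j := by simp [NumType.ofFin, v]
  have e2 : NumType.ofFin v 2 = k := by simp [NumType.ofFin, v]
  have hc : T.a i k = 0 := by
    simpa [e0, e2] using NumType.chord_eq_zero hp (by omega) (i := 0) (j := 2) (by omega) (by omega)
  refine ⟨hc, ?_⟩
  obtain ⟨u, w, hu, hor, hform⟩ := NumType.chain_form hp le_rfl (by omega)
  have hij' : u 1 = j ∧ ((u 0 = i ∧ u 2 = k) ∨ (u 0 = k ∧ u 2 = i)) := by
    rcases hor with h | h <;> simp [h 0 (by omega), h 1 (by omega), h 2 (by omega), e0, e1, e2]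
  obtain ⟨hu1, hu02⟩ := hij'
  have r1 := NumType.row1 (hu.two 0 (by omega)) (hu.ne (i := 1) (j := 0) (by omega) (by omega) (by omega))
  have r2 := NumType.row2 (hu.two 1 (by omega)) (hu.ne (i := 0) (j := 1) (by omega) (by omega) (by omega))
    (hu.ne (i := 2) (j := 1) (by omega) (by omega) (by omega)) (hu.ne (i := 0) (j := 2) (by omega) (by omega) (by omega))
  have r3 := NumType.row1 (hu.two 2 (by omega)) (hu.ne (i := 1) (j := 2) (by omega) (by omega) (by omega))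
  rw [NumType.a_symm T (u 2) (u 1)] at r3
  rw [NumType.a_symm T (u 1) (u 0)] at r2
  refine ⟨u 0, u 2, w, hu02, ?_⟩
  rw [← hu1]
  have p0 := T.w_pos (u 0)
  have p2 := T.w_pos (u 2)
  rcases hform with ⟨hw, ha⟩ | ⟨hw, hwl, ha, hal⟩ | ⟨hw, hwl, ha⟩ | ⟨h4, -⟩
  · have w0 := hw 0 (by omega); have w1 := hw 1 (by omega); have w2 := hw 2 (by omega)
    have a0 : T.a (u 0) (u 1) = w := ha 0 (by omega)
    have a1 : T.a (u 1) (u 2) = w := ha 1 (by omega)
    simp only [w0, w1, w2, a0, a1] at r1 r2 r3 p0 p2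
    exact Or.inl ⟨w0, w1, w2, a0, a1, by nlinarith, by nlinarith, by nlinarith⟩
  · have w0 := hw 0 (by omega); have w1 := hw 1 (by omega)
    have w2 : T.w (u 2) = 2 * w := hwl
    have a0 : T.a (u 0) (u 1) = w := ha 0 (by omega)
    have a1 : T.a (u 1) (u 2) = 2 * w := hal
    simp only [w0, w1, w2, a0, a1] at r1 r2 r3 p0 p2
    exact Or.inr (Or.inl ⟨w0, w1, w2, a0, a1, by nlinarith, by nlinarith, by nlinarith⟩)
  · have w0 := hw 0 (by omega); have w1 := hw 1 (by omega)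
    have w2 : T.w (u 2) = w := hwl
    have a0 : T.a (u 0) (u 1) = 2 * w := ha 0 (by omega)
    have a1 : T.a (u 1) (u 2) = 2 * w := ha 1 (by omega)
    simp only [w0, w1, w2, a0, a1] at r1 r2 r3 p0 p2
    exact Or.inr (Or.inr ⟨w0, w1, w2, a0, a1, by nlinarith, by nlinarith, by nlinarith⟩)
  · omega

end Groth.Agent.S7341
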