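import Groth.Statements.S7342
import Groth.Agent.NumType.Rows
-- import your own Groth.Agent.* helpers here

set_option autoImplicit false
open Finset
open Models Models.NumericalType

namespace Groth.Agent.S7342

/-- Let T be a numerical type on n indices, t ≥ 4 and n > t + 2. Then no t + 2 (-2)-indices of T,
pairwise distinct and numbered i_0, …, i_{t+1}, satisfy: a_{i_j i_{j+1}} > 0 for 1 ≤ j ≤ t - 1,
a_{i_0 i_2} > 0 and a_{i_{t-1} i_{t+1}} > 0. -/
theorem result {n : ℕ} (T : Models.NumericalType n) (t : ℕ) (ht : 4 ≤ t) (hn : t + 2 < n)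
    (v : Fin (t + 2) ↪ Fin n) (hv : ∀ j, T.IsMinusTwo (v j))
    (hchain : ∀ j j' : Fin (t + 2), 1 ≤ j.val → j.val + 1 ≤ t → j'.val = j.val + 1 → 0 < T.a (v j) (v j'))
    (h02 : ∀ j j' : Fin (t + 2), j.val = 0 → j'.val = 2 → 0 < T.a (v j) (v j'))
    (hlast : ∀ j j' : Fin (t + 2), j.val = t - 1 → j'.val = t + 1 → 0 < T.a (v j) (v j')) : False := by
  have hP : NumType.IsPath T (fun q => NumType.ofFin v (q + 2)) (t - 3 + 1) :=
    { inj := fun a ha b hb e => by
        simp only [NumType.ofFin_eq v (show a + 2 < t + 1 + 1 by omega),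
          NumType.ofFin_eq v (show b + 2 < t + 1 + 1 by omega)] at e
        simpa using v.injective e
      two := fun a ha => by rw [NumType.ofFin_eq _ (by omega)]; exact hv _
      edge := fun a ha => by
        simp only [NumType.ofFin_eq v (show a + 2 < t + 1 + 1 by omega),
          NumType.ofFin_eq v (show a + 1 + 2 < t + 1 + 1 by omega)]
        exact hchain _ _ (by simp) (by simp; omega) (by simp) }
  let pos : Fin 2 ⊕ Fin 2 → Fin (t + 2) := Sum.elim
    ![⟨0, by omega⟩, ⟨1, by omega⟩] ![⟨t, by omega⟩, ⟨t + 1, by omega⟩]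
  have hpos : ∀ s, (pos s).val ≤ 1 ∨ t ≤ (pos s).val := by
    rintro (s | s) <;> fin_cases s <;> simp [pos]
  refine NumType.no_shapeD hP (by omega) (by omega) (fun s => v (pos s)) ?_ (fun s => hv _) ?_ ?_ ?_
  · refine v.injective.comp ?_
    rintro (a | a) (b | b) e <;> fin_cases a <;> fin_cases b <;>
      simp [pos, Fin.ext_iff] at e ⊢ <;> omega
  · intro s q hq
    rw [NumType.ofFin_eq _ (show q + 2 < t + 1 + 1 by omega)]
    refine v.injective.ne fun e => ?_
    have := congrArg Fin.val e
    have := hpos s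
    simp at *; omega
  · intro s
    rw [NumType.ofFin_eq _ (show 0 + 2 < t + 1 + 1 by omega)]
    fin_cases s
    · exact h02 _ _ rfl rfl
    · exact hchain _ _ (by simp [pos]) (by simp [pos]; omega) (by simp [pos])
  · intro s
    rw [NumType.ofFin_eq _ (show t - 3 + 2 < t + 1 + 1 by omega), NumType.a_symm]
    fin_cases s
    · exact hchain _ _ (by simp; try omega) (by simp; try omega) (by simp [pos]; try omega)
    · exact hlast _ _ (by simp; omega) (by simp [pos])

end Groth.Agent.S7342
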