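import Groth.Statements.S7346
import Groth.Agent.NumType.Branch
-- import your own Groth.Agent.* helpers here

set_option autoImplicit false
open Finset
open Models Models.NumericalType

namespace Groth.Agent.S7346

/-- Classification of proper subgraphs of type D4 (one vertex joined to three others): let T be a
numerical type on n > 4 indices and i_1, …, i_4 distinct (-2)-indices with a_{12}, a_{13}, a_{14}
nonzero. Then for some integer w all w_{i_j} equal w, these intersection numbers equal w, all other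
a_{i_j i_k} (j ≠ k) vanish, and 2 m_1 ≥ m_2 + m_3 + m_4, 2 m_2 ≥ m_1, 2 m_3 ≥ m_1, 2 m_4 ≥ m_1. -/
theorem result {n : ℕ} (T : Models.NumericalType n) (hn : 4 < n)
    (v : Fin 4 ↪ Fin n) (hv : ∀ j, T.IsMinusTwo (v j)) (h01 : T.a (v 0) (v 1) ≠ 0) (h02 : T.a (v 0) (v 2) ≠ 0) (h03 : T.a (v 0) (v 3) ≠ 0) :
    ∃ w : ℤ, (∀ j : Fin 4, T.w (v j) = w) ∧
      T.a (v 0) (v 1) = w ∧
      T.a (v 0) (v 2) = w ∧
      T.a (v 0) (v 3) = w ∧
      T.a (v 1) (v 2) = 0 ∧
      T.a (v 1) (v 3) = 0 ∧
      T.a (v 2) (v 3) = 0 ∧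
      T.m (v 1) + T.m (v 2) + T.m (v 3) ≤ 2 * T.m (v 0) ∧
      T.m (v 0) ≤ 2 * T.m (v 1) ∧
      T.m (v 0) ≤ 2 * T.m (v 2) ∧
      T.m (v 0) ≤ 2 * T.m (v 3) := by
  let v' : Fin (3 + 1) ↪ Fin n := (Equiv.swap (0 : Fin 4) 1).toEmbedding.trans v
  have hn' : 3 + 1 < n := by omega
  have e0 : v' 0 = v 1 := by simp [v']
  have e1 : v' 1 = v 0 := by simp [v']
  have e2 : v' 2 = v 2 := by simp [v', Equiv.swap_apply_of_ne_of_ne]
  have e3 : v' 3 = v 3 := by simp [v', Equiv.swap_apply_of_ne_of_ne]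
  obtain ⟨w, hw0, hw, ha, hax, h0⟩ := NumType.branch_fin v' (fun j => hv _) hn' (t := 3) (s := 1)
    (by omega) (by omega)
    (fun j j' e h => by
      fin_cases j <;> fin_cases j' <;> simp at e h
      · simpa [v', NumType.a_symm T (v 1) (v 0)] using h01
      · simpa [v', Equiv.swap_apply_of_ne_of_ne] using h02)
    (fun j j' e e' => by
      fin_cases j <;> fin_cases j' <;> simp at e e'
      simpa [v', Equiv.swap_apply_of_ne_of_ne] using h03)
  have a01 : T.a (v 0) (v 1) = w := by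
    have := ha 0 1 rfl (by decide); rwa [e0, e1, NumType.a_symm] at this
  have a02 : T.a (v 0) (v 2) = w := by
    have := ha 1 2 rfl (by decide); rwa [e1, e2] at this
  have a03 : T.a (v 0) (v 3) = w := by
    have := hax 1 3 rfl rfl; rwa [e1, e3] at this
  have a12 : T.a (v 1) (v 2) = 0 := by
    have := h0 0 2 (by decide) (by decide) (by decide); rwa [e0, e2] at this
  have a13 : T.a (v 1) (v 3) = 0 := by
    have := h0 0 3 (by decide) (by decide) (by decide); rwa [e0, e3] at this
  have a23 : T.a (v 2) (v 3) = 0 := by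
    have := h0 2 3 (by decide) (by decide) (by decide); rwa [e2, e3] at this
  have hw' : ∀ j, T.w (v j) = w := fun j => by
    have := hw (Equiv.swap (0 : Fin 4) 1 j)
    simpa [v'] using this
  have ne : ∀ p q : Fin 4, p ≠ q → v p ≠ v q := fun p q h => v.injective.ne h
  have r0 := NumType.row3 (hv 0) (ne 1 0 (by decide)) (ne 2 0 (by decide)) (ne 3 0 (by decide))
    (ne 1 2 (by decide)) (ne 1 3 (by decide)) (ne 2 3 (by decide))
  have r1 := NumType.row1 (hv 1) (ne 0 1 (by decide))
  have r2 := NumType.row1 (hv 2) (ne 0 2 (by decide))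
  have r3 := NumType.row1 (hv 3) (ne 0 3 (by decide))
  simp only [a01, a02, a03, hw'] at r0
  rw [NumType.a_symm T (v 1), a01, hw'] at r1
  rw [NumType.a_symm T (v 2), a02, hw'] at r2
  rw [NumType.a_symm T (v 3), a03, hw'] at r3
  exact ⟨w, hw', a01, a02, a03, a12, a13, a23, by nlinarith, by nlinarith, by nlinarith, by nlinarith⟩

end Groth.Agent.S7346
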