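import Groth.Statements.S7349
import Groth.Agent.NumType.Branch
-- import your own Groth.Agent.* helpers here

set_option autoImplicit false
open Finset
open Models Models.NumericalType

namespace Groth.Agent.S7349

/-- Classification of proper subgraphs of type E7 (a chain i_1 … i_6 with i_7 joined to i_4): let T be a
numerical type on n > 7 indices and i_1, …, i_7 distinct (-2)-indices with a_{12}, a_{23}, a_{34},
a_{45}, a_{56}, a_{47} nonzero. Then for some integer w all w_{i_j} equal w, these intersection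
numbers equal w, all other a_{i_j i_k} (j ≠ k) vanish, and 2 m_1 ≥ m_2, 2 m_2 ≥ m_1 + m_3, 2 m_3 ≥
m_2 + m_4, 2 m_4 ≥ m_3 + m_5 + m_7, 2 m_5 ≥ m_4 + m_6, 2 m_6 ≥ m_5, 2 m_7 ≥ m_4. -/
theorem result {n : ℕ} (T : Models.NumericalType n) (hn : 7 < n)
    (v : Fin 7 ↪ Fin n) (hv : ∀ j, T.IsMinusTwo (v j)) (h01 : T.a (v 0) (v 1) ≠ 0) (h12 : T.a (v 1) (v 2) ≠ 0) (h23 : T.a (v 2) (v 3) ≠ 0) (h34 : T.a (v 3) (v 4) ≠ 0) (h45 : T.a (v 4) (v 5) ≠ 0) (h36 : T.a (v 3) (v 6) ≠ 0) :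
    ∃ w : ℤ, (∀ j : Fin 7, T.w (v j) = w) ∧
      T.a (v 0) (v 1) = w ∧
      T.a (v 1) (v 2) = w ∧
      T.a (v 2) (v 3) = w ∧
      T.a (v 3) (v 4) = w ∧
      T.a (v 4) (v 5) = w ∧
      T.a (v 3) (v 6) = w ∧
      T.a (v 0) (v 2) = 0 ∧
      T.a (v 0) (v 3) = 0 ∧
      T.a (v 0) (v 4) = 0 ∧
      T.a (v 0) (v 5) = 0 ∧
      T.a (v 0) (v 6) = 0 ∧
      T.a (v 1) (v 3) = 0 ∧
      T.a (v 1) (v 4) = 0 ∧
      T.a (v 1) (v 5) = 0 ∧
      T.a (v 1) (v 6) = 0 ∧
      T.a (v 2) (v 4) = 0 ∧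
      T.a (v 2) (v 5) = 0 ∧
      T.a (v 2) (v 6) = 0 ∧
      T.a (v 3) (v 5) = 0 ∧
      T.a (v 4) (v 6) = 0 ∧
      T.a (v 5) (v 6) = 0 ∧
      T.m (v 1) ≤ 2 * T.m (v 0) ∧
      T.m (v 0) + T.m (v 2) ≤ 2 * T.m (v 1) ∧
      T.m (v 1) + T.m (v 3) ≤ 2 * T.m (v 2) ∧
      T.m (v 2) + T.m (v 4) + T.m (v 6) ≤ 2 * T.m (v 3) ∧
      T.m (v 3) + T.m (v 5) ≤ 2 * T.m (v 4) ∧
      T.m (v 4) ≤ 2 * T.m (v 5) ∧
      T.m (v 3) ≤ 2 * T.m (v 6) := by
  obtain ⟨w, hw0, hw, ha, hax, h0⟩ := NumType.branch_fin v hv hn (t := 6) (s := 3) (by omega) (by omega)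
    (fun j j' e h => by fin_cases j <;> fin_cases j' <;> simp at e h <;> assumption)
    (fun j j' e e' => by fin_cases j <;> fin_cases j' <;> simp at e e' <;> assumption)
  have e01 : T.a (v 0) (v 1) = w := ha 0 1 rfl (by decide)
  have e10 : T.a (v 1) (v 0) = w := (NumType.a_symm T (v 1) (v 0)).trans e01
  have e12 : T.a (v 1) (v 2) = w := ha 1 2 rfl (by decide)
  have e21 : T.a (v 2) (v 1) = w := (NumType.a_symm T (v 2) (v 1)).trans e12
  have e23 : T.a (v 2) (v 3) = w := ha 2 3 rfl (by decide)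
  have e32 : T.a (v 3) (v 2) = w := (NumType.a_symm T (v 3) (v 2)).trans e23
  have e34 : T.a (v 3) (v 4) = w := ha 3 4 rfl (by decide)
  have e43 : T.a (v 4) (v 3) = w := (NumType.a_symm T (v 4) (v 3)).trans e34
  have e45 : T.a (v 4) (v 5) = w := ha 4 5 rfl (by decide)
  have e54 : T.a (v 5) (v 4) = w := (NumType.a_symm T (v 5) (v 4)).trans e45
  have e36 : T.a (v 3) (v 6) = w := hax 3 6 rfl rfl
  have e63 : T.a (v 6) (v 3) = w := (NumType.a_symm T (v 6) (v 3)).trans e36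
  have r0 := NumType.row1 (hv 0) (v.injective.ne (by decide : (1 : Fin 7) ≠ 0))
  simp only [e01, hw 0] at r0
  have r1 := NumType.row2 (hv 1) (v.injective.ne (by decide : (0 : Fin 7) ≠ 1)) (v.injective.ne (by decide : (2 : Fin 7) ≠ 1)) (v.injective.ne (by decide : (0 : Fin 7) ≠ 2))
  simp only [e10, e12, hw 1] at r1
  have r2 := NumType.row2 (hv 2) (v.injective.ne (by decide : (1 : Fin 7) ≠ 2)) (v.injective.ne (by decide : (3 : Fin 7) ≠ 2)) (v.injective.ne (by decide : (1 : Fin 7) ≠ 3))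
  simp only [e21, e23, hw 2] at r2
  have r3 := NumType.row3 (hv 3) (v.injective.ne (by decide : (2 : Fin 7) ≠ 3)) (v.injective.ne (by decide : (4 : Fin 7) ≠ 3)) (v.injective.ne (by decide : (6 : Fin 7) ≠ 3)) (v.injective.ne (by decide : (2 : Fin 7) ≠ 4)) (v.injective.ne (by decide : (2 : Fin 7) ≠ 6)) (v.injective.ne (by decide : (4 : Fin 7) ≠ 6))
  simp only [e32, e34, e36, hw 3] at r3
  have r4 := NumType.row2 (hv 4) (v.injective.ne (by decide : (3 : Fin 7) ≠ 4)) (v.injective.ne (by decide : (5 : Fin 7) ≠ 4)) (v.injective.ne (by decide : (3 : Fin 7) ≠ 5))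
  simp only [e43, e45, hw 4] at r4
  have r5 := NumType.row1 (hv 5) (v.injective.ne (by decide : (4 : Fin 7) ≠ 5))
  simp only [e54, hw 5] at r5
  have r6 := NumType.row1 (hv 6) (v.injective.ne (by decide : (3 : Fin 7) ≠ 6))
  simp only [e63, hw 6] at r6
  exact ⟨w, hw, e01, e12, e23, e34, e45, e36, h0 0 2 (by decide) (by decide) (by decide), h0 0 3 (by decide) (by decide) (by decide), h0 0 4 (by decide) (by decide) (by decide), h0 0 5 (by decide) (by decide) (by decide), h0 0 6 (by decide) (by decide) (by decide), h0 1 3 (by decide) (by decide) (by decide), h0 1 4 (by decide) (by decide) (by decide), h0 1 5 (by decide) (by decide) (by decide), h0 1 6 (by decide) (by decide) (by decide), h0 2 4 (by decide) (by decide) (by decide), h0 2 5 (by decide) (by decide) (by decide), h0 2 6 (by decide) (by decide) (by decide), h0 3 5 (by decide) (by decide) (by decide), h0 4 6 (by decide) (by decide) (by decide), h0 5 6 (by decide) (by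 decide) (by decide), by nlinarith [r0], by nlinarith [r1], by nlinarith [r2], by nlinarith [r3], by nlinarith [r4], by nlinarith [r5], by nlinarith [r6]⟩

end Groth.Agent.S7349
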