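import Groth.Statements.S7350
import Groth.Agent.NumType.Branch
-- import your own Groth.Agent.* helpers here

set_option autoImplicit false
open Finset
open Models Models.NumericalType

namespace Groth.Agent.S7350

/-- Classification of proper subgraphs of type E8 (a chain i_1 … i_7 with i_8 joined to i_5): let T be a
numerical type on n > 8 indices and i_1, …, i_8 distinct (-2)-indices with a_{12}, a_{23}, a_{34},
a_{45}, a_{56}, a_{67}, a_{58} nonzero. Then for some integer w all w_{i_j} equal w, these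
intersection numbers equal w, all other a_{i_j i_k} (j ≠ k) vanish, and 2 m_1 ≥ m_2, 2 m_2 ≥ m_1 +
m_3, 2 m_3 ≥ m_2 + m_4, 2 m_4 ≥ m_3 + m_5, 2 m_5 ≥ m_4 + m_6 + m_8, 2 m_6 ≥ m_5 + m_7, 2 m_7 ≥ m_6,
2 m_8 ≥ m_5. (The published statement lists a_{65} and a_{57} among the nonzero entries, which
contradicts its own conclusion a_{57} = 0; this row uses the edges of the E8 graph, a_{67} and
a_{58}, as the pictured graph and the matrix give them.) -/
theorem result {n : ℕ} (T : Models.NumericalType n) (hn : 8 < n)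
    (v : Fin 8 ↪ Fin n) (hv : ∀ j, T.IsMinusTwo (v j)) (h01 : T.a (v 0) (v 1) ≠ 0) (h12 : T.a (v 1) (v 2) ≠ 0) (h23 : T.a (v 2) (v 3) ≠ 0) (h34 : T.a (v 3) (v 4) ≠ 0) (h45 : T.a (v 4) (v 5) ≠ 0) (h56 : T.a (v 5) (v 6) ≠ 0) (h47 : T.a (v 4) (v 7) ≠ 0) :
    ∃ w : ℤ, (∀ j : Fin 8, T.w (v j) = w) ∧
      T.a (v 0) (v 1) = w ∧
      T.a (v 1) (v 2) = w ∧
      T.a (v 2) (v 3) = w ∧
      T.a (v 3) (v 4) = w ∧
      T.a (v 4) (v 5) = w ∧
      T.a (v 5) (v 6) = w ∧
      T.a (v 4) (v 7) = w ∧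
      T.a (v 0) (v 2) = 0 ∧
      T.a (v 0) (v 3) = 0 ∧
      T.a (v 0) (v 4) = 0 ∧
      T.a (v 0) (v 5) = 0 ∧
      T.a (v 0) (v 6) = 0 ∧
      T.a (v 0) (v 7) = 0 ∧
      T.a (v 1) (v 3) = 0 ∧
      T.a (v 1) (v 4) = 0 ∧
      T.a (v 1) (v 5) = 0 ∧
      T.a (v 1) (v 6) = 0 ∧
      T.a (v 1) (v 7) = 0 ∧
      T.a (v 2) (v 4) = 0 ∧
      T.a (v 2) (v 5) = 0 ∧
      T.a (v 2) (v 6) = 0 ∧
      T.a (v 2) (v 7) = 0 ∧
      T.a (v 3) (v 5) = 0 ∧
      T.a (v 3) (v 6) = 0 ∧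
      T.a (v 3) (v 7) = 0 ∧
      T.a (v 4) (v 6) = 0 ∧
      T.a (v 5) (v 7) = 0 ∧
      T.a (v 6) (v 7) = 0 ∧
      T.m (v 1) ≤ 2 * T.m (v 0) ∧
      T.m (v 0) + T.m (v 2) ≤ 2 * T.m (v 1) ∧
      T.m (v 1) + T.m (v 3) ≤ 2 * T.m (v 2) ∧
      T.m (v 2) + T.m (v 4) ≤ 2 * T.m (v 3) ∧
      T.m (v 3) + T.m (v 5) + T.m (v 7) ≤ 2 * T.m (v 4) ∧
      T.m (v 4) + T.m (v 6) ≤ 2 * T.m (v 5) ∧
      T.m (v 5) ≤ 2 * T.m (v 6) ∧
      T.m (v 4) ≤ 2 * T.m (v 7) := by
  obtain ⟨w, hw0, hw, ha, hax, h0⟩ := NumType.branch_fin v hv hn (t := 7) (s := 4) (by omega) (by omega)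
    (fun j j' e h => by fin_cases j <;> fin_cases j' <;> simp at e h <;> assumption)
    (fun j j' e e' => by fin_cases j <;> fin_cases j' <;> simp at e e' <;> assumption)
  have e01 : T.a (v 0) (v 1) = w := ha 0 1 rfl (by decide)
  have e10 : T.a (v 1) (v 0) = w := (NumType.a_symm T (v 1) (v 0)).trans e01
  have e12 : T.a (v 1) (v 2) = w := ha 1 2 rfl (by decide)
  have e21 : T.a (v 2) (v 1) = w := (NumType.a_symm T (v 2) (v 1)).trans e12
  have e23 : T.a (v 2) (v 3) = w := ha 2 3 rfl (by decide)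
  have e32 : T.a (v 3) (v 2) = w := (NumType.a_symm T (v 3) (v 2)).trans e23
  have e34 : T.a (v 3) (v 4) = w := ha 3 4 rfl (by decide)
  have e43 : T.a (v 4) (v 3) = w := (NumType.a_symm T (v 4) (v 3)).trans e34
  have e45 : T.a (v 4) (v 5) = w := ha 4 5 rfl (by decide)
  have e54 : T.a (v 5) (v 4) = w := (NumType.a_symm T (v 5) (v 4)).trans e45
  have e56 : T.a (v 5) (v 6) = w := ha 5 6 rfl (by decide)
  have e65 : T.a (v 6) (v 5) = w := (NumType.a_symm T (v 6) (v 5)).trans e56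
  have e47 : T.a (v 4) (v 7) = w := hax 4 7 rfl rfl
  have e74 : T.a (v 7) (v 4) = w := (NumType.a_symm T (v 7) (v 4)).trans e47
  have r0 := NumType.row1 (hv 0) (v.injective.ne (by decide : (1 : Fin 8) ≠ 0))
  simp only [e01, hw 0] at r0
  have r1 := NumType.row2 (hv 1) (v.injective.ne (by decide : (0 : Fin 8) ≠ 1)) (v.injective.ne (by decide : (2 : Fin 8) ≠ 1)) (v.injective.ne (by decide : (0 : Fin 8) ≠ 2))
  simp only [e10, e12, hw 1] at r1
  have r2 := NumType.row2 (hv 2) (v.injective.ne (by decide : (1 : Fin 8) ≠ 2)) (v.injective.ne (by decide : (3 : Fin 8) ≠ 2)) (v.injective.ne (by decide : (1 : Fin 8) ≠ 3))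
  simp only [e21, e23, hw 2] at r2
  have r3 := NumType.row2 (hv 3) (v.injective.ne (by decide : (2 : Fin 8) ≠ 3)) (v.injective.ne (by decide : (4 : Fin 8) ≠ 3)) (v.injective.ne (by decide : (2 : Fin 8) ≠ 4))
  simp only [e32, e34, hw 3] at r3
  have r4 := NumType.row3 (hv 4) (v.injective.ne (by decide : (3 : Fin 8) ≠ 4)) (v.injective.ne (by decide : (5 : Fin 8) ≠ 4)) (v.injective.ne (by decide : (7 : Fin 8) ≠ 4)) (v.injective.ne (by decide : (3 : Fin 8) ≠ 5)) (v.injective.ne (by decide : (3 : Fin 8) ≠ 7)) (v.injective.ne (by decide : (5 : Fin 8) ≠ 7))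
  simp only [e43, e45, e47, hw 4] at r4
  have r5 := NumType.row2 (hv 5) (v.injective.ne (by decide : (4 : Fin 8) ≠ 5)) (v.injective.ne (by decide : (6 : Fin 8) ≠ 5)) (v.injective.ne (by decide : (4 : Fin 8) ≠ 6))
  simp only [e54, e56, hw 5] at r5
  have r6 := NumType.row1 (hv 6) (v.injective.ne (by decide : (5 : Fin 8) ≠ 6))
  simp only [e65, hw 6] at r6
  have r7 := NumType.row1 (hv 7) (v.injective.ne (by decide : (4 : Fin 8) ≠ 7))
  simp only [e74, hw 7] at r7
  exact ⟨w, hw, e01, e12, e23, e34, e45, e56, e47, h0 0 2 (by decide) (by decide) (by decide), h0 0 3 (by decide) (by decide) (by decide), h0 0 4 (by decide) (by decide) (by decide), h0 0 5 (by decide) (by decide) (by decide), h0 0 6 (by decide) (by decide) (by decide), h0 0 7 (by decide) (by decide) (by decide), h0 1 3 (by decide) (by decide) (by decide), h0 1 4 (by decide) (by decide) (by decide), h0 1 5 (by decide) (by decide) (by decide), h0 1 6 (by decide) (by decide) (by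 decide), h0 1 7 (by decide) (by decide) (by decide), h0 2 4 (by decide) (by decide) (by decide), h0 2 5 (by decide) (by decide) (by decide), h0 2 6 (by decide) (by decide) (by decide), h0 2 7 (by decide) (by decide) (by decide), h0 3 5 (by decide) (by decide) (by decide), h0 3 6 (by decide) (by decide) (by decide), h0 3 7 (by decide) (by decide) (by decide), h0 4 6 (by decide) (by decide) (by decide), h0 5 7 (by decide) (by decide) (by decide), h0 6 7 (by decide) (by decide) (by decide), by nlinarith [r0], by nlinarith [r1], by nlinarith [r2], by nlinarith [r3], by nlinarith [r4], by nlinarith [r5], by nlinarith [r6], by nlinarith [r7]⟩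

end Groth.Agent.S7350
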