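import Groth.Statements.S7352
import Groth.Agent.NumType.Branch
-- import your own Groth.Agent.* helpers here

set_option autoImplicit false
open Finset
open Models Models.NumericalType

namespace Groth.Agent.S7352

/-- Classification of proper subgraphs which are chains of four vertices: let T be a numerical type on n
> 4 indices and i_1, …, i_4 distinct (-2)-indices with a_{i_j i_{j+1}} nonzero for j < 4. Then
a_{i_j i_l} = 0 for |j - l| ≥ 2 and, after possibly reversing the order of the indices, for some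
integer w one of the following holds: (A4) w = (w, w, w, w), consecutive a = (w, w, w), with 2m_1 ≥
m_2, 2m_2 ≥ m_1 + m_3, 2m_3 ≥ m_2 + m_4, 2m_4 ≥ m_3; (C4) w = (w, w, w, 2w), consecutive a = (w, w,
2w), with 2m_1 ≥ m_2, 2m_2 ≥ m_1 + m_3, 2m_3 ≥ m_2 + 2m_4, 2m_4 ≥ m_3; (B4) w = (2w, 2w, 2w, w),
consecutive a = (2w, 2w, 2w), with 2m_1 ≥ m_2, 2m_2 ≥ m_1 + m_3, 2m_3 ≥ m_2 + m_4, m_4 ≥ m_3; (F4) w
= (w, w, 2w, 2w), consecutive a = (w, 2w, 2w), with 2m_1 ≥ m_2, 2m_2 ≥ m_1 + 2m_3, 2m_3 ≥ m_2 + m_4,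
2m_4 ≥ m_3. -/
theorem result {n : ℕ} (T : Models.NumericalType n) (hn : 4 < n)
    (v : Fin 4 ↪ Fin n) (hv : ∀ j, T.IsMinusTwo (v j)) (h01 : T.a (v 0) (v 1) ≠ 0) (h12 : T.a (v 1) (v 2) ≠ 0) (h23 : T.a (v 2) (v 3) ≠ 0) :
    (T.a (v 0) (v 2) = 0 ∧ T.a (v 0) (v 3) = 0 ∧ T.a (v 1) (v 3) = 0) ∧
    ∃ (u : Fin 4 → Fin n) (w : ℤ), ((∀ j, u j = v j) ∨ (∀ j, u j = v (Fin.rev j))) ∧
      ((T.w (u 0) = w ∧ T.w (u 1) = w ∧ T.w (u 2) = w ∧ T.w (u 3) = w ∧ T.a (u 0) (u 1) = w ∧ T.a (u 1) (u 2) = w ∧ T.a (u 2) (u 3) = w ∧ T.m (u 1) ≤ 2 * T.m (u 0) ∧ T.m (u 0) + T.m (u 2) ≤ 2 * T.m (u 1) ∧ T.m (u 1) + T.m (u 3) ≤ 2 * T.m (u 2) ∧ T.m (u 2) ≤ 2 * T.m (u 3)) ∨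
      (T.w (u 0) = w ∧ T.w (u 1) = w ∧ T.w (u 2) = w ∧ T.w (u 3) = 2 * w ∧ T.a (u 0) (u 1) = w ∧ T.a (u 1) (u 2) = w ∧ T.a (u 2) (u 3) = 2 * w ∧ T.m (u 1) ≤ 2 * T.m (u 0) ∧ T.m (u 0) + T.m (u 2) ≤ 2 * T.m (u 1) ∧ T.m (u 1) + 2 * T.m (u 3) ≤ 2 * T.m (u 2) ∧ T.m (u 2) ≤ 2 * T.m (u 3)) ∨
      (T.w (u 0) = 2 * w ∧ T.w (u 1) = 2 * w ∧ T.w (u 2) = 2 * w ∧ T.w (u 3) = w ∧ T.a (u 0) (u 1) = 2 * w ∧ T.a (u 1) (u 2) = 2 * w ∧ T.a (u 2) (u 3) = 2 * w ∧ T.m (u 1) ≤ 2 * T.m (u 0) ∧ T.m (u 0) + T.m (u 2) ≤ 2 * T.m (u 1) ∧ T.m (u 1) + T.m (u 3) ≤ 2 * T.m (u 2) ∧ T.m (u 2) ≤ T.m (u 3)) ∨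
      (T.w (u 0) = w ∧ T.w (u 1) = w ∧ T.w (u 2) = 2 * w ∧ T.w (u 3) = 2 * w ∧ T.a (u 0) (u 1) = w ∧ T.a (u 1) (u 2) = 2 * w ∧ T.a (u 2) (u 3) = 2 * w ∧ T.m (u 1) ≤ 2 * T.m (u 0) ∧ T.m (u 0) + 2 * T.m (u 2) ≤ 2 * T.m (u 1) ∧ T.m (u 1) + T.m (u 3) ≤ 2 * T.m (u 2) ∧ T.m (u 2) ≤ 2 * T.m (u 3))) := by
  obtain ⟨u, w, hw0, hu, hor, hch, hform⟩ := NumType.chain_fin v hv (by omega) hn
    (fun j j' e => by fin_cases j <;> fin_cases j' <;> simp at e <;> assumption)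
  refine ⟨⟨hch 0 2 (by decide), hch 0 3 (by decide), hch 1 3 (by decide)⟩, fun j => u j.val, w, hor, ?_⟩
  have r0 : T.a (u 0) (u 1) * T.m (u 1) ≤ 2 * T.w (u 0) * T.m (u 0) :=
    (NumType.path_row_ends hu (by omega)).1
  have r3 : T.a (u 2) (u 3) * T.m (u 2) ≤ 2 * T.w (u 3) * T.m (u 3) :=
    (NumType.path_row_ends hu (by omega)).2
  have r1 : _ := NumType.path_row2 hu 0 (by omega)
  have r2 : _ := NumType.path_row2 hu 1 (by omega)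
  simp only [Nat.zero_add, Nat.reduceAdd] at r1 r2
  simp only [Fin.val_zero, Fin.val_one, Fin.val_two, show ((3 : Fin 4) : ℕ) = 3 from rfl]
  rcases hform with ⟨hw, ha⟩ | ⟨hw, hwl, ha, hal⟩ | ⟨hw, hwl, ha⟩ | ⟨-, w0, w1, w2, w3, a0, a1, a2⟩
  · have w0 := hw 0 (by omega); have w1 := hw 1 (by omega); have w2 := hw 2 (by omega)
    have w3 := hw 3 (by omega)
    have a0 : T.a (u 0) (u 1) = w := ha 0 (by omega)
    have a1 : T.a (u 1) (u 2) = w := ha 1 (by omega)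
    have a2 : T.a (u 2) (u 3) = w := ha 2 (by omega)
    simp only [w0, w1, w2, w3, a0, a1, a2] at r0 r1 r2 r3
    exact Or.inl ⟨w0, w1, w2, w3, a0, a1, a2, by nlinarith, by nlinarith, by nlinarith, by nlinarith⟩
  · have w0 := hw 0 (by omega); have w1 := hw 1 (by omega); have w2 := hw 2 (by omega)
    have w3 : T.w (u 3) = 2 * w := hwl
    have a0 : T.a (u 0) (u 1) = w := ha 0 (by omega)
    have a1 : T.a (u 1) (u 2) = w := ha 1 (by omega)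
    have a2 : T.a (u 2) (u 3) = 2 * w := hal
    simp only [w0, w1, w2, w3, a0, a1, a2] at r0 r1 r2 r3
    exact Or.inr (Or.inl ⟨w0, w1, w2, w3, a0, a1, a2, by nlinarith, by nlinarith, by nlinarith, by nlinarith⟩)
  · have w0 := hw 0 (by omega); have w1 := hw 1 (by omega); have w2 := hw 2 (by omega)
    have w3 : T.w (u 3) = w := hwl
    have a0 : T.a (u 0) (u 1) = 2 * w := ha 0 (by omega)
    have a1 : T.a (u 1) (u 2) = 2 * w := ha 1 (by omega)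
    have a2 : T.a (u 2) (u 3) = 2 * w := ha 2 (by omega)
    simp only [w0, w1, w2, w3, a0, a1, a2] at r0 r1 r2 r3
    exact Or.inr (Or.inr (Or.inl ⟨w0, w1, w2, w3, a0, a1, a2, by nlinarith, by nlinarith, by nlinarith, by nlinarith⟩))
  · simp only [w0, w1, w2, w3, a0, a1, a2] at r0 r1 r2 r3
    exact Or.inr (Or.inr (Or.inr ⟨w0, w1, w2, w3, a0, a1, a2, by nlinarith, by nlinarith, by nlinarith, by nlinarith⟩))

end Groth.Agent.S7352
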