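import Groth.Statements.S7353
import Groth.Agent.NumType.Branch
-- import your own Groth.Agent.* helpers here

set_option autoImplicit false
open Finset
open Models Models.NumericalType

namespace Groth.Agent.S7353

/-- Classification of proper subgraphs which are chains of five vertices: let T be a numerical type on n
> 5 indices and i_1, …, i_5 distinct (-2)-indices with a_{i_j i_{j+1}} nonzero for j < 5. Then
a_{i_j i_l} = 0 for |j - l| ≥ 2 and, after possibly reversing the order of the indices, for some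
integer w one of the following holds: (A5) w = (w, w, w, w, w), consecutive a = (w, w, w, w), with
2m_1 ≥ m_2, 2m_2 ≥ m_1 + m_3, 2m_3 ≥ m_2 + m_4, 2m_4 ≥ m_3 + m_5, 2m_5 ≥ m_4; (C5) w = (w, w, w, w,
2w), consecutive a = (w, w, w, 2w), with 2m_1 ≥ m_2, 2m_2 ≥ m_1 + m_3, 2m_3 ≥ m_2 + m_4, 2m_4 ≥ m_3
+ 2m_5, 2m_5 ≥ m_4; (B5) w = (2w, 2w, 2w, 2w, w), consecutive a = (2w, 2w, 2w, 2w), with 2m_1 ≥ m_2,
2m_2 ≥ m_1 + m_3, 2m_3 ≥ m_2 + m_4, 2m_4 ≥ m_3 + m_5, m_5 ≥ m_4. (The inequalities are those given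
by the rows Σ_l a_{kl} m_l = 0 of the displayed matrices; the published text has 2m_3 ≥ m_2 + 2m_4
and 2m_4 ≥ m_3 + m_5 in case C5 and m_4 ≥ m_3 in case B5, of which the first does not follow — for
the numerical type with six indices, weights (1,1,1,1,2,1), chain intersection numbers (1,1,1,2)
plus a_{16} = 1, a_{66} = -1 and multiplicities (2,2,2,2,1,2) one has 2m_3 = 4 < m_2 + 2m_4 = 6 — so
the matrix inequalities are stated.) -/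
theorem result {n : ℕ} (T : Models.NumericalType n) (hn : 5 < n)
    (v : Fin 5 ↪ Fin n) (hv : ∀ j, T.IsMinusTwo (v j)) (h01 : T.a (v 0) (v 1) ≠ 0) (h12 : T.a (v 1) (v 2) ≠ 0) (h23 : T.a (v 2) (v 3) ≠ 0) (h34 : T.a (v 3) (v 4) ≠ 0) :
    (T.a (v 0) (v 2) = 0 ∧ T.a (v 0) (v 3) = 0 ∧ T.a (v 0) (v 4) = 0 ∧ T.a (v 1) (v 3) = 0 ∧ T.a (v 1) (v 4) = 0 ∧ T.a (v 2) (v 4) = 0) ∧
    ∃ (u : Fin 5 → Fin n) (w : ℤ), ((∀ j, u j = v j) ∨ (∀ j, u j = v (Fin.rev j))) ∧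
      ((T.w (u 0) = w ∧ T.w (u 1) = w ∧ T.w (u 2) = w ∧ T.w (u 3) = w ∧ T.w (u 4) = w ∧ T.a (u 0) (u 1) = w ∧ T.a (u 1) (u 2) = w ∧ T.a (u 2) (u 3) = w ∧ T.a (u 3) (u 4) = w ∧ T.m (u 1) ≤ 2 * T.m (u 0) ∧ T.m (u 0) + T.m (u 2) ≤ 2 * T.m (u 1) ∧ T.m (u 1) + T.m (u 3) ≤ 2 * T.m (u 2) ∧ T.m (u 2) + T.m (u 4) ≤ 2 * T.m (u 3) ∧ T.m (u 3) ≤ 2 * T.m (u 4)) ∨
      (T.w (u 0) = w ∧ T.w (u 1) = w ∧ T.w (u 2) = w ∧ T.w (u 3) = w ∧ T.w (u 4) = 2 * w ∧ T.a (u 0) (u 1) = w ∧ T.a (u 1) (u 2) = w ∧ T.a (u 2) (u 3) = w ∧ T.a (u 3) (u 4) = 2 * w ∧ T.m (u 1) ≤ 2 * T.m (u 0) ∧ T.m (u 0) + T.m (u 2) ≤ 2 * T.m (u 1) ∧ T.m (u 1) + T.m (u 3) ≤ 2 * T.m (u 2) ∧ T.m (u 2) + 2 * T.m (u 4) ≤ 2 * T.m (u 3) ∧ T.m (u 3) ≤ 2 * T.m (u 4)) ∨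
      (T.w (u 0) = 2 * w ∧ T.w (u 1) = 2 * w ∧ T.w (u 2) = 2 * w ∧ T.w (u 3) = 2 * w ∧ T.w (u 4) = w ∧ T.a (u 0) (u 1) = 2 * w ∧ T.a (u 1) (u 2) = 2 * w ∧ T.a (u 2) (u 3) = 2 * w ∧ T.a (u 3) (u 4) = 2 * w ∧ T.m (u 1) ≤ 2 * T.m (u 0) ∧ T.m (u 0) + T.m (u 2) ≤ 2 * T.m (u 1) ∧ T.m (u 1) + T.m (u 3) ≤ 2 * T.m (u 2) ∧ T.m (u 2) + T.m (u 4) ≤ 2 * T.m (u 3) ∧ T.m (u 3) ≤ T.m (u 4))) := by
  obtain ⟨u, w, hw0, hu, hor, hch, hform⟩ := NumType.chain_fin v hv (by omega) hn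
    (fun j j' e => by fin_cases j <;> fin_cases j' <;> simp at e <;> assumption)
  refine ⟨⟨hch 0 2 (by decide), hch 0 3 (by decide), hch 0 4 (by decide), hch 1 3 (by decide),
    hch 1 4 (by decide), hch 2 4 (by decide)⟩, fun j => u j.val, w, hor, ?_⟩
  have r0 : T.a (u 0) (u 1) * T.m (u 1) ≤ 2 * T.w (u 0) * T.m (u 0) :=
    (NumType.path_row_ends hu (by omega)).1
  have r4 : T.a (u 3) (u 4) * T.m (u 3) ≤ 2 * T.w (u 4) * T.m (u 4) :=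
    (NumType.path_row_ends hu (by omega)).2
  have r1 : _ := NumType.path_row2 hu 0 (by omega)
  have r2 : _ := NumType.path_row2 hu 1 (by omega)
  have r3 : _ := NumType.path_row2 hu 2 (by omega)
  simp only [Nat.zero_add, Nat.reduceAdd] at r1 r2 r3
  simp only [Fin.val_zero, Fin.val_one, Fin.val_two, show ((3 : Fin 5) : ℕ) = 3 from rfl,
    show ((4 : Fin 5) : ℕ) = 4 from rfl]
  rcases hform with ⟨hw, ha⟩ | ⟨hw, hwl, ha, hal⟩ | ⟨hw, hwl, ha⟩ | ⟨h, -⟩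
  · have w0 := hw 0 (by omega); have w1 := hw 1 (by omega); have w2 := hw 2 (by omega)
    have w3 := hw 3 (by omega); have w4 := hw 4 (by omega)
    have a0 : T.a (u 0) (u 1) = w := ha 0 (by omega)
    have a1 : T.a (u 1) (u 2) = w := ha 1 (by omega)
    have a2 : T.a (u 2) (u 3) = w := ha 2 (by omega)
    have a3 : T.a (u 3) (u 4) = w := ha 3 (by omega)
    simp only [w0, w1, w2, w3, w4, a0, a1, a2, a3] at r0 r1 r2 r3 r4
    exact Or.inl ⟨w0, w1, w2, w3, w4, a0, a1, a2, a3, by nlinarith, by nlinarith, by nlinarith, by nlinarith, by nlinarith⟩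
  · have w0 := hw 0 (by omega); have w1 := hw 1 (by omega); have w2 := hw 2 (by omega)
    have w3 := hw 3 (by omega)
    have w4 : T.w (u 4) = 2 * w := hwl
    have a0 : T.a (u 0) (u 1) = w := ha 0 (by omega)
    have a1 : T.a (u 1) (u 2) = w := ha 1 (by omega)
    have a2 : T.a (u 2) (u 3) = w := ha 2 (by omega)
    have a3 : T.a (u 3) (u 4) = 2 * w := hal
    simp only [w0, w1, w2, w3, w4, a0, a1, a2, a3] at r0 r1 r2 r3 r4
    exact Or.inr (Or.inl ⟨w0, w1, w2, w3, w4, a0, a1, a2, a3, by nlinarith, by nlinarith, by nlinarith, by nlinarith, by nlinarith⟩)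
  · have w0 := hw 0 (by omega); have w1 := hw 1 (by omega); have w2 := hw 2 (by omega)
    have w3 := hw 3 (by omega)
    have w4 : T.w (u 4) = w := hwl
    have a0 : T.a (u 0) (u 1) = 2 * w := ha 0 (by omega)
    have a1 : T.a (u 1) (u 2) = 2 * w := ha 1 (by omega)
    have a2 : T.a (u 2) (u 3) = 2 * w := ha 2 (by omega)
    have a3 : T.a (u 3) (u 4) = 2 * w := ha 3 (by omega)
    simp only [w0, w1, w2, w3, w4, a0, a1, a2, a3] at r0 r1 r2 r3 r4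
    exact Or.inr (Or.inr ⟨w0, w1, w2, w3, w4, a0, a1, a2, a3, by nlinarith, by nlinarith, by nlinarith, by nlinarith, by nlinarith⟩)
  · omega

end Groth.Agent.S7353
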