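import Groth.Statements.S7354
import Groth.Agent.NumType.Branch
-- import your own Groth.Agent.* helpers here

set_option autoImplicit false
open Finset
open Models Models.NumericalType

namespace Groth.Agent.S7354

/-- Let T be a numerical type on n indices, t > 5 with n > t, and i_1, …, i_t distinct (-2)-indices with
a_{i_j i_{j+1}} nonzero for j = 1, …, t - 1. Then, after possibly reversing the order of the
indices, for some integer w either (A) w_{i_1} = … = w_{i_t} = w and a_{i_j i_{j+1}} = w for all j;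
or (C) w_{i_1} = … = w_{i_{t-1}} = w, w_{i_t} = 2w, a_{i_j i_{j+1}} = w for j < t - 1 and a_{i_{t-1}
i_t} = 2w; or (B) w_{i_1} = … = w_{i_{t-1}} = 2w, w_{i_t} = w and a_{i_j i_{j+1}} = 2w for all j;
and in every case a_{i_j i_k} = 0 whenever k > j + 1. -/
theorem result {n : ℕ} (T : Models.NumericalType n) (t : ℕ) (ht : 5 < t) (hn : t < n)
    (v : Fin t ↪ Fin n) (hv : ∀ j, T.IsMinusTwo (v j))
    (hchain : ∀ j j' : Fin t, j'.val = j.val + 1 → T.a (v j) (v j') ≠ 0) :
    ∃ (u : Fin t → Fin n) (w : ℤ), ((∀ j, u j = v j) ∨ (∀ j, u j = v (Fin.rev j))) ∧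
      (∀ j k : Fin t, j.val + 1 < k.val → T.a (u j) (u k) = 0) ∧
      ((∀ j : Fin t, T.w (u j) = w) ∧ (∀ j j' : Fin t, j'.val = j.val + 1 → T.a (u j) (u j') = w) ∨
        ((∀ j : Fin t, j.val + 1 < t → T.w (u j) = w) ∧ (∀ j : Fin t, j.val + 1 = t → T.w (u j) = 2 * w) ∧
          (∀ j j' : Fin t, j'.val = j.val + 1 → j'.val + 1 < t → T.a (u j) (u j') = w) ∧
          (∀ j j' : Fin t, j'.val = j.val + 1 → j'.val + 1 = t → T.a (u j) (u j') = 2 * w)) ∨
        ((∀ j : Fin t, j.val + 1 < t → T.w (u j) = 2 * w) ∧ (∀ j : Fin t, j.val + 1 = t → T.w (u j) = w) ∧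
          (∀ j j' : Fin t, j'.val = j.val + 1 → T.a (u j) (u j') = 2 * w))) := by
  obtain ⟨s, rfl⟩ : ∃ s, t = s + 1 := ⟨t - 1, by omega⟩
  obtain ⟨u, w, hw0, hu, hor, hch, hform⟩ := NumType.chain_fin v hv (by omega) hn hchain
  refine ⟨fun j => u j.val, w, hor, fun j k hjk => ?_, ?_⟩
  · rcases hor with h | h
    · simp only [h]; exact hch j k hjk
    · simp only [h, NumType.a_symm T (v (Fin.rev j))]
      exact hch (Fin.rev k) (Fin.rev j) (by simp [Fin.val_rev]; omega)
  rcases hform with ⟨hw, ha⟩ | ⟨hw, hwl, ha, hal⟩ | ⟨hw, hwl, ha⟩ | ⟨h3, -⟩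
  · exact Or.inl ⟨fun j => hw _ j.isLt, fun j j' e => by simp only [e]; exact ha _ (by omega)⟩
  · refine Or.inr (Or.inl ⟨fun j h => hw _ (by omega), fun j h => ?_, fun j j' e h => ?_, fun j j' e h => ?_⟩)
    · simp only [show j.val = s by omega]; exact hwl
    · simp only [e]; exact ha _ (by omega)
    · simp only [e, show j.val = s - 1 by omega, show s - 1 + 1 = s by omega]; exact hal
  · refine Or.inr (Or.inr ⟨fun j h => hw _ (by omega), fun j h => ?_, fun j j' e => ?_⟩)
    · simp only [show j.val = s by omega]; exact hwl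
    · simp only [e]; exact ha _ (by omega)
  · omega

end Groth.Agent.S7354
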