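import Groth.Statements.S7355
import Groth.Agent.NumType.Branch
-- import your own Groth.Agent.* helpers here

set_option autoImplicit false
open Finset
open Models Models.NumericalType

namespace Groth.Agent.S7355

/-- Classification of proper subgraphs of type D: let T be a numerical type on n indices, t > 4 with n >
t + 1, and i_1, …, i_{t+1} distinct (-2)-indices such that a_{i_j i_{j+1}} is nonzero for j = 1, …,
t - 1 and a_{i_{t-1} i_{t+1}} is nonzero. Then for some integer w one has w_{i_1} = … = w_{i_{t+1}}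
= w, a_{i_j i_{j+1}} = w for j < t, a_{i_{t-1} i_{t+1}} = w, and a_{i_j i_k} = 0 for all other pairs
j ≠ k. -/
theorem result {n : ℕ} (T : Models.NumericalType n) (t : ℕ) (ht : 4 < t) (hn : t + 1 < n)
    (v : Fin (t + 1) ↪ Fin n) (hv : ∀ j, T.IsMinusTwo (v j))
    (hchain : ∀ j j' : Fin (t + 1), j'.val = j.val + 1 → j'.val < t → T.a (v j) (v j') ≠ 0)
    (hbranch : ∀ j j' : Fin (t + 1), j.val + 2 = t → j'.val = t → T.a (v j) (v j') ≠ 0) :
    ∃ w : ℤ, (∀ j : Fin (t + 1), T.w (v j) = w) ∧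
      (∀ j j' : Fin (t + 1), j'.val = j.val + 1 → j'.val < t → T.a (v j) (v j') = w) ∧
      (∀ j j' : Fin (t + 1), j.val + 2 = t → j'.val = t → T.a (v j) (v j') = w) ∧
      (∀ j k : Fin (t + 1), j.val < k.val → ¬ (k.val = j.val + 1 ∧ k.val < t) → ¬ (j.val + 2 = t ∧ k.val = t) →
        T.a (v j) (v k) = 0) := by
  obtain ⟨w, hw0, hw, ha, hax, h0⟩ := NumType.branch_fin v hv hn (t := t) (s := t - 2) (by omega) (by omega)
    hchain (fun j j' e e' => hbranch j j' (by omega) e')
  exact ⟨w, hw, ha, fun j j' e e' => hax j j' (by omega) e',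
    fun j k h h1 h2 => h0 j k h h1 (fun ⟨e, e'⟩ => h2 ⟨by omega, e'⟩)⟩

end Groth.Agent.S7355
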