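import Groth.Statements.S7356
import Groth.Agent.RatGor.Main

set_option autoImplicit false
universe u
open CategoryTheory CategoryTheory.Limits AlgebraicGeometry
attribute [local instance] HasDerivedCategory.standard
open Resolve

namespace Groth.Agent.S7356

/-- Let (A, m, κ) be a local normal Nagata domain of dimension two which defines a rational singularity
and has a dualizing module ω_A (ω_A in degree zero is a dualizing complex). Then there is a normal
modification f : X → Spec A (proper, X integral and normal, an isomorphism over a nonempty open)
whose dualizing module ω_X — the degree-zero cohomology sheaf of f^!(ω_A~), for the right adjoint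
f^! of Rf_* on D_QCoh whenever it exists — is an invertible O_X-module. (The published statement
also says that X is reached from Spec A by a finite sequence of blowings up in singular closed
points with every intermediate scheme normal; this row asserts only the existence of X. Left
exactness of M ↦ M~ is an instance hypothesis.) -/
theorem result (A : Type u) [CommRing A] [IsDomain A] [IsLocalRing A] [IsNoetherianRing A]
    [IsIntegrallyClosed A] (hN : CAlg.IsNagata A) (hdim : ringKrullDim A = 2) (hA : Curv2.IsRationalSing A)
    (ωA : Type u) [AddCommGroup ωA] [Module A ωA] (hω : Dual.IsDualizing A (Dual.inD A ωA))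
    [PreservesFiniteLimits (tilde.functor (CommRingCat.of A))] :
    ∃ (X : Scheme.{u}) (f : X ⟶ Spec (CommRingCat.of A)), IsProper f ∧ IsIntegral X ∧ Pi1.IsNormalScheme X ∧
      (∃ U : (Spec (CommRingCat.of A)).Opens, (U : Set (Spec (CommRingCat.of A))).Nonempty ∧ IsIso (f ∣_ U)) ∧
      ∀ [DCoh.HasRpush f] (h : DCoh.RpushPreservesQCoh f) [DCoh.HasShriek f h]
        (WA : DCoh.DQCoh (Spec (CommRingCat.of A))),
        Nonempty (WA.obj ≅ (DCoh.tildeD (CommRingCat.of A)).obj (Dual.inD A ωA)) →
        PicF.IsInvertible (DCoh.dualizingMod f h WA 0) := by
  exact Groth.Agent.RatGor.exists_gorenstein_modification hN hdim hA ωA hω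

end Groth.Agent.S7356
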