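import Groth.Statements.S7358
import Groth.Agent.CurveRes.Multi
import Groth.Agent.SchTop.Closed
import Groth.Agent.H23.SpClosed
import Groth.Agent.S2821

set_option autoImplicit false
set_option backward.isDefEq.respectTransparency false
set_option backward.isDefEq.respectTransparency.types false
set_option maxHeartbeats 800000
universe u
open CategoryTheory CategoryTheory.Limits AlgebraicGeometry
open Resolve

namespace Groth.Agent.S7358

open Groth.Agent.CurveRes Groth.Agent.H23.StalkIdeal TopologicalSpace IsLocalRing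

/-- Lengths of quotients through a surjection. -/
theorem length_quot_map {S T : Type u} [CommRing S] [CommRing T] (β : S →+* T) (hβ : Function.Surjective β)
    {K : Ideal S} (hK : RingHom.ker β ≤ K) : Module.length S (S ⧸ K) = Module.length T (T ⧸ K.map β) := by
  letI := β.toAlgebra
  rw [← Module.length_eq_of_surjective (S := S) (R := T) (M := T ⧸ K.map β) hβ]
  let q : S →ₗ[S] T ⧸ K.map β := (Submodule.mkQ (K.map β)).restrictScalars S ∘ₗ Algebra.linearMap S T
  have hs : Function.Surjective q := fun z => by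
    obtain ⟨t, rfl⟩ := Submodule.mkQ_surjective (K.map β) z
    obtain ⟨x, rfl⟩ := hβ t
    exact ⟨x, rfl⟩
  have hk : LinearMap.ker q = K := Submodule.ext fun x => by
    rw [LinearMap.mem_ker]
    show Ideal.Quotient.mk (K.map β) (β x) = 0 ↔ x ∈ K
    rw [Ideal.Quotient.eq_zero_iff_mem, ← Ideal.mem_comap, Ideal.comap_map_of_surjective β hβ, ← RingHom.ker_eq_comap_bot,
      sup_eq_left.2 hK]
  exact ((Submodule.quotEquivOfEq _ _ hk.symm).trans (LinearMap.quotKerEquivOfSurjective q hs)).length_eq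

theorem sI_sup {X : Scheme.{u}} (I J : X.IdealSheafData) (x : X) : sI (I ⊔ J) x = sI I x ⊔ sI J x := by
  obtain ⟨_, ⟨U, hU, rfl⟩, hxU, -⟩ := X.isBasis_affineOpens.exists_subset_of_mem_open (Set.mem_univ x) isOpen_univ
  rw [sI_eq _ ⟨U, hU⟩ hxU, sI_eq I ⟨U, hU⟩ hxU, sI_eq J ⟨U, hU⟩ hxU, Groth.Agent.CDivEq.stk, Scheme.IdealSheafData.ideal_sup,
    Pi.sup_apply, Ideal.map_sup]

/-- Let X be a locally Noetherian scheme, Y and Z closed subschemes with ideal sheaves I_Y and I_Z, p a
closed point lying on Y and on Z, with Y integral of dimension one, the generic point of Y not on Z,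
and O_{Y,p} regular; the multiplicity m_p(Y ∩ Z) is the length of the local ring of Y ∩ Z (ideal I_Y
+ I_Z) at p. Let b : X' → X be the blowing up of X at p (in the reduced point), E its exceptional
divisor, and Y', Z' ⊂ X' the strict transforms of Y and Z, i.e. the closed subschemes whose ideals
are the kernels of b^{-1}(Y) ∖ E → X' and b^{-1}(Z) ∖ E → X'. Then (1) b induces an isomorphism Y' ≅
Y; (2) Y' meets E in exactly one point q, and m_q(Y' ∩ E) = 1; (3) if moreover q ∈ Z', then m_q(Y' ∩
Z') < m_p(Y ∩ Z). -/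
theorem result (X : Scheme.{u}) [IsLocallyNoetherian X]
    (IY IZ : X.IdealSheafData) [IsIntegral IY.subscheme] (hdimY : topologicalKrullDim ↥IY.subscheme = 1)
    (p : X) (hp : IsClosed ({p} : Set X)) (hpY : p ∈ (IY.support : Set X)) (hpZ : p ∈ (IZ.support : Set X))
    (hgen : IY.subschemeι.base (genericPoint ↥IY.subscheme) ∉ (IZ.support : Set X))
    (hreg : ∀ y : ↥IY.subscheme, IY.subschemeι.base y = p → IsRegularLocalRing (IY.subscheme.presheaf.stalk y))
    (X' : Scheme.{u}) (b : X' ⟶ X) (hb : BlowUp.IsBlowUp b (Scheme.IdealSheafData.vanishingIdeal ⟨{p}, hp⟩))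
    (IY' IZ' : X'.IdealSheafData)
    (hY' : IY' = Scheme.Hom.ker ((((IY.comap b).subschemeι ⁻¹ᵁ
        (BlowUp.exceptional b (Scheme.IdealSheafData.vanishingIdeal ⟨{p}, hp⟩)).support.compl).ι) ≫ (IY.comap b).subschemeι))
    (hZ' : IZ' = Scheme.Hom.ker ((((IZ.comap b).subschemeι ⁻¹ᵁ
        (BlowUp.exceptional b (Scheme.IdealSheafData.vanishingIdeal ⟨{p}, hp⟩)).support.compl).ι) ≫ (IZ.comap b).subschemeι)) :
    (∃ e : IY'.subscheme ≅ IY.subscheme, e.hom ≫ IY.subschemeι = IY'.subschemeι ≫ b) ∧
    (∃ q : X', {x : X' | x ∈ (IY'.support : Set X') ∧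
          x ∈ ((BlowUp.exceptional b (Scheme.IdealSheafData.vanishingIdeal ⟨{p}, hp⟩)).support : Set X')} = {q} ∧
      (∀ q1 : ↥(IY' ⊔ BlowUp.exceptional b (Scheme.IdealSheafData.vanishingIdeal ⟨{p}, hp⟩)).subscheme,
          (IY' ⊔ BlowUp.exceptional b (Scheme.IdealSheafData.vanishingIdeal ⟨{p}, hp⟩)).subschemeι.base q1 = q →
          Module.length
            ((IY' ⊔ BlowUp.exceptional b (Scheme.IdealSheafData.vanishingIdeal ⟨{p}, hp⟩)).subscheme.presheaf.stalk q1)
            ((IY' ⊔ BlowUp.exceptional b (Scheme.IdealSheafData.vanishingIdeal ⟨{p}, hp⟩)).subscheme.presheaf.stalk q1) = 1) ∧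
      (q ∈ (IZ'.support : Set X') →
        ∀ (q0 : ↥(IY ⊔ IZ).subscheme) (q1 : ↥(IY' ⊔ IZ').subscheme),
          (IY ⊔ IZ).subschemeι.base q0 = p → (IY' ⊔ IZ').subschemeι.base q1 = q →
          Module.length ((IY' ⊔ IZ').subscheme.presheaf.stalk q1) ((IY' ⊔ IZ').subscheme.presheaf.stalk q1) <
            Module.length ((IY ⊔ IZ).subscheme.presheaf.stalk q0) ((IY ⊔ IZ).subscheme.presheaf.stalk q0))) := by
  classical
  let C := Scheme.IdealSheafData.vanishingIdeal ⟨{p}, hp⟩
  let E := C.comap b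
  let Y := IY.subscheme
  let ι := IY.subschemeι
  haveI : IsLocallyNoetherian Y := LocallyOfFiniteType.isLocallyNoetherian ι
  haveI := Groth.Agent.PointBlow.isProper_point hp hb
  haveI : IsLocallyNoetherian X' := LocallyOfFiniteType.isLocallyNoetherian b
  obtain ⟨p', hp'⟩ : p ∈ Set.range ι := by rw [Scheme.IdealSheafData.range_subschemeι]; exact hpY
  have huniq : ∀ y, ι y = p → y = p' := fun y hy => ι.isEmbedding.injective (hy.trans hp'.symm)
  have hp'gen : genericPoint Y ≠ p' := fun h => hgen (by rw [h, hp']; exact hpZ)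
  have hclp' : IsClosed ({p'} : Set Y) := isClosed_of_dim_le_one hdimY.le hp'gen.symm
  haveI := hreg p' hp'
  haveI : IsDomain (Y.presheaf.stalk p') := (Groth.Agent.S2821.result (Y.presheaf.stalk p')).1
  have hdim1 : ringKrullDim (Y.presheaf.stalk p') = 1 :=
    le_antisymm ((Groth.Agent.SchTop.ringKrullDim_stalk_le p').trans hdimY.le)
      (one_le_dim_stalk (genericPoint_specializes p') hp'gen)
  have hF : ¬ IsField (Y.presheaf.stalk p') := fun hF => by
    rw [ringKrullDim_eq_zero_of_isField hF] at hdim1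
    exact absurd hdim1 (by decide)
  haveI : IsDiscreteValuationRing (Y.presheaf.stalk p') :=
    ((IsDiscreteValuationRing.TFAE _ hF).out 0 4 (a := IsDiscreteValuationRing (Y.presheaf.stalk p'))
      (b := (maximalIdeal (Y.presheaf.stalk p')).IsPrincipal) rfl rfl).mpr (by
      have h := IsRegularLocalRing.spanFinrank_maximalIdeal (R := Y.presheaf.stalk p')
      rw [hdim1] at h
      have hfg : (maximalIdeal (Y.presheaf.stalk p')).FG := IsNoetherian.noetherian _
      have h1 : (maximalIdeal (Y.presheaf.stalk p')).spanFinrank = 1 := by exact_mod_cast h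
      rw [← Submodule.FG.generators_ncard hfg, Set.ncard_eq_one] at h1
      obtain ⟨γ, hγ⟩ := h1
      exact ⟨γ, by rw [← Submodule.span_generators (maximalIdeal (Y.presheaf.stalk p')), hγ]⟩)
  -- the point blow-up of the curve is trivial
  have hCι : sI (C.comap ι) p' = maximalIdeal (Y.presheaf.stalk p') := by
    rw [sI_comap]
    subst hp'
    rw [show sI C (ι p') = maximalIdeal (X.presheaf.stalk (ι p')) from Groth.Agent.NormSeq.sI_pt hp]
    refine le_antisymm (map_maximalIdeal_le _) fun a ha => ?_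
    obtain ⟨c, rfl⟩ := ι.stalkMap_surjective p' a
    exact Ideal.mem_map_of_mem _ ((IsLocalRing.mem_maximalIdeal _).2 fun hu => ha (hu.map _))
  have hec : BlowUp.IsEffCartierIdeal (C.comap ι) := by
    refine Groth.Agent.MeroX.isEffCartier_of_stalk _ fun x _ U hxU => ?_
    by_cases hx : x = p'
    · subst hx
      obtain ⟨π, hπ⟩ := (IsPrincipalIdealRing.principal (maximalIdeal (Y.presheaf.stalk x))).1
      refine ⟨π, mem_nonZeroDivisors_of_ne_zero fun h0 => ?_, ((sI_eq _ U hxU).symm.trans (hCι.trans hπ))⟩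
      rw [h0, Submodule.span_zero_singleton] at hπ
      exact IsDiscreteValuationRing.not_a_field _ hπ
    · refine ⟨1, one_mem _, (sI_eq _ U hxU).symm.trans ?_⟩
      rw [Groth.Agent.PointBlow.sI_eq_top (fun h => hx (huniq x (by
        rw [Scheme.IdealSheafData.support_comap] at h
        exact (Groth.Agent.PointBlow.mem_support_pt hp _).1 h)))]
      exact Ideal.span_singleton_one.symm
  obtain ⟨s, hs, -⟩ := hb.2 Y ι hec
  haveI : IsClosedImmersion (s ≫ b) := by rw [hs]; infer_instance
  haveI : IsClosedImmersion s := IsClosedImmersion.of_comp s b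
  have hsb : ∀ y, b (s y) = ι y := fun y => by rw [← Scheme.Hom.comp_apply, hs]
  -- the strict transform is the image of this section
  have hker : IY' = s.ker := by
    let W := (IY.comap b).subschemeι ⁻¹ᵁ E.support.compl
    let j := W.ι ≫ (IY.comap b).subschemeι
    let U : Y.Opens := ι ⁻¹ᵁ ⟨{p}ᶜ, hp.isOpen_compl⟩
    let V : X.Opens := ⟨{p}ᶜ, hp.isOpen_compl⟩
    have hsupp : ∀ x : X', x ∈ (E.support : Set X') ↔ b x = p := fun x => Groth.Agent.PointBlow.mem_support_exc hp x
    have hθ : ∃ θ : U.toScheme ⟶ W.toScheme, θ ≫ j = U.ι ≫ s := by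
      have hle : (IY.comap b).subschemeι.ker ≤ (U.ι ≫ s).ker := by
        rw [Scheme.IdealSheafData.ker_subschemeι, ← Scheme.IdealSheafData.le_map_iff_comap_le,
          Scheme.IdealSheafData.map_ker, Category.assoc, hs]
        exact le_of_eq_of_le (Scheme.IdealSheafData.ker_subschemeι IY).symm (Scheme.Hom.le_ker_comp _ _)
      let l := IsClosedImmersion.lift (IY.comap b).subschemeι (U.ι ≫ s) hle
      have hl : l ≫ (IY.comap b).subschemeι = U.ι ≫ s := IsClosedImmersion.lift_fac _ _ _
      have hr : Set.range l ⊆ Set.range W.ι := by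
        rintro _ ⟨z, rfl⟩
        rw [Scheme.Opens.range_ι]
        show (IY.comap b).subschemeι (l z) ∉ (E.support : Set X')
        have e := congr($hl z)
        rw [Scheme.Hom.comp_apply, Scheme.Hom.comp_apply] at e
        rw [hsupp, e, hsb]
        exact z.2
      exact ⟨IsOpenImmersion.lift W.ι l hr, by rw [IsOpenImmersion.lift_fac_assoc, hl]⟩
    obtain ⟨θ, hθ⟩ := hθ
    have hle : ι.ker ≤ (j ≫ b).ker := by
      rw [Scheme.IdealSheafData.ker_subschemeι, ← Scheme.IdealSheafData.map_ker,
        Scheme.IdealSheafData.le_map_iff_comap_le]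
      exact le_of_eq_of_le (Scheme.IdealSheafData.ker_subschemeι _).symm (Scheme.Hom.le_ker_comp _ _)
    let l := IsClosedImmersion.lift ι (j ≫ b) hle
    have hl : l ≫ ι = j ≫ b := IsClosedImmersion.lift_fac _ _ _
    have hj : ∀ z, b (j z) ≠ p := fun z h => z.2 ((hsupp _).2 h)
    have hls : l ≫ s = j := by
      haveI := Groth.Agent.PointBlow.isIso_off hp hb
      haveI : IsOpenImmersion ((b ⁻¹ᵁ V).ι ≫ b) := by rw [← morphismRestrict_ι]; infer_instance
      have hr1 : Set.range j ⊆ Set.range (b ⁻¹ᵁ V).ι := by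
        rintro _ ⟨z, rfl⟩; rw [Scheme.Opens.range_ι]; exact hj z
      have hr2 : Set.range (l ≫ s) ⊆ Set.range (b ⁻¹ᵁ V).ι := by
        rintro _ ⟨z, rfl⟩; rw [Scheme.Opens.range_ι]
        show b ((l ≫ s) z) ≠ p
        rw [← Scheme.Hom.comp_apply, Category.assoc, hs, hl, Scheme.Hom.comp_apply]
        exact hj z
      rw [← IsOpenImmersion.lift_fac (b ⁻¹ᵁ V).ι _ hr2, ← IsOpenImmersion.lift_fac (b ⁻¹ᵁ V).ι _ hr1]
      congr 1
      rw [← cancel_mono ((b ⁻¹ᵁ V).ι ≫ b), IsOpenImmersion.lift_fac_assoc, IsOpenImmersion.lift_fac_assoc,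
        Category.assoc, hs, hl]
    have hUne : genericPoint Y ∈ U := fun h => hp'gen (huniq _ h)
    haveI : IsDominant U.ι := ⟨by
      show Dense (Set.range U.ι)
      rw [Scheme.Opens.range_ι]
      exact U.2.dense ⟨_, hUne⟩⟩
    haveI : QuasiCompact U.ι := inferInstance
    have hsU : (U.ι ≫ s).ker = s.ker := by
      rw [Scheme.Hom.ker_comp, ker_eq_bot U.ι, Scheme.IdealSheafData.map_bot]
    rw [hY']
    refine le_antisymm ?_ ?_
    · refine le_of_le_of_eq ?_ hsU
      rw [← hθ]
      exact Scheme.Hom.le_ker_comp θ j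
    · show s.ker ≤ j.ker
      rw [← hls]
      exact Scheme.Hom.le_ker_comp l s
  have hsupp : ∀ x : X', x ∈ (E.support : Set X') ↔ b x = p := fun x => Groth.Agent.PointBlow.mem_support_exc hp x
  subst hker
  refine ⟨⟨(asIso s.toImage).symm, ?_⟩, s p', ?_, ?_, ?_⟩
  · show inv s.toImage ≫ ι = s.imageι ≫ b
    rw [IsIso.inv_comp_eq, Scheme.Hom.toImage_imageι_assoc, hs]
  · ext x
    constructor
    · rintro ⟨hx, hxE⟩
      rw [Scheme.Hom.support_ker, s.isClosedMap.isClosed_range.closure_eq] at hx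
      obtain ⟨y, rfl⟩ := hx
      rw [Set.mem_singleton_iff, huniq y ((hsb y).symm.trans ((hsupp _).1 hxE))]
    · rintro rfl
      refine ⟨?_, (hsupp _).2 ((hsb p').trans hp')⟩
      rw [Scheme.Hom.support_ker]
      exact subset_closure ⟨p', rfl⟩
  · intro q1 hq1
    rw [Groth.Agent.H23.SpClosed.length_stalk_closed (s.ker ⊔ E).subschemeι q1, Groth.Agent.PointBlow.ker_stalkMap, hq1,
      sI_sup, ← Groth.Agent.PointBlow.ker_stalkMap_closed s p',
      length_quot_map (s.stalkMap p').hom (s.stalkMap_surjective p') le_sup_left, Ideal.map_sup,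
      ← sI_comap, ← Scheme.IdealSheafData.comap_comp]
    have e : sI (C.comap (s ≫ b)) p' = maximalIdeal (Y.presheaf.stalk p') := by rw [hs]; exact hCι
    rw [show sI (C.comap (s ≫ b)) p' = _ from e, (Ideal.map_eq_bot_iff_le_ker _).2 le_rfl, bot_sup_eq]
    have h := IsDiscreteValuationRing.length_quotient_pow_maximalIdeal (R := Y.presheaf.stalk p') 1
    rwa [pow_one] at h
  · intro hqZ q0 q1 hq0 hq1
    obtain ⟨π, hπ⟩ := (IsPrincipalIdealRing.principal (maximalIdeal (Y.presheaf.stalk p'))).1
    -- the strict transform of `Z` contains the quotients by the exceptional equation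
    have hZb : IZ.comap b ≤ E := Scheme.IdealSheafData.comap_mono _ (Scheme.IdealSheafData.le_support_iff_le_vanishingIdeal.1
      (Set.singleton_subset_iff.2 hpZ))
    obtain ⟨U, hqU, γ, hγ0, hγ⟩ := hb.1 (s p')
    have hdiv : ∀ a ∈ (IZ.comap b).ideal U, ∃ a' ∈ IZ'.ideal U, a = γ * a' := by
      intro a ha
      obtain ⟨a', rfl⟩ := Ideal.mem_span_singleton.1 (hγ ▸ hZb U ha : a ∈ Ideal.span {γ})
      refine ⟨a', ?_, rfl⟩
      rw [hZ']
      let W := (IZ.comap b).subschemeι ⁻¹ᵁ E.support.compl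
      let j := W.ι ≫ (IZ.comap b).subschemeι
      show a' ∈ j.ker.ideal U
      haveI : IsLocallyNoetherian (IZ.comap b).subscheme :=
        LocallyOfFiniteType.isLocallyNoetherian (IZ.comap b).subschemeι
      rw [Scheme.Hom.ker_apply, RingHom.mem_ker]
      have h0 : j.app U.1 (γ * a') = 0 := by
        have h : IZ.comap b ≤ j.ker := le_of_eq_of_le (Scheme.IdealSheafData.ker_subschemeι _).symm (Scheme.Hom.le_ker_comp _ _)
        have h' := h U ha
        rwa [Scheme.Hom.ker_apply, RingHom.mem_ker] at h'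
      have hu : IsUnit (j.app U.1 γ) := by
        refine (W.toScheme.toLocallyRingedSpace.toRingedSpace).isUnit_of_isUnit_germ (U := j ⁻¹ᵁ U.1) _ fun z hz => ?_
        have h1 : j z ∉ (E.support : Set X') := z.2
        rw [SetLike.mem_coe, Scheme.IdealSheafData.mem_support_iff_of_mem (U := U) hz, show E.ideal U = _ from hγ] at h1
        have h2 : IsUnit (X'.presheaf.germ U.1 (j z) hz γ) := by
          rw [← Scheme.mem_basicOpen]
          by_contra h3
          refine h1 ?_
          rw [Scheme.mem_zeroLocus_iff]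
          rintro f hf
          obtain ⟨c, rfl⟩ := Ideal.mem_span_singleton.1 hf
          rw [Scheme.basicOpen_mul]
          exact fun h => h3 h.1
        have h4 := h2.map (j.stalkMap z).hom
        rw [Scheme.Hom.germ_stalkMap_apply] at h4
        exact h4
      rw [map_mul] at h0
      exact (hu.mul_right_eq_zero).1 h0
    have hqe : sI E (s p') = Ideal.span {X'.presheaf.germ U.1 (s p') hqU γ} := by
      rw [sI_eq E U hqU, Groth.Agent.CDivEq.stk, show E.ideal U = _ from hγ, Ideal.map_span, Set.image_singleton]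
    let J₀ := sI (IZ.comap ι) p'
    let J := sI (IZ'.comap s) p'
    have hJ0 : J₀ ≤ maximalIdeal (Y.presheaf.stalk p') * J := by
      have e : J₀ = (sI (IZ.comap b) (s p')).map (s.stalkMap p').hom := by
        rw [← sI_comap, ← Scheme.IdealSheafData.comap_comp, hs]
      rw [e, sI_eq _ U hqU, Groth.Agent.CDivEq.stk, Ideal.map_map, Ideal.map_le_iff_le_comap]
      intro a ha
      obtain ⟨a', ha', rfl⟩ := hdiv a ha
      rw [Ideal.mem_comap, map_mul]
      refine Ideal.mul_mem_mul ?_ ?_
      · have h : (s.stalkMap p').hom (X'.presheaf.germ U.1 (s p') hqU γ) ∈ sI (E.comap s) p' := by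
          rw [sI_comap, hqe]
          exact Ideal.mem_map_of_mem _ (Ideal.mem_span_singleton_self _)
        rw [← hCι]
        have e2 : E.comap s = C.comap ι := by
          show (C.comap b).comap s = _
          rw [← Scheme.IdealSheafData.comap_comp, hs]
        rw [← e2]
        exact h
      · show (s.stalkMap p').hom (X'.presheaf.germ U.1 (s p') hqU a') ∈ sI (IZ'.comap s) p'
        rw [sI_comap, sI_eq _ U hqU]
        exact Ideal.mem_map_of_mem _ (Ideal.mem_map_of_mem _ ha')
    have hJne : J₀ ≠ ⊥ := fun h0 => hgen (by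
      have h1 := sI_spec (IZ.comap ι) (genericPoint_specializes p')
      rw [show sI (IZ.comap ι) p' = ⊥ from h0, Ideal.map_bot] at h1
      by_contra hn
      rw [Groth.Agent.PointBlow.sI_eq_top (by rw [Scheme.IdealSheafData.support_comap]; exact hn)] at h1
      exact top_ne_bot h1)
    have hl0 : Module.length ((IY ⊔ IZ).subscheme.presheaf.stalk q0) ((IY ⊔ IZ).subscheme.presheaf.stalk q0) =
        Module.length (Y.presheaf.stalk p') (Y.presheaf.stalk p' ⧸ J₀) := by
      rw [Groth.Agent.H23.SpClosed.length_stalk_closed (IY ⊔ IZ).subschemeι q0, Groth.Agent.PointBlow.ker_stalkMap, hq0, ← hp',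
        sI_sup, ← Groth.Agent.PointBlow.ker_stalkMap IY p',
        length_quot_map (ι.stalkMap p').hom (ι.stalkMap_surjective p') le_sup_left, Ideal.map_sup,
        (Ideal.map_eq_bot_iff_le_ker _).2 le_rfl, bot_sup_eq, ← sI_comap]
    have hl1 : Module.length ((s.ker ⊔ IZ').subscheme.presheaf.stalk q1) ((s.ker ⊔ IZ').subscheme.presheaf.stalk q1) =
        Module.length (Y.presheaf.stalk p') (Y.presheaf.stalk p' ⧸ J) := by
      rw [Groth.Agent.H23.SpClosed.length_stalk_closed (s.ker ⊔ IZ').subschemeι q1, Groth.Agent.PointBlow.ker_stalkMap, hq1,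
        sI_sup, ← Groth.Agent.PointBlow.ker_stalkMap_closed s p',
        length_quot_map (s.stalkMap p').hom (s.stalkMap_surjective p') le_sup_left, Ideal.map_sup,
        (Ideal.map_eq_bot_iff_le_ker _).2 le_rfl, bot_sup_eq, ← sI_comap]
    rw [hl0, hl1]
    obtain ⟨ϖ, hϖ⟩ := IsDiscreteValuationRing.exists_irreducible (Y.presheaf.stalk p')
    obtain ⟨n₀, hn₀⟩ := IsDiscreteValuationRing.ideal_eq_span_pow_irreducible hJne hϖ
    obtain ⟨n, hn⟩ := IsDiscreteValuationRing.ideal_eq_span_pow_irreducible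
      (s := J) (fun h0 => hJne (le_bot_iff.1 (hJ0.trans (by rw [h0, Ideal.mul_bot])))) hϖ
    have hlt : n < n₀ := by
      rw [hn₀, hn, hϖ.maximalIdeal_eq, Ideal.span_singleton_mul_span_singleton, Ideal.span_singleton_le_span_singleton,
        ← pow_succ', pow_dvd_pow_iff hϖ.ne_zero hϖ.not_isUnit] at hJ0
      exact hJ0
    rw [hn₀, hn, ← Ideal.span_singleton_pow, ← Ideal.span_singleton_pow, ← hϖ.maximalIdeal_eq,
      IsDiscreteValuationRing.length_quotient_pow_maximalIdeal, IsDiscreteValuationRing.length_quotient_pow_maximalIdeal]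
    exact_mod_cast hlt

end Groth.Agent.S7358
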