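import Groth.Statements.S7360
import Mathlib
import Groth.Agent.Colength.Weak
import Groth.Agent.QCoh.GodHH

set_option autoImplicit false
universe u
open CategoryTheory CategoryTheory.Limits AlgebraicGeometry
open Resolve

namespace Groth.Agent.S7360

/-- Let (A, m) be a regular local ring of dimension two, X → Spec A (the structure morphism) the blowing
up in m with exceptional divisor E and its ideal I_E, and I an ideal of A with m^n ⊆ I ⊆ m for some
n. Let d be the largest integer with I O_X ⊆ O_X(-dE) = I_E^d and I' ⊆ O_X the ideal with I O_X = I'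
· I_E^d (so I' = I O_X(dE)). Then d > 0, O_X/I' is supported in finitely many closed points x_1, …,
x_r, and length_A(A/I) > length_A Γ(X, O_X/I') ≥ Σ_i length_{O_{X,x_i}}(O_{X,x_i}/I'_{x_i}), the sum
written as a finite sum over the points of the subscheme defined by I'. -/
theorem result (A : Type u) [CommRing A] [IsRegularLocalRing A] (hA : ringKrullDim A = 2)
    (X : Scheme.{u}) [X.Over (Spec (CommRingCat.of A))]
    (hb : BlowUp.IsBlowUp (X ↘ Spec (CommRingCat.of A)) (Curv2.idealSheaf A (IsLocalRing.maximalIdeal A)))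
    (I : Ideal A) (n : ℕ) (hIn : IsLocalRing.maximalIdeal A ^ n ≤ I) (hIm : I ≤ IsLocalRing.maximalIdeal A)
    (d : ℕ) (I' : X.IdealSheafData)
    (hd : (Curv2.idealSheaf A I).comap (X ↘ Spec (CommRingCat.of A)) =
      I' * BlowUp.exceptional (X ↘ Spec (CommRingCat.of A)) (Curv2.idealSheaf A (IsLocalRing.maximalIdeal A)) ^ d)
    (hmax : ¬ (Curv2.idealSheaf A I).comap (X ↘ Spec (CommRingCat.of A)) ≤
      BlowUp.exceptional (X ↘ Spec (CommRingCat.of A)) (Curv2.idealSheaf A (IsLocalRing.maximalIdeal A)) ^ (d + 1)) :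
    0 < d ∧ (I'.support : Set X).Finite ∧ (∀ x ∈ (I'.support : Set X), IsClosed ({x} : Set X)) ∧
      Module.length A (Coh.HH X (ClSub.quotMod I') 0) < Module.length A (A ⧸ I) ∧
      ∑ᶠ x : ↥I'.subscheme, Module.length (I'.subscheme.presheaf.stalk x) (I'.subscheme.presheaf.stalk x) ≤
        Module.length A (Coh.HH X (ClSub.quotMod I') 0) := by
  set b := X ↘ Spec (CommRingCat.of A)
  let ρ : A →+* Coh.Γtop X := Coh.toGlobal b
  letI := Groth.Agent.QCoh.modHH ρ (ClSub.quotMod I') 0
  letI := Groth.Agent.QCoh.secModule ρ (ClSub.quotMod I') ⊤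
  letI := (Colength.wHom b I').toAlgebra
  let e : Γ(I'.subscheme, I'.subschemeι ⁻¹ᵁ ⊤) ≃ₗ[A] Γ(ClSub.quotMod I', ⊤) :=
    AddEquiv.toLinearEquiv (AddEquiv.refl _) (fun c z => by
      show I'.subschemeι.app ⊤ (BlowUpLib.strHom b ⊤ c) * z =
        I'.subschemeι.app ⊤ (X.presheaf.map (homOfLE (le_top : (⊤ : X.Opens) ≤ ⊤)).op (Coh.toGlobal b c)) * z
      congr 2)
  have hlen : Module.length A (Coh.HH X (ClSub.quotMod I') 0) =
      Module.length A Γ(I'.subscheme, I'.subschemeι ⁻¹ᵁ ⊤) :=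
    ((e.trans (Groth.Agent.QCoh.secH ρ (ClSub.quotMod I'))).length_eq).symm
  obtain ⟨h1, h2, h3, h4, h5⟩ := Colength.weak_colength b I' hA hb I hIn hIm d hd hmax
  rw [hlen]
  exact ⟨h1, h2, h3, h4, h5⟩

end Groth.Agent.S7360
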