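import Groth.Statements.S7362
import Groth.Agent.NumType.Finish
-- import your own Groth.Agent.* helpers here

set_option autoImplicit false
open Finset
open Models Models.NumericalType

namespace Groth.Agent.S7362

/-- Genus one classification: case n = 2: let T be a minimal numerical type of genus 1 on two indices.
Then for some ordering i, j of the indices and some integers m, w, either m_i = m_j = m, a_ii = a_jj
= -2w, a_ij = 2w, w_i = w_j = w, g_i = g_j = 0; or m_i = 2m, m_j = m, a_ii = -2w, a_ij = 4w, a_jj =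
-8w, w_i = w, w_j = 4w, g_i = g_j = 0. Only the classification direction is stated. -/
theorem result (T : Models.NumericalType 2) (hmin : T.IsMinimal) (hg : T.genus = 1) :
    ∃ (i j : Fin 2) (m w : ℤ), i ≠ j ∧ T.g i = 0 ∧ T.g j = 0 ∧
      ((T.m i = m ∧ T.m j = m ∧ T.a i i = -2 * w ∧ T.a i j = 2 * w ∧ T.a j j = -2 * w ∧ T.w i = w ∧ T.w j = w) ∨
        (T.m i = 2 * m ∧ T.m j = m ∧ T.a i i = -2 * w ∧ T.a i j = 4 * w ∧ T.a j j = -8 * w ∧ T.w i = w ∧ T.w j = 4 * w)) := by
    have hall := NumType.all_minusTwo (n := 2) (by norm_num) hmin hg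
    obtain ⟨p, hp⟩ := T.w_dvd 0 1
    obtain ⟨q, hq⟩ := T.w_dvd 1 0
    have hs := NumType.a_symm T 0 1
    have r0 := NumType.row_sum T 0
    have r1 := NumType.row_sum T 1
    simp only [Fin.sum_univ_two] at r0 r1
    rw [(hall 0).2, hp] at r0
    rw [(hall 1).2, hq] at r1
    have m0 := T.m_pos 0; have m1 := T.m_pos 1; have w0 := T.w_pos 0; have w1 := T.w_pos 1
    have e0 : p * T.m 1 = 2 * T.m 0 := by
      apply mul_left_cancel₀ w0.ne'; linear_combination r0
    have e1 : q * T.m 0 = 2 * T.m 1 := by
      apply mul_left_cancel₀ w1.ne'; linear_combination r1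
    have hpq : p * q = 4 := by
      apply mul_right_cancel₀ m0.ne'; linear_combination p * e1 + 2 * e0
    have hp0 : 0 < p := by
      by_contra hc
      have := mul_nonpos_of_nonpos_of_nonneg (not_lt.1 hc) m1.le
      omega
    have hq0 : 0 < q := by
      by_contra hc
      have := mul_nonpos_of_nonpos_of_nonneg (not_lt.1 hc) m0.le
      omega
    have hp4 : p ≤ 4 := by nlinarith
    rw [hp, hq] at hs
    have d0 := (hall 0).2; have d1 := (hall 1).2
    rcases (by omega : p = 1 ∨ p = 2 ∨ p = 3 ∨ p = 4) with rfl | rfl | rfl | rfl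
    · obtain rfl : q = 4 := by omega
      exact ⟨1, 0, T.m 0, T.w 1, by decide, (hall 1).1, (hall 0).1,
        .inr ⟨by omega, rfl, d1, by omega, by omega, rfl, by omega⟩⟩
    · obtain rfl : q = 2 := by omega
      exact ⟨0, 1, T.m 1, T.w 0, by decide, (hall 0).1, (hall 1).1,
        .inl ⟨by omega, rfl, d0, by omega, by omega, rfl, by omega⟩⟩
    · omega
    · obtain rfl : q = 1 := by omega
      exact ⟨0, 1, T.m 1, T.w 0, by decide, (hall 0).1, (hall 1).1,
        .inr ⟨by omega, rfl, d0, by omega, by omega, rfl, by omega⟩⟩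

end Groth.Agent.S7362
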