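import Groth.Statements.S7363
import Groth.Agent.NumType.Finish
-- import your own Groth.Agent.* helpers here

set_option autoImplicit false
open Finset
open Models Models.NumericalType

namespace Groth.Agent.S7363

/-- Genus one classification: case n = 3: let T be a minimal numerical type of genus 1 on three indices.
Then all g = 0 and, for some ordering i, j, k of the indices and some integers m, w, the data (m; a;
w) is one of: (m,m,m; a_ii = a_jj = a_kk = -2w, a_ij = a_ik = a_jk = w; w,w,w); (m,2m,m; a_ii = -2w,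
a_ij = w, a_ik = 0, a_jj = -2w, a_jk = 3w, a_kk = -6w; w,w,3w); (m,2m,3m; a_ii = -6w, a_ij = 3w,
a_ik = 0, a_jj = -6w, a_jk = 3w, a_kk = -2w; 3w,3w,w); (2m,2m,m; a_ii = -2w, a_ij = 2w, a_ik = 0,
a_jj = -4w, a_jk = 4w, a_kk = -8w; w,2w,4w); (m,m,m; a_ii = -2w, a_ij = 2w, a_ik = 0, a_jj = -4w,
a_jk = 2w, a_kk = -2w; w,2w,w); (m,2m,m; a_ii = -4w, a_ij = 2w, a_ik = 0, a_jj = -2w, a_jk = 2w,
a_kk = -4w; 2w,w,2w). Only the classification direction is stated. -/
theorem result (T : Models.NumericalType 3) (hmin : T.IsMinimal) (hg : T.genus = 1) :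
    ∃ (i j k : Fin 3) (m w : ℤ), i ≠ j ∧ j ≠ k ∧ i ≠ k ∧ T.g i = 0 ∧ T.g j = 0 ∧ T.g k = 0 ∧
      ((T.m i = m ∧ T.m j = m ∧ T.m k = m ∧ T.a i i = -2 * w ∧ T.a j j = -2 * w ∧ T.a k k = -2 * w ∧
          T.a i j = w ∧ T.a i k = w ∧ T.a j k = w ∧ T.w i = w ∧ T.w j = w ∧ T.w k = w) ∨
        (T.m i = m ∧ T.m j = 2 * m ∧ T.m k = m ∧ T.a i i = -2 * w ∧ T.a i j = w ∧ T.a i k = 0 ∧ T.a j j = -2 * w ∧
          T.a j k = 3 * w ∧ T.a k k = -6 * w ∧ T.w i = w ∧ T.w j = w ∧ T.w k = 3 * w) ∨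
        (T.m i = m ∧ T.m j = 2 * m ∧ T.m k = 3 * m ∧ T.a i i = -6 * w ∧ T.a i j = 3 * w ∧ T.a i k = 0 ∧ T.a j j = -6 * w ∧
          T.a j k = 3 * w ∧ T.a k k = -2 * w ∧ T.w i = 3 * w ∧ T.w j = 3 * w ∧ T.w k = w) ∨
        (T.m i = 2 * m ∧ T.m j = 2 * m ∧ T.m k = m ∧ T.a i i = -2 * w ∧ T.a i j = 2 * w ∧ T.a i k = 0 ∧ T.a j j = -4 * w ∧
          T.a j k = 4 * w ∧ T.a k k = -8 * w ∧ T.w i = w ∧ T.w j = 2 * w ∧ T.w k = 4 * w) ∨
        (T.m i = m ∧ T.m j = m ∧ T.m k = m ∧ T.a i i = -2 * w ∧ T.a i j = 2 * w ∧ T.a i k = 0 ∧ T.a j j = -4 * w ∧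
          T.a j k = 2 * w ∧ T.a k k = -2 * w ∧ T.w i = w ∧ T.w j = 2 * w ∧ T.w k = w) ∨
        (T.m i = m ∧ T.m j = 2 * m ∧ T.m k = m ∧ T.a i i = -4 * w ∧ T.a i j = 2 * w ∧ T.a i k = 0 ∧ T.a j j = -2 * w ∧
          T.a j k = 2 * w ∧ T.a k k = -4 * w ∧ T.w i = 2 * w ∧ T.w j = w ∧ T.w k = 2 * w)) := by
    obtain ⟨hall, haff⟩ := NumType.genus_one_affine (by norm_num) hmin hg
    cases haff with
    | cyc h =>
      have h' := h.relabel (NumType.vec [1, 1, 1]) (NumType.vec [1, 1, 1]) (NumType.edges [(0, 1, 1), (0, 2, 1), (1, 2, 1)]) ![0, 1, 2] (by decide +kernel)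
      obtain ⟨σ, m, w, hm, hw, hd, ha⟩ := h'.values hall
      exact ⟨σ 0, σ 1, σ 2, m, w, σ.injective.ne (by decide), σ.injective.ne (by decide), σ.injective.ne (by decide), (hall _).1, (hall _).1, (hall _).1, .inl ⟨(hm 0).trans (one_mul _), (hm 1).trans (one_mul _), (hm 2).trans (one_mul _), hd 0, hd 1, hd 2, (ha 0 1 (by decide)).trans (one_mul _), (ha 0 2 (by decide)).trans (one_mul _), (ha 1 2 (by decide)).trans (one_mul _), (hw 0).trans (one_mul _), (hw 1).trans (one_mul _), (hw 2).trans (one_mul _)⟩⟩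
    | c1 h =>
      have h' := h.relabel (NumType.vec [2, 2, 1]) (NumType.vec [1, 2, 4]) (NumType.edges [(0, 1, 2), (1, 2, 4)]) ![0, 1, 2] (by decide +kernel)
      obtain ⟨σ, m, w, hm, hw, hd, ha⟩ := h'.values hall
      exact ⟨σ 0, σ 1, σ 2, m, w, σ.injective.ne (by decide), σ.injective.ne (by decide), σ.injective.ne (by decide), (hall _).1, (hall _).1, (hall _).1, .inr (.inr (.inr (.inl ⟨hm 0, hm 1, (hm 2).trans (one_mul _), hd 0, ha 0 1 (by decide), (ha 0 2 (by decide)).trans (zero_mul _), hd 1, ha 1 2 (by decide), hd 2, (hw 0).trans (one_mul _), hw 1, hw 2⟩)))⟩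
    | c2 h =>
      have h' := h.relabel (NumType.vec [1, 1, 1]) (NumType.vec [1, 2, 1]) (NumType.edges [(0, 1, 2), (1, 2, 2)]) ![0, 1, 2] (by decide +kernel)
      obtain ⟨σ, m, w, hm, hw, hd, ha⟩ := h'.values hall
      exact ⟨σ 0, σ 1, σ 2, m, w, σ.injective.ne (by decide), σ.injective.ne (by decide), σ.injective.ne (by decide), (hall _).1, (hall _).1, (hall _).1, .inr (.inr (.inr (.inr (.inl ⟨(hm 0).trans (one_mul _), (hm 1).trans (one_mul _), (hm 2).trans (one_mul _), hd 0, ha 0 1 (by decide), (ha 0 2 (by decide)).trans (zero_mul _), hd 1, ha 1 2 (by decide), hd 2, (hw 0).trans (one_mul _), hw 1, (hw 2).trans (one_mul _)⟩))))⟩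
    | c3 h =>
      have h' := h.relabel (NumType.vec [1, 2, 1]) (NumType.vec [2, 1, 2]) (NumType.edges [(0, 1, 2), (1, 2, 2)]) ![0, 1, 2] (by decide +kernel)
      obtain ⟨σ, m, w, hm, hw, hd, ha⟩ := h'.values hall
      exact ⟨σ 0, σ 1, σ 2, m, w, σ.injective.ne (by decide), σ.injective.ne (by decide), σ.injective.ne (by decide), (hall _).1, (hall _).1, (hall _).1, .inr (.inr (.inr (.inr (.inr (⟨(hm 0).trans (one_mul _), hm 1, (hm 2).trans (one_mul _), hd 0, ha 0 1 (by decide), (ha 0 2 (by decide)).trans (zero_mul _), hd 1, ha 1 2 (by decide), hd 2, hw 0, (hw 1).trans (one_mul _), hw 2⟩)))))⟩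
    | b1 hn h => omega
    | b2 hn h => omega
    | d hn h => omega
    | d4 hn h => omega
    | g2a hn h =>
      have h' := h.relabel (NumType.vec [1, 2, 1]) (NumType.vec [1, 1, 3]) (NumType.edges [(0, 1, 1), (1, 2, 3)]) ![2, 1, 0] (by decide +kernel)
      obtain ⟨σ, m, w, hm, hw, hd, ha⟩ := h'.values hall
      exact ⟨σ 0, σ 1, σ 2, m, w, σ.injective.ne (by decide), σ.injective.ne (by decide), σ.injective.ne (by decide), (hall _).1, (hall _).1, (hall _).1, .inr (.inl ⟨(hm 0).trans (one_mul _), hm 1, (hm 2).trans (one_mul _), hd 0, (ha 0 1 (by decide)).trans (one_mul _), (ha 0 2 (by decide)).trans (zero_mul _), hd 1, ha 1 2 (by decide), hd 2, (hw 0).trans (one_mul _), (hw 1).trans (one_mul _), hw 2⟩)⟩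
    | g2b hn h =>
      have h' := h.relabel (NumType.vec [1, 2, 3]) (NumType.vec [3, 3, 1]) (NumType.edges [(0, 1, 3), (1, 2, 3)]) ![2, 1, 0] (by decide +kernel)
      obtain ⟨σ, m, w, hm, hw, hd, ha⟩ := h'.values hall
      exact ⟨σ 0, σ 1, σ 2, m, w, σ.injective.ne (by decide), σ.injective.ne (by decide), σ.injective.ne (by decide), (hall _).1, (hall _).1, (hall _).1, .inr (.inr (.inl ⟨(hm 0).trans (one_mul _), hm 1, hm 2, hd 0, ha 0 1 (by decide), (ha 0 2 (by decide)).trans (zero_mul _), hd 1, ha 1 2 (by decide), hd 2, hw 0, hw 1, (hw 2).trans (one_mul _)⟩))⟩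
    | f4a hn h => omega
    | f4b hn h => omega
    | e6 hn h => omega
    | e7 hn h => omega
    | e8 hn h => omega

end Groth.Agent.S7363
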