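import Groth.Statements.S7364
import Groth.Agent.NumType.Finish
-- import your own Groth.Agent.* helpers here

set_option autoImplicit false
open Finset
open Models Models.NumericalType

namespace Groth.Agent.S7364

/-- Genus one classification: case n = 4: let T be a minimal numerical type of genus 1 on 4 indices.
Then all g_i = 0 and, for some permutation σ of the indices and some integers m, w, the
multiplicities, weights and intersection matrix (m_{σ(i)}, w_{σ(i)}, a_{σ(i)σ(j)}) are those of one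
of the following 6 types: [four cycle] m = (m, m, m, m), w = (w, w, w, w), a = (-2 * w w 0 w / w -2
* w w 0 / 0 w -2 * w w / w 0 w -2 * w); [up equal up] m = (2 * m, 2 * m, 2 * m, m), w = (w, 2 * w, 2
* w, 4 * w), a = (-2 * w 2 * w 0 0 / 2 * w -4 * w 2 * w 0 / 0 2 * w -4 * w 4 * w / 0 0 4 * w -8 *
w); [up equal down] m = (m, m, m, m), w = (w, 2 * w, 2 * w, w), a = (-2 * w 2 * w 0 0 / 2 * w -4 * w
2 * w 0 / 0 2 * w -4 * w 2 * w / 0 0 2 * w -2 * w); [down equal up] m = (m, 2 * m, 2 * m, m), w = (2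
* w, w, w, 2 * w), a = (-4 * w 2 * w 0 0 / 2 * w -2 * w w 0 / 0 w -2 * w 2 * w / 0 0 2 * w -4 * w);
[triple with up] m = (2 * m, m, m, m), w = (w, w, w, 2 * w), a = (-2 * w w w 2 * w / w -2 * w 0 0 /
w 0 -2 * w 0 / 2 * w 0 0 -4 * w); [triple with down] m = (2 * m, m, m, 2 * m), w = (2 * w, 2 * w, 2
* w, w), a = (-4 * w 2 * w 2 * w 2 * w / 2 * w -4 * w 0 0 / 2 * w 0 -4 * w 0 / 2 * w 0 0 -2 * w).
Only the classification direction is stated. -/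
theorem result (T : Models.NumericalType 4) (hmin : T.IsMinimal) (hg : T.genus = 1) :
    (∀ i, T.g i = 0) ∧ ∃ (σ : Equiv.Perm (Fin 4)) (m w : ℤ),
      ((T.m (σ 0) = m ∧ T.m (σ 1) = m ∧ T.m (σ 2) = m ∧ T.m (σ 3) = m ∧ T.w (σ 0) = w ∧ T.w (σ 1) = w ∧ T.w (σ 2) = w ∧ T.w (σ 3) = w ∧ T.a (σ 0) (σ 0) = -2 * w ∧ T.a (σ 0) (σ 1) = w ∧ T.a (σ 0) (σ 2) = 0 ∧ T.a (σ 0) (σ 3) = w ∧ T.a (σ 1) (σ 1) = -2 * w ∧ T.a (σ 1) (σ 2) = w ∧ T.a (σ 1) (σ 3) = 0 ∧ T.a (σ 2) (σ 2) = -2 * w ∧ T.a (σ 2) (σ 3) = w ∧ T.a (σ 3) (σ 3) = -2 * w) ∨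
      (T.m (σ 0) = 2 * m ∧ T.m (σ 1) = 2 * m ∧ T.m (σ 2) = 2 * m ∧ T.m (σ 3) = m ∧ T.w (σ 0) = w ∧ T.w (σ 1) = 2 * w ∧ T.w (σ 2) = 2 * w ∧ T.w (σ 3) = 4 * w ∧ T.a (σ 0) (σ 0) = -2 * w ∧ T.a (σ 0) (σ 1) = 2 * w ∧ T.a (σ 0) (σ 2) = 0 ∧ T.a (σ 0) (σ 3) = 0 ∧ T.a (σ 1) (σ 1) = -4 * w ∧ T.a (σ 1) (σ 2) = 2 * w ∧ T.a (σ 1) (σ 3) = 0 ∧ T.a (σ 2) (σ 2) = -4 * w ∧ T.a (σ 2) (σ 3) = 4 * w ∧ T.a (σ 3) (σ 3) = -8 * w) ∨
      (T.m (σ 0) = m ∧ T.m (σ 1) = m ∧ T.m (σ 2) = m ∧ T.m (σ 3) = m ∧ T.w (σ 0) = w ∧ T.w (σ 1) = 2 * w ∧ T.w (σ 2) = 2 * w ∧ T.w (σ 3) = w ∧ T.a (σ 0) (σ 0) = -2 * w ∧ T.a (σ 0) (σ 1) = 2 * w ∧ T.a (σ 0) (σ 2) = 0 ∧ T.a (σ 0) (σ 3) = 0 ∧ T.a (σ 1) (σ 1) = -4 * w ∧ T.a (σ 1) (σ 2) = 2 * w ∧ T.a (σ 1) (σ 3) = 0 ∧ T.a (σ 2) (σ 2) = -4 * w ∧ T.a (σ 2) (σ 3) = 2 * w ∧ T.a (σ 3) (σ 3) = -2 * w) ∨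
      (T.m (σ 0) = m ∧ T.m (σ 1) = 2 * m ∧ T.m (σ 2) = 2 * m ∧ T.m (σ 3) = m ∧ T.w (σ 0) = 2 * w ∧ T.w (σ 1) = w ∧ T.w (σ 2) = w ∧ T.w (σ 3) = 2 * w ∧ T.a (σ 0) (σ 0) = -4 * w ∧ T.a (σ 0) (σ 1) = 2 * w ∧ T.a (σ 0) (σ 2) = 0 ∧ T.a (σ 0) (σ 3) = 0 ∧ T.a (σ 1) (σ 1) = -2 * w ∧ T.a (σ 1) (σ 2) = w ∧ T.a (σ 1) (σ 3) = 0 ∧ T.a (σ 2) (σ 2) = -2 * w ∧ T.a (σ 2) (σ 3) = 2 * w ∧ T.a (σ 3) (σ 3) = -4 * w) ∨
      (T.m (σ 0) = 2 * m ∧ T.m (σ 1) = m ∧ T.m (σ 2) = m ∧ T.m (σ 3) = m ∧ T.w (σ 0) = w ∧ T.w (σ 1) = w ∧ T.w (σ 2) = w ∧ T.w (σ 3) = 2 * w ∧ T.a (σ 0) (σ 0) = -2 * w ∧ T.a (σ 0) (σ 1) = w ∧ T.a (σ 0) (σ 2) = w ∧ T.a (σ 0) (σ 3) = 2 * w ∧ T.a (σ 1) (σ 1) = -2 * w ∧ T.a (σ 1) (σ 2) = 0 ∧ T.a (σ 1) (σ 3) = 0 ∧ T.a (σ 2) (σ 2) = -2 * w ∧ T.a (σ 2) (σ 3) = 0 ∧ T.a (σ 3) (σ 3) = -4 * w) ∨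
      (T.m (σ 0) = 2 * m ∧ T.m (σ 1) = m ∧ T.m (σ 2) = m ∧ T.m (σ 3) = 2 * m ∧ T.w (σ 0) = 2 * w ∧ T.w (σ 1) = 2 * w ∧ T.w (σ 2) = 2 * w ∧ T.w (σ 3) = w ∧ T.a (σ 0) (σ 0) = -4 * w ∧ T.a (σ 0) (σ 1) = 2 * w ∧ T.a (σ 0) (σ 2) = 2 * w ∧ T.a (σ 0) (σ 3) = 2 * w ∧ T.a (σ 1) (σ 1) = -4 * w ∧ T.a (σ 1) (σ 2) = 0 ∧ T.a (σ 1) (σ 3) = 0 ∧ T.a (σ 2) (σ 2) = -4 * w ∧ T.a (σ 2) (σ 3) = 0 ∧ T.a (σ 3) (σ 3) = -2 * w)) := by
    obtain ⟨hall, haff⟩ := NumType.genus_one_affine (by norm_num) hmin hg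
    cases haff with
    | cyc h =>
      have h' := h.relabel (NumType.vec [1, 1, 1, 1]) (NumType.vec [1, 1, 1, 1]) (NumType.edges [(0, 1, 1), (0, 3, 1), (1, 2, 1), (2, 3, 1)]) ![0, 1, 2, 3] (by decide +kernel)
      obtain ⟨σ, m, w, hm, hw, hd, ha⟩ := h'.values hall
      exact ⟨fun i => (hall i).1, σ, m, w, .inl ⟨(hm 0).trans (one_mul _), (hm 1).trans (one_mul _), (hm 2).trans (one_mul _), (hm 3).trans (one_mul _), (hw 0).trans (one_mul _), (hw 1).trans (one_mul _), (hw 2).trans (one_mul _), (hw 3).trans (one_mul _), hd 0, (ha 0 1 (by decide)).trans (one_mul _), (ha 0 2 (by decide)).trans (zero_mul _), (ha 0 3 (by decide)).trans (one_mul _), hd 1, (ha 1 2 (by decide)).trans (one_mul _), (ha 1 3 (by decide)).trans (zero_mul _), hd 2, (ha 2 3 (by decide)).trans (one_mul _), hd 3⟩⟩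
    | c1 h =>
      have h' := h.relabel (NumType.vec [2, 2, 2, 1]) (NumType.vec [1, 2, 2, 4]) (NumType.edges [(0, 1, 2), (1, 2, 2), (2, 3, 4)]) ![0, 1, 2, 3] (by decide +kernel)
      obtain ⟨σ, m, w, hm, hw, hd, ha⟩ := h'.values hall
      exact ⟨fun i => (hall i).1, σ, m, w, .inr (.inl ⟨hm 0, hm 1, hm 2, (hm 3).trans (one_mul _), (hw 0).trans (one_mul _), hw 1, hw 2, hw 3, hd 0, ha 0 1 (by decide), (ha 0 2 (by decide)).trans (zero_mul _), (ha 0 3 (by decide)).trans (zero_mul _), hd 1, ha 1 2 (by decide), (ha 1 3 (by decide)).trans (zero_mul _), hd 2, ha 2 3 (by decide), hd 3⟩)⟩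
    | c2 h =>
      have h' := h.relabel (NumType.vec [1, 1, 1, 1]) (NumType.vec [1, 2, 2, 1]) (NumType.edges [(0, 1, 2), (1, 2, 2), (2, 3, 2)]) ![0, 1, 2, 3] (by decide +kernel)
      obtain ⟨σ, m, w, hm, hw, hd, ha⟩ := h'.values hall
      exact ⟨fun i => (hall i).1, σ, m, w, .inr (.inr (.inl ⟨(hm 0).trans (one_mul _), (hm 1).trans (one_mul _), (hm 2).trans (one_mul _), (hm 3).trans (one_mul _), (hw 0).trans (one_mul _), hw 1, hw 2, (hw 3).trans (one_mul _), hd 0, ha 0 1 (by decide), (ha 0 2 (by decide)).trans (zero_mul _), (ha 0 3 (by decide)).trans (zero_mul _), hd 1, ha 1 2 (by decide), (ha 1 3 (by decide)).trans (zero_mul _), hd 2, ha 2 3 (by decide), hd 3⟩))⟩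
    | c3 h =>
      have h' := h.relabel (NumType.vec [1, 2, 2, 1]) (NumType.vec [2, 1, 1, 2]) (NumType.edges [(0, 1, 2), (1, 2, 1), (2, 3, 2)]) ![0, 1, 2, 3] (by decide +kernel)
      obtain ⟨σ, m, w, hm, hw, hd, ha⟩ := h'.values hall
      exact ⟨fun i => (hall i).1, σ, m, w, .inr (.inr (.inr (.inl ⟨(hm 0).trans (one_mul _), hm 1, hm 2, (hm 3).trans (one_mul _), hw 0, (hw 1).trans (one_mul _), (hw 2).trans (one_mul _), hw 3, hd 0, ha 0 1 (by decide), (ha 0 2 (by decide)).trans (zero_mul _), (ha 0 3 (by decide)).trans (zero_mul _), hd 1, (ha 1 2 (by decide)).trans (one_mul _), (ha 1 3 (by decide)).trans (zero_mul _), hd 2, ha 2 3 (by decide), hd 3⟩)))⟩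
    | b1 hn h =>
      have h' := h.relabel (NumType.vec [2, 1, 1, 1]) (NumType.vec [1, 1, 1, 2]) (NumType.edges [(0, 1, 1), (0, 2, 1), (0, 3, 2)]) ![1, 2, 3, 0] (by decide +kernel)
      obtain ⟨σ, m, w, hm, hw, hd, ha⟩ := h'.values hall
      exact ⟨fun i => (hall i).1, σ, m, w, .inr (.inr (.inr (.inr (.inl ⟨hm 0, (hm 1).trans (one_mul _), (hm 2).trans (one_mul _), (hm 3).trans (one_mul _), (hw 0).trans (one_mul _), (hw 1).trans (one_mul _), (hw 2).trans (one_mul _), hw 3, hd 0, (ha 0 1 (by decide)).trans (one_mul _), (ha 0 2 (by decide)).trans (one_mul _), ha 0 3 (by decide), hd 1, (ha 1 2 (by decide)).trans (zero_mul _), (ha 1 3 (by decide)).trans (zero_mul _), hd 2, (ha 2 3 (by decide)).trans (zero_mul _), hd 3⟩))))⟩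
    | b2 hn h =>
      have h' := h.relabel (NumType.vec [2, 1, 1, 2]) (NumType.vec [2, 2, 2, 1]) (NumType.edges [(0, 1, 2), (0, 2, 2), (0, 3, 2)]) ![1, 2, 3, 0] (by decide +kernel)
      obtain ⟨σ, m, w, hm, hw, hd, ha⟩ := h'.values hall
      exact ⟨fun i => (hall i).1, σ, m, w, .inr (.inr (.inr (.inr (.inr (⟨hm 0, (hm 1).trans (one_mul _), (hm 2).trans (one_mul _), hm 3, hw 0, hw 1, hw 2, (hw 3).trans (one_mul _), hd 0, ha 0 1 (by decide), ha 0 2 (by decide), ha 0 3 (by decide), hd 1, (ha 1 2 (by decide)).trans (zero_mul _), (ha 1 3 (by decide)).trans (zero_mul _), hd 2, (ha 2 3 (by decide)).trans (zero_mul _), hd 3⟩)))))⟩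
    | d hn h => omega
    | d4 hn h => omega
    | g2a hn h => omega
    | g2b hn h => omega
    | f4a hn h => omega
    | f4b hn h => omega
    | e6 hn h => omega
    | e7 hn h => omega
    | e8 hn h => omega

end Groth.Agent.S7364
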