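import Groth.Statements.S7365
import Groth.Agent.NumType.Finish
-- import your own Groth.Agent.* helpers here

set_option autoImplicit false
open Finset
open Models Models.NumericalType

namespace Groth.Agent.S7365

/-- Genus one classification: case n = 5: let T be a minimal numerical type of genus 1 on 5 indices.
Then all g_i = 0 and, for some permutation σ of the indices and some integers m, w, the
multiplicities, weights and intersection matrix (m_{σ(i)}, w_{σ(i)}, a_{σ(i)σ(j)}) are those of one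
of the following 9 types: [five cycle] m = (m, m, m, m, m), w = (w, w, w, w, w), a = (-2 * w w 0 0 w
/ w -2 * w w 0 0 / 0 w -2 * w w 0 / 0 0 w -2 * w w / w 0 0 w -2 * w); [equal equal up equal] m = (m,
2 * m, 3 * m, 2 * m, m), w = (w, w, w, 2 * w, 2 * w), a = (-2 * w w 0 0 0 / w -2 * w w 0 0 / 0 w -2
* w 2 * w 0 / 0 0 2 * w -4 * w 2 * w / 0 0 0 2 * w -4 * w); [equal equal down equal] m = (m, 2 * m,
3 * m, 4 * m, 2 * m), w = (2 * w, 2 * w, 2 * w, w, w), a = (-4 * w 2 * w 0 0 0 / 2 * w -4 * w 2 * w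
0 0 / 0 2 * w -4 * w 2 * w 0 / 0 0 2 * w -2 * w w / 0 0 0 w -2 * w); [up equal equal up] m = (2 * m,
2 * m, 2 * m, 2 * m, m), w = (w, 2 * w, 2 * w, 2 * w, 4 * w), a = (-2 * w 2 * w 0 0 0 / 2 * w -4 * w
2 * w 0 0 / 0 2 * w -4 * w 2 * w 0 / 0 0 2 * w -4 * w 4 * w / 0 0 0 4 * w -8 * w); [up equal equal
down] m = (m, m, m, m, m), w = (w, 2 * w, 2 * w, 2 * w, w), a = (-2 * w 2 * w 0 0 0 / 2 * w -4 * w 2
* w 0 0 / 0 2 * w -4 * w 2 * w 0 / 0 0 2 * w -4 * w 2 * w / 0 0 0 2 * w -2 * w); [down equal equal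
up] m = (m, 2 * m, 2 * m, 2 * m, m), w = (2 * w, w, w, w, 2 * w), a = (-4 * w 2 * w 0 0 0 / 2 * w -2
* w w 0 0 / 0 w -2 * w w 0 / 0 0 w -2 * w 2 * w / 0 0 0 2 * w -4 * w); [quadruple] m = (2 * m, m, m,
m, m), w = (w, w, w, w, w), a = (-2 * w w w w w / w -2 * w 0 0 0 / w 0 -2 * w 0 0 / w 0 0 -2 * w 0 /
w 0 0 0 -2 * w); [triple extended up] m = (m, 2 * m, 2 * m, m, m), w = (2 * w, w, w, w, w), a = (-4
* w 2 * w 0 0 0 / 2 * w -2 * w w 0 0 / 0 w -2 * w w w / 0 0 w -2 * w 0 / 0 0 w 0 -2 * w); [triple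
extended down] m = (2 * m, 2 * m, 2 * m, m, m), w = (w, 2 * w, 2 * w, 2 * w, 2 * w), a = (-2 * w 2 *
w 0 0 0 / 2 * w -4 * w 2 * w 0 0 / 0 2 * w -4 * w 2 * w 2 * w / 0 0 2 * w -4 * w 0 / 0 0 2 * w 0 -4
* w). Only the classification direction is stated. -/
theorem result (T : Models.NumericalType 5) (hmin : T.IsMinimal) (hg : T.genus = 1) :
    (∀ i, T.g i = 0) ∧ ∃ (σ : Equiv.Perm (Fin 5)) (m w : ℤ),
      ((T.m (σ 0) = m ∧ T.m (σ 1) = m ∧ T.m (σ 2) = m ∧ T.m (σ 3) = m ∧ T.m (σ 4) = m ∧ T.w (σ 0) = w ∧ T.w (σ 1) = w ∧ T.w (σ 2) = w ∧ T.w (σ 3) = w ∧ T.w (σ 4) = w ∧ T.a (σ 0) (σ 0) = -2 * w ∧ T.a (σ 0) (σ 1) = w ∧ T.a (σ 0) (σ 2) = 0 ∧ T.a (σ 0) (σ 3) = 0 ∧ T.a (σ 0) (σ 4) = w ∧ T.a (σ 1) (σ 1) = -2 * w ∧ T.a (σ 1) (σ 2) = w ∧ T.a (σ 1) (σ 3) = 0 ∧ T.a (σ 1) (σ 4) = 0 ∧ T.a (σ 2) (σ 2) = -2 * w ∧ T.a (σ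 2) (σ 3) = w ∧ T.a (σ 2) (σ 4) = 0 ∧ T.a (σ 3) (σ 3) = -2 * w ∧ T.a (σ 3) (σ 4) = w ∧ T.a (σ 4) (σ 4) = -2 * w) ∨
      (T.m (σ 0) = m ∧ T.m (σ 1) = 2 * m ∧ T.m (σ 2) = 3 * m ∧ T.m (σ 3) = 2 * m ∧ T.m (σ 4) = m ∧ T.w (σ 0) = w ∧ T.w (σ 1) = w ∧ T.w (σ 2) = w ∧ T.w (σ 3) = 2 * w ∧ T.w (σ 4) = 2 * w ∧ T.a (σ 0) (σ 0) = -2 * w ∧ T.a (σ 0) (σ 1) = w ∧ T.a (σ 0) (σ 2) = 0 ∧ T.a (σ 0) (σ 3) = 0 ∧ T.a (σ 0) (σ 4) = 0 ∧ T.a (σ 1) (σ 1) = -2 * w ∧ T.a (σ 1) (σ 2) = w ∧ T.a (σ 1) (σ 3) = 0 ∧ T.a (σ 1) (σ 4) = 0 ∧ T.a (σ 2) (σ 2) = -2 * w ∧ T.a (σ 2) (σ 3) = 2 * w ∧ T.a (σ 2) (σ 4) = 0 ∧ T.a (σ 3) (σ 3) = -4 * w ∧ T.a (σ 3) (σ 4) = 2 * w ∧ T.a (σ 4) (σ 4) = -4 * w) ∨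
      (T.m (σ 0) = m ∧ T.m (σ 1) = 2 * m ∧ T.m (σ 2) = 3 * m ∧ T.m (σ 3) = 4 * m ∧ T.m (σ 4) = 2 * m ∧ T.w (σ 0) = 2 * w ∧ T.w (σ 1) = 2 * w ∧ T.w (σ 2) = 2 * w ∧ T.w (σ 3) = w ∧ T.w (σ 4) = w ∧ T.a (σ 0) (σ 0) = -4 * w ∧ T.a (σ 0) (σ 1) = 2 * w ∧ T.a (σ 0) (σ 2) = 0 ∧ T.a (σ 0) (σ 3) = 0 ∧ T.a (σ 0) (σ 4) = 0 ∧ T.a (σ 1) (σ 1) = -4 * w ∧ T.a (σ 1) (σ 2) = 2 * w ∧ T.a (σ 1) (σ 3) = 0 ∧ T.a (σ 1) (σ 4) = 0 ∧ T.a (σ 2) (σ 2) = -4 * w ∧ T.a (σ 2) (σ 3) = 2 * w ∧ T.a (σ 2) (σ 4) = 0 ∧ T.a (σ 3) (σ 3) = -2 * w ∧ T.a (σ 3) (σ 4) = w ∧ T.a (σ 4) (σ 4) = -2 * w) ∨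
      (T.m (σ 0) = 2 * m ∧ T.m (σ 1) = 2 * m ∧ T.m (σ 2) = 2 * m ∧ T.m (σ 3) = 2 * m ∧ T.m (σ 4) = m ∧ T.w (σ 0) = w ∧ T.w (σ 1) = 2 * w ∧ T.w (σ 2) = 2 * w ∧ T.w (σ 3) = 2 * w ∧ T.w (σ 4) = 4 * w ∧ T.a (σ 0) (σ 0) = -2 * w ∧ T.a (σ 0) (σ 1) = 2 * w ∧ T.a (σ 0) (σ 2) = 0 ∧ T.a (σ 0) (σ 3) = 0 ∧ T.a (σ 0) (σ 4) = 0 ∧ T.a (σ 1) (σ 1) = -4 * w ∧ T.a (σ 1) (σ 2) = 2 * w ∧ T.a (σ 1) (σ 3) = 0 ∧ T.a (σ 1) (σ 4) = 0 ∧ T.a (σ 2) (σ 2) = -4 * w ∧ T.a (σ 2) (σ 3) = 2 * w ∧ T.a (σ 2) (σ 4) = 0 ∧ T.a (σ 3) (σ 3) = -4 * w ∧ T.a (σ 3) (σ 4) = 4 * w ∧ T.a (σ 4) (σ 4) = -8 * w) ∨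
      (T.m (σ 0) = m ∧ T.m (σ 1) = m ∧ T.m (σ 2) = m ∧ T.m (σ 3) = m ∧ T.m (σ 4) = m ∧ T.w (σ 0) = w ∧ T.w (σ 1) = 2 * w ∧ T.w (σ 2) = 2 * w ∧ T.w (σ 3) = 2 * w ∧ T.w (σ 4) = w ∧ T.a (σ 0) (σ 0) = -2 * w ∧ T.a (σ 0) (σ 1) = 2 * w ∧ T.a (σ 0) (σ 2) = 0 ∧ T.a (σ 0) (σ 3) = 0 ∧ T.a (σ 0) (σ 4) = 0 ∧ T.a (σ 1) (σ 1) = -4 * w ∧ T.a (σ 1) (σ 2) = 2 * w ∧ T.a (σ 1) (σ 3) = 0 ∧ T.a (σ 1) (σ 4) = 0 ∧ T.a (σ 2) (σ 2) = -4 * w ∧ T.a (σ 2) (σ 3) = 2 * w ∧ T.a (σ 2) (σ 4) = 0 ∧ T.a (σ 3) (σ 3) = -4 * w ∧ T.a (σ 3) (σ 4) = 2 * w ∧ T.a (σ 4) (σ 4) = -2 * w) ∨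
      (T.m (σ 0) = m ∧ T.m (σ 1) = 2 * m ∧ T.m (σ 2) = 2 * m ∧ T.m (σ 3) = 2 * m ∧ T.m (σ 4) = m ∧ T.w (σ 0) = 2 * w ∧ T.w (σ 1) = w ∧ T.w (σ 2) = w ∧ T.w (σ 3) = w ∧ T.w (σ 4) = 2 * w ∧ T.a (σ 0) (σ 0) = -4 * w ∧ T.a (σ 0) (σ 1) = 2 * w ∧ T.a (σ 0) (σ 2) = 0 ∧ T.a (σ 0) (σ 3) = 0 ∧ T.a (σ 0) (σ 4) = 0 ∧ T.a (σ 1) (σ 1) = -2 * w ∧ T.a (σ 1) (σ 2) = w ∧ T.a (σ 1) (σ 3) = 0 ∧ T.a (σ 1) (σ 4) = 0 ∧ T.a (σ 2) (σ 2) = -2 * w ∧ T.a (σ 2) (σ 3) = w ∧ T.a (σ 2) (σ 4) = 0 ∧ T.a (σ 3) (σ 3) = -2 * w ∧ T.a (σ 3) (σ 4) = 2 * w ∧ T.a (σ 4) (σ 4) = -4 * w) ∨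
      (T.m (σ 0) = 2 * m ∧ T.m (σ 1) = m ∧ T.m (σ 2) = m ∧ T.m (σ 3) = m ∧ T.m (σ 4) = m ∧ T.w (σ 0) = w ∧ T.w (σ 1) = w ∧ T.w (σ 2) = w ∧ T.w (σ 3) = w ∧ T.w (σ 4) = w ∧ T.a (σ 0) (σ 0) = -2 * w ∧ T.a (σ 0) (σ 1) = w ∧ T.a (σ 0) (σ 2) = w ∧ T.a (σ 0) (σ 3) = w ∧ T.a (σ 0) (σ 4) = w ∧ T.a (σ 1) (σ 1) = -2 * w ∧ T.a (σ 1) (σ 2) = 0 ∧ T.a (σ 1) (σ 3) = 0 ∧ T.a (σ 1) (σ 4) = 0 ∧ T.a (σ 2) (σ 2) = -2 * w ∧ T.a (σ 2) (σ 3) = 0 ∧ T.a (σ 2) (σ 4) = 0 ∧ T.a (σ 3) (σ 3) = -2 * w ∧ T.a (σ 3) (σ 4) = 0 ∧ T.a (σ 4) (σ 4) = -2 * w) ∨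
      (T.m (σ 0) = m ∧ T.m (σ 1) = 2 * m ∧ T.m (σ 2) = 2 * m ∧ T.m (σ 3) = m ∧ T.m (σ 4) = m ∧ T.w (σ 0) = 2 * w ∧ T.w (σ 1) = w ∧ T.w (σ 2) = w ∧ T.w (σ 3) = w ∧ T.w (σ 4) = w ∧ T.a (σ 0) (σ 0) = -4 * w ∧ T.a (σ 0) (σ 1) = 2 * w ∧ T.a (σ 0) (σ 2) = 0 ∧ T.a (σ 0) (σ 3) = 0 ∧ T.a (σ 0) (σ 4) = 0 ∧ T.a (σ 1) (σ 1) = -2 * w ∧ T.a (σ 1) (σ 2) = w ∧ T.a (σ 1) (σ 3) = 0 ∧ T.a (σ 1) (σ 4) = 0 ∧ T.a (σ 2) (σ 2) = -2 * w ∧ T.a (σ 2) (σ 3) = w ∧ T.a (σ 2) (σ 4) = w ∧ T.a (σ 3) (σ 3) = -2 * w ∧ T.a (σ 3) (σ 4) = 0 ∧ T.a (σ 4) (σ 4) = -2 * w) ∨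
      (T.m (σ 0) = 2 * m ∧ T.m (σ 1) = 2 * m ∧ T.m (σ 2) = 2 * m ∧ T.m (σ 3) = m ∧ T.m (σ 4) = m ∧ T.w (σ 0) = w ∧ T.w (σ 1) = 2 * w ∧ T.w (σ 2) = 2 * w ∧ T.w (σ 3) = 2 * w ∧ T.w (σ 4) = 2 * w ∧ T.a (σ 0) (σ 0) = -2 * w ∧ T.a (σ 0) (σ 1) = 2 * w ∧ T.a (σ 0) (σ 2) = 0 ∧ T.a (σ 0) (σ 3) = 0 ∧ T.a (σ 0) (σ 4) = 0 ∧ T.a (σ 1) (σ 1) = -4 * w ∧ T.a (σ 1) (σ 2) = 2 * w ∧ T.a (σ 1) (σ 3) = 0 ∧ T.a (σ 1) (σ 4) = 0 ∧ T.a (σ 2) (σ 2) = -4 * w ∧ T.a (σ 2) (σ 3) = 2 * w ∧ T.a (σ 2) (σ 4) = 2 * w ∧ T.a (σ 3) (σ 3) = -4 * w ∧ T.a (σ 3) (σ 4) = 0 ∧ T.a (σ 4) (σ 4) = -4 * w)) := by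
    obtain ⟨hall, haff⟩ := NumType.genus_one_affine (by norm_num) hmin hg
    cases haff with
    | cyc h =>
      have h' := h.relabel (NumType.vec [1, 1, 1, 1, 1]) (NumType.vec [1, 1, 1, 1, 1]) (NumType.edges [(0, 1, 1), (0, 4, 1), (1, 2, 1), (2, 3, 1), (3, 4, 1)]) ![0, 1, 2, 3, 4] (by decide +kernel)
      obtain ⟨σ, m, w, hm, hw, hd, ha⟩ := h'.values hall
      exact ⟨fun i => (hall i).1, σ, m, w, .inl ⟨(hm 0).trans (one_mul _), (hm 1).trans (one_mul _), (hm 2).trans (one_mul _), (hm 3).trans (one_mul _), (hm 4).trans (one_mul _), (hw 0).trans (one_mul _), (hw 1).trans (one_mul _), (hw 2).trans (one_mul _), (hw 3).trans (one_mul _), (hw 4).trans (one_mul _), hd 0, (ha 0 1 (by decide)).trans (one_mul _), (ha 0 2 (by decide)).trans (zero_mul _), (ha 0 3 (by decide)).trans (zero_mul _), (ha 0 4 (by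 decide)).trans (one_mul _), hd 1, (ha 1 2 (by decide)).trans (one_mul _), (ha 1 3 (by decide)).trans (zero_mul _), (ha 1 4 (by decide)).trans (zero_mul _), hd 2, (ha 2 3 (by decide)).trans (one_mul _), (ha 2 4 (by decide)).trans (zero_mul _), hd 3, (ha 3 4 (by decide)).trans (one_mul _), hd 4⟩⟩
    | c1 h =>
      have h' := h.relabel (NumType.vec [2, 2, 2, 2, 1]) (NumType.vec [1, 2, 2, 2, 4]) (NumType.edges [(0, 1, 2), (1, 2, 2), (2, 3, 2), (3, 4, 4)]) ![0, 1, 2, 3, 4] (by decide +kernel)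
      obtain ⟨σ, m, w, hm, hw, hd, ha⟩ := h'.values hall
      exact ⟨fun i => (hall i).1, σ, m, w, .inr (.inr (.inr (.inl ⟨hm 0, hm 1, hm 2, hm 3, (hm 4).trans (one_mul _), (hw 0).trans (one_mul _), hw 1, hw 2, hw 3, hw 4, hd 0, ha 0 1 (by decide), (ha 0 2 (by decide)).trans (zero_mul _), (ha 0 3 (by decide)).trans (zero_mul _), (ha 0 4 (by decide)).trans (zero_mul _), hd 1, ha 1 2 (by decide), (ha 1 3 (by decide)).trans (zero_mul _), (ha 1 4 (by decide)).trans (zero_mul _), hd 2, ha 2 3 (by decide), (ha 2 4 (by decide)).trans (zero_mul _), hd 3, ha 3 4 (by decide), hd 4⟩)))⟩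
    | c2 h =>
      have h' := h.relabel (NumType.vec [1, 1, 1, 1, 1]) (NumType.vec [1, 2, 2, 2, 1]) (NumType.edges [(0, 1, 2), (1, 2, 2), (2, 3, 2), (3, 4, 2)]) ![0, 1, 2, 3, 4] (by decide +kernel)
      obtain ⟨σ, m, w, hm, hw, hd, ha⟩ := h'.values hall
      exact ⟨fun i => (hall i).1, σ, m, w, .inr (.inr (.inr (.inr (.inl ⟨(hm 0).trans (one_mul _), (hm 1).trans (one_mul _), (hm 2).trans (one_mul _), (hm 3).trans (one_mul _), (hm 4).trans (one_mul _), (hw 0).trans (one_mul _), hw 1, hw 2, hw 3, (hw 4).trans (one_mul _), hd 0, ha 0 1 (by decide), (ha 0 2 (by decide)).trans (zero_mul _), (ha 0 3 (by decide)).trans (zero_mul _), (ha 0 4 (by decide)).trans (zero_mul _), hd 1, ha 1 2 (by decide), (ha 1 3 (by decide)).trans (zero_mul _), (ha 1 4 (by decide)).trans (zero_mul _), hd 2, ha 2 3 (by decide),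 (ha 2 4 (by decide)).trans (zero_mul _), hd 3, ha 3 4 (by decide), hd 4⟩))))⟩
    | c3 h =>
      have h' := h.relabel (NumType.vec [1, 2, 2, 2, 1]) (NumType.vec [2, 1, 1, 1, 2]) (NumType.edges [(0, 1, 2), (1, 2, 1), (2, 3, 1), (3, 4, 2)]) ![0, 1, 2, 3, 4] (by decide +kernel)
      obtain ⟨σ, m, w, hm, hw, hd, ha⟩ := h'.values hall
      exact ⟨fun i => (hall i).1, σ, m, w, .inr (.inr (.inr (.inr (.inr (.inl ⟨(hm 0).trans (one_mul _), hm 1, hm 2, hm 3, (hm 4).trans (one_mul _), hw 0, (hw 1).trans (one_mul _), (hw 2).trans (one_mul _), (hw 3).trans (one_mul _), hw 4, hd 0, ha 0 1 (by decide), (ha 0 2 (by decide)).trans (zero_mul _), (ha 0 3 (by decide)).trans (zero_mul _), (ha 0 4 (by decide)).trans (zero_mul _), hd 1, (ha 1 2 (by decide)).trans (one_mul _), (ha 1 3 (by decide)).trans (zero_mul _), (ha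 1 4 (by decide)).trans (zero_mul _), hd 2, (ha 2 3 (by decide)).trans (one_mul _), (ha 2 4 (by decide)).trans (zero_mul _), hd 3, ha 3 4 (by decide), hd 4⟩)))))⟩
    | b1 hn h =>
      have h' := h.relabel (NumType.vec [1, 2, 2, 1, 1]) (NumType.vec [2, 1, 1, 1, 1]) (NumType.edges [(0, 1, 2), (1, 2, 1), (2, 3, 1), (2, 4, 1)]) ![0, 1, 2, 3, 4] (by decide +kernel)
      obtain ⟨σ, m, w, hm, hw, hd, ha⟩ := h'.values hall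
      exact ⟨fun i => (hall i).1, σ, m, w, .inr (.inr (.inr (.inr (.inr (.inr (.inr (.inl ⟨(hm 0).trans (one_mul _), hm 1, hm 2, (hm 3).trans (one_mul _), (hm 4).trans (one_mul _), hw 0, (hw 1).trans (one_mul _), (hw 2).trans (one_mul _), (hw 3).trans (one_mul _), (hw 4).trans (one_mul _), hd 0, ha 0 1 (by decide), (ha 0 2 (by decide)).trans (zero_mul _), (ha 0 3 (by decide)).trans (zero_mul _), (ha 0 4 (by decide)).trans (zero_mul _), hd 1, (ha 1 2 (by decide)).trans (one_mul _), (ha 1 3 (by decide)).trans (zero_mul _), (ha 1 4 (by decide)).trans (zero_mul _), hd 2, (ha 2 3 (by decide)).trans (one_mul _), (ha 2 4 (by decide)).trans (one_mul _), hd 3, (ha 3 4 (by decide)).trans (zero_mul _), hd 4⟩)))))))⟩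
    | b2 hn h =>
      have h' := h.relabel (NumType.vec [2, 2, 2, 1, 1]) (NumType.vec [1, 2, 2, 2, 2]) (NumType.edges [(0, 1, 2), (1, 2, 2), (2, 3, 2), (2, 4, 2)]) ![0, 1, 2, 3, 4] (by decide +kernel)
      obtain ⟨σ, m, w, hm, hw, hd, ha⟩ := h'.values hall
      exact ⟨fun i => (hall i).1, σ, m, w, .inr (.inr (.inr (.inr (.inr (.inr (.inr (.inr (⟨hm 0, hm 1, hm 2, (hm 3).trans (one_mul _), (hm 4).trans (one_mul _), (hw 0).trans (one_mul _), hw 1, hw 2, hw 3, hw 4, hd 0, ha 0 1 (by decide), (ha 0 2 (by decide)).trans (zero_mul _), (ha 0 3 (by decide)).trans (zero_mul _), (ha 0 4 (by decide)).trans (zero_mul _), hd 1, ha 1 2 (by decide), (ha 1 3 (by decide)).trans (zero_mul _), (ha 1 4 (by decide)).trans (zero_mul _), hd 2, ha 2 3 (by decide), ha 2 4 (by decide), hd 3, (ha 3 4 (by decide)).trans (zero_mul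 _), hd 4⟩))))))))⟩
    | d hn h => omega
    | d4 hn h =>
      have h' := h.relabel (NumType.vec [2, 1, 1, 1, 1]) (NumType.vec [1, 1, 1, 1, 1]) (NumType.edges [(0, 1, 1), (0, 2, 1), (0, 3, 1), (0, 4, 1)]) ![0, 1, 2, 3, 4] (by decide +kernel)
      obtain ⟨σ, m, w, hm, hw, hd, ha⟩ := h'.values hall
      exact ⟨fun i => (hall i).1, σ, m, w, .inr (.inr (.inr (.inr (.inr (.inr (.inl ⟨hm 0, (hm 1).trans (one_mul _), (hm 2).trans (one_mul _), (hm 3).trans (one_mul _), (hm 4).trans (one_mul _), (hw 0).trans (one_mul _), (hw 1).trans (one_mul _), (hw 2).trans (one_mul _), (hw 3).trans (one_mul _), (hw 4).trans (one_mul _), hd 0, (ha 0 1 (by decide)).trans (one_mul _), (ha 0 2 (by decide)).trans (one_mul _), (ha 0 3 (by decide)).trans (one_mul _), (ha 0 4 (by decide)).trans (one_mul _), hd 1, (ha 1 2 (by decide)).trans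 (zero_mul _), (ha 1 3 (by decide)).trans (zero_mul _), (ha 1 4 (by decide)).trans (zero_mul _), hd 2, (ha 2 3 (by decide)).trans (zero_mul _), (ha 2 4 (by decide)).trans (zero_mul _), hd 3, (ha 3 4 (by decide)).trans (zero_mul _), hd 4⟩))))))⟩
    | g2a hn h => omega
    | g2b hn h => omega
    | f4a hn h =>
      have h' := h.relabel (NumType.vec [1, 2, 3, 4, 2]) (NumType.vec [2, 2, 2, 1, 1]) (NumType.edges [(0, 1, 2), (1, 2, 2), (2, 3, 2), (3, 4, 1)]) ![0, 1, 2, 3, 4] (by decide +kernel)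
      obtain ⟨σ, m, w, hm, hw, hd, ha⟩ := h'.values hall
      exact ⟨fun i => (hall i).1, σ, m, w, .inr (.inr (.inl ⟨(hm 0).trans (one_mul _), hm 1, hm 2, hm 3, hm 4, hw 0, hw 1, hw 2, (hw 3).trans (one_mul _), (hw 4).trans (one_mul _), hd 0, ha 0 1 (by decide), (ha 0 2 (by decide)).trans (zero_mul _), (ha 0 3 (by decide)).trans (zero_mul _), (ha 0 4 (by decide)).trans (zero_mul _), hd 1, ha 1 2 (by decide), (ha 1 3 (by decide)).trans (zero_mul _), (ha 1 4 (by decide)).trans (zero_mul _), hd 2, ha 2 3 (by decide), (ha 2 4 (by decide)).trans (zero_mul _), hd 3, (ha 3 4 (by decide)).trans (one_mul _), hd 4⟩))⟩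
    | f4b hn h =>
      have h' := h.relabel (NumType.vec [1, 2, 3, 2, 1]) (NumType.vec [1, 1, 1, 2, 2]) (NumType.edges [(0, 1, 1), (1, 2, 1), (2, 3, 2), (3, 4, 2)]) ![0, 1, 2, 3, 4] (by decide +kernel)
      obtain ⟨σ, m, w, hm, hw, hd, ha⟩ := h'.values hall
      exact ⟨fun i => (hall i).1, σ, m, w, .inr (.inl ⟨(hm 0).trans (one_mul _), hm 1, hm 2, hm 3, (hm 4).trans (one_mul _), (hw 0).trans (one_mul _), (hw 1).trans (one_mul _), (hw 2).trans (one_mul _), hw 3, hw 4, hd 0, (ha 0 1 (by decide)).trans (one_mul _), (ha 0 2 (by decide)).trans (zero_mul _), (ha 0 3 (by decide)).trans (zero_mul _), (ha 0 4 (by decide)).trans (zero_mul _), hd 1, (ha 1 2 (by decide)).trans (one_mul _), (ha 1 3 (by decide)).trans (zero_mul _), (ha 1 4 (by decide)).trans (zero_mul _), hd 2, ha 2 3 (by decide), (ha 2 4 (by decide)).trans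 (zero_mul _), hd 3, ha 3 4 (by decide), hd 4⟩)⟩
    | e6 hn h => omega
    | e7 hn h => omega
    | e8 hn h => omega

end Groth.Agent.S7365
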