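import Groth.Statements.S7366
import Groth.Agent.DoublePt.Base
import Groth.Agent.RatType.Main
import Groth.Agent.S11179

set_option autoImplicit false
set_option backward.isDefEq.respectTransparency false
set_option backward.isDefEq.respectTransparency.types false
universe u
open CategoryTheory CategoryTheory.Limits AlgebraicGeometry
open Resolve

namespace Groth.Agent.S7366

open IsLocalRing in
attribute [local instance] HasDerivedCategory.standard in
/-- Gorenstein rational singularities have embedding dimension at most three. -/
theorem finrank_le_three (A : Type u) [CommRing A] [IsDomain A] [IsIntegrallyClosed A] [LocCoh.IsGorensteinLocalRing A]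
    (hN : CAlg.IsNagata A) (hdim : ringKrullDim A = 2) (hA : Curv2.IsRationalSing A) (hnr : ¬ IsRegularLocalRing A) :
    Module.finrank (ResidueField A) (CotangentSpace A) ≤ 3 := by
  obtain ⟨μ, hμ⟩ := DoublePt.length_gr_of_nagata A hN hdim hA
  have h := RatType.length_dualizing hdim hnr hμ A ((S11179.result A).1 inferInstance)
  have h2 : Module.length A (A ⧸ (maximalIdeal A • (⊤ : Submodule A A))) = 1 := by
    rw [smul_eq_mul, Ideal.mul_top]
    exact HSLib.length_residueField
  rw [h2, Module.length_eq_of_surjective (S := A) (R := ResidueField A)
    (M := CotangentSpace A) Ideal.Quotient.mk_surjective, Module.length_eq_finrank] at h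
  have h3 : 1 + 2 = Module.finrank (ResidueField A) (CotangentSpace A) := by exact_mod_cast h
  omega

/-- Let (A, m, κ) be a local normal Nagata domain of dimension two which defines a rational singularity,
whose m-adic completion is a normal domain, and which is Gorenstein. Then Spec A has a resolution of
singularities: there is a proper morphism X → Spec A from an integral scheme all of whose local
rings are regular, which is an isomorphism over a nonempty open. (The published statement also says
that the resolution is reached by a finite sequence of blowings up in singular closed points through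
normal schemes with finitely many singular points of the same kind; this row asserts only that a
resolution exists.) -/
theorem result (A : Type u) [CommRing A] [IsDomain A]
    [IsIntegrallyClosed A] [LocCoh.IsGorensteinLocalRing A] (hN : CAlg.IsNagata A) (hdim : ringKrullDim A = 2) (hA : Curv2.IsRationalSing A)
    [IsDomain (Curv2.cpl A)] [IsIntegrallyClosed (Curv2.cpl A)] :
    ∃ (X : Scheme.{u}) (f : X ⟶ Spec (CommRingCat.of A)), IsProper f ∧ IsIntegral X ∧
      (∃ U : (Spec (CommRingCat.of A)).Opens, (U : Set (Spec (CommRingCat.of A))).Nonempty ∧ IsIso (f ∣_ U)) ∧
      ∀ x : X, IsRegularLocalRing (X.presheaf.stalk x) := by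
  obtain ⟨M, hP, hM, hreg⟩ := DoublePt.exists_resolution (A := CommRingCat.of A) hN hdim hA
    (finrank_le_three A hN hdim hA) ⟨inferInstance, inferInstance⟩
  haveI := hP
  exact ⟨M.Z, M.G, hP, M.integral, RatUp.exists_isIso_restrict (RatSing.nice_spec (R := CommRingCat.of A) hN hdim) M.G M.bir, hreg⟩

end Groth.Agent.S7366
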