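import Groth.Statements.S7368
import Groth.Agent.NumType.Finish
-- import your own Groth.Agent.* helpers here

set_option autoImplicit false
open Finset
open Models Models.NumericalType

namespace Groth.Agent.S7368

/-- Genus one classification: case n = 7: let T be a minimal numerical type of genus 1 on 7 indices.
Then all g_i = 0 and, for some permutation σ of the indices and some integers m, w, the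
multiplicities, weights and intersection matrix (m_{σ(i)}, w_{σ(i)}, a_{σ(i)σ(j)}) are those of one
of the following 8 types: [cycle] m = (m, m, m, m, m, m, m), w = (w, w, w, w, w, w, w), a = (-2 * w
w 0 0 0 0 w / w -2 * w w 0 0 0 0 / 0 w -2 * w w 0 0 0 / 0 0 w -2 * w w 0 0 / 0 0 0 w -2 * w w 0 / 0
0 0 0 w -2 * w w / w 0 0 0 0 w -2 * w); [up chain equal up] m = (2 * m, 2 * m, 2 * m, 2 * m, 2 * m,
2 * m, m), w = (w, 2 * w, 2 * w, 2 * w, 2 * w, 2 * w, 4 * w), a = (-2 * w 2 * w 0 0 0 0 0 / 2 * w -4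
* w 2 * w 0 0 0 0 / 0 2 * w -4 * w 2 * w 0 0 0 / 0 0 2 * w -4 * w 2 * w 0 0 / 0 0 0 2 * w -4 * w 2 *
w 0 / 0 0 0 0 2 * w -4 * w 4 * w / 0 0 0 0 0 4 * w -8 * w); [up chain equal down] m = (m, m, m, m,
m, m, m), w = (w, 2 * w, 2 * w, 2 * w, 2 * w, 2 * w, w), a = (-2 * w 2 * w 0 0 0 0 0 / 2 * w -4 * w
2 * w 0 0 0 0 / 0 2 * w -4 * w 2 * w 0 0 0 / 0 0 2 * w -4 * w 2 * w 0 0 / 0 0 0 2 * w -4 * w 2 * w 0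
/ 0 0 0 0 2 * w -4 * w 2 * w / 0 0 0 0 0 2 * w -2 * w); [down chain equal up] m = (m, 2 * m, 2 * m,
2 * m, 2 * m, 2 * m, m), w = (2 * w, w, w, w, w, w, 2 * w), a = (-4 * w 2 * w 0 0 0 0 0 / 2 * w -2 *
w w 0 0 0 0 / 0 w -2 * w w 0 0 0 / 0 0 w -2 * w w 0 0 / 0 0 0 w -2 * w w 0 / 0 0 0 0 w -2 * w 2 * w
/ 0 0 0 0 0 2 * w -4 * w); [D extended up] m = (m, 2 * m, 2 * m, 2 * m, 2 * m, m, m), w = (2 * w, w,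
w, w, w, w, w), a = (-4 * w 2 * w 0 0 0 0 0 / 2 * w -2 * w w 0 0 0 0 / 0 w -2 * w w 0 0 0 / 0 0 w -2
* w w 0 0 / 0 0 0 w -2 * w w w / 0 0 0 0 w -2 * w 0 / 0 0 0 0 w 0 -2 * w); [D extended down] m = (2
* m, 2 * m, 2 * m, 2 * m, 2 * m, m, m), w = (w, 2 * w, 2 * w, 2 * w, 2 * w, 2 * w, 2 * w), a = (-2 *
w 2 * w 0 0 0 0 0 / 2 * w -4 * w 2 * w 0 0 0 0 / 0 2 * w -4 * w 2 * w 0 0 0 / 0 0 2 * w -4 * w 2 * w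
0 0 / 0 0 0 2 * w -4 * w 2 * w 2 * w / 0 0 0 0 2 * w -4 * w 0 / 0 0 0 0 2 * w 0 -4 * w); [double
triple] m = (m, m, 2 * m, 2 * m, 2 * m, m, m), w = (w, w, w, w, w, w, w), a = (-2 * w 0 w 0 0 0 0 /
0 -2 * w w 0 0 0 0 / w w -2 * w w 0 0 0 / 0 0 w -2 * w w 0 0 / 0 0 0 w -2 * w w w / 0 0 0 0 w -2 * w
0 / 0 0 0 0 w 0 -2 * w); [E6 completed] m = (m, 2 * m, 3 * m, m, 2 * m, m, 2 * m), w = (w, w, w, w,
w, w, w), a = (-2 * w w 0 0 0 0 0 / w -2 * w w 0 0 0 0 / 0 w -2 * w 0 w 0 w / 0 0 0 -2 * w w 0 0 / 0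
0 w w -2 * w 0 0 / 0 0 0 0 0 -2 * w w / 0 0 w 0 0 w -2 * w). Only the classification direction is
stated. (In the family with weights (w, 2w, …, 2w, w) the consecutive intersection numbers are 2w,
as divisibility by the weights forces; the published list prints w there, and omits m_{n-2} = 2m in
the two D-type families.) -/
theorem result (T : Models.NumericalType 7) (hmin : T.IsMinimal) (hg : T.genus = 1) :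
    (∀ i, T.g i = 0) ∧ ∃ (σ : Equiv.Perm (Fin 7)) (m w : ℤ),
      ((T.m (σ 0) = m ∧ T.m (σ 1) = m ∧ T.m (σ 2) = m ∧ T.m (σ 3) = m ∧ T.m (σ 4) = m ∧ T.m (σ 5) = m ∧ T.m (σ 6) = m ∧ T.w (σ 0) = w ∧ T.w (σ 1) = w ∧ T.w (σ 2) = w ∧ T.w (σ 3) = w ∧ T.w (σ 4) = w ∧ T.w (σ 5) = w ∧ T.w (σ 6) = w ∧ T.a (σ 0) (σ 0) = -2 * w ∧ T.a (σ 0) (σ 1) = w ∧ T.a (σ 0) (σ 2) = 0 ∧ T.a (σ 0) (σ 3) = 0 ∧ T.a (σ 0) (σ 4) = 0 ∧ T.a (σ 0) (σ 5) = 0 ∧ T.a (σ 0) (σ 6) = w ∧ T.a (σ 1) (σ 1) = -2 * w ∧ T.a (σ 1) (σ 2) = w ∧ T.a (σ 1) (σ 3) = 0 ∧ T.a (σ 1) (σ 4) = 0 ∧ T.a (σ 1) (σ 5) = 0 ∧ T.a (σ 1) (σ 6) = 0 ∧ T.a (σ 2) (σ 2) = -2 * w ∧ T.a (σ 2) (σ 3) = w ∧ T.a (σ 2) (σ 4) = 0 ∧ T.a (σ 2) (σ 5) = 0 ∧ T.a (σ 2) (σ 6) = 0 ∧ T.a (σ 3) (σ 3) = -2 * w ∧ T.a (σ 3) (σ 4) = w ∧ T.a (σ 3) (σ 5) = 0 ∧ T.a (σ 3) (σ 6) = 0 ∧ T.a (σ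 4) (σ 4) = -2 * w ∧ T.a (σ 4) (σ 5) = w ∧ T.a (σ 4) (σ 6) = 0 ∧ T.a (σ 5) (σ 5) = -2 * w ∧ T.a (σ 5) (σ 6) = w ∧ T.a (σ 6) (σ 6) = -2 * w) ∨
      (T.m (σ 0) = 2 * m ∧ T.m (σ 1) = 2 * m ∧ T.m (σ 2) = 2 * m ∧ T.m (σ 3) = 2 * m ∧ T.m (σ 4) = 2 * m ∧ T.m (σ 5) = 2 * m ∧ T.m (σ 6) = m ∧ T.w (σ 0) = w ∧ T.w (σ 1) = 2 * w ∧ T.w (σ 2) = 2 * w ∧ T.w (σ 3) = 2 * w ∧ T.w (σ 4) = 2 * w ∧ T.w (σ 5) = 2 * w ∧ T.w (σ 6) = 4 * w ∧ T.a (σ 0) (σ 0) = -2 * w ∧ T.a (σ 0) (σ 1) = 2 * w ∧ T.a (σ 0) (σ 2) = 0 ∧ T.a (σ 0) (σ 3) = 0 ∧ T.a (σ 0) (σ 4) = 0 ∧ T.a (σ 0) (σ 5) = 0 ∧ T.a (σ 0) (σ 6) = 0 ∧ T.a (σ 1) (σ 1) = -4 * w ∧ T.a (σ 1) (σ 2) = 2 * w ∧ T.a (σ 1) (σ 3) = 0 ∧ T.a (σ 1) (σ 4) = 0 ∧ T.a (σ 1) (σ 5) = 0 ∧ T.a (σ 1) (σ 6) = 0 ∧ T.a (σ 2) (σ 2) = -4 * w ∧ T.a (σ 2) (σ 3) = 2 * w ∧ T.a (σ 2) (σ 4) = 0 ∧ T.a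 (σ 2) (σ 5) = 0 ∧ T.a (σ 2) (σ 6) = 0 ∧ T.a (σ 3) (σ 3) = -4 * w ∧ T.a (σ 3) (σ 4) = 2 * w ∧ T.a (σ 3) (σ 5) = 0 ∧ T.a (σ 3) (σ 6) = 0 ∧ T.a (σ 4) (σ 4) = -4 * w ∧ T.a (σ 4) (σ 5) = 2 * w ∧ T.a (σ 4) (σ 6) = 0 ∧ T.a (σ 5) (σ 5) = -4 * w ∧ T.a (σ 5) (σ 6) = 4 * w ∧ T.a (σ 6) (σ 6) = -8 * w) ∨
      (T.m (σ 0) = m ∧ T.m (σ 1) = m ∧ T.m (σ 2) = m ∧ T.m (σ 3) = m ∧ T.m (σ 4) = m ∧ T.m (σ 5) = m ∧ T.m (σ 6) = m ∧ T.w (σ 0) = w ∧ T.w (σ 1) = 2 * w ∧ T.w (σ 2) = 2 * w ∧ T.w (σ 3) = 2 * w ∧ T.w (σ 4) = 2 * w ∧ T.w (σ 5) = 2 * w ∧ T.w (σ 6) = w ∧ T.a (σ 0) (σ 0) = -2 * w ∧ T.a (σ 0) (σ 1) = 2 * w ∧ T.a (σ 0) (σ 2) = 0 ∧ T.a (σ 0) (σ 3) = 0 ∧ T.a (σ 0) (σ 4) = 0 ∧ T.a (σ 0) (σ 5) = 0 ∧ T.a (σ 0) (σ 6) = 0 ∧ T.a (σ 1) (σ 1) = -4 * w ∧ T.a (σ 1) (σ 2) = 2 * w ∧ T.a (σ 1) (σ 3) = 0 ∧ T.a (σ 1) (σ 4) = 0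 ∧ T.a (σ 1) (σ 5) = 0 ∧ T.a (σ 1) (σ 6) = 0 ∧ T.a (σ 2) (σ 2) = -4 * w ∧ T.a (σ 2) (σ 3) = 2 * w ∧ T.a (σ 2) (σ 4) = 0 ∧ T.a (σ 2) (σ 5) = 0 ∧ T.a (σ 2) (σ 6) = 0 ∧ T.a (σ 3) (σ 3) = -4 * w ∧ T.a (σ 3) (σ 4) = 2 * w ∧ T.a (σ 3) (σ 5) = 0 ∧ T.a (σ 3) (σ 6) = 0 ∧ T.a (σ 4) (σ 4) = -4 * w ∧ T.a (σ 4) (σ 5) = 2 * w ∧ T.a (σ 4) (σ 6) = 0 ∧ T.a (σ 5) (σ 5) = -4 * w ∧ T.a (σ 5) (σ 6) = 2 * w ∧ T.a (σ 6) (σ 6) = -2 * w) ∨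
      (T.m (σ 0) = m ∧ T.m (σ 1) = 2 * m ∧ T.m (σ 2) = 2 * m ∧ T.m (σ 3) = 2 * m ∧ T.m (σ 4) = 2 * m ∧ T.m (σ 5) = 2 * m ∧ T.m (σ 6) = m ∧ T.w (σ 0) = 2 * w ∧ T.w (σ 1) = w ∧ T.w (σ 2) = w ∧ T.w (σ 3) = w ∧ T.w (σ 4) = w ∧ T.w (σ 5) = w ∧ T.w (σ 6) = 2 * w ∧ T.a (σ 0) (σ 0) = -4 * w ∧ T.a (σ 0) (σ 1) = 2 * w ∧ T.a (σ 0) (σ 2) = 0 ∧ T.a (σ 0) (σ 3) = 0 ∧ T.a (σ 0) (σ 4) = 0 ∧ T.a (σ 0) (σ 5) = 0 ∧ T.a (σ 0) (σ 6) = 0 ∧ T.a (σ 1) (σ 1) = -2 * w ∧ T.a (σ 1) (σ 2) = w ∧ T.a (σ 1) (σ 3) = 0 ∧ T.a (σ 1) (σ 4) = 0 ∧ T.a (σ 1) (σ 5) = 0 ∧ T.a (σ 1) (σ 6) = 0 ∧ T.a (σ 2) (σ 2) = -2 * w ∧ T.a (σ 2) (σ 3) = w ∧ T.a (σ 2) (σ 4) = 0 ∧ T.a (σ 2) (σ 5) = 0 ∧ T.a (σ 2) (σ 6) = 0 ∧ T.a (σ 3) (σ 3) = -2 * w ∧ T.a (σ 3) (σ 4) = w ∧ T.a (σ 3) (σ 5) = 0 ∧ T.a (σ 3) (σ 6) = 0 ∧ T.a (σ 4) (σ 4) = -2 * w ∧ T.a (σ 4)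 (σ 5) = w ∧ T.a (σ 4) (σ 6) = 0 ∧ T.a (σ 5) (σ 5) = -2 * w ∧ T.a (σ 5) (σ 6) = 2 * w ∧ T.a (σ 6) (σ 6) = -4 * w) ∨
      (T.m (σ 0) = m ∧ T.m (σ 1) = 2 * m ∧ T.m (σ 2) = 2 * m ∧ T.m (σ 3) = 2 * m ∧ T.m (σ 4) = 2 * m ∧ T.m (σ 5) = m ∧ T.m (σ 6) = m ∧ T.w (σ 0) = 2 * w ∧ T.w (σ 1) = w ∧ T.w (σ 2) = w ∧ T.w (σ 3) = w ∧ T.w (σ 4) = w ∧ T.w (σ 5) = w ∧ T.w (σ 6) = w ∧ T.a (σ 0) (σ 0) = -4 * w ∧ T.a (σ 0) (σ 1) = 2 * w ∧ T.a (σ 0) (σ 2) = 0 ∧ T.a (σ 0) (σ 3) = 0 ∧ T.a (σ 0) (σ 4) = 0 ∧ T.a (σ 0) (σ 5) = 0 ∧ T.a (σ 0) (σ 6) = 0 ∧ T.a (σ 1) (σ 1) = -2 * w ∧ T.a (σ 1) (σ 2) = w ∧ T.a (σ 1) (σ 3) = 0 ∧ T.a (σ 1) (σ 4) = 0 ∧ T.a (σ 1) (σ 5) = 0 ∧ T.a (σ 1) (σ 6) = 0 ∧ T.a (σ 2) (σ 2) = -2 * w ∧ T.a (σ 2) (σ 3) = w ∧ T.a (σ 2) (σ 4) = 0 ∧ T.a (σ 2) (σ 5) = 0 ∧ T.a (σ 2) (σ 6) = 0 ∧ T.a (σ 3) (σ 3) = -2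 * w ∧ T.a (σ 3) (σ 4) = w ∧ T.a (σ 3) (σ 5) = 0 ∧ T.a (σ 3) (σ 6) = 0 ∧ T.a (σ 4) (σ 4) = -2 * w ∧ T.a (σ 4) (σ 5) = w ∧ T.a (σ 4) (σ 6) = w ∧ T.a (σ 5) (σ 5) = -2 * w ∧ T.a (σ 5) (σ 6) = 0 ∧ T.a (σ 6) (σ 6) = -2 * w) ∨
      (T.m (σ 0) = 2 * m ∧ T.m (σ 1) = 2 * m ∧ T.m (σ 2) = 2 * m ∧ T.m (σ 3) = 2 * m ∧ T.m (σ 4) = 2 * m ∧ T.m (σ 5) = m ∧ T.m (σ 6) = m ∧ T.w (σ 0) = w ∧ T.w (σ 1) = 2 * w ∧ T.w (σ 2) = 2 * w ∧ T.w (σ 3) = 2 * w ∧ T.w (σ 4) = 2 * w ∧ T.w (σ 5) = 2 * w ∧ T.w (σ 6) = 2 * w ∧ T.a (σ 0) (σ 0) = -2 * w ∧ T.a (σ 0) (σ 1) = 2 * w ∧ T.a (σ 0) (σ 2) = 0 ∧ T.a (σ 0) (σ 3) = 0 ∧ T.a (σ 0) (σ 4) = 0 ∧ T.a (σ 0) (σ 5) = 0 ∧ T.a (σ 0) (σ 6) = 0 ∧ T.a (σ 1) (σ 1) = -4 * w ∧ T.a (σ 1) (σ 2) = 2 * w ∧ T.a (σ 1) (σ 3) = 0 ∧ T.a (σ 1) (σ 4) = 0 ∧ T.a (σ 1) (σ 5) = 0 ∧ T.a (σ 1) (σ 6) = 0 ∧ T.a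 (σ 2) (σ 2) = -4 * w ∧ T.a (σ 2) (σ 3) = 2 * w ∧ T.a (σ 2) (σ 4) = 0 ∧ T.a (σ 2) (σ 5) = 0 ∧ T.a (σ 2) (σ 6) = 0 ∧ T.a (σ 3) (σ 3) = -4 * w ∧ T.a (σ 3) (σ 4) = 2 * w ∧ T.a (σ 3) (σ 5) = 0 ∧ T.a (σ 3) (σ 6) = 0 ∧ T.a (σ 4) (σ 4) = -4 * w ∧ T.a (σ 4) (σ 5) = 2 * w ∧ T.a (σ 4) (σ 6) = 2 * w ∧ T.a (σ 5) (σ 5) = -4 * w ∧ T.a (σ 5) (σ 6) = 0 ∧ T.a (σ 6) (σ 6) = -4 * w) ∨
      (T.m (σ 0) = m ∧ T.m (σ 1) = m ∧ T.m (σ 2) = 2 * m ∧ T.m (σ 3) = 2 * m ∧ T.m (σ 4) = 2 * m ∧ T.m (σ 5) = m ∧ T.m (σ 6) = m ∧ T.w (σ 0) = w ∧ T.w (σ 1) = w ∧ T.w (σ 2) = w ∧ T.w (σ 3) = w ∧ T.w (σ 4) = w ∧ T.w (σ 5) = w ∧ T.w (σ 6) = w ∧ T.a (σ 0) (σ 0) = -2 * w ∧ T.a (σ 0) (σ 1) = 0 ∧ T.a (σ 0) (σ 2) = w ∧ T.a (σ 0) (σ 3) = 0 ∧ T.a (σ 0) (σ 4) = 0 ∧ T.a (σ 0) (σ 5) = 0 ∧ T.a (σ 0) (σ 6) = 0 ∧ T.a (σ 1) (σ 1) = -2 * w ∧ T.a (σ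 1) (σ 2) = w ∧ T.a (σ 1) (σ 3) = 0 ∧ T.a (σ 1) (σ 4) = 0 ∧ T.a (σ 1) (σ 5) = 0 ∧ T.a (σ 1) (σ 6) = 0 ∧ T.a (σ 2) (σ 2) = -2 * w ∧ T.a (σ 2) (σ 3) = w ∧ T.a (σ 2) (σ 4) = 0 ∧ T.a (σ 2) (σ 5) = 0 ∧ T.a (σ 2) (σ 6) = 0 ∧ T.a (σ 3) (σ 3) = -2 * w ∧ T.a (σ 3) (σ 4) = w ∧ T.a (σ 3) (σ 5) = 0 ∧ T.a (σ 3) (σ 6) = 0 ∧ T.a (σ 4) (σ 4) = -2 * w ∧ T.a (σ 4) (σ 5) = w ∧ T.a (σ 4) (σ 6) = w ∧ T.a (σ 5) (σ 5) = -2 * w ∧ T.a (σ 5) (σ 6) = 0 ∧ T.a (σ 6) (σ 6) = -2 * w) ∨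
      (T.m (σ 0) = m ∧ T.m (σ 1) = 2 * m ∧ T.m (σ 2) = 3 * m ∧ T.m (σ 3) = m ∧ T.m (σ 4) = 2 * m ∧ T.m (σ 5) = m ∧ T.m (σ 6) = 2 * m ∧ T.w (σ 0) = w ∧ T.w (σ 1) = w ∧ T.w (σ 2) = w ∧ T.w (σ 3) = w ∧ T.w (σ 4) = w ∧ T.w (σ 5) = w ∧ T.w (σ 6) = w ∧ T.a (σ 0) (σ 0) = -2 * w ∧ T.a (σ 0) (σ 1) = w ∧ T.a (σ 0) (σ 2) = 0 ∧ T.a (σ 0) (σ 3) = 0 ∧ T.a (σ 0) (σ 4) = 0 ∧ T.a (σ 0) (σ 5) = 0 ∧ T.a (σ 0) (σ 6) = 0 ∧ T.a (σ 1) (σ 1) = -2 * w ∧ T.a (σ 1) (σ 2) = w ∧ T.a (σ 1) (σ 3) = 0 ∧ T.a (σ 1) (σ 4) = 0 ∧ T.a (σ 1) (σ 5) = 0 ∧ T.a (σ 1) (σ 6) = 0 ∧ T.a (σ 2) (σ 2) = -2 * w ∧ T.a (σ 2) (σ 3) = 0 ∧ T.a (σ 2) (σ 4) = w ∧ T.a (σ 2) (σ 5) = 0 ∧ T.a (σ 2) (σ 6) = w ∧ T.a (σ 3) (σ 3) = -2 * w ∧ T.a (σ 3) (σ 4) = w ∧ T.a (σ 3) (σ 5) = 0 ∧ T.a (σ 3) (σ 6) = 0 ∧ T.a (σ 4) (σ 4) = -2 * w ∧ T.a (σ 4) (σ 5) = 0 ∧ T.a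 (σ 4) (σ 6) = 0 ∧ T.a (σ 5) (σ 5) = -2 * w ∧ T.a (σ 5) (σ 6) = w ∧ T.a (σ 6) (σ 6) = -2 * w)) := by
    obtain ⟨hall, haff⟩ := NumType.genus_one_affine (by norm_num) hmin hg
    cases haff with
    | cyc h =>
      have h' := h.relabel (NumType.vec [1, 1, 1, 1, 1, 1, 1]) (NumType.vec [1, 1, 1, 1, 1, 1, 1]) (NumType.edges [(0, 1, 1), (0, 6, 1), (1, 2, 1), (2, 3, 1), (3, 4, 1), (4, 5, 1), (5, 6, 1)]) ![0, 1, 2, 3, 4, 5, 6] (by decide +kernel)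
      obtain ⟨σ, m, w, hm, hw, hd, ha⟩ := h'.values hall
      exact ⟨fun i => (hall i).1, σ, m, w, .inl ⟨(hm 0).trans (one_mul _), (hm 1).trans (one_mul _), (hm 2).trans (one_mul _), (hm 3).trans (one_mul _), (hm 4).trans (one_mul _), (hm 5).trans (one_mul _), (hm 6).trans (one_mul _), (hw 0).trans (one_mul _), (hw 1).trans (one_mul _), (hw 2).trans (one_mul _), (hw 3).trans (one_mul _), (hw 4).trans (one_mul _), (hw 5).trans (one_mul _), (hw 6).trans (one_mul _), hd 0, (ha 0 1 (by decide)).trans (one_mul _), (ha 0 2 (by decide)).trans (zero_mul _), (ha 0 3 (by decide)).trans (zero_mul _), (ha 0 4 (by decide)).trans (zero_mul _), (ha 0 5 (by decide)).trans (zero_mul _), (ha 0 6 (by decide)).trans (one_mul _), hd 1, (ha 1 2 (by decide)).trans (one_mul _), (ha 1 3 (by decide)).trans (zero_mul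 _), (ha 1 4 (by decide)).trans (zero_mul _), (ha 1 5 (by decide)).trans (zero_mul _), (ha 1 6 (by decide)).trans (zero_mul _), hd 2, (ha 2 3 (by decide)).trans (one_mul _), (ha 2 4 (by decide)).trans (zero_mul _), (ha 2 5 (by decide)).trans (zero_mul _), (ha 2 6 (by decide)).trans (zero_mul _), hd 3, (ha 3 4 (by decide)).trans (one_mul _), (ha 3 5 (by decide)).trans (zero_mul _), (ha 3 6 (by decide)).trans (zero_mul _), hd 4, (ha 4 5 (by decide)).trans (one_mul _), (ha 4 6 (by decide)).trans (zero_mul _), hd 5, (ha 5 6 (by decide)).trans (one_mul _), hd 6⟩⟩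
    | c1 h =>
      have h' := h.relabel (NumType.vec [2, 2, 2, 2, 2, 2, 1]) (NumType.vec [1, 2, 2, 2, 2, 2, 4]) (NumType.edges [(0, 1, 2), (1, 2, 2), (2, 3, 2), (3, 4, 2), (4, 5, 2), (5, 6, 4)]) ![0, 1, 2, 3, 4, 5, 6] (by decide +kernel)
      obtain ⟨σ, m, w, hm, hw, hd, ha⟩ := h'.values hall
      exact ⟨fun i => (hall i).1, σ, m, w, .inr (.inl ⟨hm 0, hm 1, hm 2, hm 3, hm 4, hm 5, (hm 6).trans (one_mul _), (hw 0).trans (one_mul _), hw 1, hw 2, hw 3, hw 4, hw 5, hw 6, hd 0, ha 0 1 (by decide), (ha 0 2 (by decide)).trans (zero_mul _), (ha 0 3 (by decide)).trans (zero_mul _), (ha 0 4 (by decide)).trans (zero_mul _), (ha 0 5 (by decide)).trans (zero_mul _), (ha 0 6 (by decide)).trans (zero_mul _), hd 1, ha 1 2 (by decide), (ha 1 3 (by decide)).trans (zero_mul _), (ha 1 4 (by decide)).trans (zero_mul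 _), (ha 1 5 (by decide)).trans (zero_mul _), (ha 1 6 (by decide)).trans (zero_mul _), hd 2, ha 2 3 (by decide), (ha 2 4 (by decide)).trans (zero_mul _), (ha 2 5 (by decide)).trans (zero_mul _), (ha 2 6 (by decide)).trans (zero_mul _), hd 3, ha 3 4 (by decide), (ha 3 5 (by decide)).trans (zero_mul _), (ha 3 6 (by decide)).trans (zero_mul _), hd 4, ha 4 5 (by decide), (ha 4 6 (by decide)).trans (zero_mul _), hd 5, ha 5 6 (by decide), hd 6⟩)⟩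
    | c2 h =>
      have h' := h.relabel (NumType.vec [1, 1, 1, 1, 1, 1, 1]) (NumType.vec [1, 2, 2, 2, 2, 2, 1]) (NumType.edges [(0, 1, 2), (1, 2, 2), (2, 3, 2), (3, 4, 2), (4, 5, 2), (5, 6, 2)]) ![0, 1, 2, 3, 4, 5, 6] (by decide +kernel)
      obtain ⟨σ, m, w, hm, hw, hd, ha⟩ := h'.values hall
      exact ⟨fun i => (hall i).1, σ, m, w, .inr (.inr (.inl ⟨(hm 0).trans (one_mul _), (hm 1).trans (one_mul _), (hm 2).trans (one_mul _), (hm 3).trans (one_mul _), (hm 4).trans (one_mul _), (hm 5).trans (one_mul _), (hm 6).trans (one_mul _), (hw 0).trans (one_mul _), hw 1, hw 2, hw 3, hw 4, hw 5, (hw 6).trans (one_mul _), hd 0, ha 0 1 (by decide), (ha 0 2 (by decide)).trans (zero_mul _), (ha 0 3 (by decide)).trans (zero_mul _), (ha 0 4 (by decide)).trans (zero_mul _), (ha 0 5 (by decide)).trans (zero_mul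 _), (ha 0 6 (by decide)).trans (zero_mul _), hd 1, ha 1 2 (by decide), (ha 1 3 (by decide)).trans (zero_mul _), (ha 1 4 (by decide)).trans (zero_mul _), (ha 1 5 (by decide)).trans (zero_mul _), (ha 1 6 (by decide)).trans (zero_mul _), hd 2, ha 2 3 (by decide), (ha 2 4 (by decide)).trans (zero_mul _), (ha 2 5 (by decide)).trans (zero_mul _), (ha 2 6 (by decide)).trans (zero_mul _), hd 3, ha 3 4 (by decide), (ha 3 5 (by decide)).trans (zero_mul _), (ha 3 6 (by decide)).trans (zero_mul _), hd 4, ha 4 5 (by decide), (ha 4 6 (by decide)).trans (zero_mul _), hd 5, ha 5 6 (by decide), hd 6⟩))⟩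
    | c3 h =>
      have h' := h.relabel (NumType.vec [1, 2, 2, 2, 2, 2, 1]) (NumType.vec [2, 1, 1, 1, 1, 1, 2]) (NumType.edges [(0, 1, 2), (1, 2, 1), (2, 3, 1), (3, 4, 1), (4, 5, 1), (5, 6, 2)]) ![0, 1, 2, 3, 4, 5, 6] (by decide +kernel)
      obtain ⟨σ, m, w, hm, hw, hd, ha⟩ := h'.values hall
      exact ⟨fun i => (hall i).1, σ, m, w, .inr (.inr (.inr (.inl ⟨(hm 0).trans (one_mul _), hm 1, hm 2, hm 3, hm 4, hm 5, (hm 6).trans (one_mul _), hw 0, (hw 1).trans (one_mul _), (hw 2).trans (one_mul _), (hw 3).trans (one_mul _), (hw 4).trans (one_mul _), (hw 5).trans (one_mul _), hw 6, hd 0, ha 0 1 (by decide), (ha 0 2 (by decide)).trans (zero_mul _), (ha 0 3 (by decide)).trans (zero_mul _), (ha 0 4 (by decide)).trans (zero_mul _), (ha 0 5 (by decide)).trans (zero_mul _), (ha 0 6 (by decide)).trans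 (zero_mul _), hd 1, (ha 1 2 (by decide)).trans (one_mul _), (ha 1 3 (by decide)).trans (zero_mul _), (ha 1 4 (by decide)).trans (zero_mul _), (ha 1 5 (by decide)).trans (zero_mul _), (ha 1 6 (by decide)).trans (zero_mul _), hd 2, (ha 2 3 (by decide)).trans (one_mul _), (ha 2 4 (by decide)).trans (zero_mul _), (ha 2 5 (by decide)).trans (zero_mul _), (ha 2 6 (by decide)).trans (zero_mul _), hd 3, (ha 3 4 (by decide)).trans (one_mul _), (ha 3 5 (by decide)).trans (zero_mul _), (ha 3 6 (by decide)).trans (zero_mul _), hd 4, (ha 4 5 (by decide)).trans (one_mul _), (ha 4 6 (by decide)).trans (zero_mul _), hd 5, ha 5 6 (by decide), hd 6⟩)))⟩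
    | b1 hn h =>
      have h' := h.relabel (NumType.vec [1, 2, 2, 2, 2, 1, 1]) (NumType.vec [2, 1, 1, 1, 1, 1, 1]) (NumType.edges [(0, 1, 2), (1, 2, 1), (2, 3, 1), (3, 4, 1), (4, 5, 1), (4, 6, 1)]) ![0, 1, 2, 3, 4, 5, 6] (by decide +kernel)
      obtain ⟨σ, m, w, hm, hw, hd, ha⟩ := h'.values hall
      exact ⟨fun i => (hall i).1, σ, m, w, .inr (.inr (.inr (.inr (.inl ⟨(hm 0).trans (one_mul _), hm 1, hm 2, hm 3, hm 4, (hm 5).trans (one_mul _), (hm 6).trans (one_mul _), hw 0, (hw 1).trans (one_mul _), (hw 2).trans (one_mul _), (hw 3).trans (one_mul _), (hw 4).trans (one_mul _), (hw 5).trans (one_mul _), (hw 6).trans (one_mul _), hd 0, ha 0 1 (by decide), (ha 0 2 (by decide)).trans (zero_mul _), (ha 0 3 (by decide)).trans (zero_mul _), (ha 0 4 (by decide)).trans (zero_mul _), (ha 0 5 (by decide)).trans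 (zero_mul _), (ha 0 6 (by decide)).trans (zero_mul _), hd 1, (ha 1 2 (by decide)).trans (one_mul _), (ha 1 3 (by decide)).trans (zero_mul _), (ha 1 4 (by decide)).trans (zero_mul _), (ha 1 5 (by decide)).trans (zero_mul _), (ha 1 6 (by decide)).trans (zero_mul _), hd 2, (ha 2 3 (by decide)).trans (one_mul _), (ha 2 4 (by decide)).trans (zero_mul _), (ha 2 5 (by decide)).trans (zero_mul _), (ha 2 6 (by decide)).trans (zero_mul _), hd 3, (ha 3 4 (by decide)).trans (one_mul _), (ha 3 5 (by decide)).trans (zero_mul _), (ha 3 6 (by decide)).trans (zero_mul _), hd 4, (ha 4 5 (by decide)).trans (one_mul _), (ha 4 6 (by decide)).trans (one_mul _), hd 5, (ha 5 6 (by decide)).trans (zero_mul _), hd 6⟩))))⟩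
    | b2 hn h =>
      have h' := h.relabel (NumType.vec [2, 2, 2, 2, 2, 1, 1]) (NumType.vec [1, 2, 2, 2, 2, 2, 2]) (NumType.edges [(0, 1, 2), (1, 2, 2), (2, 3, 2), (3, 4, 2), (4, 5, 2), (4, 6, 2)]) ![0, 1, 2, 3, 4, 5, 6] (by decide +kernel)
      obtain ⟨σ, m, w, hm, hw, hd, ha⟩ := h'.values hall
      exact ⟨fun i => (hall i).1, σ, m, w, .inr (.inr (.inr (.inr (.inr (.inl ⟨hm 0, hm 1, hm 2, hm 3, hm 4, (hm 5).trans (one_mul _), (hm 6).trans (one_mul _), (hw 0).trans (one_mul _), hw 1, hw 2, hw 3, hw 4, hw 5, hw 6, hd 0, ha 0 1 (by decide), (ha 0 2 (by decide)).trans (zero_mul _), (ha 0 3 (by decide)).trans (zero_mul _), (ha 0 4 (by decide)).trans (zero_mul _), (ha 0 5 (by decide)).trans (zero_mul _), (ha 0 6 (by decide)).trans (zero_mul _), hd 1, ha 1 2 (by decide), (ha 1 3 (by decide)).trans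 (zero_mul _), (ha 1 4 (by decide)).trans (zero_mul _), (ha 1 5 (by decide)).trans (zero_mul _), (ha 1 6 (by decide)).trans (zero_mul _), hd 2, ha 2 3 (by decide), (ha 2 4 (by decide)).trans (zero_mul _), (ha 2 5 (by decide)).trans (zero_mul _), (ha 2 6 (by decide)).trans (zero_mul _), hd 3, ha 3 4 (by decide), (ha 3 5 (by decide)).trans (zero_mul _), (ha 3 6 (by decide)).trans (zero_mul _), hd 4, ha 4 5 (by decide), ha 4 6 (by decide), hd 5, (ha 5 6 (by decide)).trans (zero_mul _), hd 6⟩)))))⟩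
    | d hn h =>
      have h' := h.relabel (NumType.vec [1, 1, 2, 2, 2, 1, 1]) (NumType.vec [1, 1, 1, 1, 1, 1, 1]) (NumType.edges [(0, 2, 1), (1, 2, 1), (2, 3, 1), (3, 4, 1), (4, 5, 1), (4, 6, 1)]) ![0, 1, 2, 3, 4, 5, 6] (by decide +kernel)
      obtain ⟨σ, m, w, hm, hw, hd, ha⟩ := h'.values hall
      exact ⟨fun i => (hall i).1, σ, m, w, .inr (.inr (.inr (.inr (.inr (.inr (.inl ⟨(hm 0).trans (one_mul _), (hm 1).trans (one_mul _), hm 2, hm 3, hm 4, (hm 5).trans (one_mul _), (hm 6).trans (one_mul _), (hw 0).trans (one_mul _), (hw 1).trans (one_mul _), (hw 2).trans (one_mul _), (hw 3).trans (one_mul _), (hw 4).trans (one_mul _), (hw 5).trans (one_mul _), (hw 6).trans (one_mul _), hd 0, (ha 0 1 (by decide)).trans (zero_mul _), (ha 0 2 (by decide)).trans (one_mul _), (ha 0 3 (by decide)).trans (zero_mul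 _), (ha 0 4 (by decide)).trans (zero_mul _), (ha 0 5 (by decide)).trans (zero_mul _), (ha 0 6 (by decide)).trans (zero_mul _), hd 1, (ha 1 2 (by decide)).trans (one_mul _), (ha 1 3 (by decide)).trans (zero_mul _), (ha 1 4 (by decide)).trans (zero_mul _), (ha 1 5 (by decide)).trans (zero_mul _), (ha 1 6 (by decide)).trans (zero_mul _), hd 2, (ha 2 3 (by decide)).trans (one_mul _), (ha 2 4 (by decide)).trans (zero_mul _), (ha 2 5 (by decide)).trans (zero_mul _), (ha 2 6 (by decide)).trans (zero_mul _), hd 3, (ha 3 4 (by decide)).trans (one_mul _), (ha 3 5 (by decide)).trans (zero_mul _), (ha 3 6 (by decide)).trans (zero_mul _), hd 4, (ha 4 5 (by decide)).trans (one_mul _), (ha 4 6 (by decide)).trans (one_mul _), hd 5, (ha 5 6 (by decide)).trans (zero_mul _), hd 6⟩))))))⟩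
    | d4 hn h => omega
    | g2a hn h => omega
    | g2b hn h => omega
    | f4a hn h => omega
    | f4b hn h => omega
    | e6 hn h =>
      have h' := h.relabel (NumType.vec [1, 2, 3, 1, 2, 1, 2]) (NumType.vec [1, 1, 1, 1, 1, 1, 1]) (NumType.edges [(0, 1, 1), (1, 2, 1), (2, 4, 1), (2, 6, 1), (3, 4, 1), (5, 6, 1)]) ![0, 1, 2, 4, 3, 6, 5] (by decide +kernel)
      obtain ⟨σ, m, w, hm, hw, hd, ha⟩ := h'.values hall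
      exact ⟨fun i => (hall i).1, σ, m, w, .inr (.inr (.inr (.inr (.inr (.inr (.inr (⟨(hm 0).trans (one_mul _), hm 1, hm 2, (hm 3).trans (one_mul _), hm 4, (hm 5).trans (one_mul _), hm 6, (hw 0).trans (one_mul _), (hw 1).trans (one_mul _), (hw 2).trans (one_mul _), (hw 3).trans (one_mul _), (hw 4).trans (one_mul _), (hw 5).trans (one_mul _), (hw 6).trans (one_mul _), hd 0, (ha 0 1 (by decide)).trans (one_mul _), (ha 0 2 (by decide)).trans (zero_mul _), (ha 0 3 (by decide)).trans (zero_mul _), (ha 0 4 (by decide)).trans (zero_mul _), (ha 0 5 (by decide)).trans (zero_mul _), (ha 0 6 (by decide)).trans (zero_mul _), hd 1, (ha 1 2 (by decide)).trans (one_mul _), (ha 1 3 (by decide)).trans (zero_mul _), (ha 1 4 (by decide)).trans (zero_mul _), (ha 1 5 (by decide)).trans (zero_mul _), (ha 1 6 (by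 decide)).trans (zero_mul _), hd 2, (ha 2 3 (by decide)).trans (zero_mul _), (ha 2 4 (by decide)).trans (one_mul _), (ha 2 5 (by decide)).trans (zero_mul _), (ha 2 6 (by decide)).trans (one_mul _), hd 3, (ha 3 4 (by decide)).trans (one_mul _), (ha 3 5 (by decide)).trans (zero_mul _), (ha 3 6 (by decide)).trans (zero_mul _), hd 4, (ha 4 5 (by decide)).trans (zero_mul _), (ha 4 6 (by decide)).trans (zero_mul _), hd 5, (ha 5 6 (by decide)).trans (one_mul _), hd 6⟩)))))))⟩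
    | e7 hn h => omega
    | e8 hn h => omega

end Groth.Agent.S7368
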