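import Groth.Statements.S7369
import Groth.Agent.NumType.Finish
-- import your own Groth.Agent.* helpers here

set_option autoImplicit false
open Finset
open Models Models.NumericalType

namespace Groth.Agent.S7369

/-- Genus one classification: case n = 8: let T be a minimal numerical type of genus 1 on 8 indices.
Then all g_i = 0 and, for some permutation σ of the indices and some integers m, w, the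
multiplicities, weights and intersection matrix (m_{σ(i)}, w_{σ(i)}, a_{σ(i)σ(j)}) are those of one
of the following 8 types: [cycle] m = (m, m, m, m, m, m, m, m), w = (w, w, w, w, w, w, w, w), a =
(-2 * w w 0 0 0 0 0 w / w -2 * w w 0 0 0 0 0 / 0 w -2 * w w 0 0 0 0 / 0 0 w -2 * w w 0 0 0 / 0 0 0 w
-2 * w w 0 0 / 0 0 0 0 w -2 * w w 0 / 0 0 0 0 0 w -2 * w w / w 0 0 0 0 0 w -2 * w); [up chain equal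
up] m = (2 * m, 2 * m, 2 * m, 2 * m, 2 * m, 2 * m, 2 * m, m), w = (w, 2 * w, 2 * w, 2 * w, 2 * w, 2
* w, 2 * w, 4 * w), a = (-2 * w 2 * w 0 0 0 0 0 0 / 2 * w -4 * w 2 * w 0 0 0 0 0 / 0 2 * w -4 * w 2
* w 0 0 0 0 / 0 0 2 * w -4 * w 2 * w 0 0 0 / 0 0 0 2 * w -4 * w 2 * w 0 0 / 0 0 0 0 2 * w -4 * w 2 *
w 0 / 0 0 0 0 0 2 * w -4 * w 4 * w / 0 0 0 0 0 0 4 * w -8 * w); [up chain equal down] m = (m, m, m,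
m, m, m, m, m), w = (w, 2 * w, 2 * w, 2 * w, 2 * w, 2 * w, 2 * w, w), a = (-2 * w 2 * w 0 0 0 0 0 0
/ 2 * w -4 * w 2 * w 0 0 0 0 0 / 0 2 * w -4 * w 2 * w 0 0 0 0 / 0 0 2 * w -4 * w 2 * w 0 0 0 / 0 0 0
2 * w -4 * w 2 * w 0 0 / 0 0 0 0 2 * w -4 * w 2 * w 0 / 0 0 0 0 0 2 * w -4 * w 2 * w / 0 0 0 0 0 0 2
* w -2 * w); [down chain equal up] m = (m, 2 * m, 2 * m, 2 * m, 2 * m, 2 * m, 2 * m, m), w = (2 * w,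
w, w, w, w, w, w, 2 * w), a = (-4 * w 2 * w 0 0 0 0 0 0 / 2 * w -2 * w w 0 0 0 0 0 / 0 w -2 * w w 0
0 0 0 / 0 0 w -2 * w w 0 0 0 / 0 0 0 w -2 * w w 0 0 / 0 0 0 0 w -2 * w w 0 / 0 0 0 0 0 w -2 * w 2 *
w / 0 0 0 0 0 0 2 * w -4 * w); [D extended up] m = (m, 2 * m, 2 * m, 2 * m, 2 * m, 2 * m, m, m), w =
(2 * w, w, w, w, w, w, w, w), a = (-4 * w 2 * w 0 0 0 0 0 0 / 2 * w -2 * w w 0 0 0 0 0 / 0 w -2 * w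
w 0 0 0 0 / 0 0 w -2 * w w 0 0 0 / 0 0 0 w -2 * w w 0 0 / 0 0 0 0 w -2 * w w w / 0 0 0 0 0 w -2 * w
0 / 0 0 0 0 0 w 0 -2 * w); [D extended down] m = (2 * m, 2 * m, 2 * m, 2 * m, 2 * m, 2 * m, m, m), w
= (w, 2 * w, 2 * w, 2 * w, 2 * w, 2 * w, 2 * w, 2 * w), a = (-2 * w 2 * w 0 0 0 0 0 0 / 2 * w -4 * w
2 * w 0 0 0 0 0 / 0 2 * w -4 * w 2 * w 0 0 0 0 / 0 0 2 * w -4 * w 2 * w 0 0 0 / 0 0 0 2 * w -4 * w 2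
* w 0 0 / 0 0 0 0 2 * w -4 * w 2 * w 2 * w / 0 0 0 0 0 2 * w -4 * w 0 / 0 0 0 0 0 2 * w 0 -4 * w);
[double triple] m = (m, m, 2 * m, 2 * m, 2 * m, 2 * m, m, m), w = (w, w, w, w, w, w, w, w), a = (-2
* w 0 w 0 0 0 0 0 / 0 -2 * w w 0 0 0 0 0 / w w -2 * w w 0 0 0 0 / 0 0 w -2 * w w 0 0 0 / 0 0 0 w -2
* w w 0 0 / 0 0 0 0 w -2 * w w w / 0 0 0 0 0 w -2 * w 0 / 0 0 0 0 0 w 0 -2 * w); [E7 completed] m =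
(m, 2 * m, 3 * m, 4 * m, 3 * m, 2 * m, m, 2 * m), w = (w, w, w, w, w, w, w, w), a = (-2 * w w 0 0 0
0 0 0 / w -2 * w w 0 0 0 0 0 / 0 w -2 * w w 0 0 0 0 / 0 0 w -2 * w w 0 0 w / 0 0 0 w -2 * w w 0 0 /
0 0 0 0 w -2 * w w 0 / 0 0 0 0 0 w -2 * w 0 / 0 0 0 w 0 0 0 -2 * w). Only the classification
direction is stated. (In the family with weights (w, 2w, …, 2w, w) the consecutive intersection
numbers are 2w, as divisibility by the weights forces; the published list prints w there, and omits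
m_{n-2} = 2m in the two D-type families.) -/
theorem result (T : Models.NumericalType 8) (hmin : T.IsMinimal) (hg : T.genus = 1) :
    (∀ i, T.g i = 0) ∧ ∃ (σ : Equiv.Perm (Fin 8)) (m w : ℤ),
      ((T.m (σ 0) = m ∧ T.m (σ 1) = m ∧ T.m (σ 2) = m ∧ T.m (σ 3) = m ∧ T.m (σ 4) = m ∧ T.m (σ 5) = m ∧ T.m (σ 6) = m ∧ T.m (σ 7) = m ∧ T.w (σ 0) = w ∧ T.w (σ 1) = w ∧ T.w (σ 2) = w ∧ T.w (σ 3) = w ∧ T.w (σ 4) = w ∧ T.w (σ 5) = w ∧ T.w (σ 6) = w ∧ T.w (σ 7) = w ∧ T.a (σ 0) (σ 0) = -2 * w ∧ T.a (σ 0) (σ 1) = w ∧ T.a (σ 0) (σ 2) = 0 ∧ T.a (σ 0) (σ 3) = 0 ∧ T.a (σ 0) (σ 4) = 0 ∧ T.a (σ 0) (σ 5) = 0 ∧ T.a (σ 0) (σ 6) = 0 ∧ T.a (σ 0) (σ 7) = w ∧ T.a (σ 1) (σ 1) = -2 * w ∧ T.a (σ 1) (σ 2) = w ∧ T.a (σ 1) (σ 3) = 0 ∧ T.a (σ 1) (σ 4) = 0 ∧ T.a (σ 1) (σ 5) = 0 ∧ T.a (σ 1) (σ 6) = 0 ∧ T.a (σ 1) (σ 7) = 0 ∧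 T.a (σ 2) (σ 2) = -2 * w ∧ T.a (σ 2) (σ 3) = w ∧ T.a (σ 2) (σ 4) = 0 ∧ T.a (σ 2) (σ 5) = 0 ∧ T.a (σ 2) (σ 6) = 0 ∧ T.a (σ 2) (σ 7) = 0 ∧ T.a (σ 3) (σ 3) = -2 * w ∧ T.a (σ 3) (σ 4) = w ∧ T.a (σ 3) (σ 5) = 0 ∧ T.a (σ 3) (σ 6) = 0 ∧ T.a (σ 3) (σ 7) = 0 ∧ T.a (σ 4) (σ 4) = -2 * w ∧ T.a (σ 4) (σ 5) = w ∧ T.a (σ 4) (σ 6) = 0 ∧ T.a (σ 4) (σ 7) = 0 ∧ T.a (σ 5) (σ 5) = -2 * w ∧ T.a (σ 5) (σ 6) = w ∧ T.a (σ 5) (σ 7) = 0 ∧ T.a (σ 6) (σ 6) = -2 * w ∧ T.a (σ 6) (σ 7) = w ∧ T.a (σ 7) (σ 7) = -2 * w) ∨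
      (T.m (σ 0) = 2 * m ∧ T.m (σ 1) = 2 * m ∧ T.m (σ 2) = 2 * m ∧ T.m (σ 3) = 2 * m ∧ T.m (σ 4) = 2 * m ∧ T.m (σ 5) = 2 * m ∧ T.m (σ 6) = 2 * m ∧ T.m (σ 7) = m ∧ T.w (σ 0) = w ∧ T.w (σ 1) = 2 * w ∧ T.w (σ 2) = 2 * w ∧ T.w (σ 3) = 2 * w ∧ T.w (σ 4) = 2 * w ∧ T.w (σ 5) = 2 * w ∧ T.w (σ 6) = 2 * w ∧ T.w (σ 7) = 4 * w ∧ T.a (σ 0) (σ 0) = -2 * w ∧ T.a (σ 0) (σ 1) = 2 * w ∧ T.a (σ 0) (σ 2) = 0 ∧ T.a (σ 0) (σ 3) = 0 ∧ T.a (σ 0) (σ 4) = 0 ∧ T.a (σ 0) (σ 5) = 0 ∧ T.a (σ 0) (σ 6) = 0 ∧ T.a (σ 0) (σ 7) = 0 ∧ T.a (σ 1) (σ 1) = -4 * w ∧ T.a (σ 1) (σ 2) = 2 * w ∧ T.a (σ 1) (σ 3) = 0 ∧ T.a (σ 1) (σ 4) = 0 ∧ T.a (σ 1) (σ 5) = 0 ∧ T.a (σ 1) (σ 6) = 0 ∧ T.a (σ 1) (σ 7) = 0 ∧ T.a (σ 2) (σ 2) = -4 * w ∧ T.a (σ 2) (σ 3) = 2 * w ∧ T.a (σ 2) (σ 4) = 0 ∧ T.a (σ 2) (σ 5) = 0 ∧ T.a (σ 2) (σ 6) = 0 ∧ T.a (σ 2)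 (σ 7) = 0 ∧ T.a (σ 3) (σ 3) = -4 * w ∧ T.a (σ 3) (σ 4) = 2 * w ∧ T.a (σ 3) (σ 5) = 0 ∧ T.a (σ 3) (σ 6) = 0 ∧ T.a (σ 3) (σ 7) = 0 ∧ T.a (σ 4) (σ 4) = -4 * w ∧ T.a (σ 4) (σ 5) = 2 * w ∧ T.a (σ 4) (σ 6) = 0 ∧ T.a (σ 4) (σ 7) = 0 ∧ T.a (σ 5) (σ 5) = -4 * w ∧ T.a (σ 5) (σ 6) = 2 * w ∧ T.a (σ 5) (σ 7) = 0 ∧ T.a (σ 6) (σ 6) = -4 * w ∧ T.a (σ 6) (σ 7) = 4 * w ∧ T.a (σ 7) (σ 7) = -8 * w) ∨
      (T.m (σ 0) = m ∧ T.m (σ 1) = m ∧ T.m (σ 2) = m ∧ T.m (σ 3) = m ∧ T.m (σ 4) = m ∧ T.m (σ 5) = m ∧ T.m (σ 6) = m ∧ T.m (σ 7) = m ∧ T.w (σ 0) = w ∧ T.w (σ 1) = 2 * w ∧ T.w (σ 2) = 2 * w ∧ T.w (σ 3) = 2 * w ∧ T.w (σ 4) = 2 * w ∧ T.w (σ 5) = 2 * w ∧ T.w (σ 6) = 2 * w ∧ T.w (σ 7) = w ∧ T.a (σ 0) (σ 0) = -2 * w ∧ T.a (σ 0) (σ 1) = 2 * w ∧ T.a (σ 0) (σ 2) = 0 ∧ T.a (σ 0) (σ 3) = 0 ∧ T.a (σ 0) (σ 4) = 0 ∧ T.a (σ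 0) (σ 5) = 0 ∧ T.a (σ 0) (σ 6) = 0 ∧ T.a (σ 0) (σ 7) = 0 ∧ T.a (σ 1) (σ 1) = -4 * w ∧ T.a (σ 1) (σ 2) = 2 * w ∧ T.a (σ 1) (σ 3) = 0 ∧ T.a (σ 1) (σ 4) = 0 ∧ T.a (σ 1) (σ 5) = 0 ∧ T.a (σ 1) (σ 6) = 0 ∧ T.a (σ 1) (σ 7) = 0 ∧ T.a (σ 2) (σ 2) = -4 * w ∧ T.a (σ 2) (σ 3) = 2 * w ∧ T.a (σ 2) (σ 4) = 0 ∧ T.a (σ 2) (σ 5) = 0 ∧ T.a (σ 2) (σ 6) = 0 ∧ T.a (σ 2) (σ 7) = 0 ∧ T.a (σ 3) (σ 3) = -4 * w ∧ T.a (σ 3) (σ 4) = 2 * w ∧ T.a (σ 3) (σ 5) = 0 ∧ T.a (σ 3) (σ 6) = 0 ∧ T.a (σ 3) (σ 7) = 0 ∧ T.a (σ 4) (σ 4) = -4 * w ∧ T.a (σ 4) (σ 5) = 2 * w ∧ T.a (σ 4) (σ 6) = 0 ∧ T.a (σ 4) (σ 7) = 0 ∧ T.a (σ 5) (σ 5) = -4 * w ∧ T.a (σ 5) (σ 6) = 2 * w ∧ T.a (σ 5) (σ 7) = 0 ∧ T.a (σ 6) (σ 6) = -4 * w ∧ T.a (σ 6) (σ 7) = 2 * w ∧ T.a (σ 7) (σ 7) = -2 * w) ∨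
      (T.m (σ 0) = m ∧ T.m (σ 1) = 2 * m ∧ T.m (σ 2) = 2 * m ∧ T.m (σ 3) = 2 * m ∧ T.m (σ 4) = 2 * m ∧ T.m (σ 5) = 2 * m ∧ T.m (σ 6) = 2 * m ∧ T.m (σ 7) = m ∧ T.w (σ 0) = 2 * w ∧ T.w (σ 1) = w ∧ T.w (σ 2) = w ∧ T.w (σ 3) = w ∧ T.w (σ 4) = w ∧ T.w (σ 5) = w ∧ T.w (σ 6) = w ∧ T.w (σ 7) = 2 * w ∧ T.a (σ 0) (σ 0) = -4 * w ∧ T.a (σ 0) (σ 1) = 2 * w ∧ T.a (σ 0) (σ 2) = 0 ∧ T.a (σ 0) (σ 3) = 0 ∧ T.a (σ 0) (σ 4) = 0 ∧ T.a (σ 0) (σ 5) = 0 ∧ T.a (σ 0) (σ 6) = 0 ∧ T.a (σ 0) (σ 7) = 0 ∧ T.a (σ 1) (σ 1) = -2 * w ∧ T.a (σ 1) (σ 2) = w ∧ T.a (σ 1) (σ 3) = 0 ∧ T.a (σ 1) (σ 4) = 0 ∧ T.a (σ 1) (σ 5) = 0 ∧ T.a (σ 1) (σ 6) = 0 ∧ T.a (σ 1) (σ 7) = 0 ∧ T.a (σ 2) (σ 2) = -2 * w ∧ T.a (σ 2) (σ 3) = w ∧ T.a (σ 2) (σ 4) = 0 ∧ T.a (σ 2) (σ 5) = 0 ∧ T.a (σ 2) (σ 6) = 0 ∧ T.a (σ 2) (σ 7) = 0 ∧ T.a (σ 3) (σ 3) = -2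 * w ∧ T.a (σ 3) (σ 4) = w ∧ T.a (σ 3) (σ 5) = 0 ∧ T.a (σ 3) (σ 6) = 0 ∧ T.a (σ 3) (σ 7) = 0 ∧ T.a (σ 4) (σ 4) = -2 * w ∧ T.a (σ 4) (σ 5) = w ∧ T.a (σ 4) (σ 6) = 0 ∧ T.a (σ 4) (σ 7) = 0 ∧ T.a (σ 5) (σ 5) = -2 * w ∧ T.a (σ 5) (σ 6) = w ∧ T.a (σ 5) (σ 7) = 0 ∧ T.a (σ 6) (σ 6) = -2 * w ∧ T.a (σ 6) (σ 7) = 2 * w ∧ T.a (σ 7) (σ 7) = -4 * w) ∨
      (T.m (σ 0) = m ∧ T.m (σ 1) = 2 * m ∧ T.m (σ 2) = 2 * m ∧ T.m (σ 3) = 2 * m ∧ T.m (σ 4) = 2 * m ∧ T.m (σ 5) = 2 * m ∧ T.m (σ 6) = m ∧ T.m (σ 7) = m ∧ T.w (σ 0) = 2 * w ∧ T.w (σ 1) = w ∧ T.w (σ 2) = w ∧ T.w (σ 3) = w ∧ T.w (σ 4) = w ∧ T.w (σ 5) = w ∧ T.w (σ 6) = w ∧ T.w (σ 7) = w ∧ T.a (σ 0) (σ 0) = -4 * w ∧ T.a (σ 0) (σ 1) = 2 * w ∧ T.a (σ 0) (σ 2) = 0 ∧ T.a (σ 0) (σ 3) = 0 ∧ T.a (σ 0) (σ 4) = 0 ∧ T.a (σ 0) (σ 5) = 0 ∧ T.a (σ 0) (σ 6) = 0 ∧ T.a (σ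 0) (σ 7) = 0 ∧ T.a (σ 1) (σ 1) = -2 * w ∧ T.a (σ 1) (σ 2) = w ∧ T.a (σ 1) (σ 3) = 0 ∧ T.a (σ 1) (σ 4) = 0 ∧ T.a (σ 1) (σ 5) = 0 ∧ T.a (σ 1) (σ 6) = 0 ∧ T.a (σ 1) (σ 7) = 0 ∧ T.a (σ 2) (σ 2) = -2 * w ∧ T.a (σ 2) (σ 3) = w ∧ T.a (σ 2) (σ 4) = 0 ∧ T.a (σ 2) (σ 5) = 0 ∧ T.a (σ 2) (σ 6) = 0 ∧ T.a (σ 2) (σ 7) = 0 ∧ T.a (σ 3) (σ 3) = -2 * w ∧ T.a (σ 3) (σ 4) = w ∧ T.a (σ 3) (σ 5) = 0 ∧ T.a (σ 3) (σ 6) = 0 ∧ T.a (σ 3) (σ 7) = 0 ∧ T.a (σ 4) (σ 4) = -2 * w ∧ T.a (σ 4) (σ 5) = w ∧ T.a (σ 4) (σ 6) = 0 ∧ T.a (σ 4) (σ 7) = 0 ∧ T.a (σ 5) (σ 5) = -2 * w ∧ T.a (σ 5) (σ 6) = w ∧ T.a (σ 5) (σ 7) = w ∧ T.a (σ 6) (σ 6) = -2 * w ∧ T.a (σ 6) (σ 7) = 0 ∧ T.a (σ 7) (σ 7) = -2 * w) ∨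
      (T.m (σ 0) = 2 * m ∧ T.m (σ 1) = 2 * m ∧ T.m (σ 2) = 2 * m ∧ T.m (σ 3) = 2 * m ∧ T.m (σ 4) = 2 * m ∧ T.m (σ 5) = 2 * m ∧ T.m (σ 6) = m ∧ T.m (σ 7) = m ∧ T.w (σ 0) = w ∧ T.w (σ 1) = 2 * w ∧ T.w (σ 2) = 2 * w ∧ T.w (σ 3) = 2 * w ∧ T.w (σ 4) = 2 * w ∧ T.w (σ 5) = 2 * w ∧ T.w (σ 6) = 2 * w ∧ T.w (σ 7) = 2 * w ∧ T.a (σ 0) (σ 0) = -2 * w ∧ T.a (σ 0) (σ 1) = 2 * w ∧ T.a (σ 0) (σ 2) = 0 ∧ T.a (σ 0) (σ 3) = 0 ∧ T.a (σ 0) (σ 4) = 0 ∧ T.a (σ 0) (σ 5) = 0 ∧ T.a (σ 0) (σ 6) = 0 ∧ T.a (σ 0) (σ 7) = 0 ∧ T.a (σ 1) (σ 1) = -4 * w ∧ T.a (σ 1) (σ 2) = 2 * w ∧ T.a (σ 1) (σ 3) = 0 ∧ T.a (σ 1) (σ 4) = 0 ∧ T.a (σ 1) (σ 5) = 0 ∧ T.a (σ 1) (σ 6) = 0 ∧ T.a (σ 1) (σ 7) = 0 ∧ T.a (σ 2) (σ 2) = -4 * w ∧ T.a (σ 2) (σ 3) = 2 * w ∧ T.a (σ 2) (σ 4) = 0 ∧ T.a (σ 2) (σ 5) = 0 ∧ T.a (σ 2) (σ 6) = 0 ∧ T.a (σ 2) (σ 7)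 = 0 ∧ T.a (σ 3) (σ 3) = -4 * w ∧ T.a (σ 3) (σ 4) = 2 * w ∧ T.a (σ 3) (σ 5) = 0 ∧ T.a (σ 3) (σ 6) = 0 ∧ T.a (σ 3) (σ 7) = 0 ∧ T.a (σ 4) (σ 4) = -4 * w ∧ T.a (σ 4) (σ 5) = 2 * w ∧ T.a (σ 4) (σ 6) = 0 ∧ T.a (σ 4) (σ 7) = 0 ∧ T.a (σ 5) (σ 5) = -4 * w ∧ T.a (σ 5) (σ 6) = 2 * w ∧ T.a (σ 5) (σ 7) = 2 * w ∧ T.a (σ 6) (σ 6) = -4 * w ∧ T.a (σ 6) (σ 7) = 0 ∧ T.a (σ 7) (σ 7) = -4 * w) ∨
      (T.m (σ 0) = m ∧ T.m (σ 1) = m ∧ T.m (σ 2) = 2 * m ∧ T.m (σ 3) = 2 * m ∧ T.m (σ 4) = 2 * m ∧ T.m (σ 5) = 2 * m ∧ T.m (σ 6) = m ∧ T.m (σ 7) = m ∧ T.w (σ 0) = w ∧ T.w (σ 1) = w ∧ T.w (σ 2) = w ∧ T.w (σ 3) = w ∧ T.w (σ 4) = w ∧ T.w (σ 5) = w ∧ T.w (σ 6) = w ∧ T.w (σ 7) = w ∧ T.a (σ 0) (σ 0) = -2 * w ∧ T.a (σ 0) (σ 1) = 0 ∧ T.a (σ 0) (σ 2) = w ∧ T.a (σ 0) (σ 3) = 0 ∧ T.a (σ 0) (σ 4) = 0 ∧ T.a (σ 0) (σ 5) = 0 ∧ T.a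 (σ 0) (σ 6) = 0 ∧ T.a (σ 0) (σ 7) = 0 ∧ T.a (σ 1) (σ 1) = -2 * w ∧ T.a (σ 1) (σ 2) = w ∧ T.a (σ 1) (σ 3) = 0 ∧ T.a (σ 1) (σ 4) = 0 ∧ T.a (σ 1) (σ 5) = 0 ∧ T.a (σ 1) (σ 6) = 0 ∧ T.a (σ 1) (σ 7) = 0 ∧ T.a (σ 2) (σ 2) = -2 * w ∧ T.a (σ 2) (σ 3) = w ∧ T.a (σ 2) (σ 4) = 0 ∧ T.a (σ 2) (σ 5) = 0 ∧ T.a (σ 2) (σ 6) = 0 ∧ T.a (σ 2) (σ 7) = 0 ∧ T.a (σ 3) (σ 3) = -2 * w ∧ T.a (σ 3) (σ 4) = w ∧ T.a (σ 3) (σ 5) = 0 ∧ T.a (σ 3) (σ 6) = 0 ∧ T.a (σ 3) (σ 7) = 0 ∧ T.a (σ 4) (σ 4) = -2 * w ∧ T.a (σ 4) (σ 5) = w ∧ T.a (σ 4) (σ 6) = 0 ∧ T.a (σ 4) (σ 7) = 0 ∧ T.a (σ 5) (σ 5) = -2 * w ∧ T.a (σ 5) (σ 6) = w ∧ T.a (σ 5) (σ 7) = w ∧ T.a (σ 6) (σ 6) = -2 * w ∧ T.a (σ 6) (σ 7) = 0 ∧ T.a (σ 7) (σ 7) = -2 * w) ∨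
      (T.m (σ 0) = m ∧ T.m (σ 1) = 2 * m ∧ T.m (σ 2) = 3 * m ∧ T.m (σ 3) = 4 * m ∧ T.m (σ 4) = 3 * m ∧ T.m (σ 5) = 2 * m ∧ T.m (σ 6) = m ∧ T.m (σ 7) = 2 * m ∧ T.w (σ 0) = w ∧ T.w (σ 1) = w ∧ T.w (σ 2) = w ∧ T.w (σ 3) = w ∧ T.w (σ 4) = w ∧ T.w (σ 5) = w ∧ T.w (σ 6) = w ∧ T.w (σ 7) = w ∧ T.a (σ 0) (σ 0) = -2 * w ∧ T.a (σ 0) (σ 1) = w ∧ T.a (σ 0) (σ 2) = 0 ∧ T.a (σ 0) (σ 3) = 0 ∧ T.a (σ 0) (σ 4) = 0 ∧ T.a (σ 0) (σ 5) = 0 ∧ T.a (σ 0) (σ 6) = 0 ∧ T.a (σ 0) (σ 7) = 0 ∧ T.a (σ 1) (σ 1) = -2 * w ∧ T.a (σ 1) (σ 2) = w ∧ T.a (σ 1) (σ 3) = 0 ∧ T.a (σ 1) (σ 4) = 0 ∧ T.a (σ 1) (σ 5) = 0 ∧ T.a (σ 1) (σ 6) = 0 ∧ T.a (σ 1) (σ 7) = 0 ∧ T.a (σ 2) (σ 2) = -2 * w ∧ T.a (σ 2) (σ 3) = w ∧ T.a (σ 2) (σ 4) = 0 ∧ T.a (σ 2) (σ 5) = 0 ∧ T.a (σ 2) (σ 6) = 0 ∧ T.a (σ 2) (σ 7) = 0 ∧ T.a (σ 3) (σ 3) = -2 * w ∧ T.a (σ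 3) (σ 4) = w ∧ T.a (σ 3) (σ 5) = 0 ∧ T.a (σ 3) (σ 6) = 0 ∧ T.a (σ 3) (σ 7) = w ∧ T.a (σ 4) (σ 4) = -2 * w ∧ T.a (σ 4) (σ 5) = w ∧ T.a (σ 4) (σ 6) = 0 ∧ T.a (σ 4) (σ 7) = 0 ∧ T.a (σ 5) (σ 5) = -2 * w ∧ T.a (σ 5) (σ 6) = w ∧ T.a (σ 5) (σ 7) = 0 ∧ T.a (σ 6) (σ 6) = -2 * w ∧ T.a (σ 6) (σ 7) = 0 ∧ T.a (σ 7) (σ 7) = -2 * w)) := by
    obtain ⟨hall, haff⟩ := NumType.genus_one_affine (by norm_num) hmin hg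
    cases haff with
    | cyc h =>
      have h' := h.relabel (NumType.vec [1, 1, 1, 1, 1, 1, 1, 1]) (NumType.vec [1, 1, 1, 1, 1, 1, 1, 1]) (NumType.edges [(0, 1, 1), (0, 7, 1), (1, 2, 1), (2, 3, 1), (3, 4, 1), (4, 5, 1), (5, 6, 1), (6, 7, 1)]) ![0, 1, 2, 3, 4, 5, 6, 7] (by decide +kernel)
      obtain ⟨σ, m, w, hm, hw, hd, ha⟩ := h'.values hall
      exact ⟨fun i => (hall i).1, σ, m, w, .inl ⟨(hm 0).trans (one_mul _), (hm 1).trans (one_mul _), (hm 2).trans (one_mul _), (hm 3).trans (one_mul _), (hm 4).trans (one_mul _), (hm 5).trans (one_mul _), (hm 6).trans (one_mul _), (hm 7).trans (one_mul _), (hw 0).trans (one_mul _), (hw 1).trans (one_mul _), (hw 2).trans (one_mul _), (hw 3).trans (one_mul _), (hw 4).trans (one_mul _), (hw 5).trans (one_mul _), (hw 6).trans (one_mul _), (hw 7).trans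 (one_mul _), hd 0, (ha 0 1 (by decide)).trans (one_mul _), (ha 0 2 (by decide)).trans (zero_mul _), (ha 0 3 (by decide)).trans (zero_mul _), (ha 0 4 (by decide)).trans (zero_mul _), (ha 0 5 (by decide)).trans (zero_mul _), (ha 0 6 (by decide)).trans (zero_mul _), (ha 0 7 (by decide)).trans (one_mul _), hd 1, (ha 1 2 (by decide)).trans (one_mul _), (ha 1 3 (by decide)).trans (zero_mul _), (ha 1 4 (by decide)).trans (zero_mul _), (ha 1 5 (by decide)).trans (zero_mul _), (ha 1 6 (by decide)).trans (zero_mul _), (ha 1 7 (by decide)).trans (zero_mul _), hd 2, (ha 2 3 (by decide)).trans (one_mul _), (ha 2 4 (by decide)).trans (zero_mul _), (ha 2 5 (by decide)).trans (zero_mul _), (ha 2 6 (by decide)).trans (zero_mul _), (ha 2 7 (by decide)).trans (zero_mul _), hd 3, (ha 3 4 (by decide)).trans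 (one_mul _), (ha 3 5 (by decide)).trans (zero_mul _), (ha 3 6 (by decide)).trans (zero_mul _), (ha 3 7 (by decide)).trans (zero_mul _), hd 4, (ha 4 5 (by decide)).trans (one_mul _), (ha 4 6 (by decide)).trans (zero_mul _), (ha 4 7 (by decide)).trans (zero_mul _), hd 5, (ha 5 6 (by decide)).trans (one_mul _), (ha 5 7 (by decide)).trans (zero_mul _), hd 6, (ha 6 7 (by decide)).trans (one_mul _), hd 7⟩⟩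
    | c1 h =>
      have h' := h.relabel (NumType.vec [2, 2, 2, 2, 2, 2, 2, 1]) (NumType.vec [1, 2, 2, 2, 2, 2, 2, 4]) (NumType.edges [(0, 1, 2), (1, 2, 2), (2, 3, 2), (3, 4, 2), (4, 5, 2), (5, 6, 2), (6, 7, 4)]) ![0, 1, 2, 3, 4, 5, 6, 7] (by decide +kernel)
      obtain ⟨σ, m, w, hm, hw, hd, ha⟩ := h'.values hall
      exact ⟨fun i => (hall i).1, σ, m, w, .inr (.inl ⟨hm 0, hm 1, hm 2, hm 3, hm 4, hm 5, hm 6, (hm 7).trans (one_mul _), (hw 0).trans (one_mul _), hw 1, hw 2, hw 3, hw 4, hw 5, hw 6, hw 7, hd 0, ha 0 1 (by decide), (ha 0 2 (by decide)).trans (zero_mul _), (ha 0 3 (by decide)).trans (zero_mul _), (ha 0 4 (by decide)).trans (zero_mul _), (ha 0 5 (by decide)).trans (zero_mul _), (ha 0 6 (by decide)).trans (zero_mul _), (ha 0 7 (by decide)).trans (zero_mul _), hd 1, ha 1 2 (by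 decide), (ha 1 3 (by decide)).trans (zero_mul _), (ha 1 4 (by decide)).trans (zero_mul _), (ha 1 5 (by decide)).trans (zero_mul _), (ha 1 6 (by decide)).trans (zero_mul _), (ha 1 7 (by decide)).trans (zero_mul _), hd 2, ha 2 3 (by decide), (ha 2 4 (by decide)).trans (zero_mul _), (ha 2 5 (by decide)).trans (zero_mul _), (ha 2 6 (by decide)).trans (zero_mul _), (ha 2 7 (by decide)).trans (zero_mul _), hd 3, ha 3 4 (by decide), (ha 3 5 (by decide)).trans (zero_mul _), (ha 3 6 (by decide)).trans (zero_mul _), (ha 3 7 (by decide)).trans (zero_mul _), hd 4, ha 4 5 (by decide), (ha 4 6 (by decide)).trans (zero_mul _), (ha 4 7 (by decide)).trans (zero_mul _), hd 5, ha 5 6 (by decide), (ha 5 7 (by decide)).trans (zero_mul _), hd 6, ha 6 7 (by decide), hd 7⟩)⟩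
    | c2 h =>
      have h' := h.relabel (NumType.vec [1, 1, 1, 1, 1, 1, 1, 1]) (NumType.vec [1, 2, 2, 2, 2, 2, 2, 1]) (NumType.edges [(0, 1, 2), (1, 2, 2), (2, 3, 2), (3, 4, 2), (4, 5, 2), (5, 6, 2), (6, 7, 2)]) ![0, 1, 2, 3, 4, 5, 6, 7] (by decide +kernel)
      obtain ⟨σ, m, w, hm, hw, hd, ha⟩ := h'.values hall
      exact ⟨fun i => (hall i).1, σ, m, w, .inr (.inr (.inl ⟨(hm 0).trans (one_mul _), (hm 1).trans (one_mul _), (hm 2).trans (one_mul _), (hm 3).trans (one_mul _), (hm 4).trans (one_mul _), (hm 5).trans (one_mul _), (hm 6).trans (one_mul _), (hm 7).trans (one_mul _), (hw 0).trans (one_mul _), hw 1, hw 2, hw 3, hw 4, hw 5, hw 6, (hw 7).trans (one_mul _), hd 0, ha 0 1 (by decide), (ha 0 2 (by decide)).trans (zero_mul _), (ha 0 3 (by decide)).trans (zero_mul _), (ha 0 4 (by decide)).trans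 (zero_mul _), (ha 0 5 (by decide)).trans (zero_mul _), (ha 0 6 (by decide)).trans (zero_mul _), (ha 0 7 (by decide)).trans (zero_mul _), hd 1, ha 1 2 (by decide), (ha 1 3 (by decide)).trans (zero_mul _), (ha 1 4 (by decide)).trans (zero_mul _), (ha 1 5 (by decide)).trans (zero_mul _), (ha 1 6 (by decide)).trans (zero_mul _), (ha 1 7 (by decide)).trans (zero_mul _), hd 2, ha 2 3 (by decide), (ha 2 4 (by decide)).trans (zero_mul _), (ha 2 5 (by decide)).trans (zero_mul _), (ha 2 6 (by decide)).trans (zero_mul _), (ha 2 7 (by decide)).trans (zero_mul _), hd 3, ha 3 4 (by decide), (ha 3 5 (by decide)).trans (zero_mul _), (ha 3 6 (by decide)).trans (zero_mul _), (ha 3 7 (by decide)).trans (zero_mul _), hd 4, ha 4 5 (by decide), (ha 4 6 (by decide)).trans (zero_mul _), (ha 4 7 (by decide)).trans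 (zero_mul _), hd 5, ha 5 6 (by decide), (ha 5 7 (by decide)).trans (zero_mul _), hd 6, ha 6 7 (by decide), hd 7⟩))⟩
    | c3 h =>
      have h' := h.relabel (NumType.vec [1, 2, 2, 2, 2, 2, 2, 1]) (NumType.vec [2, 1, 1, 1, 1, 1, 1, 2]) (NumType.edges [(0, 1, 2), (1, 2, 1), (2, 3, 1), (3, 4, 1), (4, 5, 1), (5, 6, 1), (6, 7, 2)]) ![0, 1, 2, 3, 4, 5, 6, 7] (by decide +kernel)
      obtain ⟨σ, m, w, hm, hw, hd, ha⟩ := h'.values hall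
      exact ⟨fun i => (hall i).1, σ, m, w, .inr (.inr (.inr (.inl ⟨(hm 0).trans (one_mul _), hm 1, hm 2, hm 3, hm 4, hm 5, hm 6, (hm 7).trans (one_mul _), hw 0, (hw 1).trans (one_mul _), (hw 2).trans (one_mul _), (hw 3).trans (one_mul _), (hw 4).trans (one_mul _), (hw 5).trans (one_mul _), (hw 6).trans (one_mul _), hw 7, hd 0, ha 0 1 (by decide), (ha 0 2 (by decide)).trans (zero_mul _), (ha 0 3 (by decide)).trans (zero_mul _), (ha 0 4 (by decide)).trans (zero_mul _), (ha 0 5 (by decide)).trans (zero_mul _), (ha 0 6 (by decide)).trans (zero_mul _), (ha 0 7 (by decide)).trans (zero_mul _), hd 1, (ha 1 2 (by decide)).trans (one_mul _), (ha 1 3 (by decide)).trans (zero_mul _), (ha 1 4 (by decide)).trans (zero_mul _), (ha 1 5 (by decide)).trans (zero_mul _), (ha 1 6 (by decide)).trans (zero_mul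 _), (ha 1 7 (by decide)).trans (zero_mul _), hd 2, (ha 2 3 (by decide)).trans (one_mul _), (ha 2 4 (by decide)).trans (zero_mul _), (ha 2 5 (by decide)).trans (zero_mul _), (ha 2 6 (by decide)).trans (zero_mul _), (ha 2 7 (by decide)).trans (zero_mul _), hd 3, (ha 3 4 (by decide)).trans (one_mul _), (ha 3 5 (by decide)).trans (zero_mul _), (ha 3 6 (by decide)).trans (zero_mul _), (ha 3 7 (by decide)).trans (zero_mul _), hd 4, (ha 4 5 (by decide)).trans (one_mul _), (ha 4 6 (by decide)).trans (zero_mul _), (ha 4 7 (by decide)).trans (zero_mul _), hd 5, (ha 5 6 (by decide)).trans (one_mul _), (ha 5 7 (by decide)).trans (zero_mul _), hd 6, ha 6 7 (by decide), hd 7⟩)))⟩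
    | b1 hn h =>
      have h' := h.relabel (NumType.vec [1, 2, 2, 2, 2, 2, 1, 1]) (NumType.vec [2, 1, 1, 1, 1, 1, 1, 1]) (NumType.edges [(0, 1, 2), (1, 2, 1), (2, 3, 1), (3, 4, 1), (4, 5, 1), (5, 6, 1), (5, 7, 1)]) ![0, 1, 2, 3, 4, 5, 6, 7] (by decide +kernel)
      obtain ⟨σ, m, w, hm, hw, hd, ha⟩ := h'.values hall
      exact ⟨fun i => (hall i).1, σ, m, w, .inr (.inr (.inr (.inr (.inl ⟨(hm 0).trans (one_mul _), hm 1, hm 2, hm 3, hm 4, hm 5, (hm 6).trans (one_mul _), (hm 7).trans (one_mul _), hw 0, (hw 1).trans (one_mul _), (hw 2).trans (one_mul _), (hw 3).trans (one_mul _), (hw 4).trans (one_mul _), (hw 5).trans (one_mul _), (hw 6).trans (one_mul _), (hw 7).trans (one_mul _), hd 0, ha 0 1 (by decide), (ha 0 2 (by decide)).trans (zero_mul _), (ha 0 3 (by decide)).trans (zero_mul _),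 (ha 0 4 (by decide)).trans (zero_mul _), (ha 0 5 (by decide)).trans (zero_mul _), (ha 0 6 (by decide)).trans (zero_mul _), (ha 0 7 (by decide)).trans (zero_mul _), hd 1, (ha 1 2 (by decide)).trans (one_mul _), (ha 1 3 (by decide)).trans (zero_mul _), (ha 1 4 (by decide)).trans (zero_mul _), (ha 1 5 (by decide)).trans (zero_mul _), (ha 1 6 (by decide)).trans (zero_mul _), (ha 1 7 (by decide)).trans (zero_mul _), hd 2, (ha 2 3 (by decide)).trans (one_mul _), (ha 2 4 (by decide)).trans (zero_mul _), (ha 2 5 (by decide)).trans (zero_mul _), (ha 2 6 (by decide)).trans (zero_mul _), (ha 2 7 (by decide)).trans (zero_mul _), hd 3, (ha 3 4 (by decide)).trans (one_mul _), (ha 3 5 (by decide)).trans (zero_mul _), (ha 3 6 (by decide)).trans (zero_mul _), (ha 3 7 (by decide)).trans (zero_mul _), hd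 4, (ha 4 5 (by decide)).trans (one_mul _), (ha 4 6 (by decide)).trans (zero_mul _), (ha 4 7 (by decide)).trans (zero_mul _), hd 5, (ha 5 6 (by decide)).trans (one_mul _), (ha 5 7 (by decide)).trans (one_mul _), hd 6, (ha 6 7 (by decide)).trans (zero_mul _), hd 7⟩))))⟩
    | b2 hn h =>
      have h' := h.relabel (NumType.vec [2, 2, 2, 2, 2, 2, 1, 1]) (NumType.vec [1, 2, 2, 2, 2, 2, 2, 2]) (NumType.edges [(0, 1, 2), (1, 2, 2), (2, 3, 2), (3, 4, 2), (4, 5, 2), (5, 6, 2), (5, 7, 2)]) ![0, 1, 2, 3, 4, 5, 6, 7] (by decide +kernel)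
      obtain ⟨σ, m, w, hm, hw, hd, ha⟩ := h'.values hall
      exact ⟨fun i => (hall i).1, σ, m, w, .inr (.inr (.inr (.inr (.inr (.inl ⟨hm 0, hm 1, hm 2, hm 3, hm 4, hm 5, (hm 6).trans (one_mul _), (hm 7).trans (one_mul _), (hw 0).trans (one_mul _), hw 1, hw 2, hw 3, hw 4, hw 5, hw 6, hw 7, hd 0, ha 0 1 (by decide), (ha 0 2 (by decide)).trans (zero_mul _), (ha 0 3 (by decide)).trans (zero_mul _), (ha 0 4 (by decide)).trans (zero_mul _), (ha 0 5 (by decide)).trans (zero_mul _), (ha 0 6 (by decide)).trans (zero_mul _), (ha 0 7 (by decide)).trans (zero_mul _), hd 1, ha 1 2 (by decide), (ha 1 3 (by decide)).trans (zero_mul _), (ha 1 4 (by decide)).trans (zero_mul _), (ha 1 5 (by decide)).trans (zero_mul _), (ha 1 6 (by decide)).trans (zero_mul _), (ha 1 7 (by decide)).trans (zero_mul _), hd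 2, ha 2 3 (by decide), (ha 2 4 (by decide)).trans (zero_mul _), (ha 2 5 (by decide)).trans (zero_mul _), (ha 2 6 (by decide)).trans (zero_mul _), (ha 2 7 (by decide)).trans (zero_mul _), hd 3, ha 3 4 (by decide), (ha 3 5 (by decide)).trans (zero_mul _), (ha 3 6 (by decide)).trans (zero_mul _), (ha 3 7 (by decide)).trans (zero_mul _), hd 4, ha 4 5 (by decide), (ha 4 6 (by decide)).trans (zero_mul _), (ha 4 7 (by decide)).trans (zero_mul _), hd 5, ha 5 6 (by decide), ha 5 7 (by decide), hd 6, (ha 6 7 (by decide)).trans (zero_mul _), hd 7⟩)))))⟩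
    | d hn h =>
      have h' := h.relabel (NumType.vec [1, 1, 2, 2, 2, 2, 1, 1]) (NumType.vec [1, 1, 1, 1, 1, 1, 1, 1]) (NumType.edges [(0, 2, 1), (1, 2, 1), (2, 3, 1), (3, 4, 1), (4, 5, 1), (5, 6, 1), (5, 7, 1)]) ![0, 1, 2, 3, 4, 5, 6, 7] (by decide +kernel)
      obtain ⟨σ, m, w, hm, hw, hd, ha⟩ := h'.values hall
      exact ⟨fun i => (hall i).1, σ, m, w, .inr (.inr (.inr (.inr (.inr (.inr (.inl ⟨(hm 0).trans (one_mul _), (hm 1).trans (one_mul _), hm 2, hm 3, hm 4, hm 5, (hm 6).trans (one_mul _), (hm 7).trans (one_mul _), (hw 0).trans (one_mul _), (hw 1).trans (one_mul _), (hw 2).trans (one_mul _), (hw 3).trans (one_mul _), (hw 4).trans (one_mul _), (hw 5).trans (one_mul _), (hw 6).trans (one_mul _), (hw 7).trans (one_mul _), hd 0, (ha 0 1 (by decide)).trans (zero_mul _), (ha 0 2 (by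 decide)).trans (one_mul _), (ha 0 3 (by decide)).trans (zero_mul _), (ha 0 4 (by decide)).trans (zero_mul _), (ha 0 5 (by decide)).trans (zero_mul _), (ha 0 6 (by decide)).trans (zero_mul _), (ha 0 7 (by decide)).trans (zero_mul _), hd 1, (ha 1 2 (by decide)).trans (one_mul _), (ha 1 3 (by decide)).trans (zero_mul _), (ha 1 4 (by decide)).trans (zero_mul _), (ha 1 5 (by decide)).trans (zero_mul _), (ha 1 6 (by decide)).trans (zero_mul _), (ha 1 7 (by decide)).trans (zero_mul _), hd 2, (ha 2 3 (by decide)).trans (one_mul _), (ha 2 4 (by decide)).trans (zero_mul _), (ha 2 5 (by decide)).trans (zero_mul _), (ha 2 6 (by decide)).trans (zero_mul _), (ha 2 7 (by decide)).trans (zero_mul _), hd 3, (ha 3 4 (by decide)).trans (one_mul _), (ha 3 5 (by decide)).trans (zero_mul _), (ha 3 6 (by decide)).trans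 (zero_mul _), (ha 3 7 (by decide)).trans (zero_mul _), hd 4, (ha 4 5 (by decide)).trans (one_mul _), (ha 4 6 (by decide)).trans (zero_mul _), (ha 4 7 (by decide)).trans (zero_mul _), hd 5, (ha 5 6 (by decide)).trans (one_mul _), (ha 5 7 (by decide)).trans (one_mul _), hd 6, (ha 6 7 (by decide)).trans (zero_mul _), hd 7⟩))))))⟩
    | d4 hn h => omega
    | g2a hn h => omega
    | g2b hn h => omega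
    | f4a hn h => omega
    | f4b hn h => omega
    | e6 hn h => omega
    | e7 hn h =>
      have h' := h.relabel (NumType.vec [1, 2, 3, 4, 3, 2, 1, 2]) (NumType.vec [1, 1, 1, 1, 1, 1, 1, 1]) (NumType.edges [(0, 1, 1), (1, 2, 1), (2, 3, 1), (3, 4, 1), (3, 7, 1), (4, 5, 1), (5, 6, 1)]) ![0, 1, 2, 3, 4, 5, 6, 7] (by decide +kernel)
      obtain ⟨σ, m, w, hm, hw, hd, ha⟩ := h'.values hall
      exact ⟨fun i => (hall i).1, σ, m, w, .inr (.inr (.inr (.inr (.inr (.inr (.inr (⟨(hm 0).trans (one_mul _), hm 1, hm 2, hm 3, hm 4, hm 5, (hm 6).trans (one_mul _), hm 7, (hw 0).trans (one_mul _), (hw 1).trans (one_mul _), (hw 2).trans (one_mul _), (hw 3).trans (one_mul _), (hw 4).trans (one_mul _), (hw 5).trans (one_mul _), (hw 6).trans (one_mul _), (hw 7).trans (one_mul _), hd 0, (ha 0 1 (by decide)).trans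 (one_mul _), (ha 0 2 (by decide)).trans (zero_mul _), (ha 0 3 (by decide)).trans (zero_mul _), (ha 0 4 (by decide)).trans (zero_mul _), (ha 0 5 (by decide)).trans (zero_mul _), (ha 0 6 (by decide)).trans (zero_mul _), (ha 0 7 (by decide)).trans (zero_mul _), hd 1, (ha 1 2 (by decide)).trans (one_mul _), (ha 1 3 (by decide)).trans (zero_mul _), (ha 1 4 (by decide)).trans (zero_mul _), (ha 1 5 (by decide)).trans (zero_mul _), (ha 1 6 (by decide)).trans (zero_mul _), (ha 1 7 (by decide)).trans (zero_mul _), hd 2, (ha 2 3 (by decide)).trans (one_mul _), (ha 2 4 (by decide)).trans (zero_mul _), (ha 2 5 (by decide)).trans (zero_mul _), (ha 2 6 (by decide)).trans (zero_mul _), (ha 2 7 (by decide)).trans (zero_mul _), hd 3, (ha 3 4 (by decide)).trans (one_mul _), (ha 3 5 (by decide)).trans (zero_mul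 _), (ha 3 6 (by decide)).trans (zero_mul _), (ha 3 7 (by decide)).trans (one_mul _), hd 4, (ha 4 5 (by decide)).trans (one_mul _), (ha 4 6 (by decide)).trans (zero_mul _), (ha 4 7 (by decide)).trans (zero_mul _), hd 5, (ha 5 6 (by decide)).trans (one_mul _), (ha 5 7 (by decide)).trans (zero_mul _), hd 6, (ha 6 7 (by decide)).trans (zero_mul _), hd 7⟩)))))))⟩
    | e8 hn h => omega

end Groth.Agent.S7369
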