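import Groth.Statements.S7371
import Groth.Agent.NumType.Finish
-- import your own Groth.Agent.* helpers here

set_option autoImplicit false
open Finset
open Models Models.NumericalType

namespace Groth.Agent.S7371

/-- Genus one classification: cases n ≥ 10: let T be a minimal numerical type of genus 1 on n ≥ 10
indices. Then all g_i = 0, a_{ii} = -2 w_i, and for some permutation σ of the indices and integers
m, w the type is one of: the n-cycle (all m_i = m, all w_i = w, a_{i,i+1} = a_{1n} = w); the chain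
with m = (2m,…,2m,m), w = (w,2w,…,2w,4w), a_{i,i+1} = 2w except a_{n-1,n} = 4w; the chain with all
m_i = m, w = (w,2w,…,2w,w), a_{i,i+1} = 2w; the chain with m = (m,2m,…,2m,m), w = (2w,w,…,w,2w),
a_{12} = a_{n-1,n} = 2w and a_{i,i+1} = w otherwise; the D-type graph (chain 1 … n-1 with n attached
to n-2) with m = (m,2m,…,2m,m,m), w = (2w,w,…,w), a_{12} = 2w, other edges w; the same D-type graph
with m = (2m,…,2m,m,m), w = (w,2w,…,2w), all edges 2w; the double fork (1, 2 attached to 3; chain 3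
… n-2; n-1, n attached to n-2) with m = (m,m,2m,…,2m,m,m), all w_i = w, all edges w; all
intersection numbers not listed are zero. (Indices are written 0, …, n-1 in the formal statement.
For n ≥ 10 the exceptional completed E6, E7, E8 types do not occur, so only the infinite families
remain. In the family with weights (w,2w,…,2w,w) the consecutive intersection numbers are 2w, as
divisibility by the weights forces; the published list prints w there, and omits m_{n-2} = 2m in the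
two D-type families.) Only the classification direction is stated. -/
theorem result {n : ℕ} (T : Models.NumericalType n) (hn : 10 ≤ n) (hmin : T.IsMinimal) (hg : T.genus = 1) :
    (∀ i, T.g i = 0) ∧ (∀ i, T.a i i = -2 * T.w i) ∧ ∃ (σ : Equiv.Perm (Fin n)) (m w : ℤ),
      (((∀ i : Fin n, T.m (σ i) = m) ∧
        (∀ i : Fin n, T.w (σ i) = w) ∧
        (∀ i j : Fin n, i.val < j.val → j.val = i.val + 1 → T.a (σ i) (σ j) = w) ∧
        (∀ i j : Fin n, i.val < j.val → i.val = 0 ∧ j.val + 1 = n → T.a (σ i) (σ j) = w) ∧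
        (∀ i j : Fin n, i.val < j.val → ¬ (j.val = i.val + 1) → ¬ (i.val = 0 ∧ j.val + 1 = n) → T.a (σ i) (σ j) = 0)) ∨
      ((∀ i : Fin n, i.val + 1 < n → T.m (σ i) = 2 * m) ∧
        (∀ i : Fin n, i.val + 1 = n → T.m (σ i) = m) ∧
        (∀ i : Fin n, i.val = 0 → T.w (σ i) = w) ∧
        (∀ i : Fin n, 0 < i.val ∧ i.val + 1 < n → T.w (σ i) = 2 * w) ∧
        (∀ i : Fin n, i.val + 1 = n → T.w (σ i) = 4 * w) ∧
        (∀ i j : Fin n, i.val < j.val → j.val = i.val + 1 ∧ j.val + 1 < n → T.a (σ i) (σ j) = 2 * w) ∧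
        (∀ i j : Fin n, i.val < j.val → j.val = i.val + 1 ∧ j.val + 1 = n → T.a (σ i) (σ j) = 4 * w) ∧
        (∀ i j : Fin n, i.val < j.val → ¬ (j.val = i.val + 1 ∧ j.val + 1 < n) → ¬ (j.val = i.val + 1 ∧ j.val + 1 = n) → T.a (σ i) (σ j) = 0)) ∨
      ((∀ i : Fin n, T.m (σ i) = m) ∧
        (∀ i : Fin n, i.val = 0 → T.w (σ i) = w) ∧
        (∀ i : Fin n, 0 < i.val ∧ i.val + 1 < n → T.w (σ i) = 2 * w) ∧
        (∀ i : Fin n, i.val + 1 = n → T.w (σ i) = w) ∧
        (∀ i j : Fin n, i.val < j.val → j.val = i.val + 1 → T.a (σ i) (σ j) = 2 * w) ∧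
        (∀ i j : Fin n, i.val < j.val → ¬ (j.val = i.val + 1) → T.a (σ i) (σ j) = 0)) ∨
      ((∀ i : Fin n, i.val = 0 → T.m (σ i) = m) ∧
        (∀ i : Fin n, 0 < i.val ∧ i.val + 1 < n → T.m (σ i) = 2 * m) ∧
        (∀ i : Fin n, i.val + 1 = n → T.m (σ i) = m) ∧
        (∀ i : Fin n, i.val = 0 → T.w (σ i) = 2 * w) ∧
        (∀ i : Fin n, 0 < i.val ∧ i.val + 1 < n → T.w (σ i) = w) ∧
        (∀ i : Fin n, i.val + 1 = n → T.w (σ i) = 2 * w) ∧
        (∀ i j : Fin n, i.val < j.val → i.val = 0 ∧ j.val = 1 → T.a (σ i) (σ j) = 2 * w) ∧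
        (∀ i j : Fin n, i.val < j.val → j.val = i.val + 1 ∧ 1 ≤ i.val ∧ j.val + 2 ≤ n → T.a (σ i) (σ j) = w) ∧
        (∀ i j : Fin n, i.val < j.val → j.val = i.val + 1 ∧ j.val + 1 = n → T.a (σ i) (σ j) = 2 * w) ∧
        (∀ i j : Fin n, i.val < j.val → ¬ (i.val = 0 ∧ j.val = 1) → ¬ (j.val = i.val + 1 ∧ 1 ≤ i.val ∧ j.val + 2 ≤ n) → ¬ (j.val = i.val + 1 ∧ j.val + 1 = n) → T.a (σ i) (σ j) = 0)) ∨
      ((∀ i : Fin n, i.val = 0 → T.m (σ i) = m) ∧
        (∀ i : Fin n, 1 ≤ i.val ∧ i.val + 2 < n → T.m (σ i) = 2 * m) ∧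
        (∀ i : Fin n, n ≤ i.val + 2 → T.m (σ i) = m) ∧
        (∀ i : Fin n, i.val = 0 → T.w (σ i) = 2 * w) ∧
        (∀ i : Fin n, 0 < i.val → T.w (σ i) = w) ∧
        (∀ i j : Fin n, i.val < j.val → i.val = 0 ∧ j.val = 1 → T.a (σ i) (σ j) = 2 * w) ∧
        (∀ i j : Fin n, i.val < j.val → j.val = i.val + 1 ∧ 1 ≤ i.val ∧ j.val + 2 ≤ n → T.a (σ i) (σ j) = w) ∧
        (∀ i j : Fin n, i.val < j.val → i.val + 3 = n ∧ j.val + 1 = n → T.a (σ i) (σ j) = w) ∧
        (∀ i j : Fin n, i.val < j.val → ¬ (i.val = 0 ∧ j.val = 1) → ¬ (j.val = i.val + 1 ∧ 1 ≤ i.val ∧ j.val + 2 ≤ n) → ¬ (i.val + 3 = n ∧ j.val + 1 = n) → T.a (σ i) (σ j) = 0)) ∨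
      ((∀ i : Fin n, i.val + 2 < n → T.m (σ i) = 2 * m) ∧
        (∀ i : Fin n, n ≤ i.val + 2 → T.m (σ i) = m) ∧
        (∀ i : Fin n, i.val = 0 → T.w (σ i) = w) ∧
        (∀ i : Fin n, 0 < i.val → T.w (σ i) = 2 * w) ∧
        (∀ i j : Fin n, i.val < j.val → j.val = i.val + 1 ∧ j.val + 2 ≤ n → T.a (σ i) (σ j) = 2 * w) ∧
        (∀ i j : Fin n, i.val < j.val → i.val + 3 = n ∧ j.val + 1 = n → T.a (σ i) (σ j) = 2 * w) ∧
        (∀ i j : Fin n, i.val < j.val → ¬ (j.val = i.val + 1 ∧ j.val + 2 ≤ n) → ¬ (i.val + 3 = n ∧ j.val + 1 = n) → T.a (σ i) (σ j) = 0)) ∨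
      ((∀ i : Fin n, i.val ≤ 1 → T.m (σ i) = m) ∧
        (∀ i : Fin n, 2 ≤ i.val ∧ i.val + 2 < n → T.m (σ i) = 2 * m) ∧
        (∀ i : Fin n, n ≤ i.val + 2 → T.m (σ i) = m) ∧
        (∀ i : Fin n, T.w (σ i) = w) ∧
        (∀ i j : Fin n, i.val < j.val → i.val = 0 ∧ j.val = 2 → T.a (σ i) (σ j) = w) ∧
        (∀ i j : Fin n, i.val < j.val → i.val = 1 ∧ j.val = 2 → T.a (σ i) (σ j) = w) ∧
        (∀ i j : Fin n, i.val < j.val → j.val = i.val + 1 ∧ 2 ≤ i.val ∧ j.val + 2 ≤ n → T.a (σ i) (σ j) = w) ∧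
        (∀ i j : Fin n, i.val < j.val → i.val + 3 = n ∧ j.val + 1 = n → T.a (σ i) (σ j) = w) ∧
        (∀ i j : Fin n, i.val < j.val → ¬ (i.val = 0 ∧ j.val = 2) → ¬ (i.val = 1 ∧ j.val = 2) → ¬ (j.val = i.val + 1 ∧ 2 ≤ i.val ∧ j.val + 2 ≤ n) → ¬ (i.val + 3 = n ∧ j.val + 1 = n) → T.a (σ i) (σ j) = 0))) := by
    obtain ⟨hall, haff⟩ := NumType.genus_one_affine (by omega) hmin hg
    refine ⟨fun i => (hall i).1, fun i => (hall i).2, ?_⟩
    cases haff with
    | cyc h =>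
      obtain ⟨σ, m, w, hm, hw, -, ha⟩ := h.values hall
      refine ⟨σ, m, w, .inl ⟨?_, ?_, ?_, ?_, ?_⟩⟩ <;> intros <;> simp (disch := assumption) only [hm, hw, ha, NumType.MA, NumType.AA, NumType.MC1, NumType.WC1, NumType.AC1, NumType.WC2, NumType.AC2, NumType.MC3, NumType.WC3, NumType.AC3, NumType.MB1, NumType.WB1, NumType.AB1, NumType.MB2, NumType.WB2, NumType.AB2, NumType.MD, NumType.AD] <;>
        (try split_ifs) <;> first | (exfalso; omega) | ring1
    | c1 h =>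
      obtain ⟨σ, m, w, hm, hw, -, ha⟩ := h.values hall
      refine ⟨σ, m, w, .inr (.inl ⟨?_, ?_, ?_, ?_, ?_, ?_, ?_, ?_⟩)⟩ <;> intros <;> simp (disch := assumption) only [hm, hw, ha, NumType.MA, NumType.AA, NumType.MC1, NumType.WC1, NumType.AC1, NumType.WC2, NumType.AC2, NumType.MC3, NumType.WC3, NumType.AC3, NumType.MB1, NumType.WB1, NumType.AB1, NumType.MB2, NumType.WB2, NumType.AB2, NumType.MD, NumType.AD] <;>
        (try split_ifs) <;> first | (exfalso; omega) | ring1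
    | c2 h =>
      obtain ⟨σ, m, w, hm, hw, -, ha⟩ := h.values hall
      refine ⟨σ, m, w, .inr (.inr (.inl ⟨?_, ?_, ?_, ?_, ?_, ?_⟩))⟩ <;> intros <;> simp (disch := assumption) only [hm, hw, ha, NumType.MA, NumType.AA, NumType.MC1, NumType.WC1, NumType.AC1, NumType.WC2, NumType.AC2, NumType.MC3, NumType.WC3, NumType.AC3, NumType.MB1, NumType.WB1, NumType.AB1, NumType.MB2, NumType.WB2, NumType.AB2, NumType.MD, NumType.AD] <;>
        (try split_ifs) <;> first | (exfalso; omega) | ring1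
    | c3 h =>
      obtain ⟨σ, m, w, hm, hw, -, ha⟩ := h.values hall
      refine ⟨σ, m, w, .inr (.inr (.inr (.inl ⟨?_, ?_, ?_, ?_, ?_, ?_, ?_, ?_, ?_, ?_⟩)))⟩ <;> intros <;> simp (disch := assumption) only [hm, hw, ha, NumType.MA, NumType.AA, NumType.MC1, NumType.WC1, NumType.AC1, NumType.WC2, NumType.AC2, NumType.MC3, NumType.WC3, NumType.AC3, NumType.MB1, NumType.WB1, NumType.AB1, NumType.MB2, NumType.WB2, NumType.AB2, NumType.MD, NumType.AD] <;>
        (try split_ifs) <;> first | (exfalso; omega) | ring1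
    | b1 hn4 h =>
      obtain ⟨σ, m, w, hm, hw, -, ha⟩ := h.values hall
      refine ⟨σ, m, w, .inr (.inr (.inr (.inr (.inl ⟨?_, ?_, ?_, ?_, ?_, ?_, ?_, ?_, ?_⟩))))⟩ <;> intros <;> simp (disch := assumption) only [hm, hw, ha, NumType.MA, NumType.AA, NumType.MC1, NumType.WC1, NumType.AC1, NumType.WC2, NumType.AC2, NumType.MC3, NumType.WC3, NumType.AC3, NumType.MB1, NumType.WB1, NumType.AB1, NumType.MB2, NumType.WB2, NumType.AB2, NumType.MD, NumType.AD] <;>
        (try split_ifs) <;> first | (exfalso; omega) | ring1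
    | b2 hn4 h =>
      obtain ⟨σ, m, w, hm, hw, -, ha⟩ := h.values hall
      refine ⟨σ, m, w, .inr (.inr (.inr (.inr (.inr (.inl ⟨?_, ?_, ?_, ?_, ?_, ?_, ?_⟩)))))⟩ <;> intros <;> simp (disch := assumption) only [hm, hw, ha, NumType.MA, NumType.AA, NumType.MC1, NumType.WC1, NumType.AC1, NumType.WC2, NumType.AC2, NumType.MC3, NumType.WC3, NumType.AC3, NumType.MB1, NumType.WB1, NumType.AB1, NumType.MB2, NumType.WB2, NumType.AB2, NumType.MD, NumType.AD] <;>
        (try split_ifs) <;> first | (exfalso; omega) | ring1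
    | d hn4 h =>
      obtain ⟨σ, m, w, hm, hw, -, ha⟩ := h.values hall
      refine ⟨σ, m, w, .inr (.inr (.inr (.inr (.inr (.inr (⟨?_, ?_, ?_, ?_, ?_, ?_, ?_, ?_, ?_⟩))))))⟩ <;> intros <;> simp (disch := assumption) only [hm, hw, ha, NumType.MA, NumType.AA, NumType.MC1, NumType.WC1, NumType.AC1, NumType.WC2, NumType.AC2, NumType.MC3, NumType.WC3, NumType.AC3, NumType.MB1, NumType.WB1, NumType.AB1, NumType.MB2, NumType.WB2, NumType.AB2, NumType.MD, NumType.AD] <;>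
        (try split_ifs) <;> first | (exfalso; omega) | ring1
    | d4 h5 h => omega
    | g2a h5 h => omega
    | g2b h5 h => omega
    | f4a h5 h => omega
    | f4b h5 h => omega
    | e6 h5 h => omega
    | e7 h5 h => omega
    | e8 h5 h => omega

end Groth.Agent.S7371
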