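import Groth.Statements.S7372
import Groth.Agent.CurveRes.BlowSeq
import Groth.Agent.S7321

set_option autoImplicit false
set_option backward.isDefEq.respectTransparency false
set_option backward.isDefEq.respectTransparency.types false
set_option maxHeartbeats 400000
universe u
open CategoryTheory CategoryTheory.Limits AlgebraicGeometry
open Resolve

namespace Groth.Agent.S7372

open Groth.Agent.CurveRes

theorem isDominant_of_isIso_restrict {A B : Scheme.{u}} [IrreducibleSpace B] (g : A ⟶ B) {V : B.Opens}
    (hV : (V : Set B).Nonempty) [IsIso (g ∣_ V)] : IsDominant g := by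
  refine ⟨(V.2.dense hV).mono fun y hy => ⟨((inv (g ∣_ V)) ⟨y, hy⟩).1, ?_⟩⟩
  have h := congr($(IsIso.inv_hom_id (g ∣_ V)) ⟨y, hy⟩)
  rw [Scheme.Hom.comp_apply] at h
  exact (morphismRestrict_base_coe _ V _).symm.trans (congrArg Subtype.val h)

/-- Let Y be an integral Noetherian scheme of dimension one. Then Y has a resolution of singularities (a
proper morphism X → Y from an integral scheme with regular local rings which is an isomorphism over
a nonempty open of Y) if and only if there is a finite sequence of blowings up in closed points Y_n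
→ Y_{n-1} → … → Y_1 → Y with Y_n regular (all local rings regular). -/
theorem result (Y : Scheme.{u}) [IsIntegral Y] [IsNoetherian Y]
    (hdim : topologicalKrullDim Y = 1) :
    (∃ (X : Scheme.{u}) (g : X ⟶ Y), IsProper g ∧ IsIntegral X ∧
        (∃ V : Y.Opens, (V : Set Y).Nonempty ∧ IsIso (g ∣_ V)) ∧ ∀ x : X, IsRegularLocalRing (X.presheaf.stalk x)) ↔
      ∃ (Y' : Scheme.{u}) (g : Y' ⟶ Y), Resolve.IsPtBlowupSeq g ∧ ∀ y : Y', IsRegularLocalRing (Y'.presheaf.stalk y) := by
  have hne : ∀ x : Y, IsClosed ({x} : Set Y) → x ≠ genericPoint Y := by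
    rintro x hx rfl
    haveI : Subsingleton Y := ⟨fun a b => by
      have h : ∀ a : Y, a = genericPoint Y := fun a => by
        have h1 : a ∈ closure ({genericPoint Y} : Set Y) := by rw [genericPoint_closure Y]; trivial
        rwa [hx.closure_eq] at h1
      rw [h a, h b]⟩
    haveI : Subsingleton (TopologicalSpace.IrreducibleCloseds Y) := ⟨fun a b => by
      apply TopologicalSpace.IrreducibleCloseds.ext
      rw [Set.Nonempty.eq_univ a.isIrreducible.nonempty, Set.Nonempty.eq_univ b.isIrreducible.nonempty]⟩
    have h0 : topologicalKrullDim Y ≤ 0 := Order.krullDim_nonpos_of_subsingleton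
    rw [hdim] at h0
    exact absurd h0 (by decide)
  constructor
  · intro hres
    haveI : IsFinite (Curv2.normalizationι Y) := (Groth.Agent.S7321.result Y hdim).2.1 hres
    let N := Curv2.normalization Y
    haveI : IsIntegral N := inferInstanceAs (IsIntegral (Y.fromSpecStalk (genericPoint Y)).normalization)
    haveI := isDominant_normalizationι Y
    obtain ⟨X', g, hseq, hgP, f, hfg, hreg⟩ := exists_seq_regular (Curv2.normalizationι Y)
      (isClosed_of_finite (Curv2.normalizationι Y) fun y hy => isClosed_of_dim_le_one hdim.le hy) (isPID_normalization Y hdim.le)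
    obtain ⟨hX', -, V, hV, hiso⟩ := seq_birational hseq hne
    haveI := hgP
    haveI := hiso
    haveI := isDominant_of_isIso_restrict g hV
    haveI : IsFinite (f ≫ g) := by rw [hfg]; infer_instance
    haveI : IsFinite f := IsFinite.of_comp f g
    have hgV : genericPoint Y ∈ V := (genericPoint_specializes hV.choose).mem_open V.2 hV.choose_spec
    have hfgen : f (genericPoint N) = genericPoint X' := by
      have h1 : g (f (genericPoint N)) = genericPoint Y := by
        rw [← Scheme.Hom.comp_apply, hfg, map_genericPoint]
      have h2 : g (genericPoint X') = genericPoint Y := map_genericPoint g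
      have h3 := (g ∣_ V).isOpenEmbedding.injective
        (a₁ := ⟨f (genericPoint N), show g (f (genericPoint N)) ∈ V by rw [h1]; exact hgV⟩)
        (a₂ := ⟨genericPoint X', show g (genericPoint X') ∈ V by rw [h2]; exact hgV⟩)
        (Subtype.ext (by rw [morphismRestrict_base_coe, morphismRestrict_base_coe, h1, h2]))
      exact congrArg Subtype.val h3
    haveI : IsDominant f := by
      refine ⟨?_⟩
      have h1 : closure ({genericPoint X'} : Set X') ⊆ closure (Set.range f) :=
        closure_mono (Set.singleton_subset_iff.2 ⟨_, hfgen⟩)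
      rw [genericPoint_closure X'] at h1
      exact dense_iff_closure_eq.2 (Set.univ_subset_iff.1 h1)
    haveI : IsIso f.imageι := (Scheme.isIso_subschemeι_iff_eq_bot _).2 (ker_eq_bot f)
    refine ⟨X', g, hseq, fun y => ?_⟩
    obtain ⟨y', rfl⟩ := f.imageι.surjective y
    haveI := hreg y'
    exact IsRegularLocalRing.of_ringEquiv (asIso (f.imageι.stalkMap y')).commRingCatIsoToRingEquiv.symm
  · rintro ⟨Y', g, hseq, hreg⟩
    obtain ⟨h1, h2, h3⟩ := seq_birational hseq hne
    exact ⟨Y', g, h2, h1, h3, hreg⟩

end Groth.Agent.S7372
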