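import Groth.Statements.S7373
import Groth.Agent.CurveRes.BlowSeq

set_option autoImplicit false
set_option backward.isDefEq.respectTransparency false
set_option backward.isDefEq.respectTransparency.types false
set_option maxHeartbeats 400000
universe u
open CategoryTheory CategoryTheory.Limits AlgebraicGeometry
open Resolve

namespace Groth.Agent.S7373

/-- Let X be a Noetherian scheme and Y ⊂ X an integral closed subscheme of dimension one (given by its
ideal sheaf I) whose normalization morphism is finite. Then there is a finite sequence of blowings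
up in closed points g : X' → X such that the strict transform Y' of Y in X' is a regular curve: an
integral closed subscheme Y' ⊂ X' (ideal I') mapped by g into Y, isomorphically over a nonempty open
of Y, all of whose local rings are regular. (The quasi-compactness and quasi-separatedness binders
on Spec K(Y) → Y always hold.) -/
theorem result (X : Scheme.{u}) [IsNoetherian X] (I : X.IdealSheafData)
    [IsIntegral I.subscheme] (hdim : topologicalKrullDim ↥I.subscheme = 1)
    [QuasiCompact (I.subscheme.fromSpecStalk (genericPoint ↥I.subscheme))]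
    [QuasiSeparated (I.subscheme.fromSpecStalk (genericPoint ↥I.subscheme))]
    (hfin : IsFinite (Curv2.normalizationι I.subscheme)) :
    ∃ (X' : Scheme.{u}) (g : X' ⟶ X), Resolve.IsPtBlowupSeq g ∧
      ∃ (I' : X'.IdealSheafData) (g' : I'.subscheme ⟶ I.subscheme), IsIntegral I'.subscheme ∧
        g' ≫ I.subschemeι = I'.subschemeι ≫ g ∧
        (∃ V : I.subscheme.Opens, (V : Set ↥I.subscheme).Nonempty ∧ IsIso (g' ∣_ V)) ∧
        ∀ y : ↥I'.subscheme, IsRegularLocalRing (I'.subscheme.presheaf.stalk y) := by
  haveI := hfin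
  let Y := I.subscheme
  haveI : IsNoetherian Y := by
    haveI : IsLocallyNoetherian Y := LocallyOfFiniteType.isLocallyNoetherian I.subschemeι
    haveI : CompactSpace Y := QuasiCompact.compactSpace_of_compactSpace I.subschemeι
    exact {}
  let N := Curv2.normalization Y
  let ν := Curv2.normalizationι Y
  haveI : IsIntegral N := inferInstanceAs (IsIntegral (Y.fromSpecStalk (genericPoint Y)).normalization)
  haveI := Groth.Agent.CurveRes.isDominant_normalizationι Y
  obtain ⟨X', g, hseq, hgP, f, hfg, hreg⟩ := Groth.Agent.CurveRes.exists_seq_regular (ν ≫ I.subschemeι)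
    (Groth.Agent.CurveRes.isClosed_of_finite ν fun y hy => Groth.Agent.CurveRes.isClosed_of_dim_le_one hdim.le hy)
    (Groth.Agent.CurveRes.isPID_normalization Y hdim.le)
  haveI := hgP
  haveI : IsFinite (f ≫ g) := by rw [hfg]; infer_instance
  haveI : IsFinite f := IsFinite.of_comp f g
  haveI := Groth.Agent.CurveRes.isIntegral_image f
  haveI := Groth.Agent.CurveRes.surjective_toImage f
  haveI : IsFinite (f.toImage ≫ f.imageι ≫ g) := by rw [Scheme.Hom.toImage_imageι_assoc]; infer_instance
  haveI : IsFinite (f.imageι ≫ g) := Groth.Agent.CurveRes.isFinite_of_surjective f.toImage _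
  have hle : I.subschemeι.ker ≤ (f.imageι ≫ g).ker := by
    refine (Scheme.Hom.le_ker_comp ν I.subschemeι).trans (le_of_eq ?_)
    rw [← hfg, ← Scheme.Hom.toImage_imageι_assoc f g, Scheme.Hom.ker_comp, Groth.Agent.CurveRes.ker_eq_bot f.toImage,
      Scheme.IdealSheafData.map_bot]
  let g' := IsClosedImmersion.lift I.subschemeι (f.imageι ≫ g) hle
  have hg' : g' ≫ I.subschemeι = f.imageι ≫ g := IsClosedImmersion.lift_fac _ _ _
  haveI : IsFinite (g' ≫ I.subschemeι) := by rw [hg']; infer_instance
  haveI : IsFinite g' := IsFinite.of_comp g' I.subschemeι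
  have hν : f.toImage ≫ g' = ν := by
    rw [← cancel_mono I.subschemeι, Category.assoc, hg', Scheme.Hom.toImage_imageι_assoc, hfg]
  obtain ⟨U, hU, hUi⟩ := Groth.Agent.CurveRes.exists_isIso_of_isFinite Y
  obtain ⟨y₀, hy₀⟩ := hU.nonempty
  obtain ⟨_, ⟨V, hV, rfl⟩, hyV, hVU⟩ := Y.isBasis_affineOpens.exists_subset_of_mem_open hy₀ U.2
  haveI : IsIso (ν ∣_ U) := hUi
  haveI : IsIso (ν ∣_ V) := Groth.Agent.PointBlow.isIso_restrict_mono ν (U := U) hVU
  have hb : Function.Bijective (ν.app V) := by
    refine (ConcreteCategory.isIso_iff_bijective _).1 ?_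
    show MorphismProperty.isomorphisms CommRingCat (ν.app V)
    rw [Scheme.Hom.app_eq_appLE]
    refine ((MorphismProperty.isomorphisms CommRingCat).arrow_mk_iso_iff (arrowResLEAppIso ν V _ le_rfl)).1 ?_
    rw [Scheme.Hom.resLE_eq_morphismRestrict]
    show IsIso (ν ∣_ V).appTop
    infer_instance
  exact ⟨X', g, hseq, f.ker, g', inferInstanceAs (IsIntegral f.image), hg', ⟨V, ⟨y₀, hyV⟩,
    Groth.Agent.CurveRes.isIso_restrict_of_factor f.toImage g' (Groth.Agent.CurveRes.ker_eq_bot _) hν hV hb⟩, hreg⟩

end Groth.Agent.S7373
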