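import Groth.Statements.S7374
import Groth.Agent.CurveRes.Multi
import Groth.Agent.S2821
import Groth.Agent.SGA1Q.SigmaFinite

set_option autoImplicit false
set_option backward.isDefEq.respectTransparency false
set_option backward.isDefEq.respectTransparency.types false
set_option maxHeartbeats 800000
universe u
open CategoryTheory CategoryTheory.Limits AlgebraicGeometry
open Resolve

namespace Groth.Agent.S7374

open Groth.Agent.CurveRes TopologicalSpace IsLocalRing

theorem not_isClosed_genericPoint {Y : Scheme.{u}} [IrreducibleSpace Y] (hdim : topologicalKrullDim Y = 1) :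
    ¬ IsClosed ({genericPoint Y} : Set Y) := by
  intro hx
  have hall : ∀ a : Y, a = genericPoint Y := fun a => by
    have h1 : a ∈ closure ({genericPoint Y} : Set Y) := by rw [genericPoint_closure Y]; trivial
    rwa [hx.closure_eq] at h1
  haveI : Subsingleton Y := ⟨fun a b => by rw [hall a, hall b]⟩
  haveI : Subsingleton (IrreducibleCloseds Y) := ⟨fun a b => by
    apply IrreducibleCloseds.ext
    rw [Set.Nonempty.eq_univ a.isIrreducible.nonempty, Set.Nonempty.eq_univ b.isIrreducible.nonempty]⟩
  have h0 : topologicalKrullDim Y ≤ 0 := Order.krullDim_nonpos_of_subsingleton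
  rw [hdim] at h0
  exact absurd h0 (by decide)

theorem isClosedMap_sigmaι {ι : Type u} (Nf : ι → Scheme.{u}) (i : ι) : IsClosedMap (Sigma.ι Nf i) := fun s hs => by
  have h : Sigma.ι Nf i '' s = (sigmaMk Nf) '' (Sigma.mk i '' s) := by
    rw [Set.image_image]
    exact Set.image_congr fun x _ => (sigmaMk_mk Nf i x).symm
  rw [h]
  exact (sigmaMk Nf).isClosedMap _ ((isClosedMap_sigmaMk (σ := fun k => Nf k) (i := i)) s hs)

theorem index_eq_of_specializes {ι : Type u} (Nf : ι → Scheme.{u}) {i j : ι} (a : Nf i) (b : Nf j)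
    (h : Sigma.ι Nf i a ⤳ Sigma.ι Nf j b) : i = j := by
  have h1 : (⟨i, a⟩ : Σ k, Nf k) ⤳ ⟨j, b⟩ := by
    rw [← sigmaMk_mk, ← sigmaMk_mk] at h
    exact (sigmaMk Nf).isInducing.specializes_iff.1 h
  obtain ⟨a', ha'⟩ := h1.mem_open (isOpen_range_sigmaMk (i := j)) ⟨b, rfl⟩
  exact (congrArg Sigma.fst ha').symm

theorem exists_sigmaι {ι : Type u} (Nf : ι → Scheme.{u}) (z : (∐ Nf :)) : ∃ i a, Sigma.ι Nf i a = z := by
  obtain ⟨⟨i, a⟩, h⟩ := (sigmaMk Nf).surjective z
  exact ⟨i, a, (sigmaMk_mk Nf i a).symm.trans h⟩

/-- Let X be a Noetherian scheme and Y_1, …, Y_n ⊂ X integral closed subschemes of dimension one (ideal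
sheaves I_i), pairwise distinct, each with finite normalization morphism. Then there is a finite
sequence of blowings up in closed points g : X' → X such that the strict transforms Y'_i ⊂ X' —
integral closed subschemes (ideals I'_i) mapped by g into Y_i, isomorphically over a nonempty open
of Y_i — are pairwise disjoint and have regular local rings. (The quasi-compactness and
quasi-separatedness binders always hold. The published statement does not say the Y_i are distinct;
for Y_1 = Y_2 the strict transforms coincide and cannot be disjoint, so distinctness is assumed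
here, as the proof's use of the intersection multiplicities m_p(Y_i ∩ Y_j) requires.) -/
theorem result (X : Scheme.{u}) [IsNoetherian X] {n : ℕ}
    (I : Fin n → X.IdealSheafData) [∀ i, IsIntegral (I i).subscheme] (hdim : ∀ i, topologicalKrullDim ↥(I i).subscheme = 1)
    [∀ i, QuasiCompact ((I i).subscheme.fromSpecStalk (genericPoint ↥(I i).subscheme))]
    [∀ i, QuasiSeparated ((I i).subscheme.fromSpecStalk (genericPoint ↥(I i).subscheme))]
    (hfin : ∀ i, IsFinite (Curv2.normalizationι (I i).subscheme)) (hdist : Function.Injective I) :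
    ∃ (X' : Scheme.{u}) (g : X' ⟶ X), Resolve.IsPtBlowupSeq g ∧
      ∃ (I' : Fin n → X'.IdealSheafData) (g' : ∀ i, (I' i).subscheme ⟶ (I i).subscheme),
        (∀ i, IsIntegral (I' i).subscheme ∧ g' i ≫ (I i).subschemeι = (I' i).subschemeι ≫ g ∧
          (∃ V : (I i).subscheme.Opens, (V : Set ↥(I i).subscheme).Nonempty ∧ IsIso (g' i ∣_ V)) ∧
          ∀ y : ↥(I' i).subscheme, IsRegularLocalRing ((I' i).subscheme.presheaf.stalk y)) ∧
        ∀ i j, i ≠ j → Disjoint ((I' i).support : Set X') ((I' j).support : Set X') := by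
  classical
  haveI := hfin
  haveI : ∀ i, IsNoetherian (I i).subscheme := fun i => by
    haveI : IsLocallyNoetherian (I i).subscheme := LocallyOfFiniteType.isLocallyNoetherian (I i).subschemeι
    haveI : CompactSpace (I i).subscheme := QuasiCompact.compactSpace_of_compactSpace (I i).subschemeι
    exact {}
  let ν := fun i : Fin n => Curv2.normalizationι (I i).subscheme
  let Nf := fun j : ULift.{u} (Fin n) => Curv2.normalization (I j.down).subscheme
  haveI hint : ∀ i : Fin n, IsIntegral (Curv2.normalization (I i).subscheme) := fun i =>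
    inferInstanceAs (IsIntegral ((I i).subscheme.fromSpecStalk (genericPoint (I i).subscheme)).normalization)
  haveI hdomi : ∀ i : Fin n, IsDominant (ν i) := fun i => isDominant_normalizationι (I i).subscheme
  have hclN : ∀ i (z : Curv2.normalization (I i).subscheme), z ≠ genericPoint (Curv2.normalization (I i).subscheme) →
      IsClosed ({z} : Set (Curv2.normalization (I i).subscheme)) := fun i =>
    isClosed_of_finite (ν i) fun y hy => isClosed_of_dim_le_one (hdim i).le hy
  have hgenN : ∀ i, ¬ IsClosed ({genericPoint (Curv2.normalization (I i).subscheme)} :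
      Set (Curv2.normalization (I i).subscheme)) := fun i h => by
    have h1 := (ν i).isClosedMap _ h
    rw [Set.image_singleton, map_genericPoint] at h1
    exact not_isClosed_genericPoint (hdim i) h1
  let F := fun j : ULift.{u} (Fin n) => ν j.down ≫ (I j.down).subschemeι
  haveI : IsFinite (Sigma.desc F) := SGA1Q.isFinite_sigmaDesc F fun j =>
    inferInstanceAs (IsFinite (ν j.down ≫ (I j.down).subschemeι))
  have hstalk : ∀ z : (∐ Nf :), ∃ (j : ULift.{u} (Fin n)) (a : Nf j),
      Nonempty ((Nf j).presheaf.stalk a ≃+* (∐ Nf :).presheaf.stalk z) := fun z => by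
    obtain ⟨j, a, rfl⟩ := exists_sigmaι Nf z
    exact ⟨j, a, ⟨(asIso ((Sigma.ι Nf j).stalkMap a)).commRingCatIsoToRingEquiv.symm⟩⟩
  obtain ⟨X', g, hseq, hgP, f, hfg, hreg⟩ := exists_seq_regular_multi (Sigma.desc F)
    (fun z => by
      obtain ⟨j, a, ⟨e⟩⟩ := hstalk z
      exact e.symm.toMulEquiv.isDomain _)
    (fun a b hab hne => by
      obtain ⟨i, a', rfl⟩ := exists_sigmaι Nf a
      obtain ⟨j, b', rfl⟩ := exists_sigmaι Nf b
      obtain rfl := index_eq_of_specializes Nf a' b' hab
      have hs : a' ⤳ b' := (Sigma.ι Nf i).isOpenEmbedding.isInducing.specializes_iff.1 hab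
      have hb : b' ≠ genericPoint (Nf i) := fun h => hne (congrArg _
        ((hs.antisymm (h ▸ genericPoint_specializes a')).eq))
      rw [← Set.image_singleton]
      exact isClosedMap_sigmaι Nf i _ (hclN i.down b' hb))
    (fun z hz => by
      obtain ⟨i, a, rfl⟩ := exists_sigmaι Nf z
      refine ⟨Sigma.ι Nf i (genericPoint (Nf i)), (genericPoint_specializes a).map (Sigma.ι Nf i).continuous, fun h => ?_⟩
      obtain rfl := (Sigma.ι Nf i).isOpenEmbedding.injective h
      refine hgenN i.down ?_
      have h1 := hz.preimage (Sigma.ι Nf i).continuous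
      rwa [← Set.image_singleton, Set.preimage_image_eq _ (Sigma.ι Nf i).isOpenEmbedding.injective] at h1)
    (fun z => by
      obtain ⟨j, a, ⟨e⟩⟩ := hstalk z
      haveI := isPID_normalization (I j.down).subscheme (hdim j.down).le a
      exact IsPrincipalIdealRing.of_surjective e.toRingHom e.surjective)
  haveI := hgP
  haveI : IsFinite (f ≫ g) := by rw [hfg]; infer_instance
  haveI : IsFinite f := IsFinite.of_comp f g
  let fi := fun i : Fin n => (Sigma.ι Nf ⟨i⟩ ≫ f : Curv2.normalization (I i).subscheme ⟶ X')
  have hfig : ∀ i, fi i ≫ g = ν i ≫ (I i).subschemeι := fun i => by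
    show (Sigma.ι Nf ⟨i⟩ ≫ f) ≫ g = _
    rw [Category.assoc, hfg, Sigma.ι_desc]
  have main : ∀ i, ∃ g' : (fi i).image ⟶ (I i).subscheme, IsIntegral (fi i).image ∧
      g' ≫ (I i).subschemeι = (fi i).imageι ≫ g ∧
      (∃ V : (I i).subscheme.Opens, (V : Set ↥(I i).subscheme).Nonempty ∧ IsIso (g' ∣_ V)) ∧
      ∀ y : ↥(fi i).image, IsRegularLocalRing ((fi i).image.presheaf.stalk y) := by
    intro i
    haveI : IsFinite (fi i ≫ g) := by rw [hfig]; infer_instance
    haveI : IsFinite (fi i) := IsFinite.of_comp (fi i) g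
    haveI := isIntegral_image (fi i)
    haveI := surjective_toImage (fi i)
    haveI : IsFinite ((fi i).toImage ≫ (fi i).imageι ≫ g) := by rw [Scheme.Hom.toImage_imageι_assoc]; infer_instance
    haveI : IsFinite ((fi i).imageι ≫ g) := isFinite_of_surjective (fi i).toImage _
    haveI : IsLocallyNoetherian (fi i).image := LocallyOfFiniteType.isLocallyNoetherian ((fi i).imageι ≫ g)
    have hle : (I i).subschemeι.ker ≤ ((fi i).imageι ≫ g).ker := by
      refine (Scheme.Hom.le_ker_comp (ν i) (I i).subschemeι).trans (le_of_eq ?_)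
      rw [← hfig, ← Scheme.Hom.toImage_imageι_assoc (fi i) g, Scheme.Hom.ker_comp, ker_eq_bot (fi i).toImage,
        Scheme.IdealSheafData.map_bot]
    let g' := IsClosedImmersion.lift (I i).subschemeι ((fi i).imageι ≫ g) hle
    have hg' : g' ≫ (I i).subschemeι = (fi i).imageι ≫ g := IsClosedImmersion.lift_fac _ _ _
    haveI : IsFinite (g' ≫ (I i).subschemeι) := by rw [hg']; infer_instance
    haveI : IsFinite g' := IsFinite.of_comp g' (I i).subschemeι
    have hν : (fi i).toImage ≫ g' = ν i := by
      rw [← cancel_mono (I i).subschemeι, Category.assoc, hg', Scheme.Hom.toImage_imageι_assoc, hfig]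
    obtain ⟨U, hU, hUi⟩ := exists_isIso_of_isFinite (I i).subscheme
    obtain ⟨y₀, hy₀⟩ := hU.nonempty
    obtain ⟨_, ⟨V, hV, rfl⟩, hyV, hVU⟩ := (I i).subscheme.isBasis_affineOpens.exists_subset_of_mem_open hy₀ U.2
    haveI : IsIso (ν i ∣_ U) := hUi
    haveI : IsIso (ν i ∣_ V) := Groth.Agent.PointBlow.isIso_restrict_mono (ν i) (U := U) hVU
    have hb : Function.Bijective ((ν i).app V) := by
      refine (ConcreteCategory.isIso_iff_bijective _).1 ?_
      show MorphismProperty.isomorphisms CommRingCat ((ν i).app V)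
      rw [Scheme.Hom.app_eq_appLE]
      refine ((MorphismProperty.isomorphisms CommRingCat).arrow_mk_iso_iff (arrowResLEAppIso (ν i) V _ le_rfl)).1 ?_
      rw [Scheme.Hom.resLE_eq_morphismRestrict]
      show IsIso (ν i ∣_ V).appTop
      infer_instance
    refine ⟨g', inferInstance, hg', ⟨V, ⟨y₀, hyV⟩, isIso_restrict_of_factor (fi i).toImage g' (ker_eq_bot _) hν hV hb⟩,
      fun y => ?_⟩
    have hle2 : f.imageι.ker ≤ (fi i).imageι.ker := by
      rw [Scheme.IdealSheafData.ker_subschemeι, Scheme.IdealSheafData.ker_subschemeι]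
      exact Scheme.Hom.le_ker_comp (Sigma.ι Nf ⟨i⟩) f
    let j := IsClosedImmersion.lift f.imageι (fi i).imageι hle2
    haveI : IsClosedImmersion j := by
      haveI : IsClosedImmersion (j ≫ f.imageι) := by rw [IsClosedImmersion.lift_fac]; infer_instance
      exact IsClosedImmersion.of_comp j f.imageι
    obtain ⟨-, γ, hγ⟩ := hreg (j y)
    have hm : maximalIdeal ((fi i).image.presheaf.stalk y) = Ideal.span {j.stalkMap y γ} := by
      refine le_antisymm (fun a ha => ?_) ?_
      · obtain ⟨c, rfl⟩ := j.stalkMap_surjective y a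
        have hc : c ∈ maximalIdeal (f.image.presheaf.stalk (j y)) :=
          (IsLocalRing.mem_maximalIdeal _).2 fun hu => ha (hu.map _)
        rw [hγ, Ideal.mem_span_singleton] at hc
        exact Ideal.mem_span_singleton.2 (map_dvd (j.stalkMap y).hom hc)
      · refine (Ideal.span_singleton_le_iff_mem _).2 (map_maximalIdeal_le (j.stalkMap y).hom ?_)
        exact Ideal.mem_map_of_mem _ (hγ ▸ Ideal.mem_span_singleton_self γ)
    by_cases hF : IsField ((fi i).image.presheaf.stalk y)
    · letI := hF.toField
      infer_instance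
    haveI : IsDiscreteValuationRing ((fi i).image.presheaf.stalk y) :=
      ((IsDiscreteValuationRing.TFAE _ hF).out 0 4 (a := IsDiscreteValuationRing ((fi i).image.presheaf.stalk y))
        (b := (maximalIdeal ((fi i).image.presheaf.stalk y)).IsPrincipal) rfl rfl).mpr ⟨_, hm⟩
    infer_instance
  choose g' hg' using main
  refine ⟨X', g, hseq, fun i => (fi i).ker, g', fun i => hg' i, fun i j hij => Set.disjoint_left.2 fun x hxi hxj => ?_⟩
  haveI : IsFinite (f.toImage ≫ f.imageι) := by rw [Scheme.Hom.toImage_imageι]; infer_instance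
  haveI : IsFinite f.toImage := IsFinite.of_comp f.toImage f.imageι
  haveI := surjective_toImage f
  haveI : IsFinite (fi i) := by
    haveI : IsFinite (fi i ≫ g) := by rw [hfig]; infer_instance
    exact IsFinite.of_comp (fi i) g
  haveI : IsFinite (fi j) := by
    haveI : IsFinite (fi j ≫ g) := by rw [hfig]; infer_instance
    exact IsFinite.of_comp (fi j) g
  rw [Scheme.Hom.support_ker] at hxi hxj
  rw [(fi i).isClosedMap.isClosed_range.closure_eq] at hxi
  rw [(fi j).isClosedMap.isClosed_range.closure_eq] at hxj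
  obtain ⟨a, ha⟩ := hxi
  obtain ⟨b, hb⟩ := hxj
  let N : Scheme.{u} := ∐ Nf
  let ηi : N := Sigma.ι Nf ⟨i⟩ (genericPoint (Curv2.normalization (I i).subscheme))
  let ηj : N := Sigma.ι Nf ⟨j⟩ (genericPoint (Curv2.normalization (I j).subscheme))
  have hab : f.toImage (Sigma.ι Nf ⟨i⟩ a) = f.toImage (Sigma.ι Nf ⟨j⟩ b) := f.imageι.isEmbedding.injective (by
    rw [← Scheme.Hom.comp_apply, Scheme.Hom.toImage_imageι, ← Scheme.Hom.comp_apply (f.toImage), Scheme.Hom.toImage_imageι]
    rw [← Scheme.Hom.comp_apply, ← Scheme.Hom.comp_apply]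
    exact ha.trans hb.symm)
  -- the two generic points lie under the generic point of the regular local ring
  let y := f.toImage (Sigma.ι Nf ⟨i⟩ a)
  haveI := (hreg y).1
  haveI : IsDomain (f.image.presheaf.stalk y) := (Groth.Agent.S2821.result (f.image.presheaf.stalk y)).1
  let w := f.image.fromSpecStalk y ⟨⊥, Ideal.isPrime_bot⟩
  have hw : ∀ v : f.image, v ⤳ y → w ⤳ v := fun v hv => by
    obtain ⟨P, rfl⟩ : v ∈ Set.range (f.image.fromSpecStalk y) := by
      rw [Scheme.range_fromSpecStalk]; exact hv
    exact Specializes.map ((PrimeSpectrum.le_iff_specializes _ P).1 bot_le) (f.image.fromSpecStalk y).continuous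
  have hni : ¬ IsClosed ({ηi} : Set N) := fun h => hgenN i (by
    have h1 := h.preimage (Sigma.ι Nf ⟨i⟩).continuous
    rwa [← Set.image_singleton, Set.preimage_image_eq _ (Sigma.ι Nf ⟨i⟩).isOpenEmbedding.injective] at h1)
  have hnj : ¬ IsClosed ({ηj} : Set N) := fun h => hgenN j (by
    have h1 := h.preimage (Sigma.ι Nf ⟨j⟩).continuous
    rwa [← Set.image_singleton, Set.preimage_image_eq _ (Sigma.ι Nf ⟨j⟩).isOpenEmbedding.injective] at h1)
  have h1 : ∀ a b : N, a ⤳ b → a ≠ b → IsClosed ({b} : Set N) := fun a b hab hne => by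
    obtain ⟨i, a', rfl⟩ := exists_sigmaι Nf a
    obtain ⟨j, b', rfl⟩ := exists_sigmaι Nf b
    obtain rfl := index_eq_of_specializes Nf a' b' hab
    have hs : a' ⤳ b' := (Sigma.ι Nf i).isOpenEmbedding.isInducing.specializes_iff.1 hab
    have hb : b' ≠ genericPoint (Nf i) := fun h => hne (congrArg _
      ((hs.antisymm (h ▸ genericPoint_specializes a')).eq))
    rw [← Set.image_singleton]
    exact isClosedMap_sigmaι Nf i _ (hclN i.down b' hb)
  have e1 := eq_of_specializes_map f.toImage h1 hni (hw (f.toImage ηi)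
    (((genericPoint_specializes a).map (Sigma.ι Nf ⟨i⟩).continuous).map f.toImage.continuous))
  have e2 := eq_of_specializes_map f.toImage h1 hnj (hw (f.toImage ηj)
    (by
      have h := ((genericPoint_specializes b).map (Sigma.ι Nf ⟨j⟩).continuous).map f.toImage.continuous
      rwa [← hab] at h))
  have e3 : (I i).subschemeι (genericPoint (I i).subscheme) = (I j).subschemeι (genericPoint (I j).subscheme) := by
    have key : ∀ k, g (f.imageι (f.toImage (Sigma.ι Nf ⟨k⟩ (genericPoint (Curv2.normalization (I k).subscheme))))) =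
        (I k).subschemeι (genericPoint (I k).subscheme) := fun k => by
      rw [← map_genericPoint (ν k), ← Scheme.Hom.comp_apply (ν k), ← hfig k]
      simp only [fi, ← Scheme.Hom.comp_apply, Category.assoc, Scheme.Hom.toImage_imageι_assoc]
      exact (Scheme.Hom.comp_apply (Sigma.ι Nf ⟨k⟩) (f ≫ g) _).symm
    rw [← key i, ← key j, show f.toImage ηi = f.toImage ηj from e1.symm.trans e2]
  refine hij (hdist ?_)
  have hI : ∀ k, I k = Scheme.IdealSheafData.vanishingIdeal
      (TopologicalSpace.Closeds.closure {(I k).subschemeι (genericPoint (I k).subscheme)}) := fun k => by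
    haveI : IsReduced (I k).subscheme := inferInstance
    have e : (Scheme.IdealSheafData.vanishingIdeal (⊤ : TopologicalSpace.Closeds (I k).subscheme)).map (I k).subschemeι = I k := by
      rw [Scheme.IdealSheafData.vanishingIdeal_top, Scheme.nilradical_eq_bot, Scheme.IdealSheafData.map_bot,
        Scheme.IdealSheafData.ker_subschemeι]
    conv_lhs => rw [← e, Scheme.IdealSheafData.map_vanishingIdeal]
    congr 1
    apply TopologicalSpace.Closeds.ext
    show closure ((I k).subschemeι '' Set.univ) = closure {(I k).subschemeι (genericPoint (I k).subscheme)}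
    refine subset_antisymm (closure_minimal ?_ isClosed_closure) (closure_mono ?_)
    · rintro _ ⟨z, -, rfl⟩
      exact specializes_iff_mem_closure.1 ((genericPoint_specializes z).map (I k).subschemeι.continuous)
    · exact Set.singleton_subset_iff.2 ⟨_, trivial, rfl⟩
  rw [hI i, hI j, e3]

end Groth.Agent.S7374
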