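import Groth.Statements.S7378
import Mathlib
import Groth.Agent.NormSeq.Main

set_option autoImplicit false
universe u
open CategoryTheory CategoryTheory.Limits AlgebraicGeometry
open Resolve

namespace Groth.Agent.S7378

/-- Let S be a scheme, p : X → S with X an integral Noetherian Nagata scheme of dimension two, q : Y → S
proper, and f : U → Y an S-morphism defined on a dense open U ⊂ X (an S-rational map from X to Y).
Then there exist a finite sequence of normalized blowings up in closed points g : X_n → … → X_1 →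
X_0 = X^ν, X^ν → X the normalization, and an S-morphism f_n : X_n → Y which agrees with f on the
inverse image of U. (The quasi-compactness and quasi-separatedness binders on Spec K(X) → X always
hold.) -/
theorem result {S : Scheme.{u}} (X Y : Scheme.{u}) (p : X ⟶ S) (q : Y ⟶ S) [IsProper q]
    [IsIntegral X] [IsNoetherian X] (hN : ∀ V : X.affineOpens, CAlg.IsNagata Γ(X, V.1)) (hdim : topologicalKrullDim X = 2)
    [QuasiCompact (X.fromSpecStalk (genericPoint X))] [QuasiSeparated (X.fromSpecStalk (genericPoint X))]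
    (U : X.Opens) (hU : Dense (U : Set X)) (f : (U : Scheme.{u}) ⟶ Y) (hf : f ≫ q = U.ι ≫ p) :
    ∃ (Xn : Scheme.{u}) (g : Xn ⟶ Curv2.normalization X) (fn : Xn ⟶ Y), Resolve.IsNormPtBlowupSeq g ∧
      fn ≫ q = (g ≫ Curv2.normalizationι X) ≫ p ∧
      ((g ≫ Curv2.normalizationι X) ⁻¹ᵁ U).ι ≫ fn = ((g ≫ Curv2.normalizationι X) ∣_ U) ≫ f := by
  haveI : IsFinite (Curv2.normalizationι X) := Groth.Agent.S9688.result X fun V hV hne => by
    haveI : IsDomain Γ(X, V) := @IsIntegral.component_integral X _ V hne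
    exact Groth.Agent.N12Aux.isN2_of_isNagata (hN ⟨V, hV⟩)
  haveI : IsIntegral (Curv2.normalization X) :=
    inferInstanceAs (IsIntegral (X.fromSpecStalk (genericPoint X)).normalization)
  haveI : IsLocallyNoetherian (Curv2.normalization X) :=
    LocallyOfFiniteType.isLocallyNoetherian (Curv2.normalizationι X)
  haveI : CompactSpace (Curv2.normalization X) :=
    QuasiCompact.compactSpace_of_compactSpace (Curv2.normalizationι X)
  haveI : IsNoetherian (Curv2.normalization X) := {}
  obtain ⟨V, hV, hiso⟩ := Groth.Agent.BMLib.exists_isIso_normalizationι X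
  haveI := hiso
  haveI : IsOpenImmersion ((Curv2.normalizationι X ⁻¹ᵁ V).ι ≫ Curv2.normalizationι X) := by
    rw [← morphismRestrict_ι]; infer_instance
  have hW : ((Curv2.normalizationι X ⁻¹ᵁ V) : Set ↥(Curv2.normalization X)).Nonempty := by
    obtain ⟨v, hv⟩ := hV
    exact ⟨(inv (Curv2.normalizationι X ∣_ V) ⟨v, hv⟩).1, (inv (Curv2.normalizationι X ∣_ V) ⟨v, hv⟩).2⟩
  have hbir : IsIso ((Curv2.normalizationι X).stalkMap (genericPoint ↥(Curv2.normalization X))) :=
    Groth.Agent.PurBir.isIso_stalkMap_of_mem _ (Groth.Agent.PurBir.genericPoint_mem hW)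
  have hnice : Groth.Agent.NormSeq.Nice (Curv2.normalization X) :=
    Groth.Agent.NormSeq.Nice.of_nagata inferInstance inferInstance (Groth.Agent.NormCurve.isNormalScheme_normalization X)
      (fun W => Groth.Agent.AlgSpDec.NagataLocal.isNagata_affineOpen (Curv2.normalizationι X)
        (fun V : X.affineOpens => V.1) (iSup_affineOpens_eq_top X) (fun V => V.2) hN W.1 W.2)
      (fun z => (Groth.Agent.NormSeq.dim_le _ hbir z).trans ((SchTop.ringKrullDim_stalk_le _).trans hdim.le))
  have hgen : Curv2.normalizationι X (genericPoint ↥(Curv2.normalization X)) = genericPoint X :=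
    Groth.Agent.SurfSeq.map_generic _ hbir
  have hηU : genericPoint X ∈ U := Groth.Agent.PurBir.genericPoint_mem hU.nonempty
  let j := (Curv2.normalization X).fromSpecStalk (genericPoint ↥(Curv2.normalization X))
  have hj : ∀ t, j t = genericPoint ↥(Curv2.normalization X) := fun t => by
    have h : j t ⤳ genericPoint ↥(Curv2.normalization X) := by
      have h0 : j t ∈ Set.range j := ⟨t, rfl⟩
      rwa [Scheme.range_fromSpecStalk] at h0
    exact (h.antisymm (genericPoint_specializes _)).eq
  let l := IsOpenImmersion.lift U.ι (j ≫ Curv2.normalizationι X) (by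
    rintro _ ⟨t, rfl⟩
    rw [Scheme.Opens.range_ι, Scheme.Hom.comp_apply, hj t, hgen]
    exact hηU)
  have hl : l ≫ U.ι = j ≫ Curv2.normalizationι X := IsOpenImmersion.lift_fac _ _ _
  let σ₀ := pullback.lift (f := Curv2.normalizationι X ≫ p) (g := q) j (l ≫ f) (by
    rw [Category.assoc, hf, reassoc_of% hl])
  obtain ⟨M, t, hseq, ht, htg⟩ := Groth.Agent.NormSeq.exists_dominating
    (pullback.fst (Curv2.normalizationι X ≫ p) q) σ₀ (pullback.lift_fst _ _ _) hnice
  refine ⟨M.Z, M.G, t ≫ pullback.snd (Curv2.normalizationι X ≫ p) q, hseq, ?_, ?_⟩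
  · rw [Category.assoc, ← pullback.condition, ← Category.assoc, ht, Category.assoc]
  let G' := M.G ≫ Curv2.normalizationι X
  have hMgen : M.genHom ≫ G' = j ≫ Curv2.normalizationι X := by
    show M.genHom ≫ M.G ≫ Curv2.normalizationι X = _
    rw [← Category.assoc, M.genHom_G]
  let k := IsOpenImmersion.lift (G' ⁻¹ᵁ U).ι M.genHom (by
    rintro _ ⟨s, rfl⟩
    rw [Scheme.Opens.range_ι]
    show G' (M.genHom s) ∈ U
    rw [← Scheme.Hom.comp_apply, hMgen, Scheme.Hom.comp_apply, hj s, hgen]
    exact hηU)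
  have hk : k ≫ (G' ⁻¹ᵁ U).ι = M.genHom := IsOpenImmersion.lift_fac _ _ _
  haveI : Nonempty (G' ⁻¹ᵁ U : Scheme.{u}) := ⟨k (IsLocalRing.closedPoint _)⟩
  haveI : IsIntegral (G' ⁻¹ᵁ U : Scheme.{u}) := isIntegral_of_isOpenImmersion (G' ⁻¹ᵁ U).ι
  haveI : IsDominant k := by
    refine ⟨fun z => closure_mono (Set.singleton_subset_iff.2 (Set.mem_range_self (f := (k : _ → _))
      (IsLocalRing.closedPoint _))) ?_⟩
    have h1 : k (IsLocalRing.closedPoint _) = genericPoint ↥(G' ⁻¹ᵁ U : Scheme.{u}) := by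
      apply (G' ⁻¹ᵁ U).ι.isOpenEmbedding.injective
      rw [genericPoint_eq_of_isOpenImmersion (G' ⁻¹ᵁ U).ι, ← Scheme.Hom.comp_apply, hk]
      exact M.genHom_apply _
    rw [h1, (genericPoint_spec _).def]
    trivial
  refine ext_of_isDominant_of_isSeparated q ?_ k ?_
  · show (((G' ⁻¹ᵁ U).ι ≫ t ≫ pullback.snd _ q) ≫ q) = ((G' ∣_ U) ≫ f) ≫ q
    rw [Category.assoc, Category.assoc, ← pullback.condition, reassoc_of% ht, Category.assoc, hf,
      morphismRestrict_ι_assoc]
    simp only [G', Category.assoc]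
  · show k ≫ (G' ⁻¹ᵁ U).ι ≫ t ≫ pullback.snd _ q = k ≫ (G' ∣_ U) ≫ f
    rw [reassoc_of% hk, reassoc_of% htg, pullback.lift_snd, ← Category.assoc k]
    congr 1
    rw [← cancel_mono U.ι, hl, Category.assoc, morphismRestrict_ι, reassoc_of% hk, hMgen]

end Groth.Agent.S7378
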