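import Groth.Statements.S7375
import Mathlib
import Groth.Agent.S7378

set_option autoImplicit false
universe u
open CategoryTheory CategoryTheory.Limits AlgebraicGeometry
open Resolve

namespace Groth.Agent.S7375

/-- Let X be an integral Noetherian Nagata scheme of dimension two and f : Y → X a proper birational
morphism (Y integral, f an isomorphism over a nonempty open). Then there are a finite sequence of
normalized blowings up in closed points g : X_n → … → X_1 → X_0 = X^ν, where X^ν → X is the
normalization, and a morphism X_n → Y over X. (The quasi-compactness and quasi-separatedness binders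
on Spec K(X) → X always hold.) -/
theorem result (X : Scheme.{u}) [IsIntegral X] [IsNoetherian X]
    (hN : ∀ U : X.affineOpens, CAlg.IsNagata Γ(X, U.1)) (hdim : topologicalKrullDim X = 2)
    [QuasiCompact (X.fromSpecStalk (genericPoint X))] [QuasiSeparated (X.fromSpecStalk (genericPoint X))]
    {Y : Scheme.{u}} [IsIntegral Y] (f : Y ⟶ X) [IsProper f]
    (hbir : ∃ U : X.Opens, (U : Set X).Nonempty ∧ IsIso (f ∣_ U)) :
    ∃ (Xn : Scheme.{u}) (g : Xn ⟶ Curv2.normalization X), Resolve.IsNormPtBlowupSeq g ∧
      ∃ h : Xn ⟶ Y, h ≫ f = g ≫ Curv2.normalizationι X := by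
  obtain ⟨U, hU, hiso⟩ := hbir
  haveI := hiso
  obtain ⟨Xn, g, fn, hseq, hfn, -⟩ := Groth.Agent.S7378.result X Y (𝟙 X) f hN hdim U (U.isOpen.dense hU)
    (inv (f ∣_ U) ≫ (f ⁻¹ᵁ U).ι) (by
      rw [Category.assoc, ← morphismRestrict_ι, IsIso.inv_hom_id_assoc, Category.comp_id])
  exact ⟨Xn, g, hseq, fn, hfn.trans (Category.comp_id _)⟩

end Groth.Agent.S7375
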