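import Groth.Statements.S7379
import Groth.Agent.MorLib.IdealFG3

set_option autoImplicit false
universe u
open CategoryTheory AlgebraicGeometry
open Lim

namespace Groth.Agent.S7379

/-- Let `ι : X → Y` be a closed immersion with `Y` quasi-compact and quasi-separated. Then, in the
category of schemes over `Y`, `X` is the limit of a nonempty directed inverse system whose objects
`X_i → Y` are closed immersions of finite presentation. -/
theorem result {X Y : Scheme.{u}} (ι : X ⟶ Y)
    [IsClosedImmersion ι] [CompactSpace Y] [QuasiSeparatedSpace Y] :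
    ∃ (I : Type u) (_ : Preorder I) (_ : IsDirected I (fun a b => a ≤ b)) (_ : Nonempty I)
      (D : Iᵒᵖ ⥤ Over Y) (c : Limits.Cone D) (_ : Limits.IsLimit c),
      (∀ i, IsClosedImmersion (D.obj i).hom ∧ LocallyOfFinitePresentation (D.obj i).hom) ∧
      Nonempty (c.pt ≅ Over.mk ι) := by
  open Groth.Agent.MorLib.IdealFG in
  refine ⟨Sub ι.ker, inferInstance, inferInstance, inferInstance, subDiagram (𝟙 Y) ι.ker, subCone (𝟙 Y) ι.ker,
    isLimitSubCone (𝟙 Y) ι.ker, fun K => ?_, ⟨Over.isoMk (asIso ι.toImage).symm ?_⟩⟩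
  · have h1 : IsClosedImmersion (K.unop.1.subschemeι ≫ 𝟙 Y) := inferInstance
    have h2 : LocallyOfFinitePresentation (K.unop.1.subschemeι ≫ 𝟙 Y) := by
      rw [CategoryTheory.Category.comp_id]
      exact Groth.Agent.MorLib.IdealFG.lfp_subschemeι K.unop.2.2
    exact ⟨h1, h2⟩
  · show inv ι.toImage ≫ ι = ι.ker.subschemeι ≫ 𝟙 Y
    rw [CategoryTheory.Category.comp_id, IsIso.inv_comp_eq]
    exact ι.toImage_imageι.symm

end Groth.Agent.S7379
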