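import Groth.Statements.S7380
import Groth.Agent.Approx.FP
import Groth.Agent.MorLib.IdealFG3

set_option autoImplicit false
universe u
open CategoryTheory AlgebraicGeometry
open Lim

namespace Groth.Agent.S7380

/-- Let `f : X → S` be locally of finite type with `X` quasi-compact and quasi-separated and `S`
quasi-separated. Then, in the category of schemes over `S`, `X` is the limit of a nonempty directed
inverse system of schemes `X_i → S` of finite presentation (locally of finite presentation,
quasi-compact and quasi-separated), each `X_i` being a quasi-compact and quasi-separated scheme,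
whose transition morphisms are closed immersions. -/
theorem result {X S : Scheme.{u}}
    (f : X ⟶ S) [LocallyOfFiniteType f] [CompactSpace X] [QuasiSeparatedSpace X] [QuasiSeparatedSpace S] :
    ∃ (I : Type u) (_ : Preorder I) (_ : IsDirected I (fun a b => a ≤ b)) (_ : Nonempty I)
      (D : Iᵒᵖ ⥤ Over S) (c : Limits.Cone D) (_ : Limits.IsLimit c),
      (∀ i, LocallyOfFinitePresentation (D.obj i).hom ∧ QuasiCompact (D.obj i).hom ∧
        QuasiSeparated (D.obj i).hom ∧ CompactSpace (D.obj i).left ∧ QuasiSeparatedSpace (D.obj i).left) ∧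
      (∀ (i j : Iᵒᵖ) (a : i ⟶ j), IsClosedImmersion (D.map a).left) ∧
      Nonempty (c.pt ≅ Over.mk f) := by
  open Groth.Agent.Approx Groth.Agent.MorLib.IdealFG Opposite in
  obtain ⟨X', f', j, h1, h2, h3, hc', hqs', hj, hjf, -⟩ := exists_closedImmersion_fp f
  refine ⟨Sub j.ker, inferInstance, inferInstance, inferInstance, subDiagram f' j.ker, subCone f' j.ker,
    isLimitSubCone f' j.ker, fun K => ?_, fun K L a => isClosedImmersion_map f' j.ker a,
    ⟨Over.isoMk (asIso j.toImage).symm ?_⟩⟩
  · haveI := lfp_subschemeι K.unop.2.2
    show LocallyOfFinitePresentation (K.unop.1.subschemeι ≫ f') ∧ QuasiCompact (K.unop.1.subschemeι ≫ f') ∧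
      QuasiSeparated (K.unop.1.subschemeι ≫ f') ∧ CompactSpace K.unop.1.subscheme ∧
        QuasiSeparatedSpace K.unop.1.subscheme
    exact ⟨inferInstance, inferInstance, inferInstance,
      QuasiCompact.compactSpace_of_compactSpace K.unop.1.subschemeι,
      quasiSeparatedSpace_of_quasiSeparated K.unop.1.subschemeι⟩
  · show inv j.toImage ≫ f = j.ker.subschemeι ≫ f'
    rw [IsIso.inv_comp_eq]
    exact hjf.symm.trans ((congrArg (· ≫ f') j.toImage_imageι.symm).trans (Category.assoc _ _ _))

end Groth.Agent.S7380
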