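import Groth.Statements.S7381
import Groth.Agent.Approx.FiniteFP

set_option autoImplicit false
set_option backward.isDefEq.respectTransparency false
set_option backward.isDefEq.respectTransparency.types false
universe u
open CategoryTheory AlgebraicGeometry
open Lim

namespace Groth.Agent.S7381

/-- Let `f : X → S` be finite with `S` quasi-compact and quasi-separated. Then, in the category of
schemes over `S`, `X` is the limit of a nonempty directed inverse system of schemes `X_i → S` that
are finite and locally of finite presentation, with closed immersions as transition morphisms. -/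
theorem result {X S : Scheme.{u}} (f : X ⟶ S) [IsFinite f]
    [CompactSpace S] [QuasiSeparatedSpace S] :
    ∃ (I : Type u) (_ : Preorder I) (_ : IsDirected I (fun a b => a ≤ b)) (_ : Nonempty I)
      (D : Iᵒᵖ ⥤ Over S) (c : Limits.Cone D) (_ : Limits.IsLimit c),
      (∀ i, IsFinite (D.obj i).hom ∧ LocallyOfFinitePresentation (D.obj i).hom) ∧
      (∀ (i j : Iᵒᵖ) (a : i ⟶ j), IsClosedImmersion (D.map a).left) ∧
      Nonempty (c.pt ≅ Over.mk f) := by
  open Groth.Agent.Approx Groth.Agent.MorLib.IdealFG Opposite in
  obtain ⟨X', f', j, h1, h2, hj, hjf⟩ := exists_finite_fp f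
  haveI : CompactSpace X' := QuasiCompact.compactSpace_of_compactSpace f'
  haveI : QuasiSeparatedSpace X' := quasiSeparatedSpace_of_quasiSeparated f'
  refine ⟨Sub j.ker, inferInstance, inferInstance, inferInstance, subDiagram f' j.ker, subCone f' j.ker,
    isLimitSubCone f' j.ker, fun K => ?_, fun K L a => isClosedImmersion_map f' j.ker a,
    ⟨Over.isoMk (asIso j.toImage).symm ?_⟩⟩
  · haveI := lfp_subschemeι K.unop.2.2
    show IsFinite (K.unop.1.subschemeι ≫ f') ∧ LocallyOfFinitePresentation (K.unop.1.subschemeι ≫ f')
    exact ⟨inferInstance, inferInstance⟩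
  · show inv j.toImage ≫ f = j.ker.subschemeι ≫ f'
    rw [IsIso.inv_comp_eq]
    exact hjf.symm.trans ((congrArg (· ≫ f') j.toImage_imageι.symm).trans (Category.assoc _ _ _))

end Groth.Agent.S7381
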