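import Groth.Statements.S7386
import Groth.Agent.GenNhd.Basic

set_option autoImplicit false
universe u
open CategoryTheory AlgebraicGeometry
open Mor

namespace Groth.Agent.S7386

/-- Let `X` be a quasi-separated scheme, `η_1, …, η_n` generic points of irreducible components of `X`
and `x` any point of `X`. Then some affine open of `X` contains `x` and all the `η_i`. -/
theorem result (X : Scheme.{u}) [QuasiSeparatedSpace X] {n : ℕ}
    (η : Fin n → X) (hη : ∀ i, closure ({η i} : Set X) ∈ irreducibleComponents (X : Type u)) (x : X) :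
    ∃ U : X.Opens, IsAffineOpen U ∧ x ∈ U ∧ ∀ i, η i ∈ U := by
  classical
  obtain ⟨V, hV, hxV, -⟩ := exists_isAffineOpen_mem_and_subset (U := (⊤ : X.Opens)) (x := x) trivial
  let T : Finset X := (Finset.univ.image η).filter (fun p => p ∉ V)
  have hT : ∀ p ∈ T, closure ({p} : Set X) ∈ irreducibleComponents (X : Type u) := fun p hp => by
    obtain ⟨i, -, rfl⟩ := Finset.mem_image.1 (Finset.mem_filter.1 hp).1
    exact hη i
  obtain ⟨U, hU, hUd⟩ := GenNhd.exists_pairwise_disjoint (fun k => (T.equivFin.symm k).1)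
    (fun k => hT _ (T.equivFin.symm k).2) (Subtype.val_injective.comp T.equivFin.symm.injective) V hV
    fun k => (Finset.mem_filter.1 (T.equivFin.symm k).2).2
  have hW : IsAffineOpen (V ⊔ ⨆ k, U k) :=
    hV.sup_of_disjoint (IsAffineOpen.iSup_of_disjoint (fun k => (hU k).1) fun k l h => hUd k l h)
      (disjoint_iSup_iff.2 fun k => (hU k).2.2.symm)
  refine ⟨_, hW, Or.inl hxV, fun i => ?_⟩
  by_cases h : η i ∈ V
  · exact Or.inl h
  · refine Or.inr (TopologicalSpace.Opens.mem_iSup.2 ⟨T.equivFin ⟨η i, Finset.mem_filter.2 ⟨Finset.mem_image_of_mem η (Finset.mem_univ i), h⟩⟩, ?_⟩)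
    have := (hU (T.equivFin ⟨η i, Finset.mem_filter.2 ⟨Finset.mem_image_of_mem η (Finset.mem_univ i), h⟩⟩)).2.1
    simpa using this

end Groth.Agent.S7386
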