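import Groth.Statements.S7387
import Mathlib

set_option autoImplicit false
universe u
open CategoryTheory AlgebraicGeometry
open Mor

namespace Groth.Agent.S7387

open AlgebraicGeometry CategoryTheory Limits TopologicalSpace

theorem isSeparated_of_mono_to {A B : Scheme.{u}} (a : A ⟶ B) [Mono a] [B.IsSeparated] : A.IsSeparated :=
  ⟨by rw [← terminal.comp_from a]; infer_instance⟩

theorem isSeparated_of_isCompl {S : Scheme.{u}} (A B : S.Opens) (h : IsCompl A B)
    (hA : (A : Scheme.{u}).IsSeparated) (hB : (B : Scheme.{u}).IsSeparated) : S.IsSeparated := by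
  obtain ⟨hc⟩ := nonempty_isColimit_binaryCofanMk_of_isCompl A.ι B.ι (by
    simpa only [Scheme.Opens.opensRange_ι] using h)
  let P : Scheme.{u} := ⊤_ Scheme.{u}
  obtain ⟨g, hgA, hgB⟩ := BinaryCofan.IsColimit.desc' hc
    (terminal.from (A : Scheme.{u}) ≫
      (coprod.inl : P ⟶ P ⨿ P))
    (terminal.from (B : Scheme.{u}) ≫
      (coprod.inr : P ⟶ P ⨿ P))
  change A.ι ≫ g = _ at hgA
  change B.ι ≫ g = _ at hgB
  have hdis := isCompl_range_inl_inr P P
  have hpre : g ⁻¹ᵁ (coprod.inl : P ⟶ P ⨿ P).opensRange = A ∧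
      g ⁻¹ᵁ (coprod.inr : P ⟶ P ⨿ P).opensRange = B := by
    have hxA : ∀ x ∈ A, g x ∈ Set.range (coprod.inl : P ⟶ P ⨿ P) := fun x hx => by
      rw [show g x = (A.ι ≫ g) ⟨x, hx⟩ from rfl, hgA]
      exact ⟨_, rfl⟩
    have hxB : ∀ x ∈ B, g x ∈ Set.range (coprod.inr : P ⟶ P ⨿ P) := fun x hx => by
      rw [show g x = (B.ι ≫ g) ⟨x, hx⟩ from rfl, hgB]
      exact ⟨_, rfl⟩
    have hcov : ∀ x, x ∈ A ∨ x ∈ B := fun x => by
      have : x ∈ A ⊔ B := h.sup_eq_top ▸ trivial
      simpa using this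
    constructor <;> ext x <;> refine ⟨fun hx => ?_, fun hx => ?_⟩
    · exact (hcov x).resolve_right fun hb => Set.disjoint_iff.1 hdis.disjoint ⟨hx, hxB x hb⟩
    · exact hxA x hx
    · exact (hcov x).resolve_left fun ha => Set.disjoint_iff.1 hdis.disjoint ⟨hxA x ha, hx⟩
    · exact hxB x hx
  haveI : IsSeparated g := by
    refine (IsZariskiLocalAtTarget.iff_of_iSup_eq_top (P := @IsSeparated)
      (fun b : Bool => bif b then (coprod.inl : P ⟶ P ⨿ P).opensRange
        else (coprod.inr : P ⟶ P ⨿ P).opensRange) ?_).2 fun b => ?_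
    · rw [iSup_bool_eq]; exact (isCompl_opensRange_inl_inr P P).sup_eq_top
    · have key : ∀ (U : (P ⨿ P).Opens) (C : S.Opens), g ⁻¹ᵁ U = C → (C : Scheme.{u}).IsSeparated →
          IsSeparated (g ∣_ U) := fun U C e hC => by
        subst e
        haveI := hC
        haveI : IsSeparated (g ∣_ U ≫ terminal.from (U : Scheme.{u})) := by
          rw [terminal.comp_from]; exact hC.1
        exact IsSeparated.of_comp (g ∣_ U) (terminal.from (U : Scheme.{u}))
      cases b
      · exact key _ _ hpre.2 hB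
      · exact key _ _ hpre.1 hA
  haveI : IsSeparated (g ≫ terminal.from (P ⨿ P)) := inferInstance
  exact ⟨(congrArg (fun φ => IsSeparated φ) (terminal.comp_from g)).mp this⟩

theorem exists_dense_sep (X : Scheme.{u}) (t : Finset X.affineOpens) :
    ∃ V : X.Opens, (∀ U ∈ t, ((U : X.affineOpens).1 : Set X) ⊆ closure (V : Set X)) ∧
      (V : Scheme.{u}).IsSeparated := by
  classical
  induction t using Finset.induction with
  | empty =>
    refine ⟨⊥, by simp, ?_⟩
    haveI : IsAffine ((⊥ : X.Opens) : Scheme.{u}) := isAffineOpen_bot X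
    infer_instance
  | insert U t _ ih =>
    obtain ⟨V, hV, hVs⟩ := ih
    let W : X.Opens := ⟨(U.1 : Set X) \ closure (V : Set X), U.1.2.sdiff isClosed_closure⟩
    have hd : Disjoint (V : Set X) (W : Set X) :=
      Set.disjoint_left.2 fun x hx hx' => hx'.2 (subset_closure hx)
    haveI := hVs
    haveI : (W : Scheme.{u}).IsSeparated := by
      haveI : IsAffine (U.1 : Scheme.{u}) := U.2
      exact isSeparated_of_mono_to (X.homOfLE (show W ≤ U.1 from fun x hx => hx.1))
    refine ⟨V ⊔ W, fun U' hU' => ?_, isSeparated_of_isCompl ((V ⊔ W).ι ⁻¹ᵁ V) ((V ⊔ W).ι ⁻¹ᵁ W) ?_ ?_ ?_⟩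
    · rcases Finset.mem_insert.1 hU' with rfl | h'
      · intro x hx
        by_cases hc : x ∈ closure (V : Set X)
        · exact closure_mono Set.subset_union_left hc
        · exact subset_closure (Or.inr ⟨hx, hc⟩)
      · exact (hV U' h').trans (closure_mono Set.subset_union_left)
    · refine ⟨disjoint_iff_inf_le.2 fun x hx => Set.disjoint_left.1 hd hx.1 hx.2,
        codisjoint_iff_le_sup.2 fun x _ => ?_⟩
      exact (x.2 : x.1 ∈ V ⊔ W)
    · exact isSeparated_of_mono_to (IsOpenImmersion.lift V.ι (((V ⊔ W).ι ⁻¹ᵁ V).ι ≫ (V ⊔ W).ι)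
        (by rintro _ ⟨z, rfl⟩; rw [Scheme.Opens.range_ι]; exact z.2))
    · exact isSeparated_of_mono_to (IsOpenImmersion.lift W.ι (((V ⊔ W).ι ⁻¹ᵁ W).ι ≫ (V ⊔ W).ι)
        (by rintro _ ⟨z, rfl⟩; rw [Scheme.Opens.range_ι]; exact z.2))


/-- A quasi-compact scheme has a dense open subscheme which is separated. -/
theorem result (X : Scheme.{u}) [CompactSpace X] :
    ∃ V : X.Opens, Dense (V : Set X) ∧ (V : Scheme.{u}).IsSeparated := by
  obtain ⟨t, ht⟩ := isCompact_univ.elim_finite_subcover (fun U : X.affineOpens => (U.1 : Set X))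
    (fun U => U.1.2) (fun x _ => by
      obtain ⟨_, ⟨U, hU, rfl⟩, hxU, -⟩ :=
        X.isBasis_affineOpens.exists_subset_of_mem_open (Set.mem_univ x) isOpen_univ
      exact Set.mem_iUnion.2 ⟨⟨U, hU⟩, hxU⟩)
  obtain ⟨V, hV, hs⟩ := exists_dense_sep X t
  refine ⟨V, dense_iff_closure_eq.2 (Set.eq_univ_of_forall fun x => ?_), hs⟩
  obtain ⟨U, hU, hxU⟩ := Set.mem_iUnion₂.1 (ht (Set.mem_univ x))
  exact hV U hU hxU

end Groth.Agent.S7387
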