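import Groth.Statements.S7392
import Groth.Agent.MorLib.TildeProj

set_option autoImplicit false
universe u
open CategoryTheory AlgebraicGeometry
open Opposite
open Mor

namespace Groth.Agent.S7392

/-- For a ring `A` and an `A`-module `M`, the module `M~` on `Spec A` is locally projective (projective
sections over every affine open) if and only if `M` is a projective `A`-module. -/
theorem result (A : CommRingCat.{u}) (M : ModuleCat.{u} A) :
    (∀ U : (Spec A).Opens, IsAffineOpen U →
      Module.Projective ((Spec A).ringCatSheaf.obj.obj (op U)) ((tilde M).val.obj (op U))) ↔
      Module.Projective A M := by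
  exact ⟨fun h => Groth.Agent.MorLib.TP.projective_of_sections_top M (h ⊤ (isAffineOpen_top _)),
    fun h U hU => Groth.Agent.MorLib.TP.projective_sections M U hU.isCompact⟩

end Groth.Agent.S7392
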