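import Groth.Statements.S7393
import Groth.Agent.PopescuLib.GRingScheme

set_option autoImplicit false
universe u
open CategoryTheory AlgebraicGeometry
open Mor

namespace Groth.Agent.S7393

/-- A scheme `X` is a G-scheme (every point has an affine open neighbourhood whose coordinate ring is a
G-ring) if and only if `X` is locally Noetherian and, for every closed point `x`, the completion map
of the local ring `O_{X,x} → O_{X,x}^∧` is a regular ring map. -/
theorem result (X : Scheme.{u}) :
    (∀ x : X, ∃ U : X.Opens, x ∈ U ∧ IsAffineOpen U ∧ CAlg.IsGRing Γ(X, U)) ↔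
      IsLocallyNoetherian X ∧ ∀ x : X, IsClosed ({x} : Set X) →
        CAlg.IsRegularHom (X.presheaf.stalk x)
          (AdicCompletion (IsLocalRing.maximalIdeal (X.presheaf.stalk x)) (X.presheaf.stalk x)) := by
  exact PopescuLib.gScheme_iff X

end Groth.Agent.S7393
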