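import Groth.Statements.S7394
import Mathlib

set_option autoImplicit false
universe u
open CategoryTheory AlgebraicGeometry
open Lim

namespace Groth.Agent.S7394

open AlgebraicGeometry CategoryTheory

theorem exists_common_field {k : Type u} [Field k] {ι : Type u} (L : ι → Type u) [∀ i, Field (L i)]
    [∀ i, Algebra k (L i)] :
    ∃ (K : Type u) (_ : Field K) (_ : Algebra k K), ∀ i, Nonempty (L i →ₐ[k] K) := by
  let F := FractionRing (MvPolynomial (Σ i, L i) k)
  refine ⟨AlgebraicClosure F, inferInstance, inferInstance, fun i => ?_⟩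
  obtain ⟨s, hs⟩ := exists_isTranscendenceBasis k (L i)
  let incl : MvPolynomial (Σ i, L i) k →ₐ[k] AlgebraicClosure F :=
    IsScalarTower.toAlgHom k (MvPolynomial (Σ i, L i) k) (AlgebraicClosure F)
  have hincl : Function.Injective incl := by
    show Function.Injective (algebraMap _ (AlgebraicClosure F))
    rw [IsScalarTower.algebraMap_eq _ F (AlgebraicClosure F)]
    exact (algebraMap F (AlgebraicClosure F)).injective.comp (IsFractionRing.injective _ F)
  let φ : Algebra.adjoin k (Set.range ((↑) : s → L i)) →ₐ[k] AlgebraicClosure F :=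
    (incl.comp (MvPolynomial.rename fun x : s => (⟨i, x.1⟩ : Σ i, L i))).comp hs.1.aevalEquiv.symm.toAlgHom
  have hφ : Function.Injective φ :=
    (hincl.comp (MvPolynomial.rename_injective _ fun a b h => Subtype.ext (by simpa using h))).comp
      hs.1.aevalEquiv.symm.injective
  letI := φ.toRingHom.toAlgebra
  haveI : IsScalarTower k (Algebra.adjoin k (Set.range ((↑) : s → L i))) (AlgebraicClosure F) :=
    .of_algebraMap_eq fun x => (φ.commutes x).symm
  haveI : FaithfulSMul (Algebra.adjoin k (Set.range ((↑) : s → L i))) (AlgebraicClosure F) :=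
    (faithfulSMul_iff_algebraMap_injective _ _).2 hφ
  haveI := hs.isAlgebraic
  exact ⟨(IsAlgClosed.lift (R := Algebra.adjoin k (Set.range ((↑) : s → L i))) (S := L i)
    (M := AlgebraicClosure F)).restrictScalars k⟩

theorem point_over {X S : Scheme.{u}} (f : X ⟶ S) (x : X) (s : S) (h : f x = s) :
    Spec.map ((S.residueFieldCongr h.symm).hom ≫ f.residueFieldMap x) ≫ S.fromSpecResidueField s =
      X.fromSpecResidueField x ≫ f := by
  subst h
  simp [Scheme.residueFieldCongr]


theorem algHom_comp {k L : Type u} {K : Type u} [CommRing k] [CommRing L] [CommRing K] [Algebra k K]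
    (ρ : k →+* L) : letI := ρ.toAlgebra; ∀ e : L →ₐ[k] K,
      CommRingCat.ofHom (algebraMap k K) = CommRingCat.ofHom ρ ≫ CommRingCat.ofHom e.toRingHom :=
  letI := ρ.toAlgebra
  fun e => CommRingCat.hom_ext (RingHom.ext fun a => (e.commutes a).symm)

theorem point_over' {X S : Scheme.{u}} (f : X ⟶ S) (x : X) (s : S) (h : f x = s) {R : CommRingCat.{u}}
    (ψ : S.residueField s ⟶ R) (e : X.residueField x ⟶ R)
    (he : ψ = ((S.residueFieldCongr h.symm).hom ≫ f.residueFieldMap x) ≫ e) :
    (Spec.map e ≫ X.fromSpecResidueField x) ≫ f = Spec.map ψ ≫ S.fromSpecResidueField s := by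
  rw [he, Spec.map_comp, Category.assoc, Category.assoc, point_over f x s h]

/-- Let `S` be a scheme and `T_i → S`, `i ∈ I`, surjective affine morphisms. Then any product of the
`T_i` in the category of schemes over `S` maps surjectively onto `S`. -/
theorem result {S : Scheme.{u}} {I : Type u} (T : I → Over S)
    (hT : ∀ i, IsAffineHom (T i).hom ∧ Surjective (T i).hom) (c : Limits.Fan T) (hc : Limits.IsLimit c) :
    Surjective c.pt.hom := by
  refine ⟨fun s => ?_⟩
  choose x hx using fun i => (hT i).2.surj s
  letI : ∀ i, Algebra (S.residueField s) ((T i).left.residueField (x i)) := fun i =>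
    ((S.residueFieldCongr (hx i).symm).hom ≫ (T i).hom.residueFieldMap (x i)).hom.toAlgebra
  obtain ⟨K, _, _, hK⟩ := exists_common_field (k := S.residueField s) fun i => (T i).left.residueField (x i)
  let e := fun i => (hK i).some
  let P : Over S := Over.mk (Spec.map (CommRingCat.ofHom (algebraMap (S.residueField s) K)) ≫
    S.fromSpecResidueField s)
  let m := Limits.Fan.IsLimit.lift hc (A := P) fun i =>
    Over.homMk (Spec.map (CommRingCat.ofHom (e i).toRingHom) ≫ (T i).left.fromSpecResidueField (x i))
      (point_over' (T i).hom (x i) s (hx i) _ _ (algHom_comp _ (e i)))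
  let p : Spec (CommRingCat.of K) := IsLocalRing.closedPoint K
  refine ⟨m.left p, ?_⟩
  exact (congrArg (fun φ : Spec (CommRingCat.of K) ⟶ S => φ p) (Over.w m)).trans
    (Scheme.fromSpecResidueField_apply s _)

end Groth.Agent.S7394
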