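import Groth.Statements.S7396
import Groth.Agent.Approx.FiniteFP

set_option autoImplicit false
set_option backward.isDefEq.respectTransparency false
set_option backward.isDefEq.respectTransparency.types false
universe u
open CategoryTheory AlgebraicGeometry
open Lim

namespace Groth.Agent.S7396

/-- Let `f : X → S` be finite with `S` quasi-compact and quasi-separated. Then there are a morphism `f'
: X' → S` which is finite and of finite presentation and a closed immersion `X → X'` over `S`. -/
theorem result {X S : Scheme.{u}} (f : X ⟶ S) [IsFinite f]
    [CompactSpace S] [QuasiSeparatedSpace S] :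
    ∃ (X' : Scheme.{u}) (f' : X' ⟶ S) (j : X ⟶ X'), IsFinite f' ∧ LocallyOfFinitePresentation f' ∧
      IsClosedImmersion j ∧ j ≫ f' = f := by
  exact Groth.Agent.Approx.exists_finite_fp f

end Groth.Agent.S7396
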