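import Groth.Statements.S7397
import Mathlib.Algebra.Ring.Subring.Basic
import Mathlib.Tactic.Ring

set_option autoImplicit false
universe u
open Mor

namespace Groth.Agent.S7397

/-- Let `A ⊆ B` be a ring extension and `b ∈ B`, `b ∉ A`, with `b^n, b^(n+1) ∈ A` for some `n ≥ 2`. Then
some `b' ∈ B` with `b' ∉ A` has `b'^2 ∈ A` and `b'^3 ∈ A`. -/
theorem result {B : Type u} [CommRing B] (A : Subring B) (b : B) (hb : b ∉ A)
    (n : ℕ) (hn : 2 ≤ n) (h1 : b ^ n ∈ A) (h2 : b ^ (n + 1) ∈ A) :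
    ∃ b' : B, b' ∉ A ∧ b' ^ 2 ∈ A ∧ b' ^ 3 ∈ A := by
  classical
  have hbig : ∀ k, n * (n + 1) ≤ k → b ^ k ∈ A := by
    intro k hk
    have hk2 : k = n * (k / n - k % n) + (n + 1) * (k % n) := by
      have h3 : k % n < n := Nat.mod_lt _ (by omega)
      have h4 : n ≤ k / n := (Nat.le_div_iff_mul_le (by omega)).mpr (le_trans (Nat.mul_le_mul_left n (by omega)) hk)
      obtain ⟨d, hd⟩ : ∃ d, k / n = d + k % n := ⟨k / n - k % n, by omega⟩
      rw [hd, Nat.add_sub_cancel]
      calc k = n * (k / n) + k % n := (Nat.div_add_mod k n).symm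
        _ = _ := by rw [hd]; ring
    rw [hk2, pow_add, pow_mul, pow_mul]
    exact A.mul_mem (A.pow_mem h1 _) (A.pow_mem h2 _)
  have hex : ∃ m, ∀ k, m < k → b ^ k ∈ A := ⟨n * (n + 1), fun k hk => hbig k hk.le⟩
  let m := Nat.find hex
  have hm : ∀ k, m < k → b ^ k ∈ A := Nat.find_spec hex
  have hm0 : 0 < m := Nat.pos_of_ne_zero fun h => hb (by simpa using hm 1 (by omega))
  refine ⟨b ^ m, fun hmem => ?_, by rw [← pow_mul]; exact hm _ (by omega),
    by rw [← pow_mul]; exact hm _ (by omega)⟩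
  refine Nat.find_min hex (show m - 1 < m by omega) fun k hk => ?_
  rcases Nat.lt_or_ge m k with h | h
  · exact hm k h
  · obtain rfl : k = m := by omega
    exact hmem

end Groth.Agent.S7397
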