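import Groth.Statements.S7398
import Groth.Agent.MorLib.RingUnivHomeoTower

set_option autoImplicit false
universe u
open CategoryTheory AlgebraicGeometry
open Mor

namespace Groth.Agent.S7398

/-- Let `A ⊆ B` be a ring extension with `A ≠ B` such that `Spec B → Spec A` is a universal
homeomorphism whose residue field extensions are all trivial. Then some `b ∈ B` with `b ∉ A` has
`b^2 ∈ A` and `b^3 ∈ A`. (Here `A → B` is an injective, non-surjective ring map and membership in
`A` means membership in its image.) -/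
theorem result {A B : Type u} [CommRing A] [CommRing B]
    (φ : A →+* B) (hinj : Function.Injective φ) (hns : ¬ Function.Surjective φ)
    (hU : FlatMor.IsUnivHomeo (Spec.map (CommRingCat.ofHom φ)))
    (hres : ∀ x : Spec (CommRingCat.of B), Function.Surjective ((Spec.map (CommRingCat.ofHom φ)).residueFieldMap x)) :
    ∃ b : B, b ∉ φ.range ∧ b ^ 2 ∈ φ.range ∧ b ^ 3 ∈ φ.range := by
  letI := φ.toAlgebra
  obtain ⟨hi, hr, -⟩ := (Groth.Agent.MorLib.RUH.isUnivHomeo_SpecMap_iff φ).mp hU
  haveI : Algebra.IsIntegral A B := ⟨hi⟩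
  obtain ⟨b₀, hb₀⟩ : ∃ b₀, b₀ ∉ φ.range := by
    by_contra H
    push Not at H
    exact hns H
  obtain ⟨b, hb, hs⟩ := Groth.Agent.MorLib.RUH.exists_step (A := A) (B := B) hinj
    (Groth.Agent.MorLib.RUH.injective_comap_of_radicial hr) (fun _ => False) (fun _ h => h.elim)
    (fun q b => by
      obtain ⟨a, s, hs, h⟩ :=
        (Groth.Agent.MorLib.RUH.residueFieldMap_surjective_iff φ q).mp (hres q) b
      refine ⟨1, Or.inl rfl, 0, a, s, hs, ?_⟩
      rw [pow_zero, pow_one]
      exact h) b₀ hb₀
  exact ⟨b, hb, hs.resolve_right fun ⟨_, h, _⟩ => h.elim⟩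

end Groth.Agent.S7398
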