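import Groth.Statements.S7400
import Groth.Agent.MorLib.RingUnivHomeoTower

set_option autoImplicit false
universe u
open CategoryTheory AlgebraicGeometry
open Mor

namespace Groth.Agent.S7400

/-- Let `A ⊆ B` be a ring extension. The morphism `Spec B → Spec A` is a universal homeomorphism with
all residue field extensions trivial exactly when each finite subset of `B` is contained in some
`A[b_1, …, b_n] ⊆ B` such that `b_i^2` and `b_i^3` lie in `A[b_1, …, b_{i-1}]` for every `i`. (Here
`A → B` is an injective ring map and `A[b_1, …, b_{i-1}]` is the `A`-subalgebra generated by the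
earlier entries.) -/
theorem result {A B : Type u} [CommRing A] [CommRing B] [Algebra A B]
    (hinj : Function.Injective (algebraMap A B)) :
    (FlatMor.IsUnivHomeo (Spec.map (CommRingCat.ofHom (algebraMap A B))) ∧
      ∀ x : Spec (CommRingCat.of B),
        Function.Surjective ((Spec.map (CommRingCat.ofHom (algebraMap A B))).residueFieldMap x)) ↔
    ∀ E : Finset B, ∃ l : List B, (↑E : Set B) ⊆ Algebra.adjoin A {b : B | b ∈ l} ∧
      ∀ i : Fin l.length, l.get i ^ 2 ∈ Algebra.adjoin A {b : B | ∃ j : Fin l.length, j < i ∧ b = l.get j} ∧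
        l.get i ^ 3 ∈ Algebra.adjoin A {b : B | ∃ j : Fin l.length, j < i ∧ b = l.get j} := by
  constructor
  · rintro ⟨hU, hres⟩ E
    obtain ⟨l, hl, hg⟩ := Groth.Agent.MorLib.RUH.exists_good_of_exists_step
      (Groth.Agent.MorLib.RUH.Step23 (A := A) (B := B)) Groth.Agent.MorLib.RUH.step23_mono
      Groth.Agent.MorLib.RUH.step23_fin (fun T hT => by
        obtain ⟨b, hb, hs⟩ := Groth.Agent.MorLib.RUH.exists_step_subalgebra hU (fun _ => False)
          (fun _ h => h.elim) (fun q b => by
            obtain ⟨a, s, hs, h⟩ :=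
              (Groth.Agent.MorLib.RUH.residueFieldMap_surjective_iff _ q).mp (hres q) b
            exact ⟨1, Or.inl rfl, 0, a, s, hs, by simpa using h⟩) T hT
        exact ⟨b, hb, hs.resolve_right fun ⟨_, h, _⟩ => h.elim⟩) E
    exact ⟨l, hl, hg⟩
  · intro h
    refine ⟨Groth.Agent.MorLib.RUH.isUnivHomeo_of_good hinj (fun E => ?_),
      fun q => Groth.Agent.MorLib.RUH.residueFieldMap_surjective_of_good h q⟩
    obtain ⟨l, hl, hg⟩ := h E
    exact ⟨l, hl, fun i => Or.inl (hg i)⟩

end Groth.Agent.S7400
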