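import Groth.Statements.S7401
import Groth.Agent.MorLib.RingUnivHomeoTower

set_option autoImplicit false
universe u
open CategoryTheory AlgebraicGeometry
open Mor

namespace Groth.Agent.S7401

/-- Let `A ⊆ B` be a ring extension. Then `Spec B → Spec A` is a universal homeomorphism if and only if
every finite subset of `B` lies in a subextension `A[b_1, …, b_n]` such that for each `i` either
`b_i^2, b_i^3 ∈ A[b_1, …, b_{i-1}]` or there is a prime number `p` with `p b_i, b_i^p ∈ A[b_1, …,
b_{i-1}]`. -/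
theorem result {A B : Type u} [CommRing A] [CommRing B] [Algebra A B]
    (hinj : Function.Injective (algebraMap A B)) :
    FlatMor.IsUnivHomeo (Spec.map (CommRingCat.ofHom (algebraMap A B))) ↔
    ∀ E : Finset B, ∃ l : List B, (↑E : Set B) ⊆ Algebra.adjoin A {b : B | b ∈ l} ∧
      ∀ i : Fin l.length,
        (l.get i ^ 2 ∈ Algebra.adjoin A {b : B | ∃ j : Fin l.length, j < i ∧ b = l.get j} ∧
          l.get i ^ 3 ∈ Algebra.adjoin A {b : B | ∃ j : Fin l.length, j < i ∧ b = l.get j}) ∨
        ∃ p : ℕ, p.Prime ∧ (p : B) * l.get i ∈ Algebra.adjoin A {b : B | ∃ j : Fin l.length, j < i ∧ b = l.get j} ∧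
          l.get i ^ p ∈ Algebra.adjoin A {b : B | ∃ j : Fin l.length, j < i ∧ b = l.get j} := by
  constructor
  · intro hU E
    obtain ⟨l, hl, hg⟩ := Groth.Agent.MorLib.RUH.exists_good_of_exists_step
      (Groth.Agent.MorLib.RUH.StepP (A := A) (B := B)) Groth.Agent.MorLib.RUH.stepP_mono
      Groth.Agent.MorLib.RUH.stepP_fin (fun T hT => by
        obtain ⟨b, hb, hs⟩ := Groth.Agent.MorLib.RUH.exists_step_subalgebra hU Nat.Prime
          (fun _ h => h.two_le) (fun q b => Groth.Agent.MorLib.RUH.exists_pow_of_radicial _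
            ((Groth.Agent.MorLib.RUH.isUnivHomeo_SpecMap_iff _).mp hU).2.1 q b) T hT
        exact ⟨b, hb, hs⟩) E
    exact ⟨l, hl, hg⟩
  · exact fun h => Groth.Agent.MorLib.RUH.isUnivHomeo_of_good hinj h

end Groth.Agent.S7401
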