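import Groth.Statements.S7404
import Groth.Agent.MorLib.RingUnivHomeoTower

set_option autoImplicit false
universe u
open CategoryTheory AlgebraicGeometry
open Mor

namespace Groth.Agent.S7404

open AlgebraicGeometry CategoryTheory Groth.Agent.MorLib.RUH in
theorem aux {A B : Type u} [CommRing A] [CommRing B] [Algebra A B] (B' : Subalgebra A B)
    (hi : (algebraMap A B).IsIntegral) :
    (algebraMap A B').IsIntegral ∧ Function.Surjective (PrimeSpectrum.comap B'.val.toRingHom) ∧
      Spec.map (CommRingCat.ofHom B'.val.toRingHom) ≫ Spec.map (CommRingCat.ofHom (algebraMap A B')) =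
        Spec.map (CommRingCat.ofHom (algebraMap A B)) := by
  refine ⟨fun x => ?_, ?_, ?_⟩
  · exact (isIntegral_algHom_iff B'.val Subtype.val_injective).mp (hi (x : B))
  · exact RingHom.IsIntegral.comap_surjective
      (RingHom.IsIntegral.tower_top (algebraMap A B') B'.val.toRingHom (by exact hi))
      Subtype.val_injective
  · rw [← Spec.map_comp, ← CommRingCat.ofHom_comp]
    rfl


/-- Let `A → B` be a ring map and `B' ⊆ B` an `A`-subalgebra, with `f : Spec B → Spec A` and `f' : Spec
B' → Spec A` the induced morphisms. Each of the following properties passes from `f` to `f'`: being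
a universal homeomorphism; being a universal homeomorphism with trivial residue field extensions;
being universally closed; being both universally closed and universally injective. -/
theorem result {A B : Type u} [CommRing A] [CommRing B] [Algebra A B]
    (B' : Subalgebra A B) :
    (FlatMor.IsUnivHomeo (Spec.map (CommRingCat.ofHom (algebraMap A B))) →
      FlatMor.IsUnivHomeo (Spec.map (CommRingCat.ofHom (algebraMap A B')))) ∧
    ((FlatMor.IsUnivHomeo (Spec.map (CommRingCat.ofHom (algebraMap A B))) ∧
      ∀ x : Spec (CommRingCat.of B),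
        Function.Surjective ((Spec.map (CommRingCat.ofHom (algebraMap A B))).residueFieldMap x)) →
      FlatMor.IsUnivHomeo (Spec.map (CommRingCat.ofHom (algebraMap A B'))) ∧
      ∀ x : Spec (CommRingCat.of B'),
        Function.Surjective ((Spec.map (CommRingCat.ofHom (algebraMap A B'))).residueFieldMap x)) ∧
    (UniversallyClosed (Spec.map (CommRingCat.ofHom (algebraMap A B))) →
      UniversallyClosed (Spec.map (CommRingCat.ofHom (algebraMap A B')))) ∧
    (UniversallyClosed (Spec.map (CommRingCat.ofHom (algebraMap A B))) →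
      UniversallyInjective (Spec.map (CommRingCat.ofHom (algebraMap A B))) →
      UniversallyClosed (Spec.map (CommRingCat.ofHom (algebraMap A B'))) ∧
      UniversallyInjective (Spec.map (CommRingCat.ofHom (algebraMap A B')))) := by
  have key : (UniversallyClosed (Spec.map (CommRingCat.ofHom (algebraMap A B))) →
      UniversallyClosed (Spec.map (CommRingCat.ofHom (algebraMap A B')))) := fun h => by
    have hI : IsIntegralHom (Spec.map (CommRingCat.ofHom (algebraMap A B))) :=
      IsIntegralHom.iff_universallyClosed_and_isAffineHom.mpr ⟨h, inferInstance⟩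
    haveI : IsIntegralHom (Spec.map (CommRingCat.ofHom (algebraMap A B'))) :=
      IsIntegralHom.SpecMap_iff.mpr (aux B' (IsIntegralHom.SpecMap_iff.mp hI)).1
    infer_instance
  have keyI : UniversallyClosed (Spec.map (CommRingCat.ofHom (algebraMap A B))) →
      UniversallyInjective (Spec.map (CommRingCat.ofHom (algebraMap A B))) →
      UniversallyInjective (Spec.map (CommRingCat.ofHom (algebraMap A B'))) := fun h hu => by
    have hI : IsIntegralHom (Spec.map (CommRingCat.ofHom (algebraMap A B))) :=
      IsIntegralHom.iff_universallyClosed_and_isAffineHom.mpr ⟨h, inferInstance⟩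
    obtain ⟨-, hs, he⟩ := aux B' (IsIntegralHom.SpecMap_iff.mp hI)
    haveI := (Groth.Agent.MorLib.RUH.surjective_SpecMap_iff _).mpr hs
    exact Groth.Agent.MorLib.universallyInjective_of_comp_surjective _ _ (he ▸ hu)
  have keyU : FlatMor.IsUnivHomeo (Spec.map (CommRingCat.ofHom (algebraMap A B))) →
      FlatMor.IsUnivHomeo (Spec.map (CommRingCat.ofHom (algebraMap A B'))) := fun h => by
    obtain ⟨hc, hi, hs⟩ := Groth.Agent.MorLib.isUnivHomeo_iff.mp h
    have hI : IsIntegralHom (Spec.map (CommRingCat.ofHom (algebraMap A B))) :=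
      Groth.Agent.MorLib.isIntegralHom_of_isUnivHomeo h
    obtain ⟨-, -, he⟩ := aux B' (IsIntegralHom.SpecMap_iff.mp hI)
    refine Groth.Agent.MorLib.isUnivHomeo_iff.mpr ⟨key hc, keyI hc hi, ?_⟩
    rw [← he] at hs
    exact Surjective.of_comp (Spec.map (CommRingCat.ofHom B'.val.toRingHom)) _
  refine ⟨keyU, fun h => ⟨keyU h.1, fun x => ?_⟩, key, fun h1 h2 => ⟨key h1, keyI h1 h2⟩⟩
  obtain ⟨-, hs, -⟩ := aux B' ((Groth.Agent.MorLib.RUH.isUnivHomeo_SpecMap_iff _).mp h.1).1
  obtain ⟨q, rfl⟩ := hs x
  refine (Groth.Agent.MorLib.RUH.residueFieldMap_surjective_iff _ _).mpr fun b => ?_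
  exact (Groth.Agent.MorLib.RUH.residueFieldMap_surjective_iff _ q).mp (h.2 q) (b : B)

end Groth.Agent.S7404
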