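import Groth.Statements.S7405
import Groth.Agent.MorLib.UnivHomeo
import Mathlib.CategoryTheory.Limits.Preserves.Over
import Mathlib.Algebra.Category.Ring.FilteredColimits
import Mathlib.RingTheory.Spectrum.Prime.Topology
import Mathlib.RingTheory.IntegralClosure.IsIntegral.Basic

set_option autoImplicit false
universe u
open CategoryTheory AlgebraicGeometry
open Mor

namespace Groth.Agent.S7405

variable {A : CommRingCat.{u}} {J : Type u} [SmallCategory J] [IsFiltered J] {F : J ⥤ Under A}
  {c : Limits.Cocone F}

theorem exists_rep (hc : Limits.IsColimit c) (b : c.pt.right) :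
    ∃ (j : J) (y : (F.obj j).right), (c.ι.app j).right y = b := by
  obtain ⟨j, y, hy⟩ := Limits.Types.jointly_surjective_of_isColimit
    (Limits.isColimitOfPreserves (Under.forget A ⋙ forget CommRingCat.{u}) hc) b
  exact ⟨j, y, hy⟩

theorem app_comp (j : J) (a : A) : (c.ι.app j).right ((F.obj j).hom a) = c.pt.hom a :=
  congr($(Under.w (c.ι.app j)) a)

theorem isIntegral_hom (hc : Limits.IsColimit c) (h : ∀ j, (F.obj j).hom.hom.IsIntegral) :
    c.pt.hom.hom.IsIntegral := by
  intro b
  obtain ⟨j, y, rfl⟩ := exists_rep hc b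
  have hy := (h j y).map (c.ι.app j).right.hom
  rwa [show (c.ι.app j).right.hom.comp (F.obj j).hom.hom = c.pt.hom.hom from
    RingHom.ext (app_comp j)] at hy

theorem ker_le (hc : Limits.IsColimit c) (h : ∀ j, RingHom.ker (F.obj j).hom.hom ≤ nilradical A) :
    RingHom.ker c.pt.hom.hom ≤ nilradical A := by
  intro a ha
  obtain ⟨j₀⟩ := IsFiltered.nonempty (C := J)
  have hc' := Limits.isColimitOfPreserves (Under.forget A ⋙ forget CommRingCat.{u}) hc
  have h0 : (c.ι.app j₀).right ((F.obj j₀).hom a) = (c.ι.app j₀).right 0 := by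
    rw [app_comp, map_zero]; exact ha
  obtain ⟨k, u, v, huv⟩ := (Limits.Types.FilteredColimit.isColimit_eq_iff _ hc').mp h0
  refine h k ?_
  show (F.obj k).hom a = 0
  rw [← Under.w (F.map u)]
  show (F.map u).right ((F.obj j₀).hom a) = 0
  exact huv.trans (map_zero (F.map v).right.hom)

theorem univClosed_iff {B : CommRingCat.{u}} (φ : A ⟶ B) :
    UniversallyClosed (Spec.map φ) ↔ φ.hom.IsIntegral := by
  rw [← IsIntegralHom.SpecMap_iff, IsIntegralHom.iff_universallyClosed_and_isAffineHom]
  exact ⟨fun h => ⟨h, inferInstance⟩, fun h => h.1⟩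

theorem surj_ker {B : CommRingCat.{u}} (φ : A ⟶ B) [Surjective (Spec.map φ)] :
    RingHom.ker φ.hom ≤ nilradical A :=
  (PrimeSpectrum.denseRange_comap_iff_ker_le_nilRadical _).mp (Spec.map φ).surjective.denseRange

theorem surjective_hom (hc : Limits.IsColimit c) (hi : ∀ j, (F.obj j).hom.hom.IsIntegral)
    (h : ∀ j, Surjective (Spec.map (F.obj j).hom)) : Surjective (Spec.map c.pt.hom) := by
  have hk := (PrimeSpectrum.denseRange_comap_iff_ker_le_nilRadical _).mpr
    (ker_le hc fun j => haveI := h j; surj_ker (F.obj j).hom)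
  refine ⟨fun x => ?_⟩
  have hcl := PrimeSpectrum.isClosedMap_comap_of_isIntegral c.pt.hom.hom (isIntegral_hom hc hi)
  exact (hk.closure_eq ▸ hcl.isClosed_range.closure_eq).symm.ge (Set.mem_univ x)

theorem univInj_hom (hc : Limits.IsColimit c)
    (h : ∀ j, UniversallyInjective (Spec.map (F.obj j).hom)) :
    UniversallyInjective (Spec.map c.pt.hom) := by
  refine ((tfae_universallyInjective _).out 0 1 rfl rfl).mpr fun K _ a b hab => ?_
  rw [← Spec.map_preimage a, ← Spec.map_preimage b] at hab ⊢
  refine congrArg Spec.map (CommRingCat.hom_ext (RingHom.ext fun x => ?_))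
  obtain ⟨j, y, rfl⟩ := exists_rep hc x
  have hj := ((tfae_universallyInjective _).out 0 1 rfl rfl).mp (h j) K
    (a₁ := Spec.map ((c.ι.app j).right ≫ Spec.preimage a))
    (a₂ := Spec.map ((c.ι.app j).right ≫ Spec.preimage b)) (by
      show Spec.map ((c.ι.app j).right ≫ Spec.preimage a) ≫ Spec.map (F.obj j).hom =
        Spec.map ((c.ι.app j).right ≫ Spec.preimage b) ≫ Spec.map (F.obj j).hom
      rw [← Spec.map_comp, ← Spec.map_comp, ← Category.assoc, ← Category.assoc, Under.w,
        Spec.map_comp, Spec.map_comp]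
      exact hab)
  exact congr($(Spec.map_injective hj) y)

/-- Evaluation at a point. -/
noncomputable def ev {B : CommRingCat.{u}} (x : Spec B) : B ⟶ (Spec B).residueField x :=
  Spec.preimage ((Spec B).fromSpecResidueField x)

theorem res_ev {B C : CommRingCat.{u}} (φ : B ⟶ C) (x : Spec C) (b : B) :
    (Spec.map φ).residueFieldMap x (ev (Spec.map φ x) b) = ev x (φ b) := by
  have : ev (Spec.map φ x) ≫ (Spec.map φ).residueFieldMap x = φ ≫ ev x := Spec.map_injective (by
    rw [Spec.map_comp, Spec.map_comp, ev, ev, Spec.map_preimage, Spec.map_preimage,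
      Scheme.Hom.SpecMap_residueFieldMap_fromSpecResidueField])
  exact congr($this b)

theorem exists_frac {B : CommRingCat.{u}} (x : Spec B) (z : (Spec B).residueField x) :
    ∃ b s : B, z = ev x b / ev x s := by
  obtain ⟨z, rfl⟩ := (Spec B).residue_surjective x z
  obtain ⟨⟨b, s, hs⟩, hbs⟩ := IsLocalization.surj x.asIdeal.primeCompl
    (S := (Spec.structureSheaf B).presheaf.stalk x) z
  have key : ∀ r : B, ev x r =
      (Spec B).residue x (StructureSheaf.toStalk B x r) := by
    intro r
    have : ev x = StructureSheaf.toStalk B x ≫ (Spec B).residue x := Spec.map_injective (by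
      rw [ev, Spec.map_preimage, Spec.map_comp, Scheme.fromSpecResidueField,
        ← Spec.fromSpecStalk_eq']
      try rfl)
    exact congr($this r)
  refine ⟨b, s, (eq_div_iff ?_).mpr ?_⟩
  · rw [key]
    exact ((IsLocalization.map_units (M := x.asIdeal.primeCompl) ((Spec.structureSheaf B).presheaf.stalk x) ⟨s, hs⟩).map
      ((Spec B).residue x).hom).ne_zero
  · rw [key, key, ← map_mul]
    exact congrArg _ hbs

theorem residue_surjective (hc : Limits.IsColimit c)
    (h : ∀ j, ∀ x : Spec (F.obj j).right, Function.Surjective ((Spec.map (F.obj j).hom).residueFieldMap x))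
    (x : Spec c.pt.right) : Function.Surjective ((Spec.map c.pt.hom).residueFieldMap x) := by
  have key : ∀ b, ev x b ∈ ((Spec.map c.pt.hom).residueFieldMap x).hom.fieldRange := by
    intro b
    obtain ⟨j, y, rfl⟩ := exists_rep hc b
    obtain ⟨t, ht⟩ := h j (Spec.map (c.ι.app j).right x)
      (ev (Spec.map (c.ι.app j).right x) y)
    rw [← res_ev, ← ht]
    obtain ⟨a, a', rfl⟩ := exists_frac (B := A) (Spec.map (F.obj j).hom (Spec.map (c.ι.app j).right x)) t
    rw [map_div₀, map_div₀, res_ev, res_ev, res_ev, res_ev, app_comp, app_comp]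
    exact div_mem ⟨_, res_ev c.pt.hom x a⟩ ⟨_, res_ev c.pt.hom x a'⟩
  intro z
  obtain ⟨b, s, rfl⟩ := exists_frac x z
  exact div_mem (key b) (key s)



/-- Let `A` be a ring and `B` the colimit of a filtered diagram `j ↦ B_j` of `A`-algebras. Each of the
following properties, when it holds for every `Spec B_j → Spec A`, holds for `Spec B → Spec A`:
being a universal homeomorphism; being a universal homeomorphism with trivial residue field
extensions; being universally closed; being both universally closed and universally injective. -/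
theorem result (A : CommRingCat.{u}) {J : Type u} [SmallCategory J]
    [IsFiltered J] (F : J ⥤ Under A) (c : Limits.Cocone F) (hc : Limits.IsColimit c) :
    ((∀ j, FlatMor.IsUnivHomeo (Spec.map (F.obj j).hom)) → FlatMor.IsUnivHomeo (Spec.map c.pt.hom)) ∧
    ((∀ j, FlatMor.IsUnivHomeo (Spec.map (F.obj j).hom) ∧
        ∀ x : Spec (F.obj j).right, Function.Surjective ((Spec.map (F.obj j).hom).residueFieldMap x)) →
      FlatMor.IsUnivHomeo (Spec.map c.pt.hom) ∧
        ∀ x : Spec c.pt.right, Function.Surjective ((Spec.map c.pt.hom).residueFieldMap x)) ∧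
    ((∀ j, UniversallyClosed (Spec.map (F.obj j).hom)) → UniversallyClosed (Spec.map c.pt.hom)) ∧
    ((∀ j, UniversallyClosed (Spec.map (F.obj j).hom) ∧ UniversallyInjective (Spec.map (F.obj j).hom)) →
      UniversallyClosed (Spec.map c.pt.hom) ∧ UniversallyInjective (Spec.map c.pt.hom)) := by
  have hint : (∀ j, UniversallyClosed (Spec.map (F.obj j).hom)) →
      ∀ j, (F.obj j).hom.hom.IsIntegral := fun h j => (univClosed_iff _).mp (h j)
  have huc : (∀ j, UniversallyClosed (Spec.map (F.obj j).hom)) →
      UniversallyClosed (Spec.map c.pt.hom) :=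
    fun h => (univClosed_iff _).mpr (isIntegral_hom hc (hint h))
  have hho : (∀ j, FlatMor.IsUnivHomeo (Spec.map (F.obj j).hom)) →
      FlatMor.IsUnivHomeo (Spec.map c.pt.hom) := by
    intro h
    have h1 := fun j => Groth.Agent.MorLib.universallyClosed_of_isUnivHomeo (h j)
    haveI := huc h1
    haveI := univInj_hom hc fun j => Groth.Agent.MorLib.universallyInjective_of_isUnivHomeo (h j)
    haveI := surjective_hom hc (hint h1) fun j => Groth.Agent.MorLib.surjective_of_isUnivHomeo (h j)
    exact Groth.Agent.MorLib.isUnivHomeo_of_universallyClosed _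
  exact ⟨hho, fun h => ⟨hho fun j => (h j).1, residue_surjective hc fun j => (h j).2⟩, huc,
    fun h => ⟨huc fun j => (h j).1, univInj_hom hc fun j => (h j).2⟩⟩

end Groth.Agent.S7405
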