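import Groth.Statements.S7407
import Groth.Agent.DescLib.EtaleFibre
import Mathlib.RingTheory.AlgebraicIndependent.TranscendenceBasis
import Mathlib.RingTheory.AlgebraicIndependent.Transcendental

set_option autoImplicit false
set_option backward.isDefEq.respectTransparency false
set_option backward.isDefEq.respectTransparency.types false
universe u
open CategoryTheory AlgebraicGeometry
open Desc

namespace Groth.Agent.S7407

/-- The transcendence degree of the residue field extension `κ(x)/κ(s)` of a morphism of germs `(X, x) →
(S, s)` is étale local on the source-and-target: for a commutative square with horizontal maps `h' :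
U' → V'`, `h : U → V`, étale vertical maps `a : U' → U`, `b : V' → V` and `u' ∈ U'` with `u =
a(u')`, the transcendence degree of `κ(u)` over `κ(h(u))` equals that of `κ(u')` over `κ(h'(u'))`. -/
theorem result {U U' V V' : Scheme.{u}} (h : U ⟶ V) (h' : U' ⟶ V') (a : U' ⟶ U)
    (b : V' ⟶ V) [Etale a] [Etale b] (comm : h' ≫ b = a ≫ h) (u' : U') :
    @Algebra.trdeg (V.residueField (h (a u'))) (U.residueField (a u')) _ _ (h.residueFieldMap (a u')).hom.toAlgebra =
      @Algebra.trdeg (V'.residueField (h' u')) (U'.residueField u') _ _ (h'.residueFieldMap u').hom.toAlgebra := by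
  have hadd : ∀ {K L M : CommRingCat.{u}} (p : K ⟶ L) (q : L ⟶ M), IsField K → IsField L → IsField M →
      @Algebra.trdeg K M _ _ (p ≫ q).hom.toAlgebra =
        @Algebra.trdeg K L _ _ p.hom.toAlgebra + @Algebra.trdeg L M _ _ q.hom.toAlgebra := by
    intro K L M p q hK hL hM
    letI := hK.toField
    letI := hL.toField
    letI := hM.toField
    letI := p.hom.toAlgebra
    letI := q.hom.toAlgebra
    letI : Algebra K M := (p ≫ q).hom.toAlgebra
    haveI : IsScalarTower K L M := IsScalarTower.of_algebraMap_eq' rfl
    exact (trdeg_add_eq K L (A := M)).symm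
  have hzero : ∀ {A B : Scheme.{u}} (c : A ⟶ B) [Etale c] (x : A),
      @Algebra.trdeg (B.residueField (c x)) (A.residueField x) _ _ (c.residueFieldMap x).hom.toAlgebra = 0 := by
    intro A B c _ x
    letI := (c.residueFieldMap x).hom.toAlgebra
    haveI : Algebra.IsSeparable (B.residueField (c x)) (A.residueField x) :=
      inferInstanceAs (letI : Algebra (B.residueField (c.base x)) (A.residueField x) :=
        (c.residueFieldMap x).hom.toAlgebra; Algebra.IsSeparable (B.residueField (c.base x)) (A.residueField x))
    exact trdeg_eq_zero
  have key : ∀ (g₁ g₂ : U' ⟶ V), g₁ = g₂ →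
      @Algebra.trdeg (V.residueField (g₁ u')) (U'.residueField u') _ _ (g₁.residueFieldMap u').hom.toAlgebra =
        @Algebra.trdeg (V.residueField (g₂ u')) (U'.residueField u') _ _ (g₂.residueFieldMap u').hom.toAlgebra := by
    rintro g₁ _ rfl; rfl
  have h1 := key _ _ comm
  rw [Scheme.residueFieldMap_comp, Scheme.residueFieldMap_comp] at h1
  have e1 := hadd (b.residueFieldMap (h' u')) (h'.residueFieldMap u') (Field.toIsField _) (Field.toIsField _) (Field.toIsField _)
  have e2 := hadd (h.residueFieldMap (a u')) (a.residueFieldMap u') (Field.toIsField _) (Field.toIsField _) (Field.toIsField _)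
  rw [hzero b, zero_add] at e1
  rw [hzero a, add_zero] at e2
  exact e2.symm.trans (h1.symm.trans e1)

end Groth.Agent.S7407
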