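import Groth.Statements.S7412


set_option autoImplicit false
set_option backward.isDefEq.respectTransparency false
set_option backward.isDefEq.respectTransparency.types false
universe u
open Desc

namespace Groth.Agent.S7412

/-- Let `R` be a ring and `f : M → N` a map of `R`-modules. Then `f` is universally injective (`f ⊗ 1_P`
is injective for every `R`-module `P`; here `P` ranges over modules in the same universe, which
suffices) if and only if the map of character modules `C(N) → C(M)`, `C(-) = Hom_ℤ(-, ℚ/ℤ)`, is a
split surjection of `R`-modules. -/
theorem result {R : Type u} [CommRing R] {M N : Type u}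
    [AddCommGroup M] [Module R M] [AddCommGroup N] [Module R N] (f : M →ₗ[R] N) :
    (∀ (P : Type u) [AddCommGroup P] [Module R P], Function.Injective (f.lTensor P)) ↔
      ∃ g : CharacterModule M →ₗ[R] CharacterModule N, (CharacterModule.dual f).comp g = LinearMap.id := by
  constructor
  · intro h
    obtain ⟨d, hd⟩ := CharacterModule.dual_surjective_iff_injective.2 (h (CharacterModule M))
      (CharacterModule.uncurry LinearMap.id)
    refine ⟨CharacterModule.curry d, LinearMap.ext fun p => DFunLike.ext _ _ fun m => ?_⟩
    exact congr($hd (p ⊗ₜ[R] m))
  · rintro ⟨g, hg⟩ P _ _
    refine CharacterModule.dual_surjective_iff_injective.1 fun c => ?_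
    refine ⟨CharacterModule.uncurry (g ∘ₗ CharacterModule.curry c), DFunLike.ext _ _ fun z => ?_⟩
    induction z using TensorProduct.induction_on with
    | zero => simp
    | tmul p m => exact congr($hg (CharacterModule.curry c p) m)
    | add x y hx hy => rw [map_add, map_add, hx, hy]

end Groth.Agent.S7412
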