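import Groth.Statements.S7413
import Groth.Agent.MorLib.ProjSections
import Groth.Agent.QCoh.PullbackBC

set_option autoImplicit false
set_option backward.isDefEq.respectTransparency false
set_option backward.isDefEq.respectTransparency.types false
universe u
open CategoryTheory AlgebraicGeometry
open Opposite
open Mor

namespace Groth.Agent.S7413

/-- Let `f : X → Y` be a morphism of schemes and `G` a quasi-coherent, locally projective `O_Y`-module
(projective sections over every affine open). Then `f^* G` is locally projective on `X`. -/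
theorem result {X Y : Scheme.{u}} (f : X ⟶ Y) (G : Y.Modules) [Coh.IsQCoh G]
    (hG : ∀ V : Y.Opens, IsAffineOpen V → Module.Projective (Y.ringCatSheaf.obj.obj (op V)) (G.val.obj (op V)))
    (U : X.Opens) (hU : IsAffineOpen U) :
    Module.Projective (X.ringCatSheaf.obj.obj (op U)) (((Scheme.Modules.pullback f).obj G).val.obj (op U)) := by
  have hG' : Coh.IsQCoh G := inferInstance
  let N := (Scheme.Modules.pullback f).obj G
  have hN : Coh.IsQCoh N := Groth.Agent.QCoh.isQCoh_pullback f hG'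
  let I := {p : X.affineOpens × Y.affineOpens // (p.1 : X.Opens) ≤ f ⁻¹ᵁ (p.2 : Y.Opens)}
  have hcov : (⨆ i : I, (i.1.1 : X.Opens)) = ⊤ := by
    refine top_le_iff.1 fun x _ => TopologicalSpace.Opens.mem_iSup.2 ?_
    obtain ⟨V, hV, hxV, -⟩ := exists_isAffineOpen_mem_and_subset (x := f x) (U := ⊤) trivial
    obtain ⟨W, hW, hxW, hWV⟩ := exists_isAffineOpen_mem_and_subset (x := x) (U := f ⁻¹ᵁ V) hxV
    exact ⟨⟨(⟨W, hW⟩, ⟨V, hV⟩), hWV⟩, hxW⟩
  refine Groth.Agent.MorLib.projective_sections_of_cover hN (fun i : I => (i.1.1 : X.Opens)) hcov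
    (fun i => i.1.1.2) (fun i => ?_) hU
  obtain ⟨⟨⟨W, hW⟩, ⟨V, hV⟩⟩, hle⟩ := i
  letI : Algebra Γ(Y, V) Γ(X, W) := (f.appLE V W hle).hom.toAlgebra
  letI : Module Γ(Y, V) Γ(N, W) := Module.compHom _ (f.appLE V W hle).hom
  haveI : IsScalarTower Γ(Y, V) Γ(X, W) Γ(N, W) := IsScalarTower.of_algebraMap_smul fun _ _ => rfl
  let l : Γ(G, V) →ₗ[Γ(Y, V)] Γ(N, W) :=
    { toFun := Groth.Agent.QCoh.pullSec f G hle
      map_add' := Groth.Agent.QCoh.pullSec_add f G hle
      map_smul' := Groth.Agent.QCoh.pullSec_smul f G hle }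
  have hb := Groth.Agent.QCoh.isBaseChange_pullback hV f hW hG' hle (fun _ => rfl) l (fun _ => rfl)
  haveI : Module.Projective Γ(Y, V) Γ(G, V) := hG V hV
  exact Module.Projective.of_equiv hb.equiv

end Groth.Agent.S7413
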