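import Groth.Statements.S7414
import Groth.Agent.MorLib.GRingLocal

set_option autoImplicit false
universe u
open CategoryTheory AlgebraicGeometry
open Mor

namespace Groth.Agent.S7414

/-- A scheme `X` is a G-scheme (every point has an affine open neighbourhood with G-ring coordinate
ring) if and only if `O_X(U)` is a G-ring for every affine open `U ⊆ X`. -/
theorem result (X : Scheme.{u}) :
    (∀ x : X, ∃ U : X.Opens, x ∈ U ∧ IsAffineOpen U ∧ CAlg.IsGRing Γ(X, U)) ↔
      ∀ U : X.Opens, IsAffineOpen U → CAlg.IsGRing Γ(X, U) := by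
  constructor
  · intro h U hU
    choose V hxV hV hG using h
    haveI : IsLocallyNoetherian X := isLocallyNoetherian_of_affine_cover
      (S := fun x => (⟨V x, hV x⟩ : X.affineOpens))
      (top_le_iff.mp fun x _ => TopologicalSpace.Opens.mem_iSup.mpr ⟨x, hxV x⟩) (fun x => (hG x).1)
    refine ⟨IsLocallyNoetherian.component_noetherian ⟨U, hU⟩, fun p hp => ?_⟩
    let y : PrimeSpectrum Γ(X, U) := ⟨p, hp⟩
    have hy : hU.fromSpec y ∈ U := hU.range_fromSpec.subset (Set.mem_range_self y)
    let x : X := hU.fromSpec y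
    let z : V x := ⟨x, hxV x⟩
    letI aU : Algebra Γ(X, U) (X.presheaf.stalk x) := TopCat.Presheaf.algebra_section_stalk X.presheaf (⟨x, hy⟩ : U)
    letI aV : Algebra Γ(X, V x) (X.presheaf.stalk x) := TopCat.Presheaf.algebra_section_stalk X.presheaf z
    haveI : IsLocalization.AtPrime (X.presheaf.stalk x) p := hU.isLocalization_stalk' y hy
    haveI : IsLocalization.AtPrime (X.presheaf.stalk x) ((hV x).primeIdealOf z).asIdeal :=
      (hV x).isLocalization_stalk z
    let e : Localization.AtPrime ((hV x).primeIdealOf z).asIdeal ≃+* Localization.AtPrime p :=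
      (IsLocalization.algEquiv ((hV x).primeIdealOf z).asIdeal.primeCompl _ (X.presheaf.stalk x)).toRingEquiv.trans
        (IsLocalization.algEquiv p.primeCompl (X.presheaf.stalk x) (Localization.AtPrime p)).toRingEquiv
    exact MorLib.GRing.localCond_of_equiv e ((hG x).2 _)
  · intro h x
    obtain ⟨U, hU, hxU, -⟩ := exists_isAffineOpen_mem_and_subset (x := x) (U := ⊤) trivial
    exact ⟨U, hxU, hU, h U hU⟩

end Groth.Agent.S7414
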