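import Groth.Statements.S7415


set_option autoImplicit false
universe u
open CategoryTheory AlgebraicGeometry
open Mor

namespace Groth.Agent.S7415

/-- Let `X` be a reduced scheme with finitely many irreducible components and `x ∈ X`. Then `x` has an
affine open neighbourhood `U` such that `O_X(U) → O_{X,x}` is injective. -/
theorem result (X : Scheme.{u}) [AlgebraicGeometry.IsReduced X]
    (hirr : (irreducibleComponents (X : Type u)).Finite) (x : X) : X.IsGermInjectiveAt x := by
  let Zs := {Z ∈ irreducibleComponents (X : Type u) | x ∉ Z}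
  have hfin : Zs.Finite := hirr.subset fun Z hZ => hZ.1
  have hC : IsClosed (⋃₀ Zs) := by
    rw [Set.sUnion_eq_biUnion]
    exact hfin.isClosed_biUnion fun Z hZ => isClosed_of_mem_irreducibleComponents Z hZ.1
  obtain ⟨_, ⟨U, hU, rfl⟩, hxU, hUC⟩ := X.isBasis_affineOpens.exists_subset_of_mem_open
    (show x ∈ (⋃₀ Zs)ᶜ by rintro ⟨Z, hZ, hx⟩; exact hZ.2 hx) hC.isOpen_compl
  refine ⟨U, hxU, hU, ?_⟩
  rw [injective_iff_map_eq_zero]
  intro a ha
  obtain ⟨W, hxW, i₁, i₂, e⟩ := X.presheaf.germ_eq x hxU hxU a 0 (by rw [ha, map_zero])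
  apply (basicOpen_eq_bot_iff a).mp
  refine eq_bot_iff.mpr fun z hz => ?_
  exfalso
  have hzU : z ∈ U := X.basicOpen_le a hz
  let Z := irreducibleComponent z
  have hxZ : x ∈ Z := by
    by_contra h
    exact hUC hzU ⟨Z, ⟨irreducibleComponent_mem_irreducibleComponents z, h⟩, mem_irreducibleComponent⟩
  obtain ⟨v, -, hv1, hv2⟩ := isIrreducible_irreducibleComponent.2 (X.basicOpen a) W
    (X.basicOpen a).2 W.2 ⟨z, mem_irreducibleComponent, hz⟩ ⟨x, hxZ, hxW⟩
  have : v ∈ X.basicOpen (X.presheaf.map i₁.op a) := by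
    rw [Scheme.basicOpen_res]
    exact ⟨hv2, hv1⟩
  rw [e, map_zero, Scheme.basicOpen_zero] at this
  exact this

end Groth.Agent.S7415
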