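import Groth.Statements.S7416
import Mathlib

set_option autoImplicit false
universe u
open CategoryTheory AlgebraicGeometry
open Mor

namespace Groth.Agent.S7416

/-- Let `U`, `V` be affine schemes and `W → U`, `W → V` open immersions. Then every `w ∈ W` has an open
neighbourhood `W' ⊆ W` whose images in `U` and in `V` are standard opens `D(f) ⊆ U`, `D(g) ⊆ V` (in
particular `W'` is affine). -/
theorem result {U V W : Scheme.{u}} [IsAffine U]
    [IsAffine V] (i : W ⟶ U) (j : W ⟶ V) [IsOpenImmersion i] [IsOpenImmersion j] (w : W) :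
    ∃ (W' : W.Opens) (f : Γ(U, ⊤)) (g : Γ(V, ⊤)), w ∈ W' ∧ i ''ᵁ W' = U.basicOpen f ∧ j ''ᵁ W' = V.basicOpen g := by
  obtain ⟨g, hg, hwg⟩ := (isAffineOpen_top V).exists_basicOpen_le (V := j.opensRange) ⟨j w, ⟨w, rfl⟩⟩ trivial
  let W₁ : W.Opens := j ⁻¹ᵁ V.basicOpen g
  obtain ⟨f, hf, hwf⟩ := (isAffineOpen_top U).exists_basicOpen_le (V := i ''ᵁ W₁)
    ⟨i w, ⟨w, hwg, rfl⟩⟩ trivial
  let W' : W.Opens := i ⁻¹ᵁ U.basicOpen f
  have hi : i ''ᵁ W' = U.basicOpen f := by
    rw [Scheme.Hom.image_preimage_eq_opensRange_inf, inf_eq_right.2 (hf.trans (i.image_le_opensRange _))]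
  have hW' : W' ≤ W₁ := by
    rintro x hx
    obtain ⟨y, hy, e⟩ := hf hx
    rwa [← i.isOpenEmbedding.injective e]
  have hbo : W' = W.basicOpen (i.appTop f) := Scheme.preimage_basicOpen i f
  have hWaff : IsAffineOpen (V.basicOpen g) := (isAffineOpen_top V).basicOpen g
  have hjW₁ : j ''ᵁ W₁ = V.basicOpen g := by
    rw [Scheme.Hom.image_preimage_eq_opensRange_inf, inf_eq_right.2 hg]
  let a : Γ(V, V.basicOpen g) :=
    V.presheaf.map (eqToHom hjW₁.symm).op
      ((j.appIso W₁).inv (W.presheaf.map (homOfLE le_top).op (i.appTop f)))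
  have hja : j ''ᵁ W' = V.basicOpen a := by
    rw [Scheme.basicOpen_res_eq, ← Scheme.image_basicOpen, Scheme.basicOpen_res,
      ← hbo, inf_eq_right.2 hW']
  obtain ⟨g', hg'⟩ := (isAffineOpen_top V).basicOpen_basicOpen_is_basicOpen g a
  exact ⟨W', f, g', hwf, hi, hja.trans hg'.symm⟩

end Groth.Agent.S7416
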