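import Groth.Statements.S7417
import Groth.Agent.QCohAb.Gen

set_option autoImplicit false
universe u
open CategoryTheory AlgebraicGeometry
open QCohCat

namespace Groth.Agent.S7417

/-- For a scheme `X`, the inclusion functor `QCoh(O_X) → Mod(O_X)` has a right adjoint `Q` (the
coherator). (The published statement adds that the counit `Q(F) → F` is an isomorphism for
quasi-coherent `F`; this row states only the existence of the right adjoint, the counit clause being
formal for a fully faithful inclusion.) -/
theorem result (X : Scheme.{u}) : ((QCohCat.isQCoh X).ι).IsLeftAdjoint := by
  exact isLeftAdjoint_of_preservesColimits_of_isSeparating (P := ObjectProperty.singleton (separator (QCohCat.QCoh X)))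
    (isSeparator_separator _) _

end Groth.Agent.S7417
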