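import Groth.Statements.S7420
import Groth.Agent.HTopAwn.SchemeProps


set_option autoImplicit false
universe u
open CategoryTheory AlgebraicGeometry
open HTop

namespace Groth.Agent.S7420

open Groth.Agent.HTopAwn Groth.Agent.MorLib Groth.Agent.MorLib.RUH

/-- A scheme `X` is seminormal if and only if `O_X(U)` is seminormal for every affine open `U ⊆ X`; the
same holds with 'seminormal' replaced by 'absolutely weakly normal'. -/
theorem result (X : Scheme.{u}) :
    (HTop.IsSeminormal X ↔ ∀ U : X.affineOpens, HTop.IsSeminormalRing Γ(X, U)) ∧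
    (HTop.IsAWN X ↔ ∀ U : X.affineOpens, HTop.IsAWNRing Γ(X, U)) := by
  have key : ∀ (P : ∀ (R : Type u) [CommRing R], Prop),
      (∀ (R S : Type u) [CommRing R] [CommRing S], (R ≃+* S) → P R → P S) →
      (∀ (R : Type u) [CommRing R] (f : R), P R → P (Localization.Away f)) →
      (∀ (R : Type u) [CommRing R] (s : Finset R), Ideal.span (s : Set R) = ⊤ →
        (∀ f ∈ s, P (Localization.Away f)) → P R) →
      ((∀ x : X, ∃ U : X.affineOpens, x ∈ (U : X.Opens) ∧ P Γ(X, U)) ↔ ∀ U : X.affineOpens, P Γ(X, U)) := by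
    intro P hiso hloc hglue
    refine ⟨fun h V => ?_, fun h x => ?_⟩
    · choose U hxU hU using h
      refine of_affine_open_cover (P := fun W : X.affineOpens => P Γ(X, (W : X.Opens))) U
        (top_le_iff.mp fun x _ => TopologicalSpace.Opens.mem_iSup.mpr ⟨x, hxU x⟩) V ?_ ?_ hU
      · intro W f hW
        letI : Algebra Γ(X, (W : X.Opens)) Γ(X, X.basicOpen f) := (X.presheaf.map (homOfLE (X.basicOpen_le f)).op).hom.toAlgebra
        haveI : IsLocalization.Away f Γ(X, X.basicOpen f) := W.2.isLocalization_basicOpen f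
        exact hiso (Localization.Away f) Γ(X, X.basicOpen f) (IsLocalization.algEquiv (Submonoid.powers f)
          (Localization.Away f) Γ(X, X.basicOpen f)).toRingEquiv (hloc _ f hW)
      · intro W s hs hW
        refine hglue _ s hs fun f hf => ?_
        letI : Algebra Γ(X, (W : X.Opens)) Γ(X, X.basicOpen f) := (X.presheaf.map (homOfLE (X.basicOpen_le f)).op).hom.toAlgebra
        haveI : IsLocalization.Away f Γ(X, X.basicOpen f) := W.2.isLocalization_basicOpen f
        exact hiso Γ(X, X.basicOpen f) (Localization.Away f) (IsLocalization.algEquiv (Submonoid.powers f)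
          Γ(X, X.basicOpen f) (Localization.Away f)).toRingEquiv (hW ⟨f, hf⟩)
    · obtain ⟨U, hU, hxU, -⟩ := exists_isAffineOpen_mem_and_subset (U := (⊤ : X.Opens)) (x := x) trivial
      exact ⟨⟨U, hU⟩, hxU, h ⟨U, hU⟩⟩
  exact ⟨key (fun R _ => IsSeminormalRing R) (fun _ _ _ _ e => seminormal_of_ringEquiv e) (fun _ _ f => seminormal_away f)
      (fun _ _ s hs => seminormal_of_span s hs),
    key (fun R _ => IsAWNRing R) (fun _ _ _ _ e => isAWNRing_of_ringEquiv e) (fun _ _ f => awn_away f)
      (fun _ _ s hs => awn_of_span s hs)⟩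

end Groth.Agent.S7420
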