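import Groth.Statements.S7421
import Groth.Agent.HTopAwn.Props
import Mathlib.Algebra.Field.ZMod


set_option autoImplicit false
universe u
open CategoryTheory AlgebraicGeometry
open HTop

namespace Groth.Agent.S7421

open Groth.Agent.HTopAwn Groth.Agent.MorLib.RUH

/-- A seminormal ring is reduced, and a seminormal scheme is reduced. -/
theorem result :
    (∀ (A : Type u) [CommRing A], HTop.IsSeminormalRing A → IsReduced A) ∧
    ∀ (X : Scheme.{u}), HTop.IsSeminormal X → AlgebraicGeometry.IsReduced X := by
  refine ⟨fun A _ h => isReduced_of_seminormal h, fun X hX => ?_⟩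
  haveI : ∀ x : X, _root_.IsReduced (X.presheaf.stalk x) := fun x => by
    obtain ⟨⟨U, hU⟩, hxU, h⟩ := hX x
    haveI := isReduced_of_seminormal h
    letI : Algebra Γ(X, U) (X.presheaf.stalk x) := (X.presheaf.germ U x hxU).hom.toAlgebra
    haveI := hU.isLocalization_stalk ⟨x, hxU⟩
    exact isReduced_localizationPreserves (hU.primeIdealOf ⟨x, hxU⟩).asIdeal.primeCompl _ inferInstance
  exact isReduced_of_isReduced_stalk X

end Groth.Agent.S7421
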