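import Groth.Statements.S7423
import Groth.Agent.HTopAwn.Base


set_option autoImplicit false
universe u
open CategoryTheory AlgebraicGeometry
open HTop

namespace Groth.Agent.S7423

open Groth.Agent.HTopAwn Groth.Agent.MorLib.RUH

/-- Let `φ : A → A^awn` be an absolute weak normalization and `ψ : A → B` a ring map inducing a
universal homeomorphism on spectra. Then `B` is absolutely weakly normal exactly when the induced
map `χ : B → A^awn` with `χ ∘ ψ = φ` is an isomorphism. -/
theorem result {A B W : Type u} [CommRing A] [CommRing B] [CommRing W]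
    (φ : A →+* W) (hφ : HTop.IsRingAWN φ) (ψ : A →+* B)
    (hψ : FlatMor.IsUnivHomeo (Spec.map (CommRingCat.ofHom ψ))) (χ : B →+* W) (hχ : χ.comp ψ = φ) :
    Function.Bijective χ ↔ HTop.IsAWNRing B := by
  constructor
  · intro hb
    exact isAWNRing_of_ringEquiv (RingEquiv.ofBijective χ hb).symm (isAWNRing_of_isRingAWN hφ)
  · intro hB
    obtain ⟨v, hv, -⟩ := hφ.2 B ψ hψ
    obtain ⟨χ', hχ', -⟩ := (isRingAWN_of_awn ψ hψ hB).2 W φ hφ.1
    obtain ⟨i, -, hi⟩ := hφ.2 W φ hφ.1
    obtain ⟨j, -, hj⟩ := (isRingAWN_of_awn ψ hψ hB).2 B ψ hψ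
    have h1 : χ.comp χ' = RingHom.id W :=
      (hi _ (show (χ.comp χ').comp φ = φ by rw [RingHom.comp_assoc, hχ', hχ])).trans (hi _ (RingHom.id_comp φ)).symm
    have h2 : χ'.comp χ = RingHom.id B :=
      (hj _ (show (χ'.comp χ).comp ψ = ψ by rw [RingHom.comp_assoc, hχ, hχ'])).trans (hj _ (RingHom.id_comp ψ)).symm
    exact (RingEquiv.ofRingHom χ χ' h1 h2).bijective

end Groth.Agent.S7423
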