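import Groth.Statements.S7426
import Groth.Agent.HTopAwn.SchemeProps


set_option autoImplicit false
universe u
open CategoryTheory AlgebraicGeometry
open HTop

namespace Groth.Agent.S7426

open Groth.Agent.HTopAwn Groth.Agent.MorLib Groth.Agent.MorLib.RUH

/-- For a scheme `X` the following are equivalent: `X` is absolutely weakly normal; `X^awn → X` is an
isomorphism (equivalently, the identity of `X` is an absolute weak normalization); every universal
homeomorphism `Y → X` with `Y` reduced is an isomorphism. -/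
theorem result (X : Scheme.{u}) :
    (HTop.IsAWN X ↔ HTop.IsAWNormalization (𝟙 X)) ∧
    (HTop.IsAWN X ↔ ∀ (Y : Scheme.{u}) (π : Y ⟶ X), FlatMor.IsUnivHomeo π → AlgebraicGeometry.IsReduced Y → IsIso π) := by
  have h1 : IsAWN X → ∀ (Y : Scheme.{u}) (π : Y ⟶ X), FlatMor.IsUnivHomeo π → AlgebraicGeometry.IsReduced Y → IsIso π :=
    fun hX Y π hπ _ => isIso_of_isAWN hX hπ
  have h2 : (∀ (Y : Scheme.{u}) (π : Y ⟶ X), FlatMor.IsUnivHomeo π → AlgebraicGeometry.IsReduced Y → IsIso π) →
      IsAWN X := fun h => by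
    haveI := h _ (awnTo X) (isUnivHomeo_awnTo X) (isReduced_awnScheme X)
    exact isAWN_of_isIso (awnTo X) (isAWN_awnScheme X)
  refine ⟨⟨fun hX => ?_, fun hid => isAWN_of_isAWNormalization hid⟩, h1, h2⟩
  haveI := isReduced_of_isSeminormal (isSeminormal_of_isAWN hX)
  haveI := isReduced_awnScheme X
  haveI := isIso_of_isAWN hX (isUnivHomeo_awnTo X)
  refine ⟨isUnivHomeo_iff.mpr ⟨inferInstance, inferInstance, inferInstance⟩, fun Y π hπ => ?_⟩
  obtain ⟨l, hl, -⟩ := (isAWNormalization_awnTo X).2 Y π hπ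
  refine ⟨inv (awnTo X) ≫ l, ?_, fun g hg => hom_ext_of_univHomeo hπ ?_⟩
  · change (inv (awnTo X) ≫ l) ≫ π = 𝟙 X
    rw [Category.assoc, hl, IsIso.inv_hom_id]
  · rw [hg, Category.assoc, hl, IsIso.inv_hom_id]

end Groth.Agent.S7426
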