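import Groth.Statements.S7431
import Mathlib.AlgebraicGeometry.AffineScheme
import Mathlib.AlgebraicGeometry.Morphisms.OpenImmersion
import Mathlib.Algebra.Category.Ring.Limits
import Mathlib.CategoryTheory.Limits.Shapes.Pullback.IsPullback.Basic

set_option autoImplicit false
set_option backward.isDefEq.respectTransparency false
set_option backward.isDefEq.respectTransparency.types false
universe u
open CategoryTheory AlgebraicGeometry
open Lim

namespace Groth.Agent.S7431

/-- Let `B' = B ×_R R'` be a cartesian square of rings with maps `s : B → R`, `t : R' → R`, and let `W'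
= D(f_1) ∪ … ∪ D(f_n) ⊆ Spec R'` with `t(f_i) = s(g_i)` for elements `g_i ∈ B` such that `B_{g_i} →
R_{s(g_i)}` is an isomorphism for each `i`. Then the composite `W' → Spec R' → Spec B'`, the second
map coming from `B' → R'`, is an open immersion. -/
theorem result {B B' R R' : Type u} [CommRing B] [CommRing B']
    [CommRing R] [CommRing R'] (s : B →+* R) (t : R' →+* R) (p : B' →+* B) (q : B' →+* R')
    (hsq : IsPullback (CommRingCat.ofHom p) (CommRingCat.ofHom q) (CommRingCat.ofHom s) (CommRingCat.ofHom t))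
    {n : ℕ} (f : Fin n → R') (g : Fin n → B) (hfg : ∀ i, t (f i) = s (g i))
    (hiso : ∀ i, Function.Bijective (Localization.awayMap s (g i))) :
    IsOpenImmersion (Scheme.Opens.ι (X := Spec (CommRingCat.of R')) (⨆ i, PrimeSpectrum.basicOpen (f i)) ≫
      Spec.map (CommRingCat.ofHom q)) := by
  have hcomm : ∀ x, s (p x) = t (q x) := fun x => congrArg (fun k => k.hom x) hsq.w
  let e := Limits.IsLimit.conePointUniqueUpToIso hsq.isLimit
    (CommRingCat.pullbackConeIsLimit (CommRingCat.ofHom s) (CommRingCat.ofHom t))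
  have he1 : ∀ x, (e.hom x).1.1 = p x := fun x =>
    congrArg (fun k => k.hom x) (Limits.IsLimit.conePointUniqueUpToIso_hom_comp hsq.isLimit
      (CommRingCat.pullbackConeIsLimit (CommRingCat.ofHom s) (CommRingCat.ofHom t)) Limits.WalkingCospan.left)
  have he2 : ∀ x, (e.hom x).1.2 = q x := fun x =>
    congrArg (fun k => k.hom x) (Limits.IsLimit.conePointUniqueUpToIso_hom_comp hsq.isLimit
      (CommRingCat.pullbackConeIsLimit (CommRingCat.ofHom s) (CommRingCat.ofHom t)) Limits.WalkingCospan.right)
  have hinj : ∀ x, p x = 0 → q x = 0 → x = 0 := fun x h1 h2 => by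
    apply e.commRingCatIsoToRingEquiv.injective
    show e.hom x = e.hom 0
    rw [map_zero]
    exact Subtype.ext (Prod.ext ((he1 x).trans h1) ((he2 x).trans h2))
  have hex : ∀ b r, s b = t r → ∃ x, p x = b ∧ q x = r := fun b r h => by
    let z : (CommRingCat.pullbackCone (CommRingCat.ofHom s) (CommRingCat.ofHom t)).pt := ⟨(b, r), h⟩
    refine ⟨e.inv z, ?_, ?_⟩
    · rw [← he1]; simp [z]
    · rw [← he2]; simp [z]
  choose h hp hq using fun i => hex (g i) (f i) (hfg i).symm
  have hbij : ∀ i, Function.Bijective (Localization.awayMap q (h i)) := by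
    intro i
    have hsinj := (hiso i).1
    constructor
    · rw [injective_iff_map_eq_zero]
      intro z hz
      obtain ⟨x, ⟨_, N, rfl⟩, rfl⟩ := IsLocalization.exists_mk'_eq (Submonoid.powers (h i)) z
      rw [Localization.awayMap, IsLocalization.Away.map, IsLocalization.map_mk', IsLocalization.mk'_eq_zero_iff] at hz
      obtain ⟨⟨_, M, rfl⟩, hM⟩ := hz
      replace hM : q (h i) ^ M * q x = 0 := hM
      have h0 : Localization.awayMap s (g i) (algebraMap B _ (g i ^ M * p x)) = 0 := by
        rw [Localization.awayMap, IsLocalization.Away.map, IsLocalization.map_eq, map_mul, map_pow, ← hfg, hcomm,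
          ← hq i, ← map_pow, ← map_mul, hM, map_zero, map_zero]
      have h1 := hsinj (h0.trans (map_zero _).symm)
      obtain ⟨⟨_, K, rfl⟩, hK⟩ := (IsLocalization.map_eq_zero_iff (Submonoid.powers (g i)) _ _).1 h1
      refine (IsLocalization.mk'_eq_zero_iff _ _).2 ⟨⟨_, K + M, rfl⟩, hinj _ ?_ ?_⟩
      · show p (h i ^ (K + M) * x) = 0
        rw [map_mul, map_pow, hp, pow_add, mul_assoc]
        exact hK
      · show q (h i ^ (K + M) * x) = 0
        rw [map_mul, map_pow, pow_add, mul_assoc, hM, mul_zero]
    · intro z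
      obtain ⟨r, ⟨_, N, rfl⟩, rfl⟩ := IsLocalization.exists_mk'_eq (Submonoid.powers (q (h i))) z
      obtain ⟨w, hw⟩ := (hiso i).2 (algebraMap R (Localization.Away (s (g i))) (t r))
      obtain ⟨b, ⟨_, M, rfl⟩, rfl⟩ := IsLocalization.exists_mk'_eq (Submonoid.powers (g i)) w
      rw [Localization.awayMap, IsLocalization.Away.map, IsLocalization.map_mk', IsLocalization.mk'_eq_iff_eq_mul,
        ← map_mul, IsLocalization.eq_iff_exists (Submonoid.powers (s (g i)))] at hw
      obtain ⟨⟨_, K, rfl⟩, hK⟩ := hw
      replace hK : s (g i) ^ K * s b = s (g i) ^ K * (t r * s (g i ^ M)) := hK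
      obtain ⟨x, hpx, hqx⟩ := hex (g i ^ K * b) (f i ^ K * (r * f i ^ M)) (by
        rw [map_mul, map_pow, hK, map_mul, map_mul, map_pow, map_pow, map_pow, hfg])
      refine ⟨IsLocalization.mk' _ x (⟨h i ^ (K + M + N), K + M + N, rfl⟩ : Submonoid.powers (h i)), ?_⟩
      rw [Localization.awayMap, IsLocalization.Away.map, IsLocalization.map_mk', IsLocalization.mk'_eq_iff_eq]
      congr 1
      show q (h i) ^ N * q x = q (h i ^ (K + M + N)) * r
      rw [hqx, map_pow, hq]
      ring
  refine IsZariskiLocalAtTarget.of_range_subset_iSup (P := @IsOpenImmersion)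
    (fun i => PrimeSpectrum.basicOpen (h i)) ?_ fun i => ?_
  · rintro _ ⟨⟨y, hy⟩, rfl⟩
    obtain ⟨i, hi⟩ := TopologicalSpace.Opens.mem_iSup.1 hy
    refine TopologicalSpace.Opens.mem_iSup.2 ⟨i, ?_⟩
    show q (h i) ∉ (show PrimeSpectrum R' from y).asIdeal
    rw [hq]
    exact hi
  · rw [morphismRestrict_comp]
    haveI : IsIso (Spec.map (CommRingCat.ofHom q) ∣_ PrimeSpectrum.basicOpen (h i)) := by
      refine ((MorphismProperty.isomorphisms Scheme.{u}).arrow_mk_iso_iff
        (SpecMapRestrictBasicOpenIso (CommRingCat.ofHom q) (h i))).2 ?_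
      haveI : IsIso (CommRingCat.ofHom (Localization.awayMap (CommRingCat.ofHom q).hom (h i))) :=
        (ConcreteCategory.isIso_iff_bijective _).2 (hbij i)
      show IsIso (Spec.map (CommRingCat.ofHom (Localization.awayMap (CommRingCat.ofHom q).hom (h i))))
      infer_instance
    infer_instance

end Groth.Agent.S7431
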