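import Groth.Statements.S7433
import Groth.Agent.MorLib.BddFib

set_option autoImplicit false
universe u
open CategoryTheory AlgebraicGeometry
open BddFib

namespace Groth.Agent.S7433

/-- Let `f : X → Y` be a morphism of schemes and `n ≥ 0`. Then `n` bounds the degrees of the fibres of
`f` if and only if for every field `k` and every morphism `Spec k → Y` the base change `X_k = Spec k
×_Y X` is finite over `k` of degree at most `n`. -/
theorem result {X Y : Scheme.{u}} (f : X ⟶ Y) (n : ℕ) :
    BddFib.FibreDegLE f n ↔ ∀ (k : Type u) [Field k] (g : Spec (CommRingCat.of k) ⟶ Y),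
      BddFib.FiniteOfDegLE (CommRingCat.of k) (Limits.pullback.snd f g) n := by
  exact MorLib.BF.fibreDegLE_iff f n

end Groth.Agent.S7433
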