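import Groth.Statements.S7434
import Groth.Agent.MorLib.BddFib

set_option autoImplicit false
universe u
open CategoryTheory AlgebraicGeometry
open BddFib

namespace Groth.Agent.S7434

/-- When every fibre of `f : X → Y` has degree at most `n`, then for every field `k` and `Spec k → Y`
the scheme `X_k = Spec k ×_Y X` has at most `n` points. (The published statement also bounds the sum
of the residue degrees `[κ(x_i) : k]` by `n`; that sharper bound is a separate row, and this row
states only the count of points.) -/
theorem result {X Y : Scheme.{u}} (f : X ⟶ Y) (n : ℕ) (hf : BddFib.FibreDegLE f n)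
    (k : Type u) [Field k] (g : Spec (CommRingCat.of k) ⟶ Y) :
    Finite ↥(Limits.pullback f g) ∧ Nat.card ↥(Limits.pullback f g) ≤ n := by
  exact MorLib.BF.natCard_pullback_le hf k g

end Groth.Agent.S7434
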