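import Groth.Statements.S7440
import Groth.Agent.MorLib.BddFib
import Mathlib.AlgebraicGeometry.Morphisms.Etale
import Mathlib.AlgebraicGeometry.Artinian
import Mathlib.RingTheory.Unramified.Field
import Mathlib.FieldTheory.IsAlgClosed.AlgebraicClosure
import Mathlib.AlgebraicGeometry.ZariskisMainTheorem

set_option autoImplicit false
universe u
open CategoryTheory AlgebraicGeometry
open BddFib

namespace Groth.Agent.S7440

open Limits

theorem finiteOfDegLE_etale {K : Type u} [Field K] [IsAlgClosed K] {T : Scheme.{u}}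
    (p : T ⟶ Spec (CommRingCat.of K)) [Etale p] [Finite T] (n : ℕ) (hn : Nat.card T ≤ n) :
    BddFib.FiniteOfDegLE (CommRingCat.of K) p n := by
  haveI : IsLocallyArtinian (Spec (CommRingCat.of K)) :=
    Scheme.isLocallyArtinianScheme_Spec.mpr inferInstance
  haveI : LocallyQuasiFinite p := .of_finite_preimage_singleton p fun _ => Set.toFinite _
  haveI : IsFinite p := IsFinite.of_locallyQuasiFinite p
  haveI : IsAffine T := isAffine_of_isAffineHom p
  letI alg : Algebra K Γ(T, ⊤) := BddFib.secAlgebra (CommRingCat.of K) p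
  have h1 : ((Scheme.ΓSpecIso (CommRingCat.of K)).inv ≫ p.appTop).hom.FormallyUnramified := by
    rw [← HasRingHomProperty.Spec_iff (P := @FormallyUnramified),
      ← MorphismProperty.cancel_left_of_respectsIso @FormallyUnramified T.isoSpec.hom,
      ← Groth.Agent.MorLib.BF.eq_isoSpec_hom_comp p]
    infer_instance
  have h2 : ((Scheme.ΓSpecIso (CommRingCat.of K)).inv ≫ p.appTop).hom.FiniteType := by
    rw [← HasRingHomProperty.Spec_iff (P := @LocallyOfFiniteType),
      ← MorphismProperty.cancel_left_of_respectsIso @LocallyOfFiniteType T.isoSpec.hom,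
      ← Groth.Agent.MorLib.BF.eq_isoSpec_hom_comp p]
    infer_instance
  haveI : Algebra.FormallyUnramified K Γ(T, ⊤) := h1
  haveI : Algebra.FiniteType K Γ(T, ⊤) := h2
  haveI : Module.Finite K Γ(T, ⊤) := Algebra.FormallyUnramified.finite_of_free (R := K) (S := Γ(T, ⊤))
  haveI : IsArtinianRing Γ(T, ⊤) := IsArtinianRing.of_finite K _
  refine ⟨inferInstance, inferInstance, le_trans (le_of_eq ?_) hn⟩
  have := Fintype.ofFinite (PrimeSpectrum Γ(T, ⊤))
  show Module.finrank K Γ(T, ⊤) = Nat.card T
  rw [IsArtinianRing.finrank_eq_sum_primeSpectrum,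
    Nat.card_congr (Scheme.homeoOfIso T.isoSpec).toEquiv]
  show _ = Nat.card (PrimeSpectrum Γ(T, ⊤))
  rw [Nat.card_eq_fintype_card, Fintype.card_eq_sum_ones]
  refine Finset.sum_congr rfl fun P _ => ?_
  haveI : Algebra.FormallyUnramified Γ(T, ⊤) (Localization.AtPrime P.asIdeal) :=
    Algebra.FormallyUnramified.of_isLocalization P.asIdeal.primeCompl
  haveI : Algebra.FormallyUnramified K (Localization.AtPrime P.asIdeal) :=
    Algebra.FormallyUnramified.comp K Γ(T, ⊤) _
  have hb := Algebra.FormallyUnramified.bijective_of_isAlgClosed_of_isLocalRing K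
    (A := Localization.AtPrime P.asIdeal)
  exact ((AlgEquiv.ofBijective (Algebra.ofId K (Localization.AtPrime P.asIdeal)) hb).toLinearEquiv.finrank_eq).symm.trans
    (Module.finrank_self K)



/-- Let `f : X → Y` be étale and `n ≥ 0`. If for every field `k` and every `Spec k → Y` the base change
`X_k = Spec k ×_Y X` has finitely many, and at most `n`, points, then `n` bounds the degrees of the
fibres of `f`. (The converse implication holds for every morphism of schemes, étale or not, and is
not restated here.) -/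
theorem result {X Y : Scheme.{u}} (f : X ⟶ Y) [Etale f] (n : ℕ)
    (h : ∀ (k : Type u) [Field k] (g : Spec (CommRingCat.of k) ⟶ Y),
      Finite ↥(Limits.pullback f g) ∧ Nat.card ↥(Limits.pullback f g) ≤ n) :
    BddFib.FibreDegLE f n := by
  rw [Groth.Agent.MorLib.BF.fibreDegLE_iff]
  intro k _ g
  let ψ : CommRingCat.of k ⟶ CommRingCat.of (AlgebraicClosure k) :=
    CommRingCat.ofHom (algebraMap k (AlgebraicClosure k))
  refine (Groth.Agent.MorLib.BF.finiteOfDegLE_pullback_snd_iff f (Field.toIsField k)
    (Field.toIsField (AlgebraicClosure k)) ψ g _ rfl n).mpr ?_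
  obtain ⟨hfin, hc⟩ := h (AlgebraicClosure k) (Spec.map ψ ≫ g)
  haveI := hfin
  exact finiteOfDegLE_etale (Limits.pullback.snd f (Spec.map ψ ≫ g)) n hc

end Groth.Agent.S7440
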