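import Groth.Statements.S7443
import Groth.Agent.MorLib.UnivHomeoColim

set_option autoImplicit false
universe u
open CategoryTheory AlgebraicGeometry
open Mor

namespace Groth.Agent.S7443

/-- Let `φ : A → B` be a ring map with `Spec B → Spec A` a universal homeomorphism. Then `B`, as an
`A`-algebra, is the colimit of a filtered diagram of finitely presented `A`-algebras `B_i`, and
every `Spec B_i → Spec A` is again a universal homeomorphism. (The colimit is taken in the category
of rings under `A`, over a small filtered index category.) -/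
theorem result {A B : Type u} [CommRing A] [CommRing B] (φ : A →+* B)
    (hφ : FlatMor.IsUnivHomeo (Spec.map (CommRingCat.ofHom φ))) :
    ∃ (J : Type u) (_ : SmallCategory J) (_ : IsFiltered J) (F : J ⥤ Under (CommRingCat.of A))
      (c : Limits.Cocone F) (_ : Limits.IsColimit c),
      (∀ j, (F.obj j).hom.hom.FinitePresentation ∧ FlatMor.IsUnivHomeo (Spec.map (F.obj j).hom)) ∧
      Nonempty (c.pt ≅ Under.mk (CommRingCat.ofHom φ)) := by
  letI := φ.toAlgebra
  have hB : Groth.Agent.MorLib.RUH.UH (algebraMap A B) :=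
    (Groth.Agent.MorLib.RUH.isUnivHomeo_SpecMap_iff φ).mp hφ
  have ht : Groth.Agent.MorLib.RUH.HasTowers A B False := fun E => by
    obtain ⟨l, hl, hg⟩ := Groth.Agent.MorLib.RUH.exists_good_of_exists_step
      (Groth.Agent.MorLib.RUH.StepP (A := A) (B := B)) Groth.Agent.MorLib.RUH.stepP_mono
      Groth.Agent.MorLib.RUH.stepP_fin (fun T hT => by
        obtain ⟨b, hb, hs⟩ := Groth.Agent.MorLib.RUH.exists_step_subalgebra (A := A) (B := B) hφ
          Nat.Prime (fun _ h => h.two_le)
          (fun q b => Groth.Agent.MorLib.RUH.exists_pow_of_radicial _ hB.2.1 q b) T hT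
        exact ⟨b, hb, hs⟩) E
    exact ⟨l, hl, fun i => Or.inr ⟨not_false, hg i⟩⟩
  refine ⟨Groth.Agent.MorLib.RUH.ModelCat A B False, inferInstance,
    Groth.Agent.MorLib.RUH.isFiltered_modelCat hB ht, _, _,
    Groth.Agent.MorLib.RUH.isColimitModelCocone hB ht, fun X => ⟨?_, ?_⟩, ⟨Iso.refl _⟩⟩
  · exact RingHom.finitePresentation_algebraMap.mpr X.M.good.1
  · exact (Groth.Agent.MorLib.RUH.isUnivHomeo_SpecMap_iff _).mpr X.M.good.2.1

end Groth.Agent.S7443
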