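import Groth.Statements.S7444
import Groth.Agent.MorLib.UnivHomeoColim

set_option autoImplicit false
universe u
open CategoryTheory AlgebraicGeometry
open Mor

namespace Groth.Agent.S7444

/-- Let `φ : A → B` be a ring map such that `Spec B → Spec A` is a universal homeomorphism and all
residue field extensions are trivial (every residue field map is surjective). Then `B`, as an
`A`-algebra, is the colimit of a filtered diagram of finitely presented `A`-algebras `B_i`, each of
which has the same two properties over `A`. (The colimit is taken in the category of rings under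
`A`, over a small filtered index category.) -/
theorem result {A B : Type u} [CommRing A] [CommRing B]
    (φ : A →+* B) (hφ : FlatMor.IsUnivHomeo (Spec.map (CommRingCat.ofHom φ)))
    (hres : ∀ x : Spec (CommRingCat.of B), Function.Surjective ((Spec.map (CommRingCat.ofHom φ)).residueFieldMap x)) :
    ∃ (J : Type u) (_ : SmallCategory J) (_ : IsFiltered J) (F : J ⥤ Under (CommRingCat.of A))
      (c : Limits.Cocone F) (_ : Limits.IsColimit c),
      (∀ j, (F.obj j).hom.hom.FinitePresentation ∧ FlatMor.IsUnivHomeo (Spec.map (F.obj j).hom) ∧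
        ∀ x : Spec (F.obj j).right, Function.Surjective ((Spec.map (F.obj j).hom).residueFieldMap x)) ∧
      Nonempty (c.pt ≅ Under.mk (CommRingCat.ofHom φ)) := by
  letI := φ.toAlgebra
  have hB : Groth.Agent.MorLib.RUH.UH (algebraMap A B) :=
    (Groth.Agent.MorLib.RUH.isUnivHomeo_SpecMap_iff φ).mp hφ
  have ht : Groth.Agent.MorLib.RUH.HasTowers A B True := fun E => by
    obtain ⟨l, hl, hg⟩ := Groth.Agent.MorLib.RUH.exists_good_of_exists_step
      (Groth.Agent.MorLib.RUH.Step23 (A := A) (B := B)) Groth.Agent.MorLib.RUH.step23_mono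
      Groth.Agent.MorLib.RUH.step23_fin (fun T hT => by
        obtain ⟨b, hb, hs⟩ := Groth.Agent.MorLib.RUH.exists_step_subalgebra (A := A) (B := B) hφ
          (fun _ => False) (fun _ h => h.elim) (fun q b => by
            obtain ⟨a, s, hs, h⟩ :=
              (Groth.Agent.MorLib.RUH.residueFieldMap_surjective_iff φ q).mp (hres q) b
            refine ⟨1, Or.inl rfl, 0, a, s, hs, ?_⟩
            rw [pow_zero, pow_one]
            exact h) T hT
        exact ⟨b, hb, hs.resolve_right fun ⟨_, h, _⟩ => h.elim⟩) E
    exact ⟨l, hl, fun i => Or.inl (hg i)⟩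
  refine ⟨Groth.Agent.MorLib.RUH.ModelCat A B True, inferInstance,
    Groth.Agent.MorLib.RUH.isFiltered_modelCat hB ht, _, _,
    Groth.Agent.MorLib.RUH.isColimitModelCocone hB ht, fun X => ⟨?_, ?_, ?_⟩, ⟨Iso.refl _⟩⟩
  · exact RingHom.finitePresentation_algebraMap.mpr X.M.good.1
  · exact (Groth.Agent.MorLib.RUH.isUnivHomeo_SpecMap_iff _).mpr X.M.good.2.1
  · exact fun q => (Groth.Agent.MorLib.RUH.residueFieldMap_surjective_iff _ q).mpr
      (X.M.good.2.2 trivial q)

end Groth.Agent.S7444
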