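import Groth.Statements.S7446
import Groth.Agent.MorLib.BddFib

set_option autoImplicit false
set_option backward.isDefEq.respectTransparency false
set_option backward.isDefEq.respectTransparency.types false
universe u
open CategoryTheory AlgebraicGeometry
open BddFib

namespace Groth.Agent.S7446

theorem eval_affine {T : Scheme.{u}} [IsAffine T] [IsArtinianRing Γ(T, ⊤)] (x : T) :
    Function.Surjective (T.Γevaluation x) ∧
      RingHom.ker (T.Γevaluation x).hom = ((isAffineOpen_top T).primeIdealOf ⟨x, trivial⟩).asIdeal := by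
  let U : T.Opens := ⊤
  let xU : U := ⟨x, trivial⟩
  letI := TopCat.Presheaf.algebra_section_stalk T.presheaf xU
  haveI := (isAffineOpen_top T).isLocalization_stalk xU
  constructor
  · exact (T.residue_surjective x).comp (IsArtinianRing.localization_surjective
      ((isAffineOpen_top T).primeIdealOf xU).asIdeal.primeCompl (T.presheaf.stalk x))
  · rw [← IsLocalization.AtPrime.under_maximalIdeal (T.presheaf.stalk x)
      ((isAffineOpen_top T).primeIdealOf xU).asIdeal]
    ext a
    exact IsLocalRing.residue_eq_zero_iff _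


/-- When every fibre of `f : X → Y` has degree at most `n`, then for every field `k` and every `Spec k →
Y`, writing `X_k = {x_1, …, x_t}`, one has `Σ_i [κ(x_i) : k] ≤ n`. (Residue degrees are taken along
`X_k → Spec k`; `X_k` is finite, so the sum is a finite sum.) -/
theorem result {X Y : Scheme.{u}} (f : X ⟶ Y) (n : ℕ) (hf : BddFib.FibreDegLE f n)
    (k : Type u) [Field k] (g : Spec (CommRingCat.of k) ⟶ Y) :
    Finite ↥(Limits.pullback f g) ∧
      ∑ᶠ x : ↥(Limits.pullback f g), (Limits.pullback.snd f g).residueDegree x ≤ n := by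
  obtain ⟨hT, hfin, hrk⟩ := (Groth.Agent.MorLib.BF.fibreDegLE_iff f n).mp hf k g
  have hfinite := (Groth.Agent.MorLib.BF.natCard_pullback_le hf k g).1
  refine ⟨hfinite, ?_⟩
  haveI : IsAffine (Limits.pullback f g) := hT
  haveI := hfinite
  haveI := Fintype.ofFinite ↥(Limits.pullback f g)
  rw [finsum_eq_sum_of_fintype]
  let T := Limits.pullback f g
  let p := Limits.pullback.snd f g
  letI aT : Algebra k Γ(T, ⊤) := BddFib.secAlgebra (CommRingCat.of k) p
  haveI : Module.Finite k Γ(T, ⊤) := hfin
  haveI : IsArtinianRing Γ(T, ⊤) := IsArtinianRing.of_finite k _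
  haveI : IsArtinianRing Γ(Spec (CommRingCat.of k), ⊤) :=
    (Scheme.ΓSpecIso (CommRingCat.of k)).commRingCatIsoToRingEquiv.symm.isArtinianRing
  letI : ∀ x : T, Algebra k (T.residueField x) := fun x =>
    ((T.Γevaluation x).hom.comp (algebraMap k Γ(T, ⊤))).toAlgebra
  let ev : ∀ x : T, Γ(T, ⊤) →ₐ[k] T.residueField x := fun x => ⟨(T.Γevaluation x).hom, fun _ => rfl⟩
  haveI : ∀ x : T, Module.Finite k (T.residueField x) := fun x =>
    Module.Finite.of_surjective (ev x).toLinearMap (eval_affine x).1
  have hdeg : ∀ x : T, p.residueDegree x = Module.finrank k (T.residueField x) := by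
    intro x
    letI : Field (CommRingCat.of k) := ‹Field k›
    letI := (p.residueFieldMap x).hom.toAlgebra
    let c : k →+* (Spec (CommRingCat.of k)).residueField (p x) :=
      ((Spec (CommRingCat.of k)).Γevaluation (p x)).hom.comp (Scheme.ΓSpecIso (CommRingCat.of k)).inv.hom
    have hc : Function.Bijective c := ⟨c.injective, (eval_affine (p x)).1.comp
      (ConcreteCategory.bijective_of_isIso (Scheme.ΓSpecIso (CommRingCat.of k)).inv).2⟩
    refine (Algebra.finrank_eq_of_equiv_equiv (RingEquiv.ofBijective c hc) (RingEquiv.refl _) ?_).symm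
    ext a
    exact Scheme.Γevaluation_naturality_apply p x _
  let E : Γ(T, ⊤) →ₗ[k] (∀ x : T, T.residueField x) := LinearMap.pi fun x => (ev x).toLinearMap
  have hE : Function.Surjective E := by
    intro v
    choose a ha using fun x => (eval_affine x).1 (v x)
    have hco : Pairwise (Function.onFun IsCoprime fun x : T => RingHom.ker (T.Γevaluation x).hom) := by
      intro x y hxy
      simp only [Function.onFun, (eval_affine x).2, (eval_affine y).2]
      haveI := IsArtinianRing.isMaximal_of_isPrime ((isAffineOpen_top T).primeIdealOf ⟨x, trivial⟩).asIdeal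
      haveI := IsArtinianRing.isMaximal_of_isPrime ((isAffineOpen_top T).primeIdealOf ⟨y, trivial⟩).asIdeal
      refine Ideal.isCoprime_iff_sup_eq.2 (Ideal.IsMaximal.coprime_of_ne ‹_› ‹_› fun h => hxy ?_)
      have h' := congrArg (isAffineOpen_top T).fromSpec (PrimeSpectrum.ext h :
        (isAffineOpen_top T).primeIdealOf ⟨x, trivial⟩ = (isAffineOpen_top T).primeIdealOf ⟨y, trivial⟩)
      rwa [IsAffineOpen.fromSpec_primeIdealOf, IsAffineOpen.fromSpec_primeIdealOf] at h'
    obtain ⟨b, hb⟩ := Ideal.exists_forall_sub_mem_ideal hco a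
    refine ⟨b, funext fun x => ?_⟩
    show T.Γevaluation x b = v x
    rw [← ha x]
    exact sub_eq_zero.1 ((map_sub (T.Γevaluation x).hom b (a x)).symm.trans (hb x))
  calc ∑ x : T, p.residueDegree x = ∑ x : T, Module.finrank k (T.residueField x) :=
        Finset.sum_congr rfl fun x _ => hdeg x
    _ = Module.finrank k (∀ x : T, T.residueField x) := (Module.finrank_pi_fintype k).symm
    _ ≤ Module.finrank k Γ(T, ⊤) := LinearMap.finrank_le_finrank_of_surjective (f := E) hE
    _ ≤ n := hrk

end Groth.Agent.S7446
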