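import Groth.Statements.S7449
import Groth.Agent.MorLib.NagataCurve
import Groth.Agent.Proj16.UClosedAffine
import Groth.Agent.CDiv6.Normal
import Mathlib.AlgebraicGeometry.ValuativeCriterion

set_option autoImplicit false
universe u
open CategoryTheory AlgebraicGeometry
open Lim

set_option linter.style.haveILetI false
set_option backward.isDefEq.respectTransparency false
set_option backward.isDefEq.respectTransparency.types false

namespace Groth.Agent.S7449

/-- Let `S` be a Nagata scheme, `X`, `Y` locally of finite type over `S` and `f : X → Y` a quasi-compact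
morphism over `S`. Then `f` is universally closed if and only if for every commutative diagram `U →
X`, `C → Y` over `S` where `C` is a normal integral scheme of finite type over `S`, `c ∈ C` is a
closed point whose local ring `A = O_{C,c}` has dimension `1` and `U = C ∖ {c}`, there is a morphism
`Spec A → X` making the square `Spec K → X`, `Spec A → Y` (with `K = Frac A`, `Spec K → X` through
`U`, `Spec A → Y` through `C`) commute. -/
theorem result (S : Scheme.{u}) (hS : ∀ W : S.affineOpens, CAlg.IsNagata Γ(S, W))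
    {X Y : Scheme.{u}} (p : X ⟶ S) (q : Y ⟶ S) [LocallyOfFiniteType p] [LocallyOfFiniteType q] (f : X ⟶ Y)
    (hf : f ≫ q = p) [QuasiCompact f] :
    UniversallyClosed f ↔
      ∀ (C : Scheme.{u}) (r : C ⟶ S) [IsIntegral C] [LocallyOfFiniteType r] [QuasiCompact r],
        (∀ x : C, IsIntegrallyClosed (C.presheaf.stalk x)) →
        ∀ (c : C), IsClosed ({c} : Set C) → ringKrullDim (C.presheaf.stalk c) = 1 →
        ∀ (U : C.Opens), (U : Set C) = {c}ᶜ →
        ∀ (u : (U : Scheme.{u}) ⟶ X) (g : C ⟶ Y), g ≫ q = r → u ≫ f = U.ι ≫ g →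
        ∀ (k : Spec (CommRingCat.of (FractionRing (C.presheaf.stalk c))) ⟶ (U : Scheme.{u})),
          k ≫ U.ι = Spec.map (CommRingCat.ofHom (algebraMap (C.presheaf.stalk c)
            (FractionRing (C.presheaf.stalk c)))) ≫ C.fromSpecStalk c →
        ∃ l : Spec (C.presheaf.stalk c) ⟶ X, l ≫ f = C.fromSpecStalk c ≫ g ∧
          Spec.map (CommRingCat.ofHom (algebraMap (C.presheaf.stalk c) (FractionRing (C.presheaf.stalk c)))) ≫ l =
            k ≫ u := by
  haveI : IsLocallyNoetherian S := ⟨fun W => (hS W).1⟩
  haveI : LocallyOfFiniteType (f ≫ q) := hf ▸ inferInstance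
  haveI : LocallyOfFiniteType f := locallyOfFiniteType_of_comp f q
  constructor
  · intro hu C r _ _ _ hn c hc hdim U hU u g hg hug k hk
    haveI : IsLocallyNoetherian C := LocallyOfFiniteType.isLocallyNoetherian r
    haveI := hn c
    haveI := Groth.Agent.CDiv6.isDVR_of_dim_eq_one (A := C.presheaf.stalk c) hdim
    have hE : ValuativeCriterion.Existence f :=
      (UniversallyClosed.eq_valuativeCriterion.le _ _ f hu).1
    have w : CommSq (k ≫ u) (Spec.map (CommRingCat.ofHom (algebraMap (C.presheaf.stalk c)
        (FractionRing (C.presheaf.stalk c))))) f (C.fromSpecStalk c ≫ g) :=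
      ⟨by rw [Category.assoc, hug, reassoc_of% hk]⟩
    obtain ⟨l, hl₁, hl₂⟩ := (hE ⟨C.presheaf.stalk c, FractionRing (C.presheaf.stalk c), k ≫ u,
      C.fromSpecStalk c ≫ g, w⟩).exists_lift
    exact ⟨l, hl₂, hl₁⟩
  · intro H
    refine Groth.Agent.Proj16.universallyClosed_of_affineSpace f fun n Z hZ => ?_
    let A := AffineSpace (ULift.{u} (Fin n)) Y
    refine Groth.Agent.MorLib.NagataCurve.isClosed_image hS ((A ↘ Y) ≫ q) (Limits.pullback.snd f (A ↘ Y))
      ?_ Z hZ
    intro C r _ _ _ hn c hc hdim U hU u g hg hug k hk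
    obtain ⟨l, hl₁, hl₂⟩ := H C r hn c hc hdim U hU (u ≫ Limits.pullback.fst f (A ↘ Y)) (g ≫ (A ↘ Y))
      (by rw [Category.assoc]; exact hg)
      (by rw [Category.assoc, Limits.pullback.condition, reassoc_of% hug]) k hk
    refine ⟨Limits.pullback.lift l (C.fromSpecStalk c ≫ g) (by rw [hl₁, Category.assoc]),
      Limits.pullback.lift_snd _ _ _, ?_⟩
    apply Limits.pullback.hom_ext
    · rw [Category.assoc, Limits.pullback.lift_fst, Category.assoc]
      exact hl₂
    · rw [Category.assoc, Limits.pullback.lift_snd, Category.assoc, hug, reassoc_of% hk]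

end Groth.Agent.S7449
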