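import Groth.Statements.S7450
import Groth.Agent.MorLib.NagataCurve
import Groth.Agent.CDiv6.Normal
import Mathlib.AlgebraicGeometry.ValuativeCriterion

set_option autoImplicit false
universe u
open CategoryTheory AlgebraicGeometry
open Lim

set_option linter.style.haveILetI false
set_option backward.isDefEq.respectTransparency false
set_option backward.isDefEq.respectTransparency.types false

namespace Groth.Agent.S7450

/-- Assume `S` is a Nagata scheme and `f : X → Y` is a morphism over `S` between schemes `X`, `Y` that
are locally of finite type over `S`. Then `f` is separated exactly when the following holds. Take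
any normal integral scheme `C` of finite type over `S` and a closed point `c ∈ C` such that the
local ring `A = O_{C,c}` is one-dimensional, put `U = C ∖ {c}`, and consider any commutative diagram
of `S`-schemes formed by `U → X` and `C → Y`. Then at most one morphism `Spec A → X` makes the
square with `Spec K → X` and `Spec A → Y` commute. -/
theorem result (S : Scheme.{u}) (hS : ∀ W : S.affineOpens, CAlg.IsNagata Γ(S, W))
    {X Y : Scheme.{u}} (p : X ⟶ S) (q : Y ⟶ S) [LocallyOfFiniteType p] [LocallyOfFiniteType q] (f : X ⟶ Y)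
    (hf : f ≫ q = p) :
    IsSeparated f ↔
      ∀ (C : Scheme.{u}) (r : C ⟶ S) [IsIntegral C] [LocallyOfFiniteType r] [QuasiCompact r],
        (∀ x : C, IsIntegrallyClosed (C.presheaf.stalk x)) →
        ∀ (c : C), IsClosed ({c} : Set C) → ringKrullDim (C.presheaf.stalk c) = 1 →
        ∀ (U : C.Opens), (U : Set C) = {c}ᶜ →
        ∀ (u : (U : Scheme.{u}) ⟶ X) (g : C ⟶ Y), g ≫ q = r → u ≫ f = U.ι ≫ g →
        ∀ (k : Spec (CommRingCat.of (FractionRing (C.presheaf.stalk c))) ⟶ (U : Scheme.{u})),
          k ≫ U.ι = Spec.map (CommRingCat.ofHom (algebraMap (C.presheaf.stalk c)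
            (FractionRing (C.presheaf.stalk c)))) ≫ C.fromSpecStalk c →
        ∀ l l' : Spec (C.presheaf.stalk c) ⟶ X,
          l ≫ f = C.fromSpecStalk c ≫ g →
          Spec.map (CommRingCat.ofHom (algebraMap (C.presheaf.stalk c) (FractionRing (C.presheaf.stalk c)))) ≫ l =
            k ≫ u →
          l' ≫ f = C.fromSpecStalk c ≫ g →
          Spec.map (CommRingCat.ofHom (algebraMap (C.presheaf.stalk c) (FractionRing (C.presheaf.stalk c)))) ≫ l' =
            k ≫ u → l = l' := by
  haveI : IsLocallyNoetherian S := ⟨fun W => (hS W).1⟩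
  haveI : IsLocallyNoetherian Y := LocallyOfFiniteType.isLocallyNoetherian q
  haveI : LocallyOfFiniteType (f ≫ q) := hf ▸ inferInstance
  haveI : LocallyOfFiniteType f := locallyOfFiniteType_of_comp f q
  constructor
  · intro hs C r _ _ _ hn c hc hdim U hU u g hg hug k hk l l' hl₁ hl₂ hl₁' hl₂'
    haveI : IsLocallyNoetherian C := LocallyOfFiniteType.isLocallyNoetherian r
    haveI := hn c
    haveI := Groth.Agent.CDiv6.isDVR_of_dim_eq_one (A := C.presheaf.stalk c) hdim
    have hV : ValuativeCriterion.Uniqueness f :=
      (IsSeparated.eq_valuativeCriterion.le _ _ f hs).1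
    have w : CommSq (k ≫ u) (Spec.map (CommRingCat.ofHom (algebraMap (C.presheaf.stalk c)
        (FractionRing (C.presheaf.stalk c))))) f (C.fromSpecStalk c ≫ g) :=
      ⟨by rw [Category.assoc, hug, reassoc_of% hk]⟩
    exact congrArg CommSq.LiftStruct.l ((hV ⟨C.presheaf.stalk c, FractionRing (C.presheaf.stalk c),
      k ≫ u, C.fromSpecStalk c ≫ g, w⟩).elim ⟨l, hl₂, hl₁⟩ ⟨l', hl₂', hl₁'⟩)
  · intro H
    haveI : IsLocallyNoetherian X := LocallyOfFiniteType.isLocallyNoetherian f
    haveI : IsLocallyNoetherian (Limits.pullback f f) :=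
      LocallyOfFiniteType.isLocallyNoetherian (Limits.pullback.fst f f ≫ f)
    let Δ := Limits.pullback.diagonal f
    haveI : QuasiCompact Δ := inferInstance
    haveI : LocallyOfFiniteType (Limits.pullback.fst f f ≫ p) := inferInstance
    have hcl : IsClosed (Δ '' Set.univ) := by
      refine Groth.Agent.MorLib.NagataCurve.isClosed_image hS (Limits.pullback.fst f f ≫ p) Δ
        ?_ Set.univ isClosed_univ
      intro C r _ _ _ hn c hc hdim U hU u g hg hug k hk
      have hu1 : u = U.ι ≫ g ≫ Limits.pullback.fst f f := by
        rw [← reassoc_of% hug]; simp [Δ]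
      have hu2 : u = U.ι ≫ g ≫ Limits.pullback.snd f f := by
        rw [← reassoc_of% hug]; simp [Δ]
      have heq := H C r hn c hc hdim U hU u (g ≫ Limits.pullback.fst f f ≫ f)
        (by rw [Category.assoc, Category.assoc, hf]; exact hg)
        (by rw [hu1, Category.assoc, Category.assoc]) k hk
        (C.fromSpecStalk c ≫ g ≫ Limits.pullback.fst f f)
        (C.fromSpecStalk c ≫ g ≫ Limits.pullback.snd f f)
        (by simp only [Category.assoc])
        (by rw [← reassoc_of% hk, ← hu1])
        (by simp only [Category.assoc, Limits.pullback.condition])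
        (by rw [← reassoc_of% hk, ← hu2])
      refine ⟨C.fromSpecStalk c ≫ g ≫ Limits.pullback.fst f f, ?_, by rw [← reassoc_of% hk, ← hu1]⟩
      apply Limits.pullback.hom_ext
      · simp [Δ]
      · rw [Category.assoc, Limits.pullback.diagonal_snd, Category.comp_id, heq]
        simp only [Category.assoc]
    rw [Set.image_univ] at hcl
    exact ⟨IsClosedImmersion.of_isPreimmersion _ hcl⟩

end Groth.Agent.S7450
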