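import Groth.Statements.S7451
import Mathlib.Algebra.MvPolynomial.Funext
import Mathlib.FieldTheory.RatFunc.AsPolynomial
import Mathlib.RingTheory.Ideal.MinimalPrime.Noetherian
import Mathlib.RingTheory.Polynomial.Basic
import Mathlib.FieldTheory.Perfect
import Mathlib.FieldTheory.Finite.Basic
import Mathlib.RingTheory.Jacobson.Ring
-- import your own Groth.Agent.* helpers here

set_option autoImplicit false
universe u
open CategoryTheory AlgebraicGeometry
open Desc

namespace Groth.Agent.S7451

namespace Aux

open MvPolynomial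

variable {k : Type u} [Field k] {n : ℕ}

/-- the point of affine space underlying a tuple with values in an extension field -/
noncomputable def pt {Ω : Type u} [Field Ω] [Algebra k Ω] (a : Fin n → Ω) :
    PrimeSpectrum (MvPolynomial (Fin n) k) :=
  ⟨RingHom.ker (aeval a).toRingHom, RingHom.ker_isPrime _⟩

/-- the elementary automorphism -/
noncomputable def shear (i j : Fin n) (d : ℕ) : MvPolynomial (Fin n) k →ₐ[k] MvPolynomial (Fin n) k :=
  aeval (Function.update MvPolynomial.X i (MvPolynomial.X i + MvPolynomial.X j ^ d) :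
    Fin n → MvPolynomial (Fin n) k)

variable {Ω : Type u} [Field Ω] [Algebra k Ω]

lemma aeval_comp_shear (a : Fin n → Ω) (i j : Fin n) (d : ℕ) (f : MvPolynomial (Fin n) k) :
    aeval a (shear i j d f) = aeval (Function.update a i (a i + a j ^ d)) f := by
  have : (aeval a).comp (shear (k := k) i j d) = aeval (Function.update a i (a i + a j ^ d)) := by
    apply MvPolynomial.algHom_ext
    intro l
    rcases eq_or_ne l i with rfl | hl
    · simp [shear]
    · simp [shear, Function.update_of_ne hl]
  exact AlgHom.congr_fun this f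

lemma comap_shear_pt (a : Fin n → Ω) (i j : Fin n) (d : ℕ) :
    PrimeSpectrum.comap (shear (k := k) i j d).toRingHom (pt a) =
      pt (Function.update a i (a i + a j ^ d)) := by
  apply PrimeSpectrum.ext
  ext f
  simp [pt, aeval_comp_shear]

lemma key_poly (a : Fin n → Ω) (i : Fin n) (f : MvPolynomial (Fin n) k) (S : Set Ω)
    (hS : S.Infinite) (h : ∀ t ∈ S, aeval (Function.update a i t) f = 0) (t : Ω) :
    aeval (Function.update a i t) f = 0 := by
  let g : Polynomial Ω :=
    aeval (Function.update (fun l => Polynomial.C (a l)) i Polynomial.X) f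
  have hg : ∀ s : Ω, g.eval s = aeval (Function.update a i s) f := by
    intro s
    have : ((Polynomial.aeval (R := Ω) s).restrictScalars k).comp
        (aeval (Function.update (fun l => Polynomial.C (a l)) i Polynomial.X)) =
        aeval (Function.update a i s) := by
      apply MvPolynomial.algHom_ext
      intro l
      rcases eq_or_ne l i with rfl | hl
      · simp
      · simp [Function.update_of_ne hl]
    have := AlgHom.congr_fun this f
    simpa [g] using this
  have hg0 : g = 0 := Polynomial.eq_zero_of_infinite_isRoot g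
    (hS.mono fun s hs => by simp [Polynomial.IsRoot, hg, h s hs])
  rw [← hg, hg0, Polynomial.eval_zero]

/-- If some point of a closed shear-invariant set has a coordinate in `Tr`, then the ideal of the
set is zero. -/
lemma ideal_eq_bot (hn : 2 ≤ n) (I : Ideal (MvPolynomial (Fin n) k))
    (Tr : Set Ω) (hTr : Tr.Infinite)
    (hline : ∀ (a : Fin n → Ω), (∀ f ∈ I, aeval a f = 0) → ∀ i j : Fin n, i ≠ j → a j ∈ Tr →
      ∀ f ∈ I, ∀ t, aeval (Function.update a i t) f = 0)
    (a : Fin n → Ω) (ha : ∀ f ∈ I, aeval a f = 0) (j : Fin n) (hj : a j ∈ Tr) : I = ⊥ := by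
  classical
  haveI : Nontrivial (Fin n) := Fin.nontrivial_iff_two_le.mpr hn
  obtain ⟨i, hij⟩ := exists_ne j
  have key : ∀ L : Finset (Fin n),
      ∀ v : Fin n → Ω, (∀ l, l ≠ i → l ∉ L → v l = a l) → ∀ f ∈ I, aeval v f = 0 := by
    intro L
    induction L using Finset.induction_on with
    | empty =>
      intro v hv f hf
      convert hline a ha i j hij hj f hf (v i) using 3
      funext m
      rcases eq_or_ne m i with rfl | hmi
      · simp
      · rw [Function.update_of_ne hmi]
        exact hv m hmi (by simp)
    | insert l L hl IH =>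
      intro v hv f hf
      rcases eq_or_ne l i with rfl | hli
      · exact IH v (fun m hm hmL => hv m hm (by simp [hm, hmL])) f hf
      -- `v'` is `v` with the `l` coordinate reset to that of `a`
      let v' := Function.update v l (a l)
      have hv' : ∀ t, ∀ m, m ≠ i → m ∉ L → Function.update v' i t m = a m := by
        intro t m hmi hm
        rw [Function.update_of_ne hmi]
        rcases eq_or_ne m l with rfl | hml
        · simp [v']
        · simp only [v', Function.update_of_ne hml]
          exact hv m hmi (by simp [hml, hm])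
      have h1 : ∀ t ∈ Tr, aeval (Function.update v i t) f = 0 := by
        intro t ht
        have h2 := hline (Function.update v' i t) (IH _ (hv' t)) l i hli
          (by simpa using ht) f hf (v l)
        convert h2 using 3
        funext m
        rcases eq_or_ne m l with rfl | hml
        · simp [Function.update_of_ne hli]
        · rcases eq_or_ne m i with rfl | hmi
          · simp [Function.update_of_ne hml]
          · simp [v', Function.update_of_ne hml, Function.update_of_ne hmi]
      have := key_poly v i f Tr hTr h1 (v i)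
      rwa [Function.update_eq_self] at this
  rw [Submodule.eq_bot_iff]
  intro f hf
  haveI : Infinite Ω := Set.infinite_univ_iff.mp (hTr.mono (Set.subset_univ _))
  have hmap : MvPolynomial.map (algebraMap k Ω) f = 0 := by
    apply MvPolynomial.funext
    intro v
    rw [map_zero, MvPolynomial.eval_map]
    exact key Finset.univ v (fun l _ hl => absurd (Finset.mem_univ l) hl) f hf
  exact MvPolynomial.map_injective _ (algebraMap k Ω).injective (by rw [hmap, map_zero])

end Aux

/-- Let `k` be a field and `n ≥ 2`. For `i ≠ j` and `d ≥ 0` let `T_{i,j,d}` be the automorphism of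
`𝔸^n_k` given by `x_i ↦ x_i + x_j^d` and fixing the other coordinates. Let `W ⊆ 𝔸^n_k` be a nonempty
open subscheme with `T_{i,j,d}⁻¹(W) = W` for all `i, j, d`. Then either `W = 𝔸^n_k`, or `k` has
prime characteristic `p` and the complement `𝔸^n_k ∖ W` consists of finitely many closed points,
each of whose coordinates `a` in the residue field satisfies `a^(p^m) = a` for some `m ≥ 1`
(equivalently, is algebraic over `𝔽_p`). -/
theorem result (k : Type u) [Field k] (n : ℕ) (hn : 2 ≤ n)
    (W : (Spec (CommRingCat.of (MvPolynomial (Fin n) k))).Opens)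
    (hW : (W : Set ↥(Spec (CommRingCat.of (MvPolynomial (Fin n) k)))).Nonempty)
    (hinv : ∀ (i j : Fin n), i ≠ j → ∀ d : ℕ,
      (Spec.map (CommRingCat.ofHom (MvPolynomial.aeval (R := k)
        (Function.update MvPolynomial.X i (MvPolynomial.X i + MvPolynomial.X j ^ d) :
          Fin n → MvPolynomial (Fin n) k)).toRingHom)) ⁻¹ᵁ W = W) :
    W = ⊤ ∨ ∃ p : ℕ, p.Prime ∧ CharP k p ∧ ((W : Set ↥(Spec (CommRingCat.of (MvPolynomial (Fin n) k))))ᶜ).Finite ∧
      ∀ x : ↥(Spec (CommRingCat.of (MvPolynomial (Fin n) k))),
        x ∉ (W : Set ↥(Spec (CommRingCat.of (MvPolynomial (Fin n) k)))) →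
        IsClosed ({x} : Set ↥(Spec (CommRingCat.of (MvPolynomial (Fin n) k)))) ∧ ∀ i : Fin n, ∃ m : ℕ, 0 < m ∧
          (algebraMap (MvPolynomial (Fin n) k) x.asIdeal.ResidueField (MvPolynomial.X i)) ^ (p ^ m) =
            algebraMap (MvPolynomial (Fin n) k) x.asIdeal.ResidueField (MvPolynomial.X i) := by
  classical
  let R := MvPolynomial (Fin n) k
  let Z : Set (PrimeSpectrum R) := (W : Set ↥(Spec (CommRingCat.of R)))ᶜ
  have hZc : IsClosed Z := W.isOpen.isClosed_compl
  let I : Ideal R := PrimeSpectrum.vanishingIdeal Z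
  have hzero : PrimeSpectrum.zeroLocus (I : Set R) = Z := by
    rw [PrimeSpectrum.zeroLocus_vanishingIdeal_eq_closure, hZc.closure_eq]
  have hmemZ : ∀ x : PrimeSpectrum R, x ∈ Z ↔ I ≤ x.asIdeal := by
    intro x
    conv_lhs => rw [← hzero]
    exact Iff.rfl
  have hI : I ≠ ⊥ := by
    intro h
    obtain ⟨w, hw⟩ := hW
    exact ((hmemZ w).mpr (h ▸ bot_le)) hw
  by_cases htop : W = ⊤
  · exact Or.inl htop
  right
  -- invariance of `Z`
  have hshear : ∀ (i j : Fin n), i ≠ j → ∀ d, ∀ x ∈ Z,
      PrimeSpectrum.comap (Aux.shear (k := k) i j d).toRingHom x ∈ Z := by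
    intro i j hij d x hx hc
    have h := hinv i j hij d
    apply hx
    rw [← h]
    exact hc
  -- data attached to a point of `Z`
  have main : ∀ x ∈ Z, ∃ p : ℕ, p.Prime ∧ CharP k p ∧ ∀ i : Fin n, ∃ m : ℕ, 0 < m ∧
      (algebraMap R x.asIdeal.ResidueField (MvPolynomial.X i)) ^ (p ^ m) =
        algebraMap R x.asIdeal.ResidueField (MvPolynomial.X i) := by
    intro x hx
    let K := x.asIdeal.ResidueField
    let Ω := RatFunc K
    letI : Algebra k Ω := ((algebraMap K Ω).comp ((algebraMap R K).comp (algebraMap k R))).toAlgebra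
    let ι : R →ₐ[k] Ω := { (algebraMap K Ω).comp (algebraMap R K) with commutes' := fun c => rfl }
    let a : Fin n → Ω := fun i => ι (MvPolynomial.X i)
    have hιa : MvPolynomial.aeval a = ι := (MvPolynomial.aeval_unique ι).symm
    have ha : ∀ f ∈ I, MvPolynomial.aeval a f = 0 := by
      intro f hf
      rw [hιa]
      show algebraMap K Ω (algebraMap R K f) = 0
      rw [Ideal.algebraMap_residueField_eq_zero.mpr ((hmemZ x).mp hx hf), map_zero]
    have hmem : ∀ b : Fin n → Ω, (∀ f ∈ I, MvPolynomial.aeval b f = 0) ↔ Aux.pt b ∈ Z :=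
      fun b => (hmemZ (Aux.pt b)).symm
    have hstep : ∀ (b : Fin n → Ω), (∀ f ∈ I, MvPolynomial.aeval b f = 0) → ∀ i j, i ≠ j → ∀ d,
        ∀ f ∈ I, MvPolynomial.aeval (Function.update b i (b i + b j ^ d)) f = 0 := by
      intro b hb i j hij d
      rw [hmem, ← Aux.comap_shear_pt]
      exact hshear i j hij d _ ((hmem b).mp hb)
    have hiter : ∀ (b : Fin n → Ω), (∀ f ∈ I, MvPolynomial.aeval b f = 0) → ∀ i j, i ≠ j → ∀ m : ℕ,
        ∀ f ∈ I, MvPolynomial.aeval (Function.update b i (b i + m)) f = 0 := by
      intro b hb i j hij m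
      induction m with
      | zero => simpa using hb
      | succ m IH =>
        have h := hstep _ IH i j hij 0
        intro f hf
        simpa [add_assoc] using h f hf
    obtain ⟨p, hp⟩ := CharP.exists k
    haveI := hp
    haveI : CharP Ω p := charP_of_injective_ringHom (algebraMap k Ω).injective p
    haveI : Nontrivial (Fin n) := Fin.nontrivial_iff_two_le.mpr hn
    rcases CharP.char_is_prime_or_zero k p with hprime | rfl
    swap
    · exfalso
      haveI : CharZero Ω := CharP.charP_to_charZero Ω
      haveI : Infinite Ω := Infinite.of_injective ((↑) : ℕ → Ω) Nat.cast_injective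
      apply hI
      refine Aux.ideal_eq_bot hn I (Set.univ : Set Ω) Set.infinite_univ ?_ a ha ⟨0, by omega⟩ trivial
      intro b hb i j hij _ f hf t
      refine Aux.key_poly b i f (Set.range fun m : ℕ => b i + (m : Ω))
        (Set.infinite_range_of_injective fun m m' h => by simpa using h) ?_ t
      rintro _ ⟨m, rfl⟩
      exact hiter b hb i j hij m f hf
    haveI := Fact.mk hprime
    refine ⟨p, hprime, hp, ?_⟩
    by_contra hcon
    push Not at hcon
    obtain ⟨j, hj⟩ := hcon
    apply hI
    let Tr : Set Ω := {t | ∀ m : ℕ, 0 < m → t ^ p ^ m ≠ t}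
    have hTrinf : Tr.Infinite := by
      have hinj : Function.Injective fun d : ℕ => (RatFunc.X : Ω) ^ (d + 1) := by
        intro d d' h
        have h' : (algebraMap (Polynomial K) Ω) (Polynomial.X ^ (d + 1)) =
            algebraMap (Polynomial K) Ω (Polynomial.X ^ (d' + 1)) := by
          rw [map_pow, map_pow, RatFunc.algebraMap_X]
          exact h
        have := congrArg Polynomial.natDegree (RatFunc.algebraMap_injective K h')
        simpa using this
      refine (Set.infinite_range_of_injective hinj).mono ?_
      rintro _ ⟨d, rfl⟩ m hm h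
      have h1 : (d + 1) * p ^ m - 1 = d := by
        apply hinj
        show (RatFunc.X : Ω) ^ ((d + 1) * p ^ m - 1 + 1) = RatFunc.X ^ (d + 1)
        have h2 : 1 ≤ (d + 1) * p ^ m :=
          Nat.one_le_iff_ne_zero.mpr (Nat.mul_ne_zero (by omega) (pow_ne_zero _ hprime.ne_zero))
        rw [Nat.sub_add_cancel h2, pow_mul]
        exact h
      have h3 : (d + 1) * 2 ≤ (d + 1) * p ^ m :=
        Nat.mul_le_mul_left _ (hprime.two_le.trans (Nat.le_self_pow hm.ne' p))
      omega
    refine Aux.ideal_eq_bot hn I Tr hTrinf ?_ a ha j ?_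
    · intro b hb i l hil hl f hf t
      refine Aux.key_poly b i f (Set.range fun d : ℕ => b i + b l ^ d)
        (Set.infinite_range_of_injective fun d d' h => ?_) ?_ t
      · by_contra hne
        have h' : b l ^ d = b l ^ d' := add_left_cancel h
        obtain ⟨m, hm, hfix⟩ : ∃ m, 0 < m ∧ b l ^ p ^ m = b l := by
          rcases eq_or_ne (b l) 0 with h0 | h0
          · exact ⟨1, one_pos, by simp [h0, hprime.ne_zero]⟩
          obtain ⟨N, hN, hN1⟩ : ∃ N, 0 < N ∧ b l ^ N = 1 := by
            rcases Nat.lt_or_gt_of_ne hne with hlt | hlt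
            · refine ⟨d' - d, by omega, ?_⟩
              rw [pow_sub₀ _ h0 hlt.le, ← h', mul_inv_cancel₀ (pow_ne_zero _ h0)]
            · refine ⟨d - d', by omega, ?_⟩
              rw [pow_sub₀ _ h0 hlt.le, h', mul_inv_cancel₀ (pow_ne_zero _ h0)]
          obtain ⟨e, N', hpN', rfl⟩ := Nat.exists_eq_pow_mul_and_not_dvd hN.ne' p hprime.ne_one
          have hN' : b l ^ N' = 1 := by
            have h2 : (b l ^ N') ^ p ^ e = (1 : Ω) ^ p ^ e := by
              rw [one_pow, ← pow_mul, mul_comm]; exact hN1
            exact iterateFrobenius_inj Ω p e (by simpa [iterateFrobenius_def] using h2)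
          have hN'0 : 0 < N' := Nat.pos_of_ne_zero fun h => hpN' (h ▸ dvd_zero p)
          refine ⟨N'.totient, Nat.totient_pos.mpr hN'0, ?_⟩
          have hcop : p.Coprime N' := hprime.coprime_iff_not_dvd.mpr hpN'
          have hmod : p ^ N'.totient % N' = 1 % N' := Nat.ModEq.pow_totient hcop
          rw [← Nat.div_add_mod (p ^ N'.totient) N', pow_add, pow_mul, hN', one_pow, one_mul, hmod]
          conv_rhs => rw [← pow_one (b l), ← Nat.div_add_mod 1 N', pow_add, pow_mul, hN', one_pow,
            one_mul]
        exact hl m hm hfix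
      · rintro _ ⟨d, rfl⟩
        exact hstep b hb i l hil d f hf
    · intro m hm h
      apply hj m hm
      apply (algebraMap K Ω).injective
      rw [map_pow]
      exact h
  have hZne : Z.Nonempty := by
    rw [Set.nonempty_iff_ne_empty]
    intro h
    apply htop
    apply TopologicalSpace.Opens.ext
    exact Set.compl_empty_iff.mp h
  obtain ⟨x₀, hx₀⟩ := hZne
  obtain ⟨p, hprime, hp, -⟩ := main x₀ hx₀
  have hroots : ∀ x ∈ Z, ∀ i : Fin n, ∃ m : ℕ, 0 < m ∧
      (algebraMap R x.asIdeal.ResidueField (MvPolynomial.X i)) ^ (p ^ m) =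
        algebraMap R x.asIdeal.ResidueField (MvPolynomial.X i) := by
    intro x hx
    obtain ⟨q, -, hq, h⟩ := main x hx
    rwa [CharP.eq k hp hq]
  have hmax : ∀ x ∈ Z, x.asIdeal.IsMaximal := by
    intro x hx
    have hint : Algebra.IsIntegral k (R ⧸ x.asIdeal) := by
      constructor
      intro y
      obtain ⟨f, rfl⟩ := Ideal.Quotient.mk_surjective y
      induction f using MvPolynomial.induction_on with
      | C c => exact (isIntegral_algebraMap (x := c))
      | add f g hf hg => rw [map_add]; exact hf.add hg
      | mul_X f i hf =>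
        rw [map_mul]
        refine hf.mul ?_
        obtain ⟨m, hm, hfix⟩ := hroots x hx i
        have h2 : 1 < p ^ m := Nat.one_lt_pow hm.ne' hprime.one_lt
        refine ⟨Polynomial.X ^ p ^ m - Polynomial.X, Polynomial.monic_X_pow_sub ?_, ?_⟩
        · rw [Polynomial.degree_X]; exact_mod_cast h2
        · simp only [Polynomial.eval₂_sub, Polynomial.eval₂_X_pow, Polynomial.eval₂_X]
          rw [sub_eq_zero, ← map_pow, Ideal.Quotient.mk_eq_mk_iff_sub_mem,
            ← Ideal.algebraMap_residueField_eq_zero, map_sub, map_pow, hfix, sub_self]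
    exact Ideal.Quotient.maximal_of_isField _
      (isField_of_isIntegral_of_isField' (Field.toIsField k))
  refine ⟨p, hprime, hp, ?_, fun x hx => ⟨?_, hroots x hx⟩⟩
  · refine ((Ideal.finite_minimalPrimes_of_isNoetherianRing _ I).preimage
      (f := PrimeSpectrum.asIdeal) (fun x _ y _ h => PrimeSpectrum.ext h)).subset ?_
    intro x hx
    refine ⟨⟨x.isPrime, (hmemZ x).mp hx⟩, fun q hq hqx => ?_⟩
    have hq' : (⟨q, hq.1⟩ : PrimeSpectrum R) ∈ Z := (hmemZ _).mpr hq.2
    exact ((hmax _ hq').eq_of_le x.isPrime.ne_top hqx).ge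
  · exact (PrimeSpectrum.isClosed_singleton_iff_isMaximal x).mpr (hmax x hx)

end Groth.Agent.S7451
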