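import Groth.Statements.S7453
import Groth.Agent.GrpdLib.StabTorsor

set_option backward.isDefEq.respectTransparency false
set_option backward.isDefEq.respectTransparency.types false
-- import your own Groth.Agent.* helpers here

set_option autoImplicit false
universe u
open CategoryTheory CategoryTheory.Limits AlgebraicGeometry
open Grpd

namespace Groth.Agent.S7453

/-- Let (U, R, s, t, c) be a groupoid scheme over S with U the spectrum of a field. Then R is a
separated scheme. (A groupoid scheme carries U, R, s, t, c, e, i over S with the groupoid axioms on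
T-points; c is defined on the fibre product of s and t and sends a pair (a, b) with s(a) = t(b) to a
composed with b.) -/
theorem result (S : Scheme.{u}) (G : Grpd.GroupoidScheme S) (k : Type u) [Field k] (eU : G.U ≅ Spec (CommRingCat.of k)) : G.R.IsSeparated := by
  have : Subsingleton G.U := eU.hom.homeomorph.subsingleton
  have : G.U.IsSeparated := by
    refine ⟨?_⟩
    rw [terminal.hom_ext (terminal.from G.U) (eU.hom ≫ terminal.from _)]
    infer_instance
  have hcl : IsClosedImmersion G.e := isClosedImmersion_of_comp_eq_id G.s G.e G.e_s
  have hT := GrpdLib.isPullback_snd_c G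
  let δ : G.R ⟶ pullback G.s G.t :=
    pullback.lift (G.t ≫ G.e) (𝟙 G.R) (by rw [Category.assoc, G.e_s, Category.comp_id, Category.id_comp])
  have hδ : δ ≫ hT.isoPullback.hom = pullback.diagonal G.s := by
    apply pullback.hom_ext
    · rw [Category.assoc, hT.isoPullback_hom_fst, pullback.diagonal_fst, pullback.lift_snd]
    · rw [Category.assoc, hT.isoPullback_hom_snd, pullback.diagonal_snd]
      exact (GrpdLib.c_congr G _ (congrArg (· ≫ G.e) (Category.id_comp G.t).symm |>.trans (Category.assoc _ _ _)) rfl).trans
        (G.e_comp (𝟙 G.R))
  have hpb : IsPullback G.t δ G.e (pullback.fst G.s G.t) := by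
    refine ⟨⟨(pullback.lift_fst ..).symm⟩, ⟨PullbackCone.IsLimit.mk _ (fun c => c.snd ≫ pullback.snd G.s G.t)
      (fun c => ?_) (fun c => ?_) fun c m hm₁ hm₂ => ?_⟩⟩
    · rw [Category.assoc, ← pullback.condition, ← reassoc_of% c.condition, G.e_s, Category.comp_id]
    · apply pullback.hom_ext
      · rw [Category.assoc, pullback.lift_fst, Category.assoc, ← pullback.condition_assoc,
          ← reassoc_of% c.condition, reassoc_of% G.e_s, c.condition]
      · rw [Category.assoc, pullback.lift_snd, Category.comp_id]
    · rw [← hm₂, Category.assoc, pullback.lift_snd, Category.comp_id]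
  have h' : IsClosedImmersion δ := MorphismProperty.of_isPullback (P := @IsClosedImmersion) hpb hcl
  have : IsSeparated G.s := ⟨by rw [← hδ]; infer_instance⟩
  refine ⟨?_⟩
  rw [terminal.hom_ext (terminal.from G.R) (G.s ≫ terminal.from G.U)]
  infer_instance
end Groth.Agent.S7453
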