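import Groth.Statements.S7457
import Groth.Agent.GrpdLib.StabTorsor

set_option backward.isDefEq.respectTransparency false
set_option backward.isDefEq.respectTransparency.types false
-- import your own Groth.Agent.* helpers here

set_option autoImplicit false
universe u
open CategoryTheory CategoryTheory.Limits AlgebraicGeometry
open Grpd

namespace Groth.Agent.S7457

/-- Let (U, R, s, t, c) be a groupoid scheme over S. Let φ : R x_(t,U,t) R -> R x_(s,U,t) R be the
morphism sending a pair (a, b) with the same target to (a, a^{-1} composed with b), that is, the
morphism whose first component is the first projection and whose second component is c applied to (i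
composed after the first projection, second projection). Then φ is an isomorphism and composed with
c it gives the second projection. Moreover the square with sides c, the second projection R
x_(s,U,t) R -> R, s and s is cartesian. (A groupoid scheme carries U, R, s, t, c, e, i over S with
the groupoid axioms on T-points; c is defined on the fibre product of s and t and sends a pair (a,
b) with s(a) = t(b) to a composed with b.) -/
theorem result (S : Scheme.{u}) (G : Grpd.GroupoidScheme S) : (∀ φ : pullback G.t G.t ⟶ pullback G.s G.t, φ ≫ pullback.fst G.s G.t = pullback.fst G.t G.t → φ ≫ pullback.snd G.s G.t = pullback.lift (pullback.fst G.t G.t ≫ G.i) (pullback.snd G.t G.t) ((Category.assoc _ _ _).trans ((congrArg (fun x => pullback.fst G.t G.t ≫ x) G.i_s).trans pullback.condition)) ≫ G.c → IsIso φ ∧ φ ≫ G.c = pullback.snd G.t G.t) ∧ IsPullback G.c (pullback.snd G.s G.t) G.s G.s := by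
  refine ⟨fun φ h₁ h₂ => ?_, (GrpdLib.isPullback_snd_c G).flip⟩
  have hh : pullback.fst G.t G.t ≫ G.i ≫ G.s = pullback.snd G.t G.t ≫ G.t := by
    rw [G.i_s]; exact pullback.condition
  have hc : φ ≫ G.c = pullback.snd G.t G.t := by
    have e : φ = pullback.lift (φ ≫ pullback.fst G.s G.t) (φ ≫ pullback.snd G.s G.t)
        (by rw [Category.assoc, Category.assoc, pullback.condition]) := by
      apply pullback.hom_ext <;> simp
    rw [e]
    refine (GrpdLib.c_congr G _ h₁ h₂).trans ?_
    rw [← G.assoc _ _ _ (by rw [Category.assoc, G.i_t])]
    refine (GrpdLib.c_congr G _ (G.comp_i _) rfl).trans ((GrpdLib.c_congr G _ ?_ rfl).trans (G.e_comp _))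
    rw [← Category.assoc, pullback.condition, Category.assoc]
  have h := GrpdLib.isPullback_fst_c G
  have e : φ = h.isoPullback.inv := by
    refine h.hom_ext ?_ ?_
    · rw [h₁, h.isoPullback_inv_fst]
    · rw [hc, h.isoPullback_inv_snd]
  exact ⟨e ▸ inferInstance, hc⟩
end Groth.Agent.S7457
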