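import Groth.Statements.S7459
import Groth.Agent.GrpSchLib.Shear

set_option autoImplicit false
universe u
open CategoryTheory MonoidalCategory CartesianMonoidalCategory MonObj GrpObj AlgebraicGeometry
open GrpSch

namespace Groth.Agent.S7459

/-- Let G be a group scheme over a field k, W an open subscheme of G and f : T -> G a morphism of
schemes (T becomes a k-scheme through f). Then the image of the composition T x_k W -> G x_k G -> G,
the second map being the multiplication, is open. -/
theorem result (K : Type u) [Field K] (G : Over (Spec (CommRingCat.of K))) [GrpObj G] (W : G.left.Opens) (T : Scheme.{u}) (f : T ⟶ G.left) : IsOpen (Set.range ⇑(((Over.homMk f rfl : Over.mk (f ≫ G.hom) ⟶ G) ⊗ₘ (Over.homMk W.ι rfl : Over.mk (W.ι ≫ G.hom) ⟶ G)) ≫ μ[G]).left) := by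
  let T' : Over (Spec (CommRingCat.of K)) := Over.mk (f ≫ G.hom)
  let ψ : T' ⟶ G := Over.homMk f rfl
  let i : Over.mk (W.ι ≫ G.hom) ⟶ G := Over.homMk W.ι rfl
  show IsOpen (Set.range ⇑((ψ ⊗ₘ i) ≫ μ[G]).left)
  have := Groth.Agent.GrpSchLib.universallyOpen_whiskerRight_mul ψ
  have sq : IsPullback (T' ◁ i) (snd T' _) (snd T' G) i :=
    IsPullback.of_isLimit' ⟨by simp⟩ (Limits.PullbackCone.IsLimit.mk _
      (fun s => lift (s.fst ≫ fst T' G) s.snd)
      (fun s => by
        apply CartesianMonoidalCategory.hom_ext
        · simp
        · simpa using s.condition.symm)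
      (fun s => by simp)
      (fun s m h1 h2 => by
        apply CartesianMonoidalCategory.hom_ext
        · rw [lift_fst, ← h1]; simp
        · simpa using h2))
  have : IsOpenImmersion i.left := inferInstanceAs (IsOpenImmersion W.ι)
  have : IsOpenImmersion (T' ◁ i).left :=
    MorphismProperty.of_isPullback (sq.map (Over.forget _)).flip this
  rw [tensorHom_def', Category.assoc, Over.comp_left]
  exact (Scheme.Hom.isOpenMap _).isOpen_range

end Groth.Agent.S7459
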