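import Groth.Statements.S7460
import Mathlib.AlgebraicGeometry.Pullbacks
import Mathlib.AlgebraicGeometry.PullbackCarrier


set_option autoImplicit false
universe u
open CategoryTheory CategoryTheory.Limits AlgebraicGeometry
open GrpSch

namespace Groth.Agent.S7460

open TensorProduct in
theorem exists_decomp {k : Type u} [Field k] {A : Type u} [CommRing A] [Algebra k A] (R : Type u) [CommRing R] [Algebra k R]
    (hA : ∀ s : Finset A, ∃ (B : Subalgebra k A) (n : ℕ), (↑s : Set A) ⊆ (B : Set A) ∧ Nonempty (B ≃ₐ[k] (Fin n → k)))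
    (g : A ⊗[k] R) : ∃ (n : ℕ) (e : Fin n → A) (r : Fin n → R), ∑ i, e i = 1 ∧
      ∀ i, g * (e i ⊗ₜ[k] (1 : R)) = e i ⊗ₜ[k] r i := by
  classical
  obtain ⟨S, hS⟩ := TensorProduct.exists_finset g
  obtain ⟨B, n, hsB, ⟨φ⟩⟩ := hA (S.image Prod.fst)
  let e : Fin n → A := fun i => (φ.symm (Pi.single i 1)).1
  have he : ∀ (i : Fin n) (a : A) (ha : a ∈ B), a * e i = (φ ⟨a, ha⟩ i) • e i := by
    intro i a ha
    have h1 : (⟨a, ha⟩ : B) * φ.symm (Pi.single i 1) = (φ ⟨a, ha⟩ i) • φ.symm (Pi.single i 1) := by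
      apply φ.injective
      rw [map_mul, map_smul, AlgEquiv.apply_symm_apply]
      funext j
      by_cases h : j = i
      · subst h; simp
      · simp [h]
    exact congrArg Subtype.val h1
  have hsum : ∑ i, e i = 1 := by
    have : ∑ i, φ.symm (Pi.single i (1 : k)) = 1 := by
      rw [← map_sum, Finset.univ_sum_single (fun _ => (1 : k))]
      exact map_one φ.symm
    have h2 := congrArg B.val this
    rw [map_sum, map_one] at h2
    exact h2
  have hmem : ∀ x ∈ S, x.1 ∈ B := fun x hx => hsB (Finset.mem_coe.mpr (Finset.mem_image_of_mem _ hx))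
  refine ⟨n, e, fun i => ∑ x : S, (φ ⟨x.1.1, hmem x.1 x.2⟩ i) • x.1.2, hsum, fun i => ?_⟩
  rw [hS, Finset.sum_mul, TensorProduct.tmul_sum, ← Finset.sum_coe_sort S]
  refine Finset.sum_congr rfl fun x _ => ?_
  rw [Algebra.TensorProduct.tmul_mul_tmul, _root_.mul_one, he i x.1.1 (hmem x.1 x.2), TensorProduct.smul_tmul]

theorem residue {k : Type u} [Field k] {A : Type u} [CommRing A] [Algebra k A]
    (hA : ∀ s : Finset A, ∃ (B : Subalgebra k A) (n : ℕ), (↑s : Set A) ⊆ (B : Set A) ∧ Nonempty (B ≃ₐ[k] (Fin n → k)))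
    (p : PrimeSpectrum A) : Function.Bijective (algebraMap k (A ⧸ p.asIdeal)) := by
  refine ⟨(algebraMap k (A ⧸ p.asIdeal)).injective, fun q => ?_⟩
  obtain ⟨a, rfl⟩ := Ideal.Quotient.mk_surjective q
  obtain ⟨n, e, r, hsum, he⟩ := exists_decomp k hA (a ⊗ₜ[k] (1 : k))
  obtain ⟨i, hi⟩ : ∃ i, e i ∉ p.asIdeal := by
    by_contra! h
    exact p.2.ne_top ((Ideal.eq_top_iff_one _).mpr (hsum ▸ sum_mem fun i _ => h i))
  refine ⟨r i, ?_⟩
  have h1 := congrArg (Algebra.TensorProduct.rid k k A) (he i)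
  simp only [Algebra.TensorProduct.tmul_mul_tmul, _root_.one_mul, Algebra.TensorProduct.rid_tmul, one_smul] at h1
  have h2 : a - algebraMap k A (r i) ∈ p.asIdeal := by
    refine (p.2.mem_or_mem (show e i * (a - algebraMap k A (r i)) ∈ p.asIdeal from ?_)).resolve_left hi
    rw [mul_sub, _root_.mul_comm (e i) a, h1, Algebra.smul_def, _root_.mul_comm (e i), sub_self]
    exact zero_mem _
  exact (Ideal.Quotient.eq.mpr h2).symm


/-- Let k be a field and A a k-algebra such that every finite subset of A is contained in a k-subalgebra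
isomorphic to a finite product of copies of k (that is, A is a directed colimit of finite products
of copies of k). Let X be a scheme over k. Then the map from the underlying space of Spec A x_k X to
the product of the underlying spaces of Spec A and X, given by the two projections, is a
homeomorphism. -/
theorem result (k : Type u) [Field k] (A : Type u) [CommRing A] [Algebra k A] (hA : ∀ s : Finset A, ∃ (B : Subalgebra k A) (n : ℕ), (↑s : Set A) ⊆ (B : Set A) ∧ Nonempty (B ≃ₐ[k] (Fin n → k))) (X : Scheme.{u}) (f : X ⟶ Spec (CommRingCat.of k)) : IsHomeomorph (fun p : ↑(pullback (Spec.map (CommRingCat.ofHom (algebraMap k A))) f) => (pullback.fst (Spec.map (CommRingCat.ofHom (algebraMap k A))) f p, pullback.snd (Spec.map (CommRingCat.ofHom (algebraMap k A))) f p)) := by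
  classical
  let σ : Spec (CommRingCat.of A) ⟶ Spec (CommRingCat.of k) := Spec.map (CommRingCat.ofHom (algebraMap k A))
  let P := pullback σ f
  let p₁ : P ⟶ Spec (CommRingCat.of A) := pullback.fst σ f
  let p₂ : P ⟶ X := pullback.snd σ f
  have hbij : Function.Bijective (fun p : ↑P => (p₁ p, p₂ p)) := by
    refine ⟨fun z w hzw => ?_, fun ⟨a, x⟩ => ?_⟩
    · let a : PrimeSpectrum A := p₁ z
      let eq := RingEquiv.ofBijective (algebraMap k (A ⧸ a.asIdeal)) (residue hA a)
      let φ : A →+* k := eq.symm.toRingHom.comp (Ideal.Quotient.mk a.asIdeal)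
      let s : Spec (CommRingCat.of k) ⟶ Spec (CommRingCat.of A) := Spec.map (CommRingCat.ofHom φ)
      have hs : s ≫ σ = 𝟙 _ := by
        rw [← Spec.map_comp, ← CommRingCat.ofHom_comp, ← Spec.map_id]
        congr 1
        ext c
        show eq.symm (Ideal.Quotient.mk a.asIdeal (algebraMap k A c)) = c
        rw [RingEquiv.symm_apply_eq]
        rfl
      let i : X ⟶ P := pullback.lift (f ≫ s) (𝟙 X) (by rw [Category.assoc, hs, Category.comp_id, Category.id_comp])
      have H : IsPullback i f p₁ s := by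
        have h1 : IsPullback (i ≫ p₂) f f (s ≫ σ) := by
          rw [hs, show i ≫ p₂ = 𝟙 X from pullback.lift_snd _ _ _]
          exact IsPullback.of_id_fst
        exact h1.of_right (pullback.lift_fst _ _ _) (IsPullback.of_hasPullback σ f).flip
      have hsa : s (IsLocalRing.closedPoint k) = a := by
        apply PrimeSpectrum.ext
        show Ideal.comap φ (IsLocalRing.maximalIdeal k) = a.asIdeal
        rw [IsLocalRing.maximalIdeal_eq_bot]
        ext y
        rw [Ideal.mem_comap, Ideal.mem_bot]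
        show eq.symm (Ideal.Quotient.mk a.asIdeal y) = 0 ↔ _
        rw [RingEquiv.map_eq_zero_iff, Ideal.Quotient.eq_zero_iff_mem]
      have key : ∀ v : ↑P, p₁ v = a → i (p₂ v) = v := by
        intro v hv
        obtain ⟨x, hx, -⟩ := Scheme.exists_preimage_of_isPullback H v (IsLocalRing.closedPoint k) (hv.trans hsa.symm)
        rw [← hx]
        congr 1
        rw [← Scheme.Hom.comp_apply, show i ≫ p₂ = 𝟙 X from pullback.lift_snd _ _ _]
        rfl
      rw [← key z rfl, ← key w (congrArg Prod.fst hzw).symm]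
      exact congrArg i (congrArg Prod.snd hzw)
    · haveI : Subsingleton ↥(Spec (CommRingCat.of k)) := inferInstanceAs (Subsingleton (PrimeSpectrum k))
      obtain ⟨z, h1, h2⟩ := Scheme.Pullback.exists_preimage_pullback (f := σ) (g := f) a x (Subsingleton.elim _ _)
      exact ⟨z, Prod.ext h1 h2⟩
  have hcont : Continuous (fun p : ↑P => (p₁ p, p₂ p)) := p₁.continuous.prodMk p₂.continuous
  refine ⟨hcont, fun W hW => ?_, hbij⟩
  rw [isOpen_iff_mem_nhds]
  rintro _ ⟨z, hzW, rfl⟩
  obtain ⟨x', hx'⟩ := X.affineOpenCover.covers (p₂ z)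
  let R := X.affineOpenCover.X (X.affineOpenCover.idx (p₂ z))
  let j : Spec R ⟶ X := X.affineOpenCover.f (X.affineOpenCover.idx (p₂ z))
  haveI : IsOpenImmersion j := X.affineOpenCover.map_prop _
  obtain ⟨sR, hsR⟩ := Spec.map_surjective (j ≫ f)
  letI : Algebra k R := sR.hom.toAlgebra
  let ρ : Spec R ⟶ Spec (CommRingCat.of k) := Spec.map (CommRingCat.ofHom (algebraMap k R))
  let m := pullback.map σ ρ σ f (𝟙 _) j (𝟙 _) (by simp) (by rw [Category.comp_id]; exact (show ρ = j ≫ f from hsR))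
  let v : Spec (CommRingCat.of (TensorProduct k A R)) ⟶ P := (pullbackSpecIso k A R).inv ≫ m
  have hv1 : v ≫ p₁ = Spec.map (CommRingCat.ofHom (Algebra.TensorProduct.includeLeftRingHom (R := k) (A := A) (B := R))) :=
    ((Category.assoc _ _ _).trans (congrArg ((pullbackSpecIso k A R).inv ≫ ·)
      ((pullback.lift_fst _ _ _).trans (Category.comp_id _)))).trans (pullbackSpecIso_inv_fst k A R)
  have hv2 : v ≫ p₂ = Spec.map (CommRingCat.ofHom (Algebra.TensorProduct.includeRight (R := k) (A := A) (B := R)).toRingHom) ≫ j :=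
    ((Category.assoc _ _ _).trans (congrArg ((pullbackSpecIso k A R).inv ≫ ·)
      (pullback.lift_snd _ _ _))).trans ((Category.assoc _ _ _).symm.trans (congrArg (· ≫ j) (pullbackSpecIso_inv_snd k A R)))
  have hhv : (pullbackSpecIso k A R).hom ≫ v = m := Iso.hom_inv_id_assoc _ _
  obtain ⟨u, hu⟩ : z ∈ Set.range v := by
    have hm : z ∈ Set.range m := by
      rw [Scheme.Pullback.range_map]
      exact ⟨⟨p₁ z, rfl⟩, ⟨x', hx'⟩⟩
    obtain ⟨y, hy⟩ := hm
    refine ⟨(pullbackSpecIso k A R).hom y, ?_⟩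
    exact (congrArg (fun r => r y) hhv).trans hy
  obtain ⟨_, ⟨g, rfl⟩, hug, hgW⟩ := PrimeSpectrum.isTopologicalBasis_basic_opens.exists_subset_of_mem_open
    (show u ∈ v ⁻¹' W by rw [Set.mem_preimage, hu]; exact hzW) (hW.preimage v.continuous)
  obtain ⟨n, e, r, hsum, he⟩ := exists_decomp R hA g
  let iA : A →+* TensorProduct k A R := Algebra.TensorProduct.includeLeftRingHom
  let iR : (R : Type u) →+* TensorProduct k A R := (Algebra.TensorProduct.includeRight : R →ₐ[k] TensorProduct k A R).toRingHom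
  have he' : ∀ l, g * iA (e l) = iA (e l) * iR (r l) := fun l => by
    refine (he l).trans ?_
    show _ = (e l ⊗ₜ[k] (1 : R)) * ((1 : A) ⊗ₜ[k] r l)
    simp
  obtain ⟨l, hl⟩ : ∃ l, iA (e l) ∉ u.asIdeal := by
    by_contra! h
    exact u.2.ne_top ((Ideal.eq_top_iff_one _).mpr (map_one iA ▸ hsum ▸ map_sum iA e Finset.univ ▸ sum_mem fun i _ => h i))
  have hr : iR (r l) ∉ u.asIdeal := fun h => by
    refine (u.2.mem_or_mem (show g * iA (e l) ∈ u.asIdeal from ?_)).elim hug hl
    rw [he']
    exact Ideal.mul_mem_left _ _ h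
  have hpu1 : p₁ z = PrimeSpectrum.comap iA u := by
    rw [← hu, ← Scheme.Hom.comp_apply, hv1]; rfl
  have hpu2 : p₂ z = j (PrimeSpectrum.comap iR u) := by
    rw [← hu, ← Scheme.Hom.comp_apply, hv2]; rfl
  refine Filter.mem_of_superset (prod_mem_nhds ((PrimeSpectrum.basicOpen (e l)).isOpen.mem_nhds (show p₁ z ∈ _ by rw [hpu1]; exact hl))
    ((j.isOpenEmbedding.isOpenMap _ (PrimeSpectrum.basicOpen (r l)).isOpen).mem_nhds ⟨_, hr, hpu2.symm⟩)) ?_
  rintro ⟨a, x⟩ ⟨ha, y, hy, rfl⟩
  obtain ⟨z', hz'⟩ := hbij.2 (a, j y)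
  obtain ⟨u', hu'⟩ : z' ∈ Set.range v := by
    have hm : z' ∈ Set.range m := by
      rw [Scheme.Pullback.range_map]
      exact ⟨⟨p₁ z', rfl⟩, ⟨y, (congrArg Prod.snd hz').symm⟩⟩
    obtain ⟨y', hy'⟩ := hm
    refine ⟨(pullbackSpecIso k A R).hom y', ?_⟩
    exact (congrArg (fun r => r y') hhv).trans hy'
  have h1 : PrimeSpectrum.comap iA u' = a := by
    have : p₁ z' = a := congrArg Prod.fst hz'
    rw [← hu', ← Scheme.Hom.comp_apply, hv1] at this
    exact this
  have h2 : PrimeSpectrum.comap iR u' = y := by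
    apply j.isOpenEmbedding.injective
    have : p₂ z' = j y := congrArg Prod.snd hz'
    rw [← hu', ← Scheme.Hom.comp_apply, hv2] at this
    exact this
  refine ⟨z', hu' ▸ hgW ?_, hz'⟩
  intro hg
  have h3 : iA (e l) * iR (r l) ∈ u'.asIdeal := by
    rw [← he']
    exact Ideal.mul_mem_right _ _ hg
  rcases u'.2.mem_or_mem h3 with h | h
  · exact ha (by rw [← h1]; exact h)
  · exact hy (by rw [← h2]; exact h)


end Groth.Agent.S7460
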