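import Groth.Statements.S7463
import Groth.Agent.GrpdLib.SubGroupoid

set_option backward.isDefEq.respectTransparency false
set_option backward.isDefEq.respectTransparency.types false
-- import your own Groth.Agent.* helpers here

set_option autoImplicit false
universe u
open CategoryTheory CategoryTheory.Limits AlgebraicGeometry
open Grpd

namespace Groth.Agent.S7463

/-- Consider a groupoid scheme (U, R, s, t, c) over S in which U is the spectrum of a field, and write Z
for the closure of the image of the morphism j = (t, s) : R -> U x_S U. Then, set-theoretically,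
pr_02 carries Z x_(pr_1,U,pr_0) Z into Z: given the morphism pr_02 from (U x_S U) x_(pr_1,U,pr_0) (U
x_S U) to U x_S U, whose components are pr_0 of the first factor and pr_1 of the second, any point
both of whose projections land in Z is mapped to a point of Z. (A groupoid scheme consists of U, R,
s, t, c, e, i over S satisfying the groupoid axioms on T-points; c is defined on the fibre product
of s and t and takes a pair (a, b) with s(a) = t(b) to the composite of a with b.) -/
theorem result (S : Scheme.{u}) (G : Grpd.GroupoidScheme S) (k : Type u) [Field k] (eU : G.U ≅ Spec (CommRingCat.of k)) (pr02 : pullback (pullback.snd G.pU G.pU) (pullback.fst G.pU G.pU) ⟶ pullback G.pU G.pU) (h0 : pr02 ≫ pullback.fst G.pU G.pU = pullback.fst (pullback.snd G.pU G.pU) (pullback.fst G.pU G.pU) ≫ pullback.fst G.pU G.pU) (h1 : pr02 ≫ pullback.snd G.pU G.pU = pullback.snd (pullback.snd G.pU G.pU) (pullback.fst G.pU G.pU) ≫ pullback.snd G.pU G.pU) (p : ↑(pullback (pullback.snd G.pU G.pU) (pullback.fst G.pU G.pU))) (h₁ : pullback.fst (pullback.snd G.pU G.pU) (pullback.fst G.pU G.pU) p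 ∈ closure (Set.range ⇑G.j)) (h₂ : pullback.snd (pullback.snd G.pU G.pU) (pullback.fst G.pU G.pU) p ∈ closure (Set.range ⇑G.j)) : pr02 p ∈ closure (Set.range ⇑G.j) :=  by
  have : IsIso (Groth.Agent.GrpdLib.jHom G).fU := inferInstanceAs (IsIso (𝟙 G.U))
  have hc : pr02 = (Groth.Agent.GrpdLib.pairGpd G.pU).c := by
    refine pullback.hom_ext (h0.trans ?_) (h1.trans ?_)
    · exact (pullback.lift_fst _ _ _).symm
    · exact (pullback.lift_snd _ _ _).symm
  rw [hc]
  exact Groth.Agent.GrpdLib.comp_mem_closure (G₂ := Groth.Agent.GrpdLib.pairGpd G.pU) k eU (Groth.Agent.GrpdLib.jHom G) p h₁ h₂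
end Groth.Agent.S7463
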