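import Groth.Statements.S7469
import Groth.Agent.HTopCov.Misc
-- import your own Groth.Agent.* helpers here

set_option autoImplicit false
universe w u
open HTop

namespace Groth.Agent.S7469

open CategoryTheory CategoryTheory.Limits AlgebraicGeometry in
/-- The base change of a standard V covering along a morphism of affine schemes T' -> T is a standard V
covering of T'. -/
theorem result {T T' : Scheme.{u}} [IsAffine T'] (g : T' ⟶ T) (E : PreZeroHypercover.{w} T) (hE : HTop.IsStandardV E) : HTop.IsStandardV (E.pullback₁ g) := Groth.Agent.HTopCov.standardV_pullback₁ g E hE

end Groth.Agent.S7469
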