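import Groth.Statements.S7471
import Groth.Agent.HTopCov.Misc
-- import your own Groth.Agent.* helpers here

set_option autoImplicit false
universe w u
open HTop

namespace Groth.Agent.S7471

open CategoryTheory CategoryTheory.Limits AlgebraicGeometry in
/-- If E is a V covering of T and T' -> T is any morphism of schemes, then the family of base changes T'
x_T T_i -> T' is a V covering of T'. -/
theorem result {T T' : Scheme.{u}} (g : T' ⟶ T) (E : PreZeroHypercover.{w} T) (hE : HTop.IsVCover E) : HTop.IsVCover (E.pullback₁ g) := Groth.Agent.HTopCov.isVCover_pullback₁ g E hE

end Groth.Agent.S7471
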