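import Groth.Statements.S7472
import Groth.Agent.HTopCov.Misc
-- import your own Groth.Agent.* helpers here

set_option autoImplicit false
universe w u
open HTop

namespace Groth.Agent.S7472

open CategoryTheory CategoryTheory.Limits AlgebraicGeometry in
/-- Let E be a V covering of a scheme T and, for every member T_i of E, let F_i be a V covering of T_i.
Then the composite family of all T_ij -> T is a V covering of T. -/
theorem result {T : Scheme.{u}} (E : PreZeroHypercover.{w} T) (hE : HTop.IsVCover E) (F : ∀ i, PreZeroHypercover.{w} (E.X i)) (hF : ∀ i, HTop.IsVCover (F i)) : HTop.IsVCover (E.bind F) := Groth.Agent.HTopCov.isVCover_bind E hE F hF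

end Groth.Agent.S7472
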