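import Groth.Statements.S7473
import Groth.Agent.HTopCov.Misc
-- import your own Groth.Agent.* helpers here

set_option autoImplicit false
universe u
open HTop

namespace Groth.Agent.S7473

open CategoryTheory CategoryTheory.Limits AlgebraicGeometry in
/-- An fpqc covering of a scheme T is a V covering. (Here an fpqc covering is a family in Mathlib's fpqc
precoverage: flat, jointly surjective, and every affine open of T is the union of the images of
finitely many quasi-compact opens of the members. The further clauses for fppf, syntomic, smooth,
étale and Zariski coverings follow because those coverings are fpqc coverings; the clause for ph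
coverings is the standard ph statement applied over each affine open.) -/
theorem result {T : Scheme.{u}} : ∀ 𝒰 : Scheme.Cover Scheme.fpqcPrecoverage T, HTop.IsVCover 𝒰.toPreZeroHypercover := fun 𝒰 => haveI : QuasiCompactCover 𝒰.toPreZeroHypercover := Scheme.presieve₀_mem_qcPrecoverage_iff.mp 𝒰.mem₀.1; Groth.Agent.HTopCov.isVCover_of_qc _ (fun i => (Groth.Agent.HTopCov.fpqc_mem_iff _ |>.mp 𝒰.mem₀).2.2 ⟨i⟩)

end Groth.Agent.S7473
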