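import Groth.Statements.S7475
import Groth.Agent.HTopCov.Sheaf
import Groth.Agent.HTopCov.Misc
-- import your own Groth.Agent.* helpers here

set_option autoImplicit false
universe w u
open HTop

namespace Groth.Agent.S7475

open CategoryTheory CategoryTheory.Limits AlgebraicGeometry in
/-- Variant with a single arrow: a presheaf of sets on all schemes has the sheaf property for every V
covering family exactly when it is a Zariski sheaf and has the sheaf property for every morphism V
-> U of affine schemes that on its own forms a standard V covering. -/
theorem result (F : Scheme.{u}ᵒᵖ ⥤ Type w) : HTop.IsVSheaf F ↔ (Presieve.IsSheaf Scheme.zariskiTopology F ∧ ∀ (U V : Scheme.{u}) (f : V ⟶ U), HTop.IsStandardV (PreZeroHypercover.singleton f) → Presieve.IsSheafFor F (Presieve.singleton f)) := Groth.Agent.HTopCov.isVSheaf_iff_singleton F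

end Groth.Agent.S7475
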