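import Groth.Statements.S7485
import Groth.Agent.DescLib.DescFinite
import Groth.Agent.AmpleX.FiniteSet
import Groth.Agent.AmpleX.Separated

set_option autoImplicit false
set_option backward.isDefEq.respectTransparency false
set_option backward.isDefEq.respectTransparency.types false
open CategoryTheory CategoryTheory.Limits AlgebraicGeometry
universe u
open Desc

namespace Groth.Agent.S7485

/-- Let p : X -> Y be a surjective finite locally free morphism and V a scheme over X which has an ample
invertible module. Then every descent datum on V relative to p is effective. (Descent data are taken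
in functor-of-points form.) -/
theorem result {X Y : Scheme.{u}} (p : X ⟶ Y) [Surjective p] [IsFinite p] [Flat p] [LocallyOfFinitePresentation p] (D : Desc.SchDD p) (L : D.obj.left.Modules) (hL : CohB1.IsAmple L) : ∃ W : Over Y, Nonempty ((Desc.toDD p).obj W ≅ D) := by
  refine DescLib.effective_of_orbits p D fun v => ?_
  haveI : IsFinite (pullback.fst (DescLib.IndQA.sv p D) p) := MorphismProperty.pullback_fst _ _ inferInstance
  haveI : CompactSpace D.obj.left := hL.2.1
  haveI := AmpleX.isSeparated_of_isAmple hL
  obtain ⟨n, s, hs, -, haff⟩ := AmpleX.exists_finite_nhd hL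
    (((pullback.fst (DescLib.IndQA.sv p D) p).finite_preimage_singleton v).image (DescLib.IndQA.d₁ p D))
    (U := ⊤) (fun _ _ => trivial)
  exact ⟨_, haff, fun r hr => hs ⟨r, hr, rfl⟩⟩

end Groth.Agent.S7485
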