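import Groth.Statements.S7486
import Groth.Agent.GrpdLib.Basis

set_option backward.isDefEq.respectTransparency false
set_option backward.isDefEq.respectTransparency.types false
-- import your own Groth.Agent.* helpers here

set_option autoImplicit false
universe u
open CategoryTheory CategoryTheory.Limits AlgebraicGeometry
open Grpd

namespace Groth.Agent.S7486

/-- Let (U, R, s, t, c) be a groupoid scheme over S with U = Spec A and R = Spec B affine (A, B the
rings of global functions), and let x_i, i in I, be elements of A such that B is free as an A-module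
through s^# with basis the elements t^#(x_i). Let C be the subring of R-invariant functions (those a
with s^#(a) = t^#(a)). Then the x_i form a basis of A as a C-module, and the C-linear map A (x)_C A
-> B sending a (x) a' to t^#(a) s^#(a') is bijective (B carries the C-module structure through s^#).
(A groupoid scheme carries U, R, s, t, c, e, i over S with the groupoid axioms on T-points; c is
defined on the fibre product of s and t and sends a pair (a, b) with s(a) = t(b) to a composed with
b.) -/
theorem result (S : Scheme.{u}) (G : Grpd.GroupoidScheme S) [IsAffine G.U] [IsAffine G.R] (I : Type u) (x : I → Γ(G.U, ⊤)) (hB : letI := G.s.appTop.hom.toAlgebra; ∃ b : Module.Basis I Γ(G.U, ⊤) Γ(G.R, ⊤), ∀ i, b i = G.t.appTop.hom (x i)) : (∃ b : Module.Basis I G.invariants Γ(G.U, ⊤), ∀ i, b i = x i) ∧ (letI := (G.s.appTop.hom.comp G.invariants.subtype).toAlgebra; ∀ φ : TensorProduct G.invariants Γ(G.U, ⊤) Γ(G.U, ⊤) →ₗ[G.invariants] Γ(G.R, ⊤), (∀ a a' : Γ(G.U, ⊤), φ (a ⊗ₜ[G.invariants] a') = G.t.appTop.hom a * G.s.appTop.hom a') → Function.Bijective φ) :=   ⟨(Groth.Agent.GrpdLib.affData G).exists_basis x G.invariants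 (fun _ => Iff.rfl) hB,
    (Groth.Agent.GrpdLib.affData G).bijective_of_basis x G.invariants (fun _ => Iff.rfl) hB⟩
end Groth.Agent.S7486
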