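import Groth.Statements.S7487
import Groth.Agent.GrpdLib.InvBC7
-- import your own Groth.Agent.* helpers here

set_option autoImplicit false
set_option backward.isDefEq.respectTransparency false
set_option backward.isDefEq.respectTransparency.types false
universe u
open CategoryTheory CategoryTheory.Limits AlgebraicGeometry
open Grpd

namespace Groth.Agent.S7487

attribute [local instance] GrpdLib.AffData.algB in
open TensorProduct in
theorem invBC_gen (D : GrpdLib.AffData.{u}) (K : Subring D.A) (hK : ∀ a, a ∈ K ↔ D.s a = D.t a)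
    (C' : Type u) [CommRing C'] [Algebra K C'] {n : ℕ} (F : GrpdLib.Frame D.s n)
    (hsurj : Function.Surjective (PrimeSpectrum.comap (algebraMap K D.A)))
    (sT tT : D.A ⊗[K] C' →ₐ[K] D.B ⊗[K] C') (hs : ∀ a c, sT (a ⊗ₜ c) = D.s a ⊗ₜ c)
    (ht : ∀ a c, tT (a ⊗ₜ c) = D.t a ⊗ₜ c) :
    (∀ f : D.A ⊗[K] C', sT f = tT f → ∃ (n : ℕ) (P : Polynomial C'), 0 < n ∧
      Polynomial.map (Algebra.TensorProduct.includeRight : C' →ₐ[K] D.A ⊗[K] C').toRingHom P =
        (Polynomial.X - Polynomial.C f) ^ n) ∧
    (∀ c : C', (Algebra.TensorProduct.includeRight : C' →ₐ[K] D.A ⊗[K] C') c = 0 → IsNilpotent c) ∧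
    (Module.Flat K C' → Function.Injective (Algebra.TensorProduct.includeRight : C' →ₐ[K] D.A ⊗[K] C') ∧
      ∀ f : D.A ⊗[K] C', sT f = tT f →
        f ∈ Set.range (Algebra.TensorProduct.includeRight : C' →ₐ[K] D.A ⊗[K] C')) := by
  have h1 : sT = Algebra.TensorProduct.map (D.sK K) (AlgHom.id K C') :=
    Algebra.TensorProduct.ext' fun a c => by rw [hs]; rfl
  have h2 : tT = Algebra.TensorProduct.map (D.tK K hK) (AlgHom.id K C') :=
    Algebra.TensorProduct.ext' fun a c => by rw [ht]; rfl
  subst h1 h2
  refine ⟨fun f hf => GrpdLib.AffData.exists_pow_eq D K hK C' F f hf,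
    fun c hc => GrpdLib.AffData.isNilpotent_of_includeRight_eq_zero hsurj C' c hc,
    fun hflat => ⟨Algebra.TensorProduct.includeRight_injective Subtype.val_injective, fun f hf => ?_⟩⟩
  obtain ⟨r, hr⟩ := D.mem_range_includeRight K hK C' f hf
  exact ⟨r, hr⟩

/-- Let (U, R, s, t, c) be a groupoid scheme over S with U = Spec A and R = Spec B affine and s, t
finite locally free; let C be the subring of R-invariant functions of A and C -> C' a ring map. Put
A' = A (x)_C C' and B' = B (x)_C C' (B a C-algebra through s^#) and let C^1 be the subring of A'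
where the two maps s^# (x) 1, t^# (x) 1 : A' -> B' agree; the structure map C' -> A' lands in C^1,
giving φ : C' -> C^1. Then: (a) for every f in C^1 there are n > 0 and a polynomial P over C' whose
image in A'[x] is (x - f)^n; (b) every element of the kernel of φ is nilpotent; (c) if C -> C' is
flat then φ is bijective, that is C' -> A' is injective with image C^1. (The published statement
also asserts that the base change is again a groupoid scheme; this row omits that clause.) (A
groupoid scheme carries U, R, s, t, c, e, i over S with the groupoid axioms on T-points; c is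
defined on the fibre product of s and t and sends a pair (a, b) with s(a) = t(b) to a composed with
b.) -/
theorem result (S : Scheme.{u}) (G : Grpd.GroupoidScheme S) [IsAffine G.U] [IsAffine G.R] [IsFinite G.s] [Flat G.s] [LocallyOfFinitePresentation G.s] [IsFinite G.t] [Flat G.t] [LocallyOfFinitePresentation G.t] (C' : Type u) [CommRing C'] [Algebra G.invariants C'] : letI : Algebra G.invariants Γ(G.R, ⊤) := (G.s.appTop.hom.comp G.invariants.subtype).toAlgebra; ∀ (sT tT : TensorProduct G.invariants Γ(G.U, ⊤) C' →ₐ[G.invariants] TensorProduct G.invariants Γ(G.R, ⊤) C'), (∀ (a : Γ(G.U, ⊤)) (c : C'), sT (a ⊗ₜ c) = G.s.appTop.hom a ⊗ₜ c) → (∀ (a : Γ(G.U, ⊤)) (c : C'), tT (a ⊗ₜ c) = G.t.appTop.hom a ⊗ₜ c) → (∀ f : TensorProduct G.invariants Γ(G.U, ⊤) C', sT f = tT f → ∃ (n : ℕ) (P : Polynomial C'), 0 < n ∧ Polynomial.map (Algebra.TensorProduct.includeRight : C' →ₐ[G.invariants] TensorProduct G.invariants Γ(G.U, ⊤) C').toRingHom P = (Polynomial.X - Polynomial.C f) ^ n) ∧ (∀ c : C', (Algebra.TensorProduct.includeRight : C' →ₐ[G.invariants]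 TensorProduct G.invariants Γ(G.U, ⊤) C') c = 0 → IsNilpotent c) ∧ (Module.Flat G.invariants C' → Function.Injective (Algebra.TensorProduct.includeRight : C' →ₐ[G.invariants] TensorProduct G.invariants Γ(G.U, ⊤) C') ∧ ∀ f : TensorProduct G.invariants Γ(G.U, ⊤) C', sT f = tT f → f ∈ Set.range (Algebra.TensorProduct.includeRight : C' →ₐ[G.invariants] TensorProduct G.invariants Γ(G.U, ⊤) C')) := by
  intro sT tT hs ht
  obtain ⟨n, ⟨F⟩⟩ := GrpdLib.exists_frame_affData G
  have h := @invBC_gen (GrpdLib.affData G) G.invariants (GrpdLib.mem_invariants_iff G) C' _ ‹_› n F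
    (GrpdLib.surjective_comap_invariants (G := G))
  exact h sT tT hs ht

end Groth.Agent.S7487
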