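import Groth.Statements.S7489
import Groth.Agent.GrpSchLib.FieldAllComp
import Groth.Agent.GrpSchLib.HomFlatLft
import Groth.Agent.GrpSchLib.AntiAffineHom
import Groth.Agent.SchTop.ZeroDim
import Mathlib.AlgebraicGeometry.Morphisms.Integral
import Mathlib.FieldTheory.IsAlgClosed.Basic
import Mathlib.Topology.JacobsonSpace
-- import your own Groth.Agent.* helpers here

set_option autoImplicit false
universe u
open CategoryTheory MonoidalCategory CartesianMonoidalCategory MonObj GrpObj AlgebraicGeometry
open GrpSch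

namespace Groth.Agent.S7489

open CategoryTheory Limits AlgebraicGeometry MonoidalCategory CartesianMonoidalCategory MonObj GrpObj
open TopologicalSpace
open Groth.Agent.GrpSchLib
open Groth.Agent.GrpSchLib.HomFlatLft (rTrans)

variable {k : Type u} [Field k]

/-- The residue rings of an algebra of locally constant functions are the ground field. -/
lemma surjective_quotient [IsAlgClosed k] {A : Type u} [CommRing A] [Algebra k A]
    (hA : ∀ s : Finset A, ∃ (B : Subalgebra k A) (n : ℕ), (↑s : Set A) ⊆ (B : Set A) ∧ Nonempty (B ≃ₐ[k] (Fin n → k)))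
    (p : Ideal A) [p.IsPrime] : Function.Bijective (algebraMap k (A ⧸ p)) := by
  have hint : Algebra.IsIntegral k A := ⟨fun a => by
    obtain ⟨B, n, hs, ⟨e⟩⟩ := hA {a}
    haveI : Module.Finite k B := Module.Finite.equiv e.symm.toLinearEquiv
    have ha : a ∈ B := hs (by simp)
    exact (Algebra.IsIntegral.isIntegral (R := k) (⟨a, ha⟩ : B)).map B.val⟩
  haveI : Algebra.IsIntegral k (A ⧸ p) := ⟨fun x => by
    obtain ⟨a, rfl⟩ := Ideal.Quotient.mk_surjective x
    exact (Algebra.IsIntegral.isIntegral (R := k) a).map (Ideal.Quotient.mkₐ k p)⟩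
  exact IsAlgClosed.algebraMap_bijective_of_isIntegral

/-- Affine opens can be merged into one which contains all their generic points. -/
lemma exists_affine_maxPts (G : Over (Spec (CommRingCat.of k))) [GrpObj G] {J : Type*} (s : Finset J)
    (U : J → G.left.Opens) (hU : ∀ i ∈ s, IsAffineOpen (U i)) :
    ∃ W : G.left.Opens, IsAffineOpen W ∧ ∀ i ∈ s, ∀ c ∈ U i, IsMaxPt c → c ∈ W := by
  classical
  induction s using Finset.induction_on with
  | empty => exact ⟨⊥, isAffineOpen_bot _, by simp⟩
  | insert i s hi ih =>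
    obtain ⟨W, hW, hWp⟩ := ih fun j hj => hU j (Finset.mem_insert_of_mem hj)
    have hclopen : IsClopen (hull (W : Set G.left)) := ⟨isClosed_hull W.2 hW.isCompact, isOpen_hull W.2⟩
    let S : G.left.Opens := ⟨(hull (W : Set G.left))ᶜ, hclopen.1.isOpen_compl⟩
    have hUS : IsAffineOpen (U i ⊓ S) :=
      SchTop.isAffineOpen_inf_of_isClopen (hU i (Finset.mem_insert_self i s)) hclopen.compl
    have hd : Disjoint W (U i ⊓ S) := by
      rw [disjoint_iff_inf_le]
      intro x hx
      exact hx.2.2 ⟨x, hx.1, specializes_rfl⟩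
    refine ⟨W ⊔ (U i ⊓ S), IsAffineOpen.sup_of_disjoint hW hUS hd, fun j hj c hc hcm => ?_⟩
    rcases Finset.mem_insert.mp hj with rfl | hj
    · by_cases h : c ∈ hull (W : Set G.left)
      · obtain ⟨d, hd, hdc⟩ := h
        exact Or.inl (hcm d hdc ▸ hd)
      · exact Or.inr ⟨hc, h⟩
    · exact Or.inl (hWp j hj c hc hcm)

/-- Left translation by a rational point. -/
noncomputable def lTrans {G : Over (Spec (CommRingCat.of k))} [GrpObj G]
    (a : 𝟙_ (Over (Spec (CommRingCat.of k))) ⟶ G) : G ≅ G where
  hom := (toUnit G ≫ a) * 𝟙 G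
  inv := (toUnit G ≫ a⁻¹) * 𝟙 G
  hom_inv_id := by
    rw [MonObj.comp_mul, Category.comp_id, ← Category.assoc, comp_toUnit, ← _root_.mul_assoc,
      ← MonObj.comp_mul, inv_mul_cancel, MonObj.comp_one, _root_.one_mul]
  inv_hom_id := by
    rw [MonObj.comp_mul, Category.comp_id, ← Category.assoc, comp_toUnit, ← _root_.mul_assoc,
      ← MonObj.comp_mul, mul_inv_cancel, MonObj.comp_one, _root_.one_mul]


/-- Let k be an algebraically closed field and G a group scheme over k such that the underlying space of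
G is Jacobson and every closed point of G is k-rational (the image of a section of G -> Spec k). Let
A be a k-algebra such that every finite subset of A is contained in a k-subalgebra isomorphic to a
finite product of copies of k (A is a directed colimit of such algebras), and f : Spec A -> G a
morphism over k. Then there is an affine open U of G containing the image of f. -/
theorem result (k : Type u) [Field k] [IsAlgClosed k] (G : Over (Spec (CommRingCat.of k))) [GrpObj G] [JacobsonSpace G.left] (hrat : ∀ g : G.left, IsClosed ({g} : Set G.left) → ∃ x : Spec (CommRingCat.of k) ⟶ G.left, x ≫ G.hom = 𝟙 _ ∧ x (IsLocalRing.closedPoint k) = g) (A : Type u) [CommRing A] [Algebra k A] (hA : ∀ s : Finset A, ∃ (B : Subalgebra k A) (n : ℕ), (↑s : Set A) ⊆ (B : Set A) ∧ Nonempty (B ≃ₐ[k] (Fin n → k))) (f : Spec (CommRingCat.of A) ⟶ G.left) (hf : f ≫ G.hom = Spec.map (CommRingCat.ofHom (algebraMap k A))) : ∃ U : G.left.Opens, IsAffineOpen U ∧ Set.range ⇑f ⊆ (U : Set G.left) := by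
  classical
  haveI : IsSeparated G.hom := AntiAffine.isSeparated_grp G
  let T : Over (Spec (CommRingCat.of k)) := Over.mk (Spec.map (CommRingCat.ofHom (algebraMap k A)))
  let fT : T ⟶ G := Over.homMk f hf
  let cl : Spec (CommRingCat.of k) := IsLocalRing.closedPoint k
  have hpt : ∀ p : ↥T.left, ∃ t : 𝟙_ (Over (Spec (CommRingCat.of k))) ⟶ T, t.left cl = p := by
    intro p
    let P : PrimeSpectrum A := p
    let e := RingEquiv.ofBijective _ (surjective_quotient (k := k) hA P.asIdeal)
    let φ : A →+* k := e.symm.toRingHom.comp (Ideal.Quotient.mk P.asIdeal)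
    have hφ : ∀ x, φ (algebraMap k A x) = x := fun x => e.symm_apply_apply x
    refine ⟨Over.homMk (Spec.map (CommRingCat.ofHom φ)) ?_, ?_⟩
    · show Spec.map (CommRingCat.ofHom φ) ≫ Spec.map (CommRingCat.ofHom (algebraMap k A)) = 𝟙 _
      rw [← Spec.map_comp, ← Spec.map_id]
      exact congrArg Spec.map (CommRingCat.hom_ext (RingHom.ext hφ))
    · show (PrimeSpectrum.comap φ (IsLocalRing.closedPoint k) : PrimeSpectrum A) = P
      refine PrimeSpectrum.ext ?_
      rw [PrimeSpectrum.comap_asIdeal]
      show (IsLocalRing.maximalIdeal k).comap φ = P.asIdeal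
      rw [IsLocalRing.maximalIdeal_eq_bot, ← RingHom.ker_eq_comap_bot]
      ext a
      rw [RingHom.mem_ker, RingHom.comp_apply, ← Ideal.Quotient.eq_zero_iff_mem]
      exact map_eq_zero_iff _ e.symm.injective
  -- affine opens covering the image, merged
  have hcov : ∀ p : ↥T.left, ∃ V : G.left.Opens, IsAffineOpen V ∧ f p ∈ V := fun p => by
    obtain ⟨V, hV, hx, -⟩ :=
      exists_isAffineOpen_mem_and_subset (show f p ∈ (⊤ : G.left.Opens) from trivial)
    exact ⟨V, hV, hx⟩
  choose V hV hfV using hcov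
  obtain ⟨s, hs⟩ := (CompactSpace.isCompact_univ (X := ↥(Spec (CommRingCat.of A)))).elim_finite_subcover
    (fun p => f ⁻¹' (V p : Set G.left)) (fun p => (V p).2.preimage f.continuous)
    (fun p _ => Set.mem_iUnion.mpr ⟨p, hfV p⟩)
  obtain ⟨W, hW, hWp⟩ := exists_affine_maxPts G s V fun i _ => hV i
  let m : G ⊗ T ⟶ G := fst G T * (snd G T ≫ fT)
  -- the bad translations form a closed set
  haveI : IsIntegralHom T.hom := by
    show IsIntegralHom (Spec.map (CommRingCat.ofHom (algebraMap k A)))
    rw [IsIntegralHom.SpecMap_iff]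
    intro a
    obtain ⟨B, n, hs, ⟨e⟩⟩ := hA {a}
    haveI : Module.Finite k B := Module.Finite.equiv e.symm.toLinearEquiv
    exact (Algebra.IsIntegral.isIntegral (R := k) (⟨a, hs (by simp)⟩ : B)).map B.val
  haveI : IsIntegralHom (fst G T).left := inferInstanceAs (IsIntegralHom (pullback.fst G.hom T.hom))
  let bad : Set G.left := (fst G T).left '' (m.left ⁻¹' (W : Set G.left)ᶜ)
  have hbad : IsClosed bad :=
    (fst G T).left.isClosedMap _ (W.2.isClosed_compl.preimage m.left.continuous)
  obtain ⟨g₀, hg₀, hg₀e⟩ := exists_isMaxPt (η[G].left cl)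
  have hgood : g₀ ∉ bad := by
    rintro ⟨w, hw, hwg⟩
    obtain ⟨t, ht⟩ := hpt ((snd G T).left w)
    have hp : w ∈ Set.range (lift (𝟙 G) (toUnit G ≫ t)).left := by
      have H : IsPullback (lift (𝟙 G) (toUnit G ≫ t)).left G.hom (snd G T).left t.left := by
        refine IsPullback.of_right ?_ ?_ (IsPullback.of_hasPullback G.hom T.hom)
        · have e1 : (lift (𝟙 G) (toUnit G ≫ t)).left ≫ pullback.fst G.hom T.hom = 𝟙 _ :=
            congrArg CommaMorphism.left (lift_fst (𝟙 G) _)
          have e2 : t.left ≫ T.hom = 𝟙 _ := Over.w t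
          rw [e1, e2]
          exact IsPullback.of_id_fst
        · exact (congrArg CommaMorphism.left (lift_snd (𝟙 G) (toUnit G ≫ t))).trans rfl
      obtain ⟨g', hg', -⟩ := Scheme.exists_preimage_of_isPullback H w cl ht.symm
      exact ⟨g', hg'⟩
    obtain ⟨g', rfl⟩ := hp
    have hg' : g' = g₀ := by
      rw [← hwg, ← GrpSchLib.left_comp_apply, lift_fst]; rfl
    subst hg'
    let a := t ≫ fT
    have hm : m.left ((lift (𝟙 G) (toUnit G ≫ t)).left g') = (rTrans a).hom.left g' := by
      rw [← GrpSchLib.left_comp_apply]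
      congr 2
      simp [m, rTrans, a, MonObj.comp_mul]
    have hspec : (rTrans a).hom.left g' ⤳ f (t.left cl) := by
      have h1 := hg₀e.map (rTrans a).hom.left.continuous
      rwa [← GrpSchLib.left_comp_apply,
        show η[G] ≫ (rTrans a).hom = a by simp [rTrans, MonObj.comp_mul, ← MonObj.one_eq_one]] at h1
    have hmax : IsMaxPt ((rTrans a).hom.left g') := by
      haveI : IsIso (rTrans a).hom.left := inferInstanceAs (IsIso ((Over.forget _).map (rTrans a).hom))
      exact hg₀.map (Flat.generalizingMap _)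
    obtain ⟨i, hi, hfi⟩ : ∃ i ∈ s, f (t.left cl) ∈ V i := by
      simpa using hs (Set.mem_univ (t.left cl))
    exact hw (by rw [hm]; exact hWp i hi _ (hspec.mem_open (V i).2 hfi) hmax)
  -- a rational good translation
  obtain ⟨g, hgZ, hgc⟩ := nonempty_inter_closedPoints (Z := closure {g₀} ∩ badᶜ)
    ⟨g₀, subset_closure rfl, hgood⟩
    (isClosed_closure.isLocallyClosed.inter hbad.isOpen_compl.isLocallyClosed)
  obtain ⟨x, hx, hxg⟩ := hrat g hgc
  let a : 𝟙_ (Over (Spec (CommRingCat.of k))) ⟶ G := Over.homMk x hx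
  haveI : IsIso (lTrans a).hom.left := inferInstanceAs (IsIso ((Over.forget _).map (lTrans a).hom))
  refine ⟨(lTrans a).hom.left ⁻¹ᵁ W, hW.preimage_of_isIso _, ?_⟩
  rintro _ ⟨p, rfl⟩
  by_contra hp
  refine hgZ.2 ⟨(lift (toUnit T ≫ a) (𝟙 T)).left p, ?_, ?_⟩
  · show m.left _ ∈ (W : Set G.left)ᶜ
    rw [← GrpSchLib.left_comp_apply,
      show lift (toUnit T ≫ a) (𝟙 T) ≫ m = fT ≫ (lTrans a).hom by simp [m, lTrans, MonObj.comp_mul]]
    exact hp
  · rw [← GrpSchLib.left_comp_apply, lift_fst, apply_pointSection]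
    exact hxg

end Groth.Agent.S7489
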