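import Groth.Statements.S7490
import Mathlib.CategoryTheory.Sites.RegularEpi
import Mathlib.CategoryTheory.Limits.Shapes.KernelPair
import Mathlib.CategoryTheory.Sites.LeftExact
import Mathlib.CategoryTheory.Limits.Types.Coequalizers

set_option autoImplicit false
set_option backward.isDefEq.respectTransparency false
set_option backward.isDefEq.respectTransparency.types false
open CategoryTheory CategoryTheory.Limits AlgebraicGeometry
universe u
open QuotSh

namespace Groth.Agent.S7490

/-- Let K be a precoverage on schemes (the topology τ), S a scheme, s, t : R -> U morphisms of schemes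
over S (a pre-relation) and q : U -> M a morphism over S such that (1) q coequalizes s and t, (2)
the induced map of τ-sheaves h_U -> h_M is an epimorphism, and (3) the map h_R -> h_(U x_M U)
induced by (t, s) is an epimorphism of τ-sheaves. Then M, through q, represents the quotient sheaf
U/R: the canonical map from the coequalizer of h_s, h_t to h_M is an isomorphism. (The published
statement takes τ to be the Zariski, étale, fppf, smooth or syntomic topology; this row allows the
topology generated by any precoverage K.) -/
theorem result (K : Precoverage Scheme.{u}) {S : Scheme.{u}} {R U M : Over S} (s t : R ⟶ U) (q : U ⟶ M) (w : s ≫ q = t ≫ q) (w' : t.left ≫ q.left = s.left ≫ q.left) (h₂ : Epi (QuotSh.repMap K q)) (h₃ : Epi (QuotSh.repMap K (Over.homMk (pullback.lift t.left s.left w') (((Category.assoc _ _ _).symm.trans (congrArg (fun k => k ≫ U.hom) (pullback.lift_fst t.left s.left w'))).trans (Over.w t)) : R ⟶ Over.mk (pullback.fst q.left q.left ≫ U.hom)))) : QuotSh.IsQuotient K s t q := by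
  refine ⟨w, ?_⟩
  let P : Over S := Over.mk (pullback.fst q.left q.left ≫ U.hom)
  let a : P ⟶ U := Over.homMk (pullback.fst q.left q.left) rfl
  let b : P ⟶ U := Over.homMk (pullback.snd q.left q.left) (by
    show pullback.snd q.left q.left ≫ U.hom = pullback.fst q.left q.left ≫ U.hom
    rw [← Over.w q, ← Category.assoc, ← Category.assoc, pullback.condition])
  let F : Over S ⥤ Sh K S := yoneda ⋙ (Functor.whiskeringRight _ _ _).obj uliftFunctor.{u + 1, u} ⋙
    presheafToSheaf (J K S) (Type (u + 1))
  have h₁ : IsPullback a b q q := IsPullback.of_map (Over.forget S) (by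
    ext; exact pullback.condition) (IsPullback.of_hasPullback q.left q.left)
  haveI : PreservesLimit (cospan q q) F := inferInstance
  have hk : IsKernelPair (repMap K q) (repMap K a) (repMap K b) := h₁.map F
  haveI := h₂
  haveI : IsRegularEpi (repMap K q) := IsRegularEpiCategory.regularEpiOfEpi _
  let c := IsKernelPair.toCoequalizer' hk
  have hst : repMap K s ≫ quotπ K s t = repMap K t ≫ quotπ K s t := quot_condition K s t
  have hab : repMap K a ≫ quotπ K s t = repMap K b ≫ quotπ K s t := by
    haveI := h₃
    rw [← cancel_epi (repMap K (Over.homMk (pullback.lift t.left s.left w') (((Category.assoc _ _ _).symm.trans (congrArg (fun k => k ≫ U.hom) (pullback.lift_fst t.left s.left w'))).trans (Over.w t)) : R ⟶ P))]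
    let e : R ⟶ P := Over.homMk (pullback.lift t.left s.left w') (((Category.assoc _ _ _).symm.trans (congrArg (fun k => k ≫ U.hom) (pullback.lift_fst t.left s.left w'))).trans (Over.w t))
    have ea : e ≫ a = t := Over.OverMorphism.ext (pullback.lift_fst _ _ _)
    have eb : e ≫ b = s := Over.OverMorphism.ext (pullback.lift_snd _ _ _)
    show F.map e ≫ F.map a ≫ _ = F.map e ≫ F.map b ≫ _
    rw [← Category.assoc, ← Category.assoc, ← F.map_comp, ← F.map_comp, ea, eb]
    exact hst.symm
  let inv := Cofork.IsColimit.desc c (quotπ K s t) hab
  have hinv : repMap K q ≫ inv = quotπ K s t := Cofork.IsColimit.π_desc' c _ hab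
  have hd : quotπ K s t ≫ quotDesc K q w = repMap K q := coequalizer.π_desc _ _
  refine ⟨inv, coequalizer.hom_ext ?_, (cancel_epi (repMap K q)).1 ?_⟩
  · show quotπ K s t ≫ quotDesc K q w ≫ inv = quotπ K s t ≫ 𝟙 _
    rw [← Category.assoc, hd, hinv, Category.comp_id]
  · show repMap K q ≫ inv ≫ quotDesc K q w = repMap K q ≫ 𝟙 _
    rw [← Category.assoc, hinv, hd, Category.comp_id]

end Groth.Agent.S7490
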