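import Groth.Statements.S7491
import Groth.Agent.GrpdLib.SubGroupoid

set_option backward.isDefEq.respectTransparency false
set_option backward.isDefEq.respectTransparency.types false
-- import your own Groth.Agent.* helpers here

set_option autoImplicit false
universe u
open CategoryTheory CategoryTheory.Limits AlgebraicGeometry
open Grpd

namespace Groth.Agent.S7491

/-- Let (U, R_1, s_1, t_1, c_1) -> (U, R_2, s_2, t_2, c_2) be a morphism of groupoid schemes over S that
is an isomorphism on object schemes, where U is the spectrum of a perfect field, and let Z be the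
reduced closed subscheme of R_2 supported on the closure of a(R_1), for the arrow map a : R_1 ->
R_2. Restricting s_2, t_2 and c_2 to Z makes U and Z into a groupoid scheme over S; stated as: there
are a groupoid scheme G' over S with G'.R reduced and a morphism of groupoid schemes G' -> (U, R_2,
...) which is an isomorphism on object schemes and a closed immersion on arrow schemes with image
the closure of the image of a. (A groupoid scheme carries U, R, s, t, c, e, i over S with the
groupoid axioms on T-points; c is defined on the fibre product of s and t and sends a pair (a, b)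
with s(a) = t(b) to a composed with b.) -/
theorem result (S : Scheme.{u}) (G₁ G₂ : Grpd.GroupoidScheme S) (f : Grpd.GroupoidScheme.Hom G₁ G₂) [IsIso f.fU] (k : Type u) [Field k] [PerfectField k] (eU : G₂.U ≅ Spec (CommRingCat.of k)) : ∃ (G' : Grpd.GroupoidScheme S) (ψ : Grpd.GroupoidScheme.Hom G' G₂), IsIso ψ.fU ∧ IsClosedImmersion ψ.fR ∧ IsReduced G'.R ∧ Set.range ⇑ψ.fR = closure (Set.range ⇑f.fR) :=  by
  obtain ⟨D, h₁, h₂, h₃⟩ := Groth.Agent.GrpdLib.exists_reduced_closure_groupoid k eU f
  exact ⟨D.toGpd, D.hom, inferInstanceAs (IsIso (𝟙 G₂.U)), h₂, h₁, h₃⟩
end Groth.Agent.S7491
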