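import Groth.Statements.S7493
import Groth.Agent.GrpdLib.FieldPoint

set_option backward.isDefEq.respectTransparency false
set_option backward.isDefEq.respectTransparency.types false
-- import your own Groth.Agent.* helpers here

set_option autoImplicit false
universe u
open CategoryTheory CategoryTheory.Limits AlgebraicGeometry
open Grpd

namespace Groth.Agent.S7493

/-- Let (U, R, s, t, c) be a groupoid scheme over S with U = Spec k for a field k, and let r be a point
of R. Then there exist a field extension k -> k' with k' algebraically closed and a point r' of the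
restriction R' of R along g : U' = Spec k' -> U, that is R' = (U' x_(g,U,t) R) x_(s pr, U, g) U'
with t' the projection to the first factor U' and s' the projection to the last factor U', such that
r' maps to r under R' -> R and both s' and t' induce isomorphisms on residue fields at r' (k' ->
κ(r') bijective). (A groupoid scheme carries U, R, s, t, c, e, i over S with the groupoid axioms on
T-points; c is defined on the fibre product of s and t and sends a pair (a, b) with s(a) = t(b) to a
composed with b.) -/
theorem result (S : Scheme.{u}) (G : Grpd.GroupoidScheme S) (k : Type u) [Field k] (eU : G.U ≅ Spec (CommRingCat.of k)) (r : G.R) : ∃ (k' : Type u) (_ : Field k') (_ : IsAlgClosed k') (_ : Algebra k k'), ∃ r' : ↑(pullback (pullback.snd (Spec.map (CommRingCat.ofHom (algebraMap k k')) ≫ eU.inv) G.t ≫ G.s) (Spec.map (CommRingCat.ofHom (algebraMap k k')) ≫ eU.inv)), (pullback.fst (pullback.snd (Spec.map (CommRingCat.ofHom (algebraMap k k')) ≫ eU.inv) G.t ≫ G.s) (Spec.map (CommRingCat.ofHom (algebraMap k k')) ≫ eU.inv) ≫ pullback.snd (Spec.map (CommRingCat.ofHom (algebraMap k k')) ≫ eU.inv) G.t) r' =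 r ∧ IsIso ((pullback.snd (pullback.snd (Spec.map (CommRingCat.ofHom (algebraMap k k')) ≫ eU.inv) G.t ≫ G.s) (Spec.map (CommRingCat.ofHom (algebraMap k k')) ≫ eU.inv)).residueFieldMap r') ∧ IsIso ((pullback.fst (pullback.snd (Spec.map (CommRingCat.ofHom (algebraMap k k')) ≫ eU.inv) G.t ≫ G.s) (Spec.map (CommRingCat.ofHom (algebraMap k k')) ≫ eU.inv) ≫ pullback.fst (Spec.map (CommRingCat.ofHom (algebraMap k k')) ≫ eU.inv) G.t).residueFieldMap r') :=  GrpdLib.exists_rational_point G k eU r
end Groth.Agent.S7493
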