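import Groth.Statements.S7494
-- import your own Groth.Agent.* helpers here

set_option autoImplicit false
universe u
open CategoryTheory MonoidalCategory CartesianMonoidalCategory MonObj GrpObj AlgebraicGeometry
open AlgGrp

namespace Groth.Agent.S7494

/-- Let G be a group scheme over S acting on a scheme X over S by a. The action is free, meaning that
for every scheme T over S and all T-points g of G and x of X with g · x = x one has g = 1, if and
only if the morphism G x_S X -> X x_S X, (g, x) ↦ (a(g, x), x), is a monomorphism of schemes. -/
theorem result {S : Scheme.{u}} (G X : Over S) [GrpObj G] (a : AlgGrp.Action G X) : (∀ (T : Over S) (g : T ⟶ G) (x : T ⟶ X), lift g x ≫ a.act = x → g = toUnit T ≫ η[G]) ↔ Mono (lift a.act (snd G X)).left := by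
  constructor
  · intro h
    suffices Mono (lift a.act (CartesianMonoidalCategory.snd G X)) from Over.mono_left_of_mono _
    refine ⟨fun {T} p p' hp => ?_⟩
    have hx := congrArg (fun f => f ≫ CartesianMonoidalCategory.snd X X) hp
    have hg := congrArg (fun f => f ≫ CartesianMonoidalCategory.fst X X) hp
    simp only [Category.assoc, lift_fst, lift_snd] at hx hg
    set g := p ≫ CartesianMonoidalCategory.fst G X with hg_def
    set g' := p' ≫ CartesianMonoidalCategory.fst G X with hg'_def
    set x := p ≫ CartesianMonoidalCategory.snd G X with hx_def
    have e1 : lift g x = p := CartesianMonoidalCategory.hom_ext _ _ (by rw [lift_fst]) (by rw [lift_snd])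
    have e2 : lift g' x = p' := CartesianMonoidalCategory.hom_ext _ _ (by rw [lift_fst]) (by rw [lift_snd, hx])
    have hact : lift g x ≫ a.act = lift g' x ≫ a.act := by rw [e1, e2, hg]
    have hmul : ∀ (u v : T ⟶ G), lift (u * v) x ≫ a.act = lift u (lift v x ≫ a.act) ≫ a.act := by
      intro u v
      have := congrArg (fun f => lift (lift u v) x ≫ f) a.mul_act
      simpa [Hom.mul_def] using this
    have hfix : lift (g'⁻¹ * g) x ≫ a.act = x := by
      rw [hmul, hact, ← hmul, inv_mul_cancel]
      have := congrArg (fun f => lift (toUnit T) x ≫ f) a.one_act
      simpa [MonObj.one_eq_one] using this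
    have hgg : g = g' := by
      have := h T _ x hfix
      exact (inv_mul_eq_one.mp (this.trans Hom.one_def.symm)).symm
    refine CartesianMonoidalCategory.hom_ext _ _ hgg hx
  · intro h T g x hx
    have : Mono (lift a.act (CartesianMonoidalCategory.snd G X)) :=
      Over.mono_of_mono_left _
    have h1 : lift (toUnit T ≫ η[G]) x ≫ a.act = x := by
      have := congrArg (fun f => lift (toUnit T) x ≫ f) a.one_act
      simpa using this
    have := (cancel_mono (lift a.act (CartesianMonoidalCategory.snd G X))).mp
      (show lift g x ≫ lift a.act (CartesianMonoidalCategory.snd G X) =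
          lift (toUnit T ≫ η[G]) x ≫ lift a.act (CartesianMonoidalCategory.snd G X) by
        rw [comp_lift, comp_lift, hx, h1, lift_snd, lift_snd])
    simpa using congrArg (fun f => f ≫ CartesianMonoidalCategory.fst G X) this

end Groth.Agent.S7494
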