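import Groth.Statements.S7496
import Groth.Agent.HTopCov.Misc
-- import your own Groth.Agent.* helpers here

set_option autoImplicit false
universe w u
open CategoryTheory CategoryTheory.Limits AlgebraicGeometry
open HTop

namespace Groth.Agent.S7496

/-- Let T be a quasi-separated scheme and {f_i : T_i -> T} a family of morphisms. Then every affine open
of T is the union of the images of finitely many quasi-compact opens of the T_i (the
quasi-compactness condition in the definition of an fpqc covering) if and only if for every point t
of T there are finitely many quasi-compact opens U_j of members T_(i_j) such that the union of the
f_(i_j)(U_j) is a neighbourhood of t. (The published statement also asks every f_i to be flat, on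
both sides, and lists two more equivalent forms of the quasi-compactness condition; this row omits
flatness, which plays no part in the equivalence, and states only the equivalence of the
quasi-compactness condition with the neighbourhood condition.) -/
theorem result {T : Scheme.{u}} [QuasiSeparatedSpace T] (E : PreZeroHypercover.{w} T) : QuasiCompactCover E ↔ ∀ t : T, ∃ (n : ℕ) (i : Fin n → E.I₀) (V : ∀ j, (E.X (i j)).Opens), (∀ j, IsCompact (V j : Set (E.X (i j)))) ∧ (⋃ j, ⇑(E.f (i j)) '' (V j : Set (E.X (i j)))) ∈ nhds t := Groth.Agent.HTopCov.quasiCompactCover_iff_nhds E

end Groth.Agent.S7496
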