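import Groth.Statements.S7499
import Groth.Agent.GrpdLib.Affine
import Groth.Agent.S0593
-- import your own Groth.Agent.* helpers here

set_option autoImplicit false
universe u
open CategoryTheory CategoryTheory.Limits AlgebraicGeometry
open Grpd

namespace Groth.Agent.S7499

/-- Let (U, R, s, t, c) be a groupoid scheme over S with s and t integral, and g : U' -> U an integral
morphism such that every R-orbit of U meets the image of g. Let R' = (U' x_(g,U,t) R) x_(s pr, U, g)
U' be the restriction of R to U', with t' the projection to the first factor U' and s' the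
projection to the last. If u' is a point of U' contained in an affine open W' of U' with t'^{-1}(W')
= s'^{-1}(W'), then g(u') is contained in an affine open W of U with s^{-1}(W) = t^{-1}(W). (A
groupoid scheme carries U, R, s, t, c, e, i over S with the groupoid axioms on T-points; c is
defined on the fibre product of s and t and sends a pair (a, b) with s(a) = t(b) to a composed with
b.) -/
theorem result (S : Scheme.{u}) (G : Grpd.GroupoidScheme S) [IsIntegralHom G.s] [IsIntegralHom G.t] (U' : Scheme.{u}) (g : U' ⟶ G.U) [IsIntegralHom g] (horb : ∀ u : G.U, ∃ r : G.R, G.s r = u ∧ G.t r ∈ Set.range ⇑g) (u' : U') (W' : U'.Opens) (hW' : IsAffineOpen W') (hu' : u' ∈ W') (hinv : (pullback.fst (pullback.snd g G.t ≫ G.s) g ≫ pullback.fst g G.t) ⁻¹ᵁ W' = (pullback.snd (pullback.snd g G.t ≫ G.s) g) ⁻¹ᵁ W') : ∃ W : G.U.Opens, IsAffineOpen W ∧ g u' ∈ W ∧ G.s ⁻¹ᵁ W = G.t ⁻¹ᵁ W := by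
  classical
  let q := pullback.snd g G.t ≫ G.s
  let p := pullback.fst g G.t
  haveI hq : IsIntegralHom q := inferInstance
  have hcomp : ∀ r r' : G.R, G.s r = G.t r' → ∃ γ : G.R, G.t γ = G.t r ∧ G.s γ = G.s r' := by
    intro r r' h
    obtain ⟨z, hz1, hz2⟩ := Scheme.Pullback.exists_preimage_pullback r r' h
    refine ⟨G.c z, ?_, ?_⟩
    · rw [← hz1, ← Scheme.Hom.comp_apply, ← Scheme.Hom.comp_apply, GrpdLib.c_t G]
    · rw [← hz2, ← Scheme.Hom.comp_apply, ← Scheme.Hom.comp_apply, GrpdLib.c_s G]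
  have hinvR : ∀ r : G.R, G.t (G.i r) = G.s r ∧ G.s (G.i r) = G.t r := fun r => by
    simp only [← Scheme.Hom.comp_apply, G.i_t, G.i_s, and_self]
  have hmk : ∀ (a : U') (r : G.R), G.t r = g a → ∃ π : ↥(pullback g G.t), p π = a ∧ q π = G.s r := by
    intro a r h
    obtain ⟨π, h1, h2⟩ := Scheme.Pullback.exists_preimage_pullback a r h.symm
    exact ⟨π, h1, by simp only [q, Scheme.Hom.comp_apply, h2]⟩
  have hspl : ∀ π : ↥(pullback g G.t), ∃ r : G.R, G.t r = g (p π) ∧ G.s r = q π := by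
    intro π
    refine ⟨pullback.snd g G.t π, ?_, by simp only [q, Scheme.Hom.comp_apply]⟩
    simp only [p, ← Scheme.Hom.comp_apply, pullback.condition]
  have hrel : ∀ π π' : ↥(pullback g G.t), q π = q π' → (p π ∈ W' ↔ p π' ∈ W') := by
    intro π π' h
    obtain ⟨r, hrt, hrs⟩ := hspl π
    obtain ⟨r', hrt', hrs'⟩ := hspl π'
    obtain ⟨γ, hγt, hγs⟩ := hcomp r (G.i r') (by rw [(hinvR r').1, hrs, hrs', h])
    obtain ⟨π'', h1, h2⟩ := hmk (p π) γ (by rw [hγt, hrt])
    have h3 : q π'' = g (p π') := by rw [h2, hγs, (hinvR r').2, hrt']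
    obtain ⟨z, hz1, hz2⟩ := Scheme.Pullback.exists_preimage_pullback π'' (p π') h3
    have h4 : z ∈ (pullback.fst (pullback.snd g G.t ≫ G.s) g ≫ pullback.fst g G.t) ⁻¹ᵁ W' ↔
        z ∈ (pullback.snd (pullback.snd g G.t ≫ G.s) g) ⁻¹ᵁ W' := by rw [hinv]
    change (pullback.fst (pullback.snd g G.t ≫ G.s) g ≫ pullback.fst g G.t) z ∈ W' ↔
      pullback.snd (pullback.snd g G.t ≫ G.s) g z ∈ W' at h4
    rw [Scheme.Hom.comp_apply, hz1, hz2] at h4
    rw [← h1]
    exact h4
  have hsurj : Function.Surjective q := by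
    intro u
    obtain ⟨r, hr, a, ha⟩ := horb u
    obtain ⟨π, -, hπ⟩ := hmk a r ha.symm
    exact ⟨π, hπ.trans hr⟩
  have hcl : IsClosed (q '' {π | p π ∉ W'}) :=
    q.isClosedMap _ (W'.isOpen.isClosed_compl.preimage p.continuous)
  let W : G.U.Opens := ⟨(q '' {π | p π ∉ W'})ᶜ, hcl.isOpen_compl⟩
  have hmem : ∀ π, q π ∈ W ↔ p π ∈ W' := by
    intro π
    refine ⟨fun h => by_contra fun h' => h ⟨π, h', rfl⟩, fun h => ?_⟩
    rintro ⟨π', h', he⟩
    exact h' ((hrel π π' he.symm).1 h)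
  refine ⟨W, ?_, ?_, ?_⟩
  · have hpre : q ⁻¹ᵁ W = p ⁻¹ᵁ W' := TopologicalSpace.Opens.ext (Set.ext hmem)
    haveI : IsAffineHom p := inferInstance
    haveI : IsAffine ((q ⁻¹ᵁ W : (pullback g G.t).Opens) : Scheme.{u}) := by
      rw [hpre]
      exact hW'.preimage p
    haveI : IsIntegralHom (q ∣_ W) := IsZariskiLocalAtTarget.restrict hq W
    haveI : Surjective q := ⟨hsurj⟩
    haveI : Surjective (q ∣_ W) := IsZariskiLocalAtTarget.restrict (P := @Surjective) ‹_› W
    exact S0593.result _ _ (q ∣_ W)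
  · obtain ⟨π, h1, h2⟩ := hmk u' (G.e (g u')) (by simp only [← Scheme.Hom.comp_apply, Category.assoc, G.e_t, Category.comp_id])
    have h3 : G.s (G.e (g u')) = g u' := by
      simp only [← Scheme.Hom.comp_apply, Category.assoc, G.e_s, Category.comp_id]
    rw [← h3, ← h2, hmem, h1]
    exact hu'
  · have key : ∀ r : G.R, G.s r ∈ W → G.t r ∈ W := by
      intro r hr
      obtain ⟨π, hπ⟩ := hsurj (G.s r)
      obtain ⟨r₀, h0t, h0s⟩ := hspl π
      obtain ⟨γ, hγt, hγs⟩ := hcomp r₀ (G.i r) (by rw [h0s, hπ, (hinvR r).1])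
      obtain ⟨π', h1, h2⟩ := hmk (p π) γ (by rw [hγt, h0t])
      rw [← (hinvR r).2, ← hγs, ← h2, hmem, h1, ← hmem, hπ]
      exact hr
    refine TopologicalSpace.Opens.ext (Set.ext fun r => ⟨key r, fun h => ?_⟩)
    have := key (G.i r) (by rwa [(hinvR r).2])
    rwa [(hinvR r).1] at this

end Groth.Agent.S7499
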