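import Groth.Statements.S7500
import Groth.Agent.GrpdLib.StabTorsor

set_option backward.isDefEq.respectTransparency false
set_option backward.isDefEq.respectTransparency.types false
-- import your own Groth.Agent.* helpers here

set_option autoImplicit false
universe u
open CategoryTheory CategoryTheory.Limits AlgebraicGeometry
open Grpd

namespace Groth.Agent.S7500

/-- Let (U, R, s, t, c) be a groupoid scheme over S and G -> U its stabilizer group scheme (the base
change of j = (t, s) along the diagonal). The action of G on R by composition, base changed to G_0 =
G x_(U, pr_0) (U x_S U), makes R a pseudo G_0-torsor over U x_S U. Concretely: let α : G x_(U, t) R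
-> R x_(s, U, t) R be the morphism with components (γ viewed in R, r) and β : G x_(U, t) R -> R
x_(j, U x_S U, j) R the morphism with components (c ∘ α, r); then β is an isomorphism. (A groupoid
scheme carries U, R, s, t, c, e, i over S with the groupoid axioms on T-points; c is defined on the
fibre product of s and t and sends a pair (a, b) with s(a) = t(b) to a composed with b.) -/
theorem result (S : Scheme.{u}) (G : Grpd.GroupoidScheme S) (α : pullback G.stabilizerToU G.t ⟶ pullback G.s G.t) (hα₁ : α ≫ pullback.fst G.s G.t = pullback.fst G.stabilizerToU G.t ≫ pullback.fst G.j G.diag) (hα₂ : α ≫ pullback.snd G.s G.t = pullback.snd G.stabilizerToU G.t) (β : pullback G.stabilizerToU G.t ⟶ pullback G.j G.j) (hβ₁ : β ≫ pullback.fst G.j G.j = α ≫ G.c) (hβ₂ : β ≫ pullback.snd G.j G.j = pullback.snd G.stabilizerToU G.t) : IsIso β := by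
  have h := GrpdLib.isPullback_stab_t G α hα₁ hα₂
  have e : β = h.isoPullback.hom := by
    apply pullback.hom_ext
    · rw [hβ₁, h.isoPullback_hom_fst]
    · rw [hβ₂, h.isoPullback_hom_snd]
  rw [e]
  infer_instance
end Groth.Agent.S7500
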