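import Groth.Statements.S7502
import Groth.Agent.LimModLib.FlatDescent
import Groth.Agent.QCoh.Qcqs
import Groth.Agent.QCoh.Tilde
import Groth.Agent.QCoh.Support
import Groth.Agent.QCoh.FT
import Groth.Agent.QCoh.PullbackBC
import Groth.Agent.QCoh.ClosedPush
import Mathlib.LinearAlgebra.TensorProduct.Finiteness
import Mathlib.RingTheory.Flat.FaithfullyFlat.Algebra

set_option autoImplicit false
universe u
open CategoryTheory CategoryTheory.Limits AlgebraicGeometry
open Coh

namespace Groth.Agent.S7502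
namespace Aux
open CategoryTheory CategoryTheory.Limits AlgebraicGeometry Opposite TopologicalSpace
open Groth.Agent
open scoped TensorProduct
set_option backward.isDefEq.respectTransparency false
set_option backward.isDefEq.respectTransparency.types false
set_option linter.style.haveILetI false

theorem finite_of_family {A : Type u} [CommRing A] {ι : Type u} [Finite ι] (B : ι → Type u)
    [∀ i, CommRing (B i)] [∀ i, Algebra A (B i)] [∀ i, Module.Flat A (B i)]
    (hcov : ∀ p : Ideal A, p.IsMaximal → ∃ i, p.map (algebraMap A (B i)) ≠ ⊤)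
    (N : Type u) [AddCommGroup N] [Module A N] (h : ∀ i, Module.Finite (B i) (B i ⊗[A] N)) :
    Module.Finite A N := by
  classical
  choose s hs using fun i => (h i).fg_top
  choose N' hN' hsN' using fun i =>
    TensorProduct.exists_finite_submodule_right_of_setFinite (M := B i) (N := N) (↑(s i) : Set (B i ⊗[A] N)) (s i).finite_toSet
  let T : Submodule A N := ⨆ i, N' i
  haveI : Module.Finite A T := Module.Finite.iff_fg.2 (Submodule.fg_iSup _ fun i => Module.Finite.iff_fg.1 (hN' i))
  suffices T = ⊤ by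
    exact Module.Finite.equiv ((LinearEquiv.ofEq _ _ this).trans Submodule.topEquiv)
  have hQ : ∀ i (z : B i ⊗[A] (N ⧸ T)), z = 0 := fun i => by
    have h0 : T.mkQ.baseChange (B i) = 0 := LinearMap.ext_on (hs i) fun z hz => by
      obtain ⟨w, rfl⟩ := hsN' i hz
      show T.mkQ.lTensor (B i) ((N' i).subtype.lTensor (B i) w) = 0
      rw [← LinearMap.lTensor_comp_apply, show T.mkQ ∘ₗ (N' i).subtype = 0 from
        LinearMap.ext fun x => (Submodule.Quotient.mk_eq_zero _).2 (le_iSup N' i x.2)]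
      simp
    intro z
    obtain ⟨w, rfl⟩ := LinearMap.lTensor_surjective (B i) T.mkQ_surjective z
    exact congr($h0 w)
  refine eq_top_iff.2 fun x _ => (Submodule.Quotient.mk_eq_zero T).1 ?_
  by_contra hx
  let φ : A →ₗ[A] N ⧸ T := LinearMap.toSpanSingleton A _ (Submodule.Quotient.mk x)
  have ha : LinearMap.ker φ ≠ ⊤ := fun e => hx (by
    have h1 : φ 1 = 0 := e.ge trivial
    rwa [LinearMap.toSpanSingleton_apply, one_smul] at h1)
  obtain ⟨p, hp, hap⟩ := Ideal.exists_le_maximal _ ha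
  obtain ⟨i, hi⟩ := hcov p hp
  have hinj : Function.Injective ((LinearMap.ker φ).liftQ φ le_rfl) :=
    LinearMap.ker_eq_bot.1 (Submodule.ker_liftQ_eq_bot _ _ _ le_rfl)
  have hz : ((1 : B i) ⊗ₜ[A] (Submodule.Quotient.mk 1 : A ⧸ LinearMap.ker φ)) = 0 :=
    Module.Flat.lTensor_preserves_injective_linearMap _ hinj ((hQ i _).trans (map_zero _).symm)
  have h2 := congrArg (Algebra.TensorProduct.quotIdealMapEquivTensorQuot (B i) (LinearMap.ker φ : Ideal A)).symm hz
  have h3 : (1 : B i ⧸ Ideal.map (algebraMap A (B i)) (LinearMap.ker φ : Ideal A)) = 0 := by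
    rw [map_zero] at h2
    exact (map_one (Algebra.TensorProduct.quotIdealMapEquivTensorQuot (B i) (LinearMap.ker φ : Ideal A)).symm).symm.trans h2
  refine hi (eq_top_iff.2 (le_trans ?_ (Ideal.map_mono hap)))
  rw [Ideal.eq_top_iff_one _ |>.2 (Ideal.Quotient.eq_zero_iff_mem.1 ((map_one (Ideal.Quotient.mk _)).trans h3))]

theorem isQCoh_pullback_obj {X : Scheme.{u}} {A B C : X.Modules} (hA : Coh.IsQCoh A) (hB : Coh.IsQCoh B)
    (hC : Coh.IsQCoh C) (a : A ⟶ C) (b : B ⟶ C) : Coh.IsQCoh (pullback a b) := by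
  have h1 : Coh.IsQCoh (A ⊞ B) :=
    QCoh.isQCoh_X₂ (S := ShortComplex.mk (biprod.inl : A ⟶ A ⊞ B) biprod.snd biprod.inl_snd)
      (ShortComplex.Splitting.ofHasBinaryBiproduct _ _).shortExact hA hB
  exact (QCoh.isQCoh_iff_iso (IsLimit.conePointUniqueUpToIso
    (Abelian.PullbackToBiproductIsKernel.isLimitPullbackToBiproduct a b) (limit.isLimit _))).2
    (QCoh.isQCoh_kernel h1 hC (biprod.desc a (-b)))

theorem isCoh_inter {X Y : Scheme.{u}} (f : Y ⟶ X) [QuasiCompact f] [QuasiSeparated f] [Flat f] [Surjective f]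
    [IsLocallyNoetherian X] [IsLocallyNoetherian Y] {F : X.Modules} (hF : Coh.IsQCoh F) {G : Y.Modules}
    (hG : Coh.IsCoh G) (φ : G ⟶ (Scheme.Modules.pullback f).obj F) [Mono φ] :
    Coh.IsCoh (Limits.pullback ((Scheme.Modules.pullbackPushforwardAdjunction f).unit.app F)
      ((Scheme.Modules.pushforward f).map φ)) := by
  let adj := Scheme.Modules.pullbackPushforwardAdjunction f
  let η := adj.unit.app F
  let φ' := (Scheme.Modules.pushforward f).map φ
  let K := Limits.pullback η φ'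
  haveI : PreservesLimitsOfSize.{0, 0} (Scheme.Modules.pushforward f) := adj.rightAdjoint_preservesLimits
  haveI : Mono φ' := (Scheme.Modules.pushforward f).map_mono φ
  have hK : Coh.IsQCoh K := isQCoh_pullback_obj hF (QCoh.isQCoh_pushforward f hG.1)
    (QCoh.isQCoh_pushforward f (QCoh.isQCoh_pullback f hF)) η φ'
  let k : K ⟶ F := pullback.fst η φ'
  haveI : Mono ((Scheme.Modules.pullback f).map k) := LimModLib.mono_pullback_of_flat f hK hF k
  let a : (Scheme.Modules.pullback f).obj K ⟶ G := (adj.homEquiv K G).symm (pullback.snd η φ')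
  have ha : a ≫ φ = (Scheme.Modules.pullback f).map k := by
    apply (adj.homEquiv _ _).injective
    rw [Adjunction.homEquiv_naturality_right, Equiv.apply_symm_apply, Adjunction.homEquiv_unit]
    exact pullback.condition.symm.trans (adj.unit.naturality k)
  haveI : Mono (a ≫ φ) := by rw [ha]; infer_instance
  haveI : Mono a := mono_of_mono a φ
  have hC : Coh.IsCoh ((Scheme.Modules.pullback f).obj K) :=
    QCoh.isCoh_of_mono a hG (QCoh.isQCoh_pullback f hK)
  refine ⟨hK, (QCoh.isFT_iff hK).2 fun U => ?_⟩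
  obtain ⟨s, hs, hcov⟩ := isCompact_iff_finite_and_eq_biUnion_affineOpens.mp (f.isCompact_preimage U.2.isCompact)
  haveI : Finite s := hs
  have hle : ∀ i : s, i.1.1 ≤ f ⁻¹ᵁ U.1 := fun i =>
    hcov ▸ le_iSup₂ (f := fun (W : Y.affineOpens) (_ : W ∈ s) => W.1) i.1 i.2
  let P := (Scheme.Modules.pullback f).obj K
  letI : ∀ i : s, Algebra Γ(X, U.1) Γ(Y, i.1.1) := fun i => (f.appLE U.1 i.1.1 (hle i)).hom.toAlgebra
  haveI : ∀ i : s, Module.Flat Γ(X, U.1) Γ(Y, i.1.1) := fun i => f.flat_appLE U.2 i.1.2 (hle i)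
  refine finite_of_family (fun i : s => (Γ(Y, i.1.1) : Type u)) (fun p hp => ?_) _ fun i => ?_
  · let x : PrimeSpectrum Γ(X, U.1) := ⟨p, hp.isPrime⟩
    have hxU : U.2.fromSpec x ∈ U.1 := U.2.range_fromSpec.le ⟨x, rfl⟩
    obtain ⟨y, hy⟩ := f.surjective (U.2.fromSpec x)
    have hyU : y ∈ f ⁻¹ᵁ U.1 := by
      show f y ∈ U.1
      rw [hy]; exact hxU
    rw [hcov] at hyU
    obtain ⟨V, hV⟩ := Opens.mem_iSup.1 hyU
    obtain ⟨hVs, hyV⟩ := Opens.mem_iSup.1 hV
    refine ⟨⟨V, hVs⟩, fun htop => (V.2.primeIdealOf ⟨y, hyV⟩).isPrime.ne_top (eq_top_iff.2 (htop.ge.trans ?_))⟩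
    rw [Ideal.map_le_iff_le_comap]
    have e := IsAffineOpen.comap_primeIdealOf_appLE U.1 U.2 V.1 V.2 (hle ⟨V, hVs⟩) hyV
    refine le_of_eq (Eq.trans ?_ (congrArg PrimeSpectrum.asIdeal e).symm)
    show x.asIdeal = _
    refine congrArg PrimeSpectrum.asIdeal (U.2.fromSpec.isOpenEmbedding.injective ?_)
    exact hy.symm.trans (U.2.fromSpec_primeIdealOf ⟨f y, hle ⟨V, hVs⟩ hyV⟩).symm
  · letI : Module Γ(X, U.1) Γ(P, i.1.1) := Module.compHom _ (f.appLE U.1 i.1.1 (hle i)).hom
    haveI : IsScalarTower Γ(X, U.1) Γ(Y, i.1.1) Γ(P, i.1.1) := .of_algebraMap_smul fun _ _ => rfl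
    let l : Γ(K, U.1) →ₗ[Γ(X, U.1)] Γ(P, i.1.1) :=
      { toFun := QCoh.pullSec f K (hle i)
        map_add' := QCoh.pullSec_add f K (hle i)
        map_smul' := QCoh.pullSec_smul f K (hle i) }
    have hb : IsBaseChange Γ(Y, i.1.1) l :=
      QCoh.isBaseChange_pullback U.2 f i.1.2 hK (hle i) (fun _ => rfl) l fun _ => rfl
    haveI := QCoh.finite_of_isFT hC.1 hC.2 i.1.2
    exact Module.Finite.equiv hb.equiv.symm

end Aux


/-- Let f : Y -> X be a morphism of schemes which is quasi-compact, quasi-separated, flat and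
surjective, with X and Y locally Noetherian. Let F be a quasi-coherent O_X-module, G a coherent
O_Y-module and φ : G -> f^*F an injective map of O_Y-modules. Then the O_X-module F ∩ f_*G, defined
as the fibre product of the adjunction unit F -> f_*f^*F with f_*φ : f_*G -> f_*f^*F, is coherent.
('Coherent' is quasi-coherent of finite type, the usual notion on locally Noetherian schemes.) -/
theorem result {X Y : Scheme.{u}} (f : Y ⟶ X) [QuasiCompact f] [QuasiSeparated f] [Flat f] [Surjective f] [IsLocallyNoetherian X] [IsLocallyNoetherian Y] (F : X.Modules) (hF : Coh.IsQCoh F) (G : Y.Modules) (hG : Coh.IsCoh G) (φ : G ⟶ (Scheme.Modules.pullback f).obj F) [Mono φ] : Coh.IsCoh (Limits.pullback ((Scheme.Modules.pullbackPushforwardAdjunction f).unit.app F) ((Scheme.Modules.pushforward f).map φ)) := by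

    exact Aux.isCoh_inter f hF hG φ

end Groth.Agent.S7502
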