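import Groth.Statements.S7509
import Groth.Agent.GrpdLib.SubGroupoid

set_option backward.isDefEq.respectTransparency false
set_option backward.isDefEq.respectTransparency.types false
-- import your own Groth.Agent.* helpers here

set_option autoImplicit false
universe u
open CategoryTheory CategoryTheory.Limits AlgebraicGeometry
open Grpd

namespace Groth.Agent.S7509

/-- Let (U, R, s, t, c) be a groupoid scheme over S with U the spectrum of a field and R quasi-compact
(equivalently s, t quasi-compact), and let Z be the scheme-theoretic image of j = (t, s) : R -> U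
x_S U. Then (U, Z, pr_0|_Z, pr_1|_Z, pr_02) is a groupoid scheme over S; stated as: there are a
groupoid scheme G' over S and a morphism of groupoid schemes φ : (U, R, s, t, c) -> G' which is an
isomorphism on object schemes, such that j' : G'.R -> G'.U x_S G'.U is a closed immersion whose
kernel ideal sheaf equals the kernel ideal sheaf of j followed by the induced isomorphism U x_S U ->
G'.U x_S G'.U (so G'.R is the scheme-theoretic image of j, transported). (A groupoid scheme carries
U, R, s, t, c, e, i over S with the groupoid axioms on T-points; c is defined on the fibre product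
of s and t and sends a pair (a, b) with s(a) = t(b) to a composed with b.) -/
theorem result (S : Scheme.{u}) (G : Grpd.GroupoidScheme S) (k : Type u) [Field k] (eU : G.U ≅ Spec (CommRingCat.of k)) [CompactSpace G.R] : ∃ (G' : Grpd.GroupoidScheme S) (φ : Grpd.GroupoidScheme.Hom G G'), IsIso φ.fU ∧ IsClosedImmersion G'.j ∧ G'.j.ker = (G.j ≫ pullback.map G.pU G.pU G'.pU G'.pU φ.fU φ.fU (𝟙 S) ((Category.comp_id _).trans φ.fU_over.symm) ((Category.comp_id _).trans φ.fU_over.symm)).ker :=  by
  have : IsIso (Groth.Agent.GrpdLib.jHom G).fU := inferInstanceAs (IsIso (𝟙 G.U))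
  have : IsAffine G.U := IsAffine.of_isIso eU.hom
  let m : pullback G.pU G.pU ⟶ pullback (terminal.from G.U) (terminal.from G.U) :=
    pullback.map _ _ _ _ (𝟙 _) (𝟙 _) (terminal.from S) (Subsingleton.elim _ _) (Subsingleton.elim _ _)
  have : Mono m := ⟨fun {Z} g h e => by
    refine pullback.hom_ext ?_ ?_
    · simpa [m] using congrArg (· ≫ pullback.fst (terminal.from G.U) (terminal.from G.U)) e
    · simpa [m] using congrArg (· ≫ pullback.snd (terminal.from G.U) (terminal.from G.U)) e⟩
  have : IsSeparated (m ≫ terminal.from _) := inferInstance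
  have : (pullback G.pU G.pU).IsSeparated := ⟨by rwa [terminal.comp_from] at this⟩
  have : QuasiCompact (G.j ≫ terminal.from _) := by
    rw [terminal.comp_from]; exact (compactSpace_iff_quasiCompact G.R).1 inferInstance
  have : QuasiCompact G.j := QuasiCompact.of_comp G.j (terminal.from _)
  have : QuasiCompact (Groth.Agent.GrpdLib.jHom G).fR := this
  obtain ⟨D, φ, h₀, -, h₁, h₂⟩ := Groth.Agent.GrpdLib.exists_image_groupoid
    (G₂ := Groth.Agent.GrpdLib.pairGpd G.pU) k eU (Groth.Agent.GrpdLib.jHom G)
  have hj : D.toGpd.j = D.ι := pullback.hom_ext (pullback.lift_fst _ _ _) (pullback.lift_snd _ _ _)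
  have hU : φ.fU = 𝟙 G.U := h₀
  refine ⟨D.toGpd, φ, h₀ ▸ inferInstanceAs (IsIso (𝟙 G.U)), by rw [hj]; exact h₁, ?_⟩
  rw [hj]
  refine h₂.trans (congrArg (fun m : G.R ⟶ pullback G.pU G.pU => m.ker) ?_)
  refine pullback.hom_ext ?_ ?_
  · refine Eq.symm ((Category.assoc _ _ _).trans ((congrArg (_ ≫ ·) (pullback.lift_fst _ _ _)).trans ?_))
    exact (congrArg (_ ≫ ·) ((congrArg (pullback.fst G.pU G.pU ≫ ·) hU).trans (Category.comp_id _)))
  · refine Eq.symm ((Category.assoc _ _ _).trans ((congrArg (_ ≫ ·) (pullback.lift_snd _ _ _)).trans ?_))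
    exact (congrArg (_ ≫ ·) ((congrArg (pullback.snd G.pU G.pU ≫ ·) hU).trans (Category.comp_id _)))
end Groth.Agent.S7509
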