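import Groth.Statements.S7510
import Groth.Agent.GrpdLib.StabTorsor

set_option backward.isDefEq.respectTransparency false
set_option backward.isDefEq.respectTransparency.types false
-- import your own Groth.Agent.* helpers here

set_option autoImplicit false
universe u
open CategoryTheory CategoryTheory.Limits AlgebraicGeometry
open Grpd

namespace Groth.Agent.S7510

/-- Let (U, R, s, t, c, e, i) be a groupoid scheme over S and g : U' -> U a morphism; write h = s ∘ pr_1
: U' x_(g,U,t) R -> U. Let P, Q, R be properties of morphisms of schemes, with P invariant under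
composition with isomorphisms, such that (1) R implies Q, (2) Q is stable under base change and
composition, (3) every morphism f : X -> Y with Q has a largest open W(P, f) of X on which the
restriction of f has P (given here as a function W with these two properties), and (4) for f with Q
and a base change along Y' -> Y with R, the preimage of W(P, f) in X x_Y Y' is W(P, f') for the base
change f'. If s, t have R and g has Q, then there is an open W of U' whose preimage in U' x_(g,U,t)
R equals W(P, h). (The published statement speaks of arbitrary properties of morphisms; this row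
asks P to be invariant under composition with isomorphisms, which the proof uses to identify the
largest opens on the two isomorphic fibre products of h with t and with s.) (A groupoid scheme
carries U, R, s, t, c, e, i over S with the groupoid axioms on T-points; c is defined on the fibre
product of s and t and sends a pair (a, b) with s(a) = t(b) to a composed with b.) -/
theorem result (S : Scheme.{u}) (G : Grpd.GroupoidScheme S) {U' : Scheme.{u}} (g : U' ⟶ G.U) (P Q R : MorphismProperty Scheme.{u}) [P.RespectsIso] (hRQ : R ≤ Q) [Q.IsStableUnderBaseChange] [Q.IsStableUnderComposition] (W : ∀ {X Y : Scheme.{u}} (f : X ⟶ Y), Q f → X.Opens) (hWP : ∀ {X Y : Scheme.{u}} (f : X ⟶ Y) (hf : Q f), P ((W f hf).ι ≫ f)) (hWmax : ∀ {X Y : Scheme.{u}} (f : X ⟶ Y) (hf : Q f) (V : X.Opens), P (V.ι ≫ f) → V ≤ W f hf) (hWbc : ∀ {X Y Y' : Scheme.{u}} (f : X ⟶ Y) (hf : Q f) (b : Y' ⟶ Y), R b → ∀ hf' : Q (pullback.snd f b), pullback.fst f b ⁻¹ᵁ W f hf = W (pullback.snd f b) hf') (hs : R G.s) (ht : R G.t)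 (hg : Q g) (hh : Q (pullback.snd g G.t ≫ G.s)) : ∃ V : U'.Opens, pullback.fst g G.t ⁻¹ᵁ V = W (pullback.snd g G.t ≫ G.s) hh := by
  let h := pullback.snd g G.t ≫ G.s
  let X := pullback g G.t
  let A := pullback h G.t
  let B := pullback h G.s
  let u₁ : A ⟶ U' := pullback.fst h G.t ≫ pullback.fst g G.t
  let r₁ : A ⟶ G.R := pullback.fst h G.t ≫ pullback.snd g G.t
  let ρ : A ⟶ G.R := pullback.snd h G.t
  have hr : r₁ ≫ G.s = ρ ≫ G.t := by
    simp only [r₁, ρ, Category.assoc]
    exact pullback.condition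
  let m : A ⟶ X := pullback.lift u₁ (pullback.lift r₁ ρ hr ≫ G.c) (by
    rw [G.comp_t]
    simp only [u₁, r₁, Category.assoc, pullback.condition])
  let Φ : A ⟶ B := pullback.lift m ρ (by
    simp only [m, h]
    rw [pullback.lift_snd_assoc, G.comp_s])
  let u₂ : B ⟶ U' := pullback.fst h G.s ≫ pullback.fst g G.t
  let x₂ : B ⟶ G.R := pullback.fst h G.s ≫ pullback.snd g G.t
  let ρ₂ : B ⟶ G.R := pullback.snd h G.s
  have hr₂ : x₂ ≫ G.s = (ρ₂ ≫ G.i) ≫ G.t := by
    rw [Category.assoc ρ₂ G.i, G.i_t]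
    simp only [x₂, ρ₂, Category.assoc]
    exact pullback.condition
  let Ψ : B ⟶ A := pullback.lift (pullback.lift u₂ (pullback.lift x₂ (ρ₂ ≫ G.i) hr₂ ≫ G.c) (by
      rw [G.comp_t]
      simp only [u₂, x₂, Category.assoc, pullback.condition])) ρ₂ (by
    simp only [h]
    rw [pullback.lift_snd_assoc, G.comp_s, Category.assoc, G.i_s])
  have hΦΨ : Φ ≫ Ψ = 𝟙 A := by
    apply pullback.hom_ext
    · apply pullback.hom_ext
      · simp [Φ, Ψ, m, u₂, u₁]
      · simp only [Ψ, Category.assoc, pullback.lift_fst_assoc, pullback.lift_snd]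
        rw [GrpdLib.lift_comp_c]
        refine (GrpdLib.c_congr G _ (α' := pullback.lift r₁ ρ hr ≫ G.c) ?_ (β' := ρ ≫ G.i) ?_).trans ?_
        · simp [Φ, m, x₂]
        · simp [Φ, ρ₂]
        · rw [G.assoc _ _ _ _ (by rw [Category.assoc ρ G.i, G.i_t])]
          refine (GrpdLib.c_congr G _ rfl (G.comp_i _)).trans ((GrpdLib.c_congr G _ rfl ?_).trans ((G.comp_e r₁).trans ?_))
          · rw [← Category.assoc, ← hr, Category.assoc]
          · simp [r₁]
    · simp [Φ, Ψ, ρ, ρ₂]
  have hΨΦ : Ψ ≫ Φ = 𝟙 B := by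
    apply pullback.hom_ext
    · apply pullback.hom_ext
      · simp [Φ, Ψ, m, u₁, u₂]
      · simp only [Φ, m, Category.assoc, pullback.lift_fst_assoc, pullback.lift_snd]
        rw [GrpdLib.lift_comp_c]
        refine (GrpdLib.c_congr G _ (α' := pullback.lift x₂ (ρ₂ ≫ G.i) hr₂ ≫ G.c) ?_ (β' := ρ₂) ?_).trans ?_
        · simp [Ψ, r₁]
        · simp [Ψ, ρ]
        · rw [G.assoc _ _ _ _ (by rw [Category.assoc ρ₂ G.i, G.i_s])]
          refine (GrpdLib.c_congr G _ rfl (G.i_comp _)).trans ((GrpdLib.c_congr G _ rfl ?_).trans ((G.comp_e x₂).trans ?_))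
          · have e : x₂ ≫ G.s = ρ₂ ≫ G.s := by
              simp only [x₂, ρ₂, Category.assoc]
              exact pullback.condition
            rw [← Category.assoc, ← e, Category.assoc]
          · simp [x₂]
    · simp [Φ, Ψ, ρ, ρ₂]
  let e : A ≅ B := ⟨Φ, Ψ, hΦΨ, hΨΦ⟩
  have hA : Q ρ := MorphismProperty.pullback_snd h G.t hh
  have hB : Q ρ₂ := MorphismProperty.pullback_snd h G.s hh
  have hΦρ : Φ ≫ ρ₂ = ρ := pullback.lift_snd ..
  have key : pullback.fst h G.t ⁻¹ᵁ W h hh = m ⁻¹ᵁ W h hh := by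
    have e₁ := hWbc h hh G.t ht hA
    have e₂ := hWbc h hh G.s hs hB
    have em : m ⁻¹ᵁ W h hh = Φ ⁻¹ᵁ W ρ₂ hB := by
      rw [← e₂, ← Scheme.Hom.comp_preimage, pullback.lift_fst]
    rw [em, e₁]
    refine le_antisymm ?_ (hWmax _ _ _ ?_)
    · have hP : P ((e.inv ⁻¹ᵁ W ρ hA).ι ≫ ρ₂) := by
        have : (e.inv ⁻¹ᵁ W ρ hA).ι ≫ ρ₂ = (e.inv ∣_ W ρ hA) ≫ (W ρ hA).ι ≫ ρ := by
          rw [morphismRestrict_ι_assoc]
          refine congrArg (_ ≫ ·) ?_
          calc ρ₂ = (Ψ ≫ Φ) ≫ ρ₂ := by rw [hΨΦ, Category.id_comp]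
            _ = e.inv ≫ ρ := by rw [Category.assoc, hΦρ]
        rw [this]
        haveI : IsIso e.inv := Iso.isIso_inv e
        haveI : IsIso (e.inv ∣_ W ρ hA) := inferInstance
        exact (P.cancel_left_of_respectsIso _ _).mpr (hWP ρ hA)
      intro a ha
      refine hWmax _ hB _ hP (show Φ a ∈ e.inv ⁻¹ᵁ W ρ hA from ?_)
      show e.inv (Φ a) ∈ W ρ hA
      rw [← Scheme.Hom.comp_apply, show Φ ≫ e.inv = 𝟙 A from hΦΨ]
      exact ha
    · have : (Φ ⁻¹ᵁ W ρ₂ hB).ι ≫ ρ = (e.hom ∣_ W ρ₂ hB) ≫ (W ρ₂ hB).ι ≫ ρ₂ := by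
        rw [morphismRestrict_ι_assoc]
        exact congrArg (_ ≫ ·) hΦρ.symm
      rw [this]
      haveI : IsIso e.hom := Iso.isIso_hom e
      haveI : IsIso (e.hom ∣_ W ρ₂ hB) := inferInstance
      exact (P.cancel_left_of_respectsIso _ _).mpr (hWP ρ₂ hB)
  let σ : U' ⟶ X := pullback.lift (𝟙 U') (g ≫ G.e) (by rw [Category.assoc, G.e_t, Category.comp_id, Category.id_comp])
  have hsat : ∀ x y : X, pullback.fst g G.t x = pullback.fst g G.t y → x ∈ W h hh → y ∈ W h hh := by
    intro x y hxy hx
    let π := pullback.fst g G.t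
    let a := pullback.fst π π
    let b := pullback.snd π π
    obtain ⟨z, hz₁, hz₂⟩ := Scheme.Pullback.exists_preimage_pullback (f := π) (g := π) x y hxy
    have hab : (a ≫ pullback.snd g G.t) ≫ G.t = (b ≫ pullback.snd g G.t) ≫ G.t := by
      rw [Category.assoc, Category.assoc, ← pullback.condition (f := g) (g := G.t)]
      exact (reassoc_of% (pullback.condition (f := π) (g := π))) g
    let d := pullback.lift ((a ≫ pullback.snd g G.t) ≫ G.i) (b ≫ pullback.snd g G.t)
      (by rw [Category.assoc _ G.i, G.i_s, hab]) ≫ G.c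
    let q : pullback π π ⟶ A := pullback.lift a d (by
      show a ≫ pullback.snd g G.t ≫ G.s = d ≫ G.t
      rw [G.comp_t, Category.assoc _ G.i, G.i_t, Category.assoc])
    have hq : q ≫ pullback.fst h G.t = a := pullback.lift_fst ..
    have hqm : q ≫ m = b := by
      apply pullback.hom_ext
      · simp only [q, m, u₁, Category.assoc, pullback.lift_fst, pullback.lift_fst_assoc]
        exact pullback.condition
      · simp only [m, Category.assoc, pullback.lift_snd]
        rw [GrpdLib.lift_comp_c]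
        refine (GrpdLib.c_congr G _ (α' := a ≫ pullback.snd g G.t) ?_ (β' := d) ?_).trans ?_
        · simp [q, r₁]
        · simp [q, ρ]
        · rw [← G.assoc _ _ _ (by rw [Category.assoc _ G.i, G.i_t])]
          refine (GrpdLib.c_congr G _ (G.comp_i _) rfl).trans ((GrpdLib.c_congr G _ ?_ rfl).trans (G.e_comp _))
          rw [← Category.assoc, hab, Category.assoc]
    have hzA : q z ∈ pullback.fst h G.t ⁻¹ᵁ W h hh := by
      show pullback.fst h G.t (q z) ∈ W h hh
      rw [← Scheme.Hom.comp_apply, hq, hz₁]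
      exact hx
    rw [key] at hzA
    have : m (q z) ∈ W h hh := hzA
    rwa [← Scheme.Hom.comp_apply, hqm, hz₂] at this
  refine ⟨σ ⁻¹ᵁ W h hh, TopologicalSpace.Opens.ext (Set.ext fun x => ?_)⟩
  have hπσ : pullback.fst g G.t (σ (pullback.fst g G.t x)) = pullback.fst g G.t x := by
    rw [← Scheme.Hom.comp_apply σ, pullback.lift_fst]
    rfl
  exact ⟨fun hx => hsat _ x hπσ hx, fun hx => hsat x _ hπσ.symm hx⟩
end Groth.Agent.S7510
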