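import Groth.Statements.S7512
import Groth.Agent.HTopCov.Sheaf
import Groth.Agent.HTopCov.Misc
-- import your own Groth.Agent.* helpers here

set_option autoImplicit false
universe w u
open HTop

namespace Groth.Agent.S7512

open CategoryTheory CategoryTheory.Limits AlgebraicGeometry in
/-- Let {f_i : T_i -> T} be a family of flat morphisms of schemes. Assume that for every affine scheme Z
and every morphism h : Z -> T there is a standard fpqc covering of Z (a finite family of flat
morphisms Z_j -> Z with Z_j affine whose images cover Z) refining the family of base changes {T_i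
x_T Z -> Z} (every Z_j -> Z factors through some T_i compatibly with h). Then {f_i : T_i -> T} is an
fpqc covering (in Mathlib's sense). -/
theorem result {T : Scheme.{u}} (E : PreZeroHypercover.{w} T) (hflat : ∀ i, Flat (E.f i)) (href : ∀ (Z : Scheme.{u}) [IsAffine Z] (h : Z ⟶ T), ∃ F : PreZeroHypercover.{0} Z, Finite F.I₀ ∧ (∀ j, IsAffine (F.X j)) ∧ (∀ j, Flat (F.f j)) ∧ (∀ z : Z, ∃ (j : F.I₀) (x : F.X j), F.f j x = z) ∧ HTop.RefinesOver h F E) : E.presieve₀ ∈ Scheme.fpqcPrecoverage T := by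
  rw [Groth.Agent.HTopCov.fpqc_mem_iff, Scheme.presieve₀_mem_qcPrecoverage_iff, PreZeroHypercover.presieve₀, Scheme.ofArrows_mem_precoverage_iff]
  refine ⟨⟨fun {U} hU => ?_⟩, fun x => ?_, hflat⟩
  · haveI : IsAffine (U : Scheme.{u}) := hU
    obtain ⟨F, hfin, haff, -, hs, hr⟩ := href (U : Scheme.{u}) U.ι
    choose i k hk using hr
    haveI := haff
    refine IsCompactOpenCovered.of_comp (a := i) (fun j => ⇑(F.f j ≫ U.ι)) (fun j => ⇑(k j)) (fun j => (k j).continuous)
      (fun j => by rw [← hk j]; rfl) (fun j => (E.f j).continuous) U.2 ?_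
    refine .of_finite (κ := F.I₀) id (fun j => ⊤) (fun j => isCompact_univ) (subset_antisymm (fun t ht => ?_) fun t ht => ?_)
    · obtain ⟨j, y, -, rfl⟩ := Set.mem_iUnion.mp ht
      exact (F.f j y).2
    · obtain ⟨j, y, hy⟩ := hs ⟨t, ht⟩
      exact Set.mem_iUnion.mpr ⟨j, y, trivial, congrArg U.ι hy⟩
  · obtain ⟨U, hU, hxU, -⟩ := exists_isAffineOpen_mem_and_subset (U := ⊤) (x := x) trivial
    haveI : IsAffine (U : Scheme.{u}) := hU
    obtain ⟨F, -, -, -, hs, hr⟩ := href (U : Scheme.{u}) U.ι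
    obtain ⟨j, y, hy⟩ := hs ⟨x, hxU⟩
    obtain ⟨i, k, hk⟩ := hr j
    refine ⟨i, k y, ?_⟩
    rw [← Scheme.Hom.comp_apply, hk]
    exact congrArg U.ι hy

end Groth.Agent.S7512
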