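import Groth.Statements.S7514
import Mathlib

set_option backward.isDefEq.respectTransparency false
set_option backward.isDefEq.respectTransparency.types false
-- import your own Groth.Agent.* helpers here

set_option autoImplicit false
universe u
open CategoryTheory CategoryTheory.Limits AlgebraicGeometry
open Grpd

namespace Groth.Agent.S7514

/-- Let S be a scheme, U a scheme over S and j : R -> U x_S U a pre-relation, with t = pr_0 ∘ j and s =
pr_1 ∘ j. Assume (1) s and t are unramified (formally unramified and locally of finite type), (2)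
for every algebraically closed field k, the map from k-points of R to pairs of k-points of U is
injective with image an equivalence relation, and (3) there are morphisms e : U -> R, i : R -> R and
c : R x_(s,U,t) R -> R such that j ∘ e is the diagonal, j ∘ i is j followed by the flip of the two
factors, and j ∘ c is pr_02 ∘ (j x j) (the arrow c(a, b) has target t(a) and source s(b)). Then j is
an equivalence relation: j is a monomorphism and, for every scheme T, the relation 'there is a
T-point r of R with t ∘ r = a and s ∘ r = b' on T-points a, b of U is an equivalence relation. -/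
theorem result {S U R : Scheme.{u}} (pU : U ⟶ S) (j : R ⟶ pullback pU pU) [FormallyUnramified (j ≫ pullback.fst pU pU)] [LocallyOfFiniteType (j ≫ pullback.fst pU pU)] [FormallyUnramified (j ≫ pullback.snd pU pU)] [LocallyOfFiniteType (j ≫ pullback.snd pU pU)] (h₂ : ∀ (k : Type u) [Field k] [IsAlgClosed k], Function.Injective (fun r : Spec (CommRingCat.of k) ⟶ R => r ≫ j) ∧ Equivalence (fun a b : Spec (CommRingCat.of k) ⟶ U => ∃ r : Spec (CommRingCat.of k) ⟶ R, r ≫ j ≫ pullback.fst pU pU = a ∧ r ≫ j ≫ pullback.snd pU pU = b)) (e : U ⟶ R) (he : e ≫ j = pullback.lift (𝟙 U) (𝟙 U) rfl) (i : R ⟶ R) (hi : i ≫ j = j ≫ (pullbackSymmetry pU pU).hom) (c : pullback (j ≫ pullback.snd pU pU) (j ≫ pullback.fst pU pU) ⟶ R) (hc₁ : c ≫ j ≫ pullback.fst pU pU = pullback.fst (j ≫ pullback.snd pU pU) (j ≫ pullback.fst pU pU) ≫ j ≫ pullback.fst pU pU) (hc₂ : c ≫ j ≫ pullback.snd pU pU = pullback.snd (j ≫ pullback.snd pU pU) (j ≫ pullback.fst pU pU) ≫ j ≫ pullback.snd pU pU) : Mono j ∧ ∀ T : Scheme.{u}, Equivalence (fun a b : T ⟶ U => ∃ r : T ⟶ R, r ≫ j ≫ pullback.fst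 pU pU = a ∧ r ≫ j ≫ pullback.snd pU pU = b) := by
  have hfu : FormallyUnramified j := FormallyUnramified.of_comp j (pullback.fst pU pU)
  have hft : LocallyOfFiniteType j := locallyOfFiniteType_of_comp j (pullback.fst pU pU)
  have hui : UniversallyInjective j := by
    refine (List.TFAE.out (tfae_universallyInjective j) 0 1 (by rfl) (by rfl)).2 ?_
    intro K _ g₁ g₂ hg
    let L := AlgebraicClosure K
    let φ : Spec (CommRingCat.of L) ⟶ Spec (CommRingCat.of K) :=
      Spec.map (CommRingCat.ofHom (algebraMap K L))
    have : Flat φ := by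
      rw [HasRingHomProperty.Spec_iff (P := @Flat)]
      exact RingHom.flat_algebraMap_iff.mpr inferInstance
    have : Surjective φ := ⟨fun x => ⟨IsLocalRing.closedPoint L, Subsingleton.elim _ _⟩⟩
    have : QuasiCompact φ := inferInstance
    have : Epi φ := Flat.epi_of_flat_of_surjective φ
    apply (cancel_epi φ).1
    refine (h₂ L).1 ?_
    simp only [Category.assoc]
    exact congrArg (φ ≫ ·) hg
  have : Surjective (pullback.diagonal j) := (UniversallyInjective.iff_diagonal j).1 hui
  have : Mono j := by
    rw [← pullback.isIso_diagonal_iff]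
    exact (isIso_iff_isOpenImmersion_and_epi_base _).2
      ⟨inferInstance, (TopCat.epi_iff_surjective _).2 (pullback.diagonal j).surjective⟩
  refine ⟨this, fun T => ⟨fun a => ⟨a ≫ e, ?_, ?_⟩, ?_, ?_⟩⟩
  · rw [Category.assoc, ← Category.assoc e, he, pullback.lift_fst, Category.comp_id]
  · rw [Category.assoc, ← Category.assoc e, he, pullback.lift_snd, Category.comp_id]
  · rintro a b ⟨r, ha, hb⟩
    refine ⟨r ≫ i, ?_, ?_⟩
    · rw [Category.assoc, ← Category.assoc i, hi, Category.assoc, pullbackSymmetry_hom_comp_fst, hb]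
    · rw [Category.assoc, ← Category.assoc i, hi, Category.assoc, pullbackSymmetry_hom_comp_snd, ha]
  · rintro a b d ⟨r, hr₁, hr₂⟩ ⟨r', hr'₁, hr'₂⟩
    refine ⟨pullback.lift r r' (hr₂.trans hr'₁.symm) ≫ c, ?_, ?_⟩
    · rw [Category.assoc, hc₁, pullback.lift_fst_assoc, hr₁]
    · rw [Category.assoc, hc₂, pullback.lift_snd_assoc, hr'₂]
end Groth.Agent.S7514
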