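import Groth.Statements.S7516
import Groth.Agent.GrpdLib.FieldComp

set_option backward.isDefEq.respectTransparency false
set_option backward.isDefEq.respectTransparency.types false
-- import your own Groth.Agent.* helpers here

set_option autoImplicit false
universe u
open CategoryTheory CategoryTheory.Limits AlgebraicGeometry
open Grpd

namespace Groth.Agent.S7516

/-- Let (U, R, s, t, c) be a groupoid scheme over S with U = Spec k for a field k, and let Z be an
irreducible component of R passing through the identity point e (there is exactly one). Then Z is
geometrically irreducible over k via either s or t: for any closed immersion ι : Z -> R from an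
irreducible scheme whose image is an irreducible component of R containing e, the composites Z -> R
-> U = Spec k through s and through t are geometrically irreducible. (A groupoid scheme carries U,
R, s, t, c, e, i over S with the groupoid axioms on T-points; c is defined on the fibre product of s
and t and sends a pair (a, b) with s(a) = t(b) to a composed with b.) -/
theorem result (S : Scheme.{u}) (G : Grpd.GroupoidScheme S) (k : Type u) [Field k] (eU : G.U ≅ Spec (CommRingCat.of k)) (Z : Scheme.{u}) (ι : Z ⟶ G.R) [IsClosedImmersion ι] [IrreducibleSpace Z] (hZ : Set.range ⇑ι ∈ irreducibleComponents ↥G.R) (he : G.e (eU.inv (IsLocalRing.closedPoint k)) ∈ Set.range ⇑ι) : GeometricallyIrreducible (ι ≫ G.s ≫ eU.hom) ∧ GeometricallyIrreducible (ι ≫ G.t ≫ eU.hom) :=  GrpdLib.geometricallyIrreducible_st G eU Z ι hZ he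
end Groth.Agent.S7516
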