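import Groth.Statements.S7518
import Groth.Agent.GrpdLib.FieldDim

set_option backward.isDefEq.respectTransparency false
set_option backward.isDefEq.respectTransparency.types false
-- import your own Groth.Agent.* helpers here

set_option autoImplicit false
universe u
open CategoryTheory CategoryTheory.Limits AlgebraicGeometry
open Grpd

namespace Groth.Agent.S7518

/-- Let (U, R, s, t, c) be a groupoid scheme over S with U the spectrum of a field and s, t locally of
finite type. Then R is equidimensional: every irreducible component of R has Krull dimension equal
to dim R; and for every point r of R the local dimension of R at r (the infimum of the dimensions of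
open neighbourhoods) equals dim R. (The equality of the transcendence degrees of κ(r) over s(k) and
over t(k), and the dimension of the local rings at closed points, are not stated here.) (A groupoid
scheme carries U, R, s, t, c, e, i over S with the groupoid axioms on T-points; c is defined on the
fibre product of s and t and sends a pair (a, b) with s(a) = t(b) to a composed with b.) -/
theorem result (S : Scheme.{u}) (G : Grpd.GroupoidScheme S) (k : Type u) [Field k] (eU : G.U ≅ Spec (CommRingCat.of k)) [LocallyOfFiniteType G.s] [LocallyOfFiniteType G.t] : (∀ Z ∈ irreducibleComponents ↥G.R, topologicalKrullDim ↥Z = topologicalKrullDim ↥G.R) ∧ ∀ r : G.R, FlatMor.localDim ↥G.R r = topologicalKrullDim ↥G.R :=  by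
  exact ⟨fun Z hZ => GrpdLib.topologicalKrullDim_component G k eU hZ, GrpdLib.localDim_R G k eU⟩
end Groth.Agent.S7518
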