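import Groth.Statements.S7521
import Groth.Agent.DescLib.DescFinite
import Groth.Agent.AmpleX.FiniteSet
import Groth.Agent.AmpleX.Separated

set_option autoImplicit false
set_option backward.isDefEq.respectTransparency false
set_option backward.isDefEq.respectTransparency.types false
open CategoryTheory CategoryTheory.Limits AlgebraicGeometry
universe u
open Desc

namespace Groth.Agent.S7521

/-- Let p : X -> Y be a surjective finite locally free morphism and V a scheme over X which has an
invertible module ample relative to V -> X. Then every descent datum on V relative to p is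
effective. (A quasi-projective morphism V -> X, in particular a projective one, carries such a
module.) (Descent data are taken in functor-of-points form.) -/
theorem result {X Y : Scheme.{u}} (p : X ⟶ Y) [Surjective p] [IsFinite p] [Flat p] [LocallyOfFinitePresentation p] (D : Desc.SchDD p) (L : D.obj.left.Modules) (hL : RelAmple.IsRelAmple D.obj.hom L) : ∃ W : Over Y, Nonempty ((Desc.toDD p).obj W ≅ D) := by
  refine DescLib.effective_of_orbits p D fun v => ?_
  haveI : IsFinite (pullback.fst (DescLib.IndQA.sv p D) p) := MorphismProperty.pullback_fst _ _ inferInstance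
  obtain ⟨_, ⟨Y', hY', rfl⟩, hvY, -⟩ :=
    Y.isBasis_affineOpens.exists_subset_of_mem_open (Set.mem_univ (p (D.obj.hom v))) isOpen_univ
  replace hY' : IsAffineOpen Y' := hY'
  let V' : D.obj.left.Opens := D.obj.hom ⁻¹ᵁ (p ⁻¹ᵁ Y')
  have hA := hL.2 ⟨p ⁻¹ᵁ Y', hY'.preimage p⟩
  haveI : CompactSpace (V' : Scheme.{u}) := hA.2.1
  haveI : (V' : Scheme.{u}).IsSeparated := AmpleX.isSeparated_of_isAmple hA
  have hfin := ((pullback.fst (DescLib.IndQA.sv p D) p).finite_preimage_singleton v).image (DescLib.IndQA.d₁ p D)
  obtain ⟨n, s, hs, -, haff⟩ := AmpleX.exists_finite_nhd hA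
    (hfin.preimage (f := fun x : V'.toScheme => V'.ι x) V'.ι.isOpenEmbedding.injective.injOn)
    (U := ⊤) (fun _ _ => trivial)
  refine ⟨_, haff.image_of_isOpenImmersion V'.ι, fun r hr => ?_⟩
  have hmem : DescLib.IndQA.d₁ p D r ∈ V' := by
    show p (D.obj.hom (DescLib.IndQA.d₁ p D r)) ∈ Y'
    rw [← Scheme.Hom.comp_apply, ← Scheme.Hom.comp_apply, DescLib.IndQA.d₁_sv, Scheme.Hom.comp_apply, hr]
    exact hvY
  exact ⟨⟨_, hmem⟩, hs ⟨r, hr, rfl⟩, rfl⟩

end Groth.Agent.S7521
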