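import Groth.Statements.S7522


set_option backward.isDefEq.respectTransparency false
set_option backward.isDefEq.respectTransparency.types false
-- import your own Groth.Agent.* helpers here

set_option autoImplicit false
universe u
open CategoryTheory CategoryTheory.Limits AlgebraicGeometry
open Grpd

namespace Groth.Agent.S7522

/-- Let S be a scheme, U a scheme over S and j : R -> U x_S U a pre-equivalence relation, that is a
morphism such that for every scheme T the image of the T-points of R in pairs of T-points of U is an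
equivalence relation; write t = pr_0 ∘ j and s = pr_1 ∘ j. Then the relation on the points of U in
which x ∼ y when some point r of R has t(r) = x and s(r) = y is an equivalence relation. -/
theorem result {S U R : Scheme.{u}} (pU : U ⟶ S) (j : R ⟶ pullback pU pU) (hj : ∀ T : Scheme.{u}, Equivalence (fun a b : T ⟶ U => ∃ r : T ⟶ R, r ≫ j ≫ pullback.fst pU pU = a ∧ r ≫ j ≫ pullback.snd pU pU = b)) : Equivalence (fun x y : ↥U => ∃ r : R, (j ≫ pullback.fst pU pU) r = x ∧ (j ≫ pullback.snd pU pU) r = y) := by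
  let q₀ := j ≫ pullback.fst pU pU
  let q₁ := j ≫ pullback.snd pU pU
  refine ⟨fun x => ?_, fun {x y} h => ?_, fun {x y z} hxy hyz => ?_⟩
  · obtain ⟨r, h₀, h₁⟩ := (hj U).refl (𝟙 U)
    exact ⟨r x, by rw [← Scheme.Hom.comp_apply, h₀]; rfl, by rw [← Scheme.Hom.comp_apply, h₁]; rfl⟩
  · obtain ⟨r, h₀, h₁⟩ := h
    obtain ⟨σ, g₀, g₁⟩ := (hj R).symm ⟨𝟙 R, Category.id_comp q₀, Category.id_comp q₁⟩
    refine ⟨σ r, ?_, ?_⟩
    · rw [← Scheme.Hom.comp_apply, g₀]
      exact h₁
    · rw [← Scheme.Hom.comp_apply, g₁]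
      exact h₀
  · obtain ⟨r, h₀, h₁⟩ := hxy
    obtain ⟨r', h₀', h₁'⟩ := hyz
    obtain ⟨w, hw₁, hw₂⟩ := Scheme.Pullback.exists_preimage_pullback (f := q₁) (g := q₀) r r' (h₁.trans h₀'.symm)
    obtain ⟨ρ, g₀, g₁⟩ := (hj (pullback q₁ q₀)).trans
      (⟨pullback.fst q₁ q₀, rfl, rfl⟩ : ∃ k : pullback q₁ q₀ ⟶ R,
        k ≫ j ≫ pullback.fst pU pU = pullback.fst q₁ q₀ ≫ q₀ ∧ k ≫ j ≫ pullback.snd pU pU = pullback.fst q₁ q₀ ≫ q₁)
      ⟨pullback.snd q₁ q₀, pullback.condition.symm, (rfl : _ = pullback.snd q₁ q₀ ≫ q₁)⟩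
    refine ⟨ρ w, ?_, ?_⟩
    · rw [← Scheme.Hom.comp_apply, g₀, Scheme.Hom.comp_apply, hw₁]
      exact h₀
    · rw [← Scheme.Hom.comp_apply, g₁, Scheme.Hom.comp_apply, hw₂]
      exact h₁'
end Groth.Agent.S7522
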