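import Groth.Statements.S7527
import Groth.Agent.SpecLib.Basic

set_option autoImplicit false
set_option backward.isDefEq.respectTransparency false
set_option backward.isDefEq.respectTransparency.types false
universe u
open SpecSp

namespace Groth.Agent.S7527

/-- Let X be a spectral space and x, y ∈ X. Then either there is a third point specializing to both x
and y, or there are disjoint open neighbourhoods of x and of y. -/
theorem result {X : Type u} [TopologicalSpace X] [SpectralSpace X] (x y : X) :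
    (∃ z : X, z ⤳ x ∧ z ⤳ y) ∨
    (∃ U V : Set X, IsOpen U ∧ IsOpen V ∧ x ∈ U ∧ y ∈ V ∧ Disjoint U V) := by
  by_cases h : ∀ U V : Set X, IsOpen U → IsCompact U → x ∈ U → IsOpen V → IsCompact V → y ∈ V → (U ∩ V).Nonempty
  · left
    let ι := {U : Set X // IsOpen U ∧ IsCompact U ∧ x ∈ U} × {V : Set X // IsOpen V ∧ IsCompact V ∧ y ∈ V}
    haveI : Nonempty ι := ⟨⟨Set.univ, isOpen_univ, isCompact_univ, trivial⟩, ⟨Set.univ, isOpen_univ, isCompact_univ, trivial⟩⟩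
    obtain ⟨z, hz⟩ := SpecLib.CC.nonempty_iInter (fun p : ι => p.1.1 ∩ p.2.1)
      (fun p q => ⟨(⟨p.1.1 ∩ q.1.1, p.1.2.1.inter q.1.2.1,
          QuasiSeparatedSpace.inter_isCompact _ _ p.1.2.1 p.1.2.2.1 q.1.2.1 q.1.2.2.1, p.1.2.2.2, q.1.2.2.2⟩,
        ⟨p.2.1 ∩ q.2.1, p.2.2.1.inter q.2.2.1,
          QuasiSeparatedSpace.inter_isCompact _ _ p.2.2.1 p.2.2.2.1 q.2.2.1 q.2.2.2.1, p.2.2.2.2, q.2.2.2.2⟩),
        fun _ hz => ⟨hz.1.1, hz.2.1⟩, fun _ hz => ⟨hz.1.2, hz.2.2⟩⟩)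
      (fun p => h _ _ p.1.2.1 p.1.2.2.1 p.1.2.2.2 p.2.2.1 p.2.2.2.1 p.2.2.2.2)
      (fun p => (SpecLib.cc_of_isOpen_isCompact p.1.2.1 p.1.2.2.1).inter (SpecLib.cc_of_isOpen_isCompact p.2.2.1 p.2.2.2.1))
    rw [Set.mem_iInter] at hz
    exact ⟨z, SpecLib.specializes_of_forall_qc fun U a b c => (hz (⟨U, a, b, c⟩, ⟨Set.univ, isOpen_univ, isCompact_univ, trivial⟩)).1,
      SpecLib.specializes_of_forall_qc fun V a b c => (hz (⟨Set.univ, isOpen_univ, isCompact_univ, trivial⟩, ⟨V, a, b, c⟩)).2⟩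
  · right
    push Not at h
    obtain ⟨U, V, hU, -, hx, hV, -, hy, he⟩ := h
    exact ⟨U, V, hU, hV, hx, hy, Set.disjoint_iff_inter_eq_empty.2 he⟩

end Groth.Agent.S7527
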