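import Groth.Statements.S7528
import Groth.Agent.SpecLib.Basic

set_option autoImplicit false
set_option backward.isDefEq.respectTransparency false
set_option backward.isDefEq.respectTransparency.types false
universe u
open SpecSp

namespace Groth.Agent.S7528

/-- For a spectral space X the following are equivalent: (1) X is profinite, i.e. quasi-compact,
Hausdorff and totally disconnected (quasi-compactness being automatic); (2) X is Hausdorff; (3) X is
totally disconnected; (4) every quasi-compact open subset is closed; (5) there are no nontrivial
specializations between points; (6) every point is closed; (7) every point is the generic point of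
an irreducible component; (8) the constructible topology coincides with the topology of X. -/
theorem result (X : Type u) [tX : TopologicalSpace X] [SpectralSpace X] :
    List.TFAE [
      T2Space X ∧ TotallyDisconnectedSpace X,
      T2Space X,
      TotallyDisconnectedSpace X,
      ∀ U : Set X, IsOpen U → IsCompact U → IsClosed U,
      ∀ x y : X, x ⤳ y → x = y,
      ∀ x : X, IsClosed ({x} : Set X),
      ∀ x : X, closure ({x} : Set X) ∈ irreducibleComponents X,
      constructibleTopology X = tX] := by
  tfae_have 1 → 2 := fun h => h.1
  tfae_have 1 → 3 := fun h => h.2
  tfae_have 2 → 4 := fun h U _ hU' => hU'.isClosed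
  tfae_have 3 → 5 := fun h x y hxy => by
    have := h.isTotallyDisconnected_univ (closure {x}) (Set.subset_univ _) isPreconnected_singleton.closure
    exact this (subset_closure rfl) hxy.mem_closure
  tfae_have 4 → 5 := fun h x y hxy => by
    by_contra hne
    obtain ⟨U, hU, hU', hs⟩ := SpecLib.exists_qc_separating hne
    exact hs ⟨fun hx => hxy.mem_closed (h U hU hU') hx, fun hy => hxy.mem_open hU hy⟩
  tfae_have 5 → 6 := fun h x => isClosed_of_closure_subset fun y hy => by
    rw [Set.mem_singleton_iff]
    exact (h x y (specializes_iff_mem_closure.2 hy)).symm
  tfae_have 6 → 5 := fun h x y hxy => ((hxy.mem_closed (h x) rfl : y ∈ ({x} : Set X))).symm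
  tfae_have 5 → 7 := fun h x => by
    refine ⟨isIrreducible_singleton.closure, fun Z hZ hle => ?_⟩
    have hη := hZ.isGenericPoint_genericPoint_closure
    have e : hZ.genericPoint = x := h _ _ (hη.specializes (subset_closure (hle (subset_closure rfl))))
    exact (subset_closure.trans_eq (e ▸ hη.def).symm : Z ⊆ closure {x})
  tfae_have 7 → 5 := fun h x y hxy => by
    have hle : closure ({y} : Set X) ⊆ closure {x} :=
      isClosed_closure.closure_subset_iff.2 (Set.singleton_subset_iff.2 hxy.mem_closure)
    have := (h y).2 isIrreducible_singleton.closure hle
    exact (hxy.antisymm (specializes_iff_mem_closure.2 (this (subset_closure rfl)))).eq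
  tfae_have 5 → 8 := fun h => by
    refine le_antisymm SpecLib.cons_le (le_generateFrom fun s hs => ?_)
    rcases hs with ⟨h1, -⟩ | ⟨h1, h2⟩
    · exact h1
    · refine SpecLib.CO.isOpen ?_ (fun a b hab ha => h b a hab ▸ ha)
      have := (SpecLib.cc_of_isOpen_isCompact h1.isOpen_compl h2).compl
      rwa [compl_compl] at this
  tfae_have 8 → 1 := fun h => by
    have h1 : @T2Space X (constructibleTopology X) := SpecLib.t2_cons
    have h2 : @TotallyDisconnectedSpace X (constructibleTopology X) :=
      @TotallySeparatedSpace.totallyDisconnectedSpace X (constructibleTopology X) SpecLib.totallySeparated_cons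
    rw [h] at h1 h2
    exact ⟨h1, h2⟩
  tfae_finish

end Groth.Agent.S7528
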