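import Groth.Statements.S7530
import Groth.Agent.SpecLib.Basic

set_option autoImplicit false
set_option backward.isDefEq.respectTransparency false
set_option backward.isDefEq.respectTransparency.types false
universe u
open SpecSp

namespace Groth.Agent.S7530

/-- Let f : X → Y be a map of spectral spaces which is spectral and bijective, and assume that
generalizations lift along f or that specializations lift along f. Then f is a homeomorphism. -/
theorem result {X Y : Type u} [TopologicalSpace X] [TopologicalSpace Y]
    [SpectralSpace X] [SpectralSpace Y] (f : X → Y) (hf : IsSpectralMap f) (hb : Function.Bijective f)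
    (hlift : GeneralizingMap f ∨ SpecializingMap f) :
    IsHomeomorph f := by
  have himg : ∀ E : Set X, SpecLib.CC E → SpecLib.CC (f '' E) := fun E hE => SpecLib.CC.image hf hE
  refine ⟨hf.continuous, ?_, hb⟩
  rcases hlift with hg | hs
  · intro U hU
    refine SpecLib.CO.isOpen ?_ (hg.stableUnderGeneralization_image hU.stableUnderGeneralization)
    have := (himg Uᶜ (SpecLib.cc_of_isClosed hU.isClosed_compl)).compl
    rwa [Set.image_compl_eq hb, compl_compl] at this
  · intro U hU
    rw [← isClosed_compl_iff, ← Set.image_compl_eq hb]
    exact SpecLib.CC.isClosed (himg Uᶜ (SpecLib.cc_of_isClosed hU.isClosed_compl))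
      (hs.stableUnderSpecialization_image hU.isClosed_compl.stableUnderSpecialization)

end Groth.Agent.S7530
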