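import Groth.Statements.S7532
import Groth.Agent.SpecLib.Sierp

set_option autoImplicit false
set_option backward.isDefEq.respectTransparency false
set_option backward.isDefEq.respectTransparency.types false
universe u
open SpecSp

namespace Groth.Agent.S7532

/-- Let W be the two-point space with one closed and one non-closed point (here the Sierpiński topology
on Prop). A topological space X is spectral exactly when, for some index type I, X admits a
topological embedding into the power W^I whose image is a closed set for the constructible topology
on W^I. -/
theorem result (X : Type u) [TopologicalSpace X] :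
    SpectralSpace X ↔ ∃ (I : Type u) (f : X → (I → Prop)),
      Topology.IsEmbedding f ∧ @IsClosed (I → Prop) (constructibleTopology (I → Prop)) (Set.range f) := by
  haveI := fun I : Type u => SpecLib.spectralSpace_pi_prop (I := I)
  constructor
  · intro h
    refine ⟨{U : Set X // IsOpen U ∧ IsCompact U}, fun x U => x ∈ U.1, ?_, ?_⟩
    · refine ⟨⟨le_antisymm ?_ ?_⟩, fun x y hxy => ?_⟩
      · refine (continuous_pi fun U => ?_).le_induced
        refine continuous_generateFrom_iff.2 fun s hs => ?_
        rw [Set.mem_singleton_iff] at hs
        subst hs
        convert U.2.1 using 1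
        ext x; simp
      · intro V hV
        obtain ⟨S, hS, rfl⟩ := PrespectralSpace.isTopologicalBasis.open_eq_sUnion hV
        refine @isOpen_sUnion X (TopologicalSpace.induced _ _) S fun s hs => ?_
        refine isOpen_induced_iff.2 ⟨(fun g : {U : Set X // IsOpen U ∧ IsCompact U} → Prop => g ⟨s, hS hs⟩) ⁻¹' {True},
          isOpen_singleton_true.preimage (continuous_apply _), ?_⟩
        ext x; simp
      · by_contra hne
        obtain ⟨U, h1, h2, h3⟩ := SpecLib.exists_qc_separating hne
        exact h3 (iff_of_eq (congrFun hxy ⟨U, h1, h2⟩))
    · refine @IsCompact.isClosed _ (constructibleTopology _) SpecLib.t2_cons _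
        (@isCompact_range X _ (constructibleTopology X) (constructibleTopology _) SpecLib.compactSpace_cons _
          (SpecLib.IsSpectralMap.continuous_cons ?_))
      refine ⟨?_, fun V hV hV' => ?_⟩
      · exact continuous_pi fun U => continuous_generateFrom_iff.2 fun s hs => by
          rw [Set.mem_singleton_iff] at hs
          subst hs
          convert U.2.1 using 1
          ext x; simp
      · obtain ⟨S, hS, rfl⟩ := (isCompact_open_iff_eq_finite_iUnion_of_isTopologicalBasis _
          SpecLib.isBasis_cyl SpecLib.isCompact_cyl V).1 ⟨hV', hV⟩
        rw [Set.preimage_iUnion₂]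
        refine hS.isCompact_biUnion fun s _ => ?_
        have e : (fun (x : X) (U : {U : Set X // IsOpen U ∧ IsCompact U}) => x ∈ U.1) ⁻¹' SpecLib.cyl s = ⋂ U ∈ s, U.1 := by
          ext x; simp [SpecLib.cyl]
        rw [e]
        exact (SpecLib.CC.iInter fun U => SpecLib.CC.iInter fun _ => SpecLib.cc_of_isOpen_isCompact U.2.1 U.2.2).isCompact
  · rintro ⟨I, f, hf, hcl⟩
    haveI := SpecLib.spectralSpace_of_cc (X := I → Prop) hcl
    let e := hf.toHomeomorph
    haveI : CompactSpace X := e.symm.compactSpace
    exact e.isOpenEmbedding.spectralSpace

end Groth.Agent.S7532
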