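import Groth.Statements.S7535
import Groth.Agent.SpecLib.Limit

set_option autoImplicit false
set_option backward.isDefEq.respectTransparency false
set_option backward.isDefEq.respectTransparency.types false
universe u
open CategoryTheory CategoryTheory.Limits
open SpecSp

namespace Groth.Agent.S7535

/-- Let j ↦ X_j be a cofiltered diagram of spectral spaces with spectral transition maps f_a, X its
limit with projections p_j, i an object, and E, F ⊆ X_i subsets, E constructibly closed and F
constructibly open in X_i. The inclusion p_i⁻¹(E) ⊆ p_i⁻¹(F) holds exactly when some morphism a : j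
→ i already gives f_a⁻¹(E) ⊆ f_a⁻¹(F). -/
theorem result {J : Type u} [SmallCategory J] [IsCofiltered J] (F : J ⥤ TopCat.{u})
    (hF : ∀ j, SpectralSpace (F.obj j))
    (hFm : ∀ {i j : J} (a : i ⟶ j), IsSpectralMap (F.map a : F.obj i → F.obj j))
    (c : Cone F) (hc : IsLimit c)
    (i : J) (E F' : Set (F.obj i)) (hE : @IsClosed (F.obj i) (constructibleTopology (F.obj i)) E)
    (hF' : @IsOpen (F.obj i) (constructibleTopology (F.obj i)) F') :
    (c.π.app i ⁻¹' E ⊆ c.π.app i ⁻¹' F') ↔ ∃ (j : J) (a : j ⟶ i), F.map a ⁻¹' E ⊆ F.map a ⁻¹' F' := by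
  exact SpecLib.preimage_subset_iff c hc hF hFm i hE hF'

end Groth.Agent.S7535
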