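import Groth.Statements.S7536
import Groth.Agent.SpecLib.Limit

set_option autoImplicit false
set_option backward.isDefEq.respectTransparency false
set_option backward.isDefEq.respectTransparency.types false
universe u
open CategoryTheory CategoryTheory.Limits
open SpecSp

namespace Groth.Agent.S7536

/-- Let j ↦ X_j be a cofiltered diagram of spectral spaces with spectral transition maps and X its limit
with projections p_j. For every constructible E ⊆ X there are an object i and a constructible E_i ⊆
X_i with p_i⁻¹(E_i) = E; if E is open, resp. closed, then E_i may be chosen open, resp. closed. -/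
theorem result {J : Type u} [SmallCategory J] [IsCofiltered J] (F : J ⥤ TopCat.{u})
    (hF : ∀ j, SpectralSpace (F.obj j))
    (hFm : ∀ {i j : J} (a : i ⟶ j), IsSpectralMap (F.map a : F.obj i → F.obj j))
    (c : Cone F) (hc : IsLimit c)
    (E : Set c.pt) (hE : Topology.IsConstructible E) :
    (∃ (i : J) (Ei : Set (F.obj i)), Topology.IsConstructible Ei ∧ c.π.app i ⁻¹' Ei = E) ∧
    (IsOpen E → ∃ (i : J) (Ei : Set (F.obj i)), Topology.IsConstructible Ei ∧ IsOpen Ei ∧ c.π.app i ⁻¹' Ei = E) ∧
    (IsClosed E → ∃ (i : J) (Ei : Set (F.obj i)), Topology.IsConstructible Ei ∧ IsClosed Ei ∧ c.π.app i ⁻¹' Ei = E) := by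
  haveI := hF
  haveI := SpecLib.spectralSpace_limit c hc hF hFm
  have hopen : ∀ E : Set c.pt, Topology.IsConstructible E → IsOpen E →
      ∃ (i : J) (Ei : Set (F.obj i)), Topology.IsConstructible Ei ∧ IsOpen Ei ∧ c.π.app i ⁻¹' Ei = E :=
    fun E hE ho => by
      obtain ⟨i, Ei, h1, h2, h3⟩ := SpecLib.exists_eq_preimage c hc hF hFm ho (SpecLib.cons_clopen hE).1.isCompact
      exact ⟨i, Ei, h2.isConstructible h1, h1, h3⟩
  refine ⟨SpecLib.exists_constructible c hc hF hFm hE, hopen E hE, fun hcl => ?_⟩
  obtain ⟨i, Ei, h1, h2, h3⟩ := hopen Eᶜ hE.compl hcl.isOpen_compl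
  exact ⟨i, Eiᶜ, h1.compl, h2.isClosed_compl, by rw [Set.preimage_compl, h3, compl_compl]⟩

end Groth.Agent.S7536
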