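import Groth.Statements.S7538
import Groth.Agent.SpecLib.Limit

set_option autoImplicit false
set_option backward.isDefEq.respectTransparency false
set_option backward.isDefEq.respectTransparency.types false
universe u
open CategoryTheory CategoryTheory.Limits
open SpecSp

namespace Groth.Agent.S7538

/-- Let j ↦ X_j be a cofiltered diagram of spectral spaces with spectral transition maps f_a and X its
limit with projections p_j. (1) Any quasi-compact open U ⊆ X is p_i⁻¹(U_i) for some i and some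
quasi-compact open U_i ⊆ X_i. (2) If U_i ⊆ X_i and U_j ⊆ X_j are quasi-compact opens with p_i⁻¹(U_i)
⊆ p_j⁻¹(U_j), there are k and a : k → i, b : k → j with f_a⁻¹(U_i) ⊆ f_b⁻¹(U_j). (3) If U_i and
finitely many U_{l,i} are quasi-compact opens of X_i with p_i⁻¹(U_i) = ⋃_l p_i⁻¹(U_{l,i}), then
f_a⁻¹(U_i) = ⋃_l f_a⁻¹(U_{l,i}) for some a : j → i. (4) The same with intersections. -/
theorem result {J : Type u} [SmallCategory J] [IsCofiltered J] (F : J ⥤ TopCat.{u})
    (hF : ∀ j, SpectralSpace (F.obj j))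
    (hFm : ∀ {i j : J} (a : i ⟶ j), IsSpectralMap (F.map a : F.obj i → F.obj j))
    (c : Cone F) (hc : IsLimit c) :
    (∀ U : Set c.pt, IsOpen U → IsCompact U →
      ∃ (i : J) (Ui : Set (F.obj i)), IsOpen Ui ∧ IsCompact Ui ∧ c.π.app i ⁻¹' Ui = U) ∧
    (∀ (i j : J) (Ui : Set (F.obj i)) (Uj : Set (F.obj j)),
      IsOpen Ui → IsCompact Ui → IsOpen Uj → IsCompact Uj →
      c.π.app i ⁻¹' Ui ⊆ c.π.app j ⁻¹' Uj →
      ∃ (k : J) (a : k ⟶ i) (b : k ⟶ j), F.map a ⁻¹' Ui ⊆ F.map b ⁻¹' Uj) ∧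
    (∀ (i : J) (n : ℕ) (Ui : Set (F.obj i)) (V : Fin n → Set (F.obj i)),
      IsOpen Ui → IsCompact Ui → (∀ l, IsOpen (V l) ∧ IsCompact (V l)) →
      (c.π.app i ⁻¹' Ui = ⋃ l, c.π.app i ⁻¹' V l →
        ∃ (j : J) (a : j ⟶ i), F.map a ⁻¹' Ui = ⋃ l, F.map a ⁻¹' V l) ∧
      (c.π.app i ⁻¹' Ui = ⋂ l, c.π.app i ⁻¹' V l →
        ∃ (j : J) (a : j ⟶ i), F.map a ⁻¹' Ui = ⋂ l, F.map a ⁻¹' V l)) := by
  haveI := hF
  have co : ∀ {i : J} {U : Set (F.obj i)}, IsOpen U → IsCompact U → SpecLib.CC U ∧ SpecLib.CO U :=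
    fun h h' => ⟨SpecLib.cc_of_isOpen_isCompact h h', SpecLib.co_of_isOpen_isCompact h h'⟩
  refine ⟨fun U => SpecLib.exists_eq_preimage c hc hF hFm, fun i j Ui Uj hi hi' hj hj' h => ?_, fun i n Ui V hi hi' hV => ?_⟩
  · let a := IsCofiltered.minToLeft i j
    let b := IsCofiltered.minToRight i j
    rw [SpecLib.preimage_map c a, SpecLib.preimage_map c b] at h
    obtain ⟨k, e, he⟩ := (SpecLib.preimage_subset_iff c hc hF hFm _ ((co hi hi').1.preimage (hFm a))
      (SpecLib.co_of_isOpen_isCompact (hj.preimage (F.map b).hom.continuous) ((hFm b).isCompact_preimage_of_isOpen hj hj'))).1 h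
    refine ⟨k, e ≫ a, e ≫ b, fun x hx => ?_⟩
    simp only [Set.mem_preimage, Functor.map_comp] at hx ⊢
    exact he hx
  · have key : ∀ W : Set (F.obj i), SpecLib.CC W ∧ SpecLib.CO W → c.π.app i ⁻¹' Ui = c.π.app i ⁻¹' W →
        ∃ (j : J) (a : j ⟶ i), F.map a ⁻¹' Ui = F.map a ⁻¹' W := fun W hW h => by
      obtain ⟨j₁, a₁, h₁⟩ := (SpecLib.preimage_subset_iff c hc hF hFm i (co hi hi').1 hW.2).1 h.subset
      obtain ⟨j₂, a₂, h₂⟩ := (SpecLib.preimage_subset_iff c hc hF hFm i hW.1 (co hi hi').2).1 h.ge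
      obtain ⟨k, b₁, b₂, hb⟩ := IsCofiltered.cospan a₁ a₂
      refine ⟨k, b₁ ≫ a₁, Set.Subset.antisymm (fun x hx => ?_) fun x hx => ?_⟩
      · simp only [Set.mem_preimage, Functor.map_comp] at hx ⊢
        exact h₁ hx
      · rw [hb] at hx ⊢
        simp only [Set.mem_preimage, Functor.map_comp] at hx ⊢
        exact h₂ hx
    refine ⟨fun h => ?_, fun h => ?_⟩
    · obtain ⟨j, a, e⟩ := key (⋃ l, V l)
        ⟨SpecLib.cc_of_isOpen_isCompact (isOpen_iUnion fun l => (hV l).1) (isCompact_iUnion fun l => (hV l).2),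
          SpecLib.CO.iUnion fun l => (co (hV l).1 (hV l).2).2⟩ (by rw [Set.preimage_iUnion]; exact h)
      exact ⟨j, a, by rw [e, Set.preimage_iUnion]⟩
    · obtain ⟨j, a, e⟩ := key (⋂ l, V l)
        ⟨SpecLib.CC.iInter fun l => (co (hV l).1 (hV l).2).1,
          @isOpen_iInter_of_finite (F.obj i) (Fin n) (constructibleTopology _) _ _ fun l => (co (hV l).1 (hV l).2).2⟩
        (by rw [Set.preimage_iInter]; exact h)
      exact ⟨j, a, by rw [e, Set.preimage_iInter]⟩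

end Groth.Agent.S7538
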