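import Groth.Statements.S7539
import Groth.Agent.SpecLib.Basic

set_option autoImplicit false
set_option backward.isDefEq.respectTransparency false
set_option backward.isDefEq.respectTransparency.types false
universe u
open SpecSp

namespace Groth.Agent.S7539

/-- For a subset W of a spectral space X, these five conditions coincide: (1) W can be written as an
intersection of constructible subsets and is stable under generalization; (2) W is quasi-compact and
stable under generalization; (3) for some quasi-compact E ⊆ X, W consists exactly of the points that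
specialize to a point of E; (4) W is the intersection of some family of quasi-compact opens; (5)
there are a nonempty index set I and quasi-compact opens U_i with W = ⋂ U_i such that for all i, j
some U_k is contained in U_i ∩ U_j. -/
theorem result {X : Type u} [TopologicalSpace X] [SpectralSpace X] (W : Set X) :
    List.TFAE [
      (∃ S : Set (Set X), (∀ s ∈ S, Topology.IsConstructible s) ∧ W = ⋂₀ S) ∧ StableUnderGeneralization W,
      IsCompact W ∧ StableUnderGeneralization W,
      ∃ E : Set X, IsCompact E ∧ W = {x | ∃ e ∈ E, x ⤳ e},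
      ∃ S : Set (Set X), (∀ s ∈ S, IsOpen s ∧ IsCompact s) ∧ W = ⋂₀ S,
      ∃ (I : Type u) (_ : Nonempty I) (U : I → Set X), (∀ i, IsOpen (U i) ∧ IsCompact (U i)) ∧
        W = ⋂ i, U i ∧ ∀ i j, ∃ k, U k ⊆ U i ∩ U j] := by
  tfae_have 1 → 2 := by
    rintro ⟨⟨S, hS, rfl⟩, hg⟩
    exact ⟨(SpecLib.CC.sInter fun s hs => (SpecLib.cons_clopen (hS s hs)).1).isCompact, hg⟩
  tfae_have 2 → 3 := fun ⟨hc, hg⟩ =>
    ⟨W, hc, Set.Subset.antisymm (fun x hx => ⟨x, hx, specializes_rfl⟩) (fun x ⟨e, he, hxe⟩ => hg hxe he)⟩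
  tfae_have 3 → 4 := by
    rintro ⟨E, hE, rfl⟩
    refine ⟨{s | (IsOpen s ∧ IsCompact s) ∧ E ⊆ s}, fun s hs => hs.1, Set.Subset.antisymm ?_ fun x hx => ?_⟩
    · exact fun x ⟨e, he, hxe⟩ s hs => hxe.mem_open hs.1.1 (hs.2 he)
    · by_contra hne
      simp only [Set.mem_setOf_eq, not_exists, not_and] at hne
      have : ∀ e ∈ E, ∃ U : Set X, (IsOpen U ∧ IsCompact U) ∧ e ∈ U ∧ x ∉ U := fun e he => by
        by_contra h
        push Not at h
        exact hne e he (SpecLib.specializes_of_forall_qc fun U a b c => h U ⟨a, b⟩ c)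
      choose! U hU heU hxU using this
      obtain ⟨t, htE, ht, hcov⟩ := hE.elim_finite_subcover_image (fun e he => (hU e he).1)
        (fun e he => Set.mem_biUnion he (heU e he))
      have := hx (⋃ e ∈ t, U e) ⟨⟨isOpen_biUnion fun e he => (hU e (htE he)).1,
        ht.isCompact_biUnion fun e he => (hU e (htE he)).2⟩, hcov⟩
      obtain ⟨e, he, hxe⟩ := Set.mem_iUnion₂.1 this
      exact hxU e (htE he) hxe
  tfae_have 4 → 5 := by
    classical
    rintro ⟨S, hS, rfl⟩
    refine ⟨{T : Finset (Set X) // ↑T ⊆ S}, ⟨⟨∅, by simp⟩⟩, fun T => ⋂₀ (↑T.1 : Set (Set X)), fun T => ?_, ?_, ?_⟩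
    · exact ⟨T.1.finite_toSet.isOpen_sInter fun s hs => (hS s (T.2 hs)).1,
        QuasiSeparatedSpace.isCompact_sInter T.1.finite_toSet (fun s hs => Or.inl (hS s (T.2 hs)).1)
          fun s hs => (hS s (T.2 hs)).2⟩
    · refine Set.Subset.antisymm (fun x hx => Set.mem_iInter.2 fun T s hs => hx s (T.2 hs)) fun x hx s hs => ?_
      exact Set.mem_iInter.1 hx ⟨{s}, by simpa using hs⟩ s (by simp)
    · exact fun T T' => ⟨⟨T.1 ∪ T'.1, by rw [Finset.coe_union]; exact Set.union_subset T.2 T'.2⟩,
        by simp only [Finset.coe_union, Set.sInter_union]; exact subset_rfl⟩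
  tfae_have 5 → 1 := by
    rintro ⟨I, _, U, hU, rfl, -⟩
    exact ⟨⟨Set.range U, by rintro _ ⟨i, rfl⟩; exact (hU i).2.isConstructible (hU i).1, Set.sInter_range U |>.symm⟩,
      stableUnderGeneralization_iInter _ fun i => (hU i).1.stableUnderGeneralization⟩
  tfae_finish

end Groth.Agent.S7539
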