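import Groth.Statements.S7540
import Groth.Agent.SpecLib.Basic

set_option autoImplicit false
set_option backward.isDefEq.respectTransparency false
set_option backward.isDefEq.respectTransparency.types false
universe u
open SpecSp

namespace Groth.Agent.S7540

/-- Let X be a spectral space, I a nonempty index set and U_i ⊆ X quasi-compact opens such that for all
i, j some U_k lies in U_i ∩ U_j; put W = ⋂ U_i. Then every open subset of X containing W contains
some U_i. The published statement also asserts that W is spectral and is the limit of the U_i; this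
row states the neighbourhood property. -/
theorem result {X : Type u} [TopologicalSpace X] [SpectralSpace X]
    {I : Type u} [Nonempty I] (U : I → Set X) (hU : ∀ i, IsOpen (U i) ∧ IsCompact (U i))
    (hdir : ∀ i j, ∃ k, U k ⊆ U i ∩ U j) :
    ∀ V : Set X, IsOpen V → (⋂ i, U i) ⊆ V → ∃ i, U i ⊆ V := by
  intro V hV hWV
  by_contra h
  push Not at h
  obtain ⟨z, hz⟩ := SpecLib.CC.nonempty_iInter (fun i => U i ∩ Vᶜ)
    (fun i j => by
      obtain ⟨k, hk⟩ := hdir i j
      exact ⟨k, fun z hz => ⟨(hk hz.1).1, hz.2⟩, fun z hz => ⟨(hk hz.1).2, hz.2⟩⟩)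
    (fun i => by
      obtain ⟨z, a, b⟩ := Set.not_subset.1 (h i)
      exact ⟨z, a, b⟩)
    (fun i => (SpecLib.cc_of_isOpen_isCompact (hU i).1 (hU i).2).inter (SpecLib.cc_of_isClosed hV.isClosed_compl))
  rw [Set.mem_iInter] at hz
  exact (hz (Classical.arbitrary I)).2 (hWV (Set.mem_iInter.2 fun i => (hz i).1))

end Groth.Agent.S7540
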