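import Groth.Statements.S7541
import Groth.Agent.SpecLib.Basic

set_option autoImplicit false
set_option backward.isDefEq.respectTransparency false
set_option backward.isDefEq.respectTransparency.types false
universe u
open SpecSp

namespace Groth.Agent.S7541

/-- Let X be a spectral space, E ⊆ X a constructible subset and W the set of points of X that specialize
to a point of E. Then the subspace W minus E is a spectral space. (The description of W minus E as a
limit of the U_i minus E is not recorded here.) -/
theorem result {X : Type u} [TopologicalSpace X] [SpectralSpace X]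
    (E : Set X) (hE : Topology.IsConstructible E) :
    SpectralSpace ↥({x : X | ∃ e ∈ E, x ⤳ e} \ E) := by
  refine SpecLib.spectralSpace_of_cc (SpecLib.CC.inter ?_ (SpecLib.cons_clopen hE).2.compl)
  have e : {x : X | ∃ e ∈ E, x ⤳ e} = ⋂₀ {s : Set X | (IsOpen s ∧ IsCompact s) ∧ E ⊆ s} := by
    refine Set.Subset.antisymm (fun x ⟨e, he, hxe⟩ s hs => hxe.mem_open hs.1.1 (hs.2 he)) fun x hx => ?_
    by_contra hne
    simp only [Set.mem_setOf_eq, not_exists, not_and] at hne
    have : ∀ e ∈ E, ∃ U : Set X, (IsOpen U ∧ IsCompact U) ∧ e ∈ U ∧ x ∉ U := fun e he => by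
      by_contra h
      push Not at h
      exact hne e he (SpecLib.specializes_of_forall_qc fun U a b c => h U ⟨a, b⟩ c)
    choose! U hU heU hxU using this
    obtain ⟨t, htE, ht, hcov⟩ := (SpecLib.cons_clopen hE).1.isCompact.elim_finite_subcover_image (fun e he => (hU e he).1)
      (fun e he => Set.mem_biUnion he (heU e he))
    have := hx (⋃ e ∈ t, U e) ⟨⟨isOpen_biUnion fun e he => (hU e (htE he)).1,
      ht.isCompact_biUnion fun e he => (hU e (htE he)).2⟩, hcov⟩
    obtain ⟨e, he, hxe⟩ := Set.mem_iUnion₂.1 this
    exact hxU e (htE he) hxe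
  rw [e]
  exact SpecLib.CC.sInter fun s hs => SpecLib.cc_of_isOpen_isCompact hs.1.1 hs.1.2

end Groth.Agent.S7541
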