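import Groth.Statements.S7544
import Groth.Agent.SpecLib.Constr

set_option autoImplicit false
set_option backward.isDefEq.respectTransparency false
set_option backward.isDefEq.respectTransparency.types false
universe u
open ConstrTop

namespace Groth.Agent.S7544

/-- Let X be a quasi-compact topological space whose quasi-compact opens form a basis and are closed
under pairwise intersection. Take T ⊆ X to be locally closed, quasi-compact, and with retrocompact
complement. Then T is constructible in X. -/
theorem result {X : Type u} [TopologicalSpace X]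
    [CompactSpace X] [PrespectralSpace X] [QuasiSeparatedSpace X]
    (T : Set X) (hT : IsLocallyClosed T) (hTc : IsCompact T) (hTr : IsRetrocompact Tᶜ) :
    Topology.IsConstructible T := by
  obtain ⟨U, C, hU, hC, rfl⟩ := hT
  obtain ⟨W, hW, hW', hTW, hWU⟩ := PrespectralSpace.exists_isCompact_and_isOpen_between hTc hU Set.inter_subset_left
  have h1 : IsCompact ((U ∩ C)ᶜ ∩ W) := hTr hW hW'
  have h2 : IsOpen ((U ∩ C)ᶜ ∩ W) := by
    have e : (U ∩ C)ᶜ ∩ W = Cᶜ ∩ W := by
      ext z
      simp only [Set.mem_inter_iff, Set.mem_compl_iff, not_and]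
      exact ⟨fun h => ⟨h.1 (hWU h.2), h.2⟩, fun h => ⟨fun _ => h.1, h.2⟩⟩
    rw [e]
    exact hC.isOpen_compl.inter hW'
  have e : U ∩ C = W \ ((U ∩ C)ᶜ ∩ W) := by
    ext z
    simp only [Set.mem_sdiff, Set.mem_inter_iff, Set.mem_compl_iff]
    exact ⟨fun h => ⟨hTW h, fun h' => h'.1 h⟩, fun h => by_contra fun h' => h.2 ⟨h', h.1⟩⟩
  rw [e]
  exact (hW.isConstructible hW').sdiff (h1.isConstructible h2)

end Groth.Agent.S7544
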