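import Groth.Statements.S7545
import Groth.Agent.SpecLib.Constr

set_option autoImplicit false
set_option backward.isDefEq.respectTransparency false
set_option backward.isDefEq.respectTransparency.types false
universe u
open ConstrTop

namespace Groth.Agent.S7545

/-- Let X be a topological space in which every open set is a union of quasi-compact opens, and suppose
X is the union of finitely many constructible subsets E_1, …, E_m. A subset E ⊆ X is constructible
exactly when, for each j, the trace E ∩ E_j is a constructible subset of the subspace E_j. -/
theorem result {X : Type u} [TopologicalSpace X] [PrespectralSpace X]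
    {m : ℕ} (C : Fin m → Set X) (hC : ∀ j, Topology.IsConstructible (C j)) (hcov : ⋃ j, C j = Set.univ)
    (E : Set X) :
    Topology.IsConstructible E ↔ ∀ j, Topology.IsConstructible ((Subtype.val : C j → X) ⁻¹' E) := by
  refine ⟨fun h j => SpecLib.isConstructible_preimage_val (SpecLib.isRetrocompact_of_isConstructible (hC j)) h, fun h => ?_⟩
  have e : E = ⋃ j, E ∩ C j := by rw [← Set.inter_iUnion, hcov, Set.inter_univ]
  rw [e]
  exact Topology.IsConstructible.iUnion fun j => SpecLib.isConstructible_inter_of_preimage (hC j) E (h j)

end Groth.Agent.S7545
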