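import Groth.Statements.S7547
import Mathlib.Topology.JacobsonSpace

set_option autoImplicit false
set_option backward.isDefEq.respectTransparency false
set_option backward.isDefEq.respectTransparency.types false
universe u
open PtTop

namespace Groth.Agent.S7547

/-- Let X be a Kolmogorov topological space whose quasi-compact opens form a basis for the topology. If
X is not Jacobson, there is a point x ∈ X which is not closed but such that {x} is locally closed. -/
theorem result {X : Type u} [TopologicalSpace X]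
    [T0Space X] [PrespectralSpace X] (hX : ¬ JacobsonSpace X) :
    ∃ x : X, ¬ IsClosed ({x} : Set X) ∧ IsLocallyClosed ({x} : Set X) := by
  simp only [jacobsonSpace_iff_locallyClosed, not_forall] at hX
  obtain ⟨Z, ⟨z, hz⟩, hZ, hcl⟩ := hX
  obtain ⟨U, C, hU, hC, e⟩ := hZ
  obtain ⟨W, ⟨hW, hW'⟩, hzW, hWU⟩ := PrespectralSpace.isTopologicalBasis.exists_subset_of_mem_open
    (e ▸ hz : z ∈ U ∩ C).1 hU
  haveI : CompactSpace ↥(W ∩ C) := isCompact_iff_compactSpace.1 (hW'.inter_right hC)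
  obtain ⟨y, -, hy⟩ := (isClosed_univ (X := ↥(W ∩ C))).exists_closed_singleton
    ⟨⟨z, hzW, (e ▸ hz : z ∈ U ∩ C).2⟩, trivial⟩
  refine ⟨y.1, fun h => hcl ⟨y.1, e ▸ ⟨hWU y.2.1, y.2.2⟩, h⟩, ?_⟩
  obtain ⟨D, hD, hD'⟩ := isClosed_induced_iff.1 hy
  refine ⟨W, C ∩ D, hW, hC.inter hD, ?_⟩
  ext w
  simp only [Set.mem_singleton_iff, Set.mem_inter_iff]
  constructor
  · rintro rfl
    exact ⟨y.2.1, y.2.2, (hD'.ge rfl : y ∈ Subtype.val ⁻¹' D)⟩
  · rintro ⟨a, b, c⟩
    have h : (⟨w, a, b⟩ : ↥(W ∩ C)) ∈ ({y} : Set ↥(W ∩ C)) := by rw [← hD']; exact c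
    exact congrArg Subtype.val (Set.mem_singleton_iff.1 h)

end Groth.Agent.S7547
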