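import Groth.Statements.S7548
import Mathlib.Topology.JacobsonSpace

set_option autoImplicit false
set_option backward.isDefEq.respectTransparency false
set_option backward.isDefEq.respectTransparency.types false
universe u
open PtTop

namespace Groth.Agent.S7548

/-- Let X be a Jacobson space and let T = ⋃ T_i be a union of subsets T_i ⊆ X each locally closed in X
(open, closed, locally closed and constructible subsets are of this form). Then T is Jacobson and
every point of T closed in T is closed in X. -/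
theorem result {X : Type u} [TopologicalSpace X] [JacobsonSpace X]
    {ι : Type u} (T : ι → Set X) (hT : ∀ i, IsLocallyClosed (T i)) :
    JacobsonSpace ↥(⋃ i, T i) ∧
      closedPoints ↥(⋃ i, T i) ⊆ (Subtype.val : ↥(⋃ i, T i) → X) ⁻¹' closedPoints X := by
  have h2 : closedPoints ↥(⋃ i, T i) ⊆ (Subtype.val : ↥(⋃ i, T i) → X) ⁻¹' closedPoints X := by
    intro y hy
    obtain ⟨D, hD, hD'⟩ := isClosed_induced_iff.1 hy
    obtain ⟨i, hi⟩ := Set.mem_iUnion.1 y.2
    refine isClosed_singleton_of_isLocallyClosed_singleton ?_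
    have e : ({y.1} : Set X) = T i ∩ D := by
      refine Set.Subset.antisymm (Set.singleton_subset_iff.2 ⟨hi, (hD'.ge rfl : y ∈ Subtype.val ⁻¹' D)⟩) fun w ⟨hw, hwD⟩ => ?_
      have h : (⟨w, Set.mem_iUnion.2 ⟨i, hw⟩⟩ : ↥(⋃ i, T i)) ∈ ({y} : Set ↥(⋃ i, T i)) := by rw [← hD']; exact hwD
      exact congrArg Subtype.val (Set.mem_singleton_iff.1 h)
    rw [e]
    exact (hT i).inter hD.isLocallyClosed
  refine ⟨jacobsonSpace_iff_locallyClosed.2 fun Z ⟨z, hz⟩ hZ => ?_, h2⟩
  obtain ⟨i, hi⟩ := Set.mem_iUnion.1 z.2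
  obtain ⟨U, C, hU, hC, rfl⟩ := hZ
  obtain ⟨U', hU', rfl⟩ := isOpen_induced_iff.1 hU
  obtain ⟨C', hC', rfl⟩ := isClosed_induced_iff.1 hC
  obtain ⟨w, ⟨hwi, hwU, hwC⟩, hw⟩ := nonempty_inter_closedPoints (Z := T i ∩ (U' ∩ C')) ⟨z.1, hi, hz.1, hz.2⟩
    ((hT i).inter (hU'.isLocallyClosed.inter hC'.isLocallyClosed))
  exact ⟨⟨w, Set.mem_iUnion.2 ⟨i, hwi⟩⟩, ⟨hwU, hwC⟩, preimage_closedPoints_subset Subtype.val_injective continuous_subtype_val hw⟩

end Groth.Agent.S7548
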