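import Groth.Statements.S7549
import Groth.Agent.SpecLib.Constr
import Mathlib.Topology.JacobsonSpace

set_option autoImplicit false
set_option backward.isDefEq.respectTransparency false
set_option backward.isDefEq.respectTransparency.types false
universe u
open PtTop

namespace Groth.Agent.S7549

/-- Let X be a Jacobson space and X₀ ⊆ X the subspace of closed points. (a) For U ⊆ X open, U is
quasi-compact if and only if U ∩ X₀ is quasi-compact, and U is retrocompact in X if and only if U ∩
X₀ is retrocompact in X₀. (b) The rule E ↦ E ∩ X₀ is an inclusion-preserving and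
inclusion-reflecting bijection between the constructible subsets of X and the constructible subsets
of X₀. -/
theorem result {X : Type u} [TopologicalSpace X] [JacobsonSpace X] :
    (∀ U : Set X, IsOpen U →
      (IsCompact U ↔ IsCompact ((Subtype.val : closedPoints X → X) ⁻¹' U)) ∧
      (IsRetrocompact U ↔ IsRetrocompact ((Subtype.val : closedPoints X → X) ⁻¹' U))) ∧
    (∀ E : Set X, Topology.IsConstructible E →
      Topology.IsConstructible ((Subtype.val : closedPoints X → X) ⁻¹' E)) ∧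
    (∀ E E' : Set X, Topology.IsConstructible E → Topology.IsConstructible E' →
      ((Subtype.val : closedPoints X → X) ⁻¹' E ⊆ Subtype.val ⁻¹' E' ↔ E ⊆ E')) ∧
    (∀ F : Set (closedPoints X), Topology.IsConstructible F →
      ∃ E : Set X, Topology.IsConstructible E ∧ (Subtype.val : closedPoints X → X) ⁻¹' E = F) := by
  have hmeet : ∀ E : Set X, Topology.IsConstructible E → E.Nonempty → (E ∩ closedPoints X).Nonempty := by
    intro E hE ⟨x, hx⟩
    obtain ⟨n, L, hL, rfl⟩ := SpecLib.exists_lc_of_isConstructible hE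
    obtain ⟨i, hi⟩ := Set.mem_iUnion.1 hx
    exact (nonempty_inter_closedPoints ⟨x, hi⟩ (hL i)).mono
      (Set.inter_subset_inter_left _ (Set.subset_iUnion L i))
  have hopen : ∀ {ι : Type u} (U : Set X) (O : ι → Set X) (t : Finset ι), IsOpen U → (∀ i, IsOpen (O i)) →
      (Subtype.val : closedPoints X → X) ⁻¹' U ⊆ (⋃ i ∈ t, Subtype.val ⁻¹' O i) → U ⊆ ⋃ i ∈ t, O i := by
    intro ι U O t hU hO h
    by_contra hne
    obtain ⟨x, hx, hx'⟩ := Set.not_subset.1 hne
    obtain ⟨w, ⟨hw, hw'⟩, hwc⟩ := nonempty_inter_closedPoints (Z := U ∩ (⋃ i ∈ t, O i)ᶜ) ⟨x, hx, hx'⟩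
      (hU.isLocallyClosed.inter (isOpen_biUnion fun i _ => hO i).isClosed_compl.isLocallyClosed)
    exact hw' (by simpa using h (show (⟨w, hwc⟩ : closedPoints X) ∈ _ from hw))
  have hA : ∀ U : Set X, IsOpen U → (IsCompact U ↔ IsCompact ((Subtype.val : closedPoints X → X) ⁻¹' U)) := by
    intro U hU
    constructor
    · intro h
      rw [isCompact_iff_finite_subcover]
      intro ι O hO hcov
      choose O' hO' e using fun i => isOpen_induced_iff.1 (hO i)
      obtain ⟨t, ht⟩ := h.elim_finite_subcover O' hO' (by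
        intro x hx
        by_contra hn
        obtain ⟨w, ⟨hw, hw'⟩, hwc⟩ := nonempty_inter_closedPoints (Z := U ∩ (⋃ i, O' i)ᶜ) ⟨x, hx, hn⟩
          (hU.isLocallyClosed.inter (isOpen_iUnion hO').isClosed_compl.isLocallyClosed)
        obtain ⟨i, hi⟩ := Set.mem_iUnion.1 (hcov (show (⟨w, hwc⟩ : closedPoints X) ∈ _ from hw))
        exact hw' (Set.mem_iUnion.2 ⟨i, (e i ▸ hi : (⟨w, hwc⟩ : closedPoints X) ∈ Subtype.val ⁻¹' O' i)⟩))
      exact ⟨t, fun y hy => by
        obtain ⟨i, hi, hy'⟩ := Set.mem_iUnion₂.1 (ht hy)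
        exact Set.mem_iUnion₂.2 ⟨i, hi, e i ▸ hy'⟩⟩
    · intro h
      rw [isCompact_iff_finite_subcover]
      intro ι O hO hcov
      obtain ⟨t, ht⟩ := h.elim_finite_subcover (fun i => Subtype.val ⁻¹' O i)
        (fun i => (hO i).preimage continuous_subtype_val) (fun y hy => by simpa using hcov hy)
      exact ⟨t, hopen U O t hU hO ht⟩
  have hA' : ∀ U : Set X, IsOpen U → (IsRetrocompact U ↔ IsRetrocompact ((Subtype.val : closedPoints X → X) ⁻¹' U)) := by
    intro U hU
    constructor
    · intro h W hW hW'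
      obtain ⟨O, hO, rfl⟩ := isOpen_induced_iff.1 hW'
      rw [← Set.preimage_inter]
      exact (hA _ (hU.inter hO)).1 (h ((hA O hO).2 hW) hO)
    · intro h W hW hW'
      refine (hA _ (hU.inter hW')).2 ?_
      rw [Set.preimage_inter]
      exact h ((hA W hW').1 hW) (hW'.preimage continuous_subtype_val)
  refine ⟨fun U hU => ⟨hA U hU, hA' U hU⟩, fun E hE => hE.preimage continuous_subtype_val fun U hU => (hA' U hU).1,
    fun E E' hE hE' => ⟨fun h => ?_, fun h => Set.preimage_mono h⟩, fun F hF => ?_⟩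
  · by_contra hne
    obtain ⟨w, ⟨hw, hw'⟩, hwc⟩ := hmeet _ (hE.sdiff hE') (Set.sdiff_nonempty.2 hne)
    exact hw' (h (show (⟨w, hwc⟩ : closedPoints X) ∈ Subtype.val ⁻¹' E from hw))
  · refine Topology.IsConstructible.empty_union_induction (p := fun s _ => ∃ E : Set X, Topology.IsConstructible E ∧
      (Subtype.val : closedPoints X → X) ⁻¹' E = s) ?_ ?_ ?_ hF
    · intro U hU hU'
      obtain ⟨O, hO, rfl⟩ := isOpen_induced_iff.1 hU
      exact ⟨O, ((hA' O hO).2 hU').isConstructible hO, rfl⟩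
    · rintro s _ t _ ⟨A, hA₁, rfl⟩ ⟨B, hB₁, rfl⟩
      exact ⟨A ∪ B, hA₁.union hB₁, rfl⟩
    · rintro s _ ⟨A, hA₁, rfl⟩
      exact ⟨Aᶜ, hA₁.compl, rfl⟩

end Groth.Agent.S7549
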