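import Groth.Statements.S7550
import Groth.Agent.SpecLib.Constr

set_option autoImplicit false
set_option backward.isDefEq.respectTransparency false
set_option backward.isDefEq.respectTransparency.types false
universe u
open PtTop

namespace Groth.Agent.S7550

/-- Let f : X → Y be a continuous and open map of topological spaces, with X Noetherian, every
irreducible closed subset of X having a generic point, and Y Kolmogorov. Then generalizations lift
along f. (Part (1), closed maps are specializing, is a library fact.) -/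
theorem result {X Y : Type u} [TopologicalSpace X] [TopologicalSpace Y]
    [TopologicalSpace.NoetherianSpace X] [QuasiSober X] [T0Space Y]
    (f : X → Y) (hf : Continuous f) (hfo : IsOpenMap f) :
    GeneralizingMap f := by
  intro x y' hy'
  have hx : x ∈ closure (f ⁻¹' {y'}) := by
    rw [mem_closure_iff]
    intro O hO hxO
    obtain ⟨z, hz, hzy⟩ := (hy'.mem_open (hfo O hO) ⟨x, hxO, rfl⟩ : y' ∈ f '' O)
    exact ⟨z, hz, hzy⟩
  suffices ∀ Y : Set X, IsClosed Y → x ∈ closure (f ⁻¹' {y'} ∩ Y) → ∃ x', x' ⤳ x ∧ f x' = y' from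
    this Set.univ isClosed_univ (by simpa using hx)
  intro Y hY
  refine SpecLib.irred_induction (P := fun Y => x ∈ closure (f ⁻¹' {y'} ∩ Y) → ∃ x', x' ⤳ x ∧ f x' = y')
    (by simp) (fun A B _ _ a b h => ?_) ?_ hY
  · rw [Set.inter_union_distrib_left, closure_union] at h
    exact h.elim a b
  · intro Y hY hirr ih h
    by_cases hd : Y ⊆ closure (f ⁻¹' {y'} ∩ Y)
    · have hη := hirr.isGenericPoint_genericPoint hY
      refine ⟨hirr.genericPoint, hη.specializes (closure_minimal Set.inter_subset_right hY h), ?_⟩
      obtain ⟨z, hz, hzY⟩ := closure_nonempty_iff.1 ⟨x, h⟩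
      have h1 : y' ⤳ f hirr.genericPoint := by
        rw [specializes_iff_mem_closure]
        have h0 : f hirr.genericPoint ∈ closure (f '' (f ⁻¹' {y'} ∩ Y)) :=
          image_closure_subset_closure_image (s := f ⁻¹' {y'} ∩ Y) hf (Set.mem_image_of_mem f (hd hη.mem))
        exact closure_mono (Set.image_subset_iff.2 Set.inter_subset_left) h0
      have h2 : f hirr.genericPoint ⤳ y' := (hz : f z = y') ▸ (hη.specializes hzY).map hf
      exact (h2.antisymm h1).eq
    · refine ih (closure (f ⁻¹' {y'} ∩ Y)) isClosed_closure ⟨closure_minimal Set.inter_subset_right hY, hd⟩ ?_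
      exact closure_mono (show f ⁻¹' {y'} ∩ Y ⊆ f ⁻¹' {y'} ∩ closure (f ⁻¹' {y'} ∩ Y) from fun z hz => ⟨hz.1, subset_closure hz⟩) h

end Groth.Agent.S7550
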