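import Groth.Statements.S7551


set_option autoImplicit false
set_option backward.isDefEq.respectTransparency false
set_option backward.isDefEq.respectTransparency.types false
universe u
open PtTop

namespace Groth.Agent.S7551

/-- Let s, t : R → U and π : U → X be continuous maps between topological spaces satisfying: (1) π is an
open map, (2) U is a sober space, (3) s and t have finite fibres, (4) generalizations lift along s
and along t, and (5) the image of (t, s) : R → U × U is an equivalence relation on U and π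
identifies X, as a set, with the quotient of U by it. Then X is Kolmogorov. -/
theorem result {R U X : Type u}
    [TopologicalSpace R] [TopologicalSpace U] [TopologicalSpace X] [QuasiSober U] [T0Space U]
    (s t : R → U) (π : U → X) (hs : Continuous s) (ht : Continuous t) (hπ : Continuous π)
    (hπo : IsOpenMap π) (hsf : ∀ u, (s ⁻¹' {u}).Finite) (htf : ∀ u, (t ⁻¹' {u}).Finite)
    (hsg : GeneralizingMap s) (htg : GeneralizingMap t)
    (hE : Equivalence fun u u' : U => ∃ r, t r = u ∧ s r = u')
    (hπs : Function.Surjective π) (hπq : ∀ u u' : U, π u = π u' ↔ ∃ r, t r = u ∧ s r = u') :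
    T0Space X := by
  refine (t0Space_iff_inseparable X).2 fun a b hab => ?_
  obtain ⟨u, rfl⟩ := hπs a
  obtain ⟨u', rfl⟩ := hπs b
  have hfin : ∀ v, (π ⁻¹' {π v}).Finite := fun v => by
    refine ((htf v).image s).subset fun w hw => ?_
    obtain ⟨r, hr, hr'⟩ := (hπq v w).1 (Set.mem_singleton_iff.1 hw).symm
    exact ⟨r, hr, hr'⟩
  have key : ∀ v v' : U, π v ⤳ π v' → ∃ w, π w = π v ∧ w ⤳ v' := by
    intro v v' h
    have h1 : v' ∈ closure (π ⁻¹' {π v}) := by
      rw [mem_closure_iff]
      intro O hO hvO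
      obtain ⟨z, hz, hzy⟩ := (h.mem_open (hπo O hO) ⟨v', hvO, rfl⟩ : π v ∈ π '' O)
      exact ⟨z, hz, hzy⟩
    rw [← Set.biUnion_of_singleton (π ⁻¹' {π v}), (hfin v).closure_biUnion] at h1
    obtain ⟨w, hw, hw'⟩ := Set.mem_iUnion₂.1 h1
    exact ⟨w, hw, specializes_iff_mem_closure.2 hw'⟩
  -- a point of the class of `u'` without proper generizations in that class
  letI : PartialOrder U := specializationOrder U
  obtain ⟨c, hc, hmax⟩ := (hfin u').exists_maximal ⟨u', rfl⟩
  obtain ⟨w, hw, hwc⟩ := key u c ((hab.specializes).trans (by rw [(hc : π c = π u')]))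
  obtain ⟨w', hw', hwu⟩ := key u' u hab.symm.specializes
  obtain ⟨r, hr, hr'⟩ := (hπq u w).1 hw.symm
  obtain ⟨r', hr'r, hrw'⟩ := htg (hr.symm ▸ hwu : w' ⤳ t r)
  have hv : π (s r') = π u' := by rw [← hw', ← hrw']; exact ((hπq (t r') (s r')).2 ⟨r', rfl, rfl⟩).symm
  have hvw : s r' ⤳ w := hr' ▸ hr'r.map hs
  have h2 : c ⤳ s r' := hmax (show s r' ∈ π ⁻¹' {π u'} from hv) (hvw.trans hwc)
  have e : w = c := (hwc.antisymm (h2.trans hvw)).eq
  rw [← hw, e, hc]

end Groth.Agent.S7551
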