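import Groth.Statements.S7552


set_option autoImplicit false
set_option backward.isDefEq.respectTransparency false
set_option backward.isDefEq.respectTransparency.types false
universe u
open PtTop

namespace Groth.Agent.S7552

/-- Let f : X → Y be a continuous surjective map of topological spaces with Y sober, and assume that
specializations lift along f or that generalizations lift along f. Then dim X ≥ dim Y (Krull
dimensions as suprema of lengths of chains of irreducible closed subsets). -/
theorem result {X Y : Type u}
    [TopologicalSpace X] [TopologicalSpace Y] [QuasiSober Y] [T0Space Y]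
    (f : X → Y) (hf : Continuous f) (hsurj : Function.Surjective f)
    (hlift : SpecializingMap f ∨ GeneralizingMap f) :
    topologicalKrullDim Y ≤ topologicalKrullDim X := by
  rw [topologicalKrullDim, topologicalKrullDim, Order.krullDim]
  refine iSup_le fun p => ?_
  let η : Fin (p.length + 1) → Y := fun i => (p i).2.genericPoint
  have hη : ∀ i, IsGenericPoint (η i) (p i : Set Y) := fun i => (p i).2.isGenericPoint_genericPoint (p i).3
  have hstep : ∀ i : Fin p.length, η i.succ ⤳ η i.castSucc := fun i =>
    (hη _).specializes ((p.strictMono (Fin.castSucc_lt_succ (i := i))).le (hη _).mem)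
  obtain ⟨x, hx, hfx⟩ : ∃ x : Fin (p.length + 1) → X, (∀ i : Fin p.length, x i.succ ⤳ x i.castSucc) ∧ ∀ i, f (x i) = η i := by
    rcases hlift with h | h
    · choose g hg hg' using fun (a : X) (b : Y) (hb : f a ⤳ b) => h hb
      let x : ∀ i : Fin (p.length + 1), {a : X // f a = η i} := fun i =>
        Fin.reverseInduction (motive := fun i => {a : X // f a = η i}) ⟨(hsurj (η (Fin.last _))).choose, (hsurj _).choose_spec⟩
          (fun i a => ⟨g a.1 (η i.castSucc) (by rw [a.2]; exact hstep i), hg' _ _ _⟩) i
      refine ⟨fun i => (x i).1, fun i => ?_, fun i => (x i).2⟩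
      simp only [x, Fin.reverseInduction_castSucc]
      exact hg _ _ _
    · choose g hg hg' using fun (a : X) (b : Y) (hb : b ⤳ f a) => h hb
      let x : ∀ i : Fin (p.length + 1), {a : X // f a = η i} := fun i =>
        Fin.induction (motive := fun i => {a : X // f a = η i}) ⟨(hsurj (η 0)).choose, (hsurj _).choose_spec⟩
          (fun i a => ⟨g a.1 (η i.succ) (by rw [a.2]; exact hstep i), hg' _ _ _⟩) i
      refine ⟨fun i => (x i).1, fun i => ?_, fun i => (x i).2⟩
      simp only [x, Fin.induction_succ]
      exact hg _ _ _
  let q : LTSeries (TopologicalSpace.IrreducibleCloseds X) :=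
    LTSeries.mk p.length (fun i => ⟨closure {x i}, isIrreducible_singleton.closure, isClosed_closure⟩)
      (Fin.strictMono_iff_lt_succ.2 fun i => by
        refine SetLike.coe_ssubset_coe.1 (?_ : closure {x i.castSucc} ⊂ closure {x i.succ})
        refine ⟨(hx i).closure_subset, fun h => ?_⟩
        have h1 : η i.castSucc ⤳ η i.succ := by
          rw [← hfx, ← hfx]; exact (specializes_iff_closure_subset.2 h).map hf
        exact (p.strictMono (Fin.castSucc_lt_succ (i := i))).not_ge
          fun z hz => (hη i.castSucc).def.le (h1.closure_subset ((hη i.succ).def.ge hz)))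
  exact le_iSup (fun q : LTSeries (TopologicalSpace.IrreducibleCloseds X) => (q.length : WithBot ℕ∞)) q

end Groth.Agent.S7552
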