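import Groth.Statements.S7556
import Mathlib.Topology.ExtremallyDisconnected

set_option autoImplicit false
set_option backward.isDefEq.respectTransparency false
set_option backward.isDefEq.respectTransparency.types false
universe u
open PtTop

namespace Groth.Agent.S7556

/-- Let X be a quasi-compact Hausdorff space. There is a continuous surjection p : X' → X with X'
quasi-compact, Hausdorff and extremally disconnected such that no proper closed subset of X' maps
onto X; and if q : X'' → X is a second cover with the same properties, there is a homeomorphism X' ≃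
X'' compatible with p and q. -/
theorem result (X : Type u) [TopologicalSpace X] [CompactSpace X] [T2Space X] :
    (∃ (X' : Type u) (_ : TopologicalSpace X') (_ : CompactSpace X') (_ : T2Space X') (_ : ExtremallyDisconnected X')
        (p : X' → X), Continuous p ∧ Function.Surjective p ∧
        ∀ E : Set X', IsClosed E → E ≠ Set.univ → p '' E ≠ Set.univ) ∧
    (∀ (X' X'' : Type u) [TopologicalSpace X'] [CompactSpace X'] [T2Space X'] [ExtremallyDisconnected X']
        [TopologicalSpace X''] [CompactSpace X''] [T2Space X''] [ExtremallyDisconnected X'']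
        (p : X' → X) (q : X'' → X),
        Continuous p → Function.Surjective p → (∀ E : Set X', IsClosed E → E ≠ Set.univ → p '' E ≠ Set.univ) →
        Continuous q → Function.Surjective q → (∀ E : Set X'', IsClosed E → E ≠ Set.univ → q '' E ≠ Set.univ) →
        ∃ h : X' ≃ₜ X'', q ∘ h = p) := by
  refine ⟨?_, ?_⟩
  · letI : TopologicalSpace (ULift.{u} X) := ⊥
    haveI : DiscreteTopology (ULift.{u} X) := ⟨rfl⟩
    let p₀ : StoneCech (ULift.{u} X) → X := stoneCechExtend (g := ULift.down) continuous_of_discreteTopology
    have hc₀ : Continuous p₀ := continuous_stoneCechExtend _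
    have hs₀ : Function.Surjective p₀ := fun x =>
      ⟨stoneCechUnit ⟨x⟩, congrFun (stoneCechExtend_extends (g := (ULift.down : ULift.{u} X → X)) continuous_of_discreteTopology) ⟨x⟩⟩
    obtain ⟨E, hE, honto, hmin⟩ := exists_compact_surjective_zorn_subset hc₀ hs₀
    have hsE : Function.Surjective (E.domRestrict p₀) := fun x => by
      obtain ⟨d, hd, rfl⟩ := (honto ▸ Set.mem_univ x : x ∈ p₀ '' E)
      exact ⟨⟨d, hd⟩, rfl⟩
    have hcE : Continuous (E.domRestrict p₀) := hc₀.continuousOn.domRestrict
    obtain ⟨r, hr, hpr⟩ := StoneCech.projective hc₀ hcE hsE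
    have hid : ∀ x : E, r x.1 = x := by
      intro x
      by_contra hne
      obtain ⟨A, B, hA, hB, hxA, hxB, hAB⟩ := t2_separation hne
      let G : Set E := B ∩ (fun y : E => r y.1) ⁻¹' A
      have hG : IsOpen G := hB.inter (hA.preimage (hr.comp continuous_subtype_val))
      refine hmin Gᶜ (Set.compl_ne_univ.2 ⟨x, hxB, hxA⟩) hG.isClosed_compl (Set.eq_univ_of_forall fun a => ?_)
      obtain ⟨y, rfl⟩ := hsE a
      by_cases hy : y ∈ G
      · exact ⟨r y.1, fun h => hAB.le_bot ⟨hy.2, h.1⟩, congrFun hpr y.1⟩
      · exact ⟨y, hy, rfl⟩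
    have hproj : CompactT2.Projective E := by
      intro Y Z _ _ _ _ _ _ f g hf hg hgs
      obtain ⟨h, hh, hgh⟩ := StoneCech.projective (hf.comp hr) hg hgs
      exact ⟨h ∘ Subtype.val, hh.comp continuous_subtype_val, funext fun x => (congrFun hgh x.1).trans (congrArg f (hid x))⟩
    exact ⟨E, inferInstance, hE, inferInstance, hproj.extremallyDisconnected, E.domRestrict p₀, hcE, hsE,
      fun F hF hne => hmin F hne hF⟩
  · intro X' X'' _ _ _ _ _ _ _ _ p q hp hps hpm hq hqs hqm
    obtain ⟨h, hh, hqh⟩ := CompactT2.ExtremallyDisconnected.projective (A := X') hp hq hqs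
    have hsurj : Function.Surjective h := by
      rw [← Set.range_eq_univ]
      by_contra hne
      refine hqm _ (isCompact_range hh).isClosed hne (Set.eq_univ_of_forall fun x => ?_)
      obtain ⟨y, rfl⟩ := hps x
      exact ⟨h y, ⟨y, rfl⟩, congrFun hqh y⟩
    refine ⟨ExtremallyDisconnected.homeoCompactToT2 hh hsurj (fun E₀ hne hcl himg => ?_), hqh⟩
    refine hpm E₀ hcl hne ?_
    rw [← hqh, Set.image_comp, himg, Set.image_univ, hqs.range_eq]

end Groth.Agent.S7556
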