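import Groth.Statements.S7559
import Groth.Agent.SpecLib.Strat

set_option autoImplicit false
set_option backward.isDefEq.respectTransparency false
set_option backward.isDefEq.respectTransparency.types false
universe u
open PtTop

namespace Groth.Agent.S7559

/-- Let X be a topological space and X = ∐ P_k a finite partition into locally closed parts. Then there
is a finite stratification of X refining it: a finite partially ordered index set I and pairwise
disjoint locally closed strata S_i covering X with closure(S_j) ⊆ ⋃_{i ≤ j} S_i, such that every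
part P_k is a union of strata. -/
theorem result {X : Type u} [TopologicalSpace X]
    {n : ℕ} (P : Fin n → Set X) (hP : ∀ k, IsLocallyClosed (P k)) (hcov : ⋃ k, P k = Set.univ)
    (hdisj : ∀ k k', k ≠ k' → Disjoint (P k) (P k')) :
    ∃ (I : Type) (_ : Fintype I) (_ : PartialOrder I) (S : I → Set X),
      (∀ i, IsLocallyClosed (S i)) ∧ (⋃ i, S i = Set.univ) ∧ (∀ i j, i ≠ j → Disjoint (S i) (S j)) ∧
      (∀ j, closure (S j) ⊆ ⋃ i ∈ Set.Iic j, S i) ∧
      (∀ i k, (S i ∩ P k).Nonempty → S i ⊆ P k) := by
  classical
  choose A B hA hB hP' using hP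
  let O : Fin (n + n) → Set X := Fin.append A (fun k => (B k)ᶜ)
  have hO : ∀ i, IsOpen (O i) := fun i => by
    refine Fin.addCases (fun k => ?_) (fun k => ?_) i
    · simp only [O, Fin.append_left]; exact hA k
    · simp only [O, Fin.append_right]; exact (hB k).isOpen_compl
  refine ⟨Finset (Fin (n + n)), inferInstance, inferInstance, fun a => SpecLib.pattern O ⁻¹' {a},
    SpecLib.isLocallyClosed_pattern O hO, Set.eq_univ_of_forall fun x => Set.mem_iUnion.2 ⟨_, rfl⟩,
    fun a b hab => Set.disjoint_left.2 fun x hx hx' => hab (hx.symm.trans hx'),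
    fun a => SpecLib.closure_pattern_subset O hO a, ?_⟩
  rintro a k ⟨x, hx, hxk⟩ y hy
  have h := (hx : SpecLib.pattern O x = a).trans (hy : SpecLib.pattern O y = a).symm
  have h1 := Finset.ext_iff.1 h (Fin.castAdd n k)
  have h2 := Finset.ext_iff.1 h (Fin.natAdd n k)
  simp only [SpecLib.mem_pattern, O, Fin.append_left, Fin.append_right, Set.mem_compl_iff, not_iff_not] at h1 h2
  rw [hP' k] at hxk ⊢
  exact ⟨h1.1 hxk.1, h2.1 hxk.2⟩

end Groth.Agent.S7559
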