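import Groth.Statements.S7560
import Groth.Agent.SpecLib.Constr

set_option autoImplicit false
set_option backward.isDefEq.respectTransparency false
set_option backward.isDefEq.respectTransparency.types false
universe u
open ConstrTop

namespace Groth.Agent.S7560

/-- Let X be a topological space written as a finite union X = T_1 ∪ … ∪ T_n of constructible subsets.
Then there is a finite stratification X = ∐ S_i (pairwise disjoint locally closed strata indexed by
a finite partially ordered set, with closure(S_j) ⊆ ⋃_{i ≤ j} S_i) whose strata are constructible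
and such that every T_k is a union of strata. -/
theorem result {X : Type u} [TopologicalSpace X]
    {n : ℕ} (T : Fin n → Set X) (hT : ∀ k, Topology.IsConstructible (T k)) (hcov : ⋃ k, T k = Set.univ) :
    ∃ (I : Type) (_ : Fintype I) (_ : PartialOrder I) (S : I → Set X),
      (∀ i, IsLocallyClosed (S i) ∧ Topology.IsConstructible (S i)) ∧ (⋃ i, S i = Set.univ) ∧
      (∀ i j, i ≠ j → Disjoint (S i) (S j)) ∧
      (∀ j, closure (S j) ⊆ ⋃ i ∈ Set.Iic j, S i) ∧
      (∀ i k, (S i ∩ T k).Nonempty → S i ⊆ T k) := by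
  classical
  have hgen : ∀ s : Set X, Topology.IsConstructible s → ∃ G : Finset (Set X), (∀ V ∈ G, IsOpen V ∧ IsRetrocompact V) ∧
      ∀ x y, (∀ V ∈ G, x ∈ V ↔ y ∈ V) → (x ∈ s ↔ y ∈ s) := by
    intro s hs
    refine Topology.IsConstructible.empty_union_induction (p := fun s _ => ∃ G : Finset (Set X),
      (∀ V ∈ G, IsOpen V ∧ IsRetrocompact V) ∧ ∀ x y, (∀ V ∈ G, x ∈ V ↔ y ∈ V) → (x ∈ s ↔ y ∈ s)) ?_ ?_ ?_ hs
    · exact fun U hU hU' => ⟨{U}, fun V hV => Finset.mem_singleton.1 hV ▸ ⟨hU, hU'⟩,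
        fun x y h => h U (Finset.mem_singleton_self U)⟩
    · rintro s _ t _ ⟨G, hG, h⟩ ⟨G', hG', h'⟩
      refine ⟨G ∪ G', fun V hV => (Finset.mem_union.1 hV).elim (hG V) (hG' V), fun x y hxy => ?_⟩
      exact or_congr (h x y fun V hV => hxy V (Finset.mem_union_left _ hV))
        (h' x y fun V hV => hxy V (Finset.mem_union_right _ hV))
    · rintro s _ ⟨G, hG, h⟩
      exact ⟨G, hG, fun x y hxy => not_congr (h x y hxy)⟩
  choose G hG hG' using fun k => hgen (T k) (hT k)
  let V : Finset (Set X) := Finset.univ.biUnion G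
  let e := V.equivFin
  let m : X → Finset (Fin V.card) := fun x => Finset.univ.filter fun i => x ∈ (e.symm i).1
  have hV : ∀ i, IsOpen (e.symm i).1 ∧ IsRetrocompact (e.symm i).1 := fun i => by
    obtain ⟨k, -, hk⟩ := Finset.mem_biUnion.1 (e.symm i).2
    exact hG k _ hk
  have hfib : ∀ a, m ⁻¹' {a} = (⋂ i ∈ a, (e.symm i).1) ∩ (⋂ i ∈ aᶜ, (e.symm i).1ᶜ) := fun a => by
    ext x
    simp only [Set.mem_preimage, Set.mem_singleton_iff, Finset.ext_iff, m, Finset.mem_filter, Finset.mem_univ, true_and,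
      Set.mem_inter_iff, Set.mem_iInter, Set.mem_compl_iff, Finset.mem_compl]
    exact ⟨fun h => ⟨fun i hi => (h i).2 hi, fun i hi hx => hi ((h i).1 hx)⟩,
      fun h i => ⟨fun hx => by_contra fun hi => h.2 i hi hx, h.1 i⟩⟩
  refine ⟨Finset (Fin V.card), inferInstance, inferInstance, fun a => m ⁻¹' {a}, fun a => ⟨?_, ?_⟩, ?_, ?_, fun a x hx => ?_, ?_⟩
  · simp only [hfib]
    exact ⟨_, _, isOpen_biInter_finset fun i _ => (hV i).1, isClosed_biInter fun i _ => (hV i).1.isClosed_compl, rfl⟩
  · simp only [hfib]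
    exact (Topology.IsConstructible.biInter a.finite_toSet fun i _ => (hV i).2.isConstructible (hV i).1).inter
      (Topology.IsConstructible.biInter (aᶜ).finite_toSet fun i _ => ((hV i).2.isConstructible (hV i).1).compl)
  · exact Set.eq_univ_of_forall fun x => Set.mem_iUnion.2 ⟨m x, rfl⟩
  · exact fun a b hab => Set.disjoint_left.2 fun x hx hx' => hab (hx.symm.trans hx')
  · refine Set.mem_biUnion (x := m x) (fun i hi => ?_) rfl
    simp only [m, Finset.mem_filter, Finset.mem_univ, true_and] at hi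
    obtain ⟨y, hy, hy'⟩ := mem_closure_iff.1 hx _ (hV i).1 hi
    have hy'' : m y = a := hy'
    rw [← hy'']
    simpa [m] using hy
  · rintro a k ⟨x, hx, hxk⟩ y hy
    refine (hG' k x y fun W hW => ?_).1 hxk
    have hW' : W ∈ V := Finset.mem_biUnion.2 ⟨k, Finset.mem_univ k, hW⟩
    have h1 := Finset.ext_iff.1 ((hx : m x = a).trans (hy : m y = a).symm) (e ⟨W, hW'⟩)
    simpa [m] using h1

end Groth.Agent.S7560
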