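import Groth.Statements.S7561
import Groth.Agent.SpecLib.Strat

set_option autoImplicit false
set_option backward.isDefEq.respectTransparency false
set_option backward.isDefEq.respectTransparency.types false
universe u
open PtTop

namespace Groth.Agent.S7561

/-- Let X be a Noetherian topological space and X = ∐ P_k a finite partition into locally closed parts.
Then it is refined by a finite good stratification: a finite partition X = ∐ S_i into locally closed
strata such that S_i ∩ closure(S_j) ≠ ∅ implies S_i ⊆ closure(S_j), with every P_k a union of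
strata. -/
theorem result {X : Type u} [TopologicalSpace X]
    [TopologicalSpace.NoetherianSpace X]
    {n : ℕ} (P : Fin n → Set X) (hP : ∀ k, IsLocallyClosed (P k)) (hcov : ⋃ k, P k = Set.univ)
    (hdisj : ∀ k k', k ≠ k' → Disjoint (P k) (P k')) :
    ∃ (m : ℕ) (S : Fin m → Set X),
      (∀ i, IsLocallyClosed (S i)) ∧ (⋃ i, S i = Set.univ) ∧ (∀ i j, i ≠ j → Disjoint (S i) (S j)) ∧
      (∀ i j, (S i ∩ closure (S j)).Nonempty → S i ⊆ closure (S j)) ∧
      (∀ i k, (S i ∩ P k).Nonempty → S i ⊆ P k) := by
  obtain ⟨m, S, h1, h2, h3, h4, h5⟩ := SpecLib.exists_good (X := X) isClosed_univ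
    (Set.range (fun k => closure (P k)) ∪ Set.range (fun k => closure (P k) \ P k))
    ((Set.finite_range _).union (Set.finite_range _))
    (by
      rintro F (⟨k, rfl⟩ | ⟨k, rfl⟩)
      · exact isClosed_closure
      · rw [← isOpen_compl_iff]
        exact isLocallyClosed_iff_isOpen_coborder.1 (hP k))
  refine ⟨m, S, h1, h2, h3, h4, fun i k ⟨x, hx, hxk⟩ y hy => ?_⟩
  have a : y ∈ closure (P k) := h5 i _ (.inl ⟨k, rfl⟩) ⟨x, hx, subset_closure hxk⟩ hy
  by_contra hy'
  exact (h5 i _ (.inr ⟨k, rfl⟩) ⟨y, hy, a, hy'⟩ hx).2 hxk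

end Groth.Agent.S7561
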