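import Groth.Statements.S7563
import Mathlib.Topology.Irreducible

set_option autoImplicit false
set_option backward.isDefEq.respectTransparency false
set_option backward.isDefEq.respectTransparency.types false
universe u
open PtTop

namespace Groth.Agent.S7563

/-- Let X be a topological space and X = X_1 ∪ … ∪ X_n with each X_i irreducible and closed and no X_i
contained in the union of the others. Then the irreducible components of X are precisely the sets
X_1, …, X_n. -/
theorem result {X : Type u} [TopologicalSpace X]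
    {n : ℕ} (Z : Fin n → Set X) (hZ : ∀ i, IsIrreducible (Z i) ∧ IsClosed (Z i))
    (hcov : ⋃ i, Z i = Set.univ) (hirr : ∀ i, ¬ Z i ⊆ ⋃ j ∈ ({i}ᶜ : Set (Fin n)), Z j) :
    irreducibleComponents X = Set.range Z := by
  classical
  have key : ∀ S : Set X, IsIrreducible S → ∃ i, S ⊆ Z i := by
    intro S hS
    obtain ⟨t, ht, hsub⟩ := isIrreducible_iff_sUnion_isClosed.1 hS (Finset.univ.image Z)
      (fun t ht => by obtain ⟨i, -, rfl⟩ := Finset.mem_image.1 ht; exact (hZ i).2)
      (fun x _ => by
        obtain ⟨i, hi⟩ := Set.mem_iUnion.1 (hcov.ge (Set.mem_univ x))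
        exact ⟨_, Finset.mem_image_of_mem _ (Finset.mem_univ i), hi⟩)
    obtain ⟨i, -, rfl⟩ := Finset.mem_image.1 ht
    exact ⟨i, hsub⟩
  ext S
  constructor
  · intro hS
    obtain ⟨i, hi⟩ := key S hS.1
    exact ⟨i, Set.Subset.antisymm (hS.2 (hZ i).1 hi) hi⟩
  · rintro ⟨i, rfl⟩
    refine ⟨(hZ i).1, fun S hS hle => ?_⟩
    obtain ⟨j, hj⟩ := key S hS
    by_cases hij : j = i
    · exact hij ▸ hj
    · exact absurd ((hle.trans hj).trans (Set.subset_biUnion_of_mem (u := Z) (show j ∈ ({i}ᶜ : Set (Fin n)) from hij))) (hirr i)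

end Groth.Agent.S7563
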