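import Groth.Statements.S7565
import Mathlib.Topology.NoetherianSpace

set_option autoImplicit false
set_option backward.isDefEq.respectTransparency false
set_option backward.isDefEq.respectTransparency.types false
universe u
open PtTop

namespace Groth.Agent.S7565

/-- Let f : X → Y be a continuous open map of topological spaces and assume every point of X has a
Noetherian neighbourhood. Then every point of f(X) (with the induced topology) has a Noetherian
neighbourhood. The published statement also asserts that a continuous image of a Noetherian space is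
Noetherian; this row states the part about open maps and locally Noetherian spaces. -/
theorem result {X Y : Type u} [TopologicalSpace X] [TopologicalSpace Y]
    (f : X → Y) (hf : Continuous f) (hfo : IsOpenMap f)
    (hX : ∀ x : X, ∃ E ∈ nhds x, TopologicalSpace.NoetherianSpace E) :
    ∀ y : Set.range f, ∃ E : Set (Set.range f), E ∈ nhds y ∧ TopologicalSpace.NoetherianSpace E := by
  rintro ⟨_, x, rfl⟩
  obtain ⟨E, hE, hN⟩ := hX x
  obtain ⟨U, hUE, hU, hxU⟩ := mem_nhds_iff.1 hE
  refine ⟨Subtype.val ⁻¹' (f '' U), ((hfo U hU).preimage continuous_subtype_val).mem_nhds ⟨x, hxU, rfl⟩, ?_⟩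
  rw [TopologicalSpace.noetherianSpace_set_iff]
  intro t ht
  rw [Topology.IsEmbedding.subtypeVal.isCompact_iff]
  have h := (TopologicalSpace.noetherianSpace_set_iff E).1 hN (f ⁻¹' (Subtype.val '' t) ∩ U)
    (Set.inter_subset_right.trans hUE)
  convert h.image hf using 1
  refine Set.Subset.antisymm ?_ ?_
  · rintro _ ⟨y, hy, rfl⟩
    obtain ⟨z, hz, hzy⟩ := ht hy
    exact ⟨z, ⟨⟨y, hy, hzy.symm⟩, hz⟩, hzy⟩
  · rintro _ ⟨z, ⟨hz, -⟩, rfl⟩
    exact hz

end Groth.Agent.S7565
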