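import Groth.Statements.S7567
import Groth.Agent.S7566

set_option autoImplicit false
set_option backward.isDefEq.respectTransparency false
set_option backward.isDefEq.respectTransparency.types false
universe u
open PtTop

namespace Groth.Agent.S7567

/-- Let X be a quasi-compact topological space whose quasi-compact opens form a basis, any two of them
meeting in a quasi-compact set. For a subset T ⊆ X these two conditions are equivalent: (a) T can be
written as an intersection of clopen subsets of X; (b) T is closed and is a union of connected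
components of X. -/
theorem result {X : Type u} [TopologicalSpace X]
    [CompactSpace X] [PrespectralSpace X] [QuasiSeparatedSpace X] (T : Set X) :
    (∃ S : Set (Set X), (∀ Z ∈ S, IsClopen Z) ∧ T = ⋂₀ S) ↔
      (IsClosed T ∧ ∀ x ∈ T, connectedComponent x ⊆ T) := by
  constructor
  · rintro ⟨S, hS, rfl⟩
    exact ⟨isClosed_sInter fun Z hZ => (hS Z hZ).isClosed,
      fun x hx => Set.subset_sInter fun Z hZ => (hS Z hZ).connectedComponent_subset (hx Z hZ)⟩
  · rintro ⟨hcl, hT⟩
    refine ⟨{Z | IsClopen Z ∧ T ⊆ Z}, fun Z hZ => hZ.1, Set.Subset.antisymm (Set.subset_sInter fun Z hZ => hZ.2) fun x hx => ?_⟩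
    by_contra hxT
    haveI : Nonempty {Z : Set X // IsClopen Z ∧ x ∈ Z} := ⟨⟨Set.univ, isClopen_univ, trivial⟩⟩
    obtain ⟨Z, hZ⟩ := hcl.isCompact.elim_directed_family_closed (fun Z : {Z : Set X // IsClopen Z ∧ x ∈ Z} => Z.1)
      (fun Z => Z.2.1.isClosed) (by
        rw [Set.eq_empty_iff_forall_notMem]
        rintro z ⟨hzT, hz⟩
        have hzc : z ∈ connectedComponent x := by
          rw [Groth.Agent.S7566.result x]
          exact Set.mem_sInter.2 fun Z hZ => Set.mem_iInter.1 hz ⟨Z, hZ⟩
        exact hxT (hT z hzT (connectedComponent_eq hzc ▸ mem_connectedComponent)))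
      (fun Z Z' => ⟨⟨Z.1 ∩ Z'.1, Z.2.1.inter Z'.2.1, Z.2.2, Z'.2.2⟩, Set.inter_subset_left, Set.inter_subset_right⟩)
    exact (Set.mem_sInter.1 hx Z.1ᶜ ⟨Z.2.1.compl, fun z hz hz' => Set.eq_empty_iff_forall_notMem.1 hZ z ⟨hz, hz'⟩⟩) Z.2.2

end Groth.Agent.S7567
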