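import Groth.Statements.S7568
import Mathlib.Topology.ShrinkingLemma
import Mathlib.Topology.Separation.Regular

set_option autoImplicit false
set_option backward.isDefEq.respectTransparency false
set_option backward.isDefEq.respectTransparency.types false
universe u
open PtTop

namespace Groth.Agent.S7568

/-- Let X be a Hausdorff quasi-compact space, X = ⋃ U_i an open covering, p ≥ 0 an integer, and for
every (p+1)-tuple (i_0, …, i_p) an open covering of U_{i_0} ∩ … ∩ U_{i_p} by opens W_{i_0…i_p,k}.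
Then there are an open covering X = ⋃_{j ∈ J} V_j and a map α : J → I with closure(V_j) ⊆ U_{α(j)}
such that each V_{j_0} ∩ … ∩ V_{j_p} is contained in W_{α(j_0)…α(j_p),k} for some k. The published
statement allows a covering of an empty intersection to have no members; this row requires every
covering W_{i_0…i_p} to have at least one member (possibly empty), without which the conclusion
fails. -/
theorem result {X : Type u} [TopologicalSpace X] [CompactSpace X] [T2Space X]
    {ι : Type u} (U : ι → Set X) (hU : ∀ i, IsOpen (U i)) (hcov : ⋃ i, U i = Set.univ) (p : ℕ)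
    (W : (Fin (p + 1) → ι) → Set (Set X)) (hWo : ∀ t, ∀ w ∈ W t, IsOpen w)
    (hWc : ∀ t, ⋃₀ W t = ⋂ l, U (t l)) (hWne : ∀ t, (W t).Nonempty) :
    ∃ (J : Type u) (V : J → Set X) (α : J → ι), (∀ j, IsOpen (V j)) ∧ (⋃ j, V j = Set.univ) ∧
      (∀ j, closure (V j) ⊆ U (α j)) ∧
      (∀ t : Fin (p + 1) → J, ∃ w ∈ W (α ∘ t), (⋂ l, V (t l)) ⊆ w) := by
  classical
  obtain ⟨s, hs⟩ := isCompact_univ.elim_finite_subcover U hU hcov.ge
  obtain ⟨O, hOcov, hO, hOU⟩ := exists_iUnion_eq_closure_subset (X := X) (u := fun i : s => U i.1) (fun i => hU _)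
    (fun x => Set.toFinite _) (Set.eq_univ_of_forall fun x => by
      obtain ⟨i, hi, hx⟩ := Set.mem_iUnion₂.1 (hs (Set.mem_univ x))
      exact Set.mem_iUnion.2 ⟨⟨i, hi⟩, hx⟩)
  have hα : ∀ x, ∃ i : s, x ∈ O i := fun x => Set.mem_iUnion.1 (hOcov.symm ▸ Set.mem_univ x)
  choose a ha using hα
  have hN : ∀ (x : X) (t : Fin (p + 1) → s), ∃ N : Set X, IsOpen N ∧ x ∈ N ∧
      ((∃ w ∈ W (fun l => (t l).1), N ⊆ w) ∨ ∃ l, Disjoint N (closure (O (t l)))) := by
    intro x t
    by_cases hx : ∀ l, x ∈ closure (O (t l))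
    · have : x ∈ ⋃₀ W (fun l => (t l).1) := by
        rw [hWc]; exact Set.mem_iInter.2 fun l => hOU _ (hx l)
      obtain ⟨w, hw, hxw⟩ := this
      exact ⟨w, hWo _ w hw, hxw, Or.inl ⟨w, hw, subset_rfl⟩⟩
    · push Not at hx
      obtain ⟨l, hl⟩ := hx
      exact ⟨(closure (O (t l)))ᶜ, isClosed_closure.isOpen_compl, hl, Or.inr ⟨l, disjoint_compl_left⟩⟩
  choose N hNo hxN hNW using hN
  let V : X → Set X := fun x => O (a x) ∩ ⋂ t, N x t
  refine ⟨X, V, fun x => (a x).1, fun x => (hO _).inter (isOpen_iInter_of_finite fun t => hNo x t),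
    Set.eq_univ_of_forall fun x => Set.mem_iUnion.2 ⟨x, ha x, Set.mem_iInter.2 fun t => hxN x t⟩,
    fun x => (closure_mono Set.inter_subset_left).trans (hOU _), fun t => ?_⟩
  rcases Set.eq_empty_or_nonempty (⋂ l, V (t l)) with h | ⟨y, hy⟩
  · obtain ⟨w, hw⟩ := hWne ((fun x => (a x).1) ∘ t)
    exact ⟨w, hw, h ▸ Set.empty_subset w⟩
  rw [Set.mem_iInter] at hy
  rcases hNW (t 0) (fun l => a (t l)) with ⟨w, hw, hsub⟩ | ⟨l, hl⟩
  · exact ⟨w, hw, fun z hz => hsub (Set.mem_iInter.1 (Set.mem_iInter.1 hz 0).2 _)⟩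
  · exact (hl.le_bot ⟨Set.mem_iInter.1 (hy 0).2 _, subset_closure (hy l).1⟩).elim

end Groth.Agent.S7568
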