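import Groth.Statements.S7571
import Mathlib.Topology.Category.TopCat.Limits.Cofiltered

set_option autoImplicit false
set_option backward.isDefEq.respectTransparency false
set_option backward.isDefEq.respectTransparency.types false
universe u
open CategoryTheory CategoryTheory.Limits
open PtTop

namespace Groth.Agent.S7571

/-- Let j ↦ X_j be a diagram of topological spaces over a cofiltered category with limit X and
projections f_j. (1) Every open of X is a union of subsets of the form f_j⁻¹(U_j) with U_j ⊆ X_j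
open. (2) Every quasi-compact open of X equals f_i⁻¹(U_i) for some i and some open U_i ⊆ X_i. -/
theorem result {J : Type u} [SmallCategory J] [IsCofiltered J]
    (F : J ⥤ TopCat.{u}) (c : Cone F) (hc : IsLimit c) :
    (∀ W : Set c.pt, IsOpen W →
      ∃ S : Set (Σ j, Set (F.obj j)), (∀ s ∈ S, IsOpen s.2) ∧ W = ⋃ s ∈ S, c.π.app s.1 ⁻¹' s.2) ∧
    (∀ W : Set c.pt, IsOpen W → IsCompact W →
      ∃ (i : J) (Ui : Set (F.obj i)), IsOpen Ui ∧ W = c.π.app i ⁻¹' Ui) := by
  have hB := TopCat.isTopologicalBasis_cofiltered_limit (F := F) (C := c) hc (fun j => {U : Set (F.obj j) | IsOpen U})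
    (fun j => TopologicalSpace.isTopologicalBasis_opens) (fun j => isOpen_univ) (fun j U V hU hV => IsOpen.inter hU hV)
    (fun i j a V hV => IsOpen.preimage (F.map a).hom.continuous hV)
  have h1 : ∀ W : Set c.pt, IsOpen W →
      ∃ S : Set (Σ j, Set (F.obj j)), (∀ s ∈ S, IsOpen s.2) ∧ W = ⋃ s ∈ S, c.π.app s.1 ⁻¹' s.2 := by
    intro W hW
    refine ⟨{s | IsOpen s.2 ∧ c.π.app s.1 ⁻¹' s.2 ⊆ W}, fun s hs => hs.1,
      Set.Subset.antisymm (fun x hx => ?_) (Set.iUnion₂_subset fun s hs => hs.2)⟩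
    obtain ⟨_, ⟨j, V, hV, rfl⟩, hxV, hsub⟩ := hB.exists_subset_of_mem_open hx hW
    exact Set.mem_iUnion₂.2 ⟨⟨j, V⟩, ⟨hV, hsub⟩, hxV⟩
  refine ⟨h1, fun W hW hWc => ?_⟩
  classical
  obtain ⟨S, hS, rfl⟩ := h1 W hW
  obtain ⟨t, htS, ht, hcov⟩ := hWc.elim_finite_subcover_image (b := S) (c := fun s => c.π.app s.1 ⁻¹' s.2)
    (fun s hs => (hS s hs).preimage (c.π.app s.1).hom.continuous) subset_rfl
  obtain ⟨i, hi⟩ := IsCofiltered.inf_objs_exists (ht.toFinset.image Sigma.fst)
  let g : ∀ s, s ∈ t → (i ⟶ s.1) := fun s hs => (hi (Finset.mem_image_of_mem _ (ht.mem_toFinset.2 hs))).some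
  refine ⟨i, ⋃ s, ⋃ hs : s ∈ t, F.map (g s hs) ⁻¹' s.2,
    isOpen_iUnion fun s => isOpen_iUnion fun hs => (hS s (htS hs)).preimage (F.map (g s hs)).hom.continuous, ?_⟩
  have hw : ∀ s (hs : s ∈ t), c.π.app i ⁻¹' (F.map (g s hs) ⁻¹' s.2) = c.π.app s.1 ⁻¹' s.2 := fun s hs => by
    ext x
    simp only [Set.mem_preimage]
    have e : F.map (g s hs) (c.π.app i x) = c.π.app s.1 x := ConcreteCategory.congr_hom (c.w (g s hs)) x
    exact iff_of_eq (congrArg (· ∈ s.2) e)
  simp only [Set.preimage_iUnion, hw]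
  exact Set.Subset.antisymm hcov (Set.biUnion_subset_biUnion_left htS)

end Groth.Agent.S7571
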