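import Groth.Statements.S7577
import Groth.Agent.SpecLib.Codim

set_option autoImplicit false
set_option backward.isDefEq.respectTransparency false
set_option backward.isDefEq.respectTransparency.types false
universe u
open PtTop

namespace Groth.Agent.S7577

/-- Let X be a sober topological space and δ : X → ℤ a dimension function. Then X is catenary, and for
any specialization x ⤳ y the codimension of the closure of {y} in the closure of {x} equals δ(x) −
δ(y). -/
theorem result {X : Type u} [TopologicalSpace X] [QuasiSober X] [T0Space X]
    (δ : X → ℤ) (hδ : PtTop.IsDimensionFunction δ) :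
    PtTop.IsCatenarySpace X ∧
    ∀ x y : X, x ⤳ y →
      PtTop.codim (⟨closure {y}, isIrreducible_singleton.closure, isClosed_closure⟩ : TopologicalSpace.IrreducibleCloseds X)
        (closure {x}) = ((δ x - δ y).toNat : ℕ∞) := by
  refine ⟨SpecLib.isCatenarySpace_iff.2 fun T T' hle => ⟨SpecLib.codim_ne_top hδ T T', fun s h1 h2 => ?_⟩, fun x y h => ?_⟩
  · have a := SpecLib.dim_sat hδ s
    rw [h1, h2] at a
    rw [SpecLib.codim_eq_toNat hδ hle]
    congr 1
    omega
  · have := SpecLib.codim_eq_toNat hδ
      (T := ⟨closure {y}, isIrreducible_singleton.closure, isClosed_closure⟩)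
      (T' := ⟨closure {x}, isIrreducible_singleton.closure, isClosed_closure⟩)
      (specializes_iff_closure_subset.1 h)
    rwa [SpecLib.gp_closure, SpecLib.gp_closure] at this

end Groth.Agent.S7577
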