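import Groth.Statements.S7578
import Groth.Agent.SpecLib.Codim
import Mathlib.Topology.NoetherianSpace

set_option autoImplicit false
set_option backward.isDefEq.respectTransparency false
set_option backward.isDefEq.respectTransparency.types false
universe u
open PtTop

namespace Groth.Agent.S7578

/-- Let X be a topological space which is locally Noetherian (every point has a Noetherian
neighbourhood) and sober, and let δ, δ' be two dimension functions on X. Then δ − δ' is locally
constant. -/
theorem result {X : Type u} [TopologicalSpace X] [QuasiSober X] [T0Space X]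
    (hX : ∀ x : X, ∃ E ∈ nhds x, TopologicalSpace.NoetherianSpace E)
    (δ δ' : X → ℤ) (hδ : PtTop.IsDimensionFunction δ) (hδ' : PtTop.IsDimensionFunction δ') :
    IsLocallyConstant (fun x => δ x - δ' x) := by
  rw [IsLocallyConstant.iff_exists_open]
  intro x
  obtain ⟨E, hE, hN⟩ := hX x
  obtain ⟨U, hUE, hU, hxU⟩ := mem_nhds_iff.1 hE
  haveI : TopologicalSpace.NoetherianSpace U := (TopologicalSpace.noetherianSpace_set_iff U).2
    fun t ht => (TopologicalSpace.noetherianSpace_set_iff E).1 hN t (ht.trans hUE)
  haveI : QuasiSober U := hU.isOpenEmbedding_subtypeVal.quasiSober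
  let bad : Set U := ⋃ Z ∈ {Z ∈ irreducibleComponents U | (⟨x, hxU⟩ : U) ∉ Z}, Z
  have hbad : IsClosed bad := (TopologicalSpace.NoetherianSpace.finite_irreducibleComponents.subset fun Z hZ => hZ.1).isClosed_biUnion
    fun Z hZ => isClosed_of_mem_irreducibleComponents Z hZ.1
  refine ⟨Subtype.val '' badᶜ, hU.isOpenMap_subtype_val _ hbad.isOpen_compl, ⟨⟨x, hxU⟩, fun h => ?_, rfl⟩, ?_⟩
  · obtain ⟨Z, hZ, hxZ⟩ := Set.mem_iUnion₂.1 h
    exact hZ.2 hxZ
  · rintro _ ⟨z, hz, rfl⟩
    have hZ := irreducibleComponent_mem_irreducibleComponents z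
    have hx : (⟨x, hxU⟩ : U) ∈ irreducibleComponent z :=
      by_contra fun h => hz (Set.mem_iUnion₂.2 ⟨_, ⟨hZ, h⟩, mem_irreducibleComponent⟩)
    have hη := hZ.1.isGenericPoint_genericPoint (isClosed_of_mem_irreducibleComponents _ hZ)
    have a := SpecLib.diff_eq hδ hδ' ((hη.specializes mem_irreducibleComponent).map continuous_subtype_val)
    have b := SpecLib.diff_eq hδ hδ' ((hη.specializes hx).map continuous_subtype_val)
    exact a.symm.trans b

end Groth.Agent.S7578
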