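import Groth.Statements.S7579
import Groth.Agent.SpecLib.Limit

set_option autoImplicit false
set_option backward.isDefEq.respectTransparency false
set_option backward.isDefEq.respectTransparency.types false
universe u
open SpecSp

namespace Groth.Agent.S7579

/-- Let X be a spectral space. Then X with its constructible topology is Hausdorff and totally
disconnected. The published statement also asserts that the constructible topology is quasi-compact;
this row states the Hausdorff and totally disconnected parts. -/
theorem result (X : Type u) [TopologicalSpace X] [SpectralSpace X] :
    T2Space (WithConstructibleTopology X) ∧ TotallyDisconnectedSpace (WithConstructibleTopology X) := by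
  haveI := SpecLib.t2Space_W (X := X)
  haveI : TotallySeparatedSpace (WithConstructibleTopology X) := by
    refine totallySeparatedSpace_iff_exists_isClopen.2 fun v w h => ?_
    obtain ⟨U, h1, h2, h3, h4⟩ := SpecLib.exists_clopen_separating
      (fun e => h (WithTopology.ofTopology_injective _ e) : v.ofTopology ≠ w.ofTopology)
    exact ⟨{x | x.ofTopology ∈ U}, ⟨SpecLib.isClosed_W h1, WithConstructibleTopology.isOpen_iff.2 h2⟩, h3, h4⟩
  exact ⟨inferInstance, inferInstance⟩

end Groth.Agent.S7579
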