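import Groth.Statements.S7580
import Mathlib.SetTheory.Cardinal.Basic

set_option autoImplicit false
set_option backward.isDefEq.respectTransparency false
set_option backward.isDefEq.respectTransparency.types false
universe u
open PtTop

namespace Groth.Agent.S7580

/-- Let f : X → Y be a continuous map of topological spaces with f(X) dense in Y and Y Hausdorff. Then
the cardinality of Y is at most that of the double power set of X. -/
theorem result {X Y : Type u} [TopologicalSpace X] [TopologicalSpace Y] [T2Space Y]
    (f : X → Y) (hf : Continuous f) (hd : DenseRange f) :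
    Cardinal.mk Y ≤ (2 : Cardinal.{u}) ^ ((2 : Cardinal.{u}) ^ Cardinal.mk X) := by
  have hinj : Function.Injective (fun y : Y => {A : Set X | y ∈ closure (f '' A)}) := by
    intro y y' h
    by_contra hne
    obtain ⟨U, V, hU, hV, hy, hy', hUV⟩ := t2_separation hne
    have h1 : y ∈ closure (f '' (f ⁻¹' U)) := by
      rw [Set.image_preimage_eq_inter_range]
      exact hd.open_subset_closure_inter hU hy
    have h2 : f ⁻¹' U ∈ {A : Set X | y' ∈ closure (f '' A)} := (Set.ext_iff.1 h _).1 h1
    obtain ⟨z, hzV, w, hw, rfl⟩ := mem_closure_iff.1 h2 V hV hy'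
    exact Set.disjoint_left.1 hUV hw hzV
  have := Cardinal.mk_le_of_injective hinj
  rwa [Cardinal.mk_set, Cardinal.mk_set] at this

end Groth.Agent.S7580
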