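import Groth.Statements.S7581
import Groth.Agent.SpecLib.Codim

set_option autoImplicit false
set_option backward.isDefEq.respectTransparency false
set_option backward.isDefEq.respectTransparency.types false
universe u
open PtTop

namespace Groth.Agent.S7581

/-- Let X be a topological space. Then X is catenary if and only if for every pair of irreducible closed
subsets Y ⊆ Y' the codimension codim(Y, Y') is finite and for every triple Y ⊆ Y' ⊆ Y'' of
irreducible closed subsets codim(Y, Y'') = codim(Y, Y') + codim(Y', Y''). -/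
theorem result (X : Type u) [TopologicalSpace X] :
    PtTop.IsCatenarySpace X ↔
      (∀ Y Y' : TopologicalSpace.IrreducibleCloseds X, Y ≤ Y' → PtTop.codim Y (Y' : Set X) ≠ ⊤) ∧
      (∀ Y Y' Y'' : TopologicalSpace.IrreducibleCloseds X, Y ≤ Y' → Y' ≤ Y'' →
        PtTop.codim Y (Y'' : Set X) = PtTop.codim Y (Y' : Set X) + PtTop.codim Y' (Y'' : Set X)) := by
  rw [SpecLib.isCatenarySpace_iff]
  refine ⟨fun h => ⟨fun Y Y' hle => (h Y Y' hle).1, fun Y Y' Y'' h1 h2 => ?_⟩, fun ⟨hfin, hadd⟩ T T' hle => ⟨hfin T T' hle, ?_⟩⟩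
  · obtain ⟨s, hs1, hs2, hs3⟩ := SpecLib.exists_satSeries h1 (h Y Y' h1).1
    obtain ⟨t, ht1, ht2, ht3⟩ := SpecLib.exists_satSeries h2 (h Y' Y'' h2).1
    have hc : s.last = t.head := hs2.trans ht1.symm
    have := (h Y Y'' (h1.trans h2)).2 (RelSeries.smash s t hc) (by rw [RelSeries.head_smash, hs1]) (by rw [RelSeries.last_smash, ht2])
    rw [← this, ← hs3, ← ht3, RelSeries.smash_length]
    norm_cast
  · intro s h1 h2
    suffices ∀ i : Fin (s.length + 1), T ≤ s i ∧ PtTop.codim T ((s i : _) : Set X) = (i.1 : ℕ∞) by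
      have := (this (Fin.last _)).2
      rw [show s (Fin.last _) = T' from h2] at this
      exact this.symm
    intro i
    induction i using Fin.induction with
    | zero =>
      rw [show s 0 = T from h1]
      refine ⟨le_rfl, ?_⟩
      obtain ⟨n, hn⟩ := ENat.ne_top_iff_exists.1 (hfin T T le_rfl)
      have := hadd T T T le_rfl le_rfl
      rw [← hn] at this ⊢
      norm_cast at this ⊢
      simp only [Fin.val_zero]
      omega
    | succ i ih =>
      have hcov : s i.castSucc ⋖ s i.succ := s.step i
      refine ⟨ih.1.trans hcov.le, ?_⟩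
      rw [hadd T (s i.castSucc) (s i.succ) ih.1 hcov.le, ih.2, SpecLib.codim_of_covBy hcov, Fin.val_castSucc, Fin.val_succ]
      norm_cast

end Groth.Agent.S7581
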