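import Groth.Statements.S7582
import Groth.Agent.SpecLib.Sob

set_option autoImplicit false
set_option backward.isDefEq.respectTransparency false
set_option backward.isDefEq.respectTransparency.types false
universe u
open PtTop

namespace Groth.Agent.S7582

/-- Let X be a topological space and c : X → X′ the canonical map to its soberification (X′ =
irreducible closed subsets of X, with opens the sets of those meeting a given open of X; c(x) =
closure of {x}). Then X′ is sober, c is continuous, the rule U′ ↦ c⁻¹(U′) is a bijection from the
open subsets of X′ onto the open subsets of X (it automatically respects finite intersections and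
arbitrary unions), and every continuous map from X to a sober space Y is of the form g ∘ c for a
continuous g : X′ → Y. The published statement also asserts that g is unique and that c(X) is a
Kolmogorov space universal for maps to Kolmogorov spaces; this row omits those clauses and lets Y
range over the universe of X. -/
theorem result (X : Type u) [TopologicalSpace X] :
    QuasiSober (PtTop.Sob X) ∧ T0Space (PtTop.Sob X) ∧ Continuous (PtTop.toSob X) ∧
    Set.BijOn (fun U' : Set (PtTop.Sob X) => PtTop.toSob X ⁻¹' U') {U' | IsOpen U'} {U : Set X | IsOpen U} ∧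
    ∀ (Y : Type u) [TopologicalSpace Y] [QuasiSober Y] [T0Space Y] (f : X → Y), Continuous f →
      ∃ g : PtTop.Sob X → Y, Continuous g ∧ g ∘ PtTop.toSob X = f := by
  refine ⟨SpecLib.quasiSober_sob, SpecLib.t0Space_sob, SpecLib.continuous_toSob, ⟨fun S hS => ?_, ?_, fun U hU => ?_⟩, ?_⟩
  · exact hS.preimage SpecLib.continuous_toSob
  · intro S hS T hT h
    obtain ⟨U, hU, rfl⟩ := SpecLib.exists_meets hS
    obtain ⟨V, hV, rfl⟩ := SpecLib.exists_meets hT
    simp only [SpecLib.toSob_preimage hU, SpecLib.toSob_preimage hV] at h
    rw [h]
  · exact ⟨SpecLib.meets U, SpecLib.isOpen_meets hU, SpecLib.toSob_preimage hU⟩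
  · intro Y _ _ _ f hf
    have hirr : ∀ Z : TopologicalSpace.IrreducibleCloseds X, IsIrreducible (f '' (Z : Set X)) :=
      fun Z => Z.2.image f hf.continuousOn
    let g : PtTop.Sob X → Y := fun Z => (hirr Z).genericPoint
    have hg : ∀ V : Set Y, IsOpen V → g ⁻¹' V = SpecLib.meets (f ⁻¹' V) := by
      intro V hV
      ext Z
      have hη := (hirr Z).isGenericPoint_genericPoint_closure
      constructor
      · intro h
        obtain ⟨_, hy, z, hz, rfl⟩ := mem_closure_iff.1 hη.mem V hV h
        exact ⟨z, hz, hy⟩
      · rintro ⟨z, hz, hy⟩
        exact (hη.specializes (subset_closure ⟨z, hz, rfl⟩)).mem_open hV hy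
    refine ⟨g, ⟨fun V hV => by rw [hg V hV]; exact SpecLib.isOpen_meets (hV.preimage hf)⟩, funext fun x => ?_⟩
    have hmem : ∀ V : Set Y, IsOpen V → (g (PtTop.toSob X x) ∈ V ↔ f x ∈ V) := fun V hV => by
      rw [← Set.mem_preimage, hg V hV]
      exact Set.ext_iff.1 (SpecLib.toSob_preimage (hV.preimage hf)) x
    exact (inseparable_iff_forall_isOpen.2 fun V hV => hmem V hV).eq

end Groth.Agent.S7582
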