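import Groth.Statements.S7588
import Groth.Agent.ShSpLib.Basis

set_option autoImplicit false
set_option backward.isDefEq.respectTransparency false
set_option backward.isDefEq.respectTransparency.types false
universe u
open CategoryTheory
open ShSp

namespace Groth.Agent.S7588

/-- Let X be a topological space, ℬ a basis for its topology and F a sheaf of sets on ℬ. There is a
sheaf of sets F^ext on X together with an isomorphism of presheaves on ℬ between the restriction of
F^ext to ℬ and F; and it is unique: given two sheaves G, G′ on X with such isomorphisms e, e′, there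
is a unique isomorphism G ≅ G′ whose restriction to the members of ℬ is compatible with e and e′. -/
theorem result {X : Type u} [TopologicalSpace X] {B : Set (TopologicalSpace.Opens X)}
    (hB : TopologicalSpace.Opens.IsBasis B) (F : ShB.Pre B) (hF : ShB.IsSheaf F) :
    (∃ G : TopCat.Sheaf (Type u) (TopCat.of X), Nonempty (ShB.Iso (ShB.restrict B G.presheaf) F)) ∧
    ∀ (G G' : TopCat.Sheaf (Type u) (TopCat.of X)) (e : ShB.Iso (ShB.restrict B G.presheaf) F)
      (e' : ShB.Iso (ShB.restrict B G'.presheaf) F),
      ∃! φ : G ⟶ G', IsIso φ ∧ ∀ (U : B) (s : G.presheaf.obj (Opposite.op (U : TopologicalSpace.Opens X))),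
        e'.hom.app U (φ.1.app (Opposite.op (U : TopologicalSpace.Opens X)) s) = e.hom.app U s := by
  open TopologicalSpace Opposite in
  refine ⟨⟨Groth.Agent.ShSpLib.extSheaf F, Groth.Agent.ShSpLib.nonempty_iso_extSheaf hB hF⟩, fun G G' e e' => ?_⟩
  let ι : B → Opens (TopCat.of X) := fun U => (U : Opens X)
  have hι : Opens.IsBasis (Set.range ι) := by
    have : Set.range ι = B := Subtype.range_coe
    rw [this]
    exact hB
  let α : (inducedFunctor ι).op ⋙ G.presheaf ⟶ (inducedFunctor ι).op ⋙ G'.1 :=
    { app := fun U => TypeCat.ofHom fun s => e'.inv.app U.unop (e.hom.app U.unop s)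
      naturality := fun U V g => by
        ext s
        have h₁ := e.hom.natural (U := U.unop) (V := V.unop) ((inducedFunctor ι).map g.unop).le s
        have h₂ := e'.inv.natural (U := U.unop) (V := V.unop) ((inducedFunctor ι).map g.unop).le (e.hom.app U.unop s)
        exact (congrArg (e'.inv.app V.unop) h₁.symm).trans h₂.symm }
  let φ : G ⟶ G' := ⟨TopCat.Sheaf.restrictHomEquivHom G.presheaf G' hι α⟩
  have hφ : ∀ (U : B) (s : G.presheaf.obj (op (U : Opens X))),
      φ.1.app (op (U : Opens X)) s = e'.inv.app U (e.hom.app U s) := fun U s =>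
    congrArg (fun q => q s) (TopCat.Sheaf.extend_hom_app G.presheaf G' hι α U)
  refine ⟨φ, ⟨TopCat.Sheaf.isIso_iff_isIso_basis hι fun U => ?_, fun U s => ?_⟩, fun ψ hψ => ?_⟩
  · refine (isIso_iff_bijective _).2 ⟨fun a b hab => ?_, fun t => ⟨e.inv.app U (e'.hom.app U t), ?_⟩⟩
    · have h : e'.inv.app U (e.hom.app U a) = e'.inv.app U (e.hom.app U b) :=
        (hφ U a).symm.trans (hab.trans (hφ U b))
      have h' := congrArg (e'.hom.app U) h
      rw [e'.inv_hom, e'.inv_hom] at h'
      exact (e.hom_inv U a).symm.trans ((congrArg (e.inv.app U) h').trans (e.hom_inv U b))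
    · exact (hφ U _).trans ((congrArg (e'.inv.app U) (e.inv_hom U _)).trans (e'.hom_inv U t))
  · rw [hφ, e'.inv_hom]
  · apply Sheaf.hom_ext
    refine TopCat.Sheaf.hom_ext G.presheaf G' hι fun U => ?_
    ext s
    exact ((e'.hom_inv U _).symm.trans ((congrArg (e'.inv.app U) (hψ.2 U s)).trans (hφ U s).symm))

end Groth.Agent.S7588
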