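import Groth.Statements.S9180
import Groth.Agent.VarDim.Intersection
import Mathlib

set_option autoImplicit false
universe u
open CAlg

namespace Groth.Agent.S9180
open Order TensorProduct Groth.Agent.VarDim
open scoped TensorProduct

theorem coheight_minimalPrime_baseChange {k : Type u} [Field k] (AP AQ : Type u) [Field AP] [Algebra k AP]
    [CommRing AQ] [IsDomain AQ] [Algebra k AQ] [Algebra.FiniteType k AQ]
    {s : ℕ} (hs : ringKrullDim AQ = s)
    (q : PrimeSpectrum (AP ⊗[k] AQ)) (hq : q.asIdeal ∈ minimalPrimes (AP ⊗[k] AQ)) :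
    coheight q = (s : ℕ) := by
  classical
  obtain ⟨s', g, hinj, hfin⟩ := exists_finite_inj_algHom_of_fg k AQ
  let T := MvPolynomial (Fin s') k
  letI : Algebra T AQ := g.toRingHom.toAlgebra
  have : IsScalarTower k T AQ := IsScalarTower.of_algebraMap_eq fun x => (g.commutes x).symm
  have hTfin : Module.Finite T AQ := hfin
  have : FaithfulSMul T AQ := (faithfulSMul_iff_algebraMap_injective _ _).2 hinj
  have hTint : Algebra.IsIntegral T AQ := Algebra.IsIntegral.of_finite T AQ
  obtain rfl : s' = s := by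
    rw [ringKrullDim_eq_of_isIntegral (R := T) (S := AQ), MvPolynomial.ringKrullDim_of_isNoetherianRing,
      ringKrullDim_eq_zero_of_field, zero_add, Nat.card_fin] at hs
    exact_mod_cast hs
  obtain ⟨N, φ, hφ⟩ := exists_injective_pi (R := T) (M := AQ) fun c hc x y h => by
    simp only [Algebra.smul_def] at h
    exact mul_left_cancel₀ (fun h0 => hc (hinj (h0.trans (map_zero g).symm))) h
  let D := AP ⊗[k] T
  let eD : D ≃ₐ[AP] MvPolynomial (Fin s') AP := MvPolynomial.algebraTensorAlgEquiv k AP
  have : IsDomain D := eD.toRingEquiv.toMulEquiv.isDomain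
  have hdimD : ringKrullDim D = ((s' : ℕ) : WithBot ℕ∞) := by
    rw [ringKrullDim_eq_of_ringEquiv eD.toRingEquiv, MvPolynomial.ringKrullDim_of_isNoetherianRing,
      ringKrullDim_eq_zero_of_field, zero_add, Nat.card_fin]
  let gB : D →ₐ[k] AP ⊗[k] AQ := Algebra.TensorProduct.map (AlgHom.id k AP) g
  let Φ : AP ⊗[k] AQ →ₗ[k] Fin N → D :=
    (TensorProduct.piRight k k AP (fun _ : Fin N => T)).toLinearMap ∘ₗ
      LinearMap.lTensor AP (φ.restrictScalars k)
  have hΦ : Function.Injective Φ :=
    (TensorProduct.piRight k k AP (fun _ : Fin N => T)).injective.comp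
      (Module.Flat.lTensor_preserves_injective_linearMap _ hφ)
  have hmul : ∀ (d : D) (b : AP ⊗[k] AQ) (i : Fin N), Φ (gB d * b) i = d * Φ b i := by
    intro d b i
    induction d using TensorProduct.induction_on with
    | zero => simp
    | add d₁ d₂ h₁ h₂ => rw [map_add, add_mul, map_add, Pi.add_apply, h₁, h₂, add_mul]
    | tmul a t =>
      induction b using TensorProduct.induction_on with
      | zero => simp
      | add b₁ b₂ h₁ h₂ => rw [mul_add, map_add, Pi.add_apply, h₁, h₂, map_add, Pi.add_apply, mul_add]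
      | tmul a' x =>
        have e1 : gB (a ⊗ₜ[k] t) = a ⊗ₜ[k] g t := Algebra.TensorProduct.map_tmul _ _ _ _
        have e2 : ∀ (c : AP) (y : AQ), Φ (c ⊗ₜ[k] y) i = c ⊗ₜ[k] φ y i := fun c y => by
          simp [Φ]
        rw [e1, Algebra.TensorProduct.tmul_mul_tmul, e2, e2, show g t * x = t • x from rfl, map_smul,
          Pi.smul_apply, smul_eq_mul]
        exact (Algebra.TensorProduct.tmul_mul_tmul a a' t (φ x i)).symm
  letI : Algebra D (AP ⊗[k] AQ) := gB.toRingHom.toAlgebra
  have hint : Algebra.IsIntegral D (AP ⊗[k] AQ) := ⟨fun b => by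
    induction b using TensorProduct.induction_on with
    | zero => exact isIntegral_zero
    | add b₁ b₂ h₁ h₂ => exact h₁.add h₂
    | tmul a x =>
      rw [show a ⊗ₜ[k] x = (a ⊗ₜ[k] (1 : AQ)) * ((1 : AP) ⊗ₜ[k] x) by
        rw [Algebra.TensorProduct.tmul_mul_tmul, mul_one, one_mul]]
      refine IsIntegral.mul ?_ ?_
      · have h1 : IsIntegral D (algebraMap D (AP ⊗[k] AQ) (a ⊗ₜ[k] (1 : T))) := isIntegral_algebraMap
        rwa [show algebraMap D (AP ⊗[k] AQ) (a ⊗ₜ[k] (1 : T)) = a ⊗ₜ[k] (1 : AQ) from by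
          show gB (a ⊗ₜ[k] (1 : T)) = _
          rw [show gB (a ⊗ₜ[k] (1 : T)) = a ⊗ₜ[k] g 1 from Algebra.TensorProduct.map_tmul _ _ _ _,
            map_one]] at h1
      · obtain ⟨p, hp, hpx⟩ := Algebra.IsIntegral.isIntegral (R := T) x
        refine ⟨p.map (Algebra.TensorProduct.includeRight (R := k) (A := AP) (B := T)).toRingHom,
          hp.map _, ?_⟩
        rw [Polynomial.eval₂_map]
        have : (algebraMap D (AP ⊗[k] AQ)).comp
            (Algebra.TensorProduct.includeRight (R := k) (A := AP) (B := T)).toRingHom =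
            (Algebra.TensorProduct.includeRight (R := k) (A := AP) (B := AQ)).toRingHom.comp
              (algebraMap T AQ) := by
          refine RingHom.ext fun t => ?_
          show gB ((1 : AP) ⊗ₜ[k] t) = (1 : AP) ⊗ₜ[k] g t
          rw [Algebra.TensorProduct.map_tmul, AlgHom.id_apply]
        rw [this]
        exact (Polynomial.hom_eval₂ _ _ _ _).symm.trans (by rw [hpx, map_zero])⟩
  have hbot : q.asIdeal.comap (algebraMap D (AP ⊗[k] AQ)) = ⊥ := by
    rw [eq_bot_iff]
    intro d hd
    by_contra hd0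
    refine notMem_nonZeroDivisors_of_mem_mem_minimalPrimes (Ideal.mem_comap.1 hd) hq ?_
    refine mem_nonZeroDivisors_iff_right.2 fun b hb => hΦ ?_
    rw [map_zero]
    funext i
    have h := hmul d b i
    rw [mul_comm, show b * gB d = 0 from hb, map_zero, Pi.zero_apply] at h
    exact (mul_eq_zero.1 h.symm).resolve_left hd0
  have : FaithfulSMul D ((AP ⊗[k] AQ) ⧸ q.asIdeal) := by
    refine (faithfulSMul_iff_algebraMap_injective D _).2 ((injective_iff_map_eq_zero _).2 ?_)
    intro d hd
    rw [IsScalarTower.algebraMap_apply D (AP ⊗[k] AQ), Ideal.Quotient.algebraMap_eq,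
      Ideal.Quotient.eq_zero_iff_mem, ← Ideal.mem_comap, hbot] at hd
    exact hd
  have hI : Algebra.IsIntegral D ((AP ⊗[k] AQ) ⧸ q.asIdeal) :=
    ⟨fun y => by
      obtain ⟨y, rfl⟩ := Ideal.Quotient.mk_surjective y
      obtain ⟨p, hp, hpy⟩ := hint.isIntegral y
      refine ⟨p, hp, ?_⟩
      show Polynomial.eval₂ ((Ideal.Quotient.mk q.asIdeal).comp (algebraMap D (AP ⊗[k] AQ)))
        (Ideal.Quotient.mk q.asIdeal y) p = 0
      rw [← Polynomial.hom_eval₂, hpy, map_zero]⟩
  refine WithBot.coe_inj.1 ((coheight_eq_ringKrullDim_quotient q).trans ?_)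
  rw [ringKrullDim_eq_of_isIntegral (R := D) (S := (AP ⊗[k] AQ) ⧸ q.asIdeal), hdimD]
  rfl


/-- The dimension of the fibre local ring is a height in the quotient. -/
theorem ringKrullDim_localization_quotient {R : Type*} [CommRing R] (I P : Ideal R) [P.IsPrime]
    [(P.map (Ideal.Quotient.mk I)).IsPrime] (hIP : I ≤ P) :
    ringKrullDim (Localization.AtPrime P ⧸ I.map (algebraMap R (Localization.AtPrime P))) =
      (P.map (Ideal.Quotient.mk I)).height := by
  have hM : Algebra.algebraMapSubmonoid (R ⧸ I) P.primeCompl = (P.map (Ideal.Quotient.mk I)).primeCompl := by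
    ext x
    obtain ⟨x, rfl⟩ := Ideal.Quotient.mk_surjective x
    have hmem : Ideal.Quotient.mk I x ∈ P.map (Ideal.Quotient.mk I) ↔ x ∈ P := by
      rw [← Ideal.mem_comap, Ideal.comap_map_of_surjective _ Ideal.Quotient.mk_surjective,
        ← RingHom.ker_eq_comap_bot, Ideal.mk_ker, sup_eq_left.2 hIP]
    constructor
    · rintro ⟨y, hy, e⟩
      intro hx
      rw [← e] at hx
      have hy' : y ∈ P := by
        have : y ∈ (P.map (Ideal.Quotient.mk I)).comap (Ideal.Quotient.mk I) := hx
        rwa [Ideal.comap_map_of_surjective _ Ideal.Quotient.mk_surjective, ← RingHom.ker_eq_comap_bot,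
          Ideal.mk_ker, sup_eq_left.2 hIP] at this
      exact hy hy'
    · intro hx
      exact ⟨x, fun h => hx (hmem.2 h), rfl⟩
  haveI : IsLocalization.AtPrime (Localization.AtPrime P ⧸ I.map (algebraMap R (Localization.AtPrime P)))
      (P.map (Ideal.Quotient.mk I)) := by
    show IsLocalization _ _
    rw [← hM]
    infer_instance
  exact IsLocalization.AtPrime.ringKrullDim_eq_height (P.map (Ideal.Quotient.mk I)) _

/-- `ht + coht = r` in a finite type algebra whose components have dimension `r`. -/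
theorem height_add_coheight_of_minimal {K C : Type u} [Field K] [CommRing C] [Algebra K C] [Algebra.FiniteType K C]
    (r : ℕ) (hmin : ∀ q : PrimeSpectrum C, q.asIdeal ∈ minimalPrimes C → coheight q = r) (x : PrimeSpectrum C) :
    height x + coheight x = r := by
  have hle : ∀ y : PrimeSpectrum C, ∃ q : PrimeSpectrum C, q.asIdeal ∈ minimalPrimes C ∧ q ≤ y := fun y => by
    obtain ⟨p, hp, hpy⟩ := Ideal.exists_minimalPrimes_le (I := (⊥ : Ideal C)) (J := y.asIdeal) bot_le
    exact ⟨⟨p, hp.1.1⟩, hp, hpy⟩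
  have hdim : ringKrullDim C ≤ (r : WithBot ℕ∞) := by
    refine iSup_le fun l => ?_
    obtain ⟨q, hq, hql⟩ := hle l.head
    have h1 : (l.length : ℕ∞) ≤ coheight q :=
      (length_le_coheight (x := l.head) le_rfl).trans (coheight_anti hql)
    rw [hmin q hq] at h1
    exact WithBot.coe_le_coe.2 h1
  refine le_antisymm (WithBot.coe_le_coe.1 ((height_add_coheight_le x).trans hdim)) ?_
  obtain ⟨q, hq, hqx⟩ := hle x
  haveI := q.isPrime
  obtain ⟨n, hn, -⟩ := exists_dim_eq_trdeg K (C ⧸ q.asIdeal)
  have hnr : n = r := by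
    have := coheight_eq_ringKrullDim_quotient q
    rw [hmin q hq, hn] at this
    have h' : ((r : ℕ) : WithBot ℕ∞) = (n : WithBot ℕ∞) := this
    exact_mod_cast h'.symm
  haveI hpr : (x.asIdeal.map (Ideal.Quotient.mk q.asIdeal)).IsPrime :=
    Ideal.map_isPrime_of_surjective Ideal.Quotient.mk_surjective (by rw [Ideal.mk_ker]; exact hqx)
  let x' : PrimeSpectrum (C ⧸ q.asIdeal) := ⟨_, hpr⟩
  have hx' : PrimeSpectrum.comap (Ideal.Quotient.mk q.asIdeal) x' = x := PrimeSpectrum.ext (by
    show Ideal.comap _ (Ideal.map _ _) = _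
    rw [Ideal.comap_map_of_surjective _ Ideal.Quotient.mk_surjective, ← RingHom.ker_eq_comap_bot, Ideal.mk_ker]
    exact sup_eq_left.2 hqx)
  have hmono : StrictMono (PrimeSpectrum.comap (Ideal.Quotient.mk q.asIdeal)) := fun a b hab =>
    (Ideal.orderEmbeddingOfSurjective _ Ideal.Quotient.mk_surjective).strictMono hab
  have h1 := height_add_coheight_eq K n (C ⧸ q.asIdeal) hn x'
  have h2 := height_le_height_apply_of_strictMono _ hmono x'
  have h3 := coheight_le_coheight_apply_of_strictMono _ hmono x'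
  rw [hx'] at h2 h3
  rw [← hnr, ← h1]
  exact add_le_add h2 h3

/-- Transcendence degree of a residue field is that of the quotient domain. -/
theorem trdeg_residueField (F R : Type u) [Field F] [CommRing R] [Algebra F R] (P : Ideal R) [P.IsPrime] :
    Algebra.trdeg F P.ResidueField = Algebra.trdeg F (R ⧸ P) := by
  haveI : FaithfulSMul (R ⧸ P) P.ResidueField :=
    (faithfulSMul_iff_algebraMap_injective _ _).2 (IsFractionRing.injective _ _)
  rw [← trdeg_add_eq F (R ⧸ P) (A := P.ResidueField), trdeg_eq_zero (R := R ⧸ P), add_zero]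


open TensorProduct in
/-- Let S be of finite type over a field k, K an extension field of k, S_K = S ⊗_k K, q a prime of S
whose residue field has transcendence degree r over k, and q_K a prime of S_K lying over q whose
residue field has transcendence degree r_K over K. Then the local ring at q_K of the fibre of S →
S_K over q has dimension dim (S_K)_{q_K} − dim S_q = r − r_K (stated additively), and there is a
prime of S_K over q for which this dimension is zero. -/
theorem result (k S K : Type u) [Field k] [CommRing S] [Algebra k S]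
    [Algebra.FiniteType k S] [Field K] [Algebra k K] (q : Ideal S) [q.IsPrime] (r : ℕ)
    (hr : Algebra.trdeg k q.ResidueField = r) (qK : Ideal (S ⊗[k] K)) [qK.IsPrime] [qK.LiesOver q]
    (rK : ℕ)
    (hrK : letI : Algebra K (S ⊗[k] K) := Algebra.TensorProduct.rightAlgebra
      Algebra.trdeg K qK.ResidueField = rK) :
    ringKrullDim (EGA4.FibLocRing S (S ⊗[k] K) qK) + ringKrullDim (Localization.AtPrime q) =
        ringKrullDim (Localization.AtPrime qK) ∧
      ringKrullDim (EGA4.FibLocRing S (S ⊗[k] K) qK) + (rK : WithBot ℕ∞) = (r : WithBot ℕ∞) ∧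
      ∃ (q' : Ideal (S ⊗[k] K)) (_ : q'.IsPrime), q'.LiesOver q ∧
        ringKrullDim (EGA4.FibLocRing S (S ⊗[k] K) q') = 0 := by
  classical
  letI : Algebra K (S ⊗[k] K) := Algebra.TensorProduct.rightAlgebra
  haveI : IsNoetherianRing S := Algebra.FiniteType.isNoetherianRing k S
  haveI hftK : Algebra.FiniteType K (S ⊗[k] K) := by
    refine (Algebra.FiniteType.baseChange (R := k) (A := S) K).equiv
      (AlgEquiv.ofRingEquiv (f := (Algebra.TensorProduct.comm k K S).toRingEquiv) fun c => ?_)
    show Algebra.TensorProduct.comm k K S (c ⊗ₜ[k] (1 : S)) = (1 : S) ⊗ₜ[k] c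
    rw [Algebra.TensorProduct.comm_tmul]
  haveI : IsNoetherianRing (S ⊗[k] K) := Algebra.FiniteType.isNoetherianRing K _
  haveI : Module.Flat S (S ⊗[k] K) := inferInstance
  let I : Ideal (S ⊗[k] K) := q.map (algebraMap S (S ⊗[k] K))
  have hIle : ∀ (P : Ideal (S ⊗[k] K)) [P.LiesOver q], I ≤ P := fun P _ =>
    Ideal.map_le_iff_le_comap.2 (P.over_def q).le
  have hfib : ∀ (P : Ideal (S ⊗[k] K)) [P.IsPrime] [P.LiesOver q],
      ringKrullDim (EGA4.FibLocRing S (S ⊗[k] K) P) = (P.map (Ideal.Quotient.mk I)).height := by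
    intro P _ _
    haveI : (P.map (Ideal.Quotient.mk I)).IsPrime :=
      Ideal.map_isPrime_of_surjective Ideal.Quotient.mk_surjective (by rw [Ideal.mk_ker]; exact hIle P)
    rw [← ringKrullDim_localization_quotient I P (hIle P)]
    refine ringKrullDim_eq_of_ringEquiv (Ideal.quotEquivOfEq ?_)
    show _ = Ideal.map _ (q.map (algebraMap S (S ⊗[k] K)))
    rw [show P.comap (algebraMap S (S ⊗[k] K)) = q from (P.over_def q).symm, Ideal.map_map,
      ← IsScalarTower.algebraMap_eq]
  haveI hqKI : (qK.map (Ideal.Quotient.mk I)).IsPrime :=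
    Ideal.map_isPrime_of_surjective Ideal.Quotient.mk_surjective (by rw [Ideal.mk_ker]; exact hIle qK)
  refine ⟨?_, ?_, ?_⟩
  · rw [hfib qK, IsLocalization.AtPrime.ringKrullDim_eq_height q (Localization.AtPrime q),
      IsLocalization.AtPrime.ringKrullDim_eq_height qK (Localization.AtPrime qK),
      Ideal.height_eq_height_add_of_liesOver_of_hasGoingDown q qK, add_comm (q.height), WithBot.coe_add]
  · let C := K ⊗[k] (S ⧸ q)
    let π : (S ⊗[k] K) →ₐ[k] C := (Algebra.TensorProduct.comm k (S ⧸ q) K).toAlgHom.comp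
      (Algebra.TensorProduct.map (Ideal.Quotient.mkₐ k q) (AlgHom.id k K))
    have hπsurj : Function.Surjective π :=
      (Algebra.TensorProduct.comm k (S ⧸ q) K).surjective.comp
        (TensorProduct.map_surjective Ideal.Quotient.mk_surjective Function.surjective_id)
    have hker : RingHom.ker π.toRingHom = I := by
      ext z
      rw [RingHom.mem_ker]
      show Algebra.TensorProduct.comm k (S ⧸ q) K (Algebra.TensorProduct.map (Ideal.Quotient.mkₐ k q) (AlgHom.id k K) z) = 0 ↔ _
      rw [map_eq_zero_iff _ (Algebra.TensorProduct.comm k (S ⧸ q) K).injective, ← RingHom.mem_ker,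
        Algebra.TensorProduct.rTensor_ker _ Ideal.Quotient.mk_surjective,
        show RingHom.ker (Ideal.Quotient.mkₐ k q) = q from Ideal.mk_ker]
      rfl
    let e : ((S ⊗[k] K) ⧸ I) ≃+* C :=
      (Ideal.quotEquivOfEq hker.symm).trans (RingHom.quotientKerEquivOfSurjective hπsurj)
    haveI : ((qK.map (Ideal.Quotient.mk I)).map e.toRingHom).IsPrime :=
      Ideal.map_isPrime_of_equiv e
    let x : PrimeSpectrum C := ⟨(qK.map (Ideal.Quotient.mk I)).map e.toRingHom, inferInstance⟩
    have hh : height x = (qK.map (Ideal.Quotient.mk I)).height := by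
      rw [← PrimeSpectrum.height_eq_orderHeight]
      exact RingEquiv.height_map e _
    obtain ⟨s, hs, hst⟩ := exists_dim_eq_trdeg k (S ⧸ q)
    have hsr : s = r := by
      rw [trdeg_residueField, hst] at hr
      exact_mod_cast hr
    have hsum := height_add_coheight_of_minimal (K := K) r
      (fun y hy => hsr ▸ coheight_minimalPrime_baseChange K (S ⧸ q) hs y hy) x
    let π' : (S ⊗[k] K) →ₐ[K] (C ⧸ x.asIdeal) :=
      { (Ideal.Quotient.mk x.asIdeal).comp π.toRingHom with
        commutes' := fun c => by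
          show Ideal.Quotient.mk x.asIdeal (π ((1 : S) ⊗ₜ[k] c)) = algebraMap K (C ⧸ x.asIdeal) c
          have : π ((1 : S) ⊗ₜ[k] c) = c ⊗ₜ[k] (1 : S ⧸ q) := by simp [π]
          rw [this]
          rfl }
    have hπ' : Function.Surjective π' := Ideal.Quotient.mk_surjective.comp hπsurj
    have hkerπ' : RingHom.ker π' = qK := by
      have hxe : x.asIdeal.comap π.toRingHom = qK := by
        have hπe : π.toRingHom = e.toRingHom.comp (Ideal.Quotient.mk I) := RingHom.ext fun z => rfl
        rw [hπe, ← Ideal.comap_comap]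
        show Ideal.comap _ (Ideal.comap e.toRingHom (Ideal.map e.toRingHom _)) = _
        rw [Ideal.comap_map_of_bijective e.toRingHom e.bijective,
          Ideal.comap_map_of_surjective _ Ideal.Quotient.mk_surjective, ← RingHom.ker_eq_comap_bot, Ideal.mk_ker,
          sup_eq_left.2 (hIle qK)]
      rw [← hxe]
      ext z
      exact Ideal.Quotient.eq_zero_iff_mem
    let e' : ((S ⊗[k] K) ⧸ qK) ≃ₐ[K] C ⧸ x.asIdeal :=
      (Ideal.quotientEquivAlgOfEq K hkerπ'.symm).trans (Ideal.quotientKerAlgEquivOfSurjective hπ')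
    haveI : Algebra.FiniteType K (C ⧸ x.asIdeal) := Algebra.FiniteType.of_surjective π' hπ'
    obtain ⟨n, hn, hnt⟩ := exists_dim_eq_trdeg K (C ⧸ x.asIdeal)
    have hnrK : n = rK := by
      have h : Algebra.trdeg K qK.ResidueField = rK := hrK
      have h2 : Algebra.trdeg K ((S ⊗[k] K) ⧸ qK) = n := by
        rw [← hnt]
        exact @AlgEquiv.trdeg_eq K ((S ⊗[k] K) ⧸ qK) _ _ _ (C ⧸ x.asIdeal) _ _ e'
      rw [trdeg_residueField, h2] at h
      exact_mod_cast h
    have hco : (coheight x : WithBot ℕ∞) = (rK : WithBot ℕ∞) := by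
      rw [coheight_eq_ringKrullDim_quotient, hn, hnrK]
    rw [hfib qK, ← hh, ← hco, ← WithBot.coe_add, hsum]
    rfl
  · obtain ⟨P, hP, hPle⟩ := Ideal.exists_minimalPrimes_le (hIle qK)
    haveI : P.IsPrime := hP.1.1
    haveI hPq : P.LiesOver q := ⟨le_antisymm (Ideal.map_le_iff_le_comap.1 hP.1.2) (by
      rw [qK.over_def q]; exact Ideal.comap_mono hPle)⟩
    refine ⟨P, inferInstance, hPq, ?_⟩
    haveI hPI : (P.map (Ideal.Quotient.mk I)).IsPrime :=
      Ideal.map_isPrime_of_surjective Ideal.Quotient.mk_surjective (by rw [Ideal.mk_ker]; exact hIle P)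
    rw [hfib P]
    have hmin : P.map (Ideal.Quotient.mk I) ∈ minimalPrimes ((S ⊗[k] K) ⧸ I) := by
      refine ⟨⟨hPI, bot_le⟩, fun J ⟨hJ, _⟩ hJP => ?_⟩
      haveI := hJ
      have h1 : J.comap (Ideal.Quotient.mk I) ≤ P := by
        refine (Ideal.comap_mono hJP).trans ?_
        rw [Ideal.comap_map_of_surjective _ Ideal.Quotient.mk_surjective, ← RingHom.ker_eq_comap_bot, Ideal.mk_ker,
          sup_eq_left.2 (hIle P)]
      have h2 : P ≤ J.comap (Ideal.Quotient.mk I) := hP.2 ⟨inferInstance, fun z hz => by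
        show Ideal.Quotient.mk I z ∈ J
        rw [Ideal.Quotient.eq_zero_iff_mem.2 hz]; exact zero_mem _⟩ h1
      exact Ideal.map_le_iff_le_comap.2 h2
    rw [Ideal.height_eq_zero_iff.2 hmin]
    rfl


end Groth.Agent.S9180
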