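import Groth.Statements.S7589
import Groth.Agent.S9180
import Groth.Agent.GeomField.Chart
import Mathlib

set_option backward.isDefEq.respectTransparency false
set_option backward.isDefEq.respectTransparency.types false
set_option linter.style.haveILetI false

set_option autoImplicit false
universe u
open CategoryTheory CategoryTheory.Limits AlgebraicGeometry
attribute [local instance] Curv2.stalkAlgebra Curv2.resAlgebra
open Variety

namespace Groth.Agent.S7589

open IsLocalRing TensorProduct GeomField

/-- Residue fields on a chart. -/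
theorem trdeg_residueField_chart (k : Type u) [Field k] (X : Scheme.{u}) [X.Over (Spec (CommRingCat.of k))]
    (c : Chart k X) (P : Spec (CommRingCat.of c.R)) :
    letI : Algebra k (X.residueField (c.emb P)) := Curv2.resAlgebra k X (c.emb P)
    haveI : (PrimeSpectrum.asIdeal (R := c.R) P).IsPrime := P.isPrime
    Algebra.trdeg k (X.residueField (c.emb P)) =
      Algebra.trdeg k (PrimeSpectrum.asIdeal (R := c.R) P).ResidueField := by
  haveI : (PrimeSpectrum.asIdeal (R := c.R) P).IsPrime := P.isPrime
  letI := c.stalkAlg P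
  haveI := c.isLocalization_stalk P
  let e : X.presheaf.stalk (c.emb P) ≃ₐ[c.R] Localization.AtPrime (PrimeSpectrum.asIdeal (R := c.R) P) :=
    IsLocalization.algEquiv (PrimeSpectrum.asIdeal (R := c.R) P).primeCompl _ _
  letI : Algebra k (X.residueField (c.emb P)) := Curv2.resAlgebra k X (c.emb P)
  let r : X.residueField (c.emb P) ≃+* (PrimeSpectrum.asIdeal (R := c.R) P).ResidueField :=
    IsLocalRing.ResidueField.mapEquiv e.toRingEquiv
  refine AlgEquiv.trdeg_eq (AlgEquiv.ofRingEquiv (f := r) fun a => ?_)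
  show IsLocalRing.ResidueField.map _ (IsLocalRing.residue _ (Curv2.stalkMap k X (c.emb P) a)) = _
  rw [IsLocalRing.ResidueField.map_residue, ← c.toStalk_algebraMap P a]
  show IsLocalRing.residue _ (e (algebraMap c.R _ (algebraMap k c.R a))) = _
  rw [e.commutes, ← IsScalarTower.algebraMap_apply k c.R]
  rfl

/-- The chart of the base change, as a chart over the extension field. -/
theorem bcEmb_snd (k : Type u) [Field k] (X : Scheme.{u}) [X.Over (Spec (CommRingCat.of k))]
    (K : Type u) [Field K] [Algebra k K] (c : Chart k X) :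
    c.bcEmb K ≫ Curv2.bcSnd k X K =
      Spec.map (CommRingCat.ofHom (Algebra.TensorProduct.includeRight (R := k) (A := c.R) (B := K)).toRingHom) := by
  rw [Chart.bcEmb, Category.assoc, Category.assoc, Category.assoc,
    pullbackRightPullbackFstIso_inv_snd_snd, pullback.congrHom_inv, pullback.lift_snd, Category.comp_id,
    pullbackSpecIso_inv_snd]
  rfl

theorem dim_eq_add_fibre (A B : Type u) [CommRing A] [IsLocalRing A] [IsNoetherianRing A] [CommRing B]
    [IsLocalRing B] [IsNoetherianRing B] [Algebra A B] [IsLocalHom (algebraMap A B)] [Module.Flat A B] :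
    ringKrullDim B = ringKrullDim A + ringKrullDim (B ⧸ (maximalIdeal A).map (algebraMap A B)) := by
  haveI : (maximalIdeal B).LiesOver (maximalIdeal A) := ⟨(maximalIdeal_comap (algebraMap A B)).symm⟩
  have h := Ideal.height_eq_height_add_of_liesOver_of_hasGoingDown (maximalIdeal A) (maximalIdeal B)
  have hle : (maximalIdeal A).map (algebraMap A B) ≤ maximalIdeal B :=
    Ideal.map_le_iff_le_comap.2 (maximalIdeal_comap (algebraMap A B)).ge
  haveI : Nontrivial (B ⧸ (maximalIdeal A).map (algebraMap A B)) :=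
    Ideal.Quotient.nontrivial_iff.2 (ne_top_of_le_ne_top (maximalIdeal.isMaximal B).ne_top hle)
  haveI : IsLocalRing (B ⧸ (maximalIdeal A).map (algebraMap A B)) :=
    IsLocalRing.of_surjective' (Ideal.Quotient.mk _) Ideal.Quotient.mk_surjective
  have hm : (maximalIdeal B).map (Ideal.Quotient.mk ((maximalIdeal A).map (algebraMap A B))) =
      maximalIdeal (B ⧸ (maximalIdeal A).map (algebraMap A B)) := by
    refine IsLocalRing.eq_maximalIdeal ((Ideal.map_eq_top_or_isMaximal_of_surjective _
      Ideal.Quotient.mk_surjective (maximalIdeal.isMaximal B)).resolve_left fun ht => ?_)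
    have h2 := congrArg (Ideal.comap (Ideal.Quotient.mk ((maximalIdeal A).map (algebraMap A B)))) ht
    rw [Ideal.comap_top, Ideal.comap_map_of_surjective _ Ideal.Quotient.mk_surjective, ← RingHom.ker_eq_comap_bot,
      Ideal.mk_ker, sup_eq_left.2 hle] at h2
    exact (maximalIdeal.isMaximal B).ne_top h2
  rw [hm] at h
  rw [← maximalIdeal_height_eq_ringKrullDim, ← maximalIdeal_height_eq_ringKrullDim,
    ← maximalIdeal_height_eq_ringKrullDim, h]
  rfl

/-- Let X be locally of finite type over a field k, K an extension field of k, y a point of the base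
change X_K and x its image in X; write a = trdeg_k κ(x) and a' = trdeg_K κ(y). Then dim O_{X_K, y} +
a' = dim O_{X, x} + a, and the fibre ring O_{X_K, y} / m_x O_{X_K, y} has Krull dimension a - a' (in
particular a' ≤ a); dimensions in WithBot ℕ∞. -/
theorem result (k : Type u) [Field k] (X : Scheme.{u}) [X.Over (Spec (CommRingCat.of k))] [LocallyOfFiniteType (X ↘ (Spec (CommRingCat.of k)))]
    (K : Type u) [Field K] [Algebra k K] (y : ↥(Curv2.bc k X K)) (a a' : ℕ)
    (ha : Algebra.trdeg k (X.residueField (Curv2.bcFst k X K y)) = a)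
    (ha' : letI : (Curv2.bc k X K).Over (Spec (CommRingCat.of K)) := ⟨Curv2.bcSnd k X K⟩
      Algebra.trdeg K ((Curv2.bc k X K).residueField y) = a') :
    ringKrullDim ((Curv2.bc k X K).presheaf.stalk y) + (a' : WithBot ℕ∞) =
        ringKrullDim (X.presheaf.stalk (Curv2.bcFst k X K y)) + (a : WithBot ℕ∞) ∧
      ringKrullDim (↥((Curv2.bc k X K).presheaf.stalk y) ⧸ Ideal.map ((Curv2.bcFst k X K).stalkMap y).hom (IsLocalRing.maximalIdeal ↥(X.presheaf.stalk (Curv2.bcFst k X K y)))) + (a' : WithBot ℕ∞) =
        (a : WithBot ℕ∞) := by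
  letI : (Curv2.bc k X K).Over (Spec (CommRingCat.of K)) := ⟨Curv2.bcSnd k X K⟩
  obtain ⟨c, P, hP⟩ := exists_chart (k := k) (Curv2.bcFst k X K y)
  obtain ⟨Q, rfl⟩ := c.exists_bcEmb_eq K P y hP.symm
  have hPQ := (c.bcEmb_fst_eq_iff K P Q).1 hP.symm
  haveI : (PrimeSpectrum.asIdeal (R := c.R) P).IsPrime := P.isPrime
  haveI : (PrimeSpectrum.asIdeal (R := c.R ⊗[k] K) Q).IsPrime := Q.isPrime
  haveI : IsLocallyNoetherian X := LocallyOfFiniteType.isLocallyNoetherian (X ↘ (Spec (CommRingCat.of k)))
  haveI : LocallyOfFiniteType (Curv2.bcSnd k X K) := MorphismProperty.pullback_snd _ _ inferInstance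
  haveI : IsLocallyNoetherian (Curv2.bc k X K) := LocallyOfFiniteType.isLocallyNoetherian (Curv2.bcSnd k X K)
  haveI : LocallyOfFiniteType (Spec.map (CommRingCat.ofHom (algebraMap k c.R))) := by
    rw [← c.over_eq]; infer_instance
  haveI : Algebra.FiniteType k c.R := RingHom.finiteType_algebraMap.1
    ((HasRingHomProperty.Spec_iff (P := @LocallyOfFiniteType) (φ := CommRingCat.ofHom (algebraMap k c.R))).1 inferInstance)
  haveI : (PrimeSpectrum.asIdeal (R := c.R ⊗[k] K) Q).LiesOver (PrimeSpectrum.asIdeal (R := c.R) P) := ⟨hPQ.symm⟩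
  have hr : Algebra.trdeg k (PrimeSpectrum.asIdeal (R := c.R) P).ResidueField = a := by
    rw [← trdeg_residueField_chart k X c P, ← ha]
    have key : ∀ (x x' : X), x = x' → @Algebra.trdeg k (X.residueField x) _ _ (Curv2.resAlgebra k X x) =
        @Algebra.trdeg k (X.residueField x') _ _ (Curv2.resAlgebra k X x') := fun x x' h => by subst h; rfl
    exact key _ _ hP
  letI : Algebra K (c.R ⊗[k] K) := Algebra.TensorProduct.rightAlgebra
  let d : Chart K (Curv2.bc k X K) :=
    { R := c.R ⊗[k] K
      emb := c.bcEmb K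
      over_eq := bcEmb_snd k X K c }
  have hrK : Algebra.trdeg K (PrimeSpectrum.asIdeal (R := c.R ⊗[k] K) Q).ResidueField = a' := by
    rw [← ha']
    exact (trdeg_residueField_chart K (Curv2.bc k X K) d Q).symm
  obtain ⟨h1, h2, -⟩ := S9180.result k c.R K _ a hr _ a' hrK
  letI := c.stalkAlg P
  haveI := c.isLocalization_stalk P
  letI := d.stalkAlg Q
  haveI := d.isLocalization_stalk Q
  have eA : ringKrullDim (X.presheaf.stalk (Curv2.bcFst k X K (c.bcEmb K Q))) =
      ringKrullDim (Localization.AtPrime (PrimeSpectrum.asIdeal (R := c.R) P)) := by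
    rw [← hP]
    exact ringKrullDim_eq_of_ringEquiv
      (IsLocalization.algEquiv (PrimeSpectrum.asIdeal (R := c.R) P).primeCompl _ _).toRingEquiv
  have eB : ringKrullDim ((Curv2.bc k X K).presheaf.stalk (c.bcEmb K Q)) =
      ringKrullDim (Localization.AtPrime (PrimeSpectrum.asIdeal (R := c.R ⊗[k] K) Q)) :=
    ringKrullDim_eq_of_ringEquiv
      (IsLocalization.algEquiv (R := d.R) (PrimeSpectrum.asIdeal (R := c.R ⊗[k] K) Q).primeCompl _ _).toRingEquiv
  have hmain : ringKrullDim ((Curv2.bc k X K).presheaf.stalk (c.bcEmb K Q)) + (a' : WithBot ℕ∞) =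
      ringKrullDim (X.presheaf.stalk (Curv2.bcFst k X K (c.bcEmb K Q))) + (a : WithBot ℕ∞) := by
    rw [eA, eB, ← h1, ← h2, add_right_comm, add_comm]
  refine ⟨hmain, ?_⟩
  haveI : Flat (Curv2.bcFst k X K) := by
    haveI : Flat (Spec.map (CommRingCat.ofHom (algebraMap k K))) := by
      rw [Flat.SpecMap_iff]
      exact RingHom.flat_algebraMap_iff.2 inferInstance
    exact MorphismProperty.pullback_fst _ _ inferInstance
  let π := Curv2.bcFst k X K
  let y := c.bcEmb K Q
  letI : Algebra (X.presheaf.stalk (π y)) ((Curv2.bc k X K).presheaf.stalk y) := (π.stalkMap y).hom.toAlgebra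
  haveI : IsLocalHom (algebraMap (X.presheaf.stalk (π y)) ((Curv2.bc k X K).presheaf.stalk y)) :=
    inferInstanceAs (IsLocalHom (π.stalkMap y).hom)
  haveI : Module.Flat (X.presheaf.stalk (π y)) ((Curv2.bc k X K).presheaf.stalk y) := Flat.stalkMap π y
  have hadd := dim_eq_add_fibre (X.presheaf.stalk (π y)) ((Curv2.bc k X K).presheaf.stalk y)
  have hfin : FiniteRingKrullDim (X.presheaf.stalk (π y)) := inferInstance
  rw [hadd, add_assoc] at hmain
  obtain ⟨dA, hdA⟩ : ∃ n : ℕ, ringKrullDim (X.presheaf.stalk (π y)) = n :=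
    ⟨_, (IsLocalRing.maximalIdeal_height_eq_ringKrullDim).symm.trans
      (congrArg _ (ENat.natCast_toNat (Ideal.height_ne_top (maximalIdeal.isMaximal _).ne_top)).symm)⟩
  rw [hdA] at hmain
  exact (ENat.WithBot.add_natCast_cancel).1 (by rwa [add_comm ((dA : WithBot ℕ∞)), add_comm ((dA : WithBot ℕ∞))] at hmain)

end Groth.Agent.S7589
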