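import Groth.Statements.S7593
import Groth.Agent.GeomField.ConnComp

set_option autoImplicit false
universe u
open CategoryTheory CategoryTheory.Limits AlgebraicGeometry
open Variety

namespace Groth.Agent.S7593

/-- Let k̄ be a separable algebraic closure of a field k, X a scheme over k and t a point of X_{k̄} with
image x in X. The connected component of t is mapped onto itself by the action of every
k-automorphism of k̄ if and only if it equals the full inverse image of the connected component T of
x in X and T is geometrically connected over k (the inverse image of T in X_K is connected for every
extension field K of k). -/
theorem result (k : Type u) [Field k] (X : Scheme.{u}) [X.Over (Spec (CommRingCat.of k))] (t : ↥(Curv2.bc k X (SeparableClosure k))) :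
    (∀ σ : SeparableClosure k ≃ₐ[k] SeparableClosure k,
        (Curv2.galAct k X (SeparableClosure k) σ).base '' connectedComponent t = connectedComponent t) ↔
      ((Curv2.bcFst k X (SeparableClosure k)).base ⁻¹' connectedComponent (Curv2.bcFst k X (SeparableClosure k) t) = connectedComponent t ∧
        ∀ (K : Type u) [Field K] [Algebra k K],
          _root_.IsConnected ((Curv2.bcFst k X K).base ⁻¹' connectedComponent (Curv2.bcFst k X (SeparableClosure k) t))) := by
  exact GeomField.connectedComponent_invariant_iff _ t

end Groth.Agent.S7593
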