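import Groth.Statements.S7595
import Groth.Agent.GeomField.Components

set_option autoImplicit false
universe u
open CategoryTheory CategoryTheory.Limits AlgebraicGeometry
open Variety

namespace Groth.Agent.S7595

/-- Let X be a scheme over a field k, K an extension field of k and T an irreducible component of X.
Then each point of the inverse image of T in X_K lies on some irreducible component of X_K that is
contained in this inverse image; so the inverse image of T is the union of the irreducible
components of X_K lying inside it. -/
theorem result (k : Type u) [Field k] (X : Scheme.{u}) [X.Over (Spec (CommRingCat.of k))] (K : Type u) [Field K] [Algebra k K]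
    (T : Set ↥X) (hT : T ∈ irreducibleComponents ↥X) :
    (Curv2.bcFst k X K).base ⁻¹' T = ⋃₀ {Z : Set ↥(Curv2.bc k X K) | Z ∈ irreducibleComponents ↥(Curv2.bc k X K) ∧ Z ⊆ (Curv2.bcFst k X K).base ⁻¹' T} := by
  exact GeomField.preimage_component K hT

end Groth.Agent.S7595
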