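import Groth.Statements.S7597
import Groth.Agent.GeomField.Orbit

set_option autoImplicit false
universe u
open CategoryTheory CategoryTheory.Limits AlgebraicGeometry
open Variety

namespace Groth.Agent.S7597

/-- Let k̄ be a separable algebraic closure of a field k, X a scheme over k and Z an irreducible
component of X_{k̄}. Then Z is mapped onto itself by the action of every k-automorphism of k̄ if and
only if Z is the full inverse image of some irreducible component T of X which is geometrically
irreducible over k (the inverse image of T in X_K is irreducible for every extension field K of k). -/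
theorem result (k : Type u) [Field k] (X : Scheme.{u}) [X.Over (Spec (CommRingCat.of k))]
    (Z : Set ↥(Curv2.bc k X (SeparableClosure k))) (hZ : Z ∈ irreducibleComponents ↥(Curv2.bc k X (SeparableClosure k))) :
    (∀ σ : SeparableClosure k ≃ₐ[k] SeparableClosure k, (Curv2.galAct k X (SeparableClosure k) σ).base '' Z = Z) ↔
      ∃ T ∈ irreducibleComponents ↥X, (Curv2.bcFst k X (SeparableClosure k)).base ⁻¹' T = Z ∧
        ∀ (K : Type u) [Field K] [Algebra k K], IsIrreducible ((Curv2.bcFst k X K).base ⁻¹' T) := by
  exact GeomField.component_invariant_iff _ Z hZ

end Groth.Agent.S7597
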