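import Groth.Statements.S7599
import Groth.Agent.GeomNormal5.Basic

set_option backward.isDefEq.respectTransparency.types false
set_option backward.isDefEq.respectTransparency false
set_option linter.style.haveILetI false
set_option synthInstance.maxHeartbeats 400000
-- import your own Groth.Agent.* helpers here

set_option autoImplicit false
universe u
open CategoryTheory CategoryTheory.Limits AlgebraicGeometry
attribute [local instance] Curv2.stalkAlgebra
open scoped TensorProduct
open Variety

namespace Groth.Agent.S7599

/-- Let X be a scheme over a field k and x a point of X. These conditions are equivalent: (1) the scheme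
X is geometrically normal at x (meaning: for any extension field k' and any point x' of X_{k'} over
x the local ring O_{X_{k'}, x'} is an integrally closed domain); (2) the same for the finite purely
inseparable extensions k' of k only; (3) for every extension field k' of k the ring k' ⊗_k O_{X, x}
is normal (all its localisations at primes are integrally closed domains). Stated as (1) ↔ (2)
together with (2) ↔ (3). -/
theorem result (k : Type u) [Field k] (X : Scheme.{u}) [X.Over (Spec (CommRingCat.of k))] (x : ↥X) :
    ((∀ (k' : Type u) [Field k'] [Algebra k k'] (x' : ↥(Curv2.bc k X k')), Curv2.bcFst k X k' x' = x →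
          IsDomain ↥((Curv2.bc k X k').presheaf.stalk x') ∧ IsIntegrallyClosed ↥((Curv2.bc k X k').presheaf.stalk x')) ↔
      (∀ (k' : Type u) [Field k'] [Algebra k k'] [FiniteDimensional k k'] [IsPurelyInseparable k k'] (x' : ↥(Curv2.bc k X k')), Curv2.bcFst k X k' x' = x →
          IsDomain ↥((Curv2.bc k X k').presheaf.stalk x') ∧ IsIntegrallyClosed ↥((Curv2.bc k X k').presheaf.stalk x'))) ∧
    ((∀ (k' : Type u) [Field k'] [Algebra k k'] [FiniteDimensional k k'] [IsPurelyInseparable k k'] (x' : ↥(Curv2.bc k X k')), Curv2.bcFst k X k' x' = x →
          IsDomain ↥((Curv2.bc k X k').presheaf.stalk x') ∧ IsIntegrallyClosed ↥((Curv2.bc k X k').presheaf.stalk x')) ↔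
      ∀ (k' : Type u) [Field k'] [Algebra k k'], EGA4.IsNormalRing (k' ⊗[k] ↥(X.presheaf.stalk x))) := by
  open Groth.Agent in
  obtain ⟨c, P, hP⟩ := GeomField.exists_chart (k := k) x
  subst hP
  let O : Type u := X.presheaf.stalk (c.emb P)
  letI : Algebra k O := Curv2.stalkAlgebra k X (c.emb P)
  obtain ⟨_, _, _⟩ := c.exists_stalk_algebra P
  refine ⟨⟨fun h k' _ _ _ _ => h k', fun h K _ _ z hz => ?_⟩,
    ⟨fun h K _ _ => ?_, fun h k' _ _ _ _ z hz => GeomNormal5.nl_of_isNormalRing_tensor_stalk c P k' O (h k') z hz⟩⟩
  · refine GeomNormal5.nl_of_isNormalRing_tensor_stalk c P K O ?_ z hz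
    exact CAlgUI.GeomNormal.isNormalRing_tensor (fun k' _ _ hf hp => by
      haveI : FiniteDimensional k k' := hf
      haveI := hp
      exact GeomNormal5.isNormalRing_tensor_stalk c P k' (h k') O) K
  · exact CAlgUI.GeomNormal.isNormalRing_tensor (fun k' _ _ hf hp => by
      haveI : FiniteDimensional k k' := hf
      haveI := hp
      exact GeomNormal5.isNormalRing_tensor_stalk c P k' (h k') O) K

end Groth.Agent.S7599
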