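import Groth.Statements.S7600
import Groth.Agent.Hensel.HenselizationNormal

set_option backward.isDefEq.respectTransparency.types false
set_option backward.isDefEq.respectTransparency false
set_option linter.style.haveILetI false
-- import your own Groth.Agent.* helpers here

set_option autoImplicit false
universe u
open CategoryTheory CategoryTheory.Limits AlgebraicGeometry
open Variety

namespace Groth.Agent.S7600

/-- (2) ⇒ (1): let X be a scheme over a field k, k' an extension field of k and x' a point of X_{k'}
with image x in X. If X_{k'} is geometrically normal at x' over k' (for every extension field k'' of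
k' and every point x'' of (X_{k'})_{k''} over x' the local ring at x'' is an integrally closed
domain), then X is geometrically normal at x over k. -/
theorem result (k : Type u) [Field k] (X : Scheme.{u}) [X.Over (Spec (CommRingCat.of k))] (k' : Type u) [Field k'] [Algebra k k'] (x' : ↥(Curv2.bc k X k'))
    (h : letI : (Curv2.bc k X k').Over (Spec (CommRingCat.of k')) := ⟨Curv2.bcSnd k X k'⟩
      ∀ (k'' : Type u) [Field k''] [Algebra k' k''] (x'' : ↥(Curv2.bc k' (Curv2.bc k X k') k'')), Curv2.bcFst k' (Curv2.bc k X k') k'' x'' = x' →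
          IsDomain ↥((Curv2.bc k' (Curv2.bc k X k') k'').presheaf.stalk x'') ∧ IsIntegrallyClosed ↥((Curv2.bc k' (Curv2.bc k X k') k'').presheaf.stalk x'')) :
    ∀ (K : Type u) [Field K] [Algebra k K] (y : ↥(Curv2.bc k X K)), Curv2.bcFst k X K y = (Curv2.bcFst k X k' x') →
          IsDomain ↥((Curv2.bc k X K).presheaf.stalk y) ∧ IsIntegrallyClosed ↥((Curv2.bc k X K).presheaf.stalk y) := by
  letI : (Curv2.bc k X k').Over (Spec (CommRingCat.of k')) := ⟨Curv2.bcSnd k X k'⟩
  intro K _ _ y hy
  open CategoryTheory.Limits in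
  let τ := Spec.map (CommRingCat.ofHom (algebraMap k K))
  let τ' := Spec.map (CommRingCat.ofHom (algebraMap k k'))
  let fK := Curv2.bcFst k X K
  let f' := Curv2.bcFst k X k'
  obtain ⟨w, hwy, hwx⟩ := Scheme.Pullback.exists_preimage_pullback (f := fK) (g := f') y x' hy
  let q : pullback fK f' ⟶ pullback τ τ' :=
    pullback.lift (pullback.fst fK f' ≫ Curv2.bcSnd k X K) (pullback.snd fK f' ≫ Curv2.bcSnd k X k') (by
      simp only [Category.assoc, τ, τ', ← pullback.condition]
      rw [← Category.assoc, pullback.condition, Category.assoc])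
  let pt := q w
  let L : Type u := (pullback τ τ').residueField pt
  let σ := (pullback τ τ').fromSpecResidueField pt
  letI : Algebra K L := (Spec.preimage (σ ≫ pullback.fst τ τ')).hom.toAlgebra
  letI : Algebra k' L := (Spec.preimage (σ ≫ pullback.snd τ τ')).hom.toAlgebra
  have hK : Spec.map (CommRingCat.ofHom (algebraMap K L)) = σ ≫ pullback.fst τ τ' := Spec.map_preimage _
  have h' : Spec.map (CommRingCat.ofHom (algebraMap k' L)) = σ ≫ pullback.snd τ τ' := Spec.map_preimage _
  obtain ⟨c, hc⟩ : pt ∈ Set.range σ := by rw [Scheme.range_fromSpecResidueField]; rfl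
  obtain ⟨t, htw, -⟩ := Scheme.Pullback.exists_preimage_pullback (f := q) (g := σ) w c hc.symm
  -- the corresponding point of `(X_k')_L`
  let m : pullback q σ ⟶ Curv2.bc k' (Curv2.bc k X k') L :=
    pullback.lift (pullback.fst q σ ≫ pullback.snd fK f') (pullback.snd q σ) (by
      show _ ≫ Curv2.bcSnd k X k' = _ ≫ Spec.map _
      rw [h', ← Category.assoc (pullback.snd q σ) σ, ← pullback.condition, Category.assoc, Category.assoc,
        pullback.lift_snd])
  let ψ : Curv2.bc k' (Curv2.bc k X k') L ⟶ Curv2.bc k X K :=
    pullback.lift (Curv2.bcFst k' (Curv2.bc k X k') L ≫ f')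
      (Curv2.bcSnd k' (Curv2.bc k X k') L ≫ Spec.map (CommRingCat.ofHom (algebraMap K L)))
      (by
        rw [hK, Category.assoc, Category.assoc, Category.assoc, show f' ≫ (X ↘ Spec (CommRingCat.of k)) =
          Curv2.bcSnd k X k' ≫ τ' from pullback.condition, show pullback.fst τ τ' ≫ τ = pullback.snd τ τ' ≫ τ'
          from pullback.condition, ← Category.assoc σ, ← h', ← Category.assoc,
          show Curv2.bcFst k' (Curv2.bc k X k') L ≫ Curv2.bcSnd k X k' = Curv2.bcSnd k' (Curv2.bc k X k') L ≫
            Spec.map (CommRingCat.ofHom (algebraMap k' L)) from pullback.condition, Category.assoc])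
  have hψ : IsPullback ψ (Curv2.bcSnd k' (Curv2.bc k X k') L)
      (Curv2.bcSnd k X K) (Spec.map (CommRingCat.ofHom (algebraMap K L))) := by
    refine IsPullback.of_right ?_ (pullback.lift_snd _ _ _) (IsPullback.of_hasPullback (X ↘ Spec (CommRingCat.of k)) τ)
    rw [pullback.lift_fst, hK, Category.assoc, show pullback.fst τ τ' ≫ τ = pullback.snd τ τ' ≫ τ'
      from pullback.condition, ← Category.assoc, ← h']
    exact (IsPullback.of_hasPullback (Curv2.bcSnd k X k') _).paste_horiz (IsPullback.of_hasPullback _ τ')
  haveI : Module.Free K L := Module.Free.of_divisionRing K L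
  haveI : Module.Flat K L := Module.Flat.of_free
  haveI : Flat (Spec.map (CommRingCat.ofHom (algebraMap K L))) :=
    Flat.SpecMap_iff.2 ((RingHom.flat_algebraMap_iff (R := K) (S := L)).2 ‹_›)
  haveI : Flat ψ := MorphismProperty.of_isPullback hψ.flip inferInstance
  let z := m t
  have hz1 : Curv2.bcFst k' (Curv2.bc k X k') L z = x' := by
    show (m ≫ pullback.fst _ _) t = x'
    rw [pullback.lift_fst, Scheme.Hom.comp_apply, htw, hwx]
  have hz2 : ψ z = y := by
    have e : m ≫ ψ = pullback.fst q σ ≫ pullback.fst fK f' := by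
      apply pullback.hom_ext
      · rw [Category.assoc, pullback.lift_fst, pullback.lift_fst_assoc]
        simp only [Category.assoc]
        rw [show pullback.fst fK f' ≫ pullback.fst _ _ = pullback.snd fK f' ≫ f' from pullback.condition]
      · rw [Category.assoc, pullback.lift_snd, pullback.lift_snd_assoc, hK, ← Category.assoc (pullback.snd q σ),
          ← pullback.condition]
        simp only [Category.assoc]
        rw [show q ≫ pullback.fst τ τ' = pullback.fst fK f' ≫ Curv2.bcSnd k X K from pullback.lift_fst _ _ _]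
    show (m ≫ ψ) t = y
    rw [e, Scheme.Hom.comp_apply, htw, hwy]
  obtain ⟨hd, hn⟩ := h L z hz1
  subst hz2
  letI := (ψ.stalkMap z).hom.toAlgebra
  haveI : IsLocalHom (algebraMap ((Curv2.bc k X K).presheaf.stalk (ψ z))
      ((Curv2.bc k' (Curv2.bc k X k') L).presheaf.stalk z)) :=
    inferInstanceAs (IsLocalHom (ψ.stalkMap z).hom)
  haveI : Module.Flat ((Curv2.bc k X K).presheaf.stalk (ψ z))
      ((Curv2.bc k' (Curv2.bc k X k') L).presheaf.stalk z) := Flat.stalkMap ψ z
  haveI := Module.FaithfullyFlat.of_flat_of_isLocalHom (A := (Curv2.bc k X K).presheaf.stalk (ψ z))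
    (B := (Curv2.bc k' (Curv2.bc k X k') L).presheaf.stalk z)
  haveI := hd
  haveI := hn
  exact Groth.Agent.Hensel.isIntegrallyClosed_of_faithfullyFlat ((Curv2.bc k X K).presheaf.stalk (ψ z))
    ((Curv2.bc k' (Curv2.bc k X k') L).presheaf.stalk z)

end Groth.Agent.S7600
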