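import Groth.Statements.S7601
import Groth.Agent.GeomNormal5.Basic

set_option backward.isDefEq.respectTransparency.types false
set_option backward.isDefEq.respectTransparency false
set_option linter.style.haveILetI false
set_option synthInstance.maxHeartbeats 400000
-- import your own Groth.Agent.* helpers here

set_option autoImplicit false
universe u
open CategoryTheory CategoryTheory.Limits AlgebraicGeometry
open Variety

namespace Groth.Agent.S7601

/-- Let X be a geometrically normal scheme over a field k (X_K is a normal scheme for every extension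
field K of k) and Y a normal scheme over k. Then X ×_k Y is a normal scheme. -/
theorem result (k : Type u) [Field k] (X : Scheme.{u}) [X.Over (Spec (CommRingCat.of k))] (Y : Scheme.{u}) [Y.Over (Spec (CommRingCat.of k))]
    (hX : ∀ (K : Type u) [Field K] [Algebra k K], Pi1.IsNormalScheme (Curv2.bc k X K)) (hY : Pi1.IsNormalScheme Y) :
    Pi1.IsNormalScheme (pullback (X ↘ (Spec (CommRingCat.of k))) (Y ↘ (Spec (CommRingCat.of k)))) := by
  open Groth.Agent CategoryTheory.Limits TensorProduct in
  intro z
  let pX := X ↘ (Spec (CommRingCat.of k))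
  let pY := Y ↘ (Spec (CommRingCat.of k))
  obtain ⟨c, P, hP⟩ := GeomField.exists_chart (k := k) (pullback.fst pX pY z)
  obtain ⟨d, P', hP'⟩ := GeomField.exists_chart (k := k) (pullback.snd pX pY z)
  have hc : EGA4.IsGeomNormal k c.R := fun k' _ _ _ => GeomNormal5.isNormalRing_chart k' (hX k') c
  have hd : EGA4.IsNormalRing d.R := GeomNormal5.isNormalRing_of_openImmersion hY d.emb
  let m : pullback (c.emb ≫ pX) (d.emb ≫ pY) ⟶ pullback pX pY :=
    pullback.map (c.emb ≫ pX) (d.emb ≫ pY) pX pY c.emb d.emb (𝟙 _) (Category.comp_id _) (Category.comp_id _)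
  haveI : IsOpenImmersion m := Scheme.pullback_map_isOpenImmersion _ _ _ _ _ _ _ _ _
  let j : Spec (CommRingCat.of (c.R ⊗[k] d.R)) ⟶ pullback pX pY :=
    (pullbackSpecIso k c.R d.R).inv ≫ (pullback.congrHom c.over_eq d.over_eq).inv ≫ m
  haveI : IsOpenImmersion j := inferInstance
  have hz : z ∈ Set.range m := by
    rw [Scheme.Pullback.range_map]
    exact ⟨⟨P, hP⟩, ⟨P', hP'⟩⟩
  obtain ⟨w, rfl⟩ := hz
  obtain ⟨Q, hQ⟩ : m w ∈ Set.range j := by
    let φ := (pullbackSpecIso k c.R d.R).inv ≫ (pullback.congrHom c.over_eq d.over_eq).inv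
    haveI : IsIso φ := inferInstance
    obtain ⟨w', rfl⟩ := φ.homeomorph.surjective w
    exact ⟨w', rfl⟩
  rw [← hQ]
  exact GeomNormal5.nl_of_isNormalRing (IntBC.normal_of_isGeomNormal c.R d.R hc hd) j Q

end Groth.Agent.S7601
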