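import Groth.Statements.S7602
import Groth.Agent.GeomNormal5.Basic

set_option backward.isDefEq.respectTransparency.types false
set_option backward.isDefEq.respectTransparency false
set_option linter.style.haveILetI false
set_option synthInstance.maxHeartbeats 400000
-- import your own Groth.Agent.* helpers here

set_option autoImplicit false
universe u
open CategoryTheory CategoryTheory.Limits AlgebraicGeometry
open Variety

namespace Groth.Agent.S7602

/-- Let X be a normal scheme over a field k and K an extension field of k which is separable over k in
the sense that Spec K → Spec k is geometrically reduced (K ⊗_k k' reduced for every field k' over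
k). Then X_K is a normal scheme. -/
theorem result (k : Type u) [Field k] (X : Scheme.{u}) [X.Over (Spec (CommRingCat.of k))] (hX : Pi1.IsNormalScheme X)
    (K : Type u) [Field K] [Algebra k K] [GeometricallyReduced (Spec.map (CommRingCat.ofHom (algebraMap k K)))] :
    Pi1.IsNormalScheme (Curv2.bc k X K) := by
  open Groth.Agent CategoryTheory.Limits TensorProduct in
  refine GeomNormal5.isNormalScheme_bc_of_charts K fun c => ?_
  haveI : Algebra.IsGeometricallyReduced k K := by
    rw [Algebra.isGeometricallyReduced_field_iff]
    let τ := Spec.map (CommRingCat.ofHom (algebraMap k K))
    haveI : AlgebraicGeometry.IsReduced (pullback τ (Spec.map (CommRingCat.ofHom (algebraMap k (AlgebraicClosure k))))) :=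
      pullback_of_geometrically (GeometricallyReduced.geometrically_isReduced (f := τ)) (AlgebraicClosure k) _
    haveI : AlgebraicGeometry.IsReduced (Spec (CommRingCat.of (K ⊗[k] AlgebraicClosure k))) :=
      isReduced_of_isOpenImmersion (pullbackSpecIso k K (AlgebraicClosure k)).inv
    haveI : _root_.IsReduced (K ⊗[k] AlgebraicClosure k) :=
      affine_isReduced_iff (CommRingCat.of (K ⊗[k] AlgebraicClosure k)) |>.1 inferInstance
    exact isReduced_of_injective (Algebra.TensorProduct.comm k (AlgebraicClosure k) K)
      (Algebra.TensorProduct.comm k (AlgebraicClosure k) K).injective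
  exact IntBC.normal_of_isGeomNormal K c.R (IntBC.isGeomNormal_of_field K)
    (GeomNormal5.isNormalRing_of_openImmersion hX c.emb)

end Groth.Agent.S7602
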