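import Groth.Statements.S7604
import Groth.Agent.GeomField.Reduced
import Groth.Agent.FBaseLib.Reduced

set_option autoImplicit false
universe u
open CategoryTheory CategoryTheory.Limits AlgebraicGeometry
open Variety

namespace Groth.Agent.S7604


set_option backward.isDefEq.respectTransparency false
set_option backward.isDefEq.respectTransparency.types false

open TensorProduct in
theorem isReduced_stalk_prod {k : Type u} [Field k] {X Y : Scheme.{u}} [X.Over (Spec (CommRingCat.of k))]
    [Y.Over (Spec (CommRingCat.of k))] [IsReduced Y] (x : X) (hx : Curv2.IsGeomReducedAt k X x)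
    (z : ↥(pullback (X ↘ Spec (CommRingCat.of k)) (Y ↘ Spec (CommRingCat.of k))))
    (hz : pullback.fst (X ↘ Spec (CommRingCat.of k)) (Y ↘ Spec (CommRingCat.of k)) z = x) :
    _root_.IsReduced ↥((pullback (X ↘ Spec (CommRingCat.of k)) (Y ↘ Spec (CommRingCat.of k))).presheaf.stalk z) := by
  let f := X ↘ Spec (CommRingCat.of k)
  let g := Y ↘ Spec (CommRingCat.of k)
  obtain ⟨c, P, rfl⟩ := GeomField.exists_chart (k := k) x
  obtain ⟨d, P', hP'⟩ := GeomField.exists_chart (k := k) (pullback.snd f g z)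
  have h1 : c.emb ≫ f = Spec.map (CommRingCat.ofHom (algebraMap k c.R)) := c.over_eq
  have h2 : d.emb ≫ g = Spec.map (CommRingCat.ofHom (algebraMap k d.R)) := d.over_eq
  let e : pullback (Spec.map (CommRingCat.ofHom (algebraMap k c.R))) (Spec.map (CommRingCat.ofHom (algebraMap k d.R))) ⟶
      pullback f g :=
    pullback.map _ _ _ _ c.emb d.emb (𝟙 _) (by simp [h1]) (by simp [h2])
  haveI : IsOpenImmersion e :=
    MorphismProperty.pullbackMap (P := @IsOpenImmersion) (f' := f) (g' := g)
      (inferInstance : IsOpenImmersion c.emb) (inferInstance : IsOpenImmersion d.emb) h1.symm h2.symm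
  obtain ⟨w, rfl⟩ : z ∈ Set.range e := by
    rw [Scheme.Pullback.range_map]
    exact ⟨⟨P, hz.symm⟩, ⟨P', hP'⟩⟩
  let m := (pullbackSpecIso k c.R d.R).inv ≫ e
  obtain ⟨Q, rfl⟩ := (pullbackSpecIso k c.R d.R).inv.homeomorph.surjective w
  have hQ : (PrimeSpectrum.asIdeal (R := c.R ⊗[k] d.R) Q).comap (algebraMap c.R (c.R ⊗[k] d.R)) =
      PrimeSpectrum.asIdeal (R := c.R) P := by
    have h3 : m ≫ pullback.fst f g = Spec.map (CommRingCat.ofHom (algebraMap c.R (c.R ⊗[k] d.R))) ≫ c.emb := by
      simp only [m, e, Category.assoc, pullback.lift_fst]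
      exact pullbackSpecIso_inv_fst'_assoc k c.R d.R c.emb
    have h4 : c.emb (PrimeSpectrum.comap (algebraMap c.R (c.R ⊗[k] d.R)) Q) = c.emb P :=
      (congr($(h3).base Q)).symm.trans hz
    exact congrArg PrimeSpectrum.asIdeal (c.emb.isOpenEmbedding.injective h4)
  letI := Curv2.stalkAlgebra k X (c.emb P)
  obtain ⟨_, _, _⟩ := c.exists_stalk_algebra P
  haveI : Algebra.IsGeometricallyReduced k (X.presheaf.stalk (c.emb P)) :=
    (GeomField.isGeomReducedAt_iff _).1 hx
  haveI : _root_.IsReduced d.R := by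
    haveI : IsReduced (Spec (CommRingCat.of d.R)) := isReduced_of_isOpenImmersion d.emb
    exact (affine_isReduced_iff (CommRingCat.of d.R)).mp inferInstance
  haveI : _root_.IsReduced (X.presheaf.stalk (c.emb P) ⊗[k] d.R) := by
    haveI := FBaseLib.isReduced_tensor (k := k) (X.presheaf.stalk (c.emb P)) d.R
    exact isReduced_of_injective (Algebra.TensorProduct.comm k _ d.R) (Algebra.TensorProduct.comm k _ d.R).injective
  haveI := GeomField.isReduced_atPrime_of_tensor (PrimeSpectrum.asIdeal (R := c.R) P)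
    (X.presheaf.stalk (c.emb P)) d.R (PrimeSpectrum.asIdeal (R := c.R ⊗[k] d.R) Q) hQ
    (Localization.AtPrime (PrimeSpectrum.asIdeal (R := c.R ⊗[k] d.R) Q))
  let e₁ : (Spec.structureSheaf (c.R ⊗[k] d.R)).presheaf.stalk Q ≃ₐ[c.R ⊗[k] d.R]
      Localization.AtPrime (PrimeSpectrum.asIdeal (R := c.R ⊗[k] d.R) Q) :=
    IsLocalization.algEquiv (PrimeSpectrum.asIdeal (R := c.R ⊗[k] d.R) Q).primeCompl _ _
  let E : (pullback f g).presheaf.stalk (m Q) ≃+* Localization.AtPrime (PrimeSpectrum.asIdeal (R := c.R ⊗[k] d.R) Q) :=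
    (asIso (m.stalkMap Q)).commRingCatIsoToRingEquiv.trans e₁.toRingEquiv
  exact isReduced_of_injective E E.injective

/-- Let X and Y be schemes over a field k with Y reduced, and let x be a point of X at which X is
geometrically reduced. Then each point of X ×_k Y mapping to x has a reduced local ring. -/
theorem result (k : Type u) [Field k] (X : Scheme.{u}) [X.Over (Spec (CommRingCat.of k))] (Y : Scheme.{u}) [Y.Over (Spec (CommRingCat.of k))] [IsReduced Y]
    (x : ↥X) (hx : Curv2.IsGeomReducedAt k X x) (z : ↥(pullback (X ↘ (Spec (CommRingCat.of k))) (Y ↘ (Spec (CommRingCat.of k)))))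
    (hz : pullback.fst (X ↘ (Spec (CommRingCat.of k))) (Y ↘ (Spec (CommRingCat.of k))) z = x) :
    _root_.IsReduced ↥((pullback (X ↘ (Spec (CommRingCat.of k))) (Y ↘ (Spec (CommRingCat.of k)))).presheaf.stalk z) := by
  exact isReduced_stalk_prod x hx z hz

end Groth.Agent.S7604
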