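import Groth.Statements.S7605
import Mathlib.AlgebraicGeometry.Noetherian
import Mathlib.RingTheory.EssentialFiniteness
import Mathlib.RingTheory.Flat.FaithfullyFlat.Algebra
import Mathlib.FieldTheory.IntermediateField.Adjoin.Algebra

set_option autoImplicit false
universe u
open CategoryTheory CategoryTheory.Limits AlgebraicGeometry
open Variety

namespace Groth.Agent.S7605

open CategoryTheory CategoryTheory.Limits AlgebraicGeometry TensorProduct in
theorem isNoetherianRing_of_essFiniteType (A B : Type u) [CommRing A] [CommRing B] [Algebra A B]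
    [IsNoetherianRing A] [Algebra.EssFiniteType A B] : IsNoetherianRing B :=
  haveI : IsNoetherianRing (Algebra.EssFiniteType.subalgebra A B) := Algebra.FiniteType.isNoetherianRing A _
  IsLocalization.isNoetherianRing (Algebra.EssFiniteType.submonoid A B) B inferInstance

open CategoryTheory CategoryTheory.Limits AlgebraicGeometry TensorProduct in
theorem isNoetherianRing_tensor_iff (k A K : Type u) [Field k] [CommRing A] [Algebra k A] [Field K] [Algebra k K]
    [Algebra.EssFiniteType k K] : IsNoetherianRing (A ⊗[k] K) ↔ IsNoetherianRing A := by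
  refine ⟨fun h => ?_, fun h => isNoetherianRing_of_essFiniteType A _⟩
  rw [isNoetherianRing_iff, isNoetherian_iff'] at h ⊢
  exact (OrderEmbedding.ofMapLEIff (fun I : Ideal A => I.map (algebraMap A (A ⊗[k] K))) fun I J =>
    ⟨fun h => by
      rw [← Ideal.comap_map_eq_self_of_faithfullyFlat (A := A) (B := A ⊗[k] K) I,
        ← Ideal.comap_map_eq_self_of_faithfullyFlat (A := A) (B := A ⊗[k] K) J]
      exact Ideal.comap_mono h, fun h => Ideal.map_mono h⟩).dual.wellFoundedLT

open CategoryTheory CategoryTheory.Limits AlgebraicGeometry TensorProduct in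
theorem main (k : Type u) [Field k] (X : Scheme.{u}) (s : X ⟶ Spec (CommRingCat.of k))
    (K : Type u) [Field K] [Algebra k K] [Algebra.EssFiniteType k K] :
    IsLocallyNoetherian X ↔
      IsLocallyNoetherian (pullback s (Spec.map (CommRingCat.ofHom (algebraMap k K)))) := by
  rw [isLocallyNoetherian_iff_openCover X.affineCover,
    isLocallyNoetherian_iff_openCover (Scheme.Pullback.openCoverOfLeft X.affineCover s
      (Spec.map (CommRingCat.ofHom (algebraMap k K))))]
  refine forall_congr' fun i => ?_
  let R := X.affineOpenCover.X i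
  obtain ⟨φ, hφ⟩ := Spec.map_surjective (X.affineCover.f i ≫ s : Spec R ⟶ _)
  letI : Algebra k R := φ.hom.toAlgebra
  let e : pullback (X.affineCover.f i ≫ s) (Spec.map (CommRingCat.ofHom (algebraMap k K))) ≅
      Spec (CommRingCat.of (R ⊗[k] K)) :=
    pullback.congrHom (show X.affineCover.f i ≫ s = Spec.map (CommRingCat.ofHom (algebraMap k R)) from hφ.symm) rfl ≪≫
      pullbackSpecIso k R K
  refine isLocallyNoetherian_Spec.trans ((isNoetherianRing_tensor_iff k R K).symm.trans ?_)
  refine (isLocallyNoetherian_Spec (R := CommRingCat.of (R ⊗[k] K))).symm.trans ?_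
  exact ⟨fun h => @isLocallyNoetherian_of_isOpenImmersion _ _ e.hom (@IsOpenImmersion.of_isIso _ _ _ e.isIso_hom) h,
    fun h => @isLocallyNoetherian_of_isOpenImmersion _ _ e.inv (@IsOpenImmersion.of_isIso _ _ _ e.isIso_inv) h⟩


/-- For a scheme X over a field k and a finitely generated field extension k' of k, local Noetherianity
of X is equivalent to local Noetherianity of its base change X_{k'}. -/
theorem result (k : Type u) [Field k] (X : Scheme.{u}) [X.Over (Spec (CommRingCat.of k))] (k' : Type u) [Field k'] [Algebra k k']
    (hfg : (⊤ : IntermediateField k k').FG) :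
    IsLocallyNoetherian X ↔ IsLocallyNoetherian (Curv2.bc k X k') :=
  haveI := IntermediateField.fg_top_iff.1 hfg
  main k X _ k'

end Groth.Agent.S7605
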