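import Groth.Statements.S7606
import Groth.Agent.SmoothReg.GeomRegularAt

set_option autoImplicit false
universe u
open CategoryTheory CategoryTheory.Limits AlgebraicGeometry
attribute [local instance] Curv2.stalkAlgebra
open Variety

namespace Groth.Agent.S7606

/-- Let X be a locally Noetherian scheme over a field k and x a point of X. These conditions are
equivalent: (1) the scheme X is geometrically regular at x; (2) whenever k'/k is finite and purely
inseparable, the local ring O_{X_{k'}, x'} is regular at each point x' of X_{k'} lying over x; (3)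
the local ring O_{X, x} is geometrically regular over k (k' ⊗_k O_{X, x} is a regular ring for every
finite extension k' of k). Stated as (1) ↔ (2) together with (2) ↔ (3). -/
theorem result (k : Type u) [Field k] (X : Scheme.{u}) [X.Over (Spec (CommRingCat.of k))] [IsLocallyNoetherian X] (x : ↥X) :
    (Curv2.IsGeomRegularAt k X x ↔
      ∀ (k' : Type u) [Field k'] [Algebra k k'] [FiniteDimensional k k'] [IsPurelyInseparable k k'] (x' : ↥(Curv2.bc k X k')),
        Curv2.bcFst k X k' x' = x → IsRegularLocalRing ↥((Curv2.bc k X k').presheaf.stalk x')) ∧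
    ((∀ (k' : Type u) [Field k'] [Algebra k k'] [FiniteDimensional k k'] [IsPurelyInseparable k k'] (x' : ↥(Curv2.bc k X k')),
        Curv2.bcFst k X k' x' = x → IsRegularLocalRing ↥((Curv2.bc k X k').presheaf.stalk x')) ↔
      CAlg.IsGeometricallyRegular k ↥(X.presheaf.stalk x)) := by
  refine ⟨⟨fun h k' _ _ _ _ x' hx' => h k' (IntermediateField.fg_top_iff.2 inferInstance) x' hx', fun h =>
    Groth.Agent.SmoothReg.isGeomRegularAt_of_purelyInseparable x h⟩, ⟨fun h K _ _ hfin => ?_, fun h k' _ _ _ _ x' hx' => ?_⟩⟩
  · haveI := hfin
    haveI := Groth.Agent.SmoothReg.isRegularRing_tensor_stalk_of_purelyInseparable x h K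
    exact IsRegularRing.of_ringEquiv (Algebra.TensorProduct.comm k (X.presheaf.stalk x) K).toRingEquiv
  · haveI := h k' inferInstance
    haveI : IsRegularRing (TensorProduct k (X.presheaf.stalk x) k') :=
      IsRegularRing.of_ringEquiv (Algebra.TensorProduct.comm k k' (X.presheaf.stalk x)).toRingEquiv
    exact Groth.Agent.SmoothReg.isRegularLocalRing_of_isRegularRing_tensor_stalk x k' x' hx'

end Groth.Agent.S7606
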