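import Groth.Statements.S7607
import Groth.Agent.RegLoc6.Descent
import Mathlib

set_option autoImplicit false
universe u
open CategoryTheory CategoryTheory.Limits AlgebraicGeometry
open Variety

namespace Groth.Agent.S7607

set_option backward.isDefEq.respectTransparency false
set_option backward.isDefEq.respectTransparency.types false

theorem fg_compositum {k K K' Ω : Type u} [Field k] [Field K] [Field K'] [Field Ω] [Algebra k K] [Algebra k K']
    [Algebra k Ω] (f : K →ₐ[k] Ω) (g : K' →ₐ[k] Ω) (hK : (⊤ : IntermediateField k K).FG)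
    (hK' : (⊤ : IntermediateField k K').FG) : (f.fieldRange ⊔ g.fieldRange).FG := by
  classical
  refine IntermediateField.fg_sup ?_ ?_
  · obtain ⟨t, ht⟩ := hK
    rw [AlgHom.fieldRange_eq_map, ← ht, IntermediateField.adjoin_map, ← Finset.coe_image]
    exact IntermediateField.fg_adjoin_finset _
  · obtain ⟨t, ht⟩ := hK'
    rw [AlgHom.fieldRange_eq_map, ← ht, IntermediateField.adjoin_map, ← Finset.coe_image]
    exact IntermediateField.fg_adjoin_finset _

theorem isNoetherianRing_of_faithfullyFlat (A B : Type u) [CommRing A] [CommRing B] [Algebra A B]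
    [Module.FaithfullyFlat A B] [IsNoetherianRing B] : IsNoetherianRing A := by
  rw [isNoetherianRing_iff, isNoetherian_iff']
  exact StrictMono.wellFoundedGT (f := fun I : Ideal A => I.map (algebraMap A B))
    (Monotone.strictMono_of_injective (fun _ _ h => Ideal.map_mono h) fun I J h => by
      rw [← Ideal.comap_map_eq_self_of_faithfullyFlat (B := B) I,
        ← Ideal.comap_map_eq_self_of_faithfullyFlat (B := B) J]
      exact congrArg (Ideal.comap _) h)

theorem regular_of_flat_stalkMap {Y Z : Scheme.{u}} (f : Z ⟶ Y) [Flat f] (z : Z)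
    (h : IsRegularLocalRing (Z.presheaf.stalk z)) : IsRegularLocalRing (Y.presheaf.stalk (f z)) := by
  letI := (f.stalkMap z).hom.toAlgebra
  haveI : Module.Flat (Y.presheaf.stalk (f z)) (Z.presheaf.stalk z) := Flat.stalkMap f z
  haveI : IsLocalHom (algebraMap (Y.presheaf.stalk (f z)) (Z.presheaf.stalk z)) := f.toLRSHom.prop z
  haveI : Module.FaithfullyFlat (Y.presheaf.stalk (f z)) (Z.presheaf.stalk z) :=
    Module.FaithfullyFlat.of_flat_of_isLocalHom
  haveI := h
  haveI := isNoetherianRing_of_faithfullyFlat (Y.presheaf.stalk (f z)) (Z.presheaf.stalk z)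
  exact RegLoc6.isRegularLocalRing_of_flat (B := Z.presheaf.stalk z)

/-- the tower square of base changes -/
theorem exists_towerMap (k : Type u) [Field k] (X : Scheme.{u}) [X.Over (Spec (CommRingCat.of k))]
    (K L : Type u) [Field K] [Field L] [Algebra k K] [Algebra k L] [Algebra K L] [IsScalarTower k K L] :
    ∃ m : Curv2.bc k X L ⟶ Curv2.bc k X K, m ≫ Curv2.bcFst k X K = Curv2.bcFst k X L ∧
      IsPullback m (Curv2.bcSnd k X L) (Curv2.bcSnd k X K) (Spec.map (CommRingCat.ofHom (algebraMap K L))) := by
  have e : Spec.map (CommRingCat.ofHom (algebraMap K L)) ≫ Spec.map (CommRingCat.ofHom (algebraMap k K)) =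
      Spec.map (CommRingCat.ofHom (algebraMap k L)) := by
    rw [← Spec.map_comp]
    exact congrArg Spec.map (CommRingCat.hom_ext (IsScalarTower.algebraMap_eq k K L).symm)
  refine ⟨pullback.lift (pullback.fst _ _) (pullback.snd _ _ ≫ Spec.map (CommRingCat.ofHom (algebraMap K L)))
    (by rw [Category.assoc, e, pullback.condition]), pullback.lift_fst _ _ _, ?_⟩
  refine IsPullback.of_right ?_ (pullback.lift_snd _ _ _) (IsPullback.of_hasPullback _ _)
  rw [pullback.lift_fst, e]
  exact IsPullback.of_hasPullback _ _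

/-- (2) ⇒ (1): let X be a scheme over a field k, k' a finitely generated field extension of k and x' a
point of X_{k'} with image x in X. If X_{k'} is geometrically regular at x' over k', then X is
geometrically regular at x over k. (The published setting defines geometric regularity only for
locally Noetherian schemes; this row allows any scheme X over k.) -/
theorem result (k : Type u) [Field k] (X : Scheme.{u}) [X.Over (Spec (CommRingCat.of k))] (k' : Type u) [Field k'] [Algebra k k'] (hfg : (⊤ : IntermediateField k k').FG)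
    (x' : ↥(Curv2.bc k X k'))
    (h : @Curv2.IsGeomRegularAt k' _ (Curv2.bc k X k') ⟨Curv2.bcSnd k X k'⟩ x') :
    Curv2.IsGeomRegularAt k X (Curv2.bcFst k X k' x') := by
  intro K _ _ hK x'' hx''
  obtain ⟨z0, hz1, hz2⟩ := Scheme.Pullback.exists_preimage_pullback
    (f := Curv2.bcFst k X k') (g := Curv2.bcFst k X K) x' x'' hx''.symm
  -- a big field over both points
  let Z := pullback (Curv2.bcFst k X k') (Curv2.bcFst k X K)
  let Ω := Z.residueField z0
  let ι : Spec (CommRingCat.of Ω) ⟶ Z := Z.fromSpecResidueField z0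
  obtain ⟨a', ha'⟩ : ∃ a', Spec.map a' = ι ≫ pullback.fst _ _ ≫ Curv2.bcSnd k X k' := ⟨_, Spec.map_preimage _⟩
  obtain ⟨aK, haK⟩ : ∃ aK, Spec.map aK = ι ≫ pullback.snd _ _ ≫ Curv2.bcSnd k X K := ⟨_, Spec.map_preimage _⟩
  letI : Algebra k Ω := (a'.hom.comp (algebraMap k k')).toAlgebra
  have hagree : aK.hom.comp (algebraMap k K) = algebraMap k Ω := by
    have : CommRingCat.ofHom (algebraMap k K) ≫ aK = CommRingCat.ofHom (algebraMap k k') ≫ a' := by
      apply Spec.map_injective
      rw [Spec.map_comp, Spec.map_comp, ha', haK]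
      simp only [Curv2.bcFst, Curv2.bcSnd, Category.assoc]
      rw [← pullback.condition, ← pullback.condition]
      exact congrArg (ι ≫ ·) (by
        have := pullback.condition (f := Curv2.bcFst k X k') (g := Curv2.bcFst k X K) =≫ (X ↘ Spec (CommRingCat.of k))
        simp only [Curv2.bcFst, Category.assoc] at this
        exact this.symm)
    exact congrArg CommRingCat.Hom.hom this
  let i' : k' →ₐ[k] Ω := { a'.hom with commutes' := fun _ => rfl }
  let iK : K →ₐ[k] Ω := { aK.hom with commutes' := fun r => DFunLike.congr_fun hagree r }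
  let L := i'.fieldRange ⊔ iK.fieldRange
  let j' : k' →ₐ[k] L :=
    (IntermediateField.inclusion le_sup_left).comp (i'.rangeRestrict : k' →ₐ[k] i'.fieldRange)
  let jK : K →ₐ[k] L :=
    (IntermediateField.inclusion le_sup_right).comp (iK.rangeRestrict : K →ₐ[k] iK.fieldRange)
  letI : Algebra k' L := j'.toRingHom.toAlgebra
  haveI : IsScalarTower k k' L := .of_algebraMap_eq fun r => (j'.commutes r).symm
  letI : Algebra K L := jK.toRingHom.toAlgebra
  haveI : IsScalarTower k K L := .of_algebraMap_eq fun r => (jK.commutes r).symm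
  haveI : Algebra.EssFiniteType k L := IntermediateField.essFiniteType_iff.2 (fg_compositum i' iK hfg hK)
  have hLfg : (⊤ : IntermediateField k' L).FG :=
    IntermediateField.fg_top_iff.2 (Algebra.EssFiniteType.of_comp k k' L)
  let σ : Spec (CommRingCat.of Ω) ⟶ Spec (CommRingCat.of L) := Spec.map (CommRingCat.ofHom L.val.toRingHom)
  have hσ' : σ ≫ Spec.map (CommRingCat.ofHom (algebraMap k' L)) = Spec.map a' := by
    rw [← Spec.map_comp]; rfl
  have hσK : σ ≫ Spec.map (CommRingCat.ofHom (algebraMap K L)) = Spec.map aK := by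
    rw [← Spec.map_comp]; rfl
  obtain ⟨m', hm', hsq'⟩ := exists_towerMap k X k' L
  obtain ⟨mK, hmK, hsqK⟩ := exists_towerMap k X K L
  let π : Spec (CommRingCat.of Ω) ⟶ Curv2.bc k X L :=
    hsq'.lift (ι ≫ pullback.fst _ _) σ (by rw [hσ', ha', Category.assoc])
  have hπ' : π ≫ m' = ι ≫ pullback.fst _ _ := hsq'.lift_fst _ _ _
  have hπK : π ≫ mK = ι ≫ pullback.snd _ _ := by
    apply pullback.hom_ext
    · calc (π ≫ mK) ≫ Curv2.bcFst k X K = π ≫ m' ≫ Curv2.bcFst k X k' := by rw [Category.assoc, hmK, hm']
        _ = (ι ≫ pullback.fst _ _) ≫ Curv2.bcFst k X k' := by rw [← Category.assoc, hπ']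
        _ = (ι ≫ pullback.snd _ _) ≫ Curv2.bcFst k X K := by
          rw [Category.assoc, Category.assoc, pullback.condition]
    · calc (π ≫ mK) ≫ Curv2.bcSnd k X K = (π ≫ Curv2.bcSnd k X L) ≫ Spec.map (CommRingCat.ofHom (algebraMap K L)) := by
            rw [Category.assoc, hsqK.w, Category.assoc]
        _ = σ ≫ Spec.map (CommRingCat.ofHom (algebraMap K L)) := by rw [hsq'.lift_snd]
        _ = (ι ≫ pullback.snd _ _) ≫ Curv2.bcSnd k X K := by rw [hσK, haK, Category.assoc]
  let pt : Spec (CommRingCat.of Ω) := IsLocalRing.closedPoint Ω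
  have hι : ι pt = z0 := Z.fromSpecResidueField_apply z0 _
  -- regularity upstairs
  letI : (Curv2.bc k X k').Over (Spec (CommRingCat.of k')) := ⟨Curv2.bcSnd k X k'⟩
  let e : Curv2.bc k X L ⟶ Curv2.bc k' (Curv2.bc k X k') L := hsq'.isoPullback.hom
  haveI : IsIso e := inferInstanceAs (IsIso hsq'.isoPullback.hom)
  have hreg : IsRegularLocalRing ((Curv2.bc k' (Curv2.bc k X k') L).presheaf.stalk (e (π pt))) :=
    h L hLfg _ (by
      rw [← Scheme.Hom.comp_apply, show e ≫ Curv2.bcFst k' (Curv2.bc k X k') L = m' from hsq'.isoPullback_hom_fst,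
        ← Scheme.Hom.comp_apply, hπ', Scheme.Hom.comp_apply, hι, hz1])
  haveI := hreg
  have hreg' : IsRegularLocalRing ((Curv2.bc k X L).presheaf.stalk (π pt)) :=
    IsRegularLocalRing.of_ringEquiv (asIso (e.stalkMap (π pt))).commRingCatIsoToRingEquiv
  haveI hKL : Module.Flat K L := @Module.Flat.of_free K L _ _ _ (Module.Free.of_divisionRing K L)
  haveI : Flat (Spec.map (CommRingCat.ofHom (algebraMap K L))) :=
    (HasRingHomProperty.Spec_iff (P := @Flat)).2 (RingHom.flat_algebraMap_iff.2 hKL)
  haveI : Flat mK := MorphismProperty.of_isPullback hsqK.flip inferInstance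
  have := regular_of_flat_stalkMap mK (π pt) hreg'
  rwa [← Scheme.Hom.comp_apply, hπK, Scheme.Hom.comp_apply, hι, hz2] at this


end Groth.Agent.S7607
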