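import Groth.Statements.S7608
import Groth.Agent.CMBCAny.FieldBC

set_option autoImplicit false
universe u
set_option backward.isDefEq.respectTransparency false
open CategoryTheory CategoryTheory.Limits AlgebraicGeometry
open Variety

namespace Groth.Agent.S7608

/-- Let X be a locally Noetherian scheme over a field k, k' a finitely generated field extension of k
and x' a point of X_{k'} with image x in X. Then the local ring O_{X, x} is Cohen-Macaulay if and
only if O_{X_{k'}, x'} is Cohen-Macaulay. -/
theorem result (k : Type u) [Field k] (X : Scheme.{u}) [X.Over (Spec (CommRingCat.of k))] [IsLocallyNoetherian X] (k' : Type u) [Field k'] [Algebra k k']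
    (hfg : (⊤ : IntermediateField k k').FG) (x' : ↥(Curv2.bc k X k')) :
    LocCoh.IsCohenMacaulayLocalRing ↥(X.presheaf.stalk (Curv2.bcFst k X k' x')) ↔
      LocCoh.IsCohenMacaulayLocalRing ↥((Curv2.bc k X k').presheaf.stalk x') := by
  haveI : Algebra.EssFiniteType k k' := IntermediateField.fg_top_iff.1 hfg
  haveI := CMBCAny.isNoetherianRing_stalk_bc (K := k') x'
  exact CMBCAny.isCM_stalk_bc_iff x' fun _ _ => Or.inr inferInstance

end Groth.Agent.S7608
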