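import Groth.Statements.S7610
import Groth.Agent.AlgSpDec.FieldFibre
import Groth.Agent.FibDim.RelDim

set_option backward.isDefEq.respectTransparency.types false
set_option backward.isDefEq.respectTransparency false
set_option linter.style.haveILetI false
-- import your own Groth.Agent.* helpers here

set_option autoImplicit false
universe u
open CategoryTheory CategoryTheory.Limits AlgebraicGeometry
open Variety

namespace Groth.Agent.S7610

/-- Let X and Y be schemes locally of finite type over a field k and z a point of X ×_k Y lying over x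
in X and y in Y. Then dim_z(X ×_k Y) = dim_x X + dim_y Y (local dimensions of the underlying
topological spaces, in WithBot ℕ∞). -/
theorem result (k : Type u) [Field k] (X : Scheme.{u}) [X.Over (Spec (CommRingCat.of k))] [LocallyOfFiniteType (X ↘ (Spec (CommRingCat.of k)))]
    (Y : Scheme.{u}) [Y.Over (Spec (CommRingCat.of k))] [LocallyOfFiniteType (Y ↘ (Spec (CommRingCat.of k)))]
    (z : ↥(pullback (X ↘ (Spec (CommRingCat.of k))) (Y ↘ (Spec (CommRingCat.of k))))) :
    FlatMor.localDim ↥(pullback (X ↘ (Spec (CommRingCat.of k))) (Y ↘ (Spec (CommRingCat.of k)))) z =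
      FlatMor.localDim ↥X (pullback.fst (X ↘ (Spec (CommRingCat.of k))) (Y ↘ (Spec (CommRingCat.of k))) z) +
        FlatMor.localDim ↥Y (pullback.snd (X ↘ (Spec (CommRingCat.of k))) (Y ↘ (Spec (CommRingCat.of k))) z) := by
  open Groth.Agent CategoryTheory.Limits in
  let pX := X ↘ (Spec (CommRingCat.of k))
  let pY := Y ↘ (Spec (CommRingCat.of k))
  haveI : Flat pX := inferInstance
  haveI : Flat (pullback.snd pX pY) := MorphismProperty.pullback_snd _ _ inferInstance
  haveI : LocallyOfFiniteType (pullback.snd pX pY) := MorphismProperty.pullback_snd _ _ inferInstance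
  rw [← AlgSpDec.FieldFibre.fibreDimAt_of_subsingleton (pullback.snd pX pY ≫ pY) z,
    ← AlgSpDec.FieldFibre.fibreDimAt_of_subsingleton pX, ← AlgSpDec.FieldFibre.fibreDimAt_of_subsingleton pY,
    FibDim.fibreDimAt_comp_of_flat (pullback.snd pX pY) pY z (Flat.stalkMap _ z),
    FibDim.fibreDimAt_baseChange (IsPullback.of_hasPullback pX pY) z]

end Groth.Agent.S7610
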