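import Groth.Statements.S7611
import Groth.Agent.BigField.Basic
import Mathlib

set_option autoImplicit false
universe u
open CategoryTheory CategoryTheory.Limits AlgebraicGeometry
attribute [local instance] Curv2.resAlgebra
open Variety

namespace Groth.Agent.S7611

open TensorProduct

set_option backward.isDefEq.respectTransparency false
set_option backward.isDefEq.respectTransparency.types false
set_option linter.style.haveILetI false

theorem surjective_of_isClosedImmersion {R S : CommRingCat.{u}} (φ : R ⟶ S) (h : IsClosedImmersion (Spec.map φ)) :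
    Function.Surjective φ.hom := by
  obtain ⟨I, e, he⟩ := IsClosedImmersion.Spec_iff.1 h
  have h2 : φ = CommRingCat.ofHom (Ideal.Quotient.mk I) ≫ Spec.preimage e.hom := by
    apply Spec.map_injective
    rw [Spec.map_comp, Spec.map_preimage]
    exact he
  rw [h2, CommRingCat.hom_comp, RingHom.coe_comp]
  have hb : Function.Bijective (Spec.preimage e.hom).hom := isIso_SpecMap_iff.1 (by rw [Spec.map_preimage]; infer_instance)
  exact hb.2.comp Ideal.Quotient.mk_surjective

theorem spec_resMap {k : Type u} [Field k] {X : Scheme.{u}} [X.Over (Spec (CommRingCat.of k))] (x : X) :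
    X.fromSpecResidueField x ≫ (X ↘ Spec (CommRingCat.of k)) = Spec.map (CommRingCat.ofHom (Curv2.resMap k X x)) := by
  have h1 : (X ↘ Spec (CommRingCat.of k)) = X.toSpecΓ ≫ Spec.map ((Scheme.ΓSpecIso (.of k)).inv ≫ (X ↘ Spec (CommRingCat.of k)).appTop) := by
    rw [Spec.map_comp, ← Category.assoc, ← Scheme.toSpecΓ_naturality, Category.assoc,
      toSpecΓ_SpecMap_ΓSpecIso_inv, Category.comp_id]
  rw [Scheme.fromSpecResidueField, Category.assoc]
  conv_lhs => rw [h1]
  rw [Scheme.fromSpecStalk_toSpecΓ_assoc, ← Spec.map_comp, ← Spec.map_comp]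
  rfl

/-- An affine chart of a base change. -/
theorem exists_chart {k : Type u} [Field k] {X : Scheme.{u}} [X.Over (Spec (CommRingCat.of k))]
    (K : Type u) [Field K] [Algebra k K] (U : X.affineOpens) :
    ∃ (A : Type u) (_ : CommRing A) (_ : Algebra K A) (g : MvPolynomial (Option Γ(X, U.1)) K →ₐ[K] A)
      (j : Spec (CommRingCat.of A) ⟶ Curv2.bc k X K), Function.Surjective g ∧ IsOpenImmersion j ∧
      j ≫ Curv2.bcSnd k X K = Spec.map (CommRingCat.ofHom (algebraMap K A)) ∧
      Curv2.bcFst k X K ⁻¹' (U.1 : Set X) ⊆ Set.range j := by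
  obtain ⟨φ, hφ⟩ := Spec.map_surjective (U.2.fromSpec ≫ (X ↘ Spec (CommRingCat.of k)))
  letI := φ.hom.toAlgebra
  let e := pullbackSpecIso k K Γ(X, U.1)
  let m : pullback (Spec.map (CommRingCat.ofHom (algebraMap k Γ(X, U.1)))) (Spec.map (CommRingCat.ofHom (algebraMap k K))) ⟶
      Curv2.bc k X K :=
    pullback.map _ _ _ _ U.2.fromSpec (𝟙 _) (𝟙 _) (by rw [Category.comp_id, ← hφ]; rfl)
      (by rw [Category.id_comp, Category.comp_id])
  refine ⟨K ⊗[k] Γ(X, U.1), inferInstance, inferInstance,
    MvPolynomial.aeval (fun o => o.elim 1 fun r => 1 ⊗ₜ r), e.inv ≫ (pullbackSymmetry _ _).hom ≫ m, ?_, ?_, ?_, ?_⟩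
  · intro a
    induction a using TensorProduct.induction_on with
    | zero => exact ⟨0, map_zero _⟩
    | tmul c r =>
      refine ⟨MvPolynomial.C c * MvPolynomial.X (some r), ?_⟩
      simp [Algebra.TensorProduct.algebraMap_apply]
    | add a b ha hb =>
      obtain ⟨p, rfl⟩ := ha
      obtain ⟨q, rfl⟩ := hb
      exact ⟨p + q, map_add _ _ _⟩
  · haveI : IsOpenImmersion m := by infer_instance
    infer_instance
  · rw [Category.assoc, Category.assoc, pullback.lift_snd, Category.comp_id, pullbackSymmetry_hom_comp_snd,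
      pullbackSpecIso_inv_fst]
    rfl
  · intro z hz
    rw [← Category.assoc, Scheme.Hom.comp_base, TopCat.coe_comp, Set.range_comp,
      Set.range_eq_univ.2 (e.inv ≫ (pullbackSymmetry _ _).hom).surjective, Set.image_univ,
      Scheme.Pullback.range_map, Set.mem_inter_iff, Set.mem_preimage]
    refine ⟨?_, ⟨_, rfl⟩⟩
    exact (IsAffineOpen.range_fromSpec U.2).ge hz

/-- Let X be a scheme over a field k. There is a cardinal κ such that for every extension field K of k
of cardinality at least κ, the base change X_K is a Jacobson scheme and for every closed point x of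
X_K the residue field κ(x) is algebraic over K. -/
theorem result (k : Type u) [Field k] (X : Scheme.{u}) [X.Over (Spec (CommRingCat.of k))] :
    ∃ κ : Cardinal.{u}, ∀ (K : Type u) [Field K] [Algebra k K], κ ≤ Cardinal.mk K →
      JacobsonSpace ↥(Curv2.bc k X K) ∧
        ∀ x : ↥(Curv2.bc k X K), IsClosed ({x} : Set ↥(Curv2.bc k X K)) →
          letI : (Curv2.bc k X K).Over (Spec (CommRingCat.of K)) := ⟨Curv2.bcSnd k X K⟩
          Algebra.IsAlgebraic K ((Curv2.bc k X K).residueField x) := by
  refine ⟨Order.succ (⨆ U : X.affineOpens, max (Cardinal.mk (Option Γ(X, U.1))) Cardinal.aleph0), fun K _ _ hK => ?_⟩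
  have hσ : ∀ U : X.affineOpens, max (Cardinal.mk (Option Γ(X, U.1))) Cardinal.aleph0 < Cardinal.mk K := fun U =>
    (le_ciSup (f := fun U : X.affineOpens => max (Cardinal.mk (Option Γ(X, U.1))) Cardinal.aleph0)
      Cardinal.bddAbove_of_small U).trans_lt (Order.succ_le_iff.1 hK)
  have hcov : ∀ z : Curv2.bc k X K, ∃ U : X.affineOpens, Curv2.bcFst k X K z ∈ U.1 := fun z => by
    obtain ⟨_, ⟨U, hU, rfl⟩, hzU, -⟩ :=
      X.isBasis_affineOpens.exists_subset_of_mem_open (Set.mem_univ (Curv2.bcFst k X K z)) isOpen_univ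
    exact ⟨⟨U, hU⟩, hzU⟩
  choose A iA aA g j hg hj hjs hrange using fun U : X.affineOpens => exists_chart (X := X) (k := k) K U
  letI := fun U => iA U
  letI := fun U => aA U
  haveI hj' := hj
  refine ⟨?_, fun x hx => ?_⟩
  · refine (TopologicalSpace.IsOpenCover.jacobsonSpace_iff (U := fun U : X.affineOpens => (j U).opensRange) ?_).2 fun U => ?_
    · rw [TopologicalSpace.IsOpenCover, eq_top_iff]
      intro z _
      obtain ⟨U, hU⟩ := hcov z
      exact TopologicalSpace.Opens.mem_iSup.2 ⟨U, hrange U hU⟩
    · haveI := BigField.isJacobsonRing (hσ U) (g U) (hg U)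
      exact JacobsonSpace.of_isClosedEmbedding (j U).isOpenEmbedding.isEmbedding.toHomeomorph.symm.isClosedEmbedding
  · letI : (Curv2.bc k X K).Over (Spec (CommRingCat.of K)) := ⟨Curv2.bcSnd k X K⟩
    obtain ⟨U, hU⟩ := hcov x
    have hr : Set.range ((Curv2.bc k X K).fromSpecResidueField x) ⊆ Set.range (j U) := by
      rw [Scheme.range_fromSpecResidueField, Set.singleton_subset_iff]
      exact hrange U hU
    let l := IsOpenImmersion.lift (j U) ((Curv2.bc k X K).fromSpecResidueField x) hr
    haveI : IsClosedImmersion ((Curv2.bc k X K).fromSpecResidueField x) := isClosed_singleton_iff_isClosedImmersion.mp hx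
    haveI : IsClosedImmersion (l ≫ j U) := by rw [IsOpenImmersion.lift_fac]; infer_instance
    haveI : IsClosedImmersion l := IsClosedImmersion.of_comp l (j U)
    obtain ⟨ψ, hψ⟩ := Spec.map_surjective l
    have hψs : Function.Surjective ψ.hom := surjective_of_isClosedImmersion ψ (by rw [hψ]; infer_instance)
    have hc : ψ.hom.comp (algebraMap K (A U)) = Curv2.resMap K (Curv2.bc k X K) x := by
      have h1 := spec_resMap (k := K) (X := Curv2.bc k X K) x
      have h2 : Spec.map (CommRingCat.ofHom (algebraMap K (A U)) ≫ ψ) = Spec.map (CommRingCat.ofHom (Curv2.resMap K (Curv2.bc k X K) x)) := by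
        rw [Spec.map_comp, hψ, ← hjs U, ← h1, ← Category.assoc, IsOpenImmersion.lift_fac]
        rfl
      exact congrArg CommRingCat.Hom.hom (Spec.map_injective h2)
    let h : A U →ₐ[K] (Curv2.bc k X K).residueField x := { ψ.hom with commutes' := fun c => RingHom.congr_fun hc c }
    exact BigField.isAlgebraic_of_field_quotient (hσ U) (g U) (hg U) h hψs

end Groth.Agent.S7611
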