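import Groth.Statements.S7612
import Groth.Agent.VarGeom.OpenMap
import Mathlib.AlgebraicGeometry.PullbackCarrier
import Mathlib.AlgebraicGeometry.ResidueField

set_option autoImplicit false
universe u
open CategoryTheory CategoryTheory.Limits AlgebraicGeometry
open Variety

namespace Groth.Agent.S7612


theorem mem_closure_of_fibre {k : Type u} [Field k] {X Y : Scheme.{u}}
    (p : X ⟶ Spec (CommRingCat.of k)) (q : Y ⟶ Spec (CommRingCat.of k))
    (z : ↥(pullback p q)) (B : Set Y) (hz : (pullback.snd p q).base z ∈ closure B) :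
    z ∈ closure ((pullback.fst p q).base ⁻¹' {(pullback.fst p q).base z} ∩
      (pullback.snd p q).base ⁻¹' B) := by
  set a := (pullback.fst p q).base z
  set j := X.fromSpecResidueField a
  let F : pullback (j ≫ p) q ⟶ pullback p q := pullback.map _ _ _ _ j (𝟙 Y) (𝟙 _) (by simp) (by simp)
  have hrange : Set.range F.base = (pullback.fst p q).base ⁻¹' {a} := by
    rw [Scheme.Pullback.range_map]
    simp [j, Scheme.range_fromSpecResidueField]
  obtain ⟨w, hw⟩ : z ∈ Set.range F.base := by rw [hrange]; rfl
  have hsnd : ∀ v, (pullback.snd (j ≫ p) q).base v = (pullback.snd p q).base (F.base v) := by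
    intro v
    have h : pullback.snd (j ≫ p) q = F ≫ pullback.snd p q := by simp [F, pullback.lift_snd]
    exact congrArg (fun φ : _ ⟶ Y => φ.base v) h
  have hwB : w ∈ closure ((pullback.snd (j ≫ p) q).base ⁻¹' B) := by
    rw [← (pullback.snd (j ≫ p) q).isOpenMap.preimage_closure_eq_closure_preimage
      (pullback.snd (j ≫ p) q).base.hom.continuous]
    simpa [hsnd, hw] using hz
  have := image_closure_subset_closure_image F.base.hom.continuous ⟨w, hwB, rfl⟩
  rw [show F.base.hom w = z from hw] at this
  refine closure_mono ?_ this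
  rintro _ ⟨v, hv, rfl⟩
  exact ⟨hrange.le ⟨v, rfl⟩, by simpa [← hsnd] using hv⟩

theorem mem_closure_of_fibre' {k : Type u} [Field k] {X Y : Scheme.{u}}
    (p : X ⟶ Spec (CommRingCat.of k)) (q : Y ⟶ Spec (CommRingCat.of k))
    (z : ↥(pullback p q)) (A : Set X) (hz : (pullback.fst p q).base z ∈ closure A) :
    z ∈ closure ((pullback.snd p q).base ⁻¹' {(pullback.snd p q).base z} ∩
      (pullback.fst p q).base ⁻¹' A) := by
  let e := pullbackSymmetry p q
  have h1 : ∀ v, (pullback.fst q p).base (e.hom.base v) = (pullback.snd p q).base v := fun v =>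
    congrArg (fun φ : _ ⟶ Y => φ.base v) (pullbackSymmetry_hom_comp_fst p q)
  have h2 : ∀ v, (pullback.snd q p).base (e.hom.base v) = (pullback.fst p q).base v := fun v =>
    congrArg (fun φ : _ ⟶ X => φ.base v) (pullbackSymmetry_hom_comp_snd p q)
  have := mem_closure_of_fibre q p (e.hom.base z) A (by rwa [h2])
  rw [h1] at this
  have h3 : z ∈ e.hom.base ⁻¹' closure ((pullback.fst q p).base ⁻¹' {(pullback.snd p q).base z} ∩
      (pullback.snd q p).base ⁻¹' A) := this
  have ho : IsOpenMap e.hom.base := e.hom.homeomorph.isOpenMap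
  rw [ho.preimage_closure_eq_closure_preimage e.hom.base.hom.continuous] at h3
  refine closure_mono ?_ h3
  intro v hv
  exact ⟨(h1 v).symm.trans hv.1, by simpa [h2] using hv.2⟩

/-- Let X and Y be schemes over a field k and A ⊆ X, B ⊆ Y subsets. Inside X ×_k Y, the closure of the
set of points projecting into A and into B equals the set of points projecting into the closure of A
and into the closure of B. -/
theorem result (k : Type u) [Field k] (X : Scheme.{u}) [X.Over (Spec (CommRingCat.of k))] (Y : Scheme.{u}) [Y.Over (Spec (CommRingCat.of k))] (A : Set ↥X) (B : Set ↥Y) :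
    closure ((pullback.fst (X ↘ (Spec (CommRingCat.of k))) (Y ↘ (Spec (CommRingCat.of k)))).base ⁻¹' A ∩ (pullback.snd (X ↘ (Spec (CommRingCat.of k))) (Y ↘ (Spec (CommRingCat.of k)))).base ⁻¹' B) =
      (pullback.fst (X ↘ (Spec (CommRingCat.of k))) (Y ↘ (Spec (CommRingCat.of k)))).base ⁻¹' closure A ∩ (pullback.snd (X ↘ (Spec (CommRingCat.of k))) (Y ↘ (Spec (CommRingCat.of k)))).base ⁻¹' closure B := by
  set p := X ↘ (Spec (CommRingCat.of k))
  set q := Y ↘ (Spec (CommRingCat.of k))
  refine subset_antisymm ?_ fun z hz => ?_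
  · refine Set.subset_inter ?_ ?_
    · exact (closure_mono Set.inter_subset_left).trans
        ((pullback.fst p q).base.hom.continuous.closure_preimage_subset _)
    · exact (closure_mono Set.inter_subset_right).trans
        ((pullback.snd p q).base.hom.continuous.closure_preimage_subset _)
  · have step : (pullback.fst p q).base ⁻¹' A ∩ (pullback.snd p q).base ⁻¹' closure B ⊆
        closure ((pullback.fst p q).base ⁻¹' A ∩ (pullback.snd p q).base ⁻¹' B) := fun (v : ↥(pullback p q)) hv =>
      closure_mono (t := (pullback.fst p q).base ⁻¹' A ∩ (pullback.snd p q).base ⁻¹' B) (fun u hu => ⟨by have : (pullback.fst p q).base u = _ := hu.1; simpa [this] using hv.1, hu.2⟩)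
        (mem_closure_of_fibre p q v B hv.2)
    have h2 := closure_mono (t := (pullback.fst p q).base ⁻¹' A ∩ (pullback.snd p q).base ⁻¹' closure B) (s := (pullback.snd p q).base ⁻¹' {(pullback.snd p q).base z} ∩
      (pullback.fst p q).base ⁻¹' A) (fun v hv => ⟨hv.2, by
        have : (pullback.snd p q).base v = _ := hv.1
        show (pullback.snd p q).base v ∈ closure B
        rw [this]; exact hz.2⟩) (mem_closure_of_fibre' p q z A hz.1)
    exact closure_minimal step isClosed_closure h2

end Groth.Agent.S7612
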