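import Groth.Statements.S7613
import Groth.Agent.S1540
import Groth.Agent.S1549
import Groth.Agent.GrpSchLib.SmoothRegular
import Groth.Agent.RegLoc6.Normal
import Mathlib

set_option backward.isDefEq.respectTransparency false
set_option backward.isDefEq.respectTransparency.types false

set_option autoImplicit false
universe u
open CategoryTheory CategoryTheory.Limits AlgebraicGeometry
open Variety
attribute [local instance] Curv2.resAlgebra

namespace Groth.Agent.S7613

/-- Let X be a variety over a field k (integral, separated and of finite type over k) with a k-rational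
point x (k → κ(x) onto) such that X → Spec k is smooth at x. Then every base change of X to an
extension field of k is an integral scheme (X is geometrically integral over k). -/
theorem result (k : Type u) [Field k] (X : Scheme.{u}) [X.Over (Spec (CommRingCat.of k))] [IsIntegral X] [IsSeparated (X ↘ (Spec (CommRingCat.of k)))]
    [LocallyOfFiniteType (X ↘ (Spec (CommRingCat.of k)))] [QuasiCompact (X ↘ (Spec (CommRingCat.of k)))]
    (x : ↥X) (hx : Function.Surjective (Curv2.resMap k X x)) (hsm : x ∈ (X ↘ (Spec (CommRingCat.of k))).smoothLocus) :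
    GeometricallyIntegral (X ↘ (Spec (CommRingCat.of k))) := by
  let f := X ↘ (Spec (CommRingCat.of k))
  let U := f.smoothLocus
  haveI hU : Smooth (U.ι ≫ f) := by
    rw [← Scheme.Hom.smoothLocus_eq_top_iff, ← Scheme.Hom.preimage_smoothLocus_eq]
    exact top_le_iff.1 fun y _ => y.2
  haveI : GeometricallyReduced f :=
    (S1549.result k X).2 ⟨U, U.2.dense ⟨x, hsm⟩, hU⟩
  haveI hreg : IsRegularLocalRing (X.presheaf.stalk x) :=
    haveI := GrpSchLib.isRegularLocalRing_stalk_of_smooth (U.ι ≫ f) ⟨x, hsm⟩
    IsRegularLocalRing.of_ringEquiv (U.stalkIso ⟨x, hsm⟩).commRingCatIsoToRingEquiv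
  haveI := RegLoc6.isIntegrallyClosed_of_isRegularLocalRing (X.presheaf.stalk x)
  haveI : GeometricallyIrreducible f := by
    refine (S1540.result k X).2 fun a ha => ?_
    letI : Algebra k X.functionField := Curv2.stalkAlgebra k X (genericPoint X)
    obtain ⟨z, rfl⟩ := IsLocalRing.residue_surjective (R := X.presheaf.stalk (genericPoint X)) a
    letI : Algebra k (X.presheaf.stalk x) := Curv2.stalkAlgebra k X x
    haveI : IsScalarTower k (X.presheaf.stalk x) X.functionField := IsScalarTower.of_algebraMap_eq fun c =>
      (CategoryTheory.ConcreteCategory.congr_hom (X.presheaf.germ_stalkSpecializes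
        (U := ⊤) trivial ((genericPoint_spec X).specializes trivial)) (Coh.toGlobal f c)).symm
    obtain ⟨q, hqm, hq0⟩ := ha.isIntegral
    have hz : IsIntegral k (z : X.functionField) :=
      ⟨q, hqm, (IsLocalRing.residue (X.presheaf.stalk (genericPoint X))).injective
        (a₁ := Polynomial.eval₂ (Curv2.stalkMap k X (genericPoint X)) z q) (a₂ := 0) (by
        rw [Polynomial.hom_eval₂, map_zero]
        exact hq0)⟩
    obtain ⟨w, hw⟩ := IsIntegrallyClosed.algebraMap_eq_of_integral (R := X.presheaf.stalk x)
      (K := X.functionField) hz.tower_top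
    have hwi : IsIntegral k w := (isIntegral_algHom_iff (IsScalarTower.toAlgHom k (X.presheaf.stalk x) X.functionField)
      (IsFractionRing.injective (X.presheaf.stalk x) X.functionField)).1 (by
        rw [IsScalarTower.toAlgHom_apply, hw]; exact hz)
    obtain ⟨c, hc⟩ := hx (IsLocalRing.residue _ w)
    haveI : Algebra.IsIntegral k (integralClosure k (X.presheaf.stalk x)) := inferInstance
    have hF : IsField (integralClosure k (X.presheaf.stalk x)) :=
      isField_of_isIntegral_of_isField' (Field.toIsField k)
    have hcw : w = algebraMap k _ c := by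
      by_contra h
      have hne : (⟨w - algebraMap k _ c, hwi.sub isIntegral_algebraMap⟩ : integralClosure k (X.presheaf.stalk x)) ≠ 0 :=
        fun h0 => h (sub_eq_zero.1 (congrArg Subtype.val h0))
      obtain ⟨v, hv⟩ := hF.mul_inv_cancel hne
      have hu : IsUnit (w - algebraMap k (X.presheaf.stalk x) c) :=
        IsUnit.of_mul_eq_one (v : X.presheaf.stalk x) (congrArg Subtype.val hv)
      refine (hu.map (IsLocalRing.residue _)).ne_zero ?_
      rw [map_sub, ← hc, sub_eq_zero]
      rfl
    refine ⟨c, ?_⟩
    rw [← hw, hcw, ← IsScalarTower.algebraMap_apply]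
    rfl
  exact GeometricallyIntegral.of_geometricallyReduced_of_geometricallyIrreducible _

end Groth.Agent.S7613
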