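import Groth.Statements.S7614
import Groth.Agent.ConsPropLib.QuasiAffine
-- import your own Groth.Agent.* helpers here

set_option autoImplicit false
set_option backward.isDefEq.respectTransparency.types false
universe u
open CategoryTheory CategoryTheory.Limits AlgebraicGeometry
open Variety

namespace Groth.Agent.S7614

/-- Let X be a scheme over a field k and K an extension field of k. If X_K is quasi-affine, then X is
quasi-affine. -/
theorem result (k : Type u) [Field k] (X : Scheme.{u}) [X.Over (Spec (CommRingCat.of k))] (K : Type u) [Field K] [Algebra k K]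
    [(Curv2.bc k X K).IsQuasiAffine] : X.IsQuasiAffine := by
  haveI := ConsPropLib.fpqc_qa.{u}
  let p : Spec (CommRingCat.of K) ⟶ Spec (CommRingCat.of k) := Spec.map (CommRingCat.ofHom (algebraMap k K))
  have hp : (@Surjective ⊓ @Flat ⊓ @QuasiCompact : MorphismProperty Scheme.{u}) p :=
    ⟨⟨⟨fun y => ⟨IsLocalRing.closedPoint K, Subsingleton.elim _ _⟩⟩,
      Flat.SpecMap_iff.mpr (RingHom.flat_algebraMap_iff.mpr inferInstance)⟩, inferInstance⟩
  refine (HasAffineProperty.iff_of_isAffine (P := ConsPropLib.qa.{u})
    (f := X ↘ Spec (CommRingCat.of k))).1 ?_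
  refine MorphismProperty.of_pullback_snd_of_descendsAlong
    (Q := (@Surjective ⊓ @Flat ⊓ @QuasiCompact : MorphismProperty Scheme.{u})) hp ?_
  exact (HasAffineProperty.iff_of_isAffine (P := ConsPropLib.qa.{u})).2 ‹_›

end Groth.Agent.S7614
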