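import Groth.Statements.S7615
import Groth.Agent.GeomField.GlobalFunctions
import Groth.Agent.GeomField.Irreducible

set_option autoImplicit false
universe u
open CategoryTheory CategoryTheory.Limits AlgebraicGeometry
open Variety

namespace Groth.Agent.S7615

/-- Let X be a proper variety over a field k (integral, separated, of finite type and proper over k) and
K = H^0(X, O_X), a k-algebra via the structure morphism. Then K is a field, finite over k; K/k is
separable when X is geometrically reduced over k, and purely inseparable when X is geometrically
irreducible over k. -/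
theorem result (k : Type u) [Field k] (X : Scheme.{u}) [X.Over (Spec (CommRingCat.of k))] [IsIntegral X] [IsProper (X ↘ (Spec (CommRingCat.of k)))] :
    letI := ((X ↘ (Spec (CommRingCat.of k))).appTop.hom.comp (Scheme.ΓSpecIso (CommRingCat.of k)).inv.hom : k →+* Γ(X, ⊤)).toAlgebra
    IsField ↑Γ(X, ⊤) ∧ Module.Finite k ↑Γ(X, ⊤) ∧
      (GeometricallyReduced (X ↘ (Spec (CommRingCat.of k))) → Algebra.IsSeparable k ↑Γ(X, ⊤)) ∧
      (GeometricallyIrreducible (X ↘ (Spec (CommRingCat.of k))) → IsPurelyInseparable k ↑Γ(X, ⊤)) := by
  letI := GeomField.globalAlgebra k X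
  refine ⟨GeomField.isField_globalFunctions k X, GeomField.finite_globalFunctions k X,
    fun h => GeomField.globalFunctions_separable k X, fun h => ?_⟩
  letI := Curv2.resAlgebra k X (genericPoint X)
  haveI := GeomField.algebraMap_integral k X
  letI : Field Γ(X, ⊤) := (GeomField.isField_globalFunctions k X).toField
  refine ⟨inferInstance, fun a ha => ?_⟩
  let φ := GeomField.evalHom k X (genericPoint X)
  have hsep : IsSeparable k (φ a) := by
    show (minpoly k (φ a)).Separable
    rw [minpoly.algHom_eq φ φ.toRingHom.injective a]
    exact ha
  obtain ⟨c, hc⟩ := (GeomField.geometricallyIrreducible_iff_separable (k := k) (X := X)).1 h (φ a) hsep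
  exact ⟨c, φ.toRingHom.injective ((φ.commutes c).trans hc)⟩

end Groth.Agent.S7615
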