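import Groth.Statements.S7618
import Mathlib.RingTheory.IntegralClosure.IsIntegralClosure.Basic
import Mathlib.RingTheory.Artinian.Ring
import Mathlib.AlgebraicGeometry.Properties

set_option autoImplicit false
universe u
open CategoryTheory CategoryTheory.Limits AlgebraicGeometry
open Variety

namespace Groth.Agent.S7618


theorem idem_trivial {X : Scheme.{u}} [ConnectedSpace ↥X] (e : Γ(X, ⊤)) (he : e * e = e) :
    e = 0 ∨ e = 1 := by
  have hgerm : ∀ x : X, IsUnit (X.presheaf.germ ⊤ x trivial e) ∨ IsUnit (X.presheaf.germ ⊤ x trivial (1 - e)) :=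
    fun x => by
      rw [map_sub, map_one]
      exact IsLocalRing.isUnit_or_isUnit_one_sub_self _
  have hunit : ∀ e' : Γ(X, ⊤), e' * e' = e' → X.basicOpen e' = ⊤ → e' = 1 := fun e' h htop => by
    have hu : IsUnit e' := X.toRingedSpace.isUnit_of_isUnit_germ ⊤ e' fun x _ =>
      (Scheme.mem_basicOpen_top X e' x).1 (htop.symm ▸ trivial)
    exact hu.mul_left_cancel (h.trans (mul_one e').symm)
  have hdisj : ∀ x : X, x ∈ X.basicOpen e → x ∉ X.basicOpen (1 - e) := fun x h1 h2 => by
    rw [Scheme.mem_basicOpen_top] at h1 h2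
    have h3 := h1.mul h2
    rw [← map_mul, mul_sub, mul_one, he, sub_self, map_zero] at h3
    exact not_isUnit_zero h3
  have hcompl : ((X.basicOpen e : X.Opens) : Set X)ᶜ = (X.basicOpen (1 - e) : X.Opens) := by
    ext x
    refine ⟨fun h => ?_, fun h h' => hdisj x h' h⟩
    rcases hgerm x with hu | hu
    · exact absurd ((Scheme.mem_basicOpen_top X e x).2 hu) h
    · exact (Scheme.mem_basicOpen_top X (1 - e) x).2 hu
  have hclopen : IsClopen ((X.basicOpen e : X.Opens) : Set X) :=
    ⟨isOpen_compl_iff.1 (hcompl ▸ (X.basicOpen (1 - e)).2), (X.basicOpen e).2⟩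
  rcases isClopen_iff.1 hclopen with h | h
  · have h1 : X.basicOpen (1 - e) = ⊤ := by
      apply TopologicalSpace.Opens.ext
      rw [← hcompl, h, Set.compl_empty]
      rfl
    have := hunit (1 - e) (by rw [mul_sub, mul_one, sub_mul, one_mul, he, sub_self, sub_zero]) h1
    exact Or.inl (by rwa [sub_eq_self] at this)
  · exact Or.inr (hunit e he (TopologicalSpace.Opens.ext h))

theorem isField_integral {k B : Type*} [Field k] [CommRing B] [Algebra k B] [IsReduced B] [Nontrivial B]
    (hB : ∀ e : B, e * e = e → e = 0 ∨ e = 1) : IsField ↥(integralClosure k B) := by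
  refine ⟨⟨0, 1, zero_ne_one⟩, mul_comm, fun {a} ha => ?_⟩
  let A := Algebra.adjoin k ({(a : B)} : Set B)
  have : Module.Finite k A := Module.Finite.iff_fg.2 a.2.fg_adjoin_singleton
  have : IsArtinianRing A := IsArtinianRing.of_finite k A
  let α : A := ⟨a, Algebra.self_mem_adjoin_singleton k _⟩
  obtain ⟨n, y, hy⟩ := IsArtinian.exists_pow_succ_smul_dvd α (1 : A)
  have hy' : α ^ n.succ * y = α ^ n := by simpa [smul_eq_mul] using hy
  have key : ∀ j, α ^ n * (α * y) ^ j = α ^ n := by
    intro j
    induction j with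
    | zero => rw [pow_zero, mul_one]
    | succ j ih => rw [pow_succ, ← mul_assoc, ih, ← mul_assoc, ← pow_succ, hy']
  have hidem : (α * y) ^ n * (α * y) ^ n = (α * y) ^ n := by
    calc (α * y) ^ n * (α * y) ^ n = α ^ n * (α * y) ^ n * y ^ n := by ring
      _ = α ^ n * y ^ n := by rw [key n]
      _ = (α * y) ^ n := (mul_pow α y n).symm
  have hyint : (y : B) ∈ integralClosure k B :=
    (Algebra.adjoin_le (show ({(a : B)} : Set B) ⊆ integralClosure k B from
      Set.singleton_subset_iff.2 a.2)) y.2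
  have ha0 : (a : B) ≠ 0 := fun h => ha (Subtype.ext h)
  rcases hB _ (congrArg Subtype.val hidem) with h | h
  · exfalso
    have h' : ((α ^ n * (α * y) ^ n : A) : B) = (α ^ n : A) := by rw [key n]
    have h0 : (((α * y) ^ n : A) : B) = 0 := h
    rw [Subalgebra.coe_mul, h0, mul_zero] at h'
    exact ha0 (IsReduced.eq_zero _ ⟨n, (h'.symm : ((α ^ n : A) : B) = 0)⟩)
  · cases n with
    | zero =>
      have h1 : α * y = 1 := by simpa using hy'
      exact ⟨⟨y, hyint⟩, Subtype.ext (show (a : B) * (y : B) = 1 from congrArg Subtype.val h1)⟩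
    | succ m =>
      have hm : ((α * y) ^ (m + 1) : A) = 1 := Subtype.ext h
      refine ⟨⟨y, hyint⟩ * (a * ⟨y, hyint⟩) ^ m, Subtype.ext ?_⟩
      have h2 := congrArg Subtype.val hm
      rw [pow_succ] at h2
      simp only [Subalgebra.coe_mul, Subalgebra.coe_pow, Subalgebra.coe_one] at h2 ⊢
      rw [← h2]
      show (a : B) * ((y : B) * ((a : B) * y) ^ m) = ((a : B) * y) ^ m * ((a : B) * y)
      ring

/-- Let X be a connected reduced scheme over a field k. Then the global functions on X that are integral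
over k form a field. -/
theorem result (k : Type u) [Field k] (X : Scheme.{u}) [X.Over (Spec (CommRingCat.of k))] [ConnectedSpace ↥X] [IsReduced X] :
    letI := ((X ↘ (Spec (CommRingCat.of k))).appTop.hom.comp (Scheme.ΓSpecIso (CommRingCat.of k)).inv.hom : k →+* Γ(X, ⊤)).toAlgebra
    IsField ↥(integralClosure k ↑Γ(X, ⊤)) := by
  letI : Algebra k Γ(X, ⊤) := ((X ↘ (Spec (CommRingCat.of k))).appTop.hom.comp (Scheme.ΓSpecIso (CommRingCat.of k)).inv.hom : k →+* Γ(X, ⊤)).toAlgebra
  obtain ⟨x⟩ := (inferInstance : Nonempty X)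
  have : Nontrivial Γ(X, ⊤) := (X.presheaf.germ ⊤ x trivial).hom.domain_nontrivial
  exact isField_integral (fun e => idem_trivial e)

end Groth.Agent.S7618
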