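import Groth.Statements.S7619
import Mathlib.RingTheory.Unramified.Locus
import Mathlib.RingTheory.Support
import Mathlib.RingTheory.LocalRing.ResidueField.Basic

set_option autoImplicit false
universe u
open CategoryTheory CategoryTheory.Limits AlgebraicGeometry
open scoped TensorProduct
open Variety

namespace Groth.Agent.S7619

open TensorProduct in
theorem exists_gens (A B : Type u) [CommRing A] [CommRing B] [Algebra A B]
    (q : Ideal B) [q.IsPrime] [Module.Finite B Ω[B⁄A]] (r : ℕ)
    (hr : Module.finrank q.ResidueField (q.ResidueField ⊗[B] Ω[B⁄A]) = r) :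
    ∃ x : Fin r → B, Submodule.span q.ResidueField
      (Set.range fun i => (1 : q.ResidueField) ⊗ₜ[B] KaehlerDifferential.D A B (x i)) = ⊤ := by
  classical
  let v : B → q.ResidueField ⊗[B] Ω[B⁄A] := fun b => 1 ⊗ₜ[B] KaehlerDifferential.D A B b
  have hv : Submodule.span q.ResidueField (Set.range v) = ⊤ := by
    refine eq_top_iff.2 fun z _ => ?_
    induction z using TensorProduct.induction_on with
    | zero => exact zero_mem _
    | add a b ha hb => exact add_mem (ha trivial) (hb trivial)
    | tmul c w =>
      have hw : (1 : q.ResidueField) ⊗ₜ[B] w ∈ Submodule.span q.ResidueField (Set.range v) := by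
        have hw' : w ∈ Submodule.span B (Set.range (KaehlerDifferential.D A B)) := by
          rw [KaehlerDifferential.span_range_derivation]; trivial
        clear * - hw'
        induction hw' using Submodule.span_induction with
        | mem y hy => obtain ⟨b, rfl⟩ := hy; exact Submodule.subset_span ⟨b, rfl⟩
        | zero => rw [TensorProduct.tmul_zero]; exact zero_mem _
        | add a b _ _ ha hb => rw [TensorProduct.tmul_add]; exact add_mem ha hb
        | smul a y _ hy =>
          rw [TensorProduct.tmul_smul, ← algebraMap_smul q.ResidueField a]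
          exact Submodule.smul_mem _ _ hy
      rw [show c ⊗ₜ[B] w = c • ((1 : q.ResidueField) ⊗ₜ[B] w) by rw [TensorProduct.smul_tmul', smul_eq_mul, mul_one]]
      exact Submodule.smul_mem _ c hw
  obtain ⟨b, hb, hbspan, hli⟩ := exists_linearIndependent q.ResidueField (Set.range v)
  rw [hv] at hbspan
  let e := Module.Basis.mk hli (by rw [Subtype.range_coe]; exact hbspan.ge)
  haveI : Fintype b := FiniteDimensional.fintypeBasisIndex e
  have hcard : Fintype.card b = r := by rw [← hr, Module.finrank_eq_card_basis e]
  let g := (Fintype.equivFinOfCardEq hcard).symm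
  choose x hx using fun i => hb (g i).2
  refine ⟨x, ?_⟩
  rw [show (fun i => (1 : q.ResidueField) ⊗ₜ[B] KaehlerDifferential.D A B (x i)) = fun i => ((g i : b) : q.ResidueField ⊗[B] Ω[B⁄A]) from
    funext hx, ← hbspan]
  congr 1
  ext z
  exact ⟨fun ⟨i, hi⟩ => hi ▸ (g i).2, fun hz => ⟨g.symm ⟨z, hz⟩, by simp⟩⟩

open TensorProduct in
theorem main (A B : Type u) [CommRing A] [CommRing B] [Algebra A B] [Algebra.FiniteType A B]
    (q : Ideal B) [q.IsPrime] (r : ℕ) (hr : Module.finrank q.ResidueField (q.ResidueField ⊗[B] Ω[B⁄A]) = r) :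
    ∃ φ : MvPolynomial (Fin r) A →ₐ[A] B,
      letI := φ.toRingHom.toAlgebra
      Algebra.IsUnramifiedAt (MvPolynomial (Fin r) A) q := by
  obtain ⟨x, hx⟩ := exists_gens A B q r hr
  refine ⟨MvPolynomial.aeval x, ?_⟩
  letI : Algebra (MvPolynomial (Fin r) A) B := (MvPolynomial.aeval x : MvPolynomial (Fin r) A →ₐ[A] B).toRingHom.toAlgebra
  haveI : IsScalarTower A (MvPolynomial (Fin r) A) B :=
    IsScalarTower.of_algebraMap_eq fun a => ((MvPolynomial.aeval x).commutes a).symm
  haveI : Algebra.FiniteType (MvPolynomial (Fin r) A) B := Algebra.FiniteType.of_restrictScalars_finiteType A _ _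
  show Algebra.IsUnramifiedAt (MvPolynomial (Fin r) A) q
  let P := MvPolynomial (Fin r) A
  have hsub : Subsingleton (q.ResidueField ⊗[B] Ω[B⁄P]) := by
    let m : Ω[B⁄A] →ₗ[B] Ω[B⁄P] := KaehlerDifferential.map A P B B
    have hm : Function.Surjective m := KaehlerDifferential.map_surjective A P B
    let M := m.baseChange q.ResidueField
    have hM : Function.Surjective M := LinearMap.lTensor_surjective _ hm
    have h0 : M = 0 := LinearMap.ext_on hx (by
      rintro _ ⟨i, rfl⟩
      have : x i = algebraMap P B (MvPolynomial.X i) := (MvPolynomial.aeval_X x i).symm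
      show (1 : q.ResidueField) ⊗ₜ[B] m (KaehlerDifferential.D A B (x i)) = 0
      rw [KaehlerDifferential.map_D, Algebra.algebraMap_self, RingHom.id_apply, this, Derivation.map_algebraMap,
        TensorProduct.tmul_zero])
    refine subsingleton_of_forall_eq 0 fun z => ?_
    obtain ⟨w, rfl⟩ := hM z
    rw [h0]; rfl
  have hq : (⟨q, inferInstance⟩ : PrimeSpectrum B) ∈ Algebra.unramifiedLocus P B := by
    rw [Algebra.unramifiedLocus_eq_compl_support, Set.mem_compl_iff,
      Module.mem_support_iff_nontrivial_residueField_tensorProduct]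
    exact not_nontrivial_iff_subsingleton.2 hsub
  exact hq


/-- Let A → B be a finite type ring map (a finite type morphism of affine schemes), q a prime of B and r
= dim_{κ(q)} Ω_{B/A} ⊗_B κ(q). Then there is an A-algebra homomorphism A[x_1, …, x_r] → B for which
B is unramified over A[x_1, …, x_r] at q. -/
theorem result (A B : Type u) [CommRing A] [CommRing B] [Algebra A B] [Algebra.FiniteType A B]
    (q : Ideal B) [q.IsPrime] (r : ℕ) (hr : Module.finrank q.ResidueField (q.ResidueField ⊗[B] Ω[B⁄A]) = r) :
    ∃ φ : MvPolynomial (Fin r) A →ₐ[A] B,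
      letI := φ.toRingHom.toAlgebra
      Algebra.IsUnramifiedAt (MvPolynomial (Fin r) A) q :=
  main A B q r hr

end Groth.Agent.S7619
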