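import Groth.Statements.S7620
import Groth.Agent.FibDim.Alg
import Mathlib.RingTheory.TensorProduct.MvPolynomial

set_option autoImplicit false
universe u
open CategoryTheory CategoryTheory.Limits AlgebraicGeometry
open scoped TensorProduct
open Variety

namespace Groth.Agent.S7620

/-- Let A → B be a finite type ring map (a finite type morphism of affine schemes X → S), p a prime of A
and suppose the fibre ring κ(p) ⊗_A B has Krull dimension d. Then there is an A-algebra homomorphism
π : A[t_1, …, t_d] → B such that the induced map of fibres κ(p) ⊗_A A[t_1, …, t_d] → κ(p) ⊗_A B is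
finite. -/
theorem result (A B : Type u) [CommRing A] [CommRing B] [Algebra A B] [Algebra.FiniteType A B]
    (p : Ideal A) [p.IsPrime] (d : ℕ) (hd : ringKrullDim (p.ResidueField ⊗[A] B) = d) :
    ∃ π : MvPolynomial (Fin d) A →ₐ[A] B,
      (Algebra.TensorProduct.map (AlgHom.id p.ResidueField p.ResidueField) π).toRingHom.Finite := by
  haveI : Nontrivial (p.ResidueField ⊗[A] B) := by
    by_contra h
    rw [not_nontrivial_iff_subsingleton] at h
    haveI := h
    rw [ringKrullDim_eq_bot_of_subsingleton] at hd
    exact absurd hd.symm (WithBot.natCast_ne_bot d)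
  obtain ⟨P₀⟩ := (inferInstance : Nonempty (PrimeSpectrum (p.ResidueField ⊗[A] B)))
  obtain ⟨P, hP⟩ := (PrimeSpectrum.preimageHomeomorphFiber A B ⟨p, inferInstance⟩).symm P₀
  have hp : (PrimeSpectrum.comap (algebraMap A B) P).asIdeal = p := congrArg PrimeSpectrum.asIdeal hP
  subst hp
  obtain ⟨m, -, b, g, hm, hfin, -, -⟩ := Groth.Agent.FibDim.exists_quasiFinite (A := A) P d hd.le
  obtain rfl : d = m := by
    have := hd.symm.trans hm
    exact_mod_cast this
  refine ⟨MvPolynomial.aeval b, ?_⟩
  refine AlgHom.Finite.of_comp_finite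
    (f := (MvPolynomial.algebraTensorAlgEquiv (σ := Fin d) A (PrimeSpectrum.comap (algebraMap A B) P).asIdeal.ResidueField).symm.toAlgHom)
    (g := Algebra.TensorProduct.map (AlgHom.id (PrimeSpectrum.comap (algebraMap A B) P).asIdeal.ResidueField (PrimeSpectrum.comap (algebraMap A B) P).asIdeal.ResidueField) (MvPolynomial.aeval b)) ?_
  convert hfin using 1
  refine MvPolynomial.algHom_ext fun i => ?_
  show Algebra.TensorProduct.map _ _ ((MvPolynomial.algebraTensorAlgEquiv A
    (PrimeSpectrum.comap (algebraMap A B) P).asIdeal.ResidueField).symm (MvPolynomial.X i)) = _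
  rw [MvPolynomial.algebraTensorAlgEquiv_symm_X, Algebra.TensorProduct.map_tmul]
  erw [MvPolynomial.aeval_X, MvPolynomial.aeval_X]
  rfl

end Groth.Agent.S7620
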