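import Groth.Statements.S7622
import Groth.Agent.RegFS6.SepResidue

set_option autoImplicit false
universe u
open CategoryTheory CategoryTheory.Limits AlgebraicGeometry
open Variety

namespace Groth.Agent.S7622

/-- Let A be a Noetherian local algebra over a field k (such as the local ring of a locally Noetherian
k-scheme at a point) whose residue field κ is a separable extension of k, meaning geometrically
reduced over k; κ need not be algebraic over k. Then there are n ≥ 0, an ideal I of κ[[x_1, …, x_n]]
and a k-algebra isomorphism e from κ[[x_1, …, x_n]]/I onto the completion A^∧ of A at its maximal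
ideal which induces the identity on residue fields: for every a in A, the value of e on the constant
power series whose value is the residue class of a is congruent to the image of a modulo the
extended maximal ideal of A^∧. -/
theorem result (k A : Type u) [Field k] [CommRing A] [Algebra k A]
    [IsNoetherianRing A] [IsLocalRing A] [Algebra.IsGeometricallyReduced k (IsLocalRing.ResidueField A)] :
    ∃ (n : ℕ) (I : Ideal (MvPowerSeries (Fin n) (IsLocalRing.ResidueField A)))
      (e : (MvPowerSeries (Fin n) (IsLocalRing.ResidueField A) ⧸ I) ≃ₐ[k]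
        AdicCompletion (IsLocalRing.maximalIdeal A) A),
      ∀ a : A, e (Ideal.Quotient.mk I (MvPowerSeries.C (IsLocalRing.residue A a))) -
          algebraMap A (AdicCompletion (IsLocalRing.maximalIdeal A) A) a ∈
        (IsLocalRing.maximalIdeal A).map (algebraMap A (AdicCompletion (IsLocalRing.maximalIdeal A) A)) := by
  classical
  let m := IsLocalRing.maximalIdeal A
  let R := AdicCompletion m A
  haveI : IsLocalRing R := FlatLoc6.isLocalRing_cpl A
  haveI : IsNoetherianRing R := FlatLoc6.isNoetherianRing_cpl A
  haveI : IsAdicComplete (IsLocalRing.maximalIdeal R) R := CplFib6.isAdicComplete_cpl A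
  haveI := EGA41Lib.FieldFS.formallySmooth_of_isGeometricallyReduced k (IsLocalRing.ResidueField A)
  have hmax : IsLocalRing.maximalIdeal R = m.map (algebraMap A R) :=
    AdicCompletion.maximalIdeal_eq_map_of_fg (IsNoetherian.noetherian _)
  haveI : IsLocalHom (algebraMap A R) := ((IsLocalRing.local_hom_TFAE _).out 0 2).mpr hmax.ge
  let f := IsLocalRing.ResidueField.map (algebraMap A R)
  have hf : Function.Bijective f := ⟨f.injective, fun y => by
    obtain ⟨x, rfl⟩ := IsLocalRing.residue_surjective y
    obtain ⟨a, ha⟩ := CplFib6.exists_sub_mem A x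
    exact ⟨IsLocalRing.residue A a, ((IsLocalRing.residue_eq_zero_iff _).2 ha |>
      fun h => (sub_eq_zero.mp ((map_sub _ _ _).symm.trans h))).symm⟩⟩
  have hfk : ∀ c : k, f (algebraMap k (IsLocalRing.ResidueField A) c) =
      algebraMap k (IsLocalRing.ResidueField R) c := fun c => by
    rw [IsScalarTower.algebraMap_apply k A (IsLocalRing.ResidueField A),
      IsScalarTower.algebraMap_apply k R (IsLocalRing.ResidueField R), IsScalarTower.algebraMap_apply k A R]
    rfl
  let e₀ : IsLocalRing.ResidueField A ≃ₐ[k] IsLocalRing.ResidueField R :=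
    AlgEquiv.ofRingEquiv (f := RingEquiv.ofBijective f hf) hfk
  haveI : Algebra.FormallySmooth k (R ⧸ IsLocalRing.maximalIdeal R) := Algebra.FormallySmooth.of_equiv e₀
  obtain ⟨σ, hσ⟩ := Algebra.FormallySmooth.exists_mkₐ_comp_eq_of_isAdicComplete
    (AlgHom.id k (R ⧸ IsLocalRing.maximalIdeal R))
  let τ : IsLocalRing.ResidueField A →+* R := σ.toRingHom.comp f
  letI : Algebra (IsLocalRing.ResidueField A) R := τ.toAlgebra
  have hτ : ∀ x, IsLocalRing.residue R (τ x) = f x := fun x => AlgHom.congr_fun hσ (f x)
  have hτk : ∀ c, τ (algebraMap k (IsLocalRing.ResidueField A) c) = algebraMap k R c := fun c => by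
    show σ (f _) = _
    rw [hfk]
    exact σ.commutes c
  haveI : IsScalarTower k (IsLocalRing.ResidueField A) R := .of_algebraMap_eq fun c => (hτk c).symm
  obtain ⟨s, hspan⟩ := IsNoetherian.noetherian (IsLocalRing.maximalIdeal R)
  let b : Fin s.card → R := fun i => (s.equivFin.symm i : R)
  have hrange : Set.range b = (s : Set R) := by
    ext x
    constructor
    · rintro ⟨i, rfl⟩; exact (s.equivFin.symm i).2
    · intro hx; exact ⟨s.equivFin ⟨x, hx⟩, by simp [b]⟩
  have hb : ∀ i, b i ∈ IsLocalRing.maximalIdeal R := fun i =>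
    hspan ▸ Submodule.subset_span (hrange ▸ Set.mem_range_self i)
  obtain ⟨ψ, hψ⟩ := PSLib.exists_algHom (R := IsLocalRing.ResidueField A) (IsLocalRing.maximalIdeal R) b hb
  have hgen : Ideal.span (Set.range fun i => ψ (MvPowerSeries.X i)) = IsLocalRing.maximalIdeal R := by
    rw [funext hψ, hrange]; exact hspan
  have hsurj := PSLib.surjective_of_span (fun y => by
    obtain ⟨x, hx⟩ := hf.2 y
    exact ⟨x, (hτ x).trans hx⟩) ψ (fun i => hψ i ▸ hb i) (hgen.ge.trans le_sup_left)
  let ψk := ψ.restrictScalars k
  refine ⟨s.card, RingHom.ker ψk, Ideal.quotientKerAlgEquivOfSurjective (f := ψk) hsurj, fun a => ?_⟩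
  rw [← hmax]
  show ψ (MvPowerSeries.C (IsLocalRing.residue A a)) - algebraMap A R a ∈ _
  rw [show (MvPowerSeries.C (IsLocalRing.residue A a) : MvPowerSeries (Fin s.card) _) =
      algebraMap (IsLocalRing.ResidueField A) _ (IsLocalRing.residue A a) from rfl, ψ.commutes,
    ← IsLocalRing.residue_eq_zero_iff, map_sub, sub_eq_zero]
  exact hτ _


end Groth.Agent.S7622
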