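import Groth.Statements.S7624
import Groth.Agent.FibDim.Basic
import Groth.Agent.FibDim.Open
import Groth.Agent.FibDim.Comp
import Groth.Agent.VarDim.Top

set_option backward.isDefEq.respectTransparency.types false
set_option backward.isDefEq.respectTransparency false
set_option linter.style.haveILetI false
-- import your own Groth.Agent.* helpers here

set_option autoImplicit false
universe u
open CategoryTheory CategoryTheory.Limits AlgebraicGeometry
open Variety

namespace Groth.Agent.S7624

/-- Let R be a valuation ring, X an irreducible scheme and f : X → Spec R a surjective morphism locally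
of finite type. Then each irreducible component of the fibre of f over the closed point of Spec R
has Krull dimension equal to that of the fibre of f over the generic point. -/
theorem result (R : Type u) [CommRing R] [IsDomain R] [ValuationRing R]
    (X : Scheme.{u}) [IrreducibleSpace ↥X] (f : X ⟶ Spec (CommRingCat.of R)) [LocallyOfFiniteType f] [Surjective f]
    (Z : Set ↥(f.fiber (IsLocalRing.closedPoint R))) (hZ : Z ∈ irreducibleComponents ↥(f.fiber (IsLocalRing.closedPoint R))) :
    topologicalKrullDim ↥Z = topologicalKrullDim ↥(f.fiber (⟨⊥, Ideal.bot_prime⟩ : PrimeSpectrum R)) := by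
  open Groth.Agent in
  let η := genericPoint X
  let g : Spec (CommRingCat.of R) := (⟨⊥, Ideal.bot_prime⟩ : PrimeSpectrum R)
  let c : Spec (CommRingCat.of R) := IsLocalRing.closedPoint R
  have hg : ∀ y : Spec (CommRingCat.of R), g ⤳ y := fun y =>
    (PrimeSpectrum.le_iff_specializes (⟨⊥, Ideal.bot_prime⟩ : PrimeSpectrum R) y).1 bot_le
  have hη : f η = g := by
    obtain ⟨w, hw⟩ := f.surjective g
    have h1 : f η ⤳ g := hw ▸ (genericPoint_specializes w).map f.continuous
    exact (h1.antisymm (hg _)).eq
  obtain ⟨z, hz⟩ : ∃ z, IsGenericPoint z Z := QuasiSober.sober hZ.1 (isClosed_of_mem_irreducibleComponents Z hZ)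
  have hzmax : ∀ w, w ⤳ z → w = z := fun w hw => by
    have h1 : Z ⊆ closure {w} := by
      rw [← hz.def]
      exact closure_minimal (Set.singleton_subset_iff.2 (specializes_iff_mem_closure.1 hw)) isClosed_closure
    have h2 : closure {w} ⊆ Z := hZ.2 isIrreducible_singleton.closure h1
    exact (hw.antisymm (specializes_iff_mem_closure.2 (hz.def.symm ▸ h2 (subset_closure rfl)))).eq
  have hfm : FibDim.FibMax f (f.fiberι c z) := (FibDim.fibMax_fiberι_iff f z).2 hzmax
  obtain ⟨z', -, hz', hfz', hle⟩ := FibDim.exists_rd_ge f (genericPoint_specializes (f.fiberι c z))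
  rw [hfm z' hz' hfz'] at hle
  have hge := FibDim.rd_le_of_valuationRing f (genericPoint_specializes (f.fiberι c z)) (hη ▸ hg)
  rw [show Z = closure {z} from hz.def.symm,
    VarDim.topologicalKrullDim_closure_singleton (k := (Spec (CommRingCat.of R)).residueField c) (f.fiberToSpecResidueField c) z, FibDim.deg_fiber]
  refine le_antisymm ?_ ?_
  · rw [FibDim.topologicalKrullDim_fiber f]
    refine le_iSup_of_le ⟨η, hη⟩ ?_
    exact_mod_cast hge
  · rw [FibDim.topologicalKrullDim_fiber f]
    refine iSup_le fun w => ?_
    exact_mod_cast (FibDim.rd_le_of_specializes f (genericPoint_specializes w.1) (hη.trans w.2.symm)).trans hle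

end Groth.Agent.S7624
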