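import Groth.Statements.S7625
import Groth.Agent.FibDim.Alg

set_option autoImplicit false
set_option linter.style.haveILetI false
universe u
open CategoryTheory CategoryTheory.Limits AlgebraicGeometry
open Variety

namespace Groth.Agent.S7625

/-- Let f : X → S be locally of finite type, x a point of X with image s, V an affine open neighbourhood
of s in S, and suppose dim_x(X_s) = d. Then there is an affine open neighbourhood U of x with f(U) ⊆
V and a factorisation of f|_U as U → 𝔸^d_V → V with U → 𝔸^d_V locally quasi-finite and locally of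
finite type (hence quasi-finite, U being affine). -/
theorem result {X S : Scheme.{u}} (f : X ⟶ S) [LocallyOfFiniteType f] (x : ↥X)
    (V : S.Opens) (hV : IsAffineOpen V) (hxV : f x ∈ V) (d : ℕ) (hd : FlatMor.fibreDimAt f x = d) :
    ∃ (U : X.Opens), IsAffineOpen U ∧ x ∈ U ∧
      ∃ (g : (U : Scheme.{u}) ⟶ (V : Scheme.{u})) (π : (U : Scheme.{u}) ⟶ 𝔸(ULift.{u} (Fin d); (V : Scheme.{u}))),
        g ≫ V.ι = U.ι ≫ f ∧ π ≫ (𝔸(ULift.{u} (Fin d); (V : Scheme.{u})) ↘ (V : Scheme.{u})) = g ∧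
          LocallyQuasiFinite π ∧ LocallyOfFiniteType π := by
  classical
  haveI : IsAffine (V : Scheme.{u}) := hV
  -- an open subset of the fibre of dimension `d`
  obtain ⟨⟨W₀, hxW₀⟩, hW₀⟩ : ∃ W : {W : TopologicalSpace.Opens ↥(f.fiber (f x)) // f.asFiber x ∈ W},
      topologicalKrullDim (W.1 : Set ↥(f.fiber (f x))) = d := by
    haveI : Nonempty {W : TopologicalSpace.Opens ↥(f.fiber (f x)) // f.asFiber x ∈ W} :=
      ⟨⟨⊤, trivial⟩⟩
    have h1 := ciInf_mem (fun W : {W : TopologicalSpace.Opens ↥(f.fiber (f x)) // f.asFiber x ∈ W} =>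
      topologicalKrullDim (W.1 : Set ↥(f.fiber (f x))))
    rw [← hd]
    exact h1
  obtain ⟨W, hW, hWW₀⟩ := (f.fiberι (f x)).isEmbedding.isInducing.isOpen_iff.mp W₀.isOpen
  have hxW : x ∈ W := by
    have : f.asFiber x ∈ f.fiberι (f x) ⁻¹' W := hWW₀.symm ▸ hxW₀
    rw [Set.mem_preimage, Scheme.Hom.fiberι_asFiber] at this
    exact this
  obtain ⟨U, hU, hxU, hUsub⟩ := exists_isAffineOpen_mem_and_subset (x := x)
    (U := ⟨W, hW⟩ ⊓ f ⁻¹ᵁ V) ⟨hxW, hxV⟩
  have hUV : U ≤ f ⁻¹ᵁ V := fun z hz => (hUsub hz).2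
  haveI : IsAffine (U : Scheme.{u}) := hU
  let gU : (U : Scheme.{u}) ⟶ (V : Scheme.{u}) := f.resLE V U hUV
  have hgU : gU ≫ V.ι = U.ι ≫ f := Scheme.Hom.resLE_comp_ι f hUV
  haveI : LocallyOfFiniteType gU := by
    haveI : LocallyOfFiniteType (gU ≫ V.ι) := by rw [hgU]; infer_instance
    exact locallyOfFiniteType_of_comp gU V.ι
  let A := Γ((V : Scheme.{u}), ⊤)
  let B := Γ((U : Scheme.{u}), ⊤)
  letI : Algebra A B := gU.appTop.hom.toAlgebra
  haveI : Algebra.FiniteType A B :=
    HasRingHomProperty.appTop (P := @LocallyOfFiniteType) gU inferInstance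
  let q : PrimeSpectrum B → X := fun R => U.ι ((U : Scheme.{u}).isoSpec.inv R)
  have hq : Topology.IsEmbedding q :=
    U.ι.isOpenEmbedding.isEmbedding.comp (U : Scheme.{u}).isoSpec.inv.homeomorph.isEmbedding
  have hfq : ∀ R, f (q R) =
      V.ι ((V : Scheme.{u}).isoSpec.inv (PrimeSpectrum.comap (algebraMap A B) R)) := fun R => by
    show (U.ι ≫ f) ((U : Scheme.{u}).isoSpec.inv R) = _
    rw [← hgU]
    show ((U : Scheme.{u}).isoSpec.inv ≫ gU ≫ V.ι) R = _
    rw [← Scheme.isoSpec_inv_naturality_assoc]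
    rfl
  obtain ⟨P, hP⟩ : x ∈ Set.range q :=
    ⟨(U : Scheme.{u}).isoSpec.hom ⟨x, hxU⟩, by
      show U.ι (((U : Scheme.{u}).isoSpec.hom ≫ (U : Scheme.{u}).isoSpec.inv) ⟨x, hxU⟩) = x
      rw [Iso.hom_inv_id]; rfl⟩
  have hdim : ringKrullDim ((PrimeSpectrum.comap (algebraMap A B) P).asIdeal.Fiber B) ≤ d := by
    rw [← FibDim.topologicalKrullDim_fib, ← hW₀]
    have hrange : ∀ R : ↥(FibDim.fib (B := B) (PrimeSpectrum.comap (algebraMap A B) P)),
        q R.1 ∈ Set.range (f.fiberι (f x)) := fun R => by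
      have hR : PrimeSpectrum.comap (algebraMap A B) R.1 = PrimeSpectrum.comap (algebraMap A B) P := R.2
      rw [Scheme.Hom.range_fiberι, Set.mem_preimage, Set.mem_singleton_iff, hfq, hR, ← hfq, hP]
    choose z hz using hrange
    have hzW : ∀ R, z R ∈ W₀ := fun R => by
      show z R ∈ (W₀ : Set ↥(f.fiber (f x)))
      rw [← hWW₀, Set.mem_preimage, hz]
      exact (hUsub ((U : Scheme.{u}).isoSpec.inv R.1).2).1
    refine Topology.IsInducing.topologicalKrullDim_le (f := fun R => (⟨z R, hzW R⟩ : ↥(W₀ : Set ↥(f.fiber (f x))))) ?_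
    refine Topology.IsInducing.codRestrict ?_ _
    have hzc : Continuous z := (f.fiberι (f x)).isEmbedding.continuous_iff.mpr (by
      rw [show (f.fiberι (f x)) ∘ z = q ∘ Subtype.val from funext hz]
      exact hq.continuous.comp continuous_subtype_val)
    refine Topology.IsInducing.of_comp hzc (f.fiberι (f x)).continuous ?_
    rw [show (f.fiberι (f x)) ∘ z = q ∘ Subtype.val from funext hz]
    exact hq.isInducing.comp Topology.IsInducing.subtypeVal
  obtain ⟨m, hmd, b, e, -, -, he, hQF⟩ := FibDim.exists_quasiFinite P d hdim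
  -- pad to `d` variables
  let C := Localization.Away e
  let ι : Fin m → ULift.{u} (Fin d) := fun i => ⟨Fin.castLE hmd i⟩
  let bd : ULift.{u} (Fin d) → B := fun i => if h : i.down.val < m then b ⟨i.down.val, h⟩ else 0
  let φd : MvPolynomial (ULift.{u} (Fin d)) A →+* C :=
    (algebraMap B C).comp (MvPolynomial.aeval (R := A) bd).toRingHom
  have hφd : φd.QuasiFinite := by
    letI := φd.toAlgebra
    letI := (MvPolynomial.aeval (R := A) b).toRingHom.toAlgebra
    letI : Algebra (MvPolynomial (Fin m) A) (MvPolynomial (ULift.{u} (Fin d)) A) :=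
      (MvPolynomial.rename ι).toRingHom.toAlgebra
    haveI : IsScalarTower (MvPolynomial (Fin m) A) (MvPolynomial (ULift.{u} (Fin d)) A) C := by
      refine IsScalarTower.of_algebraMap_eq fun G => ?_
      show algebraMap B C (MvPolynomial.aeval b G) = φd (MvPolynomial.rename ι G)
      show _ = algebraMap B C (MvPolynomial.aeval bd (MvPolynomial.rename ι G))
      rw [MvPolynomial.aeval_rename]
      congr
      funext i
      simp [bd, ι]
    haveI := hQF
    exact Algebra.QuasiFinite.of_restrictScalars (MvPolynomial (Fin m) A) _ _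
  let j : Spec (CommRingCat.of C) ⟶ X :=
    Spec.map (CommRingCat.ofHom (algebraMap B C)) ≫ (U : Scheme.{u}).isoSpec.inv ≫ U.ι
  haveI : IsOpenImmersion (Spec.map (CommRingCat.ofHom (algebraMap B C))) :=
    IsOpenImmersion.of_isLocalization e
  haveI : IsOpenImmersion j := inferInstance
  let U' : X.Opens := j.opensRange
  let g' : (U' : Scheme.{u}) ⟶ (V : Scheme.{u}) :=
    j.isoOpensRange.inv ≫ Spec.map (CommRingCat.ofHom (algebraMap A C)) ≫ (V : Scheme.{u}).isoSpec.inv
  let π : (U' : Scheme.{u}) ⟶ 𝔸(ULift.{u} (Fin d); (V : Scheme.{u})) :=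
    j.isoOpensRange.inv ≫ Spec.map (CommRingCat.ofHom φd) ≫ (AffineSpace.isoOfIsAffine _ _).inv
  have hg' : g' ≫ V.ι = U'.ι ≫ f := by
    have h1 : U'.ι = j.isoOpensRange.inv ≫ j := by simp [U']
    rw [h1]
    simp only [g', j, Category.assoc, ← hgU]
    rw [← Scheme.isoSpec_inv_naturality_assoc, ← Spec.map_comp_assoc]
    rfl
  have hπ : π ≫ (𝔸(ULift.{u} (Fin d); (V : Scheme.{u})) ↘ (V : Scheme.{u})) = g' := by
    simp only [π, g', Category.assoc, AffineSpace.isoOfIsAffine_inv_over]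
    rw [← Spec.map_comp_assoc]
    congr 2
    refine congrArg Spec.map ?_
    ext a
    show algebraMap B C (MvPolynomial.aeval bd (MvPolynomial.C a)) = algebraMap A C a
    rw [MvPolynomial.aeval_C, ← IsScalarTower.algebraMap_apply]
  refine ⟨U', isAffineOpen_opensRange j, ?_, g', π, hg', hπ, ?_, ?_⟩
  · obtain ⟨R, hR⟩ : P ∈ Set.range (PrimeSpectrum.comap (algebraMap B C)) := by
      rw [PrimeSpectrum.localization_away_comap_range C e]
      exact he
    refine ⟨R, ?_⟩
    rw [← hP, ← hR]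
    rfl
  · haveI : LocallyQuasiFinite (Spec.map (CommRingCat.ofHom φd)) :=
      (HasRingHomProperty.Spec_iff (P := @LocallyQuasiFinite)).mpr hφd
    infer_instance
  · haveI : LocallyOfFiniteType (g' ≫ V.ι) := by rw [hg']; infer_instance
    haveI : LocallyOfFiniteType g' := locallyOfFiniteType_of_comp g' V.ι
    haveI : LocallyOfFiniteType (π ≫ (𝔸(ULift.{u} (Fin d); (V : Scheme.{u})) ↘ (V : Scheme.{u}))) := by
      rw [hπ]; infer_instance
    exact locallyOfFiniteType_of_comp π (𝔸(ULift.{u} (Fin d); (V : Scheme.{u})) ↘ (V : Scheme.{u}))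

end Groth.Agent.S7625
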