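import Groth.Statements.S7626
import Groth.Agent.DecShLib.Sect
import Groth.Agent.Lib.AmpleEmbed
import Groth.Agent.RelVA16.Coord
import Groth.Agent.RelVA16.PnBridge
import Groth.Agent.GeomField.Fibre
import Mathlib

set_option backward.isDefEq.respectTransparency false
set_option backward.isDefEq.respectTransparency.types false
set_option linter.style.haveILetI false
set_option maxHeartbeats 1600000


set_option autoImplicit false
universe u
open CategoryTheory CategoryTheory.Limits AlgebraicGeometry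
open Variety

namespace Groth.Agent.S7626

open TopologicalSpace Opposite Groth.Agent Groth.Agent.H23

variable {X : Scheme.{u}} {N : X.Modules}

/-- Over an infinite field some combination of sections avoids finitely many points, and vanishes where all do. -/
theorem exists_avoid_section (k : Type u) [Field k] [Infinite k] [X.Over (Spec (CommRingCat.of k))]
    (hN : PicF.IsInvertible N) {κ : Type u} [Finite κ] (σ : κ → (Coh.structureModule X ⟶ N))
    {S : Set X} (hcov : ∀ x ∈ S, ∃ j, x ∈ CohB1.genLocus N (σ j)) (hS : S.Finite) :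
    ∃ s : Coh.structureModule X ⟶ N, (∀ x ∈ S, x ∈ CohB1.genLocus N s) ∧
      ∀ x, (∀ j, x ∉ CohB1.genLocus N (σ j)) → x ∉ CohB1.genLocus N s := by
  classical
  haveI := Fintype.ofFinite κ
  haveI := hS.to_subtype
  choose U hxU e he using fun x : X => InvX.exists_frame hN x
  choose g hg using fun (x : X) (j : κ) =>
    (he x).exists_coord (le_refl (U x)) (AModX.res N (le_top : U x ≤ ⊤) (InvX.one (σ j)))
  let φ : ∀ x : X, k →+* X.residueField x := fun x =>
    (X.evaluation (U x) x (hxU x)).hom.comp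
      ((AModX.resR (le_top : U x ≤ ⊤)).comp (Coh.toGlobal (X ↘ Spec (CommRingCat.of k))))
  let T : ∀ _ : S, Submodule k (κ → k) := fun x =>
    { carrier := {c | ∑ j, φ x.1 (c j) * (X.evaluation (U x.1) x.1 (hxU x.1)).hom (g x.1 j) = 0}
      add_mem' := fun {a b} ha hb => by
        simp only [Set.mem_setOf_eq, Pi.add_apply, map_add, add_mul, Finset.sum_add_distrib] at *
        rw [ha, hb, add_zero]
      zero_mem' := by simp
      smul_mem' := fun r a ha => by
        simp only [Set.mem_setOf_eq, Pi.smul_apply, smul_eq_mul, map_mul, mul_assoc] at *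
        rw [← Finset.mul_sum, ha, mul_zero] }
  obtain ⟨c, hc⟩ : ∃ c, ∀ x, c ∉ T x := by
    by_contra! h
    obtain ⟨x, hx⟩ := Subspace.exists_eq_top_of_iUnion_eq_univ (p := T)
      (Set.eq_univ_of_forall fun c => Set.mem_iUnion.2 (h c))
    obtain ⟨j, hj⟩ := hcov x.1 x.2
    have hmem : x.1 ∈ X.basicOpen (g x.1 j) := by
      rw [← InvX.genLocus_inf (σ j) (he x.1) (by simpa [AModX.res_self] using hg x.1 j)]
      exact ⟨hj, hxU x.1⟩
    have h1 : (Pi.single j 1 : κ → k) ∈ T x := hx ▸ Submodule.mem_top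
    change ∑ i, φ x.1 ((Pi.single j 1 : κ → k) i) * _ = 0 at h1
    rw [Finset.sum_eq_single j (fun i _ hi => by rw [Pi.single_eq_of_ne hi, map_zero, zero_mul])
      (fun h => absurd (Finset.mem_univ j) h), Pi.single_eq_same, map_one, one_mul] at h1
    exact (X.evaluation_ne_zero_iff_mem_basicOpen x.1 (hxU x.1) (g x.1 j)).2 hmem h1
  let t : Γ(N, ⊤) := ∑ j, (show Γ(X, ⊤) from Coh.toGlobal (X ↘ Spec (CommRingCat.of k)) (c j)) • InvX.one (σ j)
  refine ⟨InvX.ofSect t, fun x hx => ?_, fun x hx hmem => ?_⟩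
  swap
  · let G : Γ(X, U x) := ∑ j,
      AModX.resR (le_top : U x ≤ ⊤) (Coh.toGlobal (X ↘ Spec (CommRingCat.of k)) (c j)) * g x j
    have hG : AModX.res N (le_top : U x ≤ ⊤) (InvX.one (InvX.ofSect t)) = G • e x := by
      rw [InvX.one_ofSect, map_sum, Finset.sum_smul]
      refine Finset.sum_congr rfl fun j _ => ?_
      rw [AModX.res_smul, hg x j, AModX.res_self, mul_smul]
    have hGx : x ∈ X.basicOpen G := by
      rw [← InvX.genLocus_inf (InvX.ofSect t) (he x) hG]
      exact ⟨hmem, hxU x⟩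
    refine (X.evaluation_ne_zero_iff_mem_basicOpen x (hxU x) G).2 hGx ?_
    refine (map_sum (X.evaluation (U x) x (hxU x)).hom _ _).trans (Finset.sum_eq_zero fun j _ => ?_)
    rw [map_mul]
    refine mul_eq_zero_of_right _ ?_
    by_contra hne
    have hmj : x ∈ X.basicOpen (g x j) := (X.evaluation_ne_zero_iff_mem_basicOpen x (hxU x) (g x j)).1 hne
    rw [← InvX.genLocus_inf (σ j) (he x) (by simpa [AModX.res_self] using hg x j)] at hmj
    exact hx j hmj.1
  let G : Γ(X, U x) := ∑ j,
    AModX.resR (le_top : U x ≤ ⊤) (Coh.toGlobal (X ↘ Spec (CommRingCat.of k)) (c j)) * g x j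
  have hG : AModX.res N (le_top : U x ≤ ⊤) (InvX.one (InvX.ofSect t)) = G • e x := by
    rw [InvX.one_ofSect, map_sum, Finset.sum_smul]
    refine Finset.sum_congr rfl fun j _ => ?_
    rw [AModX.res_smul, hg x j, AModX.res_self, mul_smul]
  have hGx : x ∈ X.basicOpen G := by
    refine (X.evaluation_ne_zero_iff_mem_basicOpen x (hxU x) G).1 ?_
    intro h0
    refine hc ⟨x, hx⟩ ?_
    refine Eq.trans ?_ h0
    exact ((map_sum (X.evaluation (U x) x (hxU x)).hom _ _).trans
      (Finset.sum_congr rfl fun j _ => map_mul _ _ _)).symm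
  rw [← InvX.genLocus_inf (InvX.ofSect t) (he x) hG] at hGx
  exact hGx.1

/-- Values of the constants. -/
theorem evaluation_toGlobal (k : Type u) [Field k] [X.Over (Spec (CommRingCat.of k))] (W : X.Opens) (y : X) (hy : y ∈ W) (a : k) :
    (X.evaluation W y hy).hom (AModX.resR (le_top : W ≤ ⊤) (Coh.toGlobal (X ↘ Spec (CommRingCat.of k)) a)) =
      Curv2.resMap k X y a :=
  congrArg (X.residue y).hom (TopCat.Presheaf.germ_res_apply X.presheaf (homOfLE (le_top : W ≤ ⊤)) y hy _)

/-- A point of an open as a morphism from the residue field, followed by a map into an affine open. -/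
theorem fromSpecResidueField_comp {Z : Scheme.{u}} (g : X ⟶ Z) {V : Z.Opens} (hV : IsAffineOpen V) (y : X)
    (hy : y ∈ g ⁻¹ᵁ V) :
    X.fromSpecResidueField y ≫ g =
      Spec.map (g.appLE V (g ⁻¹ᵁ V) le_rfl ≫ X.evaluation (g ⁻¹ᵁ V) y hy) ≫ hV.fromSpec := by
  rw [Scheme.fromSpecResidueField, ← Scheme.Opens.fromSpecStalkOfMem_ι (g ⁻¹ᵁ V) y hy, Category.assoc,
    Category.assoc, RelVA16.ι_comp_eq g hV le_rfl, Scheme.Opens.fromSpecStalkOfMem_toSpecΓ_assoc,
    ← Spec.map_comp_assoc, ← Spec.map_comp_assoc]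
  rfl

/-- Let k be an infinite field, X a scheme of finite type over k, L a very ample invertible O_X-module
on X over k, n ≥ 0, x a k-rational point of X and x_1, …, x_n points of X with x_i ≠ x. Then there
is a global section s of L which vanishes at x (x is not in the open where s generates L) but does
not vanish at any x_i. -/
theorem result (k : Type u) [Field k] (X : Scheme.{u}) [X.Over (Spec (CommRingCat.of k))] [Infinite k]
    [LocallyOfFiniteType (X ↘ (Spec (CommRingCat.of k)))] [QuasiCompact (X ↘ (Spec (CommRingCat.of k)))]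
    (L : X.Modules) (hL : RelAmple.IsRelVeryAmplePn (X ↘ (Spec (CommRingCat.of k))) L)
    (x : ↥X) (hx : Function.Surjective (Curv2.resMap k X x)) (n : ℕ) (pts : Fin n → ↥X) (hne : ∀ i, pts i ≠ x) :
    ∃ s : Coh.structureModule X ⟶ L, x ∉ CohB1.genLocus L s ∧ ∀ i, pts i ∈ CohB1.genLocus L s := by
  obtain ⟨N, i, hi, hsnd, ⟨e⟩⟩ := hL
  let q := X ↘ (Spec (CommRingCat.of k))
  let fst : CohB1.ProjSpaceOver N (Spec (CommRingCat.of k)) ⟶ CohB1.ProjSpace N (ULift.{u} ℤ) :=
    pullback.fst (CohB1.ProjSpace.toSpec N (ULift.{u} ℤ)) (specULiftZIsTerminal.from (Spec (CommRingCat.of k)))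
  let g : X ⟶ CohB1.ProjSpace N (ULift.{u} ℤ) := i ≫ fst
  let τ : (Scheme.Modules.pullback g).obj (Twist.twistProjSpace N (ULift.{u} ℤ) 1) ≅ L :=
    ((Scheme.Modules.pullbackComp i fst).app _).symm ≪≫ e.symm
  let s : Fin (N + 1) → Γ(L, ⊤) := fun j =>
    τ.hom.app ⊤ (ProjUP.pullSec g (Twist.twistProjSpace N (ULift.{u} ℤ) 1) (ProjUP.coord N (ULift.{u} ℤ) j))
  let V : Fin (N + 1) → (CohB1.ProjSpace N (ULift.{u} ℤ)).Opens := fun j =>
    Proj.basicOpen (CohB1.polyGrading N (ULift.{u} ℤ)) (MvPolynomial.X j)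
  let W : Fin (N + 1) → X.Opens := fun j => g ⁻¹ᵁ V j
  have hpre : ∀ j, W j = TrivBasic.locus (s j) := fun j => AmpleEmbed.preimage_chart g τ j rfl
  have hcovW : ∀ y : X, ∃ j, y ∈ W j := fun y =>
    (Opens.mem_iSup.1 ((AmpleEmbed.iSup_basicOpen_X N (ULift.{u} ℤ)).ge (Set.mem_univ (g y))) : ∃ j, g y ∈ V j)
  have hLinv : PicF.IsInvertible L := InvX.isInvertible_of_frames fun y => by
    obtain ⟨j, hj⟩ := hcovW y
    rw [hpre] at hj
    obtain ⟨U, hU, hf⟩ := TrivBasic.mem_locus_iff.1 hj
    exact ⟨U, hU, _, hf⟩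
  have hfr : ∀ j, InvX.IsFrame (AModX.res L (le_top : W j ≤ ⊤) (s j)) := fun j =>
    TrivBasic.isFrame_res_of_le_locus (hpre j).le
  choose b hb using fun j l => (hfr j).exists_coord (le_refl (W j)) (AModX.res L (le_top : W j ≤ ⊤) (s l))
  have hb' : ∀ j l, AModX.res L (le_top : W j ≤ ⊤) (s l) = b j l • AModX.res L (le_top : W j ≤ ⊤) (s j) := fun j l => by
    simpa [AModX.res_self] using hb j l
  obtain ⟨j₀, hj₀⟩ := hcovW x
  choose c hc using fun l => hx ((X.evaluation (W j₀) x hj₀).hom (b j₀ l))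
  let gl : k →+* Γ(X, ⊤) := Coh.toGlobal q
  let t : Fin (N + 1) → Γ(L, ⊤) := fun l => s l - gl (c l) • s j₀
  have ht : ∀ j l, AModX.res L (le_top : W j ≤ ⊤) (t l) =
      (b j l - AModX.resR (le_top : W j ≤ ⊤) (gl (c l)) * b j j₀) • AModX.res L (le_top : W j ≤ ⊤) (s j) := fun j l => by
    rw [map_sub, AModX.res_smul, hb' j l, hb' j j₀, sub_smul, mul_smul]
  have hmem : ∀ (j l) (y : X) (hy : y ∈ W j), y ∈ CohB1.genLocus L (InvX.ofSect (t l)) ↔
      (X.evaluation (W j) y hy).hom (b j l) - Curv2.resMap k X y (c l) * (X.evaluation (W j) y hy).hom (b j j₀) ≠ 0 := by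
    intro j l y hy
    have hG : AModX.res L (le_top : W j ≤ ⊤) (InvX.one (InvX.ofSect (t l))) =
        (b j l - AModX.resR (le_top : W j ≤ ⊤) (gl (c l)) * b j j₀) • AModX.res L (le_top : W j ≤ ⊤) (s j) := by
      rw [InvX.one_ofSect, ht]
    have h1 : y ∈ CohB1.genLocus L (InvX.ofSect (t l)) ↔
        y ∈ X.basicOpen (b j l - AModX.resR (le_top : W j ≤ ⊤) (gl (c l)) * b j j₀) := by
      rw [← InvX.genLocus_inf (InvX.ofSect (t l)) (hfr j) hG]
      exact ⟨fun h => ⟨h, hy⟩, fun h => h.1⟩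
    rw [h1, ← X.evaluation_ne_zero_iff_mem_basicOpen y hy]
    show (X.evaluation (W j) y hy).hom _ ≠ 0 ↔ _
    rw [map_sub, map_mul,
      show (X.evaluation (W j) y hy).hom (AModX.resR (le_top : W j ≤ ⊤) (gl (c l))) = Curv2.resMap k X y (c l) from
        evaluation_toGlobal k (W j) y hy (c l)]
  have hbself : ∀ j, b j j = 1 := fun j =>
    ((hfr j).coord_unique le_rfl (by rw [AModX.res_self, one_smul, ← hb' j j]))
  have hvan : ∀ l, x ∉ CohB1.genLocus L (InvX.ofSect (t l)) := fun l h => by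
    refine (hmem j₀ l x hj₀).1 h ?_
    rw [hbself, map_one, mul_one, hc, sub_self]
  have hsep : ∀ y : X, y ≠ x → ∃ l, y ∈ CohB1.genLocus L (InvX.ofSect (t l)) := by
    intro y hyx
    by_contra! hall
    by_cases hy : y ∈ W j₀
    · refine hyx (i.isEmbedding.injective ?_)
      have hc0 : c j₀ = 1 := (Curv2.resMap k X x).injective (by rw [hc, hbself, map_one, map_one])
      let F : MvPolynomial (Fin (N + 1)) (ULift.{u} ℤ) →+* k :=
        MvPolynomial.eval₂Hom ((Int.castRingHom k).comp ULift.ringEquiv.toRingHom) c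
      have hF1 : F (MvPolynomial.X j₀) = 1 := (MvPolynomial.eval₂Hom_X' _ _ _).trans hc0
      have hu : IsUnit (F (MvPolynomial.X j₀)) := hF1 ▸ isUnit_one
      haveI : IsIso (Proj.awayToSection (CohB1.polyGrading N (ULift.{u} ℤ)) (MvPolynomial.X j₀)) :=
        (Proj.basicOpenIsoAway (CohB1.polyGrading N (ULift.{u} ℤ)) _ (ProjPt.X_mem j₀) one_pos).isIso_hom
      let ψ : Γ(CohB1.ProjSpace N (ULift.{u} ℤ), V j₀) ⟶ CommRingCat.of k :=
        inv (Proj.awayToSection (CohB1.polyGrading N (ULift.{u} ℤ)) (MvPolynomial.X j₀)) ≫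
          CommRingCat.ofHom (ProjPt.coordHom (CohB1.polyGrading N (ULift.{u} ℤ)) F hu)
      have hV : IsAffineOpen (V j₀) := Proj.isAffineOpen_basicOpen _ _ (ProjPt.X_mem j₀) one_pos
      have key : ∀ (z : X) (hz : z ∈ W j₀), (∀ l, (X.evaluation (W j₀) z hz).hom (b j₀ l) = Curv2.resMap k X z (c l)) →
          X.fromSpecResidueField z ≫ g =
            Spec.map (CommRingCat.ofHom (Curv2.resMap k X z)) ≫ Spec.map ψ ≫ hV.fromSpec := fun z hz hz' => by
        rw [fromSpecResidueField_comp g hV z hz, ← Spec.map_comp_assoc]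
        congr 2
        rw [← cancel_epi (Proj.awayToSection (CohB1.polyGrading N (ULift.{u} ℤ)) (MvPolynomial.X j₀))]
        simp only [ψ, Category.assoc, IsIso.hom_inv_id_assoc]
        refine CommRingCat.hom_ext (ProjPt.away_ext j₀ _ _ (RelVA16.subsingleton_uliftInt_hom _ _) fun l => ?_)
        show (X.evaluation (W j₀) z hz).hom (ProjUPX.ratioOf g (ProjPt.X_mem l) (ProjPt.X_mem j₀) le_rfl) =
          Curv2.resMap k X z (ProjPt.coordHom _ F hu (ProjPt.crd j₀ l))
        rw [AmpleEmbed.ratioOf_eq g τ j₀ l rfl rfl le_rfl (b j₀ l) (hb' j₀ l),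
          ProjPt.coordHom_crd F j₀ hu hF1, hz']
        exact congrArg _ (MvPolynomial.eval₂Hom_X' _ _ _).symm
      let P : Spec (CommRingCat.of k) ⟶ CohB1.ProjSpaceOver N (Spec (CommRingCat.of k)) :=
        pullback.lift (Spec.map ψ ≫ hV.fromSpec) (𝟙 _) (specULiftZIsTerminal.hom_ext _ _)
      have key2 : ∀ (z : X) (hz : z ∈ W j₀), (∀ l, (X.evaluation (W j₀) z hz).hom (b j₀ l) = Curv2.resMap k X z (c l)) →
          i z = P default := fun z hz hz' => by
        have h1 : X.fromSpecResidueField z ≫ i = Spec.map (CommRingCat.ofHom (Curv2.resMap k X z)) ≫ P := by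
          refine pullback.hom_ext ?_ ?_
          · simp only [P, Category.assoc, pullback.lift_fst]
            exact key z hz hz'
          · simp only [P, Category.assoc, pullback.lift_snd, Category.comp_id]
            rw [hsnd]
            exact GeomField.fromSpecResidueField_over z
        let p : Spec (X.residueField z) := IsLocalRing.closedPoint (X.residueField z)
        have h2 := congrArg (fun m : Spec (X.residueField z) ⟶ _ => m p) h1
        simp only [Scheme.Hom.comp_apply] at h2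
        rw [Scheme.fromSpecResidueField_apply] at h2
        rw [h2]
        exact congrArg P (Subsingleton.elim _ _)
      rw [key2 y hy fun l => ?_, key2 x hj₀ fun l => (hc l).symm]
      have h := hall l
      rw [hmem j₀ l y hy, hbself, map_one, mul_one, not_not, sub_eq_zero] at h
      exact h
    · obtain ⟨l, hl⟩ := hcovW y
      have h0 : (X.evaluation (W l) y hl).hom (b l j₀) = 0 := by
        by_contra hne
        have hm : y ∈ X.basicOpen (b l j₀) := (X.evaluation_ne_zero_iff_mem_basicOpen y hl _).1 hne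
        rw [← InvX.genLocus_inf (InvX.ofSect (s j₀)) (hfr l) (by rw [InvX.one_ofSect, hb' l j₀])] at hm
        exact hy ((hpre j₀).ge hm.1)
      have h := hall l
      rw [hmem l l y hl, h0, hbself, map_one, mul_zero, sub_zero, not_not] at h
      exact one_ne_zero h
  obtain ⟨σ, hσ, hσx⟩ := exists_avoid_section k hLinv (κ := ULift.{u} (Fin (N + 1)))
    (fun l => InvX.ofSect (t l.down)) (S := Set.range pts)
    (by
      rintro _ ⟨j, rfl⟩
      obtain ⟨l, hl⟩ := hsep (pts j) (hne j)
      exact ⟨⟨l⟩, hl⟩)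
    (Set.finite_range pts)
  exact ⟨σ, hσx x fun l => hvan l.down, fun j => hσ _ ⟨j, rfl⟩⟩

end Groth.Agent.S7626
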