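import Groth.Statements.S7627
import Groth.Agent.DeltaLib.ClosedFibre
import Groth.Agent.GeomField.Chart
import Mathlib.AlgebraicGeometry.Morphisms.FiniteType

set_option autoImplicit false
universe u
open CategoryTheory CategoryTheory.Limits AlgebraicGeometry
attribute [local instance] Curv2.resAlgebra
open scoped TensorProduct
open Variety

namespace Groth.Agent.S7627


attribute [local instance] Curv2.stalkAlgebra

set_option linter.style.haveILetI false
set_option backward.isDefEq.respectTransparency false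
set_option backward.isDefEq.respectTransparency.types false

open Groth.Agent

theorem isLocalization_stalk_of_spec {Y : Scheme.{u}} {S : Type u} [CommRing S] (j : Spec (CommRingCat.of S) ⟶ Y)
    [IsOpenImmersion j] (Q : Spec (CommRingCat.of S)) :
    letI := ((StructureSheaf.toStalk S Q) ≫ inv (j.stalkMap Q)).hom.toAlgebra
    IsLocalization.AtPrime (Y.presheaf.stalk (j Q)) (PrimeSpectrum.asIdeal (R := S) Q) := by
  letI := ((StructureSheaf.toStalk S Q) ≫ inv (j.stalkMap Q)).hom.toAlgebra
  let e : (Spec.structureSheaf S).presheaf.stalk Q ≅ Y.presheaf.stalk (j Q) := (asIso (j.stalkMap Q)).symm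
  exact IsLocalization.isLocalization_of_algEquiv (PrimeSpectrum.asIdeal (R := S) Q).primeCompl
    (AlgEquiv.ofRingEquiv (f := e.commRingCatIsoToRingEquiv) fun _ => rfl)

theorem map_stalkCongr {X : Scheme.{u}} {x x' : X} (h : x = x') :
    (IsLocalRing.maximalIdeal (X.presheaf.stalk x)).map (X.presheaf.stalkCongr (.of_eq h)).hom.hom =
      IsLocalRing.maximalIdeal (X.presheaf.stalk x') := by
  let e := (X.presheaf.stalkCongr (Inseparable.of_eq h)).commRingCatIsoToRingEquiv
  exact IsLocalRing.eq_maximalIdeal (Ideal.map_isMaximal_of_equiv e)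

/-- Let X be locally of finite type over a field k, K an extension field of k, y a point of X_K with
image x in X. Assume dim O_{X, x} = dim O_{X_K, y} and that κ(x) ⊗_k K is reduced (for instance
κ(x)/k separable or K/k separable). Then m_x O_{X_K, y} = m_y. -/
theorem result (k : Type u) [Field k] (X : Scheme.{u}) [X.Over (Spec (CommRingCat.of k))] [LocallyOfFiniteType (X ↘ (Spec (CommRingCat.of k)))]
    (K : Type u) [Field K] [Algebra k K] (y : ↥(Curv2.bc k X K))
    (hdim : ringKrullDim ↥(X.presheaf.stalk (Curv2.bcFst k X K y)) = ringKrullDim ↥((Curv2.bc k X K).presheaf.stalk y))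
    (hred : _root_.IsReduced (X.residueField (Curv2.bcFst k X K y) ⊗[k] K)) :
    Ideal.map ((Curv2.bcFst k X K).stalkMap y).hom (IsLocalRing.maximalIdeal ↥(X.presheaf.stalk (Curv2.bcFst k X K y))) =
      IsLocalRing.maximalIdeal ↥((Curv2.bc k X K).presheaf.stalk y) := by
  obtain ⟨c, P₀, hP₀⟩ := GeomField.exists_chart (k := k) (Curv2.bcFst k X K y)
  obtain ⟨Q, hQ⟩ := c.exists_bcEmb_eq K P₀ y hP₀.symm
  subst hQ
  let S := c.R ⊗[k] K
  let φ : CommRingCat.of c.R ⟶ CommRingCat.of S := CommRingCat.ofHom (algebraMap c.R S)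
  let P : Spec (CommRingCat.of c.R) := PrimeSpectrum.comap φ.hom Q
  have hP : Curv2.bcFst k X K (c.bcEmb K Q) = c.emb P := c.bcFst_bcEmb K Q
  have hdim' : ringKrullDim (X.presheaf.stalk (c.emb P)) =
      ringKrullDim ((Curv2.bc k X K).presheaf.stalk (c.bcEmb K Q)) := hP ▸ hdim
  have hred' : _root_.IsReduced (X.residueField (c.emb P) ⊗[k] K) := hP ▸ hred
  letI := c.stalkAlg P
  haveI := c.isScalarTower_stalk P
  haveI := c.isLocalization_stalk P
  let A := X.presheaf.stalk (c.emb P)
  let B := (Curv2.bc k X K).presheaf.stalk (c.bcEmb K Q)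
  letI aS : Algebra S B := ((StructureSheaf.toStalk S Q) ≫ inv ((c.bcEmb K).stalkMap Q)).hom.toAlgebra
  haveI : IsLocalization.AtPrime B (PrimeSpectrum.asIdeal (R := S) Q) := isLocalization_stalk_of_spec (c.bcEmb K) Q
  letI aR : Algebra c.R B := ((algebraMap S B).comp (algebraMap c.R S)).toAlgebra
  haveI : IsScalarTower c.R S B := IsScalarTower.of_algebraMap_eq fun _ => rfl
  let ψ : X.presheaf.stalk (c.emb P) ⟶ (Curv2.bc k X K).presheaf.stalk (c.bcEmb K Q) :=
    c.emb.stalkMap P ≫ (Spec.map φ).stalkMap Q ≫ inv ((c.bcEmb K).stalkMap Q)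
  letI aA : Algebra A B := ψ.hom.toAlgebra
  have hψ : CommRingCat.ofHom (c.toStalk P) ≫ ψ =
      φ ≫ StructureSheaf.toStalk S Q ≫ inv ((c.bcEmb K).stalkMap Q) := by
    show (StructureSheaf.toStalk c.R P ≫ inv (c.emb.stalkMap P)) ≫ ψ = _
    simp only [ψ, Category.assoc, IsIso.inv_hom_id_assoc]
    rw [← Category.assoc, ← Category.assoc φ]
    congr 1
    exact AlgebraicGeometry.stalkMap_toStalk φ Q
  haveI : IsScalarTower c.R A B := IsScalarTower.of_algebraMap_eq fun r => (congr($hψ r)).symm
  haveI : IsLocalHom (algebraMap A B) := by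
    show IsLocalHom ψ.hom
    simp only [ψ, CommRingCat.hom_comp]
    haveI : IsLocalHom (c.emb.stalkMap P).hom := c.emb.toLRSHom.prop P
    haveI : IsLocalHom ((Spec.map φ).stalkMap Q).hom := (Spec.map φ).toLRSHom.prop Q
    haveI : IsLocalHom (inv ((c.bcEmb K).stalkMap Q)).hom := isLocalHom_of_isIso _
    exact RingHom.isLocalHom_comp _ _
  haveI : LocallyOfFiniteType (Spec.map (CommRingCat.ofHom (algebraMap k c.R))) := c.over_eq ▸ inferInstance
  haveI : Algebra.FiniteType k c.R := RingHom.finiteType_algebraMap.1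
    ((HasRingHomProperty.Spec_iff (P := @LocallyOfFiniteType)).1 this)
  haveI : IsNoetherianRing c.R := Algebra.FiniteType.isNoetherianRing k c.R
  haveI : (PrimeSpectrum.asIdeal (R := c.R) P).IsPrime := P.2
  haveI : (PrimeSpectrum.asIdeal (R := S) Q).IsPrime := Q.2
  haveI : IsNoetherianRing (K ⊗[k] c.R) := Algebra.FiniteType.isNoetherianRing K _
  haveI : IsNoetherianRing S :=
    isNoetherianRing_of_ringEquiv _ (Algebra.TensorProduct.comm k K c.R).toRingEquiv
  haveI : IsNoetherianRing A :=
    IsLocalization.isNoetherianRing (PrimeSpectrum.asIdeal (R := c.R) P).primeCompl A inferInstance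
  haveI : IsNoetherianRing B :=
    IsLocalization.isNoetherianRing (PrimeSpectrum.asIdeal (R := S) Q).primeCompl B inferInstance
  haveI : Module.Flat S B := IsLocalization.flat B (PrimeSpectrum.asIdeal (R := S) Q).primeCompl
  haveI : Module.Flat c.R B := Module.Flat.trans c.R S B
  haveI : Module.Flat A B :=
    (Module.flat_iff_of_isLocalization A (PrimeSpectrum.asIdeal (R := c.R) P).primeCompl B).2 inferInstance
  let L := IsLocalRing.ResidueField A
  haveI : _root_.IsReduced (L ⊗[k] K) := hred'
  haveI : _root_.IsReduced (B ⊗[A] L) := DeltaLib.isReduced_tensor_fibre (k := k) (R := c.R) K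
    (PrimeSpectrum.asIdeal (R := c.R) P).primeCompl (PrimeSpectrum.asIdeal (R := S) Q).primeCompl L
  have hm := DeltaLib.map_maximalIdeal_eq (A := A) (B := B) hdim'
  have hcomm : c.bcEmb K ≫ Curv2.bcFst k X K = Spec.map φ ≫ c.emb := c.bcEmb_fst K
  have heq : (Curv2.bcFst k X K).stalkMap (c.bcEmb K Q) = (X.presheaf.stalkCongr (.of_eq hP)).hom ≫ ψ := by
    rw [← cancel_mono ((c.bcEmb K).stalkMap Q), ← Scheme.Hom.stalkMap_comp,
      Scheme.Hom.stalkMap_congr_hom _ _ hcomm, Scheme.Hom.stalkMap_comp]
    simp only [ψ, Category.assoc, IsIso.inv_hom_id, Category.comp_id]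
    rfl
  rw [heq, CommRingCat.hom_comp, ← Ideal.map_map, map_stalkCongr hP]
  exact hm

end Groth.Agent.S7627
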