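import Groth.Statements.S7630
import Groth.Agent.AmpleDesc5.Field2
import Groth.Agent.EtFound.Descent
import Groth.Agent.AmpleX.Separated
import Groth.Agent.AmpleX.RelAffine
set_option backward.isDefEq.respectTransparency.types false
set_option backward.isDefEq.respectTransparency false
set_option linter.style.haveILetI false
-- import your own Groth.Agent.* helpers here

set_option autoImplicit false
universe u
open CategoryTheory CategoryTheory.Limits AlgebraicGeometry
open Variety

namespace Groth.Agent.S7630

/-- Let X be a scheme over a field k and K an extension field of k. If X_K → Spec K is quasi-projective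
(of finite type and admitting a relatively ample invertible module), then so is X → Spec k. -/
theorem result (k : Type u) [Field k] (X : Scheme.{u}) [X.Over (Spec (CommRingCat.of k))] (K : Type u) [Field K] [Algebra k K]
    (h : RelProj.IsQuasiProjective (Curv2.bcSnd k X K)) : RelProj.IsQuasiProjective (X ↘ (Spec (CommRingCat.of k))) := by
  obtain ⟨h1, h2, L', hL''⟩ := h
  haveI := h2
  have hL' := (Groth.Agent.AmpleX.isRelAmple_iff_isAmple _ _).1 hL''
  let p := X ↘ (Spec (CommRingCat.of k))
  let τ := Spec.map (CommRingCat.ofHom (algebraMap k K))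
  haveI : Flat τ := Flat.SpecMap_iff.2 (RingHom.flat_algebraMap_iff.2 inferInstance)
  haveI : Surjective τ := ⟨fun y => ⟨Classical.arbitrary _, Subsingleton.elim _ _⟩⟩
  haveI hQ : (@Surjective ⊓ @Flat ⊓ @QuasiCompact : MorphismProperty Scheme.{u}) τ :=
    ⟨⟨inferInstance, inferInstance⟩, inferInstance⟩
  haveI := Groth.Agent.EtFound.fpqc_quasiCompact.{u}
  haveI := Groth.Agent.EtFound.fpqc_isSeparated.{u}
  haveI : IsSeparated (Limits.pullback.snd p τ) := by
    haveI := Groth.Agent.AmpleX.isSeparated_of_isAmple hL'
    infer_instance
  haveI : IsSeparated p := MorphismProperty.of_pullback_snd_of_descendsAlong (P := @IsSeparated) hQ ‹IsSeparated (Limits.pullback.snd p τ)›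
  haveI : LocallyOfFiniteType p := MorphismProperty.of_pullback_snd_of_descendsAlong (P := @LocallyOfFiniteType) hQ h1
  haveI : QuasiCompact p := MorphismProperty.of_pullback_snd_of_descendsAlong (P := @QuasiCompact) hQ h2
  obtain ⟨L, hL⟩ := Groth.Agent.AmpleDesc5.exists_isAmple_of_baseChange_field_qc k K p ⟨L', hL'⟩
  exact ⟨inferInstance, inferInstance, L, (Groth.Agent.AmpleX.isRelAmple_iff_isAmple p L).2 hL⟩

end Groth.Agent.S7630
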