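import Groth.Statements.S7631
import Groth.Agent.S4667
import Groth.Agent.MorLib.BddFib

set_option linter.style.haveILetI false
set_option backward.isDefEq.respectTransparency false
set_option backward.isDefEq.respectTransparency.types false

set_option autoImplicit false
universe u
open CategoryTheory CategoryTheory.Limits AlgebraicGeometry
open Variety

namespace Groth.Agent.S7631

theorem ker_of_isPullback {A A' X X' : Scheme.{u}} {g' : A' ⟶ A} {f' : A' ⟶ X'} {f : A ⟶ X} {g : X' ⟶ X}
    (h : IsPullback g' f' f g) [QuasiCompact f] [Flat g] : f'.ker = f.ker.comap g := by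
  rw [← h.isoPullback_hom_snd, Scheme.Hom.ker_comp_of_isIso, S4667.result]

theorem map_comap_eq_sup {W P : Scheme.{u}} (K : P.IdealSheafData) (ι : W ⟶ P) [IsClosedImmersion ι] :
    (K.comap ι).map ι = K ⊔ ι.ker := by
  refine le_antisymm ?_ (sup_le (Scheme.IdealSheafData.le_map_comap _ _) ?_)
  · let I := K ⊔ ι.ker
    let b := IsClosedImmersion.lift ι I.subschemeι (by rw [Scheme.IdealSheafData.ker_subschemeι]; exact le_sup_right)
    let a := IsClosedImmersion.lift K.subschemeι I.subschemeι
      (by rw [Scheme.IdealSheafData.ker_subschemeι, Scheme.IdealSheafData.ker_subschemeι]; exact le_sup_left)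
    have hfac : pullback.lift (f := ι) (g := K.subschemeι) b a (by simp [a, b]) ≫ pullback.fst ι K.subschemeι ≫ ι =
        I.subschemeι := by
      rw [pullback.lift_fst_assoc, IsClosedImmersion.lift_fac]
    have h1 := Scheme.Hom.le_ker_comp (pullback.lift (f := ι) (g := K.subschemeι) b a (by simp [a, b]))
      (pullback.fst ι K.subschemeι ≫ ι)
    rw [hfac, Scheme.IdealSheafData.ker_subschemeι, Scheme.Hom.ker_comp] at h1
    exact h1
  · rw [← Scheme.IdealSheafData.map_bot]
    exact Scheme.IdealSheafData.map_mono _ bot_le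

/-- Let f : A → X and g : B → Y be quasi-compact morphisms of schemes over a field k and F = f × g : A
×_k B → X ×_k Y. Then the scheme-theoretic image of F is Z ×_k Z', where Z ⊆ X and Z' ⊆ Y are the
scheme-theoretic images of f and g: in terms of kernel ideal sheaves, ker F is the sum of the
pullback of ker f along the first projection and of ker g along the second. -/
theorem result (k : Type u) [Field k] (X : Scheme.{u}) [X.Over (Spec (CommRingCat.of k))] (Y : Scheme.{u}) [Y.Over (Spec (CommRingCat.of k))]
    (A B : Scheme.{u}) [A.Over (Spec (CommRingCat.of k))] [B.Over (Spec (CommRingCat.of k))]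
    (f : A ⟶ X) [f.IsOver (Spec (CommRingCat.of k))] [QuasiCompact f] (g : B ⟶ Y) [g.IsOver (Spec (CommRingCat.of k))] [QuasiCompact g]
    (F : pullback (A ↘ (Spec (CommRingCat.of k))) (B ↘ (Spec (CommRingCat.of k))) ⟶ pullback (X ↘ (Spec (CommRingCat.of k))) (Y ↘ (Spec (CommRingCat.of k))))
    (hF₁ : F ≫ pullback.fst (X ↘ (Spec (CommRingCat.of k))) (Y ↘ (Spec (CommRingCat.of k))) = pullback.fst (A ↘ (Spec (CommRingCat.of k))) (B ↘ (Spec (CommRingCat.of k))) ≫ f)
    (hF₂ : F ≫ pullback.snd (X ↘ (Spec (CommRingCat.of k))) (Y ↘ (Spec (CommRingCat.of k))) = pullback.snd (A ↘ (Spec (CommRingCat.of k))) (B ↘ (Spec (CommRingCat.of k))) ≫ g) :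
    F.ker = f.ker.comap (pullback.fst (X ↘ (Spec (CommRingCat.of k))) (Y ↘ (Spec (CommRingCat.of k)))) ⊔ g.ker.comap (pullback.snd (X ↘ (Spec (CommRingCat.of k))) (Y ↘ (Spec (CommRingCat.of k)))) := by
  let sA := A ↘ (Spec (CommRingCat.of k))
  let sB := B ↘ (Spec (CommRingCat.of k))
  let sX := X ↘ (Spec (CommRingCat.of k))
  let sY := Y ↘ (Spec (CommRingCat.of k))
  have hf : f ≫ sX = sA := comp_over f _
  have hg : g ≫ sY = sB := comp_over g _
  haveI : Flat sA := MorLib.BF.flat_to_field (Field.toIsField k) _
  haveI : Flat sB := MorLib.BF.flat_to_field (Field.toIsField k) _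
  haveI : Flat sX := MorLib.BF.flat_to_field (Field.toIsField k) _
  haveI : Flat sY := MorLib.BF.flat_to_field (Field.toIsField k) _
  let F₁ : pullback sA sB ⟶ pullback sX sB :=
    pullback.lift (pullback.fst sA sB ≫ f) (pullback.snd sA sB) (by rw [Category.assoc, hf, pullback.condition])
  let F₂ : pullback sX sB ⟶ pullback sX sY :=
    pullback.lift (pullback.fst sX sB) (pullback.snd sX sB ≫ g) (by rw [Category.assoc, hg, pullback.condition])
  have hF : F = F₁ ≫ F₂ := by
    apply pullback.hom_ext
    · rw [hF₁]; simp [F₁, F₂, sA, sB, sX, sY]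
    · rw [hF₂]; simp [F₁, F₂, sA, sB, sX, sY]
  have sq₁ : IsPullback (pullback.fst sA sB) F₁ f (pullback.fst sX sB) := by
    refine IsPullback.of_bot ?_ (pullback.lift_fst _ _ _).symm (IsPullback.of_hasPullback sX sB)
    rw [pullback.lift_snd, hf]
    exact IsPullback.of_hasPullback sA sB
  have sq₂ : IsPullback (pullback.snd sX sB) F₂ g (pullback.snd sX sY) := by
    refine IsPullback.of_bot ?_ (pullback.lift_snd _ _ _).symm (IsPullback.of_hasPullback sX sY).flip
    rw [pullback.lift_fst, hg]
    exact (IsPullback.of_hasPullback sX sB).flip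
  haveI : QuasiCompact F₂ := MorphismProperty.of_isPullback (P := @QuasiCompact) sq₂ inferInstance
  let J := f.ker.comap (pullback.fst sX sY)
  have h1 : F₁.ker = J.comap F₂ := by
    rw [ker_of_isPullback sq₁, ← Scheme.IdealSheafData.comap_comp, pullback.lift_fst]
  have h2 : (J.comap F₂).map F₂ = ((g.ker.comap (pullback.snd sX sY)).comap J.subschemeι).map J.subschemeι := by
    have sq₃ := (IsPullback.of_hasPullback F₂ J.subschemeι).paste_horiz sq₂
    haveI : Flat (J.subschemeι ≫ pullback.snd sX sY) := by
      -- the closed subscheme `J` is the product of the image of `f` with `Y`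
      have e := f.ker.comapIso_inv_subschemeι (pullback.fst sX sY)
      have : Flat (pullback.fst (pullback.fst sX sY) f.ker.subschemeι ≫ pullback.snd sX sY) :=
        MorphismProperty.of_isPullback (P := @Flat)
          ((IsPullback.of_hasPullback (pullback.fst sX sY) f.ker.subschemeι).flip.paste_vert
            (IsPullback.of_hasPullback sX sY)) (MorLib.BF.flat_to_field (Field.toIsField k) (f.ker.subschemeι ≫ sX))
      rw [← e, Category.assoc] at this
      exact (MorphismProperty.cancel_left_of_respectsIso @Flat _ _).1 this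
    have h3 := ker_of_isPullback sq₃
    rw [Scheme.IdealSheafData.comap_comp] at h3
    rw [Scheme.IdealSheafData.map, ← h3, ← Scheme.IdealSheafData.map_ker, ← Scheme.Hom.ker_comp]
    rw [← Scheme.IdealSheafData.comapIso_hom_fst, Category.assoc, Scheme.Hom.ker_comp_of_isIso,
      pullback.condition]
    exact Scheme.Hom.ker_comp _ _
  calc F.ker = F₁.ker.map F₂ := by rw [hF, Scheme.Hom.ker_comp]
    _ = (J.comap F₂).map F₂ := by rw [h1]
    _ = ((g.ker.comap (pullback.snd sX sY)).comap J.subschemeι).map J.subschemeι := h2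
    _ = g.ker.comap (pullback.snd sX sY) ⊔ J.subschemeι.ker := map_comap_eq_sup _ _
    _ = _ := by rw [Scheme.IdealSheafData.ker_subschemeι, sup_comm]

end Groth.Agent.S7631
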