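import Groth.Statements.S7632
import Groth.Agent.S1456
import Groth.Agent.H23.RedSub
import Groth.Agent.GrpSchLib.SmoothReduced

set_option autoImplicit false
universe u
open CategoryTheory CategoryTheory.Limits AlgebraicGeometry
open Variety

namespace Groth.Agent.S7632

set_option backward.isDefEq.respectTransparency false
set_option backward.isDefEq.respectTransparency.types false
set_option linter.style.haveILetI false

/-- A universally injective extension of fields is purely inseparable. -/
theorem isPurelyInseparable_of_universallyInjective (k K : Type u) [Field k] [Field K] [Algebra k K]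
    [UniversallyInjective (Spec.map (CommRingCat.ofHom (algebraMap k K)))] : IsPurelyInseparable k K := by
  rw [isPurelyInseparable_iff_subsingleton_emb, subsingleton_iff]
  intro σ₁ σ₂
  have hi : UniversallyInjective (Spec.map (CommRingCat.ofHom (algebraMap k K))) := inferInstance
  have h := ((tfae_universallyInjective (Spec.map (CommRingCat.ofHom (algebraMap k K)))).out 0 1).1 hi
  have h2 : Spec.map (CommRingCat.ofHom σ₁.toRingHom) = Spec.map (CommRingCat.ofHom σ₂.toRingHom) :=
    h (AlgebraicClosure K) (by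
      show Spec.map (CommRingCat.ofHom σ₁.toRingHom) ≫ Spec.map (CommRingCat.ofHom (algebraMap k K)) =
        Spec.map (CommRingCat.ofHom σ₂.toRingHom) ≫ Spec.map (CommRingCat.ofHom (algebraMap k K))
      rw [← Spec.map_comp, ← Spec.map_comp]
      congr 1
      exact CommRingCat.hom_ext (σ₁.comp_algebraMap.trans σ₂.comp_algebraMap.symm))
  exact AlgHom.coe_ringHom_injective (congrArg CommRingCat.Hom.hom (Spec.map_injective h2))

/-- Pulling back a smooth stratum and reducing. -/
theorem smooth_reduced_stratum {P B : Scheme.{u}} {V : Scheme.{u}} (pr : P ⟶ V) {k' : Type u} [Field k']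
    (r : Spec (CommRingCat.of k') ⟶ V) (π : B ⟶ P) (q : B ⟶ Spec (CommRingCat.of k')) (hsq : IsPullback π q pr r)
    (J J' : P.IdealSheafData) (I I' : B.IdealSheafData)
    (hI : I = Scheme.IdealSheafData.vanishingIdeal (J.support.preimage π.continuous))
    (hI' : I' = Scheme.IdealSheafData.vanishingIdeal (J'.support.preimage π.continuous))
    (hsm : Smooth ((J.subschemeι ⁻¹ᵁ J'.support.compl).ι ≫ J.subschemeι ≫ pr)) :
    Smooth ((I.subschemeι ⁻¹ᵁ I'.support.compl).ι ≫ I.subschemeι ≫ q) := by
  let S := (J.subschemeι ⁻¹ᵁ J'.support.compl)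
  let j : (S : Scheme.{u}) ⟶ P := S.ι ≫ J.subschemeι
  let i₁ : pullback j π ⟶ B := pullback.snd j π
  haveI : IsImmersion i₁ := inferInstance
  have hsm₁ : Smooth (i₁ ≫ q) := by
    have h := (IsPullback.of_hasPullback j π).paste_vert hsq
    haveI : Smooth (j ≫ pr) := by simpa only [j, Category.assoc] using hsm
    exact MorphismProperty.of_isPullback h ‹Smooth (j ≫ pr)›
  haveI : IsReduced (pullback j π) := GrpSchLib.isReduced_of_smooth_field (i₁ ≫ q)
  let T := (I.subschemeι ⁻¹ᵁ I'.support.compl)
  let i₂ : (T : Scheme.{u}) ⟶ B := T.ι ≫ I.subschemeι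
  haveI : IsReduced I.subscheme := by rw [hI]; infer_instance
  have hr : Set.range i₁ = Set.range i₂ := by
    rw [Scheme.Pullback.range_snd]
    simp only [i₂, j, Scheme.Hom.comp_base, TopCat.coe_comp, Set.range_comp, Scheme.Opens.range_ι, S, T]
    show _ ⁻¹' (J.subschemeι '' (J.subschemeι ⁻¹' ((J'.support : Set P)ᶜ))) =
      I.subschemeι '' (I.subschemeι ⁻¹' ((I'.support : Set B)ᶜ))
    rw [Set.image_preimage_eq_inter_range, Set.image_preimage_eq_inter_range,
      Scheme.IdealSheafData.range_subschemeι, Scheme.IdealSheafData.range_subschemeι, hI, hI',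
      Scheme.IdealSheafData.coe_support_vanishingIdeal, Scheme.IdealSheafData.coe_support_vanishingIdeal]
    rfl
  obtain ⟨e, he⟩ := H23.RedSub.exists_iso_of_range_eq i₂ i₁ hr.symm
  have : T.ι ≫ I.subschemeι ≫ q = e.hom ≫ (i₁ ≫ q) := by
    rw [← Category.assoc, ← Category.assoc, he]
  rw [this]
  infer_instance

/-- Let X be a scheme of finite type over a field k. Then one can find a finite purely inseparable field
extension k'/k, some t ≥ 0, and a descending chain Z_0 ⊇ … ⊇ Z_t = ∅ of closed subschemes of X_{k'},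
given by an increasing chain of quasi-coherent ideal sheaves I_0 ≤ … ≤ I_t = O on X_{k'}, such that
Z_0 = (X_{k'})_red (I_0 is the ideal of nilpotents) and the open subscheme Z_i ∖ Z_{i+1} of Z_i is
smooth over k' for every i < t. -/
theorem result (k : Type u) [Field k] (X : Scheme.{u}) [X.Over (Spec (CommRingCat.of k))] [LocallyOfFiniteType (X ↘ (Spec (CommRingCat.of k)))] [QuasiCompact (X ↘ (Spec (CommRingCat.of k)))] :
    ∃ (k' : Type u) (_ : Field k') (_ : Algebra k k') (_ : FiniteDimensional k k') (_ : IsPurelyInseparable k k')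
      (t : ℕ) (I : Fin (t + 1) → (Curv2.bc k X k').IdealSheafData),
      Monotone I ∧ I 0 = Scheme.IdealSheafData.vanishingIdeal ⊤ ∧ I (Fin.last t) = ⊤ ∧
        ∀ i : Fin t,
          Smooth (((I i.castSucc).subschemeι ⁻¹ᵁ (I i.succ).support.compl).ι ≫ (I i.castSucc).subschemeι ≫ Curv2.bcSnd k X k') := by
  set s := X ↘ Spec (CommRingCat.of k) with hs
  haveI : IsLocallyNoetherian X := LocallyOfFiniteType.isLocallyNoetherian s
  haveI : QuasiSeparated s := (quasiSeparated_iff_quasiSeparatedSpace s).2 inferInstance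
  haveI : LocallyOfFinitePresentation s := inferInstance
  haveI : Subsingleton ↑(Spec (CommRingCat.of k)) := inferInstanceAs (Subsingleton (PrimeSpectrum k))
  let η : ↑(Spec (CommRingCat.of k)) := IsLocalRing.closedPoint k
  have hW : (Set.univ : Set ↑(Spec (CommRingCat.of k))) ∈ irreducibleComponents ↑(Spec (CommRingCat.of k)) := by
    rw [irreducibleComponents_eq_singleton]; rfl
  obtain ⟨U, V, v, hηU, hvs, hvi, ⟨hvfin, -, -⟩, t, J, hJm, hJl, hJs, -, hJsm⟩ :=
    S1456.result s η Set.univ hW (Set.eq_univ_of_forall fun z => by rw [Subsingleton.elim z η]; exact subset_closure rfl)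
  have hU : U = ⊤ := eq_top_iff.2 fun z _ => by rw [Subsingleton.elim z η]; exact hηU
  haveI : IsIso U.ι := by subst hU; exact inferInstanceAs (IsIso (Scheme.topIso _).hom)
  haveI : IsFinite (v ≫ U.ι) := inferInstance
  haveI : UniversallyInjective (v ≫ U.ι) := MorphismProperty.comp_mem _ _ _ hvi inferInstance
  obtain ⟨v₀, -⟩ := hvs.surj ⟨η, hηU⟩
  haveI : Subsingleton ↑V := ⟨fun a b => (v ≫ U.ι).injective (Subsingleton.elim _ _)⟩
  let r := V.fromSpecResidueField v₀
  haveI : IsClosedImmersion r :=
    isClosed_singleton_iff_isClosedImmersion.mp (by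
      rw [Set.Subsingleton.eq_singleton_of_mem Set.subsingleton_univ (Set.mem_univ v₀) |>.symm]
      exact isClosed_univ)
  obtain ⟨ψ, hψ⟩ := Spec.map_surjective (r ≫ (v ≫ U.ι))
  letI : Algebra k (V.residueField v₀) := ψ.hom.toAlgebra
  have hψ' : Spec.map (CommRingCat.ofHom (algebraMap k (V.residueField v₀))) = r ≫ (v ≫ U.ι) := hψ
  haveI : UniversallyInjective (Spec.map (CommRingCat.ofHom (algebraMap k (V.residueField v₀)))) := by
    rw [hψ']; exact MorphismProperty.comp_mem _ _ _ inferInstance ‹UniversallyInjective (v ≫ U.ι)›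
  haveI : FiniteDimensional k (V.residueField v₀) := by
    rw [FiniteDimensional, ← RingHom.finite_algebraMap]
    exact (IsFinite.SpecMap_iff ψ).1 (show IsFinite (Spec.map ψ) by rw [hψ]; infer_instance)
  refine ⟨V.residueField v₀, inferInstance, inferInstance, inferInstance,
    isPurelyInseparable_of_universallyInjective k _, t, ?_⟩
  let π : Curv2.bc k X (V.residueField v₀) ⟶ pullback s (v ≫ U.ι) :=
    pullback.map _ _ _ _ (𝟙 X) r (𝟙 _) (by rw [Category.comp_id, Category.id_comp]) (by rw [Category.comp_id, hψ'])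
  have hsq : IsPullback π (Curv2.bcSnd k X (V.residueField v₀)) (pullback.snd s (v ≫ U.ι)) r := by
    refine IsPullback.of_right ?_ (pullback.lift_snd _ _ _) (IsPullback.of_hasPullback s (v ≫ U.ι))
    rw [pullback.lift_fst, Category.comp_id, ← hψ']
    exact IsPullback.of_hasPullback _ _
  let I : Fin (t + 1) → (Curv2.bc k X (V.residueField v₀)).IdealSheafData := fun i =>
    Scheme.IdealSheafData.vanishingIdeal ((J i).support.preimage π.continuous)
  refine ⟨I, fun a b hab => ?_, ?_, ?_, fun i =>
    smooth_reduced_stratum (pullback.snd s (v ≫ U.ι)) r π _ hsq _ _ _ _ rfl rfl (hJsm i)⟩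
  · exact Scheme.IdealSheafData.vanishingIdeal_antimono (Set.preimage_mono (f := π) (SetLike.coe_subset_coe.2 (Scheme.IdealSheafData.support_antitone (hJm hab))))
  · show Scheme.IdealSheafData.vanishingIdeal _ = _
    congr 1
    refine TopologicalSpace.Closeds.ext ?_
    show π ⁻¹' ((J 0).support : Set ↑(pullback s (v ≫ U.ι))) = Set.univ
    rw [hJs]; rfl
  · show Scheme.IdealSheafData.vanishingIdeal _ = ⊤
    rw [← Scheme.IdealSheafData.vanishingIdeal_bot]
    congr 1
    refine TopologicalSpace.Closeds.ext ?_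
    show π ⁻¹' ((J (Fin.last t)).support : Set ↑(pullback s (v ≫ U.ι))) = ∅
    rw [hJl]; simp

end Groth.Agent.S7632
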