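import Mathlib

/-!
# Closed embeddings into standard smooth algebras (finite type case)
-/

universe u

open TensorProduct

set_option autoImplicit false
set_option linter.style.haveILetI false

namespace Groth.Agent.StdSmCover

variable {A B : Type u} [CommRing A] [CommRing B] [Algebra A B]

open MvPolynomial in
/-- Locally, an algebra of finite presentation is a quotient of a smooth one whose relative dimension is
the rank of the differentials at the point. -/
theorem exists_standardSmooth_cover [Algebra.FiniteType A B] (q : Ideal B) [q.IsPrime] (r : ℕ)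
    (hr : Module.finrank q.ResidueField (q.ResidueField ⊗[B] Ω[B⁄A]) = r) :
    ∃ δ : B, δ ∉ q ∧ ∃ (E : Type u) (_ : CommRing E) (_ : Algebra A E),
      Algebra.IsStandardSmoothOfRelativeDimension r A E ∧
      ∃ φ : E →ₐ[A] Localization.Away δ, Function.Surjective φ := by
  classical
  obtain ⟨n, π, hπ⟩ := Algebra.FiniteType.iff_quotient_mvPolynomial''.1 (inferInstance : Algebra.FiniteType A B)
  let κ := q.ResidueField
  let P := MvPolynomial (Fin n) A
  let ev : P →ₐ[A] κ := (IsScalarTower.toAlgHom A B κ).comp π
  let J : P → (Fin n → κ) := fun p i => ev (pderiv i p)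
  let L : (Fin n → κ) →ₗ[κ] κ ⊗[B] Ω[B⁄A] :=
    (Pi.basisFun κ (Fin n)).constr κ fun i => (1 : κ) ⊗ₜ[B] KaehlerDifferential.D A B (π (X i))
  have hev : ∀ p, ev p = algebraMap B κ (π p) := fun _ => rfl
  have hsmul : ∀ (b : B) (z : κ ⊗[B] Ω[B⁄A]), b • z = algebraMap B κ b • z := fun b z =>
    (IsScalarTower.algebraMap_smul κ b z).symm
  have hLJ : ∀ p, L (J p) = (1 : κ) ⊗ₜ[B] KaehlerDifferential.D A B (π p) := by
    intro p
    induction p using MvPolynomial.induction_on with
    | C a =>
      rw [show J (C a) = 0 from funext fun i => by simp [J, pderiv_C], map_zero,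
        show π (C a) = algebraMap A B a from π.commutes a, Derivation.map_algebraMap, tmul_zero]
    | add p p' hp hp' =>
      rw [show J (p + p') = J p + J p' from funext fun i => by simp [J], map_add, hp, hp', map_add, map_add,
        tmul_add]
    | mul_X p j hp =>
      have e : J (p * X j) = ev (X j) • J p + ev p • Pi.single j 1 := funext fun i => by
        simp only [J, Pi.add_apply, Pi.smul_apply, smul_eq_mul, Derivation.leibniz, map_add, map_mul]
        by_cases h : i = j
        · subst h
          rw [pderiv_X_self, map_one, Pi.single_eq_same]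
          ring
        · rw [pderiv_X_of_ne (Ne.symm h), map_zero, Pi.single_eq_of_ne h]
          ring
      have hL1 : L (Pi.single j 1) = (1 : κ) ⊗ₜ[B] KaehlerDifferential.D A B (π (X j)) := by
        show L _ = _
        rw [← Pi.basisFun_apply]
        exact Module.Basis.constr_basis _ _ _ j
      rw [e, map_add, map_smul, map_smul, hp, hL1, hev, hev, map_mul π, Derivation.leibniz, tmul_add,
        tmul_smul, tmul_smul, hsmul, hsmul, add_comm]
  have hLsurj : Function.Surjective L := by
    rw [← LinearMap.range_eq_top, eq_top_iff, ← Submodule.baseChange_top,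
      ← KaehlerDifferential.span_range_derivation, Submodule.baseChange_span, Submodule.span_le]
    rintro _ ⟨_, ⟨b, rfl⟩, rfl⟩
    obtain ⟨p, rfl⟩ := hπ b
    exact ⟨J p, hLJ p⟩
  let N := Submodule.span κ (J '' (RingHom.ker π : Set P))
  have hker : LinearMap.ker L ≤ N := by
    let Q := (Fin n → κ) ⧸ N
    obtain ⟨s, hs⟩ := Function.Surjective.hasRightInverse hπ
    have hw : ∀ p p', π p = π p' → N.mkQ (J p) = N.mkQ (J p') := fun p p' h => by
      refine (Submodule.Quotient.eq N).2 (Submodule.subset_span ⟨p - p', ?_, funext fun i => by simp [J]⟩)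
      simp [RingHom.mem_ker, h]
    have hsm : ∀ (b : B) (x : Q), b • x = algebraMap B κ b • x := fun b x => (IsScalarTower.algebraMap_smul κ b x).symm
    let D : Derivation A B Q := Derivation.mk'
      { toFun := fun b => N.mkQ (J (s b))
        map_add' := fun b b' => by
          rw [← map_add, hw _ (s b + s b') (by rw [hs, map_add, hs, hs])]
          congr 1
          exact funext fun i => by simp [J]
        map_smul' := fun a b => by
          rw [hw _ (a • s b) (by rw [hs, map_smul, hs]), RingHom.id_apply,
            ← IsScalarTower.algebraMap_smul κ a (N.mkQ (J (s b))), ← map_smul]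
          congr 1
          exact funext fun i => by
            exact (congrArg ev ((pderiv i).map_smul a (s b))).trans (((map_smul ev a _).trans (IsScalarTower.algebraMap_smul κ a _).symm)) }
      (fun b b' => by
        show N.mkQ (J (s (b * b'))) = b • N.mkQ (J (s b')) + b' • N.mkQ (J (s b))
        rw [hw _ (s b * s b') (by rw [hs, map_mul, hs, hs]), hsm, hsm, ← map_smul, ← map_smul, ← map_add]
        congr 1
        exact funext fun i => by
          simp [J, hev, hs b, hs b', Algebra.smul_def])
    let g : κ ⊗[B] Ω[B⁄A] →ₗ[κ] Q := D.liftKaehlerDifferential.liftBaseChange κ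
    have hgD : ∀ b, g ((1 : κ) ⊗ₜ[B] KaehlerDifferential.D A B b) = N.mkQ (J (s b)) := fun b => by
      simp [g, D]
    have hgL : g ∘ₗ L = N.mkQ := by
      refine (Pi.basisFun κ (Fin n)).ext fun i => ?_
      rw [LinearMap.comp_apply, Module.Basis.constr_basis, hgD, hw _ (X i) (hs _)]
      congr 1
      exact funext fun j => by simp [J, Pi.basisFun_apply, Pi.single_apply, pderiv_X, eq_comm]
    intro v hv
    rw [← Submodule.ker_mkQ N, LinearMap.mem_ker, ← hgL, LinearMap.comp_apply, LinearMap.mem_ker.1 hv, map_zero]
  have hrn := LinearMap.finrank_range_add_finrank_ker L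
  rw [LinearMap.range_eq_top.2 hLsurj, finrank_top, hr, Module.finrank_pi, Fintype.card_fin] at hrn
  obtain ⟨S, hS, hSspan, hSli⟩ := exists_linearIndependent κ (J '' (RingHom.ker π : Set P))
  have hSfin : S.Finite := hSli.setFinite
  have : Fintype S := hSfin.fintype
  let c := n - r
  have hcard : c ≤ Fintype.card S := by
    have h1 := finrank_span_set_eq_card hSli
    rw [hSspan] at h1
    have h2 := Submodule.finrank_mono hker
    rw [Set.toFinset_card] at h1
    have h3 : Module.finrank κ N = Fintype.card S := h1
    omega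
  obtain ⟨emb⟩ := Function.Embedding.nonempty_of_card_le (α := Fin c) (β := S) (by simpa using hcard)
  choose f hfI hfJ using fun j => hS (emb j).2
  have hrow : LinearIndependent κ fun j => J (f j) := by
    rw [show (fun j => J (f j)) = (Subtype.val : S → _) ∘ emb from funext hfJ]
    exact hSli.comp _ emb.injective
  let M : Matrix (Fin c) (Fin n) κ := fun j i => J (f j) i
  have hMr : M.rank = c := by
    have : LinearIndependent κ M.row := hrow
    simpa using this.rank_matrix
  obtain ⟨T, a, ha, hspan, hli⟩ := exists_linearIndependent' κ M.col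
  have : Fintype T := Fintype.ofInjective a ha
  have hT : Fintype.card T = c := by
    rw [← finrank_span_eq_card hli, hspan, ← Matrix.rank_eq_finrank_span_cols, hMr]
  let σ : Fin c → Fin n := a ∘ (Fintype.equivFinOfCardEq hT).symm
  have hσ : Function.Injective σ := ha.comp (Equiv.injective _)
  have hdet : IsUnit (M.submatrix id σ).det := by
    rw [← Matrix.isUnit_iff_isUnit_det, ← Matrix.linearIndependent_cols_iff_isUnit]
    exact hli.comp _ (Equiv.injective _)
  -- the smooth algebra
  let P0 := Algebra.PreSubmersivePresentation.naive (v := f) σ hσ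
  let R0 := P ⧸ Ideal.span (Set.range f)
  let Jc : R0 := P0.jacobian
  let E := Localization.Away Jc
  let P1 := (Algebra.PreSubmersivePresentation.localizationAway (R := R0) E Jc).comp P0
  have hu : IsUnit P1.jacobian := by
    rw [Algebra.PreSubmersivePresentation.comp_jacobian_eq_jacobian_smul_jacobian,
      Algebra.PreSubmersivePresentation.localizationAway_jacobian, Algebra.smul_def]
    exact (IsLocalization.Away.algebraMap_isUnit Jc).mul (IsLocalization.Away.algebraMap_isUnit Jc)
  let P2 : Algebra.SubmersivePresentation A E (Unit ⊕ Fin n) (Unit ⊕ Fin c) := ⟨P1, hu⟩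
  have hdim : P2.dimension = r := by
    show Nat.card (Unit ⊕ Fin n) - Nat.card (Unit ⊕ Fin c) = r
    rw [Nat.card_sum, Nat.card_sum, Nat.card_fin, Nat.card_fin]
    omega
  have hE : Algebra.IsStandardSmoothOfRelativeDimension r A E := P2.isStandardSmoothOfRelativeDimension hdim
  let φ0 : R0 →ₐ[A] B := Ideal.Quotient.liftₐ _ π fun x hx => by
    refine (Ideal.span_le.2 ?_ : Ideal.span (Set.range f) ≤ RingHom.ker π) hx
    rintro _ ⟨j, rfl⟩
    exact hfI j
  let δ := φ0 Jc
  have hδ : δ ∉ q := by
    intro h
    refine hdet.ne_zero ?_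
    have h1 : algebraMap B κ δ = ev P0.jacobiMatrix.det := by
      rw [show δ = φ0 (Ideal.Quotient.mk _ P0.jacobiMatrix.det) from
        congrArg φ0 P0.jacobian_eq_jacobiMatrix_det]
      rfl
    rw [← Matrix.det_transpose, show (M.submatrix id σ).transpose = P0.jacobiMatrix.map ev from ?_,
      ← AlgHom.mapMatrix_apply, ← AlgHom.map_det, ← h1]
    · exact Ideal.algebraMap_residueField_eq_zero.2 h
    ext i j
    simp [P0, M, J, Algebra.PreSubmersivePresentation.jacobiMatrix_naive]
  refine ⟨δ, hδ, E, inferInstance, inferInstance, hE, ?_⟩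
  let φ1 : R0 →ₐ[A] Localization.Away δ := (IsScalarTower.toAlgHom A B _).comp φ0
  let φ : E →ₐ[A] Localization.Away δ := IsLocalization.Away.liftAlgHom Jc (f := φ1)
    (IsLocalization.Away.algebraMap_isUnit δ : IsUnit (algebraMap B (Localization.Away δ) δ))
  have hφ : ∀ x, φ (algebraMap R0 E x) = algebraMap B _ (φ0 x) := fun x => by
    simp [φ, φ1]
  have hsurj : Function.Surjective φ := by
    intro y
    obtain ⟨m, b, hb⟩ := IsLocalization.Away.surj δ y
    obtain ⟨p, hp⟩ := hπ b
    obtain ⟨e, he⟩ := IsLocalization.Away.algebraMap_isUnit (S := E) Jc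
    refine ⟨algebraMap R0 E (Ideal.Quotient.mk _ p) * (↑(e⁻¹) : E) ^ m, ?_⟩
    have hv : φ (↑(e⁻¹) : E) * algebraMap B (Localization.Away δ) δ = 1 := by
      rw [← hφ Jc, ← he, ← map_mul, Units.inv_mul, map_one]
    rw [map_mul, map_pow, hφ, show φ0 (Ideal.Quotient.mk _ p) = b from hp, ← hb, mul_assoc, ← mul_pow,
      mul_comm _ (φ _), hv, one_pow, mul_one]
  exact ⟨φ, hsurj⟩

end Groth.Agent.StdSmCover
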