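import Groth.Statements.S7635
import Groth.Agent.KunnethDiag.Main

set_option autoImplicit false
universe u
open CategoryTheory CategoryTheory.Limits AlgebraicGeometry
open scoped TensorProduct
open Variety

namespace Groth.Agent.S7635

/-- Let X and Y be quasi-compact schemes over a field k whose diagonal morphisms over k are affine (for
instance X and Y separated over k), F a quasi-coherent O_X-module and G a quasi-coherent O_Y-module.
Then for every n ≥ 0 the k-vector space H^n(X ×_k Y, pr_1^*F ⊗ pr_2^*G) is isomorphic to ⊕_{p+q=n}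
H^p(X, F) ⊗_k H^q(Y, G). (The published statement asserts that the canonical map built from
pullbacks and cup products is an isomorphism; this row asserts only that some k-linear isomorphism
exists.) -/
theorem result (k : Type u) [Field k] (X : Scheme.{u}) [X.Over (Spec (CommRingCat.of k))] [CompactSpace ↥X] [IsAffineHom (pullback.diagonal (X ↘ (Spec (CommRingCat.of k))))]
    (Y : Scheme.{u}) [Y.Over (Spec (CommRingCat.of k))] [CompactSpace ↥Y] [IsAffineHom (pullback.diagonal (Y ↘ (Spec (CommRingCat.of k))))]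
    (F : X.Modules) (hF : Coh.IsQCoh F) (G : Y.Modules) (hG : Coh.IsQCoh G) (n : ℕ) :
    letI : (pullback (X ↘ (Spec (CommRingCat.of k))) (Y ↘ (Spec (CommRingCat.of k)))).Over (Spec (CommRingCat.of k)) := ⟨pullback.fst (X ↘ (Spec (CommRingCat.of k))) (Y ↘ (Spec (CommRingCat.of k))) ≫ (X ↘ (Spec (CommRingCat.of k)))⟩
    Nonempty ((Π p : Fin (n + 1), Coh.HH X F (p : ℕ) ⊗[k] Coh.HH Y G (n - (p : ℕ))) ≃ₗ[k]
      Coh.HH (pullback (X ↘ (Spec (CommRingCat.of k))) (Y ↘ (Spec (CommRingCat.of k)))) (CohB1.tensorMod ((Scheme.Modules.pullback (pullback.fst (X ↘ (Spec (CommRingCat.of k))) (Y ↘ (Spec (CommRingCat.of k))))).obj F)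
        ((Scheme.Modules.pullback (pullback.snd (X ↘ (Spec (CommRingCat.of k))) (Y ↘ (Spec (CommRingCat.of k))))).obj G)) n) := by
  exact Groth.Agent.KunnethDiag.nonempty_kunneth (A := k) (X₁ := X) (X₂ := Y) hF hG n

end Groth.Agent.S7635
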