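import Groth.Statements.S7639
import Groth.Agent.GeomField.GlobalFunctions

set_option autoImplicit false
set_option linter.style.haveILetI false
universe u
open CategoryTheory CategoryTheory.Limits AlgebraicGeometry
attribute [local instance] Curv2.resAlgebra
open Variety

namespace Groth.Agent.S7639


namespace GlobDvd

open CategoryTheory AlgebraicGeometry

attribute [local instance] Groth.Agent.GeomField.globalAlgebra

theorem finrank_dvd_HH (k : Type u) [Field k] (X : Scheme.{u}) [X.Over (Spec (CommRingCat.of k))]
    [UniversallyClosed (X ↘ Spec (CommRingCat.of k))] [IsReduced X] [ConnectedSpace X]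
    (F : X.Modules) (i : ℕ) :
    Module.finrank k Γ(X, ⊤) ∣ Module.finrank k (Coh.HH X F i) := by
  let := (Groth.Agent.GeomField.isField_globalFunctions k X).toField
  let _ : Module Γ(X, ⊤) (Coh.HH X F i) :=
    (inferInstance : Module (Coh.Γtop X) (Coh.HH X F i))
  have : IsScalarTower k Γ(X, ⊤) (Coh.HH X F i) := IsScalarTower.of_algebraMap_smul fun _ _ => rfl
  exact ⟨_, (Module.finrank_mul_finrank k Γ(X, ⊤) (Coh.HH X F i)).symm⟩

theorem finrank_dvd_euler (k : Type u) [Field k] (X : Scheme.{u}) [X.Over (Spec (CommRingCat.of k))]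
    [UniversallyClosed (X ↘ Spec (CommRingCat.of k))] [IsReduced X] [ConnectedSpace X]
    (F : X.Modules) :
    (Module.finrank k Γ(X, ⊤) : ℤ) ∣ Curv2.euler k X F := by
  unfold Curv2.euler
  refine finsum_induction (fun z : ℤ => (Module.finrank k Γ(X, ⊤) : ℤ) ∣ z) (dvd_zero _)
    (fun a b => dvd_add) fun i => Dvd.dvd.mul_left (Int.natCast_dvd_natCast.2 ?_) _
  exact finrank_dvd_HH k X F i

end GlobDvd

/-- Let X be a proper scheme over a field k which is reduced and connected, and let κ = Γ(X, O_X). Then
κ is a field, finite over k, and w = [κ : k] divides (1) the degree of every finite locally free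
module of constant rank, (2) the degree [κ(x) : k] of every closed point x, and (3) the degree dim_k
H^0(X, O_D) of every closed subscheme D of dimension zero (or empty). (The published statement uses
the degree of E, which it defines only for X of dimension at most one; this row states (1) for the
integer χ(E) − n·χ(O_X) with no bound on the dimension of X.) -/
theorem result (k : Type u) [Field k] (X : Scheme.{u}) [X.Over (Spec (CommRingCat.of k))] [IsProper (X ↘ (Spec (CommRingCat.of k)))] [IsReduced X] [ConnectedSpace X] :
    letI : Algebra k Γ(X, ⊤) := ((X ↘ (Spec (CommRingCat.of k))).appTop.hom.comp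
      (Scheme.ΓSpecIso (CommRingCat.of k)).inv.hom).toAlgebra
    IsField Γ(X, ⊤) ∧ Module.Finite k Γ(X, ⊤) ∧
      (∀ (n : ℕ) (E : X.Modules), FlatMod.IsFinLocFreeOfRank n E →
        (Module.finrank k Γ(X, ⊤) : ℤ) ∣ Curv2.deg k X E n) ∧
      (∀ x : X, IsClosed ({x} : Set X) →
        Module.finrank k Γ(X, ⊤) ∣ Module.finrank k (X.residueField x)) ∧
      (∀ D : X.IdealSheafData, topologicalKrullDim D.subscheme ≤ 0 →
        Module.finrank k Γ(X, ⊤) ∣ Module.finrank k (Coh.HH X (ClSub.quotMod D) 0)) := by
  letI := Groth.Agent.GeomField.globalAlgebra k X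
  refine ⟨Groth.Agent.GeomField.isField_globalFunctions k X,
    Groth.Agent.GeomField.finite_globalFunctions k X, fun n E _ => ?_, fun x _ => ?_,
    fun D _ => GlobDvd.finrank_dvd_HH k X _ 0⟩
  · unfold Curv2.deg
    exact dvd_sub (GlobDvd.finrank_dvd_euler k X E)
      (Dvd.dvd.mul_left (GlobDvd.finrank_dvd_euler k X _) _)
  · let := (Groth.Agent.GeomField.isField_globalFunctions k X).toField
    let ev := Groth.Agent.GeomField.evalHom k X x
    let _ : Algebra Γ(X, ⊤) (X.residueField x) := ev.toRingHom.toAlgebra
    have : IsScalarTower k Γ(X, ⊤) (X.residueField x) :=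
      IsScalarTower.of_algebraMap_eq fun c => (ev.commutes c).symm
    exact ⟨_, (Module.finrank_mul_finrank k Γ(X, ⊤) (X.residueField x)).symm⟩

end Groth.Agent.S7639
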