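import Groth.Statements.S7643
import Groth.Agent.Lib.CurvePsi

set_option autoImplicit false
set_option linter.style.haveILetI false
universe u
open CategoryTheory CategoryTheory.Limits AlgebraicGeometry
open Variety

namespace Groth.Agent.S7643

/-- Let X be proper of dimension at most one over a field k and let 0 → E₁ → E₂ → E₃ → 0 be a short
exact sequence of finite locally free modules of constant ranks n₁, n₂, n₃. Then deg(E₂) = deg(E₁) +
deg(E₃). -/
theorem result (k : Type u) [Field k] (X : Scheme.{u}) [X.Over (Spec (CommRingCat.of k))] [IsProper (X ↘ (Spec (CommRingCat.of k)))]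
    (hdim : topologicalKrullDim X ≤ 1) (S : ShortComplex X.Modules) (hS : S.ShortExact)
    (n₁ n₂ n₃ : ℕ) (h₁ : FlatMod.IsFinLocFreeOfRank n₁ S.X₁) (h₂ : FlatMod.IsFinLocFreeOfRank n₂ S.X₂)
    (h₃ : FlatMod.IsFinLocFreeOfRank n₃ S.X₃) :
    Curv2.deg k X S.X₂ n₂ = Curv2.deg k X S.X₁ n₁ + Curv2.deg k X S.X₃ n₃ := by
  haveI := Groth.Agent.CurveCohLib.isNoetherian_of_proper (k := k) (X := X)
  have hc : ∀ {n : ℕ} {M : X.Modules}, FlatMod.IsFinLocFreeOfRank n M → Coh.IsCoh M := fun {n M} h =>
    Groth.Agent.CurveDeg.isCoh_of_isFinLocFree fun x => let ⟨U, hx, e⟩ := h x; ⟨U, n, hx, e⟩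
  have he := Groth.Agent.Euler.euler_add k hS (hc h₁) (hc h₂) (hc h₃)
  rcases isEmpty_or_nonempty X with hX | ⟨⟨x⟩⟩
  · have h0 : ∀ M : X.Modules, Curv2.euler k X M = 0 := fun M =>
      (by rw [Groth.Agent.Euler.euler_eq_sum k M 0 fun i _ => Groth.Agent.Euler.subsingleton_HH_of_isZero (Groth.Agent.KFlatLib.isZero_of_stalk M fun x => hX.elim x) i, Finset.sum_range_zero])
    simp [Curv2.deg, h0]
  · obtain ⟨b₁⟩ := Groth.Agent.CurveTensor.exists_basis_stalk h₁ x
    obtain ⟨b₂⟩ := Groth.Agent.CurveTensor.exists_basis_stalk h₂ x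
    obtain ⟨b₃⟩ := Groth.Agent.CurveTensor.exists_basis_stalk h₃ x
    have hx := hS.map_of_exact (DerSch.stalkFunctor X x)
    have hinj : Function.Injective (Algz.stalkMapₗ S.f x) :=
      (ModuleCat.mono_iff_injective _).1 hx.mono_f
    have hsurj : Function.Surjective (Algz.stalkMapₗ S.g x) :=
      (ModuleCat.epi_iff_surjective _).1 hx.epi_g
    have hex : Function.Exact (Algz.stalkMapₗ S.f x) (Algz.stalkMapₗ S.g x) :=
      LinearMap.exact_iff.2 (ShortComplex.Exact.moduleCat_range_eq_ker hx.exact).symm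
    haveI : Module.Free (X.presheaf.stalk x) (S.X₃.presheaf.stalk x) := Module.Free.of_basis b₃
    haveI : Module.Finite (X.presheaf.stalk x) (S.X₁.presheaf.stalk x) := Module.Finite.of_basis b₁
    haveI : Module.Finite (X.presheaf.stalk x) (S.X₃.presheaf.stalk x) := Module.Finite.of_basis b₃
    haveI : Module.Free (X.presheaf.stalk x) (S.X₁.presheaf.stalk x) := Module.Free.of_basis b₁
    obtain ⟨e, -⟩ := hex.splitSurjectiveEquiv hinj ⟨_, (Classical.choose_spec
      (Module.projective_lifting_property (Algz.stalkMapₗ S.g x) LinearMap.id hsurj))⟩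
    have hn := e.finrank_eq
    rw [Module.finrank_prod, Module.finrank_eq_card_basis b₁, Module.finrank_eq_card_basis b₂,
      Module.finrank_eq_card_basis b₃, Fintype.card_fin, Fintype.card_fin, Fintype.card_fin] at hn
    subst hn
    unfold Curv2.deg
    rw [he]
    push_cast
    ring

end Groth.Agent.S7643
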