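import Groth.Statements.S7651
import Groth.Agent.DimOneLoc.Basic

set_option autoImplicit false
universe u
open CategoryTheory CategoryTheory.Limits AlgebraicGeometry
open Variety

namespace Groth.Agent.S7651

open Groth.Agent.DimOneLoc

/-- Let (A, m) be a Noetherian local ring of dimension one and f ∈ m. Then (1) m = √(f), (2) f lies in
no minimal prime of A, and (3) A_f ≅ ∏_{p minimal} A_p as A-algebras, are equivalent; such an f
exists; if A has depth one, for instance if A is reduced, they are also equivalent to (4) f is a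
nonzerodivisor and to (5) A → A_f is the localization of A at all its nonzerodivisors; and if A is
reduced they are also equivalent to (6) A_f ≅ ∏_{p minimal} κ(p) as A-algebras. -/
theorem result (A : Type u) [CommRing A] [IsLocalRing A]
    [IsNoetherianRing A] (hdim : ringKrullDim A = 1) :
    (∃ f ∈ IsLocalRing.maximalIdeal A, ∀ p ∈ minimalPrimes A, f ∉ p) ∧
    ∀ f ∈ IsLocalRing.maximalIdeal A,
      ((IsLocalRing.maximalIdeal A = (Ideal.span {f}).radical) ↔ (∀ p ∈ minimalPrimes A, f ∉ p)) ∧
      ((∀ p ∈ minimalPrimes A, f ∉ p) ↔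
        Nonempty (Localization.Away f ≃ₐ[A] (∀ p : {p : PrimeSpectrum A // p.asIdeal ∈ minimalPrimes A}, Localization.AtPrime p.1.asIdeal))) ∧
      ((LocCoh.depth A A = 1 ∨ IsReduced A) →
        ((∀ p ∈ minimalPrimes A, f ∉ p) ↔ f ∈ nonZeroDivisors A) ∧
        ((∀ p ∈ minimalPrimes A, f ∉ p) ↔ IsLocalization (nonZeroDivisors A) (Localization.Away f))) ∧
      (IsReduced A →
        ((∀ p ∈ minimalPrimes A, f ∉ p) ↔
          Nonempty (Localization.Away f ≃ₐ[A] (∀ p : {p : PrimeSpectrum A // p.asIdeal ∈ minimalPrimes A}, p.1.asIdeal.ResidueField)))) := by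
  classical
  have := Ring.krullDimLE_iff.2 hdim.le
  have hmin : ∀ p ∈ minimalPrimes A, p ≠ IsLocalRing.maximalIdeal A := fun p hp he => by
    have : Ring.KrullDimLE 0 A := .mk₀ fun P hP => by
      obtain ⟨q, hq, hqP⟩ := Ideal.exists_minimalPrimes_le (bot_le : (⊥ : Ideal A) ≤ P)
      have hm : IsLocalRing.maximalIdeal A ≤ q :=
        hp.2 hq.1 (he ▸ IsLocalRing.le_maximalIdeal hq.1.1.ne_top) |> (he ▸ ·)
      rw [le_antisymm (IsLocalRing.le_maximalIdeal hP.ne_top) (hm.trans hqP)]
      infer_instance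
    have h0 := Ring.krullDimLE_iff.1 this
    rw [hdim] at h0
    exact absurd h0 (by decide)
  obtain ⟨f₀, hf₀, hg₀⟩ := exists_good_mem.2 hmin
  refine ⟨⟨f₀, hf₀, hg₀⟩, fun f hf => ?_⟩
  have h12 : IsLocalRing.maximalIdeal A = (Ideal.span {f}).radical ↔ Good f := by
    constructor
    · intro h p hp hfp
      apply hmin p hp
      refine ((IsLocalRing.maximalIdeal.isMaximal A).eq_of_le hp.1.1.ne_top ?_).symm
      rw [h]
      exact hp.1.1.radical_le_iff.2 ((Ideal.span_singleton_le_iff_mem _).2 hfp)
    · intro hg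
      refine le_antisymm (fun x hx => mem_radical_of_not_le
        (fun p hp h => hg p hp (h (Ideal.mem_span_singleton_self f))) hx) ?_
      exact (IsLocalRing.maximalIdeal.isMaximal A).isPrime.radical_le_iff.2
        ((Ideal.span_singleton_le_iff_mem _).2 hf)
  have hunit : IsUnit (algebraMap A (Localization.Away f) f) :=
    IsLocalization.map_units (Localization.Away f) (⟨f, 1, pow_one f⟩ : Submonoid.powers f)
  have h23 : Good f ↔ Nonempty (Localization.Away f ≃ₐ[A]
      (∀ p : {p : PrimeSpectrum A // p.asIdeal ∈ minimalPrimes A}, Localization.AtPrime p.1.asIdeal)) := by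
    constructor
    · intro hg
      have := isLocalization_away hf hg
      exact ⟨IsLocalization.algEquiv (Submonoid.powers f) _ _⟩
    · rintro ⟨e⟩ p hp hfp
      have := (hunit.map e).map (Pi.evalRingHom _
        (⟨⟨p, hp.1.1⟩, hp⟩ : {p : PrimeSpectrum A // p.asIdeal ∈ minimalPrimes A}))
      rw [AlgEquiv.commutes] at this
      have : p.IsPrime := hp.1.1
      exact (IsLocalization.AtPrime.isUnit_to_map_iff (Localization.AtPrime p) p f).1 ‹IsUnit _› hfp
  refine ⟨h12, h23, fun hdepth => ?_, fun hred => ?_⟩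
  · obtain ⟨g, hgm, hgn⟩ : ∃ g ∈ IsLocalRing.maximalIdeal A, g ∈ nonZeroDivisors A := by
      rcases hdepth with hd | hr
      · by_contra! hne
        have h0 : LocCoh.depth A A ≤ 0 := by
          unfold LocCoh.depth LocCoh.idealDepth
          split_ifs with htop
          · exfalso
            apply (IsLocalRing.maximalIdeal.isMaximal A).ne_top
            simpa using htop
          · refine iSup₂_le fun rs hrs => ?_
            rcases rs with _ | ⟨r, rs⟩
            · simp
            · exfalso
              refine hne r (hrs.2 r List.mem_cons_self) (mem_nonZeroDivisors_iff_right.2 fun y hy => ?_)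
              have hr := ((RingTheory.Sequence.isWeaklyRegular_cons_iff A r rs).1 hrs.1).1
              exact hr.right_eq_zero_of_smul (by rw [smul_eq_mul, mul_comm]; exact hy)
        rw [hd] at h0
        exact absurd h0 (by decide)
      · refine ⟨f₀, hf₀, mem_nonZeroDivisors_iff_right.2 fun y hy => ?_⟩
        have : y ∈ sInf (minimalPrimes A) := Submodule.mem_sInf.2 fun p hp =>
          (hp.1.1.mem_or_mem (show y * f₀ ∈ p by rw [hy]; exact p.zero_mem)).resolve_right (hg₀ p hp)
        rwa [minimalPrimes, Ideal.sInf_minimalPrimes, Ideal.radical_bot_of_isReduced, Ideal.mem_bot]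
          at this
    have h24 : Good f ↔ f ∈ nonZeroDivisors A := by
      refine ⟨fun hg => ?_, good_of_mem_nonZeroDivisors⟩
      obtain ⟨n, w, hw⟩ := exists_dvd_pow_of_good hg hgm
      exact (mul_mem_nonZeroDivisors.1 (hw ▸ pow_mem hgn n)).1
    refine ⟨h24, fun hg => ?_, fun hloc p hp hfp => ?_⟩
    · refine IsLocalization.isLocalization_of_is_exists_mul_mem (Localization.Away f)
        (Submonoid.powers f) (nonZeroDivisors A) ?_ fun r => ?_
      · rintro _ ⟨n, rfl⟩
        exact pow_mem (h24.1 hg) n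
      · obtain ⟨n, w, hw⟩ := exists_dvd_pow_of_good (good_of_mem_nonZeroDivisors r.2) hf
        exact ⟨w, n, hw.trans (mul_comm _ _)⟩
    · have : p.IsPrime := hp.1.1
      have hP := IsLocalization.isPrime_of_isPrime_disjoint (nonZeroDivisors A) (Localization.Away f) p
        hp.1.1 (Ideal.disjoint_nonZeroDivisors_of_mem_minimalPrimes hp).symm
      exact hP.ne_top (Ideal.eq_top_of_isUnit_mem _ (Ideal.mem_map_of_mem _ hfp) hunit)
  · have hbij : ∀ p : {p : PrimeSpectrum A // p.asIdeal ∈ minimalPrimes A},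
        Function.Bijective (Algebra.ofId (Localization.AtPrime p.1.asIdeal) p.1.asIdeal.ResidueField) := by
      intro p
      refine ⟨(injective_iff_map_eq_zero _).2 fun x hx => ?_, Ideal.Quotient.mk_surjective⟩
      have hx' : x ∈ IsLocalRing.maximalIdeal _ := Ideal.Quotient.eq_zero_iff_mem.1 hx
      obtain ⟨a, s, rfl⟩ := IsLocalization.exists_mk'_eq p.1.asIdeal.primeCompl x
      rw [IsLocalization.mk'_eq_zero_iff]
      have ha := (IsLocalization.AtPrime.mk'_mem_maximal_iff (Localization.AtPrime p.1.asIdeal)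
        p.1.asIdeal a s).1 hx'
      obtain ⟨y, hy, k, hk⟩ : ∃ y ∉ p.1.asIdeal, ∃ k : ℕ, (y * a) ^ k = 0 := by
        have hnil : IsNilpotent (algebraMap A (Localization.AtPrime p.1.asIdeal) a) := by
          refine nilpotent_iff_mem_prime.2 fun J hJ => ?_
          obtain ⟨h1, h2⟩ :=
            (IsLocalization.isPrime_iff_isPrime_disjoint p.1.asIdeal.primeCompl _ J).1 hJ
          exact p.2.2 ⟨h1, bot_le⟩ (fun y hy => by_contra fun hn => Set.disjoint_left.1 h2 hn hy) ha
        obtain ⟨k, hk⟩ := hnil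
        rw [← map_pow, IsLocalization.map_eq_zero_iff p.1.asIdeal.primeCompl] at hk
        obtain ⟨⟨y, hy⟩, hy'⟩ := hk
        exact ⟨y, hy, k + 1, by rw [mul_pow, pow_succ y, mul_assoc, pow_succ a, ← mul_assoc y,
          show y * a ^ k = 0 from hy', zero_mul, mul_zero]⟩
      exact ⟨⟨y, hy⟩, IsNilpotent.eq_zero ⟨k, hk⟩⟩
    let e := AlgEquiv.piCongrRight fun p : {p : PrimeSpectrum A // p.asIdeal ∈ minimalPrimes A} =>
      ((AlgEquiv.ofBijective _ (hbij p)).restrictScalars A)
    exact h23.trans ⟨fun ⟨g⟩ => ⟨g.trans e⟩, fun ⟨g⟩ => ⟨g.trans e.symm⟩⟩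

end Groth.Agent.S7651
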