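import Groth.Statements.S7653
import Groth.Agent.RedNorm.Basic
import Mathlib.RingTheory.OrderOfVanishing.Noetherian
import Mathlib.RingTheory.KrullDimension.Field
import Mathlib.RingTheory.DiscreteValuationRing.TFAE

set_option autoImplicit false
universe u
open CategoryTheory CategoryTheory.Limits AlgebraicGeometry
open Variety

namespace Groth.Agent.S7653

open Groth.Agent.RedNorm

/-- For a reduced local Nagata ring A of Krull dimension one, the δ-invariant of A is zero exactly when
A is a DVR (in particular a domain). -/
theorem result (A : Type u) [CommRing A] [IsLocalRing A]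
    [IsReduced A] (hN : CAlg.IsNagata A) (hdim : ringKrullDim A = 1) :
    Curv2.deltaInv A = 0 ↔ ∃ _ : IsDomain A, IsDiscreteValuationRing A := by
  obtain ⟨hnoeth, hN2⟩ := hN
  have hd := Ring.krullDimLE_iff.2 hdim.le
  set N := integralClosure A (FractionRing A) with hNdef
  have key : Curv2.deltaInv A = 0 ↔ Function.Surjective (algebraMap A N) := by
    unfold Curv2.deltaInv
    rw [Module.length_eq_zero_iff, Submodule.Quotient.subsingleton_iff,
      LinearMap.range_eq_top]
    rfl
  rw [key]
  constructor
  · intro hs
    have := isDomain_of_surjective A hs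
    refine ⟨this, ?_⟩
    have hnf : ¬ IsField A := fun h => by
      rw [ringKrullDim_eq_zero_of_isField h] at hdim
      exact zero_ne_one hdim
    have hic : IsIntegrallyClosed A := (isIntegrallyClosed_iff (FractionRing A)).2 fun {x} hx => by
      obtain ⟨a, ha⟩ := hs ⟨x, hx⟩
      exact ⟨a, congrArg Subtype.val ha⟩
    have hded : IsDedekindDomain A :=
      { maximalOfPrime := fun h hp => Ring.krullDimLE_one_iff_of_noZeroDivisors.1 hd _ h hp }
    exact ((IsDiscreteValuationRing.TFAE A hnf).out 0 2).2 hded
  · rintro ⟨_, hdvr⟩ x
    obtain ⟨a, ha⟩ := IsIntegrallyClosed.isIntegral_iff.1 (x.2 : IsIntegral A (x : FractionRing A))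
    exact ⟨a, Subtype.ext ha⟩

end Groth.Agent.S7653
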