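import Groth.Statements.S7656
import Groth.Agent.BrnchLib.FieldBC
import Groth.Agent.GeomField.Chart

set_option autoImplicit false
universe u
open CategoryTheory CategoryTheory.Limits AlgebraicGeometry
open Variety
open scoped TensorProduct

set_option backward.isDefEq.respectTransparency false
set_option backward.isDefEq.respectTransparency.types false

namespace Groth.Agent.S7656

/-- For X locally of finite type over a field k, a field extension K/k and a point y of X_K over x ∈ X,
the local rings of X at x and of X_K at y have the same number of geometric branches. -/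
theorem result (k : Type u) [Field k] (X : Scheme.{u}) [X.Over (Spec (CommRingCat.of k))]
    [LocallyOfFiniteType (X ↘ (Spec (CommRingCat.of k)))] (K : Type u) [Field K] [Algebra k K]
    (y : ↥(Curv2.bc k X K)) :
    Brnch.numGeomBranchesAt X ((Curv2.bcFst k X K).base y) =
      Brnch.numGeomBranchesAt (Curv2.bc k X K) y := by
  obtain ⟨c, P, hP⟩ := GeomField.exists_chart (k := k) ((Curv2.bcFst k X K).base y)
  obtain ⟨Q, hQ⟩ := c.exists_bcEmb_eq K P y hP.symm
  subst hQ
  have hPQ := (c.bcEmb_fst_eq_iff K P Q).1 hP.symm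
  haveI : (PrimeSpectrum.asIdeal (R := c.R) P).IsPrime := P.isPrime
  haveI : (PrimeSpectrum.asIdeal (R := c.R ⊗[k] K) Q).IsPrime := Q.isPrime
  rw [show Brnch.numGeomBranchesAt X ((Curv2.bcFst k X K).base (c.bcEmb K Q)) =
      Brnch.numGeomBranchesAt X (c.emb P) from congrArg _ hP.symm]
  letI := c.stalkAlg P
  haveI := c.isLocalization_stalk P
  let eA : X.presheaf.stalk (c.emb P) ≃+* Localization.AtPrime (PrimeSpectrum.asIdeal (R := c.R) P) :=
    (IsLocalization.algEquiv (PrimeSpectrum.asIdeal (R := c.R) P).primeCompl _ _).toRingEquiv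
  let e₁ : (Spec.structureSheaf (c.R ⊗[k] K)).presheaf.stalk Q ≃ₐ[c.R ⊗[k] K]
      Localization.AtPrime (PrimeSpectrum.asIdeal (R := c.R ⊗[k] K) Q) :=
    IsLocalization.algEquiv (PrimeSpectrum.asIdeal (R := c.R ⊗[k] K) Q).primeCompl _ _
  let eB : (Curv2.bc k X K).presheaf.stalk (c.bcEmb K Q) ≃+*
      Localization.AtPrime (PrimeSpectrum.asIdeal (R := c.R ⊗[k] K) Q) :=
    (asIso ((c.bcEmb K).stalkMap Q)).commRingCatIsoToRingEquiv.trans e₁.toRingEquiv
  unfold Brnch.numGeomBranchesAt
  rw [BrnchLib.EtNbhd.numGeomBranches_congr eA, BrnchLib.EtNbhd.numGeomBranches_congr eB]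
  exact BrnchLib.numGeomBranches_baseChange_field k K _ _ hPQ

end Groth.Agent.S7656
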