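import Groth.Statements.S7658
import Mathlib.AlgebraicGeometry.Morphisms.Separated
import Mathlib.AlgebraicGeometry.Morphisms.ClosedImmersion
import Mathlib.AlgebraicGeometry.OpenImmersion

set_option autoImplicit false
universe u
open CategoryTheory CategoryTheory.Limits AlgebraicGeometry
open Variety

namespace Groth.Agent.S7658


open CategoryTheory CategoryTheory.Limits

/-- A point with no proper generalization is the generic point of a component. -/
theorem closure_mem_components {X : Type*} [TopologicalSpace X] [QuasiSober X] [T0Space X] (ξ : X)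
    (h : ∀ ζ, ζ ⤳ ξ → ζ = ξ) : closure ({ξ} : Set X) ∈ irreducibleComponents X := by
  have hc := irreducibleComponent_mem_irreducibleComponents ξ
  obtain ⟨η, hη⟩ := QuasiSober.sober isIrreducible_irreducibleComponent
    (isClosed_irreducibleComponent (x := ξ))
  have : η = ξ := h η (hη.specializes mem_irreducibleComponent)
  rw [this] at hη
  rwa [hη.def]

/-- Every point generalizes to a point with no proper generalization. -/
theorem exists_maximal_generization {X : Type*} [TopologicalSpace X] [QuasiSober X] [T0Space X]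
    (x : X) : ∃ η, η ⤳ x ∧ ∀ ζ, ζ ⤳ η → ζ = η := by
  obtain ⟨η, hη⟩ := QuasiSober.sober isIrreducible_irreducibleComponent
    (isClosed_irreducibleComponent (x := x))
  refine ⟨η, hη.specializes mem_irreducibleComponent, fun ζ hζ => ?_⟩
  have hsub : irreducibleComponent x ⊆ closure {ζ} := by
    rw [← hη.def]
    exact closure_minimal (Set.singleton_subset_iff.2 hζ.mem_closure) isClosed_closure
  have := (irreducibleComponent_mem_irreducibleComponents x).2
    isIrreducible_singleton.closure hsub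
  have hmem : ζ ∈ closure ({η} : Set X) := hη.def.symm ▸ this (subset_closure rfl)
  exact (hζ.antisymm (specializes_iff_mem_closure.2 hmem)).eq

/-- Two sections over an open that agree at all maximal points agree everywhere (separated). -/
theorem sections_eq {X Y W : Scheme.{u}} (f : X ⟶ Y) [IsSeparated f] (s s' : W ⟶ X)
    (h : s ≫ f = s' ≫ f)
    (hmono : ∀ w : W, (∀ ζ, ζ ⤳ w → ζ = w) → ∃ U : X.Opens, IsOpenImmersion (U.ι ≫ f) ∧
      s.base w ∈ U ∧ s'.base w ∈ U) (w : W) : s.base w = s'.base w := by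
  let σ : W ⟶ pullback f f := pullback.lift s s' h
  have hcl : IsClosed (σ.base ⁻¹' Set.range (pullback.diagonal f).base) :=
    (pullback.diagonal f).isClosedEmbedding.isClosed_range.preimage σ.continuous
  have key : ∀ v, (∀ ζ, ζ ⤳ v → ζ = v) → σ.base v ∈ Set.range (pullback.diagonal f).base := by
    intro v hv
    obtain ⟨U, hU, hs, hs'⟩ := hmono v hv
    let N : W.Opens := s ⁻¹ᵁ U ⊓ s' ⁻¹ᵁ U
    have hrange : ∀ t : W ⟶ X, N ≤ t ⁻¹ᵁ U → Set.range (N.ι ≫ t).base ⊆ Set.range U.ι.base := by
      rintro t ht _ ⟨a, rfl⟩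
      rw [Scheme.Opens.range_ι]
      exact ht a.2
    let a := IsOpenImmersion.lift U.ι (N.ι ≫ s) (hrange s inf_le_left)
    let a' := IsOpenImmersion.lift U.ι (N.ι ≫ s') (hrange s' inf_le_right)
    have ha : a ≫ U.ι = N.ι ≫ s := IsOpenImmersion.lift_fac _ _ _
    have ha' : a' ≫ U.ι = N.ι ≫ s' := IsOpenImmersion.lift_fac _ _ _
    have haa : a = a' := by
      rw [← cancel_mono (U.ι ≫ f), reassoc_of% ha, reassoc_of% ha', h]
    have heq : N.ι ≫ s = N.ι ≫ s' := by rw [← ha, ← ha', haa]
    have hσ : N.ι ≫ σ = (N.ι ≫ s) ≫ pullback.diagonal f := by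
      apply pullback.hom_ext
      · simp only [Category.assoc, σ, pullback.lift_fst, pullback.diagonal_fst, Category.comp_id]
      · simp only [Category.assoc, σ, pullback.lift_snd, pullback.diagonal_snd, Category.comp_id]
        exact heq.symm
    refine ⟨(N.ι ≫ s).base ⟨v, hs, hs'⟩, ?_⟩
    exact (congrArg (fun m : (N : Scheme.{u}) ⟶ pullback f f => m.base ⟨v, hs, hs'⟩) hσ).symm
  obtain ⟨η, hη, hη'⟩ := exists_maximal_generization w
  have hmem : w ∈ σ.base ⁻¹' Set.range (pullback.diagonal f).base :=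
    hη.mem_closed hcl (key η hη')
  obtain ⟨a, ha⟩ := hmem
  have h1 : s.base w = (pullback.fst f f).base (σ.base w) :=
    (congrArg (fun m : W ⟶ X => m.base w) (pullback.lift_fst s s' h)).symm
  have h2 : s'.base w = (pullback.snd f f).base (σ.base w) :=
    (congrArg (fun m : W ⟶ X => m.base w) (pullback.lift_snd s s' h)).symm
  rw [h1, h2, ← ha]
  exact (congrArg (fun m : X ⟶ X => m.base a)
    ((pullback.diagonal_fst f).trans (pullback.diagonal_snd f).symm))

/-- A separated morphism of schemes f : X → Y such that X has an open covering on whose members f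
restricts to open immersions, and such that no two distinct generic points of irreducible components
of X have the same image under f, is an open immersion. -/
theorem result {X Y : Scheme.{u}}
    (f : X ⟶ Y) [IsSeparated f]
    (hloc : ∀ x : X, ∃ U : X.Opens, x ∈ U ∧ IsOpenImmersion (U.ι ≫ f))
    (hinj : ∀ ξ ξ' : X, closure ({ξ} : Set X) ∈ irreducibleComponents (X : Type u) → closure ({ξ'} : Set X) ∈ irreducibleComponents (X : Type u) →
      f.base ξ = f.base ξ' → ξ = ξ') :
    IsOpenImmersion f := by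
  classical
  have hinj' : Function.Injective f.base := by
    intro x x' hxx
    obtain ⟨U, hx, hU⟩ := hloc x
    obtain ⟨U', hx', hU'⟩ := hloc x'
    let W : Y.Opens := (U.ι ≫ f).opensRange ⊓ (U'.ι ≫ f).opensRange
    have hr : Set.range W.ι.base ⊆ Set.range (U.ι ≫ f).base := by
      rintro _ ⟨w, rfl⟩; exact w.2.1
    have hr' : Set.range W.ι.base ⊆ Set.range (U'.ι ≫ f).base := by
      rintro _ ⟨w, rfl⟩; exact w.2.2
    let t := IsOpenImmersion.lift (U.ι ≫ f) W.ι hr
    let t' := IsOpenImmersion.lift (U'.ι ≫ f) W.ι hr'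
    have ht : t ≫ U.ι ≫ f = W.ι := IsOpenImmersion.lift_fac _ _ _
    have ht' : t' ≫ U'.ι ≫ f = W.ι := IsOpenImmersion.lift_fac _ _ _
    haveI : IsOpenImmersion t :=
      haveI : IsOpenImmersion (t ≫ U.ι ≫ f) := ht ▸ inferInstance
      IsOpenImmersion.of_comp t (U.ι ≫ f)
    haveI : IsOpenImmersion t' :=
      haveI : IsOpenImmersion (t' ≫ U'.ι ≫ f) := ht' ▸ inferInstance
      IsOpenImmersion.of_comp t' (U'.ι ≫ f)
    let s := t ≫ U.ι
    let s' := t' ≫ U'.ι
    have hsf : s ≫ f = W.ι := by rw [Category.assoc]; exact ht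
    have hsf' : s' ≫ f = W.ι := by rw [Category.assoc]; exact ht'
    have hmax : ∀ (σ : (W : Scheme.{u}) ⟶ X) [IsOpenImmersion σ] (w : W),
        (∀ ζ, ζ ⤳ w → ζ = w) → closure ({σ.base w} : Set X) ∈ irreducibleComponents (X : Type u) := by
      intro σ _ w hw
      refine closure_mem_components _ fun ζ hζ => ?_
      obtain ⟨z, rfl⟩ : ζ ∈ Set.range σ.base :=
        hζ.mem_open σ.isOpenEmbedding.isOpen_range ⟨w, rfl⟩
      rw [hw z (σ.isOpenEmbedding.isInducing.specializes_iff.1 hζ)]
    have hall := sections_eq f s s' (hsf.trans hsf'.symm) fun w hw => ⟨U, hU, (t.base w).2, by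
      have : s.base w = s'.base w := hinj _ _ (hmax s w hw) (hmax s' w hw)
        ((congrArg (fun m : (W : Scheme.{u}) ⟶ Y => m.base w) (hsf.trans hsf'.symm)))
      rw [← this]
      exact (t.base w).2⟩
    have hy : f.base x ∈ W := ⟨⟨⟨x, hx⟩, rfl⟩, ⟨⟨x', hx'⟩, hxx.symm⟩⟩
    have e1 : s.base ⟨f.base x, hy⟩ = x := by
      have : t.base ⟨f.base x, hy⟩ = ⟨x, hx⟩ := by
        apply (U.ι ≫ f).isOpenEmbedding.injective
        exact congrArg (fun m : (W : Scheme.{u}) ⟶ Y => m.base ⟨f.base x, hy⟩) ht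
      exact congrArg U.ι.base this
    have e2 : s'.base ⟨f.base x, hy⟩ = x' := by
      have : t'.base ⟨f.base x, hy⟩ = ⟨x', hx'⟩ := by
        apply (U'.ι ≫ f).isOpenEmbedding.injective
        exact (congrArg (fun m : (W : Scheme.{u}) ⟶ Y => m.base ⟨f.base x, hy⟩) ht').trans hxx
      exact congrArg U'.ι.base this
    exact e1.symm.trans ((hall _).trans e2)
  have hopen : IsOpenMap f.base := by
    intro s hs
    rw [isOpen_iff_forall_mem_open]
    rintro _ ⟨x, hxs, rfl⟩
    obtain ⟨U, hx, hU⟩ := hloc x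
    refine ⟨(U.ι ≫ f).base '' (U.ι.base ⁻¹' s), ?_,
      (U.ι ≫ f).isOpenEmbedding.isOpenMap _ (hs.preimage U.ι.continuous), ⟨⟨x, hx⟩, hxs, rfl⟩⟩
    rintro _ ⟨u, hu, rfl⟩
    exact ⟨_, hu, rfl⟩
  haveI : ∀ x, IsIso (f.stalkMap x) := fun x => by
    obtain ⟨U, hx, hU⟩ := hloc x
    obtain ⟨u, rfl⟩ : ∃ u : (U : Scheme.{u}), U.ι.base u = x := ⟨⟨x, hx⟩, rfl⟩
    have h2 : IsIso ((U.ι ≫ f).stalkMap u) := inferInstance
    rw [Scheme.Hom.stalkMap_comp] at h2
    exact @IsIso.of_isIso_comp_right _ _ _ _ _ (f.stalkMap (U.ι.base u)) (U.ι.stalkMap u) inferInstance h2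
  exact IsOpenImmersion.of_isIso_stalkMap f (.of_continuous_injective_isOpenMap f.continuous hinj' hopen)

end Groth.Agent.S7658
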