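import Groth.Statements.S7659
-- import your own Groth.Agent.* helpers here

set_option autoImplicit false
set_option linter.style.haveILetI false
universe u
open CategoryTheory CategoryTheory.Limits AlgebraicGeometry
open Variety

namespace Groth.Agent.S7659

theorem finite_irreducibleComponents_of_isOpenEmbedding {X Y : Type*} [TopologicalSpace X] [TopologicalSpace Y]
    {f : Y → X} (hf : Topology.IsOpenEmbedding f) (h : (irreducibleComponents X).Finite) :
    (irreducibleComponents Y).Finite := by
  refine (h.image (f ⁻¹' ·)).subset fun Z hZ => ?_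
  obtain ⟨T, hT, hsub⟩ := exists_mem_irreducibleComponents_subset_of_isIrreducible (f '' Z)
    (hZ.1.image f hf.continuous.continuousOn)
  refine ⟨T, hT, ?_⟩
  obtain ⟨z, hz⟩ := hZ.1.1
  have h1 := preimage_mem_irreducibleComponents hT hf ⟨f z, hsub ⟨z, hz, rfl⟩, z, rfl⟩
  exact subset_antisymm (hZ.2 h1.1 (Set.image_subset_iff.mp hsub)) (Set.image_subset_iff.mp hsub)

theorem exists_away_isLocalization {A B : Type u} [CommRing A] [CommRing B] [Algebra A B]
    [Algebra.FiniteType A B] [_root_.IsReduced A] (hA : (minimalPrimes A).Finite) (q : Ideal B) [q.IsPrime]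
    (p : Ideal A) [p.IsPrime] (hp : p = q.comap (algebraMap A B))
    (hq : Function.Bijective (Localization.localRingHom p q (algebraMap A B) hp)) :
    ∃ (r : A) (h : B), h ∉ q ∧ IsLocalization.Away r (Localization.Away h) := by
  classical
  subst hp
  set p := q.comap (algebraMap A B)
  obtain ⟨s, hs⟩ := Algebra.FiniteType.out (R := A) (A := B)
  have hlift : ∀ b : B, ∃ (a t : A) (e : B), t ∉ p ∧ e ∉ q ∧
      e * (algebraMap A B t * b) = e * algebraMap A B a := fun b => by
    obtain ⟨y, hy⟩ := hq.2 (algebraMap B (Localization.AtPrime q) b)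
    obtain ⟨a, t, rfl⟩ := IsLocalization.exists_mk'_eq p.primeCompl y
    rw [Localization.localRingHom_mk', IsLocalization.mk'_eq_iff_eq_mul, ← map_mul,
      IsLocalization.eq_iff_exists q.primeCompl] at hy
    obtain ⟨e, he⟩ := hy
    refine ⟨a, t, e, t.2, e.2, ?_⟩
    rw [he, mul_comm b]
  choose a t e ht he hrel using hlift
  set φ := algebraMap A B
  set T := ∏ b ∈ s, t b with hTdef
  set E := ∏ b ∈ s, e b with hEdef
  have hT : T ∉ p := fun h => by
    obtain ⟨b, -, hb⟩ := (Ideal.IsPrime.prod_mem_iff (p := p)).mp h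
    exact ht b hb
  have hE : E ∉ q := fun h => by
    obtain ⟨b, -, hb⟩ := (Ideal.IsPrime.prod_mem_iff (p := q)).mp h
    exact he b hb
  let bad := hA.toFinset.filter (fun P => ¬ P ≤ p)
  have hbad : ∀ P ∈ bad, ∃ c ∈ P, c ∉ p := fun P hP => by
    simp only [bad, Finset.mem_filter] at hP
    exact Set.not_subset.mp hP.2
  choose! cf hcf hcfp using hbad
  set c := ∏ P ∈ bad, cf P with hcdef
  have hc : c ∉ p := fun h => by
    obtain ⟨P, hP, hb⟩ := (Ideal.IsPrime.prod_mem_iff (p := p)).mp h
    exact hcfp P hP hb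
  have hinj : ∀ z : A, algebraMap B (Localization.AtPrime q) (φ z) = 0 → c * z = 0 :=
      fun z hz => by
    have h1 : algebraMap A (Localization.AtPrime p) z = 0 := hq.1 (by
      rw [Localization.localRingHom_to_map, hz, map_zero])
    obtain ⟨u, hu⟩ := (IsLocalization.map_eq_zero_iff p.primeCompl _ z).mp h1
    have h0 : c * z ∈ sInf (minimalPrimes A) := by
      rw [Submodule.mem_sInf]
      intro (P : Ideal A) hP
      haveI : P.IsPrime := hP.1.1
      by_cases hPp : P ≤ p
      · refine P.mul_mem_left c ?_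
        have h2 : (u : A) * z ∈ P := by rw [hu]; exact P.zero_mem
        exact ((Ideal.IsPrime.mem_or_mem ‹_› h2).resolve_left fun h => u.2 (hPp h))
      · refine P.mul_mem_right z ?_
        have hPbad : P ∈ bad := by
          simp only [bad, Finset.mem_filter, Set.Finite.mem_toFinset]
          exact ⟨hP, hPp⟩
        exact (Ideal.IsPrime.prod_mem_iff).mpr ⟨P, hPbad, hcf P hPbad⟩
    have h0' : c * z ∈ (⊥ : Ideal A).radical := by
      rwa [← Ideal.sInf_minimalPrimes]
    exact IsReduced.eq_zero _ (show IsNilpotent (c * z) from h0')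
  have hall : ∀ z : B, ∃ (a' : A) (k j : ℕ),
      (E * φ T) ^ j * (z * φ T ^ k) = (E * φ T) ^ j * φ a' := fun z => by
    have hz : z ∈ Algebra.adjoin A (s : Set B) := hs ▸ Algebra.mem_top
    induction hz using Algebra.adjoin_induction with
    | mem b hb =>
      obtain ⟨d, hd⟩ := Finset.dvd_prod_of_mem t hb
      obtain ⟨d', hd'⟩ := Finset.dvd_prod_of_mem e hb
      rw [← hTdef] at hd
      rw [← hEdef] at hd'
      refine ⟨d * a b, 1, 1, ?_⟩
      rw [hd', hd, map_mul, map_mul]
      linear_combination (φ d * φ d * φ (t b) * d') * hrel b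
    | algebraMap r => exact ⟨r, 0, 0, by simp [φ]⟩
    | add x y _ _ hx hy =>
      obtain ⟨a1, k1, j1, h1⟩ := hx
      obtain ⟨a2, k2, j2, h2⟩ := hy
      refine ⟨a1 * T ^ k2 + a2 * T ^ k1, k1 + k2, j1 + j2, ?_⟩
      rw [map_add, map_mul, map_mul, map_pow, map_pow, pow_add, pow_add]
      linear_combination ((E * φ T) ^ j2 * φ T ^ k2) * h1 + ((E * φ T) ^ j1 * φ T ^ k1) * h2
    | mul x y _ _ hx hy =>
      obtain ⟨a1, k1, j1, h1⟩ := hx
      obtain ⟨a2, k2, j2, h2⟩ := hy
      refine ⟨a1 * a2, k1 + k2, j1 + j2, ?_⟩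
      rw [map_mul, pow_add, pow_add]
      linear_combination ((E * φ T) ^ j2 * (y * φ T ^ k2)) * h1 + ((E * φ T) ^ j1 * φ a1) * h2
  obtain ⟨a₀, k₀, j₀, h₀⟩ := hall E
  have hET : E * φ T ∈ q.primeCompl := q.primeCompl.mul_mem hE hT
  have ha₀ : a₀ ∉ p := fun h => by
    have : (E * φ T) ^ j₀ * (E * φ T ^ k₀) ∈ q := h₀ ▸ q.mul_mem_left _ h
    exact q.primeCompl.mul_mem (q.primeCompl.pow_mem hET j₀)
      (q.primeCompl.mul_mem hE (q.primeCompl.pow_mem hT k₀)) this
  set r := T * c * a₀
  have hr : φ r ∈ q.primeCompl := p.primeCompl.mul_mem (p.primeCompl.mul_mem hT hc) ha₀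
  refine ⟨r, E * φ r, q.primeCompl.mul_mem hE hr, ?_⟩
  suffices key : ∀ (L : Type u) [CommRing L] [Algebra B L] [Algebra A L] [IsScalarTower A B L]
      [IsLocalization.Away (E * φ r) L], IsLocalization.Away r L from key _
  intro L _ _ _ _ _
  have hu : IsUnit (algebraMap B L (E * φ r)) := IsLocalization.Away.algebraMap_isUnit _
  have hEu : IsUnit (algebraMap B L E) := isUnit_of_dvd_unit (map_dvd _ (dvd_mul_right _ _)) hu
  have hru : IsUnit (algebraMap A L r) := by
    rw [IsScalarTower.algebraMap_apply A B L]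
    exact isUnit_of_dvd_unit (map_dvd _ (dvd_mul_left _ _)) hu
  let ψ : Localization.Away r →+* L := IsLocalization.Away.lift r hru
  let ψ' : Localization.Away r →ₐ[A] L :=
    { ψ with commutes' := fun z => IsLocalization.Away.lift_eq r hru z }
  have hdvd : ∀ z, z ∣ r → IsUnit (algebraMap A (Localization.Away r) z) := fun z hz =>
    isUnit_of_dvd_unit (map_dvd _ hz) (IsLocalization.Away.algebraMap_isUnit r)
  have hTu := hdvd T (Dvd.dvd.mul_right (dvd_mul_right _ _) _)
  have hψB : ∀ z : A, algebraMap B L (φ z) = ψ' (algebraMap A _ z) := fun z => by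
    rw [AlgHom.commutes, IsScalarTower.algebraMap_apply A B L]
  have hfrac : ∀ (z : B) (a' : A) (k j : ℕ), (E * φ T) ^ j * (z * φ T ^ k) = (E * φ T) ^ j * φ a' →
      algebraMap B L z = ψ' (algebraMap A _ a' * ↑((hTu.pow k).unit⁻¹)) := fun z a' k j h => by
    have h2 := congrArg (algebraMap B L) h
    have hETu : IsUnit (algebraMap B L ((E * φ T) ^ j)) := by
      rw [map_pow, map_mul]
      refine (hEu.mul ?_).pow j
      rw [hψB]
      exact hTu.map ψ'
    rw [map_mul, map_mul _ _ (φ a'), hETu.mul_right_inj, map_mul, map_pow, hψB, hψB] at h2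
    rw [map_mul, ← h2, ← map_pow, mul_assoc, ← map_mul, IsUnit.mul_val_inv, map_one, mul_one]
  have hsurj : Function.Surjective ψ' := fun y => by
    obtain ⟨n, b, hy⟩ := IsLocalization.Away.surj (E * φ r) y
    obtain ⟨a', k, j, hb⟩ := hall b
    have hw : IsUnit (algebraMap A (Localization.Away r) a₀ * ↑((hTu.pow k₀).unit⁻¹) * algebraMap A _ r) :=
      ((hdvd a₀ (dvd_mul_left _ _)).mul (Units.isUnit _)).mul (hdvd r dvd_rfl)
    refine ⟨algebraMap A _ a' * ↑((hTu.pow k).unit⁻¹) * ↑((hw.pow n).unit⁻¹), ?_⟩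
    have h3 : algebraMap B L (E * φ r) = ψ' (algebraMap A (Localization.Away r) a₀ *
        ↑((hTu.pow k₀).unit⁻¹) * algebraMap A _ r) := by
      rw [map_mul, map_mul ψ', hfrac E a₀ k₀ j₀ h₀, hψB]
    rw [map_mul ψ', ← hfrac b a' k j hb, ← hy, h3, ← map_pow, mul_assoc, ← map_mul,
      IsUnit.mul_val_inv, map_one, mul_one]
  have hinj' : Function.Injective ψ' := by
    rw [injective_iff_map_eq_zero]
    intro y hy
    obtain ⟨n, z, hyz⟩ := IsLocalization.Away.surj r y
    have h1 : algebraMap A L z = 0 := by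
      have := congrArg ψ' hyz
      rw [map_mul, hy, zero_mul, AlgHom.commutes] at this
      exact this.symm
    have h2 : algebraMap B (Localization.AtPrime q) (φ z) = 0 := by
      have hq' : IsUnit (algebraMap B (Localization.AtPrime q) (E * φ r)) :=
        IsLocalization.map_units _ (⟨_, q.primeCompl.mul_mem hE hr⟩ : q.primeCompl)
      have h3 := congrArg (IsLocalization.Away.lift (S := L) (E * φ r) hq') h1
      rwa [IsScalarTower.algebraMap_apply A B L, IsLocalization.Away.lift_eq, map_zero] at h3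
    have h3 : algebraMap A (Localization.Away r) z = 0 := by
      refine (hdvd c (Dvd.dvd.mul_right (dvd_mul_left c T) _)).mul_right_eq_zero.mp ?_
      rw [← map_mul, hinj z h2, map_zero]
    rw [h3] at hyz
    exact ((IsLocalization.Away.algebraMap_isUnit r).pow n).mul_left_eq_zero.mp hyz
  exact IsLocalization.isLocalization_of_algEquiv (.powers r) (AlgEquiv.ofBijective ψ' ⟨hinj', hsurj⟩)

/-- Let f : X → S be a morphism of schemes and x a point with image s such that O_{S,s} → O_{X,x} is an
isomorphism, S is reduced with finitely many irreducible components, and f is locally of finite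
type. Then f restricted to some open neighbourhood of x is an open immersion. (The published
statement assumes f of finite type; this row assumes only that f is locally of finite type.) -/
theorem result {X S : Scheme.{u}} (f : X ⟶ S)
    [LocallyOfFiniteType f] [IsReduced S] (hS : (irreducibleComponents (S : Type u)).Finite)
    (x : X) (hx : IsIso (f.stalkMap x)) :
    ∃ U : X.Opens, x ∈ U ∧ IsOpenImmersion (U.ι ≫ f) := by
  haveI := hx
  obtain ⟨V, hV, hxV, -⟩ := exists_isAffineOpen_mem_and_subset (x := f x) (U := ⊤) trivial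
  obtain ⟨U, hU, hxU, hUV⟩ := exists_isAffineOpen_mem_and_subset (x := x) (U := f ⁻¹ᵁ V) hxV
  letI : Algebra Γ(S, V) Γ(X, U) := (f.appLE V U hUV).hom.toAlgebra
  haveI : Algebra.FiniteType Γ(S, V) Γ(X, U) := f.finiteType_appLE hV hU hUV
  have hmin : (minimalPrimes Γ(S, V)).Finite := by
    rw [← PrimeSpectrum.vanishingIdeal_irreducibleComponents]
    exact (finite_irreducibleComponents_of_isOpenEmbedding hV.fromSpec.isOpenEmbedding hS).image _
  have hiso : IsIso (CommRingCat.ofHom (Localization.localRingHom _ _ (f.appLE V U hUV).hom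
      congr($(IsAffineOpen.comap_primeIdealOf_appLE V hV U hU hUV hxU).1).symm)) :=
    ((MorphismProperty.isomorphisms CommRingCat).arrow_mk_iso_iff
      (IsAffineOpen.arrowStalkMapIso f V hV U hU hUV hxU)).mp hx
  haveI := hiso
  have hbij := ConcreteCategory.bijective_of_isIso (CommRingCat.ofHom (Localization.localRingHom _ _ (f.appLE V U hUV).hom congr($(IsAffineOpen.comap_primeIdealOf_appLE V hV U hU hUV hxU).1).symm))
  obtain ⟨r, h, hh, hloc⟩ := exists_away_isLocalization hmin (hU.primeIdealOf ⟨x, hxU⟩).asIdeal (hV.primeIdealOf ⟨f x, hUV hxU⟩).asIdeal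
    congr($(IsAffineOpen.comap_primeIdealOf_appLE V hV U hU hUV hxU).1).symm hbij
  let j : Spec (CommRingCat.of (Localization.Away h)) ⟶ X :=
    Spec.map (CommRingCat.ofHom (algebraMap Γ(X, U) (Localization.Away h))) ≫ hU.fromSpec
  haveI : IsOpenImmersion (Spec.map (CommRingCat.ofHom (algebraMap Γ(X, U) (Localization.Away h)))) :=
    IsOpenImmersion.of_isLocalization h
  haveI : IsOpenImmersion (Spec.map (CommRingCat.ofHom (algebraMap Γ(S, V) (Localization.Away h)))) :=
    IsOpenImmersion.of_isLocalization r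
  have hj : j ≫ f = Spec.map (CommRingCat.ofHom (algebraMap Γ(S, V) (Localization.Away h))) ≫ hV.fromSpec := by
    simp only [j, Category.assoc, ← IsAffineOpen.SpecMap_appLE_fromSpec f hV hU hUV]
    rw [← Spec.map_comp_assoc]
    rfl
  refine ⟨j.opensRange, ?_, ?_⟩
  · obtain ⟨R, hR⟩ : hU.primeIdealOf ⟨x, hxU⟩ ∈
        Set.range (PrimeSpectrum.comap (algebraMap Γ(X, U) (Localization.Away h))) := by
      rw [PrimeSpectrum.localization_away_comap_range _ h]
      exact hh
    refine ⟨R, ?_⟩
    exact (congrArg hU.fromSpec hR).trans (hU.fromSpec_primeIdealOf ⟨x, hxU⟩)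
  · have h1 : j.opensRange.ι = j.isoOpensRange.inv ≫ j := by simp
    rw [h1, Category.assoc, hj]
    infer_instance

end Groth.Agent.S7659
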