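import Groth.Statements.S7661
-- import your own Groth.Agent.* helpers here

set_option autoImplicit false
universe u
open CategoryTheory CategoryTheory.Limits AlgebraicGeometry
open Variety

namespace Groth.Agent.S7661

/-- Let A be a ring, I an ideal, p_1, …, p_r prime ideals with I ⊄ p_i for all i, and let f̄ ∈ A/I. Then
f̄ lifts to an element f ∈ A with f ∉ p_i for all i. -/
theorem result (A : Type u) [CommRing A] (I : Ideal A)
    (s : Finset (Ideal A)) (hs : ∀ p ∈ s, p.IsPrime) (hI : ∀ p ∈ s, ¬ I ≤ p) (fbar : A ⧸ I) :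
    ∃ f : A, Ideal.Quotient.mk I f = fbar ∧ ∀ p ∈ s, f ∉ p := by
  classical
  obtain ⟨f₀, hf₀⟩ := Ideal.Quotient.mk_surjective fbar
  set T := s.filter fun p => ∀ q ∈ s, p ≤ q → q ≤ p with hT
  have hcov : ∀ p ∈ s, ∃ q ∈ T, p ≤ q := by
    intro p hp
    obtain ⟨q, hpq, hq⟩ := s.exists_le_maximal hp
    exact ⟨q, by rw [hT, Finset.mem_filter]; exact ⟨hq.1, fun r hr hqr => hq.2 hr hqr⟩, hpq⟩
  set A' := T.filter fun p => f₀ ∈ p
  set J := (T.filter fun p => f₀ ∉ p).inf id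
  have hTs : ∀ p ∈ T, p ∈ s := fun p hp => (Finset.mem_filter.1 hp).1
  have hnot : ¬ ((I ⊓ J : Ideal A) : Set A) ⊆ ⋃ p ∈ (↑A' : Set (Ideal A)), (p : Set A) := by
    rw [Ideal.subset_union_prime (f := fun p : Ideal A => p) ⊥ ⊥ (fun i hi _ _ => hs i (hTs i (Finset.mem_filter.1 hi).1))]
    rintro ⟨p, hp, hle⟩
    obtain ⟨hpT, hfp⟩ := Finset.mem_filter.1 hp
    have hps := hTs p hpT
    rcases (hs p hps).inf_le.1 hle with h | h
    · exact hI p hps h
    · obtain ⟨q, hq, hqp⟩ := (hs p hps).inf_le'.1 h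
      obtain ⟨hqT, hfq⟩ := Finset.mem_filter.1 hq
      exact hfq ((Finset.mem_filter.1 hqT).2 p hps hqp hfp)
  obtain ⟨x, hx, hxA⟩ := Set.not_subset.1 hnot
  simp only [Set.mem_iUnion, Finset.mem_coe, not_exists, id] at hxA
  refine ⟨f₀ + x, ?_, fun p hp hfp => ?_⟩
  · rw [map_add, hf₀, Ideal.Quotient.eq_zero_iff_mem.2 hx.1, add_zero]
  · obtain ⟨q, hq, hpq⟩ := hcov p hp
    by_cases hf : f₀ ∈ q
    · exact hxA q (Finset.mem_filter.2 ⟨hq, hf⟩) ((add_mem_cancel_left hf).1 (hpq hfp) )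
    · have hxq : x ∈ q := Finset.inf_le (f := id) (Finset.mem_filter.2 ⟨hq, hf⟩) hx.2
      exact hf ((add_mem_cancel_right hxq).1 (hpq hfp))

end Groth.Agent.S7661
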