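import Groth.Statements.S7664
import Groth.Agent.KrullAki.Glue

set_option autoImplicit false
universe u
open CategoryTheory CategoryTheory.Limits AlgebraicGeometry
open Variety

namespace Groth.Agent.S7664

open Groth.Agent.KrullAki

/-- Let K be a field, A ⊆ K a Noetherian semi-local domain of dimension one and B ⊆ K a discrete
valuation ring, both with fraction field K, and R = A ∩ B. (a) If some unit of A does not lie in R,
then Spec A and Spec B each map to Spec R by an open immersion, Spec R is the union of the two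
images, and the natural map A ⊗_R B → K is an isomorphism. (b) If every unit of A lies in R, then B
dominates the local ring of A at one of its maximal ideals (A ⊆ B and the maximal ideal of B
contracts to a maximal ideal of A) and A ⊗ B → K is not surjective. -/
theorem result (K : Type u) [Field K]
    (A : Subring K) [IsFractionRing A K] [IsNoetherianRing A] (hdim : ringKrullDim A = 1) (hsl : Finite (MaximalSpectrum A))
    (B : ValuationSubring K) [IsDiscreteValuationRing B] :
    ((∃ u : A, IsUnit u ∧ (u : K) ∉ B) →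
      IsOpenImmersion (Spec.map (CommRingCat.ofHom (Subring.inclusion (inf_le_left : A ⊓ B.toSubring ≤ A)))) ∧
      IsOpenImmersion (Spec.map (CommRingCat.ofHom (Subring.inclusion (inf_le_right : A ⊓ B.toSubring ≤ B.toSubring)))) ∧
      Set.range (Spec.map (CommRingCat.ofHom (Subring.inclusion (inf_le_left : A ⊓ B.toSubring ≤ A)))).base ∪
        Set.range (Spec.map (CommRingCat.ofHom (Subring.inclusion (inf_le_right : A ⊓ B.toSubring ≤ B.toSubring)))).base = Set.univ ∧
      IsPushout (CommRingCat.ofHom (Subring.inclusion (inf_le_left : A ⊓ B.toSubring ≤ A)))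
        (CommRingCat.ofHom (Subring.inclusion (inf_le_right : A ⊓ B.toSubring ≤ B.toSubring)))
        (CommRingCat.ofHom A.subtype) (CommRingCat.ofHom B.toSubring.subtype)) ∧
    ((∀ u : A, IsUnit u → (u : K) ∈ B) →
      (∃ h : A ≤ B.toSubring,
        (Ideal.comap (Subring.inclusion h) (IsLocalRing.maximalIdeal B)).IsMaximal) ∧ A ⊔ B.toSubring ≠ ⊤) := by
  have : IsLocalRing B.toSubring := inferInstanceAs (IsLocalRing B)
  have : IsPrincipalIdealRing B.toSubring := inferInstanceAs (IsPrincipalIdealRing B)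
  have : IsFractionRing B.toSubring K := inferInstanceAs (IsFractionRing B K)
  have hB1 : Ring.KrullDimLE 1 B.toSubring :=
    Ring.krullDimLE_one_iff_of_noZeroDivisors.2 fun P hP hPp => hPp.isMaximal hP
  have hBne : B.toSubring ≠ ⊤ := fun h =>
    IsDiscreteValuationRing.not_isField B ((isField_iff_eq_top B.toSubring).2 h)
  have hdimB : ringKrullDim B.toSubring = 1 := ringKrullDim_eq_one_of_le _ le_rfl hBne
  have hslB : Finite (MaximalSpectrum B.toSubring) :=
    Finite.of_injective (fun _ => ()) fun m m' _ => MaximalSpectrum.ext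
      ((IsLocalRing.eq_maximalIdeal m.isMaximal).trans (IsLocalRing.eq_maximalIdeal m'.isMaximal).symm)
  have hJ : ∀ x : K, x ∉ B → ∃ h : x⁻¹ ∈ B.toSubring,
      (⟨x⁻¹, h⟩ : B.toSubring) ∈ (⊥ : Ideal B.toSubring).jacobson := by
    intro x hx
    obtain ⟨h₁, h₂⟩ := ValuationSubring.mem_nonunits_iff_exists_mem_maximalIdeal.1
      ((ValuationSubring.inv_mem_nonunits_iff B).2 (Or.inr hx))
    refine ⟨h₁, ?_⟩
    rw [IsLocalRing.jacobson_eq_maximalIdeal _ bot_ne_top]
    exact h₂
  refine ⟨fun ⟨u, _, huB⟩ => ?_, fun h => ?_⟩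
  · refine glue_two A B.toSubring hdim hdimB hsl hslB (eq_top_iff.2 fun z _ => ?_)
    obtain ⟨h₁, h₂⟩ := hJ u huB
    obtain ⟨N, hN⟩ := exists_pow_mul_mem h₂ z
    have hu0 : (u : K) ≠ 0 := fun h0 => huB (h0 ▸ zero_mem B)
    have : z = (u : K) ^ N * (((u : K)⁻¹) ^ N * z) := by
      rw [← mul_assoc, ← mul_pow, mul_inv_cancel₀ hu0, one_pow, one_mul]
    rw [this]
    exact (A ⊔ B.toSubring).mul_mem
      ((A ⊔ B.toSubring).pow_mem ((le_sup_left : A ≤ A ⊔ B.toSubring) u.2) N)
      ((le_sup_right : B.toSubring ≤ A ⊔ B.toSubring) (hN N le_rfl))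
  · have hAB : A ≤ B.toSubring := by
      intro a ha
      by_contra hna
      have ha0 : a ≠ 0 := fun h0 => hna (h0 ▸ zero_mem B)
      obtain ⟨v, hv, hv'⟩ := exists_isUnit_of_inv_mem_jacobson A (fun _ : Unit => B.toSubring) ha ha0
        (fun _ => hJ a hna)
      obtain ⟨hv0, h₁, h₂⟩ := hv' ()
      rw [IsLocalRing.jacobson_eq_maximalIdeal _ bot_ne_top] at h₂
      have := (ValuationSubring.inv_mem_nonunits_iff B).1
        (ValuationSubring.mem_nonunits_iff_exists_mem_maximalIdeal.2 ⟨h₁, h₂⟩)
      exact this.elim hv0 (fun hh => hh (h v hv))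
    have := krullDimLE_one_of_dim_eq_one hdim
    have hBT : B ≠ ⊤ := fun h => hBne (h ▸ rfl)
    exact ⟨⟨hAB, comapIdeal_isMaximal hAB hBT⟩, fun htop => hBne (top_unique (htop ▸ sup_le hAB le_rfl))⟩

end Groth.Agent.S7664
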