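import Groth.Statements.S7666
import Groth.Agent.DimOneLoc.Basic
import Mathlib.Algebra.Ring.GeomSum

set_option autoImplicit false
universe u
open CategoryTheory CategoryTheory.Limits AlgebraicGeometry
open Variety

namespace Groth.Agent.S7666

open Groth.Agent.DimOneLoc

/-- Let A be a one-dimensional Noetherian local ring and L = ∏ A_p, the product over the minimal primes
of A. If a_1, a_2 ∈ m_A have the same image in L, then a_1 and a_2 have equal n-th powers for some
positive integer n. -/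
theorem result (A : Type u) [CommRing A]
    [IsLocalRing A] [IsNoetherianRing A] (hdim : ringKrullDim A = 1)
    (a₁ a₂ : A) (h₁ : a₁ ∈ IsLocalRing.maximalIdeal A) (h₂ : a₂ ∈ IsLocalRing.maximalIdeal A)
    (heq : ∀ p : {p : PrimeSpectrum A // p.asIdeal ∈ minimalPrimes A},
      algebraMap A (Localization.AtPrime p.1.asIdeal) a₁ = algebraMap A (Localization.AtPrime p.1.asIdeal) a₂) :
    ∃ n : ℕ, 0 < n ∧ a₁ ^ n = a₂ ^ n := by
  have := Ring.krullDimLE_iff.2 hdim.le
  obtain ⟨N, hN⟩ := exists_maximalIdeal_pow_mul_eq_zero (δ := a₁ - a₂) fun p => by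
    rw [map_sub, heq p, sub_self]
  refine ⟨N + 1, Nat.succ_pos N, sub_eq_zero.1 ?_⟩
  rw [← geom_sum₂_mul a₁ a₂ (N + 1)]
  refine hN _ (Ideal.sum_mem _ fun i hi => ?_)
  have hi' : i + (N + 1 - 1 - i) = N := by
    have := Finset.mem_range.1 hi; omega
  rw [show IsLocalRing.maximalIdeal A ^ N = IsLocalRing.maximalIdeal A ^ i * IsLocalRing.maximalIdeal A ^ (N + 1 - 1 - i) by rw [← pow_add, hi']]
  exact Ideal.mul_mem_mul (Ideal.pow_mem_pow h₁ i) (Ideal.pow_mem_pow h₂ _)

end Groth.Agent.S7666
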