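import Groth.Statements.S7667
import Groth.Agent.DimOneLoc.Basic
import Mathlib.Data.Nat.Choose.Sum

set_option autoImplicit false
universe u
open CategoryTheory CategoryTheory.Limits AlgebraicGeometry
open Variety

namespace Groth.Agent.S7667

open Groth.Agent.DimOneLoc

/-- Let A be a one-dimensional Noetherian local ring, L the product of the localizations A_p over its
minimal primes p, and I the intersection of those primes (the nilradical of A). If f ∈ L equals i +
a with a in the maximal ideal of A and i ∈ I·L, then for some positive integer n, f^n belongs to the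
subring of L obtained as the image of the structure map from A. -/
theorem result (A : Type u) [CommRing A]
    [IsLocalRing A] [IsNoetherianRing A] (hdim : ringKrullDim A = 1)
    (a : A) (ha : a ∈ IsLocalRing.maximalIdeal A)
    (i : ∀ p : {p : PrimeSpectrum A // p.asIdeal ∈ minimalPrimes A}, Localization.AtPrime p.1.asIdeal)
    (hi : i ∈ (nilradical A).map (algebraMap A (∀ p : {p : PrimeSpectrum A // p.asIdeal ∈ minimalPrimes A}, Localization.AtPrime p.1.asIdeal))) :
    ∃ n : ℕ, 0 < n ∧ (i + algebraMap A (∀ p : {p : PrimeSpectrum A // p.asIdeal ∈ minimalPrimes A}, Localization.AtPrime p.1.asIdeal) a) ^ n ∈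
      (algebraMap A (∀ p : {p : PrimeSpectrum A // p.asIdeal ∈ minimalPrimes A}, Localization.AtPrime p.1.asIdeal)).range := by
  classical
  have := Ring.krullDimLE_iff.2 hdim.le
  set φ := algebraMap A (∀ p : {p : PrimeSpectrum A // p.asIdeal ∈ minimalPrimes A}, Localization.AtPrime p.1.asIdeal)
  obtain ⟨f, hf, hg⟩ : ∃ f ∈ IsLocalRing.maximalIdeal A, Good f := by
    refine exists_good_mem.2 fun p hp he => ?_
    have : Ring.KrullDimLE 0 A := .mk₀ fun P hP => by
      obtain ⟨q, hq, hqP⟩ := Ideal.exists_minimalPrimes_le (bot_le : (⊥ : Ideal A) ≤ P)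
      have hm : IsLocalRing.maximalIdeal A ≤ q :=
        hp.2 hq.1 (he ▸ IsLocalRing.le_maximalIdeal hq.1.1.ne_top) |> (he ▸ ·)
      rw [le_antisymm (IsLocalRing.le_maximalIdeal hP.ne_top) (hm.trans hqP)]
      infer_instance
    have h0 := Ring.krullDimLE_iff.1 this
    rw [hdim] at h0
    exact absurd h0 (by decide)
  have := isLocalization_away hf hg
  have hnil : IsNilpotent i := by
    have : (nilradical A).map φ ≤ nilradical _ := Ideal.map_le_iff_le_comap.2 fun x hx => IsNilpotent.map (hx : IsNilpotent x) φ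
    exact this hi
  obtain ⟨s, hs⟩ := hnil
  have hden : ∀ j, ∃ N, i ^ j * φ (f ^ N) ∈ φ.range := fun j => by
    obtain ⟨⟨b, ⟨_, N, rfl⟩⟩, h⟩ := IsLocalization.surj (Submonoid.powers f) (i ^ j)
    exact ⟨N, b, h.symm⟩
  choose N hN using hden
  obtain ⟨K, hK⟩ := ((Finset.range s).image N).bddAbove
  obtain ⟨M, hM⟩ := Ideal.exists_pow_le_of_le_radical_of_fg (I := IsLocalRing.maximalIdeal A)
    (J := Ideal.span {f ^ K}) (fun x hx => mem_radical_of_not_le (fun p hp h =>
      hg p hp (hp.1.1.mem_of_pow_mem K (h (Ideal.mem_span_singleton_self _)))) hx)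
    (IsNoetherian.noetherian _)
  refine ⟨s + M + 1, Nat.succ_pos _, ?_⟩
  rw [add_pow]
  refine Subring.sum_mem _ fun j hj => ?_
  refine Subring.mul_mem _ ?_ (natCast_mem _ _)
  by_cases hjs : j < s
  · obtain ⟨c, hc⟩ := Ideal.mem_span_singleton'.1 (hM (Ideal.pow_le_pow_right
      (show M ≤ s + M + 1 - j by omega) (Ideal.pow_mem_pow ha (s + M + 1 - j))))
    have hjK : N j ≤ K := hK (Finset.mem_image.2 ⟨j, Finset.mem_range.2 hjs, rfl⟩)
    rw [← map_pow, ← hc, show f ^ K = f ^ N j * f ^ (K - N j) by rw [← pow_add]; congr 1; omega,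
      show c * (f ^ N j * f ^ (K - N j)) = f ^ N j * (c * f ^ (K - N j)) by ring, map_mul, ← mul_assoc]
    exact Subring.mul_mem _ (hN j) ⟨_, rfl⟩
  · rw [pow_eq_zero_of_le (not_lt.1 hjs) hs, zero_mul]
    exact Subring.zero_mem _

end Groth.Agent.S7667
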