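import Groth.Statements.S7668
import Mathlib.RingTheory.Localization.Ideal
import Mathlib.RingTheory.Spectrum.Maximal.Basic
import Mathlib.RingTheory.Spectrum.Prime.Basic

set_option autoImplicit false
universe u
open CategoryTheory CategoryTheory.Limits AlgebraicGeometry
open Variety

namespace Groth.Agent.S7668

/-- Let A be a ring, p_1, …, p_r primes of A and S = A ∖ ⋃ p_i. Then S is a multiplicative subset, S⁻¹A
is semi-local, and contraction to A is a bijection from the maximal ideals of S⁻¹A onto the maximal
elements of {p_1, …, p_r}. -/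
theorem result (A : Type u) [CommRing A]
    (r : ℕ) (p : Fin r → PrimeSpectrum A) :
    Finite (MaximalSpectrum (Localization (⨅ i, (p i).asIdeal.primeCompl))) ∧
      Set.BijOn (fun m : Ideal (Localization (⨅ i, (p i).asIdeal.primeCompl)) =>
          m.comap (algebraMap A (Localization (⨅ i, (p i).asIdeal.primeCompl))))
        {m | m.IsMaximal}
        {q | q ∈ Set.range (fun i => (p i).asIdeal) ∧
          ∀ j, q ≤ (p j).asIdeal → q = (p j).asIdeal} := by
  set S := ⨅ i, (p i).asIdeal.primeCompl with hS
  have hmem : ∀ x, x ∈ S ↔ ∀ i, x ∉ (p i).asIdeal := fun x => by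
    simp only [hS, Submonoid.mem_iInf]; rfl
  have hd : ∀ i, Disjoint (S : Set A) (p i).asIdeal := fun i =>
    Set.disjoint_left.2 fun x hx hx' => (hmem x).1 hx i hx'
  -- a maximal ideal lies over one of the primes
  have key : ∀ m : Ideal (Localization S), m.IsMaximal → ∃ i, m.under A = (p i).asIdeal ∧
      ∀ j, (p i).asIdeal ≤ (p j).asIdeal → (p i).asIdeal = (p j).asIdeal := by
    intro m hm
    have hq := (IsLocalization.isPrime_iff_isPrime_disjoint S _ m).1 hm.isPrime
    have hsub : (m.under A : Set A) ⊆ ⋃ i ∈ ((Finset.univ : Finset (Fin r)) : Set (Fin r)), ((p i).asIdeal : Set A) := by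
      intro x hx
      by_contra h
      apply Set.disjoint_left.1 hq.2 _ hx
      refine (hmem x).2 fun i hi => h ?_
      exact Set.mem_biUnion (Finset.mem_univ i) hi
    rcases Nat.eq_zero_or_pos r with rfl | hr
    · exfalso
      have := hsub (m.under A).zero_mem
      simp at this
    obtain ⟨i, -, hi⟩ := (Ideal.subset_union_prime (⟨0, hr⟩ : Fin r) ⟨0, hr⟩
      (fun i _ _ _ => (p i).isPrime)).1 hsub
    have hmax : ∀ j, m.under A ≤ (p j).asIdeal → m.under A = (p j).asIdeal := by
      intro j hj
      have hP := IsLocalization.isPrime_of_isPrime_disjoint S (Localization S) _ (p j).isPrime (hd j)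
      have : m = (p j).asIdeal.map (algebraMap A (Localization S)) :=
        hm.eq_of_le hP.ne_top (by rw [← IsLocalization.map_under S _ m]; exact Ideal.map_mono hj)
      rw [this, IsLocalization.under_map_of_isPrime_disjoint S _ (p j).isPrime (hd j)]
    exact ⟨i, hmax i hi, fun j hj => (hmax i hi) ▸ hmax j (hi.trans hj)⟩
  have hinj : Set.InjOn (fun m : Ideal (Localization S) => m.comap (algebraMap A (Localization S)))
      {m | m.IsMaximal} := fun m _ m' _ h => by
    rw [← IsLocalization.map_under S _ m, ← IsLocalization.map_under S _ m']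
    exact congrArg (Ideal.map (algebraMap A (Localization S))) h
  refine ⟨?_, ?_, hinj, ?_⟩
  · refine Finite.of_injective (fun m : MaximalSpectrum (Localization S) =>
      (⟨m.asIdeal.under A, ?_⟩ : Set.range fun i => (p i).asIdeal)) ?_
    · obtain ⟨i, hi, -⟩ := key _ m.isMaximal
      exact ⟨i, hi.symm⟩
    · intro m m' h
      ext1
      exact hinj m.isMaximal m'.isMaximal (congrArg Subtype.val h)
  · intro m hm
    obtain ⟨i, hi, hi'⟩ := key m hm
    exact ⟨⟨i, hi.symm⟩, fun j hj => hi.trans (hi' j (hi.symm.le.trans hj))⟩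
  · rintro q ⟨⟨i, rfl⟩, hq⟩
    have hP := IsLocalization.isPrime_of_isPrime_disjoint S (Localization S) _ (p i).isPrime (hd i)
    obtain ⟨m, hm, hle⟩ := Ideal.exists_le_maximal _ hP.ne_top
    refine ⟨m, hm, ?_⟩
    obtain ⟨k, hk, -⟩ := key m hm
    have h1 : (p i).asIdeal ≤ (p k).asIdeal := by
      rw [← hk, ← IsLocalization.under_map_of_isPrime_disjoint S (Localization S) (p i).isPrime (hd i)]
      exact Ideal.comap_mono hle
    exact hk.trans (hq k h1).symm

end Groth.Agent.S7668
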