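import Groth.Statements.S7669
import Groth.Agent.PicExtendPts.Glue

set_option autoImplicit false
universe u
open CategoryTheory CategoryTheory.Limits AlgebraicGeometry
open Variety

namespace Groth.Agent.S7669

/-- Let X be a scheme and U ⊆ X a retrocompact open such that X ∖ U is discrete and O_{X,x} is
Noetherian of dimension ≤ 1 for every x ∈ X ∖ U. Then (1) there are an invertible module L and a
global section s with U = X_s, and (2) Pic(X) → Pic(U) is surjective. -/
theorem result (X : Scheme.{u}) (U : X.Opens)
    [QuasiCompact U.ι] (hdisc : DiscreteTopology ↥((U : Set X)ᶜ))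
    (hloc : ∀ x : X, x ∉ U → IsNoetherianRing (X.presheaf.stalk x) ∧ ringKrullDim (X.presheaf.stalk x) ≤ 1) :
    (∃ (L : X.Modules) (s : Coh.structureModule X ⟶ L), PicF.IsInvertible L ∧ CohB1.genLocus L s = U) ∧
      ∀ N : (↑U : Scheme.{u}).Modules, PicF.IsInvertible N →
        ∃ L : X.Modules, PicF.IsInvertible L ∧ Nonempty (L.restrict U.ι ≅ N) := by
  exact ⟨PicExtendPts.exists_section U hdisc hloc, fun N hN => PicExtendPts.exists_extension U hdisc hloc hN⟩


end Groth.Agent.S7669
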