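import Groth.Statements.S7671
import Groth.Agent.PicSemiLocal.Geom

set_option autoImplicit false
universe u
open CategoryTheory CategoryTheory.Limits AlgebraicGeometry
open Variety

namespace Groth.Agent.S7671

/-- Let A → B be faithfully flat and X a quasi-compact and quasi-separated scheme over A such that
H^0(X, O_X) is a semi-local ring. Then Pic(X) → Pic(X_B) is injective: an invertible module on X
which becomes trivial on X_B is trivial. -/
theorem result (A B : Type u) [CommRing A]
    [CommRing B] [Algebra A B] [Module.FaithfullyFlat A B]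
    (X : Scheme.{u}) (f : X ⟶ Spec (CommRingCat.of A)) [CompactSpace X] [QuasiSeparatedSpace X]
    (hsl : Finite (MaximalSpectrum Γ(X, ⊤))) (L : X.Modules) (hL : PicF.IsInvertible L)
    (htriv : Nonempty ((Scheme.Modules.pullback
        (pullback.fst f (Spec.map (CommRingCat.ofHom (algebraMap A B))))).obj L ≅
      Coh.structureModule (pullback f (Spec.map (CommRingCat.ofHom (algebraMap A B)))))) :
    Nonempty (L ≅ Coh.structureModule X) := by
  let φ := CommRingCat.ofHom (algebraMap A B)
  have hB : φ.hom.FaithfullyFlat := RingHom.faithfullyFlat_algebraMap_iff.2 inferInstance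
  haveI : Flat (Spec.map φ) := (HasRingHomProperty.Spec_iff (P := @Flat)).2 hB.flat
  haveI : Surjective (Spec.map φ) :=
    ⟨(RingHom.FaithfullyFlat.iff_flat_and_comap_surjective.1 hB).2⟩
  haveI : QuasiCompact f := quasiCompact_of_compactSpace f
  haveI : QuasiSeparated f := (quasiSeparated_iff_quasiSeparatedSpace f).2 ‹_›
  have hff : (Spec.map φ).appTop.hom.FaithfullyFlat := by
    have h := Scheme.ΓSpecIso_naturality φ
    have : (Spec.map φ).appTop = (Scheme.ΓSpecIso _).hom ≫ φ ≫ (Scheme.ΓSpecIso _).inv := by
      rw [← Category.assoc, ← h, Category.assoc, Iso.hom_inv_id, Category.comp_id]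
    rw [this, CommRingCat.hom_comp, CommRingCat.hom_comp]
    exact RingHom.FaithfullyFlat.stableUnderComposition _ _
      (RingHom.FaithfullyFlat.of_bijective (ConcreteCategory.bijective_of_isIso (Scheme.ΓSpecIso _).hom))
      (RingHom.FaithfullyFlat.stableUnderComposition _ _ hB
        (RingHom.FaithfullyFlat.of_bijective (ConcreteCategory.bijective_of_isIso (Scheme.ΓSpecIso _).inv)))
  exact PicSemiLocal.triv_of_triv_pullback (IsPullback.of_hasPullback f (Spec.map φ)) hff hsl hL htriv


end Groth.Agent.S7671
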