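import Groth.Statements.S7674
import Groth.Agent.VarDim.Intersection
import Groth.Agent.VarDim.Top
import Mathlib.AlgebraicGeometry.AffineSpace

set_option autoImplicit false
universe u
open CategoryTheory CategoryTheory.Limits AlgebraicGeometry
open Variety

namespace Groth.Agent.S7674


open Groth.Agent.VarDim Order

section
variable {W R : Type*} [TopologicalSpace W] [CommRing R] (e : W ≃ₜ PrimeSpectrum R)

include e in
theorem height_eq (x : W) : @height W (specializationPreorder W) x = coheight (e x) := by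
  let φ : @OrderIso W (PrimeSpectrum R)ᵒᵈ (specializationPreorder W).toLE _ :=
    { toEquiv := e.toEquiv.trans OrderDual.toDual
      map_rel_iff' := fun {a b} => by
        show e b ≤ e a ↔ b ⤳ a
        rw [PrimeSpectrum.le_iff_specializes]
        exact e.isInducing.specializes_iff }
  exact (@height_orderIso W (PrimeSpectrum R)ᵒᵈ (specializationPreorder W) _ φ x).symm

theorem dim_closure [QuasiSober W] [T0Space W] (x : W) :
    topologicalKrullDim (closure {x} : Set W) = ((coheight (e x) : ℕ∞) : WithBot ℕ∞) := by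
  rw [topologicalKrullDim_isClosed isClosed_closure]
  refine le_antisymm (iSup_le fun z => ?_) (le_iSup_of_le ⟨x, subset_closure rfl⟩ ?_)
  · rw [height_eq e, WithBot.coe_le_coe]
    exact coheight_anti ((PrimeSpectrum.le_iff_specializes _ _).2
      ((specializes_iff_mem_closure.2 z.2).map e.continuous))
  · rw [height_eq e]

theorem exists_genericPoint_component [QuasiSober W] [T0Space W] {Y : Set W} (hY : IsClosed Y)
    {C : Set Y} (hC : C ∈ irreducibleComponents Y) :
    ∃ c ∈ Y, topologicalKrullDim C = ((coheight (e c) : ℕ∞) : WithBot ℕ∞) ∧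
      (∀ d ∈ Y, d ⤳ c → d = c) ∧ ∀ y : Y, y ∈ C ↔ c ⤳ y := by
  have hemb : Topology.IsClosedEmbedding (Subtype.val : Y → W) := hY.isClosedEmbedding_subtypeVal
  have hc' : IsClosed (Subtype.val '' C) :=
    hemb.isClosedMap C (isClosed_of_mem_irreducibleComponents C hC)
  obtain ⟨c, hc⟩ := QuasiSober.sober (hC.1.image _ continuous_subtype_val.continuousOn) hc'
  have hcC : c ∈ Subtype.val '' C := hc.mem
  have hcY : c ∈ Y := by
    obtain ⟨c', -, rfl⟩ := hcC
    exact c'.2
  have hmem : ∀ y : Y, y ∈ C ↔ c ⤳ y := fun y => by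
    rw [specializes_iff_mem_closure, hc.def]
    exact ⟨fun h => ⟨y, h, rfl⟩, fun ⟨y', h, he⟩ => Subtype.ext he ▸ h⟩
  refine ⟨c, hcY, ?_, fun d hd hdc => ?_, hmem⟩
  · rw [← dim_closure e c, hc.def]
    exact IsHomeomorph.topologicalKrullDim_eq _ (hemb.isEmbedding.homeomorphImage C).isHomeomorph
  · have heq := hC.2 (isIrreducible_singleton.closure : IsIrreducible (closure ({⟨d, hd⟩} : Set Y)))
      (fun y hy => specializes_iff_mem_closure.1
        ((subtype_specializes_iff _ _).2 (hdc.trans ((hmem y).1 hy))))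
    exact (hdc.antisymm ((hmem ⟨d, hd⟩).1 (heq (subset_closure rfl)))).eq

theorem exists_above [QuasiSober W] [T0Space W] {X : Set W} (hX : IsClosed X) {r : ℕ}
    (hr : ∀ Z ∈ irreducibleComponents X, topologicalKrullDim Z = r) {c : W} (hc : c ∈ X) :
    ∃ x ∈ X, x ⤳ c ∧ coheight (e x) = r := by
  obtain ⟨x, hx, hd, -, hmem⟩ := exists_genericPoint_component e hX
    (C := irreducibleComponent (⟨c, hc⟩ : X)) (irreducibleComponent_mem_irreducibleComponents _)
  refine ⟨x, hx, (hmem ⟨c, hc⟩).1 mem_irreducibleComponent, ?_⟩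
  rw [hr _ (irreducibleComponent_mem_irreducibleComponents _)] at hd
  exact_mod_cast hd.symm

theorem main {k : Type u} [Field k] {σ : Type u} [Fintype σ] {W : Type u} [TopologicalSpace W]
    [QuasiSober W] [T0Space W] (e : W ≃ₜ PrimeSpectrum (MvPolynomial σ k)) {r s : ℕ}
    (X Y : Set W) (hX : IsClosed X) (hY : IsClosed Y)
    (hXr : ∀ Z ∈ irreducibleComponents X, topologicalKrullDim Z = r)
    (hYs : ∀ Z ∈ irreducibleComponents Y, topologicalKrullDim Z = s)
    (Z : Set ↥(X ∩ Y)) (hZ : Z ∈ irreducibleComponents ↥(X ∩ Y)) :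
    ((r + s : ℕ) : WithBot ℕ∞) ≤ topologicalKrullDim Z + (Fintype.card σ : WithBot ℕ∞) := by
  obtain ⟨c, hc, hd, hmax, -⟩ := exists_genericPoint_component e (hX.inter hY) hZ
  obtain ⟨x, hx, hxc, hxr⟩ := exists_above e hX hXr hc.1
  obtain ⟨y, hy, hyc, hys⟩ := exists_above e hY hYs hc.2
  have h1 : (e x).asIdeal ≤ (e c).asIdeal := (PrimeSpectrum.le_iff_specializes _ _).2 (hxc.map e.continuous)
  have h2 : (e y).asIdeal ≤ (e c).asIdeal := (PrimeSpectrum.le_iff_specializes _ _).2 (hyc.map e.continuous)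
  obtain ⟨P, hP, hPc⟩ := Ideal.exists_minimalPrimes_le (sup_le h1 h2)
  let R : PrimeSpectrum (MvPolynomial σ k) := ⟨P, hP.1.1⟩
  have hsp : ∀ (a : W), (e a).asIdeal ≤ P → a ⤳ e.symm R := fun a ha => by
    have h := ((PrimeSpectrum.le_iff_specializes (e a) R).1 ha).map e.symm.continuous
    rwa [e.symm_apply_apply] at h
  have hR : e.symm R ∈ X ∩ Y :=
    ⟨(hsp x (le_sup_left.trans hP.1.2)).mem_closed hX hx,
      (hsp y (le_sup_right.trans hP.1.2)).mem_closed hY hy⟩
  have hRc : e.symm R ⤳ c := by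
    have h := ((PrimeSpectrum.le_iff_specializes R (e c)).1 hPc).map e.symm.continuous
    rwa [e.symm_apply_apply] at h
  have heq : e c = R := by rw [← hmax _ hR hRc, e.apply_symm_apply]
  have h := affine_intersection k (e x) (e y) R hP
  rw [hd, heq]
  rw [hxr, hys] at h
  exact_mod_cast h

end

/-- Let k be a field, n ≥ 0, and X, Y ⊆ A^n_k closed subsets which are equidimensional of dimensions r
and s. Then each irreducible component Z of the intersection X ∩ Y satisfies dim Z ≥ r + s − n. -/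
theorem result (k : Type u) [Field k] (n r s : ℕ)
    (X Y : Set ↥(𝔸(ULift.{u} (Fin n); Spec (CommRingCat.of k)))) (hX : IsClosed X) (hY : IsClosed Y)
    (hXr : ∀ Z ∈ irreducibleComponents X, topologicalKrullDim Z = r)
    (hYs : ∀ Z ∈ irreducibleComponents Y, topologicalKrullDim Z = s)
    (Z : Set ↥(X ∩ Y)) (hZ : Z ∈ irreducibleComponents ↥(X ∩ Y)) :
    ((r + s : ℕ) : WithBot ℕ∞) ≤ topologicalKrullDim Z + (n : WithBot ℕ∞) := by
  have h := main (Scheme.homeoOfIso (AffineSpace.SpecIso (ULift.{u} (Fin n)) (CommRingCat.of k)))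
    X Y hX hY hXr hYs Z hZ
  simpa [Fintype.card_ulift] using h

end Groth.Agent.S7674
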