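import Groth.Statements.S7675
import Groth.Agent.VarDim.Proj

set_option autoImplicit false
universe u
open CategoryTheory CategoryTheory.Limits AlgebraicGeometry
open Variety

namespace Groth.Agent.S7675


open Groth.Agent.VarDim Groth.Agent.VarDim.ProjN Order MvPolynomial

/-- Let k be a field, n ≥ 0 and X, Y ⊆ P^n_k nonempty closed subsets of dimensions r and s with r + s ≥
n. Then X ∩ Y is nonempty and dim(X ∩ Y) ≥ r + s − n. -/
theorem result (k : Type u) [Field k] (n r s : ℕ)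
    (X Y : Set ↥(CohB1.ProjSpace n k)) (hX : IsClosed X) (hY : IsClosed Y)
    (hXne : X.Nonempty) (hYne : Y.Nonempty)
    (hXr : topologicalKrullDim X = r) (hYs : topologicalKrullDim Y = s) (hrs : n ≤ r + s) :
    (X ∩ Y).Nonempty ∧ ((r + s : ℕ) : WithBot ℕ∞) ≤ topologicalKrullDim ↥(X ∩ Y) + (n : WithBot ℕ∞) := by
  obtain ⟨x, hx, hxd⟩ := exists_pdim_eq (k := k) (n := n) hX hXr
  obtain ⟨y, hy, hyd⟩ := exists_pdim_eq (k := k) (n := n) hY hYs
  have hle : (pp x).asIdeal ⊔ (pp y).asIdeal ≤ vertex k n :=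
    sup_le (pp_lt_vertexPoint x).le (pp_lt_vertexPoint y).le
  obtain ⟨P, hP, -⟩ := Ideal.exists_minimalPrimes_le hle
  have h := affine_intersection₀ k (pp x) (pp y) ⟨P, hP.1.1⟩ hP
  rw [coheight_pp_eq, coheight_pp_eq, hxd, hyd, Fintype.card_fin] at h
  obtain ⟨z, hz⟩ := exists_point_minimal ((isHomogeneous_pp x).sup (isHomogeneous_pp y)) hP (fun h' => by
    subst h'
    rw [show (⟨vertex k n, hP.1.1⟩ : PrimeSpectrum _) = vertexPoint k n from rfl,
      coheight_vertexPoint, zero_add] at h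
    have : r + 1 + (s + 1) ≤ n + 1 := by exact_mod_cast h
    omega)
  rw [show (⟨P, hP.1.1⟩ : PrimeSpectrum _) = pp z from PrimeSpectrum.ext hz.symm, coheight_pp_eq] at h
  have h' : r + 1 + (s + 1) ≤ pdim z + 1 + (n + 1) := by exact_mod_cast h
  have hzX : z ∈ X ∩ Y := ⟨mem_of_le hX hx (pp_le_pp.1 (hz ▸ le_sup_left.trans hP.1.2)),
    mem_of_le hY hy (pp_le_pp.1 (hz ▸ le_sup_right.trans hP.1.2))⟩
  refine ⟨⟨z, hzX⟩, le_trans ?_ (add_le_add_left (le_topologicalKrullDim (hX.inter hY) hzX) _)⟩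
  have : r + s ≤ pdim z + n := by omega
  exact_mod_cast this

end Groth.Agent.S7675
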