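import Groth.Statements.S7676
import Groth.Agent.HyperplaneLib.Main

set_option autoImplicit false
universe u
open CategoryTheory CategoryTheory.Limits AlgebraicGeometry
open Variety

namespace Groth.Agent.S7676

/-- Let k be a field, n ≥ 1 and i : H → P^n_k a hyperplane, the zero scheme of a nonzero section of
O(1). Then there is an isomorphism φ : P^{n-1}_k → H under which i^*O(1) pulls back to O(1).
(Indexed here with P^{n+1} and P^n.) -/
theorem result (k : Type u) [Field k] (n : ℕ)
    (s : Coh.structureModule (CohB1.ProjSpace (n + 1) k) ⟶ Twist.twistProjSpace (n + 1) k 1) (hs : s ≠ 0) :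
    ∃ φ : CohB1.ProjSpace n k ≅ (PicF2.zeroScheme _ s).subscheme,
      Nonempty ((Scheme.Modules.pullback (φ.hom ≫ (PicF2.zeroScheme _ s).subschemeι)).obj
          (Twist.twistProjSpace (n + 1) k 1) ≅ Twist.twistProjSpace n k 1) := by
  exact Groth.Agent.HyperplaneLib.exists_iso k n s hs


end Groth.Agent.S7676
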