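import Groth.Statements.S7677
import Groth.Agent.Pic13Lib.BoundedReg
import Groth.Agent.S3224
set_option autoImplicit false
universe u
open CategoryTheory CategoryTheory.Limits AlgebraicGeometry
open Variety

namespace Groth.Agent.S7677
open AlgebraicGeometry
open Groth.Agent
set_option backward.isDefEq.respectTransparency false
set_option backward.isDefEq.respectTransparency.types false

/-- Let k be a field, n ≥ 0 and F a coherent module on P^n_k with Hilbert polynomial P, i.e. χ(P^n_k,
F(d)) = P(d) for all d. Then P(d) = dim_k H^0(P^n_k, F(d)) for all d ≫ 0. -/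
theorem result (k : Type u) [Field k] (n : ℕ)
    (F : (CohB1.ProjSpace n k).Modules) (hF : Coh.IsCoh F) (P : Polynomial ℚ)
    (hP : ∀ d : ℤ, (Curv2.euler k (CohB1.ProjSpace n k)
      (CohB1.tensorMod F (Twist.twistProjSpace n k d)) : ℚ) = P.eval (d : ℚ)) :
    ∃ d₀ : ℤ, ∀ d : ℤ, d₀ ≤ d →
      P.eval (d : ℚ) = (Module.finrank k (Coh.HH (CohB1.ProjSpace n k)
        (CohB1.tensorMod F (Twist.twistProjSpace n k d)) 0) : ℚ) := by
  haveI : IsProper (CohB1.ProjSpace n k ↘ Spec (CommRingCat.of k)) := PnCoh.Chow.isProper_toSpec n k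
  obtain ⟨m, hm⟩ := Pic13Lib.exists_isMRegular (X := CohB1.ProjSpace n k) (𝟙 (CohB1.ProjSpace n k)) hF
  have hreg : ∀ i : ℕ, 1 ≤ i → Subsingleton (Coh.HH (CohB1.ProjSpace n k)
      (CohB1.tensorMod F (Twist.twistProjSpace n k ((m : ℤ) - i))) i) := fun i hi =>
    haveI := hm i hi
    QCoh.subsingleton_HH_of_iso ((DCoh.tensorBi.obj F).mapIso
      ((Scheme.Modules.pullbackId (CohB1.ProjSpace n k)).app (Twist.twistProjSpace n k ((m : ℤ) - i)))) i this
  refine ⟨m, fun d hd => ?_⟩
  rw [← hP d]
  have h : Curv2.euler k (CohB1.ProjSpace n k) (CohB1.tensorMod F (Twist.twistProjSpace n k d)) =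
      (Module.finrank k (Coh.HH (CohB1.ProjSpace n k) (CohB1.tensorMod F (Twist.twistProjSpace n k d)) 0) : ℤ) := by
    unfold Curv2.euler
    rw [finsum_eq_single _ 0 fun i hi => by
      haveI := S3224.result k n F hF m hreg i d (by omega) (by omega)
      rw [Module.finrank_zero_of_subsingleton, Nat.cast_zero, mul_zero]]
    rw [pow_zero, one_mul]
  exact_mod_cast h

end Groth.Agent.S7677
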