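import Groth.Statements.S7679
import Groth.Agent.Lib.NegVanAmple
import Groth.Agent.Alg6.AssDepth

set_option autoImplicit false
set_option backward.isDefEq.respectTransparency false
set_option backward.isDefEq.respectTransparency.types false
set_option linter.style.haveILetI false
set_option linter.unusedSectionVars false
set_option maxHeartbeats 400000
universe u
open CategoryTheory CategoryTheory.Limits AlgebraicGeometry
open Variety

namespace Groth.Agent.S7679

open CategoryTheory CategoryTheory.Limits AlgebraicGeometry

/-- Let X be proper over a field k, L an ample invertible module and F a coherent module such that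
Ass(F) contains no closed point. Then Γ(X, F ⊗ L^{⊗n}) = 0 for n ≪ 0; here negative powers of L are
written as positive powers of an inverse M of L. -/
theorem result (k : Type u) [Field k] (X : Scheme.{u}) [X.Over (Spec (CommRingCat.of k))] [IsProper (X ↘ (Spec (CommRingCat.of k)))]
    (L : X.Modules) (hL : CohB1.IsAmple L) (M : X.Modules) (hM : ClSub.IsInverseOf L M)
    (F : X.Modules) (hF : Coh.IsCoh F) (hass : ∀ x : X, IsClosed ({x} : Set X) → ¬ Curv2.IsAssPoint F x) :
    ∃ n₀ : ℕ, ∀ n : ℕ, n₀ ≤ n →
      Subsingleton (Coh.HH X (CohB1.tensorMod F (CohB1.tensorPow M n)) 0) := by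
  refine NegVanAmple.exists_vanishing (X ↘ Spec (CommRingCat.of k)) hL hM hF 1 (fun x hx => ?_) 0 one_pos
  haveI : IsLocallyNoetherian X := LocallyOfFiniteType.isLocallyNoetherian (X ↘ Spec (CommRingCat.of k))
  haveI : IsNoetherianRing (X.presheaf.stalk x) := inferInstance
  haveI := QCoh.finite_stalk_of_isFT hF.1 hF.2 x
  rw [Nat.cast_one]
  exact Alg6.one_le_depth_iff.2 (hass x hx)

end Groth.Agent.S7679
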