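import Groth.Statements.S7682
import Groth.Agent.Lib.IntAltApp

set_option autoImplicit false
set_option backward.isDefEq.respectTransparency false
set_option backward.isDefEq.respectTransparency.types false
set_option linter.style.haveILetI false
set_option linter.unusedSectionVars false
set_option maxHeartbeats 400000
universe u
open CategoryTheory CategoryTheory.Limits AlgebraicGeometry
open Variety

namespace Groth.Agent.S7682

open Groth.Agent

/-- Let f : Y → X be a morphism of proper schemes over a field k, Z ⊆ Y an integral closed subscheme of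
dimension d and L_1, …, L_d invertible modules on X. Then (f^*L_1 ⋯ f^*L_d · Z) = deg(Z → f(Z)) ·
(L_1 ⋯ L_d · f(Z)), f(Z) being the scheme-theoretic image and deg the degree of the function field
extension, read as 0 when dim f(Z) < d (equivalently when that extension is infinite). Both
intersection numbers are the n_1⋯n_d-coefficients of the polynomials computing the corresponding
Euler characteristics. -/
theorem result (k : Type u) [Field k] (X Y : Scheme.{u})
    [X.Over (Spec (CommRingCat.of k))] [Y.Over (Spec (CommRingCat.of k))]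
    [IsProper (X ↘ (Spec (CommRingCat.of k)))] [IsProper (Y ↘ (Spec (CommRingCat.of k)))]
    (f : Y ⟶ X) (hf : f ≫ (X ↘ (Spec (CommRingCat.of k))) = Y ↘ (Spec (CommRingCat.of k)))
    (Z : Y.IdealSheafData) [IsIntegral Z.subscheme] (d : ℕ)
    (hZ : topologicalKrullDim (Z.support : Set Y) = d)
    (L : Fin d → X.Modules) (hL : ∀ i, PicF.IsInvertible (L i))
    (PY PX : MvPolynomial (Fin d) ℚ)
    (hPY : ∀ n : Fin d → ℕ, (Curv2.euler k Y (Curv2.tensorPows (ClSub.quotMod Z) d (fun i => (Scheme.Modules.pullback f).obj (L i)) n) : ℚ) = MvPolynomial.eval (fun i => (n i : ℚ)) PY)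
    (hPX : ∀ n : Fin d → ℕ, (Curv2.euler k X (Curv2.tensorPows (ClSub.quotMod (Z.subschemeι ≫ f).ker) d L n) : ℚ) = MvPolynomial.eval (fun i => (n i : ℚ)) PX) :
    MvPolynomial.coeff (Finsupp.equivFunOnFinite.symm fun _ : Fin d => 1) PY =
      ((Z.subschemeι ≫ f).residueDegree (genericPoint Z.subscheme) : ℚ) *
        MvPolynomial.coeff (Finsupp.equivFunOnFinite.symm fun _ : Fin d => 1) PX := by
  exact IntAlt.coeff_pullback k f hf Z hZ hL PY PX hPY hPX

end Groth.Agent.S7682
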