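import Groth.Statements.S7683
import Groth.Agent.DeltaLib.FieldExt
import Groth.Agent.NormCurve.FibrePoint
import Groth.Agent.GeomField.Chart

set_option autoImplicit false
universe u
open CategoryTheory CategoryTheory.Limits AlgebraicGeometry
open Variety

namespace Groth.Agent.S7683


open scoped TensorProduct

attribute [local instance] Curv2.stalkAlgebra

set_option linter.style.haveILetI false
set_option backward.isDefEq.respectTransparency false
set_option backward.isDefEq.respectTransparency.types false

open Groth.Agent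

theorem isLocalization_stalk_of_spec {Y : Scheme.{u}} {S : Type u} [CommRing S] (j : Spec (CommRingCat.of S) ⟶ Y)
    [IsOpenImmersion j] (Q : Spec (CommRingCat.of S)) :
    letI := ((StructureSheaf.toStalk S Q) ≫ inv (j.stalkMap Q)).hom.toAlgebra
    IsLocalization.AtPrime (Y.presheaf.stalk (j Q)) (PrimeSpectrum.asIdeal (R := S) Q) := by
  letI := ((StructureSheaf.toStalk S Q) ≫ inv (j.stalkMap Q)).hom.toAlgebra
  let e : (Spec.structureSheaf S).presheaf.stalk Q ≅ Y.presheaf.stalk (j Q) := (asIso (j.stalkMap Q)).symm
  exact IsLocalization.isLocalization_of_algEquiv (PrimeSpectrum.asIdeal (R := S) Q).primeCompl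
    (AlgEquiv.ofRingEquiv (f := e.commRingCatIsoToRingEquiv) fun _ => rfl)

theorem stalkMap_normalization (k : Type u) [Field k] (X : Scheme.{u}) [X.Over (Spec (CommRingCat.of k))]
    [IsIntegral X] [QuasiCompact (X.fromSpecStalk (genericPoint X))] [QuasiSeparated (X.fromSpecStalk (genericPoint X))]
    (y : ↥(Curv2.normalization X)) (a : k) :
    (letI : (Curv2.normalization X).Over (Spec (CommRingCat.of k)) :=
        ⟨Curv2.normalizationι X ≫ (X ↘ (Spec (CommRingCat.of k)))⟩
     Curv2.stalkMap k (Curv2.normalization X) y a) =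
      (Curv2.normalization X).presheaf.germ ⊤ y trivial
        ((Curv2.normalizationι X).appTop (Coh.toGlobal (X ↘ Spec (CommRingCat.of k)) a)) :=
  rfl

/-- Let X be locally of finite type over a field k with normalization ν : X^ν → X, K/k a field
extension, y ∈ X_K a point with image x ∈ X. Assume O_{X,x} is reduced of dimension one, κ(x')/k is
separable for every x' ∈ X^ν over x, and dim O_{X_K,y} = 1. Then the δ-invariant of X at x equals
the δ-invariant of X_K at y. (The published statement needs only O_{X,x} reduced; this row takes X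
integral so that X^ν is the normalization of an integral scheme.) -/
theorem result (k : Type u) [Field k] (X : Scheme.{u}) [X.Over (Spec (CommRingCat.of k))]
    [IsIntegral X] [LocallyOfFiniteType (X ↘ (Spec (CommRingCat.of k)))]
    [QuasiCompact (X.fromSpecStalk (genericPoint X))] [QuasiSeparated (X.fromSpecStalk (genericPoint X))]
    (K : Type u) [Field K] [Algebra k K] (y : ↥(Curv2.bc k X K))
    (hdx : ringKrullDim (X.presheaf.stalk ((Curv2.bcFst k X K).base y)) = 1)
    (hsep : letI : (Curv2.normalization X).Over (Spec (CommRingCat.of k)) :=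
        ⟨Curv2.normalizationι X ≫ (X ↘ (Spec (CommRingCat.of k)))⟩
      ∀ x' : ↥(Curv2.normalization X), (Curv2.normalizationι X).base x' = (Curv2.bcFst k X K).base y →
        GeometricallyReduced (Spec.map (CommRingCat.ofHom (Curv2.resMap k (Curv2.normalization X) x'))))
    (hdy : ringKrullDim ((Curv2.bc k X K).presheaf.stalk y) = 1) :
    Curv2.deltaInv (X.presheaf.stalk ((Curv2.bcFst k X K).base y)) =
      Curv2.deltaInv ((Curv2.bc k X K).presheaf.stalk y) := by
  obtain ⟨c, P, hP⟩ := GeomField.exists_chart (k := k) ((Curv2.bcFst k X K).base y)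
  obtain ⟨Q, hQ⟩ := c.exists_bcEmb_eq K P y hP.symm
  subst hQ
  have hQP : (PrimeSpectrum.asIdeal (R := c.R ⊗[k] K) Q).comap (algebraMap c.R (c.R ⊗[k] K)) =
      PrimeSpectrum.asIdeal (R := c.R) P := (c.bcEmb_fst_eq_iff K P Q).1 hP.symm
  revert hdx hsep
  rw [show (Curv2.bcFst k X K).base (c.bcEmb K Q) = c.emb P from hP.symm]
  intro hdx hsep
  letI := c.stalkAlg P
  haveI := c.isScalarTower_stalk P
  haveI := c.isLocalization_stalk P
  haveI : Nonempty (Spec (CommRingCat.of c.R)) := ⟨P⟩
  haveI : IsIntegral (Spec (CommRingCat.of c.R)) := isIntegral_of_isOpenImmersion c.emb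
  haveI : IsDomain c.R := affine_isIntegral_iff (CommRingCat.of c.R) |>.1 inferInstance
  haveI : LocallyOfFiniteType (Spec.map (CommRingCat.ofHom (algebraMap k c.R))) := c.over_eq ▸ inferInstance
  haveI : Algebra.FiniteType k c.R := RingHom.finiteType_algebraMap.1
    ((HasRingHomProperty.Spec_iff (P := @LocallyOfFiniteType)).1 this)
  let S := c.R ⊗[k] K
  let B := (Curv2.bc k X K).presheaf.stalk (c.bcEmb K Q)
  letI aS : Algebra S B := ((StructureSheaf.toStalk S Q) ≫ inv ((c.bcEmb K).stalkMap Q)).hom.toAlgebra
  haveI : IsLocalization.AtPrime B (PrimeSpectrum.asIdeal (R := S) Q) := isLocalization_stalk_of_spec (c.bcEmb K) Q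
  letI aR : Algebra c.R B := ((algebraMap S B).comp (algebraMap c.R S)).toAlgebra
  haveI : IsScalarTower c.R S B := IsScalarTower.of_algebraMap_eq fun _ => rfl
  let A := X.presheaf.stalk (c.emb P)
  let ψ : A →+* B := IsLocalization.lift (M := (PrimeSpectrum.asIdeal (R := c.R) P).primeCompl)
    (g := algebraMap c.R B) fun s => IsLocalization.map_units B
      (⟨algebraMap c.R S s.1, fun h => s.2 (hQP.subst (motive := fun q => s.1 ∈ q) h)⟩ :
        (PrimeSpectrum.asIdeal (R := S) Q).primeCompl)
  letI aA : Algebra A B := ψ.toAlgebra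
  haveI : IsScalarTower c.R A B := IsScalarTower.of_algebraMap_eq fun r => (IsLocalization.lift_eq _ r).symm
  haveI : (PrimeSpectrum.asIdeal (R := c.R) P).IsPrime := P.2
  haveI : (PrimeSpectrum.asIdeal (R := S) Q).IsPrime := Q.2
  refine (DeltaLib.deltaInv_eq_fieldExt (k := k) (A := A) (B := B) K (PrimeSpectrum.asIdeal (R := c.R) P)
    (PrimeSpectrum.asIdeal (R := S) Q) hQP hdx hdy fun m hm => ?_).symm
  obtain ⟨y', hy', g, hgs, hg⟩ := NormCurve.exists_point X (c.emb P) m
  haveI : GeometricallyReduced _ := hsep y' hy'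
  letI : (Curv2.normalization X).Over (Spec (CommRingCat.of k)) :=
      ⟨Curv2.normalizationι X ≫ (X ↘ (Spec (CommRingCat.of k)))⟩
  let F := (Curv2.normalization X).residueField y'
  letI : Algebra k F := (Curv2.resMap k (Curv2.normalization X) y').toAlgebra
  letI := Ideal.Quotient.field m
  haveI : IsLocalHom g := IsLocalHom.of_surjective g hgs
  let gbar : F →ₐ[k] (integralClosure A (FractionRing A) ⧸ m) :=
    { toRingHom := IsLocalRing.ResidueField.lift g
      commutes' := fun a => by
        show g (Curv2.stalkMap k (Curv2.normalization X) y' a) = _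
        rw [stalkMap_normalization k X y' a, hg]
        rfl }
  have hgb : Function.Bijective gbar := ⟨gbar.toRingHom.injective, fun z => by
    obtain ⟨w, rfl⟩ := hgs z
    exact ⟨(Curv2.normalization X).residue y' w, rfl⟩⟩
  haveI : IsReduced (pullback (Spec.map (CommRingCat.ofHom (algebraMap k F)))
      (Spec.map (CommRingCat.ofHom (algebraMap k K)))) :=
    haveI : GeometricallyReduced (Spec.map (CommRingCat.ofHom (algebraMap k F))) := hsep y' hy'
    pullback_of_geometrically GeometricallyReduced.geometrically_isReduced K _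
  haveI : IsReduced (Spec (CommRingCat.of (F ⊗[k] K))) := isReduced_of_isOpenImmersion (pullbackSpecIso k F K).inv
  haveI : _root_.IsReduced (F ⊗[k] K) := (affine_isReduced_iff (CommRingCat.of (F ⊗[k] K))).mp inferInstance
  let e := Algebra.TensorProduct.congr (AlgEquiv.ofBijective gbar hgb) (AlgEquiv.refl : K ≃ₐ[k] K)
  exact isReduced_of_injective e.symm e.symm.injective

end Groth.Agent.S7683
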