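import Groth.Statements.S7687
import Groth.Agent.KrullAki.Glue

set_option autoImplicit false
universe u
open CategoryTheory CategoryTheory.Limits AlgebraicGeometry
open Variety

namespace Groth.Agent.S7687

open Groth.Agent.KrullAki

/-- Let K be a field and A, B ⊆ K Noetherian semi-local domains of dimension one with fraction field K
such that A ⊗ B → K is surjective, and R = A ∩ B. Then Spec A and Spec B each map to Spec R by an
open immersion, Spec R is the union of the two images, and the natural map A ⊗_R B → K is an
isomorphism. -/
theorem result (K : Type u) [Field K]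
    (A : Subring K) [IsFractionRing A K] (B : Subring K) [IsFractionRing B K] [IsNoetherianRing A] [IsNoetherianRing B]
    (hdimA : ringKrullDim A = 1) (hdimB : ringKrullDim B = 1)
    (hslA : Finite (MaximalSpectrum A)) (hslB : Finite (MaximalSpectrum B)) (hgen : A ⊔ B = ⊤) :
    IsOpenImmersion (Spec.map (CommRingCat.ofHom (Subring.inclusion (inf_le_left : A ⊓ B ≤ A)))) ∧
      IsOpenImmersion (Spec.map (CommRingCat.ofHom (Subring.inclusion (inf_le_right : A ⊓ B ≤ B)))) ∧
      Set.range (Spec.map (CommRingCat.ofHom (Subring.inclusion (inf_le_left : A ⊓ B ≤ A)))).base ∪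
        Set.range (Spec.map (CommRingCat.ofHom (Subring.inclusion (inf_le_right : A ⊓ B ≤ B)))).base = Set.univ ∧
      IsPushout (CommRingCat.ofHom (Subring.inclusion (inf_le_left : A ⊓ B ≤ A)))
        (CommRingCat.ofHom (Subring.inclusion (inf_le_right : A ⊓ B ≤ B)))
        (CommRingCat.ofHom A.subtype) (CommRingCat.ofHom B.subtype) := by
  exact glue_two A B hdimA hdimB hslA hslB hgen

end Groth.Agent.S7687
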