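import Groth.Statements.S7690
import Groth.Agent.S0034
import Groth.Agent.S2297
import Groth.Agent.PnCoh.TwistQCoh
import Groth.Agent.Proj16.Points
-- import your own Groth.Agent.* helpers here

set_option autoImplicit false
universe u
open CategoryTheory CategoryTheory.Limits AlgebraicGeometry
open Variety

namespace Groth.Agent.S7690

theorem subsingleton_iff (k : Type u) [Field k] (X : Scheme.{u}) [X.Over (Spec (CommRingCat.of k))]
    [CompactSpace X] [QuasiSeparatedSpace X] (k' : Type u) [Field k'] [Algebra k k'] (M : X.Modules)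
    (hM : Coh.IsQCoh M) (i : ℕ) :
    Subsingleton (Coh.HH X M i) ↔
      Subsingleton (Coh.HH (Curv2.bc k X k') ((Scheme.Modules.pullback (Curv2.bcFst k X k')).obj M) i) := by
  letI : (Curv2.bc k X k').Over (Spec (CommRingCat.of k')) := ⟨Curv2.bcSnd k X k'⟩
  haveI := hM
  obtain ⟨e⟩ := Groth.Agent.S0034.result k k' X (Curv2.bc k X k') (Curv2.bcFst k X k') (IsPullback.of_hasPullback _ _) M i
  rw [← e.toEquiv.subsingleton_congr]
  exact (Module.FaithfullyFlat.subsingleton_tensorProduct_iff_right k k').symm


/-- Let k'/k be a field extension (k' in the universe of k), n ≥ 0, F a coherent module on P^n_k with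
pullback F' to P^n_{k'}. For every integer m, F is m-regular exactly when F' is. Here P^n_{k'} is
taken as the base change P^n_k ×_k Spec k' and the m-regularity of F' is spelled out as the
vanishing of H^i(P^n_{k'}, (F(m − i))') for 1 ≤ i ≤ n, (F(m − i))' being the pullback of F ⊗ O(m −
i). -/
theorem result (k : Type u) [Field k] (n : ℕ)
    (k' : Type u) [Field k'] [Algebra k k'] (F : (CohB1.ProjSpace n k).Modules) (hF : Coh.IsCoh F) (m : ℤ) :
    Curv2.IsMRegular k n F m ↔
      ∀ i : ℕ, 1 ≤ i → i ≤ n →
        Subsingleton (Coh.HH (Curv2.bc k (CohB1.ProjSpace n k) k')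
          ((Scheme.Modules.pullback (Curv2.bcFst k (CohB1.ProjSpace n k) k')).obj
            (CohB1.tensorMod F (Twist.twistProjSpace n k (m - i)))) i) := by
  haveI : IsNoetherian (CohB1.ProjSpace n k) := Groth.Agent.Proj16.isNoetherian_proj _
  have hT : ∀ d : ℤ, Coh.IsQCoh (Twist.twistProjSpace n k d) := fun d =>
    Groth.Agent.PnCoh.isQCoh_twist_mvPolynomial (Fin (n + 1)) k d
  have key : ∀ i : ℕ, _ := fun i =>
    subsingleton_iff k (CohB1.ProjSpace n k) k' (CohB1.tensorMod F (Twist.twistProjSpace n k (m - (i : ℤ))))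
      (@Groth.Agent.S2297.result _ F (Twist.twistProjSpace n k (m - (i : ℤ))) hF.1 (hT _)).1 i
  exact ⟨fun h i h1 h2 => (key i).1 (h i h1 h2), fun h i h1 h2 => (key i).2 (h i h1 h2)⟩

end Groth.Agent.S7690
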