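import Groth.Statements.S8256
import Groth.Agent.RelSpecX.AffHom
import Groth.Agent.RelSpecX.Gamma

set_option backward.isDefEq.respectTransparency false
set_option backward.isDefEq.respectTransparency.types false
set_option linter.style.haveILetI false

set_option autoImplicit false
universe u
open CategoryTheory CategoryTheory.Limits AlgebraicGeometry Opposite TopologicalSpace
open EGA2

namespace Groth.Agent.S8256

/-- Let Y be affine over S (g : Y → S affine) and X, X' affine over Y (f, f' affine), and let Z = X ×_Y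
X' with projections p : Z → X, p' : Z → X'. Then Z is affine over Y and over S, and its direct-image
algebra on S is the tensor product: the square of quasi-coherent O_S-algebras A(Y) → A(X), A(Y) →
A(X'), A(X) → A(Z), A(X') → A(Z), whose maps are induced by f, f', p, p', is a pushout square in the
category of quasi-coherent O_S-algebras. -/
theorem result {X X' Y Z S : Scheme.{u}} (g : Y ⟶ S) [IsAffineHom g]
    (f : X ⟶ Y) [IsAffineHom f] (f' : X' ⟶ Y) [IsAffineHom f'] (p : Z ⟶ X) (p' : Z ⟶ X') [IsAffineHom p]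
    (hZ : IsPullback p p' f f') :
    IsPushout
      (C := RelSpec.QCAlg S)
      (⟨AffAlg.algHom g (f ≫ g) f rfl, AffAlg.algHom_comm g (f ≫ g) f rfl⟩ :
        RelSpec.QCAlg.directImage g ⟶ RelSpec.QCAlg.directImage (f ≫ g))
      (⟨AffAlg.algHom g (f' ≫ g) f' rfl, AffAlg.algHom_comm g (f' ≫ g) f' rfl⟩ :
        RelSpec.QCAlg.directImage g ⟶ RelSpec.QCAlg.directImage (f' ≫ g))
      (⟨AffAlg.algHom (f ≫ g) (p ≫ f ≫ g) p rfl, AffAlg.algHom_comm (f ≫ g) (p ≫ f ≫ g) p rfl⟩ :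
        RelSpec.QCAlg.directImage (f ≫ g) ⟶ RelSpec.QCAlg.directImage (p ≫ f ≫ g))
      (⟨AffAlg.algHom (f' ≫ g) (p ≫ f ≫ g) p'
          ((Category.assoc p' f' g).symm.trans ((congrArg (· ≫ g) hZ.w.symm).trans (Category.assoc p f g))),
        AffAlg.algHom_comm (f' ≫ g) (p ≫ f ≫ g) p'
          ((Category.assoc p' f' g).symm.trans ((congrArg (· ≫ g) hZ.w.symm).trans (Category.assoc p f g)))⟩ :
        RelSpec.QCAlg.directImage (f' ≫ g) ⟶ RelSpec.QCAlg.directImage (p ≫ f ≫ g)) := by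
  haveI : IsAffineHom p' := MorphismProperty.of_isPullback (P := @IsAffineHom) hZ inferInstance
  have key : ∀ {W : Scheme.{u}} (k : W ⟶ S) [IsAffineHom k] (C : RelSpec.QCAlg S),
      ∀ h h' : C.spec ⟶ W, ∀ (w : h ≫ k = C.π) (w' : h' ≫ k = C.π),
        AffAlg.algHom k C.π h w = AffAlg.algHom k C.π h' w' → h = h' := fun k _ C h h' w w' e =>
    congrArg Subtype.val ((Groth.Agent.RelSpecX.algOf_bijective k C.π).1
      (show AffAlg.algOf k C.π ⟨h, w⟩ = AffAlg.algOf k C.π ⟨h', w'⟩ from Subtype.ext e))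
  have hom_iff : ∀ {W : Scheme.{u}} (k : W ⟶ S) [IsAffineHom k] (C : RelSpec.QCAlg S)
      (a : RelSpec.QCAlg.directImage k ⟶ C), ∃ (h : C.spec ⟶ W) (w : h ≫ k = C.π),
        AffAlg.algHom k C.π h w ≫ C.gammaMap = a.hom := by
    intro W k _ C a
    obtain ⟨⟨h, w⟩, hh⟩ := (Groth.Agent.RelSpecX.algOf_bijective k C.π).2
      ⟨a.hom ≫ inv C.gammaMap, by
        rw [← Category.assoc, show k.c ≫ a.hom = C.str from a.comm, IsIso.comp_inv_eq, C.π_c_gammaMap]⟩
    refine ⟨h, w, ?_⟩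
    rw [show AffAlg.algHom k C.π h w = a.hom ≫ inv C.gammaMap from congrArg Subtype.val hh, Category.assoc,
      IsIso.inv_hom_id, Category.comp_id]
  have w' : p' ≫ f' ≫ g = p ≫ f ≫ g :=
    (Category.assoc p' f' g).symm.trans ((congrArg (· ≫ g) hZ.w.symm).trans (Category.assoc p f g))
  have congr_h : ∀ {W W' : Scheme.{u}} (k : W ⟶ S) (k' : W' ⟶ S) (h h' : W' ⟶ W) (w : h ≫ k = k')
      (e : h = h'), AffAlg.algHom k k' h w = AffAlg.algHom k k' h' (e ▸ w) := by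
    rintro W W' k k' h h' w rfl; rfl
  refine ⟨⟨RelSpec.QCAlg.hom_ext ?_⟩, ⟨?_⟩⟩
  · show AffAlg.algHom g (f ≫ g) f rfl ≫ AffAlg.algHom (f ≫ g) (p ≫ f ≫ g) p rfl =
      AffAlg.algHom g (f' ≫ g) f' rfl ≫ AffAlg.algHom (f' ≫ g) (p ≫ f ≫ g) p' w'
    rw [← Groth.Agent.RelSpecX.algHom_comp, ← Groth.Agent.RelSpecX.algHom_comp]
    exact congr_h _ _ _ _ _ hZ.w
  have ex : ∀ c : PushoutCocone
      (⟨AffAlg.algHom g (f ≫ g) f rfl, AffAlg.algHom_comm g (f ≫ g) f rfl⟩ :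
        RelSpec.QCAlg.directImage g ⟶ RelSpec.QCAlg.directImage (f ≫ g))
      (⟨AffAlg.algHom g (f' ≫ g) f' rfl, AffAlg.algHom_comm g (f' ≫ g) f' rfl⟩ :
        RelSpec.QCAlg.directImage g ⟶ RelSpec.QCAlg.directImage (f' ≫ g)),
      ∃ l : RelSpec.QCAlg.directImage (p ≫ f ≫ g) ⟶ c.pt,
        AffAlg.algHom (f ≫ g) (p ≫ f ≫ g) p rfl ≫ l.hom = c.inl.hom ∧
          AffAlg.algHom (f' ≫ g) (p ≫ f ≫ g) p' w' ≫ l.hom = c.inr.hom := by
    intro c
    obtain ⟨a, wa, ha⟩ := hom_iff (f ≫ g) c.pt c.inl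
    obtain ⟨b, wb, hb⟩ := hom_iff (f' ≫ g) c.pt c.inr
    have hab : a ≫ f = b ≫ f' := by
      refine key g c.pt _ _ (by rw [Category.assoc, wa]) (by rw [Category.assoc, wb]) ?_
      rw [Groth.Agent.RelSpecX.algHom_comp g (f ≫ g) c.pt.π f rfl a wa,
        Groth.Agent.RelSpecX.algHom_comp g (f' ≫ g) c.pt.π f' rfl b wb, ← cancel_mono c.pt.gammaMap,
        Category.assoc, Category.assoc, ha, hb]
      exact congrArg RelSpec.QCAlg.Hom.hom c.condition
    have wl : hZ.lift a b hab ≫ p ≫ f ≫ g = c.pt.π := by rw [hZ.lift_fst_assoc, wa]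
    refine ⟨⟨AffAlg.algHom _ c.pt.π (hZ.lift a b hab) wl ≫ c.pt.gammaMap, ?_⟩, ?_, ?_⟩
    · rw [← Category.assoc, show (RelSpec.QCAlg.directImage (p ≫ f ≫ g)).str ≫ _ = _ from
        AffAlg.algHom_comm _ c.pt.π (hZ.lift a b hab) wl, c.pt.π_c_gammaMap]
    · refine ((Category.assoc _ _ _).symm.trans (congrArg (· ≫ c.pt.gammaMap) ?_)).trans ha
      rw [← Groth.Agent.RelSpecX.algHom_comp]
      exact congr_h _ _ _ _ _ (hZ.lift_fst _ _ _)
    · refine ((Category.assoc _ _ _).symm.trans (congrArg (· ≫ c.pt.gammaMap) ?_)).trans hb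
      rw [← Groth.Agent.RelSpecX.algHom_comp]
      exact congr_h _ _ _ _ _ (hZ.lift_snd _ _ _)
  refine PushoutCocone.IsColimit.mk _ (fun c => (ex c).choose)
    (fun c => RelSpec.QCAlg.hom_ext (ex c).choose_spec.1) (fun c => RelSpec.QCAlg.hom_ext (ex c).choose_spec.2)
    fun c m h1 h2 => ?_
  obtain ⟨a, wa, ha⟩ := hom_iff (p ≫ f ≫ g) c.pt m
  obtain ⟨b, wb, hb⟩ := hom_iff (p ≫ f ≫ g) c.pt (ex c).choose
  have hab : a = b := by
    refine hZ.hom_ext ?_ ?_
    · refine key (f ≫ g) c.pt _ _ (by rw [Category.assoc, wa]) (by rw [Category.assoc, wb]) ?_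
      rw [Groth.Agent.RelSpecX.algHom_comp (f ≫ g) (p ≫ f ≫ g) c.pt.π p rfl a wa,
        Groth.Agent.RelSpecX.algHom_comp (f ≫ g) (p ≫ f ≫ g) c.pt.π p rfl b wb, ← cancel_mono c.pt.gammaMap,
        Category.assoc, Category.assoc, ha, hb]
      exact (congrArg RelSpec.QCAlg.Hom.hom h1).trans (ex c).choose_spec.1.symm
    · refine key (f' ≫ g) c.pt _ _ (by rw [Category.assoc, w', wa]) (by rw [Category.assoc, w', wb]) ?_
      rw [Groth.Agent.RelSpecX.algHom_comp (f' ≫ g) (p ≫ f ≫ g) c.pt.π p' w' a wa,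
        Groth.Agent.RelSpecX.algHom_comp (f' ≫ g) (p ≫ f ≫ g) c.pt.π p' w' b wb, ← cancel_mono c.pt.gammaMap,
        Category.assoc, Category.assoc, ha, hb]
      exact (congrArg RelSpec.QCAlg.Hom.hom h2).trans (ex c).choose_spec.2.symm
  subst hab
  exact RelSpec.QCAlg.hom_ext (ha.symm.trans hb)

end Groth.Agent.S8256
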