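import Groth.Statements.S8264
import Groth.Agent.Proj16.RelDomain

set_option autoImplicit false
universe u
open CategoryTheory CategoryTheory.Limits AlgebraicGeometry Opposite TopologicalSpace
open scoped HomogeneousIdeal
open EGA2

namespace Groth.Agent.S8264

/-- Let Y be an integral scheme and 𝒮 a quasi-coherent positively graded O_Y-algebra with 𝒮_0 = O_Y
which is integral, stated here affine-locally: over every nonempty affine open U the ring 𝒮(U) is an
integral domain whose irrelevant ideal is nonzero (for Y integral this is equivalent to the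
stalkwise condition of the published text: every stalk 𝒮_y an integral domain with (𝒮_y)_+ ≠ 0).
Then Proj(𝒮) is integral and its structure morphism to Y is dominant. -/
theorem result {Y P : Scheme.{u}} [IsIntegral Y] (𝒮 : RelProj.QCGrAlg Y)
    (h0 : ∀ (U : Y.Opens) (hU : IsAffineOpen U), Function.Bijective (𝒮.strZero U hU).hom)
    (hint : ∀ (U : Y.Opens) (hU : IsAffineOpen U), (U : Set Y).Nonempty →
      IsDomain (𝒮.presheaf.obj (op U)) ∧ ((𝒮.deg U hU)₊).toIdeal ≠ ⊥)
    (p : P ⟶ Y)
    (chart : ∀ (U : Y.Opens) (hU : IsAffineOpen U), (((p ⁻¹ᵁ U : P.Opens) : Scheme.{u}) ≅ Proj (𝒮.deg U hU)))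
    (hP : RelProj.IsRelProj 𝒮 p chart) : IsIntegral P ∧ DenseRange p.base := by
  exact Groth.Agent.Proj16.isIntegral_relProj hint chart

end Groth.Agent.S8264
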