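import Groth.Statements.S8265
import Groth.Agent.Proj16.RelDomain

set_option autoImplicit false
universe u
open CategoryTheory CategoryTheory.Limits AlgebraicGeometry Opposite TopologicalSpace
open scoped HomogeneousIdeal
open EGA2

namespace Groth.Agent.S8265

/-- Let Y be an integral scheme and 𝒮 a quasi-coherent positively graded O_Y-algebra with 𝒮_0 = O_Y
which is essentially reduced (affine-locally, every nilpotent element of the irrelevant ideal of
𝒮(U) vanishes). If Proj(𝒮) is integral and dominant over Y, then 𝒮 is integral: over every nonempty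
affine open U, 𝒮(U) is an integral domain with nonzero irrelevant ideal (for Y integral, the
affine-local form of the stalkwise condition of the text). -/
theorem result {Y P : Scheme.{u}} [IsIntegral Y] (𝒮 : RelProj.QCGrAlg Y)
    (h0 : ∀ (U : Y.Opens) (hU : IsAffineOpen U), Function.Bijective (𝒮.strZero U hU).hom)
    (hred : ∀ (U : Y.Opens) (hU : IsAffineOpen U) (x : 𝒮.presheaf.obj (op U)),
      x ∈ (𝒮.deg U hU)₊ → IsNilpotent x → x = 0)
    (p : P ⟶ Y)
    (chart : ∀ (U : Y.Opens) (hU : IsAffineOpen U), (((p ⁻¹ᵁ U : P.Opens) : Scheme.{u}) ≅ Proj (𝒮.deg U hU)))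
    (hP : RelProj.IsRelProj 𝒮 p chart) [IsIntegral P] (hdom : DenseRange p.base)
    (U : Y.Opens) (hU : IsAffineOpen U) (hne : (U : Set Y).Nonempty) :
    IsDomain (𝒮.presheaf.obj (op U)) ∧ ((𝒮.deg U hU)₊).toIdeal ≠ ⊥ := by
  exact Groth.Agent.Proj16.isDomain_of_isIntegral_relProj hP h0 hred hdom U hU hne

end Groth.Agent.S8265
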