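import Groth.Statements.S8271
import Groth.Agent.SymAlgX.Exists
import Groth.Agent.RelSpecX.Spec
import Groth.Agent.QCoh.Extension

set_option autoImplicit false
universe u
open CategoryTheory CategoryTheory.Limits AlgebraicGeometry Opposite TopologicalSpace
open EGA2

namespace Groth.Agent.S8271

open Groth.Agent Groth.Agent.SymAlgX

set_option backward.isDefEq.respectTransparency false
set_option backward.isDefEq.respectTransparency.types false

lemma isPushout_sections {S : Scheme.{u}} {E F : S.Modules} (hEF : Coh.IsQCoh (E ⊞ F))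
    {AE AF A : RelSpec.QCAlg S} {jE : E ⟶ AE.toModule} {jF : F ⟶ AF.toModule} {j : E ⊞ F ⟶ A.toModule}
    (hE : Coh.IsQCoh E) (hF : Coh.IsQCoh F) (hAE : RelSpec.IsSymAlg E AE jE) (hAF : RelSpec.IsSymAlg F AF jF)
    (hA : RelSpec.IsSymAlg (E ⊞ F) A j) (ψE : AE ⟶ A) (ψF : AF ⟶ A)
    (hψE : jE ≫ RelSpec.QCAlg.Hom.toModuleMap ψE = biprod.inl ≫ j)
    (hψF : jF ≫ RelSpec.QCAlg.Hom.toModuleMap ψF = biprod.inr ≫ j)
    {U : S.Opens} (hU : IsAffineOpen U) :
    IsPushout (AE.str.app (op U)) (AF.str.app (op U)) (ψE.hom.app (op U)) (ψF.hom.app (op U)) := by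
  have w : AE.str.app (op U) ≫ ψE.hom.app (op U) = AF.str.app (op U) ≫ ψF.hom.app (op U) :=
    (NatTrans.congr_app ψE.comm (op U)).trans (NatTrans.congr_app ψF.comm (op U)).symm
  let k : SymAt (E ⊞ F) U ≃+* A.presheaf.obj (op U) :=
    RingEquiv.ofBijective (liftAt A j U) (liftAt_bijective hEF A hA hU)
  have hkj : ∀ e, k.symm (jv A j U e) = SymmetricAlgebra.ι _ _ e := fun e => by
    rw [← liftAt_ι A j U e]; exact k.symm_apply_apply (SymmetricAlgebra.ι _ _ e)
  have hks : ∀ r, k.symm ((A.str.app (op U)).hom r) = algebraMap Γ(S, U) (SymAt (E ⊞ F) U) r := fun r => by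
    rw [← liftAt_algebraMap A j U r]; exact k.symm_apply_apply (algebraMap Γ(S, U) (SymAt (E ⊞ F) U) r)
  have hE1 : ∀ e, ψE.hom.app (op U) (jv AE jE U e) =
      jv A j U ((biprod.inl : E ⟶ E ⊞ F).app U e) := fun e =>
    congrArg (fun α : E ⟶ A.toModule => α.app U e) hψE
  have hF1 : ∀ e, ψF.hom.app (op U) (jv AF jF U e) =
      jv A j U ((biprod.inr : F ⟶ E ⊞ F).app U e) := fun e =>
    congrArg (fun α : F ⟶ A.toModule => α.app U e) hψF
  have htot : ∀ x : Γ(E ⊞ F, U), (biprod.inl : E ⟶ E ⊞ F).app U ((biprod.fst : E ⊞ F ⟶ E).app U x) +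
      (biprod.inr : F ⟶ E ⊞ F).app U ((biprod.snd : E ⊞ F ⟶ F).app U x) = x := fun x =>
    congrArg (fun α : E ⊞ F ⟶ E ⊞ F => α.app U x) (biprod.total (X := E) (Y := F))
  refine IsPushout.of_isColimit' ⟨w⟩ (PushoutCocone.IsColimit.mk w (fun s => ?_) (fun s => ?_) (fun s => ?_) ?_)
  · refine CommRingCat.ofHom (RingHom.comp (liftHom (E := E ⊞ F) (C := s.pt)
      (s.inl.hom.comp (AE.str.app (op U)).hom)
      { toFun := fun x => s.inl (jv AE jE U ((biprod.fst : E ⊞ F ⟶ E).app U x)) +
          s.inr (jv AF jF U ((biprod.snd : E ⊞ F ⟶ F).app U x))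
        map_zero' := by simp [jv]
        map_add' := fun a b => by simp [jv]; abel }
      fun r x => ?_) k.symm.toRingHom)
    have hs : s.inl ((AE.str.app (op U)).hom r) = s.inr ((AF.str.app (op U)).hom r) :=
      ConcreteCategory.congr_hom s.condition r
    show s.inl (jv AE jE U _) + s.inr (jv AF jF U _) = s.inl _ * (s.inl _ + s.inr _)
    rw [Scheme.Modules.Hom.app_smul, Scheme.Modules.Hom.app_smul,
      show ∀ e, jv AE jE U (r • e) = (AE.str.app (op U)).hom r * jv AE jE U e from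
        fun e => Scheme.Modules.Hom.app_smul jE r e,
      show ∀ e, jv AF jF U (r • e) = (AF.str.app (op U)).hom r * jv AF jF U e from
        fun e => Scheme.Modules.Hom.app_smul jF r e, map_mul, map_mul, ← hs, mul_add]
  · refine CommRingCat.hom_ext (RingHom.ext fun b => ?_)
    have hb : b ∈ genAt AE jE U := by rw [genAt_eq_top hE hAE hU]; exact Subring.mem_top b
    induction hb using Subring.closure_induction with
    | mem x hx =>
      rcases hx with ⟨r, rfl⟩ | ⟨e, rfl⟩
      · simp only [CommRingCat.hom_comp, CommRingCat.hom_ofHom, RingHom.comp_apply, RingEquiv.toRingHom_eq_coe, RingHom.coe_coe]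
        rw [show ψE.hom.app (op U) ((AE.str.app (op U)).hom r) = (A.str.app (op U)).hom r from
          ConcreteCategory.congr_hom (NatTrans.congr_app ψE.comm (op U)) r, hks, liftHom_algebraMap]
        rfl
      · simp only [CommRingCat.hom_comp, CommRingCat.hom_ofHom, RingHom.comp_apply, RingEquiv.toRingHom_eq_coe, RingHom.coe_coe]
        rw [hE1, hkj, liftHom_ι]
        show s.inl (jv AE jE U ((biprod.inl ≫ biprod.fst : E ⟶ E).app U e)) +
          s.inr (jv AF jF U ((biprod.inl ≫ biprod.snd : E ⟶ F).app U e)) = _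
        rw [biprod.inl_fst, biprod.inl_snd]
        show s.inl (jv AE jE U e) + s.inr (jF.app U 0) = _
        rw [map_zero]
        exact add_eq_left.2 (map_zero s.inr.hom)
    | zero => simp
    | one => simp
    | add x y _ _ hx hy => simp only [map_add, hx, hy]
    | neg x _ hx => simp only [map_neg, hx]
    | mul x y _ _ hx hy => simp only [map_mul, hx, hy]
  · refine CommRingCat.hom_ext (RingHom.ext fun b => ?_)
    have hb : b ∈ genAt AF jF U := by rw [genAt_eq_top hF hAF hU]; exact Subring.mem_top b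
    induction hb using Subring.closure_induction with
    | mem x hx =>
      rcases hx with ⟨r, rfl⟩ | ⟨e, rfl⟩
      · simp only [CommRingCat.hom_comp, CommRingCat.hom_ofHom, RingHom.comp_apply, RingEquiv.toRingHom_eq_coe, RingHom.coe_coe]
        rw [show ψF.hom.app (op U) ((AF.str.app (op U)).hom r) = (A.str.app (op U)).hom r from
          ConcreteCategory.congr_hom (NatTrans.congr_app ψF.comm (op U)) r, hks, liftHom_algebraMap]
        exact ConcreteCategory.congr_hom s.condition r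
      · simp only [CommRingCat.hom_comp, CommRingCat.hom_ofHom, RingHom.comp_apply, RingEquiv.toRingHom_eq_coe, RingHom.coe_coe]
        rw [hF1, hkj, liftHom_ι]
        show s.inl (jv AE jE U ((biprod.inr ≫ biprod.fst : F ⟶ E).app U e)) +
          s.inr (jv AF jF U ((biprod.inr ≫ biprod.snd : F ⟶ F).app U e)) = _
        rw [biprod.inr_fst, biprod.inr_snd]
        show s.inl (jE.app U 0) + s.inr (jv AF jF U e) = _
        rw [map_zero]
        exact add_eq_right.2 (map_zero s.inl.hom)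
    | zero => simp
    | one => simp
    | add x y _ _ hx hy => simp only [map_add, hx, hy]
    | neg x _ hx => simp only [map_neg, hx]
    | mul x y _ _ hx hy => simp only [map_mul, hx, hy]
  · intro s m hm1 hm2
    apply CommRingCat.hom_ext
    refine RingHom.ext fun b => ?_
    obtain ⟨z, rfl⟩ := k.surjective b
    simp only [CommRingCat.hom_ofHom, RingHom.comp_apply, RingEquiv.toRingHom_eq_coe, RingHom.coe_coe, k.symm_apply_apply]
    refine RingHom.congr_fun (symHom_ext (a := m.hom.comp k.toRingHom) (fun r => ?_) fun x => ?_) z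
    · rw [liftHom_algebraMap]
      show m (liftAt A j U (algebraMap _ _ r)) = _
      rw [liftAt_algebraMap, ← show ψE.hom.app (op U) ((AE.str.app (op U)).hom r) = (A.str.app (op U)).hom r from
          ConcreteCategory.congr_hom (NatTrans.congr_app ψE.comm (op U)) r]
      exact ConcreteCategory.congr_hom hm1 _
    · rw [liftHom_ι]
      show m (liftAt A j U (SymmetricAlgebra.ι _ _ x)) = _
      conv_lhs => rw [← htot x]
      rw [map_add, map_add, map_add, liftAt_ι, liftAt_ι, ← hE1, ← hF1]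
      exact congr_arg₂ (· + ·) (ConcreteCategory.congr_hom hm1 _) (ConcreteCategory.congr_hom hm2 _)

lemma isPullback_chart {S : Scheme.{u}} {AF A : RelSpec.QCAlg S} (ψ : AF ⟶ A) {U : S.Opens} (hU : IsAffineOpen U) :
    IsPullback (A.ι U hU) (Spec.map (ψ.hom.app (op U))) (RelSpec.QCAlg.specMap ψ) (AF.ι U hU) := by
  refine (IsOpenImmersion.isPullback _ (A.ι U hU) (AF.ι U hU) _ (RelSpec.QCAlg.ι_specMap U hU ψ) ?_).flip
  rw [← A.π_preimage U hU, ← AF.π_preimage U hU, ← Scheme.Hom.comp_preimage, RelSpec.QCAlg.specMap_π]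

/-- For quasi-coherent O_S-modules E and F, the vector bundle V(E ⊕ F) is identified with V(E) ×_S V(F):
with A_E, A_F, A the symmetric algebras of E, F, E ⊕ F and ψ_E : A_E → A, ψ_F : A_F → A the algebra
maps extending the inclusions of the two summands, the square formed by Spec(A) → Spec(A_E), Spec(A)
→ Spec(A_F) and the two structure morphisms to S is a pullback square. -/
theorem result {S : Scheme.{u}} (E F : S.Modules) (hE : Coh.IsQCoh E) (hF : Coh.IsQCoh F)
    (AE AF A : RelSpec.QCAlg S) (jE : E ⟶ AE.toModule) (jF : F ⟶ AF.toModule) (j : E ⊞ F ⟶ A.toModule)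
    (hAE : RelSpec.IsSymAlg E AE jE) (hAF : RelSpec.IsSymAlg F AF jF) (hA : RelSpec.IsSymAlg (E ⊞ F) A j)
    (ψE : AE ⟶ A) (ψF : AF ⟶ A)
    (hψE : jE ≫ RelSpec.QCAlg.Hom.toModuleMap ψE = biprod.inl ≫ j)
    (hψF : jF ≫ RelSpec.QCAlg.Hom.toModuleMap ψF = biprod.inr ≫ j) :
    IsPullback (RelSpec.QCAlg.specMap ψE) (RelSpec.QCAlg.specMap ψF) AE.π AF.π := by
  have hw : RelSpec.QCAlg.specMap ψE ≫ AE.π = RelSpec.QCAlg.specMap ψF ≫ AF.π :=
    (RelSpec.QCAlg.specMap_π ψE).trans (RelSpec.QCAlg.specMap_π ψF).symm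
  refine IsPullback.of_iso_pullback ⟨hw⟩ (@asIso _ _ _ _ (pullback.lift _ _ hw) ?_)
    (pullback.lift_fst _ _ _) (pullback.lift_snd _ _ _)
  set c := pullback.lift _ _ hw
  refine (IsZariskiLocalAtTarget.iff_of_iSup_eq_top (P := MorphismProperty.isomorphisms Scheme.{u})
    (f := c) (fun U : S.affineOpens => pullback.snd AE.π AF.π ⁻¹ᵁ (AF.π ⁻¹ᵁ U.1)) ?_).mpr fun U => ?_
  · exact IsOpenCover.comap (v := fun U : S.affineOpens => AF.π ⁻¹ᵁ U.1)
      (IsOpenCover.comap (iSup_affineOpens_eq_top S) AF.π.base.1) (pullback.snd AE.π AF.π).base.1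
  obtain ⟨U, hU⟩ := U
  have hout : IsPullback (A.ι U hU ≫ RelSpec.QCAlg.specMap ψE) (Spec.map (ψF.hom.app (op U))) AE.π
      (AF.ι U hU ≫ AF.π) := by
    rw [RelSpec.QCAlg.ι_specMap, AF.ι_π]
    exact (isPullback_SpecMap_of_isPushout _ _ _ _ (isPushout_sections (Groth.Agent.QCoh.isQCoh_X₂ (ShortComplex.Splitting.ofHasBinaryBiproduct E F).shortExact hE hF) hE hF
      hAE hAF hA ψE ψF hψE hψF hU)).paste_horiz (Groth.Agent.RelSpecX.isPullback_ι U hU)
  have hk : IsPullback (A.ι U hU ≫ c) (Spec.map (ψF.hom.app (op U))) (pullback.snd AE.π AF.π) (AF.ι U hU) :=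
    IsPullback.of_right (by rw [Category.assoc, pullback.lift_fst]; exact hout)
      (by rw [Category.assoc, pullback.lift_snd]; exact (isPullback_chart ψF hU).w)
      (IsPullback.of_hasPullback AE.π AF.π)
  set V := pullback.snd AE.π AF.π ⁻¹ᵁ (AF.π ⁻¹ᵁ U)
  have : IsOpenImmersion (A.ι U hU ≫ c) := MorphismProperty.of_isPullback hk.flip inferInstance
  have hrange : Set.range (A.ι U hU ≫ c) = Set.range V.ι := by
    rw [← hk.isoPullback_hom_fst, Scheme.Opens.range_ι]
    simp only [Scheme.Hom.comp_base, TopCat.hom_comp, ContinuousMap.coe_comp]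
    rw [Set.range_comp, Set.range_eq_univ.mpr, Set.image_univ, Scheme.Pullback.range_fst]
    · show _ = SetLike.coe (pullback.snd AE.π AF.π ⁻¹ᵁ (AF.π ⁻¹ᵁ U))
      rw [AF.π_preimage U hU]
      rfl
    · exact hk.isoPullback.hom.surjective
  have hpre : c ⁻¹ᵁ V = A.π ⁻¹ᵁ U := by
    show (c ≫ pullback.snd AE.π AF.π ≫ AF.π) ⁻¹ᵁ U = _
    rw [pullback.lift_snd_assoc, RelSpec.QCAlg.specMap_π]
  have hr' : Set.range (c ⁻¹ᵁ V).ι = Set.range (A.ι U hU) := by
    rw [Scheme.Opens.range_ι, hpre, A.π_preimage U hU]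
    rfl
  show IsIso (c ∣_ V)
  have key : c ∣_ V = (IsOpenImmersion.isoOfRangeEq (c ⁻¹ᵁ V).ι (A.ι U hU) hr').hom ≫
      (IsOpenImmersion.isoOfRangeEq (A.ι U hU ≫ c) V.ι hrange).hom := by
    rw [← cancel_mono V.ι, morphismRestrict_ι, Category.assoc,
      IsOpenImmersion.isoOfRangeEq_hom_fac, IsOpenImmersion.isoOfRangeEq_hom_fac_assoc]
  rw [key]
  infer_instance

end Groth.Agent.S8271
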