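import Groth.Statements.S8272
import Groth.Agent.Proj16.KerBot

set_option autoImplicit false
universe u
open CategoryTheory CategoryTheory.Limits AlgebraicGeometry Opposite TopologicalSpace
open EGA2

namespace Groth.Agent.S8272

/-- Let T be a positively graded ring, Z = Proj T and g ∈ T_d (d > 0) a homogeneous element that is not
a zero divisor in T. Then Z is the smallest closed subscheme of Z containing the open D_+(g);
equivalently the kernel (ideal sheaf) of the open immersion D_+(g) → Z vanishes. -/
theorem result {R A : Type u} [CommRing R] [CommRing A] [Algebra R A]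
    (𝒜 : ℕ → Submodule R A) [GradedAlgebra 𝒜] {d : ℕ} (hd : 0 < d) (g : A) (hg : g ∈ 𝒜 d)
    (hnz : g ∈ nonZeroDivisors A) :
    (Proj.basicOpen 𝒜 g).ι.ker = ⊥ := by
  exact Groth.Agent.Proj16.ker_basicOpen_ι 𝒜 hd hg hnz

end Groth.Agent.S8272
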