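import Groth.Statements.S8274
import Groth.Agent.Proj16.RelMap

set_option autoImplicit false
universe u
open CategoryTheory CategoryTheory.Limits AlgebraicGeometry Opposite TopologicalSpace
open scoped HomogeneousIdeal
open EGA2

namespace Groth.Agent.S8274

/-- Let 𝒮 be a quasi-coherent positively graded O_Y-algebra, P = Proj(𝒮) with structure morphism p and
charts, and f a global section of 𝒮 homogeneous of degree d > 0. There is an open subset X_f of P
such that for every affine open U of Y, X_f ∩ p⁻¹(U) is the open D_+(f|U) of Proj 𝒮(U) transported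
by the chart; moreover X_f is affine over Y. (The identification of X_f with the spectrum of a
quotient of the d-th Veronese algebra is not stated here.) -/
theorem result {Y P : Scheme.{u}} (𝒮 : RelProj.QCGrAlg Y) (p : P ⟶ Y)
    (chart : ∀ (U : Y.Opens) (hU : IsAffineOpen U), (((p ⁻¹ᵁ U : P.Opens) : Scheme.{u}) ≅ Proj (𝒮.deg U hU)))
    (hP : RelProj.IsRelProj 𝒮 p chart) {d : ℕ} (hd : 0 < d) (f : 𝒮.presheaf.obj (op ⊤))
    (hf : ∀ (U : Y.Opens) (hU : IsAffineOpen U), (𝒮.presheaf.map (homOfLE le_top).op).hom f ∈ 𝒮.deg U hU d) :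
    ∃ Xf : P.Opens,
      (∀ (U : Y.Opens) (hU : IsAffineOpen U),
        Xf ⊓ p ⁻¹ᵁ U =
          (p ⁻¹ᵁ U).ι ''ᵁ ((chart U hU).hom ⁻¹ᵁ
            Proj.basicOpen (𝒮.deg U hU) ((𝒮.presheaf.map (homOfLE le_top).op).hom f))) ∧
      IsAffineHom (Xf.ι ≫ p) := by
  obtain ⟨Xf, hXf⟩ := Groth.Agent.Proj16.exists_basicOpen_global hP f
  refine ⟨Xf, hXf, ⟨fun U hU ↦ ?_⟩⟩
  rw [Scheme.Hom.comp_preimage]
  rw [← Xf.ι.isAffineOpen_iff_of_isOpenImmersion, Scheme.Hom.image_preimage_eq_opensRange_inf,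
    Scheme.Opens.opensRange_ι, hXf U hU]
  rw [Groth.Agent.Proj16.basicOpenOn, Scheme.Hom.isAffineOpen_iff_of_isOpenImmersion]
  exact (Proj.isAffineOpen_basicOpen _ _ (hf U hU) hd).preimage_of_isIso _

end Groth.Agent.S8274
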