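import Groth.Statements.S8275
import Groth.Agent.Proj16.Natural

set_option autoImplicit false
universe u
open EGA2

namespace Groth.Agent.S8275

/-- For a positively graded ring S and the graded ring S♮ with S♮_n = S_{≥ n} = ⊕_{m ≥ n} S_m (presented
here as a graded ring S' with an injective algebra homomorphism φ : S' → S[X] carrying S'_n onto
S_{≥ n}·X^n for every n, so that S'_0 is identified with S): S♮ is of finite type over S♮_0 = S if
and only if S is of finite type over S_0. -/
theorem result {R A B : Type u} [CommRing R] [CommRing A] [Algebra R A]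
    (𝒜 : ℕ → Submodule R A) [GradedAlgebra 𝒜] [CommRing B] [Algebra R B] (ℬ : ℕ → Submodule R B) [GradedAlgebra ℬ]
    (φ : B →ₐ[R] Polynomial A) (hφ : Function.Injective φ)
    (hdeg : ∀ n : ℕ, Submodule.map φ.toLinearMap (ℬ n) =
      Submodule.map ((Polynomial.monomial n : A →ₗ[A] Polynomial A).restrictScalars R) (⨆ (m : ℕ) (_ : n ≤ m), 𝒜 m)) :
    Algebra.FiniteType (ℬ 0) B ↔ Algebra.FiniteType (𝒜 0) A := by
  exact Groth.Agent.Proj16.natural_finiteType_iff 𝒜 ℬ φ hφ hdeg

end Groth.Agent.S8275
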