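import Groth.Statements.S8278
import Groth.Agent.Proj16.Natural

set_option autoImplicit false
universe u
open EGA2

namespace Groth.Agent.S8278

/-- For a positively graded ring S, the graded ring S♮ with S♮_n = S_{≥ n} = ⊕_{m ≥ n} S_m (presented
here as a graded ring S' with an injective algebra homomorphism φ : S' → S[X] carrying S'_n onto
S_{≥ n}·X^n for every n, so that S'_0 is identified with S), and n₀ ≥ 1: S♮_n = (S♮_1)^n for n ≥ n₀
if and only if S_n = (S_1)^n for n ≥ n₀. (n₀ ≥ 1 because the zeroth power of a submodule is the span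
of 1, not the degree-zero part.) -/
theorem result {R A B : Type u} [CommRing R] [CommRing A] [Algebra R A]
    (𝒜 : ℕ → Submodule R A) [GradedAlgebra 𝒜] [CommRing B] [Algebra R B] (ℬ : ℕ → Submodule R B) [GradedAlgebra ℬ]
    (φ : B →ₐ[R] Polynomial A) (hφ : Function.Injective φ)
    (hdeg : ∀ n : ℕ, Submodule.map φ.toLinearMap (ℬ n) =
      Submodule.map ((Polynomial.monomial n : A →ₗ[A] Polynomial A).restrictScalars R) (⨆ (m : ℕ) (_ : n ≤ m), 𝒜 m)) (n₀ : ℕ) (hn₀ : 1 ≤ n₀) :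
    (∀ n : ℕ, n₀ ≤ n → ℬ n = ℬ 1 ^ n) ↔ (∀ n : ℕ, n₀ ≤ n → 𝒜 n = 𝒜 1 ^ n) := by
  exact Groth.Agent.Proj16.natural_pow_iff 𝒜 ℬ φ hφ hdeg n₀ hn₀

end Groth.Agent.S8278
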