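import Groth.Statements.S8279
import Groth.Agent.Proj16.RelMap

set_option autoImplicit false
universe u
open CategoryTheory CategoryTheory.Limits AlgebraicGeometry Opposite TopologicalSpace
open scoped HomogeneousIdeal
open EGA2

namespace Groth.Agent.S8279

/-- Let 𝒮 be a quasi-coherent positively graded O_Y-algebra and 𝒮' the graded O_Y-algebra O_Y ⊕ (⊕_{n>0}
𝒮_n), presented here as a quasi-coherent graded algebra 𝒮' with 𝒮'_0 = O_Y together with a graded
homomorphism φ : 𝒮' → 𝒮 that is bijective in every positive degree over every affine open. Then the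
morphism Proj(𝒮) → Proj(𝒮') induced by φ is an isomorphism (the canonical Y-isomorphism of the two
relative homogeneous spectra). -/
theorem result {Y P P' : Scheme.{u}} {𝒮' 𝒮 : RelProj.QCGrAlg Y}
    (φ : 𝒮'.toQCAlg ⟶ 𝒮.toQCAlg) (hφ : RelProj.IsGradedHom φ)
    (h0 : ∀ (U : Y.Opens) (hU : IsAffineOpen U), Function.Bijective (𝒮'.strZero U hU).hom)
    (hpos : ∀ (U : Y.Opens) (hU : IsAffineOpen U) (n : ℕ), 0 < n →
      Set.BijOn (φ.hom.app (op U)).hom (𝒮'.deg U hU n) (𝒮.deg U hU n))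
    (hirr : ∀ (U : Y.Opens) (hU : IsAffineOpen U),
      (𝒮.deg U hU)₊ ≤ ((𝒮'.deg U hU)₊).map (RelProj.gradedHomAt φ hφ U hU))
    (p' : P' ⟶ Y) (p : P ⟶ Y)
    (chart' : ∀ (U : Y.Opens) (hU : IsAffineOpen U), (((p' ⁻¹ᵁ U : P'.Opens) : Scheme.{u}) ≅ Proj (𝒮'.deg U hU)))
    (chart : ∀ (U : Y.Opens) (hU : IsAffineOpen U), (((p ⁻¹ᵁ U : P.Opens) : Scheme.{u}) ≅ Proj (𝒮.deg U hU)))
    (hP' : RelProj.IsRelProj 𝒮' p' chart') (hP : RelProj.IsRelProj 𝒮 p chart)
    (h : P ⟶ P') (hh : RelProj.IsRelProjMap φ hφ hirr chart' chart h) : IsIso h := by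
  exact Groth.Agent.Proj16.relProjMap_of_affineOpens hP' hP hh
    (MorphismProperty.isomorphisms Scheme.{u}) fun U hU ↦
      Groth.Agent.Proj16.isIso_map_of_bijOn _ _ (hpos U hU)

end Groth.Agent.S8279
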