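import Groth.Statements.S8281
import Groth.Agent.RelSpecX.Spec

set_option autoImplicit false
universe u
open CategoryTheory CategoryTheory.Limits AlgebraicGeometry Opposite TopologicalSpace
open EGA2

namespace Groth.Agent.S8281

/-- Let q : S' → S be a morphism, B and B' quasi-coherent algebras over O_S and O_{S'}, and u : B →
q_*B' a q-morphism (compatible with the structure maps). Then u induces a unique morphism v =
Spec(u) : Spec(B') → Spec(B) which on the charts over affine opens U ⊆ S, U' ⊆ q⁻¹(U) is Spec of the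
ring map B(U) → B'(U') given by u and restriction; it lies over q. -/
theorem result {S S' : Scheme.{u}} (q : S' ⟶ S) (B : RelSpec.QCAlg S)
    (B' : RelSpec.QCAlg S') (u : B.presheaf ⟶ q.base _* B'.presheaf)
    (hu : B.str ≫ u = q.c ≫ (TopCat.Presheaf.pushforward CommRingCat.{u} q.base).map B'.str) :
    (∃! v : B'.spec ⟶ B.spec,
        ∀ (U : S.Opens) (hU : IsAffineOpen U) (U' : S'.Opens) (hU' : IsAffineOpen U') (hle : U' ≤ q ⁻¹ᵁ U),
          B'.ι U' hU' ≫ v =
            Spec.map ((u.app (op U) : B.presheaf.obj (op U) ⟶ B'.presheaf.obj (op (q ⁻¹ᵁ U))) ≫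
              B'.presheaf.map (homOfLE hle).op) ≫ B.ι U hU) ∧
      ∀ v : B'.spec ⟶ B.spec,
        (∀ (U : S.Opens) (hU : IsAffineOpen U) (U' : S'.Opens) (hU' : IsAffineOpen U') (hle : U' ≤ q ⁻¹ᵁ U),
          B'.ι U' hU' ≫ v =
            Spec.map ((u.app (op U) : B.presheaf.obj (op U) ⟶ B'.presheaf.obj (op (q ⁻¹ᵁ U))) ≫
              B'.presheaf.map (homOfLE hle).op) ≫ B.ι U hU) →
        v ≫ B.π = B'.π ≫ q := by
  obtain ⟨v, hv, hvπ⟩ := RelSpecX.exists_isChartMap hu
  exact ⟨⟨v, hv, fun v' hv' => RelSpecX.isChartMap_unique hv' hv⟩,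
    fun v' hv' => RelSpecX.isChartMap_comp hu hv'⟩

end Groth.Agent.S8281
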