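import Groth.Statements.S8282
import Groth.Agent.ConeFib17.Fibre
import Mathlib.RingTheory.GradedAlgebra.FiniteType
import Mathlib.RingTheory.GradedAlgebra.Radical

set_option backward.isDefEq.respectTransparency false
set_option backward.isDefEq.respectTransparency.types false
set_option linter.style.haveILetI false

set_option autoImplicit false
universe u
open CategoryTheory CategoryTheory.Limits AlgebraicGeometry
open EGA2

open scoped Pointwise

namespace Groth.Agent.S8282

section degone

variable {R B : Type u} [CommRing R] [CommRing B] [Algebra R B] {ℬ : ℕ → Submodule R B} [GradedAlgebra ℬ]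

theorem mul_le_of_graded (i j : ℕ) : ℬ i * ℬ j ≤ ℬ (i + j) :=
  Submodule.mul_le.2 fun _ hx _ hy => SetLike.mul_mem_graded hx hy

theorem zero_mul_pow_le {m : ℕ} (hm : m ≠ 0) : ℬ 0 * ℬ 1 ^ m ≤ ℬ 1 ^ m := by
  obtain ⟨k, rfl⟩ := Nat.exists_eq_succ_of_ne_zero hm
  rw [pow_succ', ← mul_assoc]
  exact mul_le_mul' ((mul_le_of_graded 0 1).trans (by rw [zero_add])) le_rfl

theorem prod_mem_pow {α : Type*} (s : Finset α) (w : α → B) (h : ∀ i ∈ s, w i ∈ ℬ 1) :
    ∏ i ∈ s, w i ∈ ℬ 1 ^ s.card := by
  classical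
  induction s using Finset.induction_on with
  | empty =>
    rw [Finset.prod_empty, Finset.card_empty, pow_zero]
    exact Submodule.one_le.1 le_rfl
  | insert a s ha ih =>
    rw [Finset.prod_insert ha, Finset.card_insert_of_notMem ha, pow_succ']
    exact Submodule.mul_mem_mul (h a (Finset.mem_insert_self _ _))
      (ih fun i hi => h i (Finset.mem_insert_of_mem hi))

/-- A homogeneous element of the ideal generated by degree one. -/
theorem mem_one_mul {n : ℕ} {y : B} (hy : y ∈ Ideal.span (ℬ 1 : Set B)) (hn : y ∈ ℬ (n + 1)) :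
    y ∈ ℬ 1 * ℬ n := by
  suffices h : ∀ c ∈ Ideal.span (ℬ 1 : Set B), ∀ n, GradedRing.proj ℬ (n + 1) c ∈ ℬ 1 * ℬ n by
    simpa [GradedRing.proj_apply, DirectSum.decompose_of_mem_same _ hn] using h y hy n
  clear hy hn y n
  intro c hc
  induction hc using Submodule.span_induction with
  | mem t ht =>
    intro n
    rw [GradedRing.proj_apply]
    rcases Nat.eq_zero_or_pos n with rfl | hpos
    · rw [DirectSum.decompose_of_mem_same _ ht, ← mul_one t]
      exact Submodule.mul_mem_mul ht SetLike.GradedOne.one_mem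
    · rw [DirectSum.decompose_of_mem_ne _ ht (by omega)]
      exact zero_mem _
  | zero => intro n; rw [map_zero]; exact zero_mem _
  | add a b _ _ ha hb => intro n; rw [map_add]; exact add_mem (ha n) (hb n)
  | smul a t ht' ht =>
    intro n
    classical
    rw [smul_eq_mul, ← DirectSum.sum_support_decompose ℬ a, Finset.sum_mul, map_sum]
    refine sum_mem fun i _ => ?_
    by_cases hi : i ≤ n + 1
    · rw [GradedRing.proj_apply, DirectSum.coe_decompose_mul_of_left_mem_of_le ℬ (SetLike.coe_mem _) hi]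
      rcases (Nat.eq_zero_or_pos (n + 1 - i)) with h0 | h0
      · have hz : GradedRing.proj ℬ 0 t = 0 := by
          have : (Ideal.span (ℬ 1 : Set B)) ≤ (HomogeneousIdeal.irrelevant ℬ).toIdeal :=
            Ideal.span_le.2 fun z hz => HomogeneousIdeal.mem_irrelevant_of_mem _ one_pos hz
          exact this ht'
        rw [GradedRing.proj_apply] at hz
        rw [h0, hz, mul_zero]
        exact zero_mem _
      · obtain ⟨k, hk⟩ : ∃ k, n + 1 - i = k + 1 := ⟨n + 1 - i - 1, by omega⟩
        have h1 := ht k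
        rw [GradedRing.proj_apply] at h1
        rw [hk]
        have h2 : (DirectSum.decompose ℬ a i : B) * _ ∈ ℬ i * (ℬ 1 * ℬ k) :=
          Submodule.mul_mem_mul (SetLike.coe_mem _) h1
        rw [mul_left_comm] at h2
        exact mul_le_mul' le_rfl ((mul_le_of_graded i k).trans (by rw [show i + k = n by omega])) h2
    · rw [GradedRing.proj_apply, DirectSum.coe_decompose_mul_of_left_mem_of_not_le ℬ (SetLike.coe_mem _) hi]
      exact zero_mem _

variable {m : ℕ} (g : Fin m → B) (e : Fin m → ℕ) (hg : ∀ j, g j ∈ ℬ (e j))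

/-- The monomial with exponent `a`. -/
def mon (a : Fin m →₀ ℕ) : B := ∏ j, g j ^ a j

/-- The weight of `a`. -/
def wt (a : Fin m →₀ ℕ) : ℕ := ∑ j, a j * e j

include hg in
theorem mon_mem (a : Fin m →₀ ℕ) : mon g a ∈ ℬ (wt e a) :=
  SetLike.prod_mem_graded ℬ _ _ fun j _ => by simpa [mul_comm] using SetLike.pow_mem_graded (a j) (hg j)

include hg in
theorem mem_span_mon (htop : Algebra.adjoin (ℬ 0) (Set.range g) = ⊤) {n : ℕ} {x : B} (hx : x ∈ ℬ n) :
    x ∈ Submodule.span R {y : B | ∃ c ∈ ℬ 0, ∃ a, wt e a = n ∧ y = c * mon g a} := by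
  classical
  have : x ∈ (MvPolynomial.aeval (R := ℬ 0) g).range := by
    rw [← Algebra.adjoin_range_eq_range_aeval, htop]; trivial
  obtain ⟨P, hP⟩ := this
  rw [show x = GradedRing.proj ℬ n x by rw [GradedRing.proj_apply, DirectSum.decompose_of_mem_same _ hx], ← hP]
  show GradedRing.proj ℬ n ((MvPolynomial.aeval (R := ℬ 0) g) P) ∈ _
  rw [show (MvPolynomial.aeval (R := ℬ 0) g) P =
    ∑ a ∈ P.support, (MvPolynomial.aeval (R := ℬ 0) g) (MvPolynomial.monomial a (P.coeff a)) by
      rw [← map_sum, ← MvPolynomial.as_sum], map_sum]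
  refine sum_mem fun a _ => ?_
  have ha : (MvPolynomial.aeval g) (MvPolynomial.monomial a (P.coeff a)) = ((MvPolynomial.coeff a P : ℬ 0) : B) * mon g a := by
    rw [MvPolynomial.aeval_monomial, Finsupp.prod_fintype _ _ fun _ => pow_zero _]
    rfl
  erw [ha]
  have hmem : ((MvPolynomial.coeff a P : ℬ 0) : B) * mon g a ∈ ℬ (wt e a) := by
    simpa using SetLike.mul_mem_graded (P.coeff a).2 (mon_mem g e hg a)
  by_cases hn : wt e a = n
  · rw [GradedRing.proj_apply, DirectSum.decompose_of_mem_same _ (hn ▸ hmem)]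
    exact Submodule.subset_span ⟨_, (P.coeff a).2, a, hn, rfl⟩
  · rw [GradedRing.proj_apply, DirectSum.decompose_of_mem_ne _ hmem hn]
    exact zero_mem _

end degone

/-- Let T be a positively graded ring which is a T_0-algebra of finite type, and T' = ⊕_n T_1^n → T the
injective graded homomorphism from the subalgebra generated by T_1 (T' presented as a graded ring
with φ : T' → T injective, bijective in degrees 0 and 1, and T'_n = (T'_1)^n for n ≥ 1). If the
morphism of homogeneous spectra induced by φ is everywhere defined (its domain G(φ) is the whole of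
Proj T) and is an isomorphism onto Proj T', then there is n₀ with T_n = T_1^n for all n ≥ n₀. -/
theorem result {R A B : Type u} [CommRing R] [CommRing A] [Algebra R A]
    (𝒜 : ℕ → Submodule R A) [GradedAlgebra 𝒜] [CommRing B] [Algebra R B] (ℬ : ℕ → Submodule R B) [GradedAlgebra ℬ]
    [Algebra.FiniteType (ℬ 0) B] (φ : 𝒜 →+*ᵍ ℬ) (hφ : Function.Injective φ)
    (h0 : Set.BijOn φ (𝒜 0) (ℬ 0)) (h1 : Set.BijOn φ (𝒜 1) (ℬ 1))
    (hgen : ∀ n : ℕ, 1 ≤ n → 𝒜 n = 𝒜 1 ^ n)
    (hdom : PCone.dom φ = ⊤)
    (p : (PCone.dom φ : Scheme.{u}) ⟶ Proj 𝒜)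
    (hp : ∀ (d : ℕ) (f : A) (hd : 0 < d) (hf : f ∈ 𝒜 d),
      PCone.chart φ hf hd ≫ p =
        Spec.map (CommRingCat.ofHom (HomogeneousLocalization.Away.map φ f)) ≫ Proj.awayι 𝒜 f hf hd)
    [IsIso p] :
    ∃ n₀ : ℕ, ∀ n : ℕ, n₀ ≤ n → ℬ n = ℬ 1 ^ n := by
  classical
  have hpre := @Groth.Agent.Proj16.pconeData_preimage R A _ _ _ 𝒜 _ B _ _ ℬ _ φ
  obtain rfl : p = (Groth.Agent.Proj16.pconeData 𝒜 ℬ φ).map := (Groth.Agent.Proj16.pconeData 𝒜 ℬ φ).eq_map hp
  -- the charts
  have hsurj : ∀ (f : A) (hf : f ∈ 𝒜 1), Function.Surjective (HomogeneousLocalization.Away.map φ f) := by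
    intro f hf
    have h := Groth.Agent.ConeFib17.isPullback_chart (Groth.Agent.Proj16.pconeData 𝒜 ℬ φ)
      (fun {d f} hf hd ↦ hpre hf hd) hf one_pos
    have : IsIso (Spec.map ((Groth.Agent.Proj16.pconeData 𝒜 ℬ φ).toRing f)) :=
      MorphismProperty.of_isPullback (P := MorphismProperty.isomorphisms Scheme.{u}) h (inferInstance : IsIso _)
    haveI : IsIso ((Groth.Agent.Proj16.pconeData 𝒜 ℬ φ).toRing f).op := by
      haveI : IsIso (Scheme.Spec.map ((Groth.Agent.Proj16.pconeData 𝒜 ℬ φ).toRing f).op) := this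
      exact isIso_of_reflects_iso _ Scheme.Spec
    haveI : IsIso ((Groth.Agent.Proj16.pconeData 𝒜 ℬ φ).toRing f) := isIso_of_op _
    exact (ConcreteCategory.bijective_of_isIso ((Groth.Agent.Proj16.pconeData 𝒜 ℬ φ).toRing f)).2
  have hpow : ∀ k : ℕ, k ≠ 0 → ∀ a ∈ 𝒜 k, φ a ∈ ℬ 1 ^ k := by
    intro k hk a ha
    rw [hgen k (Nat.one_le_iff_ne_zero.2 hk)] at ha
    have : ∀ j, ∀ a ∈ 𝒜 1 ^ j, φ a ∈ ℬ 1 ^ j ∨ j = 0 := by
      intro j
      induction j with
      | zero => exact fun a _ => Or.inr rfl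
      | succ j ih =>
        intro a ha
        refine Or.inl ?_
        rw [pow_succ] at ha
        refine Submodule.mul_induction_on ha (fun u hu v hv => ?_) fun u v hu hv => by rw [map_add]; exact add_mem hu hv
        · rw [map_mul]
          rcases Nat.eq_zero_or_pos j with rfl | hj
          · rw [pow_zero, Submodule.mem_one] at hu
            obtain ⟨r, rfl⟩ := hu
            rw [zero_add, pow_one]
            have h0r : φ (algebraMap R A r) ∈ ℬ 0 := φ.map_mem (SetLike.algebraMap_mem_graded 𝒜 r)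
            simpa using SetLike.mul_mem_graded h0r (φ.map_mem hv)
          · rw [pow_succ]
            exact Submodule.mul_mem_mul ((ih u hu).resolve_right hj.ne') (φ.map_mem hv)
    exact (this k a ha).resolve_right hk
  -- powers of positive degree elements lie in the ideal of degree one
  have hrad : ∀ (d : ℕ), 0 < d → ∀ b ∈ ℬ d, ∃ M, 0 < M ∧ b ^ M ∈ Ideal.span (ℬ 1 : Set B) := by
    intro d hd b hb
    have hI : (Ideal.span (ℬ 1 : Set B)).IsHomogeneous ℬ :=
      Ideal.homogeneous_span ℬ _ fun z hz => ⟨1, hz⟩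
    have : b ∈ (Ideal.span (ℬ 1 : Set B)).radical := by
      rw [hI.radical_eq, Submodule.mem_sInf]
      rintro J ⟨hJ, hle, hJp⟩
      by_contra hbJ
      let x : Proj ℬ := (⟨⟨J, hJ⟩, hJp, fun h => hbJ (h (HomogeneousIdeal.mem_irrelevant_of_mem _ hd hb))⟩ :
        ProjectiveSpectrum ℬ)
      have hx : x ∈ PCone.dom φ := by rw [hdom]; trivial
      obtain ⟨⟨f, k, hk, hf⟩, hfx⟩ := TopologicalSpace.Opens.mem_iSup.1 hx
      refine hfx (show φ f ∈ J from ?_)
      have h2 := hpow k hk.ne' f hf
      obtain ⟨k', rfl⟩ := Nat.exists_eq_succ_of_ne_zero hk.ne'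
      rw [pow_succ] at h2
      refine Submodule.mul_induction_on h2 (fun u _ v hv => ?_) (fun u v => J.add_mem)
      exact Ideal.mul_mem_left (J : Ideal B) u (hle (Ideal.subset_span hv))
    obtain ⟨M, hM⟩ := this
    exact ⟨M + 1, M.succ_pos, by rw [pow_succ]; exact Ideal.mul_mem_right _ _ hM⟩
  obtain ⟨S, hS, hSdeg⟩ := GradedAlgebra.exists_finset_adjoin_eq_top_and_homogeneous_ne_zero ℬ
  let g : Fin S.card → B := fun j => (S.equivFin.symm j).1
  have hrange : Set.range g = (S : Set B) := by
    ext y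
    exact ⟨fun ⟨j, hj⟩ => hj ▸ (S.equivFin.symm j).2, fun hy => ⟨S.equivFin ⟨y, hy⟩, by simp [g]⟩⟩
  have htop : Algebra.adjoin (ℬ 0) (Set.range g) = ⊤ := by rw [hrange]; exact hS
  choose e he0 hg using fun j => hSdeg (g j) (S.equivFin.symm j).2
  choose M hM0 hM using fun j => hrad (e j) (Nat.pos_of_ne_zero (he0 j)) _ (hg j)
  let n₁ := (∑ j, M j * e j) + 1
  have hstep : ∀ n, n₁ ≤ n + 1 → ℬ (n + 1) ≤ ℬ 1 * ℬ n := by
    intro n hn x hx
    refine (Submodule.span_le.2 ?_) (mem_span_mon g e hg htop hx)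
    rintro _ ⟨c, hc, a, ha, rfl⟩
    obtain ⟨j, hj⟩ : ∃ j, M j ≤ a j := by
      by_contra! h
      have : wt e a ≤ ∑ j, M j * e j := Finset.sum_le_sum fun j _ => Nat.mul_le_mul_right _ (h j).le
      omega
    have hsplit : mon g a = g j ^ M j * mon g (a - Finsupp.single j (M j)) := by
      rw [mon, mon, ← Finset.mul_prod_erase _ _ (Finset.mem_univ j),
        ← Finset.mul_prod_erase _ _ (Finset.mem_univ j), Finsupp.tsub_apply, Finsupp.single_eq_same, ← mul_assoc,
        ← pow_add, Nat.add_sub_of_le hj]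
      refine congrArg _ (Finset.prod_congr rfl fun i hi => ?_)
      rw [Finsupp.tsub_apply, Finsupp.single_eq_of_ne (Finset.ne_of_mem_erase hi), Nat.sub_zero]
    obtain ⟨l, hl⟩ : ∃ l, M j * e j = l + 1 :=
      ⟨_, (Nat.succ_pred_eq_of_pos (Nat.mul_pos (hM0 j) (Nat.pos_of_ne_zero (he0 j)))).symm⟩
    have h1 : g j ^ M j ∈ ℬ 1 * ℬ l := mem_one_mul (hM j) (by
      rw [← hl]; simpa using SetLike.pow_mem_graded (M j) (hg j))
    have h2 : c * mon g (a - Finsupp.single j (M j)) ∈ ℬ (wt e (a - Finsupp.single j (M j))) := by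
      simpa using SetLike.mul_mem_graded hc (mon_mem g e hg _)
    have hw : l + wt e (a - Finsupp.single j (M j)) = n := by
      have : wt e a = M j * e j + wt e (a - Finsupp.single j (M j)) := by
        rw [wt, wt, ← Finset.add_sum_erase _ _ (Finset.mem_univ j),
          ← Finset.add_sum_erase _ _ (Finset.mem_univ j), Finsupp.tsub_apply, Finsupp.single_eq_same, ← add_assoc,
          ← add_mul, Nat.add_sub_of_le hj]
        refine congrArg _ (Finset.sum_congr rfl fun i hi => ?_)
        rw [Finsupp.tsub_apply, Finsupp.single_eq_of_ne (Finset.ne_of_mem_erase hi), Nat.sub_zero]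
      omega
    have h3 := Submodule.mul_mem_mul h1 h2
    rw [mul_assoc (ℬ 1) (ℬ l)] at h3
    rw [hsplit, mul_left_comm]
    exact mul_le_mul' le_rfl ((mul_le_of_graded l _).trans (by rw [hw])) h3
  have hmany : ∀ k, ℬ (n₁ + k) ≤ ℬ 1 ^ k * ℬ n₁ := by
    intro k
    induction k with
    | zero => simp
    | succ k ih =>
      refine (hstep (n₁ + k) (by omega)).trans ?_
      rw [pow_succ', mul_assoc]
      exact mul_le_mul' le_rfl ih
  -- degree one is generated by the `g j` of degree one
  have hone : ℬ 1 ≤ Submodule.span R {y : B | ∃ c ∈ ℬ 0, ∃ j, e j = 1 ∧ y = c * g j} := by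
    intro x hx
    refine Submodule.span_mono ?_ (mem_span_mon g e hg htop hx)
    rintro _ ⟨c, hc, a, ha, rfl⟩
    have hne : ∃ j, a j ≠ 0 := by
      by_contra! h
      simp [wt, h] at ha
    obtain ⟨j, hj⟩ := hne
    have h1 : a j * e j ≤ 1 := ha ▸ Finset.single_le_sum (f := fun i => a i * e i) (fun i _ => Nat.zero_le _) (Finset.mem_univ j)
    have haj : a j = 1 ∧ e j = 1 := by
      have := Nat.one_le_iff_ne_zero.2 hj
      have := Nat.one_le_iff_ne_zero.2 (he0 j)
      constructor <;> nlinarith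
    refine ⟨c, hc, j, haj.2, ?_⟩
    have hz : ∀ i ∈ (Finset.univ : Finset (Fin S.card)).erase j, a i = 0 := by
      intro i hi
      have h2 : a i * e i = 0 := by
        have h3 := ha
        rw [wt, ← Finset.add_sum_erase _ _ (Finset.mem_univ j), haj.1, haj.2] at h3
        have h4 : ∑ i ∈ Finset.univ.erase j, a i * e i = 0 := by omega
        exact Finset.sum_eq_zero_iff.1 h4 i hi
      exact (Nat.mul_eq_zero.1 h2).resolve_right (he0 i)
    rw [mon, ← Finset.mul_prod_erase _ _ (Finset.mem_univ j), haj.1, pow_one,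
      Finset.prod_eq_one fun i hi => by rw [hz i hi, pow_zero], mul_one]
  -- a single monomial is absorbed
  have habs : ∀ b ∈ ℬ n₁, ∃ K, ∀ k, K ≤ k → ∀ u ∈ ℬ 1 ^ k, u * b ∈ ℬ 1 ^ (k + n₁) := by
    intro b hb
    have hloc : ∀ j, e j = 1 → ∃ N, g j ^ N * b ∈ ℬ 1 ^ (N + n₁) := by
      intro j hj
      obtain ⟨f, hf, hfg⟩ := h1.surjOn (show g j ∈ ℬ 1 from hj ▸ hg j)
      obtain ⟨q, hq⟩ := hsurj f hf
        (HomogeneousLocalization.Away.mk ℬ (φ.2 hf) n₁ b (by rw [smul_eq_mul, mul_one]; exact hb))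
      obtain ⟨k, a, ha, rfl⟩ := q.mk_surjective 𝒜 hf
      rw [smul_eq_mul, mul_one] at ha
      have hq' := congrArg HomogeneousLocalization.val hq
      rw [HomogeneousLocalization.Away.map_mk, HomogeneousLocalization.Away.val_mk,
        HomogeneousLocalization.Away.val_mk, Localization.mk_eq_mk_iff, Localization.r_iff_exists] at hq'
      obtain ⟨⟨_, K, rfl⟩, hK⟩ := hq'
      change φ f ^ K * (φ f ^ n₁ * φ a) = φ f ^ K * (φ f ^ k * b) at hK
      rw [hfg] at hK
      refine ⟨K + k + 1, ?_⟩
      have hfa : g j * φ a ∈ ℬ 1 ^ (k + 1) := by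
        rw [← hfg, ← map_mul]
        refine hpow _ k.succ_ne_zero _ ?_
        rw [Nat.succ_eq_add_one, add_comm k 1]
        exact SetLike.mul_mem_graded hf ha
      have e1 : g j ^ (K + k + 1) * b = g j ^ (K + n₁) * (g j * φ a) := by
        rw [pow_succ, pow_add, pow_add]
        linear_combination (-g j) * hK
      rw [e1, show K + k + 1 + n₁ = (K + n₁) + (k + 1) by omega, pow_add]
      exact Submodule.mul_mem_mul (Submodule.pow_mem_pow _ (hj ▸ hg j) _) hfa
    choose N hN using hloc
    let K := (∑ j, if h : e j = 1 then N j h else 0) + 1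
    refine ⟨K, fun k hk u hu => ?_⟩
    have hu' : u ∈ Submodule.span R ({y : B | ∃ c ∈ ℬ 0, ∃ j, e j = 1 ∧ y = c * g j} ^ k) := by
      rw [← Submodule.span_pow]
      exact pow_le_pow_left' hone k hu
    clear hu
    induction hu' using Submodule.span_induction with
    | zero => rw [zero_mul]; exact zero_mem _
    | add x y _ _ hx hy => rw [add_mul]; exact add_mem hx hy
    | smul r x _ hx => rw [smul_mul_assoc]; exact Submodule.smul_mem _ _ hx
    | mem y hy =>
      obtain ⟨w, hw⟩ := Set.mem_pow.1 hy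
      choose c hc j hj hcj using fun i => (w i).2
      have hy' : y = (∏ i, c i) * ∏ i, g (j i) := by
        rw [← Finset.prod_mul_distrib, ← hw, List.prod_ofFn]
        exact Finset.prod_congr rfl fun i _ => hcj i
      obtain ⟨l, hl, hcnt⟩ : ∃ (l : Fin S.card) (hl : e l = 1),
          N l hl ≤ (Finset.univ.filter fun i => j i = l).card := by
        by_contra! h
        have h2 : ∑ l, (Finset.univ.filter fun i => j i = l).card ≤
            ∑ l, if h : e l = 1 then N l h else 0 := by
          refine Finset.sum_le_sum fun l _ => ?_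
          split_ifs with hl
          · exact (h l hl).le
          · rw [Finset.filter_false_of_mem (s := Finset.univ) (p := fun i => j i = l) fun i _ (hi : j i = l) => hl (hi ▸ hj i)]
            simp
        rw [← Finset.card_eq_sum_card_fiberwise fun i _ => Finset.mem_univ (j i), Finset.card_univ,
          Fintype.card_fin] at h2
        omega
      let F := Finset.univ.filter fun i => j i = l
      have hrest : ∏ i ∈ Finset.univ.filter (fun i => ¬ j i = l), g (j i) ∈
          ℬ 1 ^ (Finset.univ.filter fun i => ¬ j i = l).card :=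
        prod_mem_pow _ _ fun i _ => hj i ▸ hg _
      have hfib : ∏ i ∈ F, g (j i) = g l ^ F.card := by
        rw [← Finset.prod_const]
        exact Finset.prod_congr rfl fun i hi => by rw [(Finset.mem_filter.1 hi).2]
      rw [hy', ← Finset.prod_filter_mul_prod_filter_not Finset.univ (fun i => j i = l) (fun i => g (j i)), hfib]
      have hsum : F.card + (Finset.univ.filter fun i => ¬ j i = l).card = k := by
        rw [Finset.card_filter_add_card_filter_not, Finset.card_univ, Fintype.card_fin]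
      have hc0 : ∏ i, c i ∈ ℬ 0 := by
        simpa using SetLike.prod_mem_graded ℬ (fun _ => 0) c (F := Finset.univ) fun i _ => hc i
      have h4 : g l ^ N l hl * b * (g l ^ (F.card - N l hl) *
          ∏ i ∈ Finset.univ.filter (fun i => ¬ j i = l), g (j i)) ∈ ℬ 1 ^ (k + n₁) := by
        have hcnt' : N l hl ≤ F.card := hcnt
        rw [show k + n₁ = (N l hl + n₁) + ((F.card - N l hl) + (Finset.univ.filter fun i => ¬ j i = l).card) by omega,
          pow_add (ℬ 1) (N l hl + n₁), pow_add (ℬ 1) (F.card - N l hl)]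
        exact Submodule.mul_mem_mul (hN l hl)
          (Submodule.mul_mem_mul (Submodule.pow_mem_pow _ (hl ▸ hg l) _) hrest)
      have h5 := zero_mul_pow_le (ℬ := ℬ) (m := k + n₁) (by omega) (Submodule.mul_mem_mul hc0 h4)
      convert h5 using 1
      rw [← Nat.sub_add_cancel hcnt, pow_add, Nat.add_sub_cancel]
      ring
  -- finitely many monomials
  let T : Finset (Fin S.card →₀ ℕ) := Finset.univ.image fun w : Fin S.card → Fin (n₁ + 1) =>
    Finsupp.equivFunOnFinite.symm fun i => (w i : ℕ)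
  have hKb : ∀ a, wt e a = n₁ → ∃ K, ∀ k, K ≤ k → ∀ u ∈ ℬ 1 ^ k, u * mon g a ∈ ℬ 1 ^ (k + n₁) :=
    fun a ha => habs _ (ha ▸ mon_mem g e hg a)
  choose Kb hKb using hKb
  let K := T.sup (fun a => if h : wt e a = n₁ then Kb a h else 0) + 1
  refine ⟨n₁ + K, fun n hn => le_antisymm ?_ ?_⟩
  · obtain ⟨k, rfl⟩ : ∃ k, n = n₁ + k := ⟨n - n₁, by omega⟩
    intro x hx
    refine Submodule.mul_induction_on (hmany k hx) (fun u hu v hv => ?_) (fun u v => add_mem)
    have hv' := mem_span_mon g e hg htop hv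
    clear hv
    induction hv' using Submodule.span_induction with
    | zero => rw [mul_zero]; exact zero_mem _
    | add x y _ _ hx hy => rw [mul_add]; exact add_mem hx hy
    | smul r x _ hx => rw [mul_smul_comm]; exact Submodule.smul_mem _ _ hx
    | mem y hy =>
      obtain ⟨c, hc, a, ha, rfl⟩ := hy
      have haT : a ∈ T := by
        have hb : ∀ i, a i ≤ n₁ := fun i => ?_
        · exact Finset.mem_image.2 ⟨fun i => ⟨a i, Nat.lt_succ_of_le (hb i)⟩, Finset.mem_univ _, by ext i; rfl⟩
        exact (Nat.le_mul_of_pos_right _ (Nat.pos_of_ne_zero (he0 i))).trans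
          (ha ▸ Finset.single_le_sum (f := fun i => a i * e i) (fun i _ => Nat.zero_le _) (Finset.mem_univ i))
      have hle : Kb a ha ≤ k := by
        have h1 := Finset.le_sup (f := fun a => if h : wt e a = n₁ then Kb a h else 0) haT
        simp only [ha, dite_true] at h1
        omega
      have h5 := zero_mul_pow_le (ℬ := ℬ) (m := k + n₁) (by omega) (Submodule.mul_mem_mul hc (hKb a ha k hle u hu))
      rw [add_comm n₁ k]
      convert h5 using 1
      ring
  · have : ∀ j, ℬ 1 ^ (j + 1) ≤ ℬ (j + 1) := by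
      intro j
      induction j with
      | zero => simp
      | succ j ih =>
        rw [pow_succ]
        exact (mul_le_mul' ih le_rfl).trans (mul_le_of_graded _ _)
    obtain ⟨j, rfl⟩ : ∃ j, n = j + 1 := ⟨n - 1, by omega⟩
    exact this j

end Groth.Agent.S8282
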