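import Groth.Statements.S8286
import Groth.Agent.RelTildeX.Invertible

set_option autoImplicit false
universe u
open CategoryTheory CategoryTheory.Limits AlgebraicGeometry Opposite TopologicalSpace
open scoped HomogeneousIdeal
noncomputable section
open EGA2

namespace Groth.Agent.S8286

/-- If the quasi-coherent positively graded O_Y-algebra 𝒮 is generated by 𝒮_1, then on P = Proj(𝒮) the
twisting sheaves O_P(n) are invertible for every integer n. -/
theorem result {Y P : Scheme.{u}} (𝒮 : RelProj.QCGrAlg Y) (hgen : 𝒮.IsGenDegOne)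
    (p : P ⟶ Y)
    (chart : ∀ (U : Y.Opens) (hU : IsAffineOpen U), (((p ⁻¹ᵁ U : P.Opens) : Scheme.{u}) ≅ Proj (𝒮.deg U hU)))
    (hP : RelProj.IsRelProj 𝒮 p chart) (n : ℤ) (L : P.Modules)
    (lam : ∀ (U : Y.Opens) (hU : IsAffineOpen U),
      L ⟶ (Scheme.Modules.pushforward (RelProj.emb p chart U hU)).obj (GrTwist.twist (𝒮.deg U hU) n))
    (hL : RelProj.IsRelTwist 𝒮 p chart n L lam) : PicF.IsInvertible L := by
  exact RelTildeX.isInvertible_twist hgen hL

end Groth.Agent.S8286
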