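import Groth.Statements.S8289
import Groth.Agent.ConeFib17.RelAff
import Groth.Agent.Proj16.KerBot
import Groth.Agent.Proj16.RelBasic

set_option backward.isDefEq.respectTransparency false
set_option backward.isDefEq.respectTransparency.types false
set_option linter.style.haveILetI false

set_option autoImplicit false
universe u
open CategoryTheory CategoryTheory.Limits AlgebraicGeometry Opposite TopologicalSpace
open scoped HomogeneousIdeal
noncomputable section
open EGA2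

namespace Groth.Agent.S8289

open Groth.Agent.ProjQX Groth.Agent.ConeFib17

/-- Gluing morphisms out of a relative spectrum. -/
theorem exists_spec_hom {S T : Scheme.{u}} (B : RelSpec.QCAlg S)
    (v : ∀ (U : S.Opens), IsAffineOpen U → (Spec (B.presheaf.obj (op U)) ⟶ T))
    (hv : ∀ (U D : S.Opens) (hU : IsAffineOpen U) (hD : IsAffineOpen D) (h : IsBasic U D),
      Spec.map (B.presheaf.map (homOfLE h.le).op) ≫ v U hU = v D hD) :
    ∃ i : B.spec ⟶ T, ∀ (U : S.Opens) (hU : IsAffineOpen U), B.ι U hU ≫ i = v U hU := by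
  have agree : ∀ (W : Scheme.{u}) (U V : S.Opens) (hU : IsAffineOpen U) (hV : IsAffineOpen V)
      (a : W ⟶ Spec (B.presheaf.obj (op U))) (b : W ⟶ Spec (B.presheaf.obj (op V))),
      a ≫ B.ι U hU = b ≫ B.ι V hV → a ≫ v U hU = b ≫ v V hV := by
    intro W U V hU hV a b hab
    have hloc : ∀ w : W, ∃ (D : S.Opens) (_ : IsAffineOpen D), IsBasic U D ∧ IsBasic V D ∧
        B.π (B.ι U hU (a w)) ∈ D := by
      intro w
      have h1 : B.π (B.ι U hU (a w)) ∈ U := (B.π_preimage U hU).ge ⟨a w, rfl⟩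
      have h2 : B.π (B.ι U hU (a w)) ∈ V := by
        rw [show B.ι U hU (a w) = B.ι V hV (b w) from congrArg (fun k : W ⟶ B.spec => k w) hab]
        exact (B.π_preimage V hV).ge ⟨b w, rfl⟩
      obtain ⟨D, hD, hUD, hVD, -, hw⟩ := exists_common (W := ⊤) hU hV h1 h2 trivial
      exact ⟨D, hD, hUD, hVD, hw⟩
    choose D hD hUD hVD hwD using hloc
    let O : W → W.Opens := fun w => (a ≫ B.ι U hU ≫ B.π) ⁻¹ᵁ D w
    refine (W.openCoverOfIsOpenCover O (eq_top_iff.mpr fun w _ => Opens.mem_iSup.mpr ⟨w, hwD w⟩)).hom_ext _ _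
      fun w => ?_
    show (O w).ι ≫ _ = (O w).ι ≫ _
    let l : (O w : Scheme.{u}) ⟶ Spec (B.presheaf.obj (op (D w))) :=
      IsOpenImmersion.lift (B.ι (D w) (hD w)) ((O w).ι ≫ a ≫ B.ι U hU) (by
        rintro _ ⟨x, rfl⟩
        exact (B.π_preimage (D w) (hD w)).le x.2)
    have hl : l ≫ B.ι (D w) (hD w) = (O w).ι ≫ a ≫ B.ι U hU := IsOpenImmersion.lift_fac _ _ _
    have ha : (O w).ι ≫ a = l ≫ Spec.map (B.presheaf.map (homOfLE (hUD w).le).op) := by
      rw [← cancel_mono (B.ι U hU), Category.assoc, Category.assoc, RelSpecX.ι_res_le B hU (hD w), hl]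
    have hb : (O w).ι ≫ b = l ≫ Spec.map (B.presheaf.map (homOfLE (hVD w).le).op) := by
      rw [← cancel_mono (B.ι V hV), Category.assoc, Category.assoc, RelSpecX.ι_res_le B hV (hD w), hl, hab]
    rw [reassoc_of% ha, reassoc_of% hb, hv U (D w) hU (hD w) (hUD w), hv V (D w) hV (hD w) (hVD w)]
  let 𝒰 := B.spec.openCoverOfIsOpenCover (fun U : S.affineOpens => B.π ⁻¹ᵁ U.1)
    (IsOpenCover.comap (v := fun U : S.affineOpens => U.1) (iSup_affineOpens_eq_top S) B.π.base.1)
  have hr : ∀ U : S.affineOpens, Set.range (B.π ⁻¹ᵁ U.1).ι = Set.range (B.ι U.1 U.2) := fun U => by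
    rw [Scheme.Opens.range_ι, B.π_preimage U.1 U.2]
    rfl
  let c : ∀ U : S.affineOpens, (B.π ⁻¹ᵁ U.1 : Scheme.{u}) ≅ Spec (B.presheaf.obj (op U.1)) := fun U =>
    IsOpenImmersion.isoOfRangeEq (B.π ⁻¹ᵁ U.1).ι (B.ι U.1 U.2) (hr U)
  have hc : ∀ U : S.affineOpens, (c U).hom ≫ B.ι U.1 U.2 = (B.π ⁻¹ᵁ U.1).ι := fun U =>
    IsOpenImmersion.isoOfRangeEq_hom_fac _ _ _
  refine ⟨𝒰.glueMorphisms (fun U => (c U).hom ≫ v U.1 U.2) (fun U V => ?_), fun U hU => ?_⟩
  · refine (Category.assoc _ _ _).symm.trans ((agree _ _ _ _ _ _ _ ?_).trans (Category.assoc _ _ _))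
    rw [Category.assoc, Category.assoc, hc, hc]
    exact pullback.condition
  · have := 𝒰.ι_glueMorphisms (fun U => (c U).hom ≫ v U.1 U.2) (by
      intro U V
      refine (Category.assoc _ _ _).symm.trans ((agree _ _ _ _ _ _ _ ?_).trans (Category.assoc _ _ _))
      rw [Category.assoc, Category.assoc, hc, hc]
      exact pullback.condition) ⟨U, hU⟩
    change (B.π ⁻¹ᵁ U).ι ≫ _ = _ at this
    rw [← hc ⟨U, hU⟩, Category.assoc] at this
    exact (cancel_epi (c ⟨U, hU⟩).hom).mp this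

theorem spec_liftAway_map {A B C σ τ : Type u} [CommRing A] [CommRing B] [CommRing C] [SetLike σ A]
    [AddSubgroupClass σ A] [SetLike τ B] [AddSubgroupClass τ B] {𝒜 : ℕ → σ} [GradedRing 𝒜] {ℬ : ℕ → τ}
    [GradedRing ℬ] (φ : 𝒜 →+*ᵍ ℬ) (hirr : ℬ₊ ≤ (𝒜₊).map φ) (θ : B →+* C) {s : A} {t : B} (e : φ s = t)
    {d : ℕ} (hd : 0 < d) (hs : s ∈ 𝒜 d) (ht : t ∈ ℬ d) (hu : IsUnit (θ t)) (hu' : IsUnit (θ.comp (φ : A →+* B) s)) :
    Spec.map (CommRingCat.ofHom (liftAway θ hu)) ≫ Proj.awayι ℬ t ht hd ≫ Proj.map φ hirr =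
      Spec.map (CommRingCat.ofHom (liftAway (θ.comp (φ : A →+* B)) hu')) ≫ Proj.awayι 𝒜 s hs hd := by
  subst e
  rw [Proj.awayι_comp_map φ hirr hd s hs, ← Category.assoc, ← Spec.map_comp, ← CommRingCat.ofHom_comp]
  congr 3
  refine liftAway_unique _ hu' hs _ fun n x hx => ?_
  rw [RingHom.comp_apply, HomogeneousLocalization.Away.map_mk]
  exact liftAway_spec θ hu _ n _ _

/-- The canonical morphism i from the affine cone to the projective cone: let 𝒮 be a quasi-coherent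
positively graded O_Y-algebra with 𝒮_0 = O_Y, Ŝ = 𝒮[z] (z of degree one; presented through a graded
homomorphism ι : 𝒮 → Ŝ and a degree-one global section z with 𝒮(U)[X] → Ŝ(U), X ↦ z, bijective on
affine opens), C = Spec(𝒮) and Ĉ = Proj(Ŝ). There is a unique morphism i : C → Ĉ which, on the chart
Spec 𝒮(U) of C over an affine open U, is Spec of the ring isomorphism Ŝ(U)_(z) ≅ 𝒮(U) (sending x/z^k
to x for x homogeneous of degree k) followed by the inclusion of D_+(z|U) into Proj Ŝ(U) and the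
chart of Ĉ; this i is an open immersion, affine, lies over Y, Ĉ is the smallest closed subscheme of
Ĉ containing its image (its kernel ideal sheaf is zero), and its image is the open Ĉ_z where the
section z does not vanish (characterised chartwise by D_+(z|U)). -/
theorem result {Y PC : Scheme.{u}} (𝒮 Sh : RelProj.QCGrAlg Y)
    (h0 : ∀ (U : Y.Opens) (hU : IsAffineOpen U), Function.Bijective (𝒮.strZero U hU).hom)
    (ι : 𝒮.toQCAlg ⟶ Sh.toQCAlg) (hι : RelProj.IsGradedHom ι) (z : Sh.presheaf.obj (op ⊤))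
    (hz : ∀ (U : Y.Opens) (hU : IsAffineOpen U), (Sh.presheaf.map (homOfLE le_top).op).hom z ∈ Sh.deg U hU 1)
    (hpoly : ∀ (U : Y.Opens) (hU : IsAffineOpen U),
      Function.Bijective (Polynomial.eval₂RingHom (ι.hom.app (op U)).hom ((Sh.presheaf.map (homOfLE le_top).op).hom z)))
    (pC : PC ⟶ Y)
    (chartC : ∀ (U : Y.Opens) (hU : IsAffineOpen U), (((pC ⁻¹ᵁ U : PC.Opens) : Scheme.{u}) ≅ Proj (Sh.deg U hU)))
    (hPC : RelProj.IsRelProj Sh pC chartC)
    (θ : ∀ (U : Y.Opens) (hU : IsAffineOpen U),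
      CommRingCat.of (HomogeneousLocalization.Away (Sh.deg U hU) ((Sh.presheaf.map (homOfLE le_top).op).hom z)) ⟶
        𝒮.presheaf.obj (op U))
    (hθ : ∀ (U : Y.Opens) (hU : IsAffineOpen U)
      (q : HomogeneousLocalization.Away (Sh.deg U hU) ((Sh.presheaf.map (homOfLE le_top).op).hom z))
      (k : ℕ) (x : 𝒮.presheaf.obj (op U)), x ∈ 𝒮.deg U hU k →
        q.val = Localization.mk ((ι.hom.app (op U)).hom x)
          ⟨(Sh.presheaf.map (homOfLE le_top).op).hom z ^ k,
            pow_mem (Submonoid.mem_powers ((Sh.presheaf.map (homOfLE le_top).op).hom z)) k⟩ →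
        (θ U hU).hom q = x) :
    (∃! i : 𝒮.toQCAlg.spec ⟶ PC, ∀ (U : Y.Opens) (hU : IsAffineOpen U),
        𝒮.toQCAlg.ι U hU ≫ i =
          Spec.map (θ U hU) ≫
            Proj.awayι (Sh.deg U hU) ((Sh.presheaf.map (homOfLE le_top).op).hom z) (hz U hU) one_pos ≫
              RelProj.emb pC chartC U hU) ∧
      ∀ i : 𝒮.toQCAlg.spec ⟶ PC, (∀ (U : Y.Opens) (hU : IsAffineOpen U),
        𝒮.toQCAlg.ι U hU ≫ i =
          Spec.map (θ U hU) ≫
            Proj.awayι (Sh.deg U hU) ((Sh.presheaf.map (homOfLE le_top).op).hom z) (hz U hU) one_pos ≫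
              RelProj.emb pC chartC U hU) →
        IsOpenImmersion i ∧ IsAffineHom i ∧ i ≫ pC = 𝒮.toQCAlg.π ∧ i.ker = ⊥ ∧
          ∀ Xz : PC.Opens, (∀ (U : Y.Opens) (hU : IsAffineOpen U),
            Xz ⊓ pC ⁻¹ᵁ U =
              (pC ⁻¹ᵁ U).ι ''ᵁ ((chartC U hU).hom ⁻¹ᵁ
                Proj.basicOpen (Sh.deg U hU) ((Sh.presheaf.map (homOfLE le_top).op).hom z))) →
            Set.range i.base = (Xz : Set PC) := by
  let hz' : RelCone.IsPolyOver 𝒮 Sh ι z := ⟨hι, hz, hpoly⟩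
  have hθeq : ∀ (U : Y.Opens) (hU : IsAffineOpen U), (θ U hU).hom = hz'.awayZToBase U hU := by
    intro U hU
    let g := RingEquiv.ofBijective _ (bijective_awayZToBase hz' hU)
    suffices h : (θ U hU).hom.comp g.symm.toRingHom = RingHom.id _ by
      refine RingHom.ext fun q => ?_
      have := RingHom.congr_fun h (g q)
      rw [RingHom.comp_apply, RingEquiv.toRingHom_eq_coe, RingEquiv.coe_toRingHom, RingEquiv.symm_apply_apply] at this
      exact this
    refine RingHom.ext fun a => ?_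
    induction a using DirectSum.Decomposition.inductionOn (𝒮.deg U hU) with
    | zero => exact map_zero _
    | @homogeneous k a =>
      have hm : (ι.hom.app (op U)).hom a.1 ∈ Sh.deg U hU (k • 1) := by simpa using hι U hU k _ a.2
      let q := HomogeneousLocalization.Away.mk (Sh.deg U hU) (hz U hU) k _ hm
      have hq : g q = a.1 :=
        (hz'.awayZToBase_of_val U hU q _ k (HomogeneousLocalization.Away.val_mk _ _ _ _ _)).trans
          (hz'.evalOne_ι U hU _)
      show (θ U hU).hom (g.symm a.1) = a.1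
      rw [← hq, RingEquiv.symm_apply_apply, hq]
      exact hθ U hU q k a.1 a.2 (HomogeneousLocalization.Away.val_mk _ _ _ _ _)
    | add m m' hm hm' => rw [map_add, hm, hm', map_add]
  have huz : ∀ (U : Y.Opens) (hU : IsAffineOpen U), IsUnit (hz'.evalOne U hU (RelCone.restrictTop Sh z U)) :=
    fun U hU => by rw [hz'.evalOne_z]; exact isUnit_one
  have hlift : ∀ (U : Y.Opens) (hU : IsAffineOpen U), hz'.awayZToBase U hU = liftAway (hz'.evalOne U hU) (huz U hU) :=
    fun U hU => rfl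
  have hglue : ∃ i : 𝒮.toQCAlg.spec ⟶ PC, ∀ (U : Y.Opens) (hU : IsAffineOpen U),
      𝒮.toQCAlg.ι U hU ≫ i = Spec.map (θ U hU) ≫
        Proj.awayι (Sh.deg U hU) ((Sh.presheaf.map (homOfLE le_top).op).hom z) (hz U hU) one_pos ≫
          RelProj.emb pC chartC U hU := by
    refine exists_spec_hom _ _ fun U D hU hD h => ?_
    have hres : ((𝒮.presheaf.map (homOfLE h.le).op).hom).comp (hz'.evalOne U hU) =
        (hz'.evalOne D hD).comp (Sh.res hU hD h.le : Sh.presheaf.obj (op U) →+* Sh.presheaf.obj (op D)) := by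
      refine RingHom.ext fun x => ?_
      obtain ⟨p, rfl⟩ := (hz'.polyEquiv U hU).surjective x
      induction p using Polynomial.induction_on' with
      | add p q hp hq => rw [map_add, map_add, map_add, hp, hq]
      | monomial n a =>
        rw [RelCone.IsPolyOver.polyEquiv_apply, Polynomial.eval₂_monomial, map_mul, map_mul, map_pow, map_pow,
          RingHom.comp_apply, RingHom.comp_apply, RingHom.comp_apply, RingHom.comp_apply, hz'.evalOne_ι,
          hz'.evalOne_z, map_one, one_pow, mul_one]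
        show _ = hz'.evalOne D hD ((Sh.presheaf.map (homOfLE h.le).op).hom _) *
          hz'.evalOne D hD (Sh.res hU hD h.le (RelCone.restrictTop Sh z U)) ^ n
        rw [res_restrictTop hU hD h.le, hz'.evalOne_z, one_pow, mul_one]
        exact ((congrArg (hz'.evalOne D hD) (ConcreteCategory.congr_hom (ι.hom.naturality (homOfLE h.le).op) a).symm).trans
          (hz'.evalOne_ι D hD _)).symm
    show Spec.map (𝒮.presheaf.map (homOfLE h.le).op) ≫ Spec.map (θ U hU) ≫ _ = Spec.map (θ D hD) ≫ _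
    have hu1 : IsUnit (((hz'.evalOne D hD).comp (Sh.res hU hD h.le : Sh.presheaf.obj (op U) →+* Sh.presheaf.obj (op D)))
        (RelCone.restrictTop Sh z U)) := by
      rw [← hres, RingHom.comp_apply, hz'.evalOne_z, map_one]; exact isUnit_one
    have e1 := spec_liftAway_map (Sh.res hU hD h.le) (irr_res Sh hU hD h) (hz'.evalOne D hD)
      (res_restrictTop (z := z) hU hD h.le) one_pos (hz U hU) (hz D hD) (huz D hD) hu1
    rw [← CommRingCat.ofHom_hom (θ D hD), ← CommRingCat.ofHom_hom (θ U hU), hθeq, hθeq, ← Spec.map_comp_assoc,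
      ← map_emb hPC hU hD h, hlift D hD]
    rw [reassoc_of% e1]
    congr 1
    congr 1
    refine CommRingCat.hom_ext (liftAway_unique _ hu1 (hz U hU) _ fun n x hx => ?_)
    show ((𝒮.presheaf.map (homOfLE h.le).op).hom (hz'.awayZToBase U hU _)) * _ = _
    rw [← hres, RingHom.comp_apply, RingHom.comp_apply, ← map_pow, ← map_mul, hlift U hU]
    exact congrArg _ (liftAway_spec _ (huz U hU) (hz U hU) n x hx)
  obtain ⟨i₀, hi₀⟩ := hglue
  refine ⟨⟨i₀, hi₀, fun i hi => RelSpecX.spec_hom_ext fun y => ?_⟩, fun i hi => ?_⟩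
  · obtain ⟨_, ⟨U, hU, rfl⟩, hyU, -⟩ := Y.isBasis_affineOpens.exists_subset_of_mem_open
      (Set.mem_univ y) isOpen_univ
    exact ⟨U, hU, hyU, (hi U hU).trans (hi₀ U hU).symm⟩
  have hci : RelCone.IsConeImm 𝒮 hz' pC chartC i := fun U hU => by
    rw [hi U hU, ← CommRingCat.ofHom_hom (θ U hU), hθeq]
  have hover : i ≫ pC = 𝒮.toQCAlg.π := coneImm_over hPC hci
  have hoi : IsOpenImmersion i := by
    refine IsZariskiLocalAtTarget.of_iSup_eq_top (P := @IsOpenImmersion)
      (fun U : Y.affineOpens => pC ⁻¹ᵁ U.1) ?_ fun U => ?_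
    · rw [← Scheme.Hom.preimage_iSup, iSup_affineOpens_eq_top Y, Scheme.Hom.preimage_top]
    have hpre : i ⁻¹ᵁ pC ⁻¹ᵁ U.1 = (𝒮.toQCAlg.ι U.1 U.2).opensRange := by
      rw [← Scheme.Hom.comp_preimage, hover]
      exact 𝒮.toQCAlg.π_preimage U.1 U.2
    let e := IsOpenImmersion.isoOfRangeEq (𝒮.toQCAlg.ι U.1 U.2) (i ⁻¹ᵁ pC ⁻¹ᵁ U.1).ι (by
      rw [Scheme.Opens.range_ι, hpre]; rfl)
    have he : e.hom ≫ (i ⁻¹ᵁ pC ⁻¹ᵁ U.1).ι = 𝒮.toQCAlg.ι U.1 U.2 := IsOpenImmersion.isoOfRangeEq_hom_fac _ _ _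
    haveI : IsIso (CommRingCat.ofHom (hz'.awayZToBase U.1 U.2)) :=
      (ConcreteCategory.isIso_iff_bijective _).mpr (bijective_awayZToBase hz' U.2)
    haveI : IsOpenImmersion ((e.hom ≫ i ∣_ (pC ⁻¹ᵁ U.1)) ≫ (pC ⁻¹ᵁ U.1).ι) := by
      rw [Category.assoc, morphismRestrict_ι, reassoc_of% he, hci U.1 U.2]
      infer_instance
    haveI := IsOpenImmersion.of_comp (e.hom ≫ i ∣_ (pC ⁻¹ᵁ U.1)) (pC ⁻¹ᵁ U.1).ι
    exact (MorphismProperty.cancel_left_of_respectsIso @IsOpenImmersion e.hom _).mp this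
  haveI := Proj16.isSeparated hPC
  have haff : IsAffineHom i :=
    MorphismProperty.of_postcomp (W := @IsAffineHom) (W' := @IsSeparated) i pC inferInstance
      (by rw [hover]; exact 𝒮.toQCAlg.isAffineHom_π)
  refine ⟨hoi, haff, hover, ?_, fun Xz hXz => ?_⟩
  · let W : (Σ U : Y.affineOpens, Σ d : PNat, Sh.deg U.1 U.2 d) → PC.affineOpens := fun a =>
      ⟨RelProj.emb pC chartC a.1.1 a.1.2 ''ᵁ Proj.basicOpen (Sh.deg a.1.1 a.1.2) a.2.2.1,
        (Scheme.Hom.isAffineOpen_iff_of_isOpenImmersion _).mpr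
          (Proj.isAffineOpen_basicOpen _ _ a.2.2.2 a.2.1.2)⟩
    refine Scheme.IdealSheafData.ext_of_iSup_eq_top W ?_ fun a => ?_
    · refine eq_top_iff.mpr fun x _ => ?_
      obtain ⟨_, ⟨U, hU, rfl⟩, hxU, -⟩ := Y.isBasis_affineOpens.exists_subset_of_mem_open
        (Set.mem_univ (pC x)) isOpen_univ
      obtain ⟨b, rfl⟩ := (mem_opensRange_emb (chart := chartC) hU).mpr hxU
      obtain ⟨d, f, hd, hf, hfb⟩ := exists_homogeneous (Sh.deg U hU) b
      exact Opens.mem_iSup.mpr ⟨⟨⟨U, hU⟩, ⟨d, hd⟩, ⟨f, hf⟩⟩, b, hfb, rfl⟩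
    obtain ⟨⟨U, hU⟩, ⟨d, hd⟩, ⟨f, hf⟩⟩ := a
    rw [Scheme.Hom.ker_apply, Scheme.IdealSheafData.ideal_bot, Pi.bot_apply, RingHom.ker_eq_bot_iff_eq_zero]
    intro t ht
    let ε := RelProj.emb pC chartC U hU
    let G := Proj.basicOpen (Sh.deg U hU) (RelCone.restrictTop Sh z U)
    let V := ε ''ᵁ Proj.basicOpen (Sh.deg U hU) f
    let l : (G : Scheme.{u}) ⟶ 𝒮.toQCAlg.spec := IsOpenImmersion.lift i (G.ι ≫ ε) (by
      rintro _ ⟨b, rfl⟩
      exact (mem_range_coneImm_iff hz' hPC hci hU b.1).mpr b.2)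
    have hl : l ≫ i = G.ι ≫ ε := IsOpenImmersion.lift_fac _ _ _
    have h1 : (G.ι.app (ε ⁻¹ᵁ V)).hom ((ε.app V).hom t) = 0 := by
      have h2 : ((l ≫ i).app V).hom t = 0 := by
        rw [Scheme.Hom.comp_app, CommRingCat.hom_comp, RingHom.comp_apply]
        erw [ht]
        exact map_zero _
      rw [Scheme.Hom.congr_app hl V, CommRingCat.hom_comp, RingHom.comp_apply] at h2
      have h3 := congrArg ((G : Scheme.{u}).presheaf.map (eqToHom (show (G.ι ≫ ε) ⁻¹ᵁ V = (l ≫ i) ⁻¹ᵁ V by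
        rw [hl])).op).hom h2
      rw [map_zero, ← CommRingCat.comp_apply, ← Functor.map_comp] at h3
      rw [show (eqToHom _).op ≫ (eqToHom _).op = 𝟙 (op ((G.ι ≫ ε) ⁻¹ᵁ V)) from Subsingleton.elim _ _,
        CategoryTheory.Functor.map_id] at h3
      exact h3
    have haffG : IsAffineHom G.ι := by
      haveI : IsAffine (G : Scheme.{u}) := Proj.isAffineOpen_basicOpen _ _ (hz U hU) one_pos
      exact IsAffineHom.of_comp _ (Proj.toSpecZero _)
    have hV : IsAffineOpen (ε ⁻¹ᵁ V) := by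
      rw [Scheme.Hom.preimage_image_eq]
      exact Proj.isAffineOpen_basicOpen _ _ hf hd
    have hnz : RelCone.restrictTop Sh z U ∈ nonZeroDivisors (Sh.presheaf.obj (op U)) := by
      rw [show RelCone.restrictTop Sh z U = hz'.polyEquiv U hU Polynomial.X by
        rw [RelCone.IsPolyOver.polyEquiv_apply, Polynomial.eval₂_X]]
      rw [mem_nonZeroDivisors_iff_right]
      intro x hx
      obtain ⟨q, rfl⟩ := (hz'.polyEquiv U hU).surjective x
      rw [← map_mul, map_eq_zero_iff _ (hz'.polyEquiv U hU).injective] at hx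
      rw [show q = 0 from Polynomial.monic_X.isRegular.right (hx.trans (zero_mul _).symm), map_zero]
    have h4 := congrArg (fun J : Scheme.IdealSheafData (Proj (Sh.deg U hU)) => J.ideal ⟨_, hV⟩)
      (Proj16.ker_basicOpen_ι (Sh.deg U hU) one_pos (hz U hU) hnz)
    simp only [Scheme.Hom.ker_apply, Scheme.IdealSheafData.ideal_bot, Pi.bot_apply] at h4
    have h5 : (ε.app V).hom t = 0 := (RingHom.ker_eq_bot_iff_eq_zero _).mp h4 _ h1
    haveI : IsIso (ε.app V) := Scheme.Hom.isIso_app ε V (Scheme.Hom.image_le_opensRange _ _)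
    exact (ConcreteCategory.bijective_of_isIso (ε.app V)).1 (h5.trans (map_zero _).symm)
  · ext x
    obtain ⟨_, ⟨U, hU, rfl⟩, hxU, -⟩ := Y.isBasis_affineOpens.exists_subset_of_mem_open
      (Set.mem_univ (pC x)) isOpen_univ
    obtain ⟨a, rfl⟩ := (mem_opensRange_emb (chart := chartC) hU).mpr hxU
    rw [mem_range_coneImm_iff hz' hPC hci hU a]
    constructor
    · intro ha
      refine ((hXz U hU).ge ⟨(chartC U hU).inv a, ?_, rfl⟩).1
      show (chartC U hU).hom ((chartC U hU).inv a) ∈ Proj.basicOpen (Sh.deg U hU) _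
      rw [← Scheme.Hom.comp_apply, Iso.inv_hom_id]
      exact ha
    · intro hx
      obtain ⟨b, hb, hb'⟩ := (hXz U hU).le ⟨hx, hxU⟩
      have : b = (chartC U hU).inv a := (pC ⁻¹ᵁ U).ι.isOpenEmbedding.injective hb'
      subst this
      change (chartC U hU).hom ((chartC U hU).inv a) ∈ Proj.basicOpen (Sh.deg U hU) _ at hb
      rwa [← Scheme.Hom.comp_apply, Iso.inv_hom_id] at hb

end Groth.Agent.S8289
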