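import Groth.Statements.S8290
import Groth.Agent.RelTildeX.Invertible
import Groth.Agent.AmpleX.Locus
import Groth.Agent.ParaFX.Closed

set_option autoImplicit false
universe u
open CategoryTheory CategoryTheory.Limits AlgebraicGeometry Opposite TopologicalSpace
open scoped HomogeneousIdeal
noncomputable section
open EGA2

namespace Groth.Agent.S8290

open Groth.Agent Groth.Agent.RelTildeX

/-- Let 𝒮 be a quasi-coherent positively graded O_Y-algebra, X = Proj(𝒮), and U a quasi-compact open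
subset of X. There is an integer d > 0 such that for every n divisible by d the twisting sheaf
O_X(n) restricted to U is invertible. (The published statement adds that its inverse is O_X(-n)|U.) -/
theorem result {Y X : Scheme.{u}} (𝒮 : RelProj.QCGrAlg Y) (q : X ⟶ Y)
    (chart : ∀ (U : Y.Opens) (hU : IsAffineOpen U), (((q ⁻¹ᵁ U : X.Opens) : Scheme.{u}) ≅ Proj (𝒮.deg U hU)))
    (hX : RelProj.IsRelProj 𝒮 q chart) (U : X.Opens) (hU : IsCompact (U : Set X)) :
    ∃ d : ℕ, 0 < d ∧ ∀ (n : ℤ), (d : ℤ) ∣ n →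
      ∀ (L : X.Modules)
        (lam : ∀ (V : Y.Opens) (hV : IsAffineOpen V),
          L ⟶ (Scheme.Modules.pushforward (RelProj.emb q chart V hV)).obj (GrTwist.twist (𝒮.deg V hV) n)),
        RelProj.IsRelTwist 𝒮 q chart n L lam → PicF.IsInvertible (L.restrict U.ι) := by
  classical
  choose V hV f d hd hf hxW _ using fun x : U => exists_chart_nhd (p := q) (chart := chart) (W := (⊤ : X.Opens))
    (x := x.1) trivial
  let B : U → X.Opens := fun x => RelProj.emb q chart (V x) (hV x) ''ᵁ Proj.basicOpen (𝒮.deg (V x) (hV x)) (f x)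
  obtain ⟨t, ht⟩ := hU.elim_finite_subcover (fun x => (B x : Set X)) (fun x => (B x).isOpen)
    (fun x hx => Set.mem_iUnion.2 ⟨⟨x, hx⟩, hxW ⟨x, hx⟩⟩)
  refine ⟨∏ x ∈ t, d x, Finset.prod_pos fun x _ => hd x, fun n hn L lam hL => ?_⟩
  refine ParaFX.isInvertible_of_cover (fun x : t => U.ι ⁻¹ᵁ B x.1) (fun y => ?_) fun x => ?_
  · obtain ⟨x, hx, hy⟩ := Set.mem_iUnion₂.1 (ht y.2)
    exact ⟨⟨x, hx⟩, hy⟩
  obtain ⟨k, rfl⟩ : (d x.1 : ℤ) ∣ n :=
    (Int.natCast_dvd_natCast.2 (Finset.dvd_prod_of_mem d x.2)).trans hn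
  have h0 := GrTwistX.nonempty_iso_basicOpen (hf x.1) k
  rw [mul_comm] at h0
  obtain ⟨e⟩ := nonempty_trivial_image (RelProj.emb q chart (V x.1) (hV x.1)) (twistIso hL _ (hV x.1)) _ h0
  have hB : PicF.IsInvertible (L.restrict (B x.1).ι) := fun y =>
    ⟨⊤, trivial, ⟨(Scheme.Modules.restrictFunctor _).mapIso e ≪≫ Scheme.Modules.restrictUnitIso _⟩⟩
  have hle : ((U.ι ⁻¹ᵁ B x.1).ι ≫ U.ι).opensRange ≤ (B x.1).ι.opensRange := by
    rw [Scheme.Opens.opensRange_ι]
    rintro _ ⟨z, rfl⟩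
    exact z.2
  let a := IsOpenImmersion.lift (B x.1).ι ((U.ι ⁻¹ᵁ B x.1).ι ≫ U.ι) hle
  haveI : IsOpenImmersion (a ≫ (B x.1).ι) := by
    rw [IsOpenImmersion.lift_fac]; infer_instance
  haveI : IsOpenImmersion a := IsOpenImmersion.of_comp a (B x.1).ι
  exact ParaFX.isInvertible_of_iso (ParaFX.restrictTwice L a (B x.1).ι ≪≫
    (Scheme.Modules.restrictFunctorCongr (IsOpenImmersion.lift_fac _ _ hle)).app L ≪≫
    (ParaFX.restrictTwice L (U.ι ⁻¹ᵁ B x.1).ι U.ι).symm) (ParaFX.isInvertible_restrict a hB)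

end Groth.Agent.S8290
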