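import Groth.Statements.S8291
import Groth.Agent.RelVA16.QBC
-- import your own Groth.Agent.* helpers here

set_option autoImplicit false
universe u
open CategoryTheory CategoryTheory.Limits AlgebraicGeometry Opposite TopologicalSpace
open scoped HomogeneousIdeal
noncomputable section
open EGA2

namespace Groth.Agent.S8291

/-- Let ψ : Y' → Y be a morphism, 𝒮 a quasi-coherent positively graded O_Y-algebra and 𝒮' = ψ^*𝒮,
presented as a quasi-coherent graded O_{Y'}-algebra with a graded ψ-morphism u : 𝒮 → ψ_*𝒮' whose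
squares O_Y(U) → O_{Y'}(U'), 𝒮(U) → 𝒮'(U') over affine opens U' ⊆ ψ⁻¹(U) are pushouts of rings. If g
: Proj(𝒮') → Proj(𝒮) is chartwise the morphism of homogeneous spectra induced by 𝒮(U) → 𝒮'(U'), then
Proj(𝒮') together with g and its structure morphism is the fibre product Proj(𝒮) ×_Y Y'. -/
theorem result {Y Y' P P' : Scheme.{u}} (ψ : Y' ⟶ Y) (𝒮 : RelProj.QCGrAlg Y)
    (𝒮' : RelProj.QCGrAlg Y') (u : 𝒮.presheaf ⟶ ψ.base _* 𝒮'.presheaf)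
    (hu : 𝒮.str ≫ u = ψ.c ≫ (TopCat.Presheaf.pushforward CommRingCat.{u} ψ.base).map 𝒮'.str)
    (φ : ∀ (U : Y.Opens) (hU : IsAffineOpen U) (U' : Y'.Opens) (hU' : IsAffineOpen U') (_ : U' ≤ ψ ⁻¹ᵁ U),
      𝒮.deg U hU →+*ᵍ 𝒮'.deg U' hU')
    (hφ : ∀ (U : Y.Opens) (hU : IsAffineOpen U) (U' : Y'.Opens) (hU' : IsAffineOpen U') (hle : U' ≤ ψ ⁻¹ᵁ U),
      (φ U hU U' hU' hle).toRingHom =
        ((u.app (op U) : 𝒮.presheaf.obj (op U) ⟶ 𝒮'.presheaf.obj (op (ψ ⁻¹ᵁ U))) ≫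
          𝒮'.presheaf.map (homOfLE hle).op).hom)
    (hpo : ∀ (U : Y.Opens) (hU : IsAffineOpen U) (U' : Y'.Opens) (hU' : IsAffineOpen U') (hle : U' ≤ ψ ⁻¹ᵁ U),
      IsPushout (ψ.appLE U U' hle) (𝒮.str.app (op U)) (𝒮'.str.app (op U'))
        ((u.app (op U) : 𝒮.presheaf.obj (op U) ⟶ 𝒮'.presheaf.obj (op (ψ ⁻¹ᵁ U))) ≫
          𝒮'.presheaf.map (homOfLE hle).op))
    (hirr : ∀ (U : Y.Opens) (hU : IsAffineOpen U) (U' : Y'.Opens) (hU' : IsAffineOpen U') (hle : U' ≤ ψ ⁻¹ᵁ U),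
      (𝒮'.deg U' hU')₊ ≤ ((𝒮.deg U hU)₊).map (φ U hU U' hU' hle))
    (p : P ⟶ Y)
    (chart : ∀ (U : Y.Opens) (hU : IsAffineOpen U), (((p ⁻¹ᵁ U : P.Opens) : Scheme.{u}) ≅ Proj (𝒮.deg U hU)))
    (hP : RelProj.IsRelProj 𝒮 p chart) (p' : P' ⟶ Y')
    (chart' : ∀ (U' : Y'.Opens) (hU' : IsAffineOpen U'), (((p' ⁻¹ᵁ U' : P'.Opens) : Scheme.{u}) ≅ Proj (𝒮'.deg U' hU')))
    (hP' : RelProj.IsRelProj 𝒮' p' chart') (g : P' ⟶ P)
    (hg : ∀ (U : Y.Opens) (hU : IsAffineOpen U) (U' : Y'.Opens) (hU' : IsAffineOpen U') (hle : U' ≤ ψ ⁻¹ᵁ U),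
      (p' ⁻¹ᵁ U').ι ≫ g =
        (chart' U' hU').hom ≫ Proj.map (φ U hU U' hU' hle) (hirr U hU U' hU' hle) ≫ RelProj.emb p chart U hU) :
    IsPullback g p' p ψ := by
  let Q := RelVA16.mkQ u hu (fun U hU U' hU' hle {d x} hx => by
    have h := (φ U hU U' hU' hle).map_mem hx
    have e := RingHom.congr_fun (hφ U hU U' hU' hle) x
    exact e ▸ h)
  have hQ : ∀ U hU U' hU' hle, Q.gradedAt U hU U' hU' hle = φ U hU U' hU' hle := fun U hU U' hU' hle =>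
    DFunLike.ext _ _ fun x => (RingHom.congr_fun (hφ U hU U' hU' hle) x).symm
  refine (S12141.result ψ 𝒮 𝒮' Q hpo p chart hP p' chart' hP').2 g
    (RelVA16.isProjQMap_of_map Q (fun U hU U' hU' hle => hQ U hU U' hU' hle ▸ hirr U hU U' hU' hle) g
      fun U hU U' hU' hle => ?_)
  rw [RelProj.emb, Category.assoc, hg U hU U' hU' hle, Iso.inv_hom_id_assoc]
  simp only [hQ]

end Groth.Agent.S8291
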