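import Groth.Statements.S8297
import Groth.Agent.ProjQX.Cone
import Groth.Agent.ConeX.Vertex
-- import your own Groth.Agent.* helpers here

set_option autoImplicit false
universe u
open CategoryTheory CategoryTheory.Limits AlgebraicGeometry Opposite TopologicalSpace
open scoped HomogeneousIdeal
noncomputable section
open EGA2

namespace Groth.Agent.S8297

open Groth.Agent.ProjQX
set_option backward.isDefEq.respectTransparency false
set_option backward.isDefEq.respectTransparency.types false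

/-- The relation i(C) = Ĉ − j(X): let 𝒮 be a quasi-coherent positively graded O_Y-algebra with 𝒮_0 =
O_Y, Ŝ = 𝒮[z] (given through a graded homomorphism ι : 𝒮 → Ŝ and a global section z of degree one,
the map 𝒮(U)[X] → Ŝ(U), X ↦ z, being bijective over every affine open U), C = Spec(𝒮) the affine
cone, Ĉ = Proj(Ŝ) the projective cone and X = Proj(𝒮), each relative homogeneous spectrum given with
its charts; let i : C → Ĉ be the canonical open immersion (chartwise Spec of Ŝ(U)_(z) → 𝒮(U), z ↦ 1,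
followed by the inclusion of D_+(z)), θ : Ŝ → 𝒮 the graded retraction of ι sending z to 0, and j : X
→ Ĉ the morphism chartwise induced by θ (the immersion of the locus at infinity). Then the
underlying set of the image of i is the complement of the image of j. -/
theorem result {Y PC P : Scheme.{u}} (𝒮 𝒮h : RelProj.QCGrAlg Y) (h0 : RelCone.StrZeroBij 𝒮)
    (ι : 𝒮.toQCAlg ⟶ 𝒮h.toQCAlg) (z : 𝒮h.presheaf.obj (op ⊤)) (hz : RelCone.IsPolyOver 𝒮 𝒮h ι z)
    (pC : PC ⟶ Y)
    (chartC : ∀ (U : Y.Opens) (hU : IsAffineOpen U), (((pC ⁻¹ᵁ U : PC.Opens) : Scheme.{u}) ≅ Proj (𝒮h.deg U hU)))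
    (hPC : RelProj.IsRelProj 𝒮h pC chartC)
    (i : 𝒮.toQCAlg.spec ⟶ PC) (hi : RelCone.IsConeImm 𝒮 hz pC chartC i)
    (θ : 𝒮h.toQCAlg ⟶ 𝒮.toQCAlg) (hθ : RelProj.IsGradedHom θ) (hιθ : ι ≫ θ = 𝟙 _)
    (hθz : (θ.hom.app (op ⊤)).hom z = 0)
    (hirr : ∀ (U : Y.Opens) (hU : IsAffineOpen U),
      (𝒮.deg U hU)₊ ≤ ((𝒮h.deg U hU)₊).map (RelProj.gradedHomAt θ hθ U hU))
    (p : P ⟶ Y)
    (chart : ∀ (U : Y.Opens) (hU : IsAffineOpen U), (((p ⁻¹ᵁ U : P.Opens) : Scheme.{u}) ≅ Proj (𝒮.deg U hU)))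
    (hP : RelProj.IsRelProj 𝒮 p chart) (j : P ⟶ PC) (hj : RelProj.IsRelProjMap θ hθ hirr chartC chart j) :
    Set.range i.base = (Set.range j.base)ᶜ := by
  ext x
  obtain ⟨_, ⟨U, hU, rfl⟩, hxU, -⟩ := Y.isBasis_affineOpens.exists_subset_of_mem_open
    (Set.mem_univ (pC x)) isOpen_univ
  obtain ⟨a, rfl⟩ := (mem_opensRange_emb (chart := chartC) hU).mpr hxU
  rw [Set.mem_compl_iff, mem_range_coneImm_iff hz hPC hi hU a]
  have hj' : ∀ (V : Y.Opens) (hV : IsAffineOpen V),
      RelProj.emb p chart V hV ≫ j =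
        Proj.map (RelProj.gradedHomAt θ hθ V hV) (hirr V hV) ≫ RelProj.emb pC chartC V hV := by
    intro V hV
    unfold RelProj.emb
    rw [Category.assoc, hj V hV, Iso.inv_hom_id_assoc]
  have hθzU : ∀ (V : Y.Opens), (θ.hom.app (op V)).hom (RelCone.restrictTop 𝒮h z V) = 0 := fun V => by
    refine (ConcreteCategory.congr_hom (θ.hom.naturality (homOfLE (le_top : V ≤ ⊤)).op) z).trans ?_
    show (𝒮.presheaf.map _).hom ((θ.hom.app (op ⊤)).hom z) = 0
    rw [hθz, map_zero]
  constructor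
  · rintro ha ⟨y, hy⟩
    obtain ⟨_, ⟨V, hV, rfl⟩, hyV, -⟩ := Y.isBasis_affineOpens.exists_subset_of_mem_open
      (Set.mem_univ (p y)) isOpen_univ
    obtain ⟨b, rfl⟩ := (mem_opensRange_emb (chart := chart) hV).mpr hyV
    rw [← Scheme.Hom.comp_apply, hj' V hV] at hy
    have := (notMem_congr (z := z) hPC hU hV hy.symm).mp ha
    refine this ?_
    show (θ.hom.app (op V)).hom (RelCone.restrictTop 𝒮h z V) ∈ (b : ProjectiveSpectrum _).asHomogeneousIdeal
    rw [hθzU V]
    exact Submodule.zero_mem _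
  · intro h
    by_contra hza
    have hza' : RelCone.restrictTop 𝒮h z U ∈ (a : ProjectiveSpectrum (𝒮h.deg U hU)).asHomogeneousIdeal :=
      not_not.mp hza
    let f := RelProj.gradedHomAt ι hz.graded U hU
    let g := RelProj.gradedHomAt θ hθ U hU
    have hfg : ∀ x, g (f x) = x := fun x =>
      ConcreteCategory.congr_hom (congrArg (fun ψ : 𝒮.toQCAlg ⟶ 𝒮.toQCAlg => ψ.hom.app (op U)) hιθ) x
    let P : Ideal (𝒮h.presheaf.obj (op U)) := (a : ProjectiveSpectrum (𝒮h.deg U hU)).asHomogeneousIdeal.toIdeal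
    have hP : P.IsPrime := (a : ProjectiveSpectrum (𝒮h.deg U hU)).isPrime
    have hrel : ¬ (𝒮.deg U hU)₊ ≤ (a : ProjectiveSpectrum (𝒮h.deg U hU)).asHomogeneousIdeal.comap f := by
      intro hle
      exact mem_irrelevant_le hz hU a (fun x hx => hle hx) hza'
    let q : Proj (𝒮.deg U hU) :=
      (⟨(a : ProjectiveSpectrum (𝒮h.deg U hU)).asHomogeneousIdeal.comap f, Ideal.IsPrime.comap f.toRingHom,
        hrel⟩ : ProjectiveSpectrum (𝒮.deg U hU))
    refine h ⟨RelProj.emb p chart U hU q, ?_⟩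
    rw [← Scheme.Hom.comp_apply, hj' U hU]
    rw [Scheme.Hom.comp_apply]
    refine congrArg (fun b => RelProj.emb pC chartC U hU b) (show Proj.map g (hirr U hU) q = a from ?_)
    refine ProjectiveSpectrum.ext (HomogeneousIdeal.ext (Ideal.ext fun x => ?_))
    show f (g x) ∈ P ↔ x ∈ P
    have hsub : x - f (g x) ∈ P := by
      refine (Ideal.span_singleton_le_iff_mem P).mpr hza' ?_
      exact (isPolyRing hz hU).sub_mem g.toRingHom hfg (hθzU U) x
    exact ⟨fun hx => by simpa using P.add_mem hsub hx, fun hx => by simpa using P.sub_mem hx hsub⟩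

end Groth.Agent.S8297
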