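import Groth.Statements.S8298
import Groth.Agent.ProjQX.Cone
import Groth.Agent.ConeX.Vertex
-- import your own Groth.Agent.* helpers here

set_option autoImplicit false
universe u
open CategoryTheory CategoryTheory.Limits AlgebraicGeometry Opposite TopologicalSpace
open scoped HomogeneousIdeal
noncomputable section
open EGA2

namespace Groth.Agent.S8298

open Groth.Agent.ProjQX
set_option backward.isDefEq.respectTransparency false
set_option backward.isDefEq.respectTransparency.types false

/-- The pointed projective cone: let 𝒮 be a quasi-coherent positively graded O_Y-algebra with 𝒮_0 = O_Y,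
aug its augmentation and ε : Y → C = Spec(𝒮) the vertex section; let Ŝ = 𝒮[z] (given through a
graded homomorphism ι : 𝒮 → Ŝ and a degree-one global section z, polynomial over every affine open),
Ĉ = Proj(Ŝ) its relative homogeneous spectrum with charts, and i : C → Ĉ the canonical open
immersion. Then the open subset of Ĉ which is the union, over the affine opens U of Y, of the chart
images of the opens of Proj Ŝ(U) where the morphism induced by ι(U) : 𝒮(U) → Ŝ(U) is defined (the
complement of V_+ of the ideal generated by ι(𝒮(U)_+)) has underlying set exactly the complement of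
i(ε(Y)): the pointed projective cone Ê is Ĉ minus its vertex section. -/
theorem result {Y PC : Scheme.{u}} (𝒮 𝒮h : RelProj.QCGrAlg Y) (h0 : RelCone.StrZeroBij 𝒮)
    (ι : 𝒮.toQCAlg ⟶ 𝒮h.toQCAlg) (z : 𝒮h.presheaf.obj (op ⊤)) (hz : RelCone.IsPolyOver 𝒮 𝒮h ι z)
    (pC : PC ⟶ Y)
    (chartC : ∀ (U : Y.Opens) (hU : IsAffineOpen U), (((pC ⁻¹ᵁ U : PC.Opens) : Scheme.{u}) ≅ Proj (𝒮h.deg U hU)))
    (hPC : RelProj.IsRelProj 𝒮h pC chartC)
    (aug : 𝒮.toQCAlg ⟶ RelSpec.QCAlg.unit Y) (haug : RelCone.IsAugmentation 𝒮 aug)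
    (ε : Y ⟶ 𝒮.toQCAlg.spec) (hε : RelCone.IsVertex 𝒮 aug ε)
    (i : 𝒮.toQCAlg.spec ⟶ PC) (hi : RelCone.IsConeImm 𝒮 hz pC chartC i) :
    ((RelCone.pointedProjCone 𝒮 hz pC chartC : PC.Opens) : Set PC) = (Set.range (ε ≫ i).base)ᶜ := by
  obtain ⟨hππ, hchart⟩ := hε
  ext x
  obtain ⟨_, ⟨U, hU, rfl⟩, hxU, -⟩ := Y.isBasis_affineOpens.exists_subset_of_mem_open
    (Set.mem_univ (pC x)) isOpen_univ
  obtain ⟨a, rfl⟩ := (mem_opensRange_emb (chart := chartC) hU).mpr hxU
  simp only [SetLike.mem_coe, Set.mem_compl_iff]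
  rw [mem_pointed_iff hz hPC hU a]
  have hk := Groth.Agent.ConeX.ker_aug 𝒮 aug h0 haug U hU
  have hθ : Function.Bijective (hz.awayZToBase U hU) := bijective_awayZToBase hz hU
  have hmem : ∀ (s : Spec (𝒮.presheaf.obj (op U))) (f : 𝒮.presheaf.obj (op U)) (d : ℕ) (hd : 0 < d)
      (hf : f ∈ 𝒮.deg U hU d),
      (ι.hom.app (op U)).hom f ∈ (Proj.awayι (𝒮h.deg U hU) (RelCone.restrictTop 𝒮h z U) (hz.deg_z U hU) one_pos
        (Spec.map (CommRingCat.ofHom (hz.awayZToBase U hU)) s) :
          ProjectiveSpectrum (𝒮h.deg U hU)).asHomogeneousIdeal ↔ f ∈ s.asIdeal := by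
    intro s f d hd hf
    have h1 := SetLike.ext_iff.mp (Proj.awayι_preimage_basicOpen (𝒮h.deg U hU) (hz.deg_z U hU) one_pos
      (hz.graded U hU d f hf) hd) (Spec.map (CommRingCat.ofHom (hz.awayZToBase U hU)) s)
    have h2 : hz.awayZToBase U hU (HomogeneousLocalization.Away.isLocalizationElem (hz.deg_z U hU)
        (hz.graded U hU d f hf)) = f := by
      rw [hz.awayZToBase_of_val U hU _ ((ι.hom.app (op U)).hom f ^ 1) d
        (HomogeneousLocalization.Away.val_mk _ _ _ _ _), pow_one]
      exact hz.evalOne_ι U hU f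
    exact not_iff_not.mp (h1.trans (by
      show hz.awayZToBase U hU _ ∉ s.asIdeal ↔ _
      rw [h2]))
  constructor
  · rintro ⟨f, hf, hfa⟩ ⟨y, hy⟩
    have hyU : y ∈ U := by
      have h1 : pC (RelProj.emb pC chartC U hU a) ∈ U := (mem_opensRange_emb hU).mp ⟨a, rfl⟩
      obtain ⟨_, ⟨V, hV, rfl⟩, hyV, -⟩ := Y.isBasis_affineOpens.exists_subset_of_mem_open
        (Set.mem_univ y) isOpen_univ
      rw [← hy] at h1
      obtain ⟨t, rfl⟩ : y ∈ hV.fromSpec.opensRange := by rw [IsAffineOpen.opensRange_fromSpec]; exact hyV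
      have e : ∀ t, pC ((hV.fromSpec ≫ ε ≫ i) t) = hV.fromSpec t := by
        intro t
        rw [reassoc_of% (hchart V hV), hi V hV, ← Scheme.Hom.comp_apply]
        simp only [Category.assoc]
        rw [emb_over hPC, Proj.awayι_toSpecZero_assoc, ← Spec.map_comp_assoc, ← Spec.map_comp_assoc, ← Spec.map_comp_assoc]
        refine congrArg (fun φ => (Spec.map φ ≫ hV.fromSpec) t) (CommRingCat.hom_ext (RingHom.ext fun r => ?_))
          |>.trans (b := (Spec.map (𝟙 _) ≫ hV.fromSpec) t) (by rw [Spec.map_id, Category.id_comp])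
        show (aug.hom.app (op V)).hom (hz.awayZToBase V hV (HomogeneousLocalization.fromZeroRingHom _ _ _)) = r
        rw [hz.awayZToBase_of_val V hV _ ((𝒮h.str.app (op V)).hom r) 0 ?_]
        · rw [← show (ι.hom.app (op V)).hom ((𝒮.str.app (op V)).hom r) = (𝒮h.str.app (op V)).hom r from
            ConcreteCategory.congr_hom (NatTrans.congr_app ι.comm (op V)) r, hz.evalOne_ι]
          exact ConcreteCategory.congr_hom (NatTrans.congr_app aug.comm (op V)) r
        · simp only [HomogeneousLocalization.fromZeroRingHom, RingHom.coe_mk, MonoidHom.coe_mk, OneHom.coe_mk,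
            HomogeneousLocalization.val_mk]
          exact congr_arg₂ Localization.mk rfl (Subtype.ext (pow_zero _).symm)
      exact (e t) ▸ h1
    obtain ⟨t, rfl⟩ : y ∈ hU.fromSpec.opensRange := by rw [IsAffineOpen.opensRange_fromSpec]; exact hyU
    rw [← Scheme.Hom.comp_apply, reassoc_of% (hchart U hU), hi U hU] at hy
    have hy' := (RelProj.emb pC chartC U hU).isOpenEmbedding.injective hy
    refine hfa ?_
    rw [← hy']
    classical
    rw [← DirectSum.sum_support_decompose (𝒮.deg U hU) f, map_sum]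
    refine Ideal.sum_mem _ fun k hk' => ?_
    rcases Nat.eq_zero_or_pos k with rfl | hpos
    · rw [show (DirectSum.decompose (𝒮.deg U hU) f 0 : 𝒮.presheaf.obj (op U)) = 0 from hf, map_zero]
      exact Ideal.zero_mem _
    refine (hmem (Spec.map (aug.hom.app (op U)) t) _ k hpos (SetLike.coe_mem _)).mpr ?_
    show (aug.hom.app (op U)).hom _ ∈ t.asIdeal
    obtain ⟨k', rfl⟩ : ∃ k', k = k' + 1 := ⟨k - 1, (Nat.succ_pred_eq_of_pos hpos).symm⟩
    rw [haug U hU k' _ (SetLike.coe_mem _)]
    exact Submodule.zero_mem _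
  · intro h
    by_contra hne
    push Not at hne
    have ha := mem_irrelevant_le hz hU a hne
    have : IsIso (CommRingCat.ofHom (hz.awayZToBase U hU)) := (ConcreteCategory.isIso_iff_bijective _).mpr hθ
    obtain ⟨s', hs'⟩ : a ∈ (Proj.awayι (𝒮h.deg U hU) (RelCone.restrictTop 𝒮h z U) (hz.deg_z U hU) one_pos).opensRange := by
      rw [Proj.opensRange_awayι]; exact ha
    obtain ⟨s, rfl⟩ := (Spec.map (CommRingCat.ofHom (hz.awayZToBase U hU))).homeomorph.surjective s'
    have hker : RingHom.ker (aug.hom.app (op U)).hom ≤ s.asIdeal := by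
      rw [hk.2, HomogeneousIdeal.irrelevant_eq_span, Ideal.span_le]
      simp only [Set.iUnion_subset_iff]
      intro d hd f hf
      refine (hmem s f d hd hf).mp ?_
      rw [show Proj.awayι (𝒮h.deg U hU) _ (hz.deg_z U hU) one_pos (Spec.map _ s) = a from hs']
      exact hne f (HomogeneousIdeal.mem_irrelevant_of_mem _ hd hf)
    obtain ⟨t, rfl⟩ : s ∈ Set.range (Spec.map (aug.hom.app (op U))) := by
      refine (Set.ext_iff.mp (range_comap_of_surjective _ _ hk.1) s).mpr ?_
      exact hker
    refine h ⟨hU.fromSpec t, ?_⟩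
    rw [← Scheme.Hom.comp_apply, reassoc_of% (hchart U hU), hi U hU]
    exact congrArg (fun b => RelProj.emb pC chartC U hU b) hs'

end Groth.Agent.S8298
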