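import Groth.Statements.S8301
import Groth.Agent.AModX.EssSurj

set_option autoImplicit false
universe u
open CategoryTheory CategoryTheory.Limits AlgebraicGeometry Opposite TopologicalSpace
noncomputable section
open EGA2

namespace Groth.Agent.S8301

/-- Existence of the module attached to a quasi-coherent module over a quasi-coherent algebra: for the
algebra A(X) = f_*O_X of a scheme X affine over S: let f : X → S be an affine morphism. Every module
M over the sheaf of rings f_*O_X which is quasi-coherent as an O_S-module is, up to an isomorphism
of f_*O_X-modules, the direct image f_*F of a quasi-coherent O_X-module F (f_*F carrying its natural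
f_*O_X-module structure). (Every quasi-coherent O_S-algebra B is of this form with X = Spec(B); the
published statement is phrased for such B.) -/
theorem result {X S : Scheme.{u}} (f : X ⟶ S) [IsAffineHom f]
    (M : AMod (RelSpec.QCAlg.directImage f))
    (hM : Coh.IsQCoh ((AMod.toOS (RelSpec.QCAlg.directImage f)).obj M)) :
    ∃ F : X.Modules, Coh.IsQCoh F ∧ Nonempty ((AMod.dirImg f).obj F ≅ M) := by
  exact AModX.exists_iso_dirImg M hM

end Groth.Agent.S8301
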