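import Groth.Statements.S8304
import Groth.Agent.SymAlgX.Recognise
import Groth.Agent.QCoh.Extension
import Groth.Agent.PnCoh.Unit

set_option autoImplicit false
universe u
open CategoryTheory CategoryTheory.Limits AlgebraicGeometry Opposite TopologicalSpace
open scoped HomogeneousIdeal
noncomputable section
open EGA2

namespace Groth.Agent.S8304

open Groth.Agent Groth.Agent.SymAlgX

set_option backward.isDefEq.respectTransparency false
set_option backward.isDefEq.respectTransparency.types false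

section
variable {Y : Scheme.{u}} {E : Y.Modules} {𝒮 𝒮h : RelProj.QCGrAlg Y} {j : E ⟶ 𝒮.toModule}
  {ι : 𝒮.toQCAlg ⟶ 𝒮h.toQCAlg} {z : 𝒮h.presheaf.obj (op ⊤)} {k : Coh.structureModule Y ⟶ 𝒮h.toModule}

/-- The combined map. -/
abbrev cmb (j : E ⟶ 𝒮.toModule) (ι : 𝒮.toQCAlg ⟶ 𝒮h.toQCAlg) (k : Coh.structureModule Y ⟶ 𝒮h.toModule) :
    E ⊞ Coh.structureModule Y ⟶ 𝒮h.toModule :=
  biprod.desc (j ≫ RelSpec.QCAlg.Hom.toModuleMap ι) k

lemma jv_inl (U : Y.Opens) (e : Γ(E, U)) :
    jv 𝒮h.toQCAlg (cmb j ι k) U ((biprod.inl : E ⟶ E ⊞ Coh.structureModule Y).app U e) =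
      ι.hom.app (op U) (jv 𝒮.toQCAlg j U e) :=
  congrArg (fun α : E ⟶ 𝒮h.toModule => α.app U e)
    (biprod.inl_desc (j ≫ RelSpec.QCAlg.Hom.toModuleMap ι) k)

lemma jv_inr (U : Y.Opens) (a : Γ(Coh.structureModule Y, U)) :
    jv 𝒮h.toQCAlg (cmb j ι k) U ((biprod.inr : Coh.structureModule Y ⟶ E ⊞ Coh.structureModule Y).app U a) =
      k.app U a :=
  congrArg (fun α : Coh.structureModule Y ⟶ 𝒮h.toModule => α.app U a)
    (biprod.inr_desc (j ≫ RelSpec.QCAlg.Hom.toModuleMap ι) k)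

lemma liftAt_cmb_bijective (hE : Coh.IsQCoh E) (hS : RelSpec.IsSymAlg E 𝒮.toQCAlg j)
    (hz : RelCone.IsPolyOver 𝒮 𝒮h ι z)
    (hk : ∀ U : Y.Opens, (k.app U) (1 : Γ(Y, U)) = RelCone.restrictTop 𝒮h z U) {U : Y.Opens}
    (hU : IsAffineOpen U) : Function.Bijective (liftAt 𝒮h.toQCAlg (cmb j ι k) U) := by
  let q : SymAt E U ≃+* 𝒮.presheaf.obj (op U) :=
    RingEquiv.ofBijective (liftAt 𝒮.toQCAlg j U) (liftAt_bijective hE 𝒮.toQCAlg hS hU)
  have hqr : ∀ r, q.symm ((𝒮.str.app (op U)).hom r) = algebraMap Γ(Y, U) (SymAt E U) r := fun r => by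
    rw [← liftAt_algebraMap 𝒮.toQCAlg j U r]
    exact q.symm_apply_apply (algebraMap Γ(Y, U) (SymAt E U) r)
  have hqe : ∀ e, q.symm (jv 𝒮.toQCAlg j U e) = SymmetricAlgebra.ι _ _ e := fun e => by
    rw [← liftAt_ι 𝒮.toQCAlg j U e]
    exact q.symm_apply_apply (SymmetricAlgebra.ι _ _ e)
  let inl := (biprod.inl : E ⟶ E ⊞ Coh.structureModule Y)
  let inr := (biprod.inr : Coh.structureModule Y ⟶ E ⊞ Coh.structureModule Y)
  let m : SymAt E U →+* SymAt (E ⊞ Coh.structureModule Y) U :=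
    liftHom (algebraMap _ _) ((SymmetricAlgebra.ι _ _).toAddMonoidHom.comp (inl.app U).hom) fun r e => by
      show SymmetricAlgebra.ι _ _ (inl.app U (r • e)) = _
      rw [Scheme.Modules.Hom.app_smul, map_smul, Algebra.smul_def]
      rfl
  let one : Γ(Coh.structureModule Y, U) := (1 : Γ(Y, U))
  let G : 𝒮h.presheaf.obj (op U) →+* SymAt (E ⊞ Coh.structureModule Y) U :=
    (Polynomial.eval₂RingHom (m.comp q.symm.toRingHom) (SymmetricAlgebra.ι _ _ (inr.app U one))).comp
      (hz.polyEquiv U hU).symm.toRingHom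
  have hC : ∀ x, G ((ι.hom.app (op U)).hom x) = m (q.symm x) := fun x => by
    have e : hz.polyEquiv U hU (Polynomial.C x) = (ι.hom.app (op U)).hom x := by
      rw [RelCone.IsPolyOver.polyEquiv_apply, Polynomial.eval₂_C]
    rw [← e]
    show Polynomial.eval₂ _ _ ((hz.polyEquiv U hU).symm (hz.polyEquiv U hU (Polynomial.C x))) = _
    rw [RingEquiv.symm_apply_apply, Polynomial.eval₂_C]
    rfl
  have hX : G (RelCone.restrictTop 𝒮h z U) = SymmetricAlgebra.ι _ _ (inr.app U one) := by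
    have e : hz.polyEquiv U hU Polynomial.X = RelCone.restrictTop 𝒮h z U := by
      rw [RelCone.IsPolyOver.polyEquiv_apply, Polynomial.eval₂_X]
    rw [← e]
    show Polynomial.eval₂ _ _ ((hz.polyEquiv U hU).symm (hz.polyEquiv U hU Polynomial.X)) = _
    rw [RingEquiv.symm_apply_apply, Polynomial.eval₂_X]
  set φ := cmb j ι k
  have hstr : ∀ r, (ι.hom.app (op U)).hom ((𝒮.str.app (op U)).hom r) = (𝒮h.str.app (op U)).hom r := fun r =>
    ConcreteCategory.congr_hom (NatTrans.congr_app ι.comm (op U)) r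
  have hone : ∀ a : Γ(Coh.structureModule Y, U), a = (show Γ(Y, U) from a) • one := fun a =>
    (mul_one (show Γ(Y, U) from a)).symm
  have htot : ∀ x : Γ(E ⊞ Coh.structureModule Y, U),
      inl.app U ((biprod.fst : E ⊞ Coh.structureModule Y ⟶ E).app U x) +
        inr.app U ((biprod.snd : E ⊞ Coh.structureModule Y ⟶ Coh.structureModule Y).app U x) = x := fun x =>
    congrArg (fun α : E ⊞ Coh.structureModule Y ⟶ E ⊞ Coh.structureModule Y => α.app U x)
      (biprod.total (X := E) (Y := Coh.structureModule Y))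
  have hGl : G.comp (liftAt 𝒮h.toQCAlg φ U) = RingHom.id _ := by
    refine symHom_ext (fun r => ?_) fun x => ?_
    · rw [RingHom.comp_apply, liftAt_algebraMap, RingHom.id_apply, ← hstr, hC, hqr]
      exact liftHom_algebraMap _ _ _ r
    · rw [RingHom.comp_apply, liftAt_ι, RingHom.id_apply]
      conv_lhs => rw [← htot x]
      rw [show ∀ a b, jv 𝒮h.toQCAlg φ U (a + b) = jv 𝒮h.toQCAlg φ U a + jv 𝒮h.toQCAlg φ U b from
        fun a b => map_add (φ.app U).hom a b, map_add]
      conv_rhs => rw [← htot x, map_add]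
      congr 1
      · rw [jv_inl, hC, hqe]
        exact liftHom_ι _ _ _ _
      · rw [jv_inr]
        generalize (biprod.snd : E ⊞ Coh.structureModule Y ⟶ Coh.structureModule Y).app U x = a
        obtain ⟨a', ha'⟩ : ∃ a' : Γ(Y, U), a = a' • one := ⟨_, hone a⟩
        subst ha'
        have h1 : k.app U (a' • one) = (𝒮h.str.app (op U)).hom a' * RelCone.restrictTop 𝒮h z U :=
          (Scheme.Modules.Hom.app_smul k a' one).trans (congrArg ((𝒮h.str.app (op U)).hom a' * ·) (hk U))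
        refine (congrArg G h1).trans ?_
        rw [map_mul, hX, ← hstr, hC, hqr]
        refine (congrArg (· * _) (liftHom_algebraMap _ _ _ a')).trans ?_
        rw [Scheme.Modules.Hom.app_smul, map_smul, Algebra.smul_def]
  refine ⟨Function.LeftInverse.injective (g := G) (RingHom.congr_fun hGl), fun b => ?_⟩
  obtain ⟨p, rfl⟩ := (hz.bij U hU).2 b
  suffices Polynomial.eval₂RingHom (ι.hom.app (op U)).hom (RelCone.restrictTop 𝒮h z U) p ∈
      (liftAt 𝒮h.toQCAlg φ U).range from this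
  rw [Polynomial.coe_eval₂RingHom, Polynomial.eval₂_eq_sum]
  refine Subring.sum_mem _ fun n _ => Subring.mul_mem _ ?_ (Subring.pow_mem _ ?_ n)
  · have : (ι.hom.app (op U)).hom.comp (liftAt 𝒮.toQCAlg j U) = (liftAt 𝒮h.toQCAlg φ U).comp m := by
      refine symHom_ext (fun r => ?_) fun e => ?_
      · rw [RingHom.comp_apply, RingHom.comp_apply, liftAt_algebraMap, liftHom_algebraMap, liftAt_algebraMap]
        exact hstr r
      · rw [RingHom.comp_apply, RingHom.comp_apply, liftAt_ι, liftHom_ι]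
        exact ((liftAt_ι _ _ U _).trans (jv_inl U e)).symm
    obtain ⟨y, hy⟩ := (liftAt_bijective hE 𝒮.toQCAlg hS hU).2 (p.coeff n)
    exact ⟨m y, by rw [← hy]; exact (RingHom.congr_fun this y).symm⟩
  · exact ⟨SymmetricAlgebra.ι _ _ (inr.app U one), ((liftAt_ι _ _ U _).trans (jv_inr U one)).trans (hk U)⟩

end


/-- At the level of graded algebras: let E be a quasi-coherent O_Y-module and 𝒮 = Sym(E) its graded
symmetric algebra (j : E → 𝒮 landing in degree one), and let Ŝ = 𝒮[z] be given through a graded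
homomorphism ι : 𝒮 → Ŝ and a global section z of degree one with 𝒮(U)[X] → Ŝ(U), X ↦ z, bijective
over every affine open U. If k : O_Y → Ŝ is a module homomorphism sending the unit section to z over
every open, then Ŝ together with the map E ⊕ O_Y → Ŝ whose components are j followed by ι, and k, is
the graded symmetric algebra of E ⊕ O_Y. Consequently the projective cone of V(E) = Spec(Sym E),
which is Proj(Ŝ), is the projective bundle P(E ⊕ O_Y), and its locus at infinity Proj(𝒮) is P(E). -/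
theorem result {Y : Scheme.{u}} (E : Y.Modules) (hE : Coh.IsQCoh E)
    (𝒮 𝒮h : RelProj.QCGrAlg Y) (j : E ⟶ 𝒮.toModule) (hS : RelProj.IsGrSymAlg E 𝒮 j)
    (ι : 𝒮.toQCAlg ⟶ 𝒮h.toQCAlg) (z : 𝒮h.presheaf.obj (op ⊤)) (hz : RelCone.IsPolyOver 𝒮 𝒮h ι z)
    (k : Coh.structureModule Y ⟶ 𝒮h.toModule)
    (hk : ∀ U : Y.Opens, (k.app U) (1 : Γ(Y, U)) = RelCone.restrictTop 𝒮h z U) :
    RelProj.IsGrSymAlg (E ⊞ Coh.structureModule Y) 𝒮h
      (biprod.desc (j ≫ RelSpec.QCAlg.Hom.toModuleMap ι) k) := by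
  have hq : Coh.IsQCoh (E ⊞ Coh.structureModule Y) :=
    Groth.Agent.QCoh.isQCoh_X₂ (ShortComplex.Splitting.ofHasBinaryBiproduct E _).shortExact hE
      (Groth.Agent.PnCoh.isQCoh_structureModule Y)
  refine ⟨isSymAlg_of_liftAt_bijective hq _ _ fun U hU => liftAt_cmb_bijective hE hS.1 hz hk hU,
    fun U hU x => ?_⟩
  have hx : x = (biprod.inl : E ⟶ E ⊞ Coh.structureModule Y).app U
      ((biprod.fst : E ⊞ Coh.structureModule Y ⟶ E).app U x) +
      (biprod.inr : Coh.structureModule Y ⟶ E ⊞ Coh.structureModule Y).app U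
      ((biprod.snd : E ⊞ Coh.structureModule Y ⟶ Coh.structureModule Y).app U x) :=
    (congrArg (fun α : E ⊞ Coh.structureModule Y ⟶ E ⊞ Coh.structureModule Y => α.app U x)
      (biprod.total (X := E) (Y := Coh.structureModule Y))).symm
  rw [hx, map_add]
  refine (𝒮h.deg U hU 1).add_mem ?_ ?_
  · exact Eq.mpr (congrArg (· ∈ 𝒮h.deg U hU 1) (jv_inl U _)) (hz.graded U hU 1 _ (hS.2 U hU _))
  · refine Eq.mpr (congrArg (· ∈ 𝒮h.deg U hU 1) (jv_inr U _)) ?_
    generalize (biprod.snd : E ⊞ Coh.structureModule Y ⟶ Coh.structureModule Y).app U x = a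
    have ha : a = (show Γ(Y, U) from a) • (show Γ(Coh.structureModule Y, U) from (1 : Γ(Y, U))) :=
      (mul_one (show Γ(Y, U) from a)).symm
    rw [ha, Scheme.Modules.Hom.app_smul]
    have h2 := SetLike.mul_mem_graded (A := 𝒮h.deg U hU) (𝒮h.str_mem U hU (show Γ(Y, U) from a))
      (hz.deg_z U hU)
    rw [zero_add, ← hk U] at h2
    exact h2

end Groth.Agent.S8304
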