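import Groth.Statements.S8312
import Groth.Agent.Proj16.Natural

set_option autoImplicit false
universe u
open scoped HomogeneousIdeal
open EGA2

namespace Groth.Agent.S8312

/-- Let S be a positively graded ring (an ℕ-graded R-algebra) and S♮ the graded ring with S♮_n = S_[n] =
⊕_{m ≥ n} S_m, presented as a graded ring S' with an injective algebra homomorphism φ : S' → S[X]
carrying S'_n onto S_[n]·X^n; for a homogeneous f ∈ S_d write f♮ for the element of S' with φ(f♮) =
f·X^d (f placed in degree d of S♮). If (f_α) is a family of homogeneous elements of S of positive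
degrees such that every element of the irrelevant ideal S_+ has a positive power in the ideal
generated by the f_α (that is, S_+ is the radical in S_+ of that ideal), then every element of the
irrelevant ideal S'_+ has a positive power in the ideal of S' generated by the f_α♮. -/
theorem result {R A B : Type u} [CommRing R] [CommRing A] [Algebra R A]
    (𝒜 : ℕ → Submodule R A) [GradedAlgebra 𝒜] [CommRing B] [Algebra R B] (ℬ : ℕ → Submodule R B) [GradedAlgebra ℬ]
    (φ : B →ₐ[R] Polynomial A) (hφ : Function.Injective φ)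
    (hdeg : ∀ n : ℕ, Submodule.map φ.toLinearMap (ℬ n) =
      Submodule.map ((Polynomial.monomial n : A →ₗ[A] Polynomial A).restrictScalars R) (⨆ (m : ℕ) (_ : n ≤ m), 𝒜 m))
    {ι : Type u} (d : ι → ℕ) (hd : ∀ a, 0 < d a) (f : ι → A) (hf : ∀ a, f a ∈ 𝒜 (d a))
    (hrad : ∀ g ∈ (HomogeneousIdeal.irrelevant 𝒜).toIdeal, ∃ n : ℕ, 0 < n ∧ g ^ n ∈ Ideal.span (Set.range f))
    (fn : ι → B) (hfn : ∀ a, φ (fn a) = Polynomial.monomial (d a) (f a)) :
    ∀ g ∈ (HomogeneousIdeal.irrelevant ℬ).toIdeal, ∃ n : ℕ, 0 < n ∧ g ^ n ∈ Ideal.span (Set.range fn) := by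
  intro g hg
  obtain ⟨n, hn⟩ := Groth.Agent.Proj16.natural_radical 𝒜 ℬ φ hφ hdeg d f hf hrad fn hfn hg
  exact ⟨n + 1, n.succ_pos, by rw [pow_succ]; exact Ideal.mul_mem_right _ _ hn⟩

end Groth.Agent.S8312
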