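import Groth.Statements.S8320
import Groth.Agent.Contract17.Normal
import Groth.Agent.Contract17.OfContraction
import Groth.Agent.Proj16.NormalExt

set_option backward.isDefEq.respectTransparency false
set_option backward.isDefEq.respectTransparency.types false
set_option linter.style.haveILetI false

set_option autoImplicit false
universe u
open CategoryTheory CategoryTheory.Limits AlgebraicGeometry Opposite TopologicalSpace
open scoped HomogeneousIdeal
noncomputable section
open EGA2

namespace Groth.Agent.S8320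

/-- Let p : X → Y be a proper morphism with p^♯ : O_Y → p_*O_X an isomorphism, L an invertible
O_X-module ample relative to p, V = V(L) = Spec(Sym L) with projection π and zero section j0 (the
vertex section), C a scheme over Y (structure morphism g) with a section ε and a Y-morphism q : V →
C with j0 ≫ q = p ≫ ε; let C' = Spec(𝒮') with 𝒮' = ⊕_{n≥0} p_*(L^{⊗n}) = (p∘π)_*O_V (the relative
spectrum over Y of the direct-image algebra of p∘π) and q' : V → C' the canonical Y-morphism (the
one corresponding to the identity of (p∘π)_*O_V under the universal property of the relative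
spectrum); suppose moreover that X is integral, that C is normal (all its local rings are integrally
closed domains), that q is proper and that the restriction of q to V0 = V − j0(X) is an open
immersion with image exactly C − ε(Y). Then every morphism u : C' → C over Y with q = q' ≫ u is an
isomorphism. (The published statement assumes only the commutativity j0 ≫ q = p ≫ ε; this row also
assumes q proper and q restricted to V − j0(X) an open immersion onto C − ε(Y), without which the
conclusion fails: for C = Y, ε the identity and q the structure morphism of V, the morphism u is the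
structure morphism C' → Y, which is not an isomorphism in general (X the projective line over a
field k, Y = C = Spec k, L of degree one: C' is the affine plane).) -/
theorem result {X Y C : Scheme.{u}} (p : X ⟶ Y) [IsProper p] (hθ : IsIso p.c)
    (L : X.Modules) (hL : PicF.IsInvertible L) (hLq : Coh.IsQCoh L) (hamp : RelAmple.IsRelAmple p L)
    (𝒜 : RelProj.QCGrAlg X) (jL : L ⟶ 𝒜.toModule) (hA : RelProj.IsGrSymAlg L 𝒜 jL) (h0 : RelCone.StrZeroBij 𝒜)
    (aug : 𝒜.toQCAlg ⟶ RelSpec.QCAlg.unit X) (haug : RelCone.IsAugmentation 𝒜 aug)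
    (j0 : X ⟶ 𝒜.toQCAlg.spec) (hj0 : RelCone.IsVertex 𝒜 aug j0)
    (g : C ⟶ Y) (ε : Y ⟶ C) (hε : ε ≫ g = 𝟙 Y) (q : 𝒜.toQCAlg.spec ⟶ C)
    (hqg : q ≫ g = 𝒜.toQCAlg.π ≫ p) (hjq : j0 ≫ q = p ≫ ε)
    (q' : 𝒜.toQCAlg.spec ⟶ (RelSpec.QCAlg.directImage (𝒜.toQCAlg.π ≫ p)).spec)
    (hq'π : q' ≫ (RelSpec.QCAlg.directImage (𝒜.toQCAlg.π ≫ p)).π = 𝒜.toQCAlg.π ≫ p)
    (hq' : AffAlg.algHom (RelSpec.QCAlg.directImage (𝒜.toQCAlg.π ≫ p)).π (𝒜.toQCAlg.π ≫ p) q' hq'π = (RelSpec.QCAlg.directImage (𝒜.toQCAlg.π ≫ p)).gammaMap)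
    [IsIntegral X] (hC : Pi1.IsNormalScheme C)
    [IsProper q] (V0 : 𝒜.toQCAlg.spec.Opens) (hV0 : (V0 : Set 𝒜.toQCAlg.spec) = (Set.range j0.base)ᶜ)
    (hqo : IsOpenImmersion (V0.ι ≫ q)) (hqr : Set.range (V0.ι ≫ q).base = (Set.range ε.base)ᶜ)
    (u : (RelSpec.QCAlg.directImage (𝒜.toQCAlg.π ≫ p)).spec ⟶ C) (hug : u ≫ g = (RelSpec.QCAlg.directImage (𝒜.toQCAlg.π ≫ p)).π) (hu : q' ≫ u = q) :
    IsIso u := by
  obtain ⟨ε', hε', hjq', hoi, hp', hr', himage, hs', hc'⟩ :=
    Groth.Agent.Contract17.exists_stein hL hLq hamp hA haug hj0 hV0 hθ hq'π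
      (Groth.Agent.Contract17.bijective_canonical _ q' hq'π hq')
  haveI := hoi
  haveI := hc'
  haveI := hp'
  haveI := hqo
  haveI : Surjective q' := ⟨hs'⟩
  haveI : UniversallyClosed (q' ≫ u) := by rw [hu]; infer_instance
  haveI : UniversallyClosed u := UniversallyClosed.of_comp_surjective q' u
  have hsu := Groth.Agent.Contract17.surjective_of_contraction (V0 := V0) hjq hu hqr hθ
  haveI := Groth.Agent.Contract17.universallyInjective_factor (V0 := V0) hε hjq hε' hjq' hr' hu hqr hθ
  have hemb : Topology.IsClosedEmbedding u :=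
    Topology.IsClosedEmbedding.of_continuous_injective_isClosedMap u.continuous u.injective u.isClosedMap
  haveI : IsAffineHom u := isAffineHom_of_isInducing u hemb.isInducing hemb.isClosed_range
  haveI : IsIntegralHom u := IsIntegralHom.iff_universallyClosed_and_isAffineHom.2 ⟨inferInstance, inferInstance⟩
  haveI := Groth.Agent.Contract17.isIntegral_spec hL hLq hA.1
  haveI : IsIntegral (RelSpec.QCAlg.directImage (𝒜.toQCAlg.π ≫ p)).spec :=
    Groth.Agent.Contract17.isIntegral_of_isIso_c hc'
  haveI : IrreducibleSpace C :=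
  { toPreirreducibleSpace := ⟨by
      have h1 : IsPreirreducible (Set.univ : Set (RelSpec.QCAlg.directImage (𝒜.toQCAlg.π ≫ p)).spec) :=
        PreirreducibleSpace.isPreirreducible_univ
      have h2 := h1.image u u.continuous.continuousOn
      rwa [Set.image_univ, Set.range_eq_univ.2 hsu] at h2⟩
    toNonempty := ⟨u (genericPoint _)⟩ }
  haveI : ∀ c : C, _root_.IsReduced (C.presheaf.stalk c) := fun c => by
    haveI := (hC c).1
    infer_instance
  haveI : AlgebraicGeometry.IsReduced C := isReduced_of_isReduced_stalk C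
  haveI : IsIntegral C := isIntegral_of_irreducibleSpace_of_isReduced C
  obtain ⟨x⟩ : Nonempty X := inferInstance
  obtain ⟨W₁, hW₁, hxW₁, -, s₁, hs₁⟩ :=
    Groth.Agent.QRel17.exists_affine_frame hL (show x ∈ (⊤ : X.Opens) from trivial)
  obtain ⟨𝔭, -⟩ := hW₁.range_fromSpec.ge hxW₁
  obtain ⟨hv₀, -⟩ := Groth.Agent.Contract17.fnbhd_genPt hLq hA haug hj0 hV0 hW₁ hs₁ 𝔭
  let W : (RelSpec.QCAlg.directImage (𝒜.toQCAlg.π ≫ p)).spec.Opens :=
    (V0.ι ≫ q').opensRange
  obtain ⟨hoW, hrW⟩ := Groth.Agent.Contract17.factor_restrict_spec (V0 := V0) hr' hu hqr (W := W) hr'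
  haveI := hoW
  have hη : genericPoint C ∈ (W.ι ≫ u).opensRange :=
    ((genericPoint_spec C).mem_open_set_iff (W.ι ≫ u).opensRange.2).2
      ⟨(W.ι ≫ u) ⟨(V0.ι ≫ q') ⟨_, hv₀⟩, ⟨_, rfl⟩⟩, trivial, ⟨_, rfl⟩⟩
  have hrange : Set.range (C.fromSpecStalk (genericPoint C)) ⊆ Set.range (W.ι ≫ u) := by
    rw [Scheme.range_fromSpecStalk]
    exact fun y hy => Specializes.mem_open hy (W.ι ≫ u).opensRange.2 hη
  exact Groth.Agent.Proj16.isIso_of_isIntegralHom hC u
    (IsOpenImmersion.lift (W.ι ≫ u) (C.fromSpecStalk (genericPoint C)) hrange ≫ W.ι)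
    (by rw [Category.assoc, IsOpenImmersion.lift_fac])

end Groth.Agent.S8320
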