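import Groth.Statements.S8323
import Groth.Agent.RelTildeX.Glue

set_option autoImplicit false
universe u
open CategoryTheory CategoryTheory.Limits AlgebraicGeometry Opposite TopologicalSpace
open scoped HomogeneousIdeal
noncomputable section
open EGA2

namespace Groth.Agent.S8323

/-- Two O_P-modules on P = Proj(𝒮), each identified chartwise with the modules (ℳ(U)(n))~ on the Proj
𝒮(U) (bijectively on sections, compatibly along restrictions to basic opens), are related by exactly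
one O_P-module map commuting with the identifications, and that map is an isomorphism. -/
theorem result {Y P : Scheme.{u}} (𝒮 : RelProj.QCGrAlg Y) (p : P ⟶ Y)
    (chart : ∀ (U : Y.Opens) (hU : IsAffineOpen U), (((p ⁻¹ᵁ U : P.Opens) : Scheme.{u}) ≅ Proj (𝒮.deg U hU)))
    (hP : RelProj.IsRelProj 𝒮 p chart) (ℳ : RelProj.GrModule 𝒮)
    (hℳ : Coh.IsQCoh ((AMod.toOS 𝒮.toQCAlg).obj ℳ.mod)) (n : ℤ) (F : P.Modules)
    (lam : ∀ (U : Y.Opens) (hU : IsAffineOpen U),
      F ⟶ (Scheme.Modules.pushforward (RelProj.emb p chart U hU)).obj (GrMod.tilde (𝒮.deg U hU) (ℳ.deg U hU) n))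
    (hF : RelProj.IsRelTilde 𝒮 p chart ℳ n F lam) (F' : P.Modules)
    (lam' : ∀ (U : Y.Opens) (hU : IsAffineOpen U),
      F' ⟶ (Scheme.Modules.pushforward (RelProj.emb p chart U hU)).obj (GrMod.tilde (𝒮.deg U hU) (ℳ.deg U hU) n))
    (hF' : RelProj.IsRelTilde 𝒮 p chart ℳ n F' lam') :
    (∃! φ : F ⟶ F', ∀ (U : Y.Opens) (hU : IsAffineOpen U), φ ≫ lam' U hU = lam U hU) ∧
      ∀ φ : F ⟶ F', (∀ (U : Y.Opens) (hU : IsAffineOpen U), φ ≫ lam' U hU = lam U hU) → IsIso φ := by
  have hid : ∀ {M : P.Modules} (U : Y.Opens) (hU : IsAffineOpen U)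
      (l : M ⟶ (Scheme.Modules.pushforward (RelProj.emb p chart U hU)).obj
        (GrMod.tilde (𝒮.deg U hU) (ℳ.deg U hU) n)),
      l ≫ (Scheme.Modules.pushforward (RelProj.emb p chart U hU)).map (𝟙 _) = l := fun U hU l => by
    rw [CategoryTheory.Functor.map_id, Category.comp_id]
  have h1 : ∃! φ : F ⟶ F', ∀ (U : Y.Opens) (hU : IsAffineOpen U), φ ≫ lam' U hU = lam U hU := by
    simpa only [hid] using RelTildeX.existsUnique_hom hP hF hF' RelTildeX.isPointwise_id
  have h2 : ∃! φ : F' ⟶ F, ∀ (U : Y.Opens) (hU : IsAffineOpen U), φ ≫ lam U hU = lam' U hU := by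
    simpa only [hid] using RelTildeX.existsUnique_hom hP hF' hF RelTildeX.isPointwise_id
  have h3 : ∃! φ : F ⟶ F, ∀ (U : Y.Opens) (hU : IsAffineOpen U), φ ≫ lam U hU = lam U hU := by
    simpa only [hid] using RelTildeX.existsUnique_hom hP hF hF RelTildeX.isPointwise_id
  have h4 : ∃! φ : F' ⟶ F', ∀ (U : Y.Opens) (hU : IsAffineOpen U), φ ≫ lam' U hU = lam' U hU := by
    simpa only [hid] using RelTildeX.existsUnique_hom hP hF' hF' RelTildeX.isPointwise_id
  refine ⟨h1, fun φ hφ => ?_⟩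
  obtain ⟨ψ, hψ, -⟩ := h2
  exact ⟨ψ, h3.unique (fun U hU => by rw [Category.assoc, hψ, hφ]) (fun U hU => Category.id_comp _),
    h4.unique (fun U hU => by rw [Category.assoc, hφ, hψ]) (fun U hU => Category.id_comp _)⟩

end Groth.Agent.S8323
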