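import Groth.Statements.S8333
import Groth.Agent.RelProjAmple16.Twist
import Groth.Agent.SheafHomX.Basic
import Groth.Agent.RelVA16.FTMain
-- import your own Groth.Agent.* helpers here

set_option autoImplicit false
set_option backward.isDefEq.respectTransparency false
set_option backward.isDefEq.respectTransparency.types false
set_option linter.style.haveILetI false
universe u
open CategoryTheory CategoryTheory.Limits AlgebraicGeometry Opposite TopologicalSpace
open scoped HomogeneousIdeal
noncomputable section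
open EGA2

namespace Groth.Agent.S8333
open Groth.Agent
open Groth.Agent.H23.PicMul

/-- Let Y be a scheme with quasi-compact underlying space, 𝒮 a quasi-coherent positively graded
O_Y-algebra generated by 𝒮_1 with 𝒮_1 of finite type, p : P = Proj(𝒮) → Y, and F a quasi-coherent
O_P-module of finite type. Then there is n₀ such that for all n ≥ n₀ the canonical morphism
p^*(p_*(F(n))) → F(n) is an epimorphism, where F(n) = F ⊗ O_P(n) with O_P(n) given through its
chartwise identifications. -/
theorem result {Y P : Scheme.{u}} (𝒮 : RelProj.QCGrAlg Y) (p : P ⟶ Y)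
    (chart : ∀ (U : Y.Opens) (hU : IsAffineOpen U), (((p ⁻¹ᵁ U : P.Opens) : Scheme.{u}) ≅ Proj (𝒮.deg U hU)))
    (hP : RelProj.IsRelProj 𝒮 p chart) [CompactSpace Y] (hgen : 𝒮.IsGenDegOne)
    (hft : 𝒮.IsFTDeg 1) (F : P.Modules) (hFq : Coh.IsQCoh F) (hFt : CohB1.IsFT F) :
    ∃ n₀ : ℤ, ∀ (n : ℤ), n₀ ≤ n → ∀ (L : P.Modules)
      (lam : ∀ (U : Y.Opens) (hU : IsAffineOpen U),
      L ⟶ (Scheme.Modules.pushforward (RelProj.emb p chart U hU)).obj (GrTwist.twist (𝒮.deg U hU) n)),
      RelProj.IsRelTwist 𝒮 p chart n L lam →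
        Epi ((Scheme.Modules.pullbackPushforwardAdjunction p).counit.app (CohB1.tensorMod F L)) := by
  haveI := RelProjAmple16.quasiCompact hgen hft chart
  haveI : CompactSpace P := QuasiCompact.compactSpace_of_compactSpace p
  obtain ⟨L₁, lam₁, hL₁⟩ := RelTildeX.Exists.exists_isRelTwist 𝒮 p chart hP 1
  obtain ⟨n₀, hn₀⟩ := RelProjAmple16.eventually_epi_counit p
    (RelProjAmple16.isRelAmple_twistOne hgen hft hL₁) hFq hFt
  refine ⟨(n₀ : ℤ), fun n hn L lam hL => ?_⟩
  obtain ⟨k, rfl⟩ : ∃ k : ℕ, n = (k : ℤ) := ⟨n.toNat, by omega⟩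
  haveI := hn₀ k (by exact_mod_cast hn)
  have hc : PicF.cl L = PicF.cl L₁ ^ k :=
    RelProjAmple16.isTw_natCast hP hgen ⟨L₁, lam₁, hL₁, rfl⟩ k _ ⟨L, lam, hL, rfl⟩
  obtain ⟨e⟩ := H23.PicMul.cl_eq_iff.1 (show PicF.cl (CohB1.tensorMod F (CohB1.tensorPow L₁ k)) =
      PicF.cl (CohB1.tensorMod F L) by rw [H23.PicMul.cl_tensor, H23.PicMul.cl_tensorPow, H23.PicMul.cl_tensor, hc])
  haveI h : Epi (((Scheme.Modules.pushforward p ⋙ Scheme.Modules.pullback p).map e.hom) ≫
      (Scheme.Modules.pullbackPushforwardAdjunction p).counit.app (CohB1.tensorMod F L)) := by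
    rw [(Scheme.Modules.pullbackPushforwardAdjunction p).counit.naturality e.hom]
    exact epi_comp _ _
  exact epi_of_epi ((Scheme.Modules.pushforward p ⋙ Scheme.Modules.pullback p).map e.hom) _

end Groth.Agent.S8333
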