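import Groth.Statements.S8334
import Groth.Agent.RelProjAmple16.Twist
import Groth.Agent.SheafHomX.Basic
import Groth.Agent.RelVA16.FTMain
-- import your own Groth.Agent.* helpers here

set_option autoImplicit false
set_option backward.isDefEq.respectTransparency false
set_option backward.isDefEq.respectTransparency.types false
set_option linter.style.haveILetI false
universe u
open CategoryTheory CategoryTheory.Limits AlgebraicGeometry Opposite TopologicalSpace
open scoped HomogeneousIdeal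
noncomputable section
open EGA2

namespace Groth.Agent.S8334
open Groth.Agent
open Groth.Agent.H23.PicMul

/-- Let Y be a quasi-compact separated scheme, or a scheme with Noetherian underlying space, 𝒮 a
quasi-coherent positively graded O_Y-algebra generated by 𝒮_1 with 𝒮_1 of finite type, p : P =
Proj(𝒮) → Y, and F a quasi-coherent O_P-module of finite type. Then there is n₀ such that for every
n ≥ n₀, F is a quotient of (p^*G)(−n) = p^*(G) ⊗ O_P(−n) for some quasi-coherent O_Y-module G of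
finite type (which may vary with n), O_P(−n) being given through its chartwise identifications. -/
theorem result {Y P : Scheme.{u}} (𝒮 : RelProj.QCGrAlg Y) (p : P ⟶ Y)
    (chart : ∀ (U : Y.Opens) (hU : IsAffineOpen U), (((p ⁻¹ᵁ U : P.Opens) : Scheme.{u}) ≅ Proj (𝒮.deg U hU)))
    (hP : RelProj.IsRelProj 𝒮 p chart)
    (hY : (CompactSpace Y ∧ Y.IsSeparated) ∨ NoetherianSpace Y) (hgen : 𝒮.IsGenDegOne)
    (hft : 𝒮.IsFTDeg 1) (F : P.Modules) (hFq : Coh.IsQCoh F) (hFt : CohB1.IsFT F) :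
    ∃ n₀ : ℤ, ∀ (n : ℤ), n₀ ≤ n → ∀ (L : P.Modules)
      (lam : ∀ (U : Y.Opens) (hU : IsAffineOpen U),
      L ⟶ (Scheme.Modules.pushforward (RelProj.emb p chart U hU)).obj (GrTwist.twist (𝒮.deg U hU) (-n))),
      RelProj.IsRelTwist 𝒮 p chart (-n) L lam →
        ∃ (G : Y.Modules) (π : CohB1.tensorMod ((Scheme.Modules.pullback p).obj G) L ⟶ F),
          Coh.IsQCoh G ∧ CohB1.IsFT G ∧ Epi π := by
  haveI := RelProjAmple16.quasiCompact hgen hft chart
  haveI : CompactSpace Y := by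
    rcases hY with ⟨h, -⟩ | h
    · exact h
    · infer_instance
  obtain ⟨L₁, lam₁, hL₁⟩ := RelTildeX.Exists.exists_isRelTwist 𝒮 p chart hP 1
  obtain ⟨m₀, hm₀⟩ := RelVA16.eventually_ft_epi_tensor (fun U hU => RelVA16.extStep_of_hYs hY U hU)
    (RelTildeX.isInvertible_twist hgen hL₁) (RelProjAmple16.isRelAmple_twistOne hgen hft hL₁) hFq hFt
  refine ⟨(m₀ : ℤ), fun n hn L lam hL => ?_⟩
  obtain ⟨k, rfl⟩ : ∃ k : ℕ, n = (k : ℤ) := ⟨n.toNat, by omega⟩
  obtain ⟨G, φ, hGq, hGft, hφ⟩ := hm₀ k (by exact_mod_cast hn)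
  obtain ⟨c, hck⟩ := RelProjAmple16.exists_isTw hP hgen (k : ℤ)
  have hc : PicF.cl L₁ ^ k * PicF.cl L = 1 := by
    rw [← RelProjAmple16.isTw_natCast hP hgen ⟨L₁, lam₁, hL₁, rfl⟩ k c hck]
    exact RelProjAmple16.isTw_neg_mul hP hgen hck ⟨L, lam, hL, rfl⟩
  obtain ⟨e⟩ := H23.PicMul.cl_eq_iff.1 (show PicF.cl (CohB1.tensorMod (CohB1.tensorMod F (CohB1.tensorPow L₁ k)) L) =
      PicF.cl F by rw [H23.PicMul.cl_tensor, H23.PicMul.cl_tensor, H23.PicMul.cl_tensorPow, mul_assoc, hc, mul_one])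
  haveI := (SheafHomX.ten L).preservesEpimorphisms_of_adjunction (SheafHomX.adj L)
  exact ⟨G, (SheafHomX.ten L).map φ ≫ e.hom, hGq, hGft, epi_comp _ _⟩

end Groth.Agent.S8334
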