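import Groth.Statements.S8335
import Groth.Agent.AdjunctBC16.Theta
-- import your own Groth.Agent.* helpers here

set_option autoImplicit false
set_option backward.isDefEq.respectTransparency false
set_option backward.isDefEq.respectTransparency.types false
set_option linter.style.haveILetI false
set_option maxHeartbeats 1000000
universe u
open CategoryTheory CategoryTheory.Limits AlgebraicGeometry Opposite TopologicalSpace
open scoped HomogeneousIdeal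
noncomputable section
open EGA2

namespace Groth.Agent.S8335
open Groth.Agent

/-- Let ψ : Y' → Y be a morphism, 𝒮 a quasi-coherent positively graded O_Y-algebra and 𝒮' = ψ^*𝒮
(presented through a graded ψ-morphism 𝒮 → ψ_*𝒮' with pushout squares over affine opens), X =
Proj(𝒮), X' = Proj(𝒮') = X ×_Y Y' with projection g : X' → X (chartwise induced by 𝒮(U) → 𝒮'(U')).
Then for every integer n the inverse image g^*(O_X(n)) is isomorphic to O_{X'}(n), both twisting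
sheaves being given through their chartwise identifications (existence of an isomorphism only; the
published identification O_{X'}(n) = O_X(n) ⊗_Y O_{Y'} is canonical). -/
theorem result {Y Y' P P' : Scheme.{u}} (ψ : Y' ⟶ Y) (𝒮 : RelProj.QCGrAlg Y)
    (𝒮' : RelProj.QCGrAlg Y') (u : 𝒮.presheaf ⟶ ψ.base _* 𝒮'.presheaf)
    (hu : 𝒮.str ≫ u = ψ.c ≫ (TopCat.Presheaf.pushforward CommRingCat.{u} ψ.base).map 𝒮'.str)
    (φ : ∀ (U : Y.Opens) (hU : IsAffineOpen U) (U' : Y'.Opens) (hU' : IsAffineOpen U') (_ : U' ≤ ψ ⁻¹ᵁ U),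
      𝒮.deg U hU →+*ᵍ 𝒮'.deg U' hU')
    (hφ : ∀ (U : Y.Opens) (hU : IsAffineOpen U) (U' : Y'.Opens) (hU' : IsAffineOpen U') (hle : U' ≤ ψ ⁻¹ᵁ U),
      (φ U hU U' hU' hle).toRingHom =
        ((u.app (op U) : 𝒮.presheaf.obj (op U) ⟶ 𝒮'.presheaf.obj (op (ψ ⁻¹ᵁ U))) ≫
          𝒮'.presheaf.map (homOfLE hle).op).hom)
    (hpo : ∀ (U : Y.Opens) (hU : IsAffineOpen U) (U' : Y'.Opens) (hU' : IsAffineOpen U') (hle : U' ≤ ψ ⁻¹ᵁ U),
      IsPushout (ψ.appLE U U' hle) (𝒮.str.app (op U)) (𝒮'.str.app (op U'))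
        ((u.app (op U) : 𝒮.presheaf.obj (op U) ⟶ 𝒮'.presheaf.obj (op (ψ ⁻¹ᵁ U))) ≫
          𝒮'.presheaf.map (homOfLE hle).op))
    (hirr : ∀ (U : Y.Opens) (hU : IsAffineOpen U) (U' : Y'.Opens) (hU' : IsAffineOpen U') (hle : U' ≤ ψ ⁻¹ᵁ U),
      (𝒮'.deg U' hU')₊ ≤ ((𝒮.deg U hU)₊).map (φ U hU U' hU' hle))
    (p : P ⟶ Y)
    (chart : ∀ (U : Y.Opens) (hU : IsAffineOpen U), (((p ⁻¹ᵁ U : P.Opens) : Scheme.{u}) ≅ Proj (𝒮.deg U hU)))
    (hP : RelProj.IsRelProj 𝒮 p chart) (p' : P' ⟶ Y')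
    (chart' : ∀ (U' : Y'.Opens) (hU' : IsAffineOpen U'), (((p' ⁻¹ᵁ U' : P'.Opens) : Scheme.{u}) ≅ Proj (𝒮'.deg U' hU')))
    (hP' : RelProj.IsRelProj 𝒮' p' chart') (g : P' ⟶ P)
    (hg : ∀ (U : Y.Opens) (hU : IsAffineOpen U) (U' : Y'.Opens) (hU' : IsAffineOpen U') (hle : U' ≤ ψ ⁻¹ᵁ U),
      (p' ⁻¹ᵁ U').ι ≫ g =
        (chart' U' hU').hom ≫ Proj.map (φ U hU U' hU' hle) (hirr U hU U' hU' hle) ≫ RelProj.emb p chart U hU)
    (n : ℤ) (L : P.Modules)
    (lam : ∀ (U : Y.Opens) (hU : IsAffineOpen U),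
      L ⟶ (Scheme.Modules.pushforward (RelProj.emb p chart U hU)).obj (GrTwist.twist (𝒮.deg U hU) n))
    (hL : RelProj.IsRelTwist 𝒮 p chart n L lam) (L' : P'.Modules)
    (lam' : ∀ (U' : Y'.Opens) (hU' : IsAffineOpen U'),
      L' ⟶ (Scheme.Modules.pushforward (RelProj.emb p' chart' U' hU')).obj (GrTwist.twist (𝒮'.deg U' hU') n))
    (hL' : RelProj.IsRelTwist 𝒮' p' chart' n L' lam') :
    Nonempty ((Scheme.Modules.pullback g).obj L ≅ L') := by
  classical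
  have hres : ∀ (U : Y.Opens) (hU : IsAffineOpen U) (D : Y.Opens) (hD : IsAffineOpen D) (i : D ≤ U)
      (U' : Y'.Opens) (hU' : IsAffineOpen U') (D' : Y'.Opens) (hD' : IsAffineOpen D') (i' : D' ≤ U')
      (hle : U' ≤ ψ ⁻¹ᵁ U) (hle' : D' ≤ ψ ⁻¹ᵁ D) (a : 𝒮.presheaf.obj (op U)),
      φ D hD D' hD' hle' (𝒮.res hU hD i a) = 𝒮'.res hU' hD' i' (φ U hU U' hU' hle a) := by
    intro U hU D hD i U' hU' D' hD' i' hle hle' a
    have h1 := congrArg (fun m => (ConcreteCategory.hom m) a) (u.naturality (homOfLE i).op)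
    have e1 : φ D hD D' hD' hle' (𝒮.res hU hD i a) =
        𝒮'.presheaf.map (homOfLE hle').op ((u.app (op D) : 𝒮.presheaf.obj (op D) ⟶ _) (𝒮.presheaf.map (homOfLE i).op a)) :=
      RingHom.congr_fun (hφ D hD D' hD' hle') _
    have e2 : φ U hU U' hU' hle a = 𝒮'.presheaf.map (homOfLE hle).op ((u.app (op U) : 𝒮.presheaf.obj (op U) ⟶ _) a) :=
      RingHom.congr_fun (hφ U hU U' hU' hle) a
    rw [e1, e2]
    show _ = 𝒮'.presheaf.map (homOfLE i').op _
    refine (congrArg _ h1).trans ?_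
    change (𝒮'.presheaf.map (homOfLE hle').op) ((𝒮'.presheaf.map ((Opens.map ψ.base).map (homOfLE i)).op) _) = _
    rw [← ConcreteCategory.comp_apply, ← 𝒮'.presheaf.map_comp, ← ConcreteCategory.comp_apply, ← 𝒮'.presheaf.map_comp]
    rfl
  have hcomm : ∀ (U : Y.Opens) (hU : IsAffineOpen U) (U' : Y'.Opens) (hU' : IsAffineOpen U') (hle : U' ≤ ψ ⁻¹ᵁ U),
      RelProj.emb p' chart' U' hU' ≫ g =
        Proj.map (φ U hU U' hU' hle) (hirr U hU U' hU' hle) ≫ RelProj.emb p chart U hU := fun U hU U' hU' hle => by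
    rw [RelProj.emb, Category.assoc, hg U hU U' hU' hle, Iso.inv_hom_id_assoc]
  refine AdjunctBC16.Theta.nonempty_pullback_iso (⟨hP, hP', hL, hL', hcomm, hres⟩ :
    AdjunctBC16.Theta.Data ψ φ hirr chart chart' g lam lam') fun U hU U' hU' hle d f hd hf => ?_
  letI : Algebra Γ(Y, U) (𝒮.presheaf.obj (op U)) := (𝒮.str.app (op U)).hom.toAlgebra
  letI : Algebra Γ(Y', U') (𝒮'.presheaf.obj (op U')) := (𝒮'.str.app (op U')).hom.toAlgebra
  letI : Algebra Γ(Y, U) Γ(Y', U') := (ψ.appLE U U' hle).hom.toAlgebra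
  letI : Algebra (𝒮.presheaf.obj (op U)) (𝒮'.presheaf.obj (op U')) := (φ U hU U' hU' hle).toRingHom.toAlgebra
  letI : Algebra Γ(Y, U) (𝒮'.presheaf.obj (op U')) :=
    ((φ U hU U' hU' hle).toRingHom.comp (𝒮.str.app (op U)).hom).toAlgebra
  have hι : ∀ r, φ U hU U' hU' hle (algebraMap Γ(Y, U) (𝒮.presheaf.obj (op U)) r) =
      algebraMap Γ(Y', U') (𝒮'.presheaf.obj (op U')) ((ψ.appLE U U' hle).hom r) := fun r =>
    (RingHom.congr_fun (hφ U hU U' hU' hle) _).trans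
      (congrArg (fun m => (ConcreteCategory.hom m) r) (hpo U hU U' hU' hle).w).symm
  haveI : IsScalarTower Γ(Y, U) Γ(Y', U') (𝒮'.presheaf.obj (op U')) := IsScalarTower.of_algebraMap_eq hι
  haveI : IsScalarTower Γ(Y, U) (𝒮.presheaf.obj (op U)) (𝒮'.presheaf.obj (op U')) :=
    IsScalarTower.of_algebraMap_eq' rfl
  haveI hp : Algebra.IsPushout Γ(Y, U) Γ(Y', U') (𝒮.presheaf.obj (op U)) (𝒮'.presheaf.obj (op U')) := by
    refine CommRingCat.isPushout_iff_isPushout.1 ?_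
    have h := hpo U hU U' hU' hle
    rw [show ((u.app (op U) : 𝒮.presheaf.obj (op U) ⟶ 𝒮'.presheaf.obj (op (ψ ⁻¹ᵁ U))) ≫
        𝒮'.presheaf.map (homOfLE hle).op) = CommRingCat.ofHom (φ U hU U' hU' hle).toRingHom from
      CommRingCat.hom_ext (hφ U hU U' hU' hle).symm] at h
    exact h
  have h : IsBaseChange Γ(Y', U')
      (IsScalarTower.toAlgHom Γ(Y, U) (𝒮.presheaf.obj (op U)) (𝒮'.presheaf.obj (op U'))).toLinearMap :=
    Algebra.IsPushout.out
  have hbc : AdjunctBC16.IsBC (ψ.appLE U U' hle).hom (φ U hU U' hU' hle).toRingHom.toAddMonoidHom := by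
    intro Q _ _ w hw
    letI : Module Γ(Y, U) Q := Module.compHom Q (ψ.appLE U U' hle).hom
    haveI : IsScalarTower Γ(Y, U) Γ(Y', U') Q := ⟨fun r s x => mul_smul ((ψ.appLE U U' hle).hom r) s x⟩
    let gw : 𝒮.presheaf.obj (op U) →ₗ[Γ(Y, U)] Q := { toFun := w, map_add' := w.map_add, map_smul' := hw }
    exact ⟨h.lift gw, h.lift_eq gw, fun L hL => h.algHom_ext _ _ fun b => (hL b).trans (h.lift_eq gw b).symm⟩
  exact AdjunctBC16.isBC_twistComap (φ U hU U' hU' hle) (hirr U hU U' hU' hle) (ψ.appLE U U' hle).hom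
    (fun r => 𝒮.str_mem U hU r) (fun r => 𝒮'.str_mem U' hU' r) hι hbc hf hd

end Groth.Agent.S8335
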