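import Groth.Statements.S8342
import Groth.Agent.RelVA16.TwistFrameD
-- import your own Groth.Agent.* helpers here

set_option autoImplicit false
set_option backward.isDefEq.respectTransparency false
set_option backward.isDefEq.respectTransparency.types false
universe u
open CategoryTheory CategoryTheory.Limits AlgebraicGeometry Opposite TopologicalSpace
open scoped HomogeneousIdeal
noncomputable section
open EGA2

namespace Groth.Agent.S8342
open Groth.Agent

/-- Let 𝒮 be a quasi-coherent positively graded O_Y-algebra generated by 𝒮_1, P = Proj(𝒮), and f a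
global section of 𝒮 of degree d > 0. Then the open X_f (chartwise D_+(f|U)) is the set of points of
P where the global section α_d(f) of the invertible module O_P(d) does not vanish — here: X_f equals
the largest open over which the module map O_P → O_P(d) defined by α_d(f) is an isomorphism; O_P(d)
is given through its chartwise identifications and α_d(f) is pinned as the section reading f|U / 1
on every chart. -/
theorem result {Y P : Scheme.{u}} (𝒮 : RelProj.QCGrAlg Y) (p : P ⟶ Y)
    (chart : ∀ (U : Y.Opens) (hU : IsAffineOpen U), (((p ⁻¹ᵁ U : P.Opens) : Scheme.{u}) ≅ Proj (𝒮.deg U hU)))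
    (hP : RelProj.IsRelProj 𝒮 p chart) (hgen : 𝒮.IsGenDegOne) {d : ℕ} (hd : 0 < d)
    (f : 𝒮.presheaf.obj (op ⊤))
    (hf : ∀ (U : Y.Opens) (hU : IsAffineOpen U), (𝒮.presheaf.map (homOfLE le_top).op).hom f ∈ 𝒮.deg U hU d)
    (Xf : P.Opens)
    (hXf : ∀ (U : Y.Opens) (hU : IsAffineOpen U),
      Xf ⊓ p ⁻¹ᵁ U =
        (p ⁻¹ᵁ U).ι ''ᵁ ((chart U hU).hom ⁻¹ᵁ
          Proj.basicOpen (𝒮.deg U hU) ((𝒮.presheaf.map (homOfLE le_top).op).hom f)))
    (L : P.Modules)
    (lam : ∀ (U : Y.Opens) (hU : IsAffineOpen U),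
      L ⟶ (Scheme.Modules.pushforward (RelProj.emb p chart U hU)).obj (GrTwist.twist (𝒮.deg U hU) (d : ℤ)))
    (hL : RelProj.IsRelTwist 𝒮 p chart (d : ℤ) L lam) (s : Coh.structureModule P ⟶ L)
    (hs : ∀ (U : Y.Opens) (hU : IsAffineOpen U) (y : Proj (𝒮.deg U hU)),
      GrTwist.val (V := RelProj.emb p chart U hU ⁻¹ᵁ ⊤)
        ((lam U hU).app ⊤ (s.app ⊤ (show Γ(Coh.structureModule P, ⊤) from (1 : Γ(P, ⊤))))) ⟨y, Set.mem_univ _⟩ =
        Localization.mk ((𝒮.presheaf.map (homOfLE le_top).op).hom f) 1) :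
    Xf = CohB1.genLocus L s := by
  obtain ⟨e, he, hes⟩ := RelVA16.exists_frame_Xf (k := (1 : ℤ)) hL (one_mul (d : ℤ)).symm hP f hf Xf hXf
  have hD : ∀ (U : Y.Opens) (hU : IsAffineOpen U),
      RelVA16.dO p chart hU ((𝒮.presheaf.map (homOfLE le_top).op).hom f) = Xf ⊓ p ⁻¹ᵁ U := fun U hU => by
    rw [hXf U hU, RelVA16.dO_eq]
  have hs' : ∀ (U : Y.Opens) (hU : IsAffineOpen U) (W : P.Opens) (y : ↥(RelProj.emb p chart U hU ⁻¹ᵁ W)),
      GrTwist.val (V := RelProj.emb p chart U hU ⁻¹ᵁ W)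
        ((lam U hU).app W (AModX.res L (le_top : W ≤ ⊤) (InvX.one s))) y =
        Localization.mk ((𝒮.presheaf.map (homOfLE le_top).op).hom f) 1 := fun U hU W y => by
    rw [AModX.app_res]
    exact hs U hU y.1
  refine le_antisymm (fun x hx => ?_) (fun x hx => ?_)
  · obtain ⟨U, hU, hxU, -⟩ := exists_isAffineOpen_mem_and_subset (x := p x) (U := ⊤) trivial
    have hxD := (hD U hU).ge ⟨hx, hxU⟩
    refine InvX.le_genLocus s ?_ hxD
    have h := RelVA16.isFrame_sectD (k := (1 : ℤ)) hL (one_mul (d : ℤ)).symm hU (hf U hU)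
    convert h using 1
    refine RelVA16.eq_of_val hL hU (RelVA16.dO_le hU _) _ _ fun y => ?_
    rw [← AModX.res_self (RelVA16.sectD (k := (1 : ℤ)) hL (one_mul (d : ℤ)).symm hU (hf U hU))]
    rw [hs' U hU _ y, RelVA16.val_sectD hL _ hU (hf U hU) le_rfl y]
    exact congr_arg₂ Localization.mk (pow_one _).symm (Subtype.ext (pow_zero _).symm)
  · obtain ⟨U, hU, hxU, -⟩ := exists_isAffineOpen_mem_and_subset (x := p x) (U := ⊤) trivial
    obtain ⟨z, rfl⟩ : x ∈ (RelProj.emb p chart U hU).opensRange := by rw [RelTildeX.opensRange_emb]; exact hxU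
    obtain ⟨g, hg, hgz⟩ : ∃ g ∈ 𝒮.deg U hU 1, g ∉ z.asHomogeneousIdeal := by
      by_contra! hall
      exact z.not_irrelevant_le (show ((𝒮.deg U hU)₊).toIdeal ≤ z.asHomogeneousIdeal.toIdeal from
        RelTildeX.irrelevant_eq_span_deg_one hgen U hU ▸ Ideal.span_le.mpr hall)
    have hgd : g ^ d ∈ 𝒮.deg U hU d := by simpa using SetLike.pow_mem_graded d hg
    have hgdz : g ^ d ∉ z.asHomogeneousIdeal := GrTwistX.notMem_pow hgz _
    let E := RelVA16.dO p chart hU (g ^ d)
    have hF := RelVA16.isFrame_sectD (k := (1 : ℤ)) hL (one_mul (d : ℤ)).symm hU hgd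
    obtain ⟨c, hc⟩ := hF.exists_coord le_rfl (AModX.res L (le_top : E ≤ ⊤) (InvX.one s))
    rw [AModX.res_self] at hc
    have hxc : RelProj.emb p chart U hU z ∈ P.basicOpen c :=
      (InvX.genLocus_inf s hF hc).le ⟨hx, RelVA16.emb_mem_dO hU hgdz⟩
    refine ((hD U hU).le (RelVA16.emb_mem_dO hU fun hfz => ?_)).1
    let W := P.basicOpen c
    have hWE : W ≤ E := P.basicOpen_le c
    obtain ⟨c', hc'⟩ := (AlgebraicGeometry.RingedSpace.isUnit_res_basicOpen P.toRingedSpace c).exists_right_inv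
    let y : ↥(RelProj.emb p chart U hU ⁻¹ᵁ W) := ⟨z, hxc⟩
    have h1 : AModX.res L (le_top : W ≤ ⊤) (InvX.one s) =
        AModX.resR hWE c • AModX.res L hWE (RelVA16.sectD (k := (1 : ℤ)) hL (one_mul (d : ℤ)).symm hU hgd) := by
      rw [← AModX.res_smul, ← hc, AModX.res_res]
    have h2 := hs' U hU W y
    rw [h1, RelVA16.val_smul (lam := lam) hU, RelVA16.val_sectD hL _ hU hgd hWE y] at h2
    obtain ⟨⟨i, ⟨a, ha⟩, ⟨b, hb⟩, hbz⟩, hab⟩ := HomogeneousLocalization.mk_surjective
      (((RelProj.emb p chart U hU).app W (AModX.resR hWE c)).1 y)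
    have hunit : IsUnit (((RelProj.emb p chart U hU).app W (AModX.resR hWE c)).1 y) := by
      refine IsUnit.of_mul_eq_one (((RelProj.emb p chart U hU).app W c').1 y) ?_
      have := congrArg (fun t => (((RelProj.emb p chart U hU).app W).hom t).1 y) hc'
      simp only [map_mul, map_one] at this
      exact this
    rw [← hab] at h2 hunit
    have haz : a ∉ z.asHomogeneousIdeal := fun haz => by
      rw [← HomogeneousLocalization.isUnit_iff_isUnit_val, HomogeneousLocalization.val_mk] at hunit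
      exact ((IsLocalization.AtPrime.isUnit_to_map_iff _ z.asHomogeneousIdeal.toIdeal a).1
        (isUnit_of_mul_isUnit_left (y := Localization.mk 1 ⟨b, hbz⟩) (by
          rwa [← Localization.mk_one_eq_algebraMap, Localization.mk_mul, mul_one, one_mul]))) haz
    rw [HomogeneousLocalization.val_mk, RelVA16.frVal, Localization.mk_mul, Localization.mk_eq_mk_iff,
      Localization.r_iff_exists] at h2
    obtain ⟨⟨u, hu⟩, h3⟩ := h2
    simp only [Int.toNat_one, pow_one, Submonoid.coe_mul, OneMemClass.coe_one, one_mul, mul_one] at h3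
    have h4 : u * (a * g ^ d) ∈ z.asHomogeneousIdeal.toIdeal := by
      rw [h3]
      exact Ideal.mul_mem_left _ _ (Ideal.mul_mem_left _ _ hfz)
    exact (z.isPrime.mem_or_mem h4).elim hu fun h => (z.isPrime.mem_or_mem h).elim haz hgdz

end Groth.Agent.S8342
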