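import Groth.Statements.S8346
import Groth.Agent.SpecLib.Constr

set_option autoImplicit false
set_option backward.isDefEq.respectTransparency false
set_option backward.isDefEq.respectTransparency.types false
universe u
open ConstrTop

namespace Groth.Agent.S8346

open TopologicalSpace in
/-- Let X be a topological space admitting a basis of open subsets which are retrocompact in X. Then
every locally constructible subset T of X is retrocompact in X. -/
theorem result {X : Type u} [TopologicalSpace X]
    {B : Set (Set X)} (hB : IsTopologicalBasis B) (hBr : ∀ U ∈ B, IsRetrocompact U) {T : Set X}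
    (hT : Topology.IsLocallyConstructible T) : IsRetrocompact T := by
  intro W hW hW'
  have : ∀ x ∈ W, ∃ b : Set X, IsOpen b ∧ x ∈ b ∧ IsCompact (T ∩ (b ∩ W)) := fun x hx => by
    obtain ⟨U, hU, hUo, hUc⟩ := hT x
    obtain ⟨b, hb, hxb, hbU⟩ := hB.exists_subset_of_mem_open (mem_of_mem_nhds hU) hUo
    refine ⟨b, hB.isOpen hb, hxb, ?_⟩
    have hc : IsCompact (Subtype.val ⁻¹' (b ∩ W) : Set U) := by
      rw [Topology.IsEmbedding.subtypeVal.isCompact_iff, Subtype.image_preimage_coe,
        Set.inter_eq_right.2 (Set.inter_subset_left.trans hbU)]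
      exact hBr b hb hW hW'
    have := (SpecLib.isRetrocompact_of_isConstructible hUc hc
      (((hB.isOpen hb).inter hW').preimage continuous_subtype_val)).image continuous_subtype_val
    convert this using 1
    ext z
    simp only [Set.mem_image, Set.mem_inter_iff, Set.mem_preimage]
    exact ⟨fun h => ⟨⟨z, hbU h.2.1⟩, h, rfl⟩, by rintro ⟨y, h, rfl⟩; exact h⟩
  choose! b hb hxb hc using this
  obtain ⟨t, ht, htf, hcov⟩ := hW.elim_finite_subcover_image hb (fun x hx => Set.mem_biUnion hx (hxb x hx))
  have e : T ∩ W = ⋃ x ∈ t, T ∩ (b x ∩ W) := by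
    ext z
    simp only [Set.mem_inter_iff, Set.mem_iUnion, exists_prop]
    exact ⟨fun h => by obtain ⟨x, hx, hz⟩ := Set.mem_iUnion₂.1 (hcov h.2); exact ⟨x, hx, h.1, hz, h.2⟩,
      fun ⟨_, _, h1, _, h3⟩ => ⟨h1, h3⟩⟩
  rw [e]
  exact htf.isCompact_biUnion fun x hx => hc x (ht hx)

end Groth.Agent.S8346
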