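import Groth.Statements.S8347
import Groth.Agent.H9Misc.SSBasic

set_option autoImplicit false
universe v u
open CategoryTheory CategoryTheory.Limits
open SpSeq

namespace Groth.Agent.S8347

/-- Let E be a spectral sequence in an abelian category with abutment data (H^m), and suppose that for
some page r and every total degree m there is an integer q(m) such that E_r^{m-q,q} = 0 for every q
other than q(m). Let n be a total degree such that the filtration of H^n is discrete (some step is
zero) and exhaustive (H^n is the supremum of the steps), and such that the position (n - q(n), q(n))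
is stationary from page r on. Then H^n is isomorphic to E_r^{n-q(n), q(n)}. (The published statement
asserts this without any condition on the differentials at the surviving positions; that version
fails when a differential d_r links the surviving terms of two consecutive total degrees, for
instance a spectral sequence whose only nonzero page-2 terms are E_2^{0,1} and E_2^{2,0} with d_2 an
isomorphism between them and zero abutment. The stationarity assumed here is automatic when q(m)
does not depend on m and r ≥ 2.) -/
theorem result {C : Type u} [Category.{v} C] [Abelian C] {r₀ : ℤ}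
    (E : CohomologicalSpectralSequence C r₀) {H : ℤ → C} (a : SpSeq.Abutment E H)
    (r : ℤ) (hr : r₀ ≤ r) (q : ℤ → ℤ)
    (hdeg : ∀ m q' : ℤ, q' ≠ q m → IsZero ((E.page r hr).X (m - q', q')))
    (n : ℤ) (hdisc : (a.filObj n).IsDiscrete) (hexh : a.IsExhaustive n)
    (hst : SpSeq.StationaryAt E (n - q n, q n) r) :
    Nonempty (H n ≅ (E.page r hr).X (n - q n, q n)) := by
  open Groth.Agent.H9Misc.SSBasic in
  exact by
    have hz : ∀ p : ℤ, p ≠ n - q n → IsZero (SpSeq.grPiece (a.fil n) (a.anti n) p) := fun p hp => by
      obtain ⟨q', hn'⟩ : ∃ q', n = p + q' := ⟨n - p, by ring⟩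
      subst hn'
      have h0 := hdeg (p + q') q' (fun h => hp (by rw [← h]; ring))
      rw [show (p + q' - q', q') = (p, q') from by simp] at h0
      refine IsZero.of_iso ?_ (a.β (p, q')).symm
      obtain hle | hlt := le_or_gt r (a.rk (p, q'))
      · exact isZero_le E r _ hr hle _ h0
      · obtain ⟨e⟩ := nonempty_stationary_iso E (a.stat (p, q')) r hlt.le
        exact h0.of_iso e
    obtain ⟨b, hb⟩ := hdisc
    let p₀ := n - q n
    have hup : ∀ p, p₀ < p → a.fil n p = ⊥ := fun p hp => by
      rcases le_or_gt b p with h | h
      · exact le_bot_iff.1 (hb ▸ a.anti n h)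
      · rw [const_of_isZero_gr (a.fil n) (a.anti n) p b h.le fun x hx _ => hz x (by lia)]
        exact hb
    have htop : a.fil n p₀ = ⊤ := top_le_iff.1 (hexh.2 (by
      rintro _ ⟨p, rfl⟩
      rcases le_or_gt p p₀ with h | h
      · exact (const_of_isZero_gr (a.fil n) (a.anti n) p p₀ h fun x _ hx => hz x (by lia)).le
      · exact (hup p h).le.trans bot_le))
    have hbot : a.fil n (p₀ + 1) = ⊥ := hup _ (by lia)
    have key : Nonempty (SpSeq.grPiece (a.fil n) (a.anti n) p₀ ≅ H n) := by
      haveI : IsIso (a.fil n p₀).arrow := by rw [htop]; infer_instance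
      have h0 : (a.fil n (p₀ + 1)).ofLE (a.fil n p₀) (a.anti n (Int.le_add_one le_rfl)) = 0 := by
        rw [← cancel_mono (a.fil n p₀).arrow, zero_comp, Subobject.ofLE_arrow]
        rw [hbot, Subobject.bot_arrow]
      exact ⟨cokernelIsoOfEq h0 ≪≫ cokernelZeroIsoTarget ≪≫ asIso (a.fil n p₀).arrow⟩
    obtain ⟨e⟩ := key
    have hn : n - q n + q n = n := by ring
    obtain ⟨e'⟩ := nonempty_iso_of_stationary E hst (a.stat (n - q n, q n))
    have hm : ∀ m (hm : m = n), Nonempty (SpSeq.grPiece (a.fil m) (a.anti m) p₀ ≅
        SpSeq.grPiece (a.fil n) (a.anti n) p₀) := by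
      rintro m rfl
      exact ⟨Iso.refl _⟩
    have hβ : Nonempty ((E.page (a.rk (n - q n, q n)) (a.stat (n - q n, q n)).1).X (n - q n, q n) ≅
        SpSeq.grPiece (a.fil n) (a.anti n) p₀) :=
      (hm _ hn).map fun i => a.β (n - q n, q n) ≪≫ i
    exact ⟨(e'.trans (hβ.some.trans e)).symm⟩

end Groth.Agent.S8347
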