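import Groth.Statements.S8348
import Mathlib

set_option autoImplicit false
universe v u
open CategoryTheory CategoryTheory.Limits
open HomAlg3

namespace Groth.Agent.S8348

/-- Let C be an abelian category and Q a cochain complex of objects of C in degrees 0, 1, 2, ... such
that every Q^i is injective, every homology object H^i(Q) with i ≥ 1 is zero, and every inclusion of
the cycles Z^i(Q) into Q^i (i ≥ 0) is a split monomorphism. Then Q is an injective object of the
category of cochain complexes of C indexed by the natural numbers. (The published statement is for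
the narrower class of complexes with Z^i(Q) = B^i(Q) for every i ≥ 0, which in degree 0, where there
is no incoming differential, forces Z^0(Q) = 0; this row allows a nonzero Z^0(Q), so that it pairs
with the embedding of an arbitrary complex into such a Q. Such a Q is the direct sum of Z^0(Q)
placed in degree 0 and of the two-term complexes with Z^{i+1}(Q) in degrees i and i+1 and the
identity as differential, and the published argument carries over with Z^i(Q) in place of B^i(Q) as
the first summand of Q^i.) -/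
theorem result {C : Type u} [Category.{v} C] [Abelian C]
    (Q : CochainComplex C ℕ) (hinj : ∀ i : ℕ, Injective (Q.X i)) (hac : ∀ i : ℕ, IsZero (Q.homology (i + 1)))
    (hsplit : ∀ i : ℕ, IsSplitMono (Q.iCycles i)) : Injective Q := by
  let ρ := fun i => (hsplit i).exists_splitMono.some
  have hρ' : ∀ i, Q.iCycles i ≫ (ρ i).retraction = 𝟙 _ := fun i => (ρ i).id
  have hd : ∀ i, Q.toCycles i (i + 1) ≫ Q.iCycles (i + 1) = Q.d i (i + 1) := fun i => Q.toCycles_i i (i + 1)
  let r : ∀ i, Q.X i ⟶ Q.cycles i := fun i => (ρ i).retraction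
  have hir : ∀ i, Q.iCycles i ≫ r i = 𝟙 _ := hρ'
  have hz : ∀ i, Q.iCycles i ≫ Q.toCycles i (i + 1) = 0 := fun i => by
    rw [← cancel_mono (Q.iCycles (i + 1)), Category.assoc, hd, HomologicalComplex.iCycles_d, zero_comp]
  have hex : ∀ i, (ShortComplex.mk (Q.iCycles i) (Q.toCycles i (i + 1)) (hz i)).Exact := fun i => by
    refine (ShortComplex.exact_iff_exact_up_to_refinements _).2 fun W x hx => ?_
    have h : (show W ⟶ Q.X i from x) ≫ Q.d i (i + 1) = 0 := by
      rw [← hd, ← Category.assoc]
      exact (congrArg (· ≫ Q.iCycles (i + 1)) hx).trans zero_comp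
    exact ⟨W, 𝟙 W, inferInstance, Q.liftCycles x (i + 1) (by simp) h,
      (Category.id_comp x).trans (Q.liftCycles_i _ _ _ _).symm⟩
  have hepi : ∀ i, Epi (Q.toCycles i (i + 1)) := fun i =>
    ShortComplex.Exact.epi_f (S := ShortComplex.mk (Q.toCycles i (i + 1)) (Q.homologyπ (i + 1))
      (Q.toCycles_comp_homologyπ i (i + 1)))
      (ShortComplex.exact_of_g_is_cokernel _ (Q.homologyIsCokernel i (i + 1) (by simp))) ((hac i).eq_of_tgt _ _)
  let σ : ∀ i, (ShortComplex.mk (Q.iCycles i) (Q.toCycles i (i + 1)) (hz i)).Splitting := fun i =>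
    ShortComplex.Splitting.ofExactOfRetraction _ (hex i) (r i) (hir i) (hepi i)
  let s : ∀ i, Q.cycles (i + 1) ⟶ Q.X i := fun i => (σ i).s
  have hs : ∀ i, s i ≫ Q.toCycles i (i + 1) = 𝟙 _ := fun i => (σ i).s_g
  have hid : ∀ i, r i ≫ Q.iCycles i + Q.toCycles i (i + 1) ≫ s i = 𝟙 _ := fun i => (σ i).id
  haveI : ∀ i, Injective (Q.cycles i) := fun i =>
    haveI := hinj i
    Retract.injective ⟨Q.iCycles i, r i, hir i⟩
  refine ⟨fun {A B} g φ _ => ?_⟩
  haveI : ∀ i, Mono (φ.f i) := fun i => inferInstanceAs (Mono ((HomologicalComplex.eval C _ i).map φ))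
  let ψ : ∀ i, B.X i ⟶ Q.cycles i := fun i => Injective.factorThru (g.f i ≫ r i) (φ.f i)
  have hψ : ∀ i, φ.f i ≫ ψ i = g.f i ≫ r i := fun i => Injective.comp_factorThru _ _
  let β : B ⟶ Q :=
    { f := fun i => ψ i ≫ Q.iCycles i + B.d i (i + 1) ≫ ψ (i + 1) ≫ s i
      comm' := fun i j (h : i + 1 = j) => by
        subst h
        simp only [Preadditive.add_comp, Preadditive.comp_add, Category.assoc, HomologicalComplex.iCycles_d,
          HomologicalComplex.d_comp_d_assoc, comp_zero, zero_comp, zero_add, add_zero]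
        rw [← hd, reassoc_of% (hs i)] }
  refine ⟨β, ?_⟩
  ext i
  show φ.f i ≫ (ψ i ≫ Q.iCycles i + B.d i (i + 1) ≫ ψ (i + 1) ≫ s i) = g.f i
  have key : A.d i (i + 1) ≫ g.f (i + 1) ≫ r (i + 1) = g.f i ≫ Q.toCycles i (i + 1) := by
    rw [← g.comm_assoc, ← hd, Category.assoc, hir, Category.comp_id]
  rw [Preadditive.comp_add, reassoc_of% (hψ i), φ.comm_assoc, reassoc_of% (hψ (i + 1)), reassoc_of% key,
    ← Preadditive.comp_add, hid, Category.comp_id]

end Groth.Agent.S8348
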