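import Groth.Statements.S8349
import Mathlib

set_option autoImplicit false
universe v u
open CategoryTheory CategoryTheory.Limits
open HomAlg3

namespace Groth.Agent.S8349

/-- Let C be an abelian category in which every object embeds in an injective object, and let A be a
cochain complex of objects of C in degrees 0, 1, 2, .... Then there are a cochain complex Q, with
every Q^i injective, H^i(Q) = 0 for every i ≥ 1 and every cycle inclusion Z^i(Q) ⟶ Q^i (i ≥ 0) a
split monomorphism, and a monomorphism of complexes A ⟶ Q. (The published statement asks Z^i(Q) =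
B^i(Q) for every i ≥ 0; in degree 0, where there is no incoming differential, this makes Z^0(Q) = 0,
and then no complex with nonzero degree-0 cycles, for instance a nonzero object placed in degree 0,
embeds in such a Q, because the degree-0 component of a chain map into Q factors through Z^0(Q).
This row asks vanishing homology in positive degrees only; the published construction, which embeds
each A^i in an injective I^i and takes Q^i = I^i ⊕ I^{i+1}, proves that version once an injective
I^0 containing A^0 is used in degree 0 as well.) -/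
theorem result {C : Type u} [Category.{v} C] [Abelian C]
    [EnoughInjectives C] (A : CochainComplex C ℕ) :
    ∃ (Q : CochainComplex C ℕ) (f : A ⟶ Q), Mono f ∧ (∀ i : ℕ, Injective (Q.X i)) ∧
      (∀ i : ℕ, IsZero (Q.homology (i + 1))) ∧ ∀ i : ℕ, IsSplitMono (Q.iCycles i) := by
  let X : ℕ → C := fun i => Injective.under (A.X i) ⊞ Injective.under (A.X (i + 1))
  let d : ∀ i, X i ⟶ X (i + 1) := fun i => biprod.snd ≫ biprod.inl
  have hd : ∀ i, d i ≫ d (i + 1) = 0 := fun i => by simp [d]
  let Q : CochainComplex C ℕ := CochainComplex.of X d hd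
  let f : A ⟶ Q :=
    { f := fun i => biprod.lift (Injective.ι (A.X i)) (A.d i (i + 1) ≫ Injective.ι (A.X (i + 1)))
      comm' := fun i j (h : i + 1 = j) => by
        subst h
        simp only [Q, CochainComplex.of_d]
        refine biprod.hom_ext _ _ ?_ ?_ <;> simp [d, X] }
  have hsnd : ∀ i, Q.iCycles i ≫ (biprod.snd : X i ⟶ _) = 0 := fun i => by
    have h := Q.iCycles_d i (i + 1)
    simp only [Q, CochainComplex.of_d, d] at h
    rw [← cancel_mono (biprod.inl : Injective.under (A.X (i + 1)) ⟶ X (i + 1))]
    simpa [Category.assoc] using h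
  refine ⟨Q, f, ?_, fun i => (inferInstance : Injective (X i)), fun i => ?_, fun i => ?_⟩
  · haveI : ∀ i, Mono (f.f i) := fun i => by
      haveI : Mono (f.f i ≫ (biprod.fst : X i ⟶ _)) := by simp [f, X]; infer_instance
      exact mono_of_mono (f.f i) (biprod.fst : X i ⟶ _)
    exact HomologicalComplex.mono_of_mono_f f inferInstance
  · rw [← HomologicalComplex.exactAt_iff_isZero_homology, Q.exactAt_iff' i (i + 1) (i + 1 + 1) (by simp) (by simp)]
    refine (ShortComplex.exact_iff_of_iso (ShortComplex.isoMk (S₁ := HomologicalComplex.sc' Q i (i + 1) (i + 1 + 1)) (S₂ := ShortComplex.mk (d i) (d (i + 1)) (hd i))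
      (Iso.refl _) (Iso.refl _) (Iso.refl _) (by erw [Category.id_comp, Category.comp_id]; exact (CochainComplex.of_d X d i).symm) (by erw [Category.id_comp, Category.comp_id]; exact (CochainComplex.of_d X d (i + 1)).symm))).2 ?_
    rw [ShortComplex.exact_iff_exact_up_to_refinements]
    intro W (x : W ⟶ X (i + 1)) (hx : x ≫ d (i + 1) = 0)
    refine ⟨W, 𝟙 W, inferInstance, (x ≫ biprod.fst ≫ biprod.inr : W ⟶ X i), ?_⟩
    have hx' : x ≫ (biprod.snd : X (i + 1) ⟶ _) = 0 := by
      rw [← cancel_mono (biprod.inl : Injective.under (A.X (i + 1 + 1)) ⟶ X (i + 1 + 1))]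
      simpa [d, Category.assoc] using hx
    show 𝟙 W ≫ x = (x ≫ biprod.fst ≫ biprod.inr) ≫ d i
    refine biprod.hom_ext _ _ ?_ ?_
    · simp [d, X]
    · simpa [d, X] using hx'
  · refine ⟨⟨(biprod.fst : X i ⟶ _) ≫ Q.liftCycles (biprod.inl : _ ⟶ X i) (i + 1) (by simp) ?_, ?_⟩⟩
    · simp [Q, d, X]
    · rw [← cancel_mono (Q.iCycles i)]
      simp only [Category.assoc, HomologicalComplex.liftCycles_i, Category.id_comp]
      calc Q.iCycles i ≫ (biprod.fst : X i ⟶ _) ≫ biprod.inl
          = Q.iCycles i ≫ (biprod.fst ≫ biprod.inl + biprod.snd ≫ biprod.inr : X i ⟶ X i) := by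
            rw [Preadditive.comp_add, reassoc_of% (hsnd i), zero_comp, add_zero]
        _ = Q.iCycles i := by rw [biprod.total]; exact Category.comp_id _

end Groth.Agent.S8349
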