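import Groth.Statements.S8350
import Groth.Agent.H9Misc.HorseshoeEq

set_option autoImplicit false
universe v u
open CategoryTheory CategoryTheory.Limits
open HomAlg3

namespace Groth.Agent.S8350

/-- Let C be an abelian category in which every object embeds in an injective object, and let A be an
object of C with a finite decreasing filtration (F^i A). Then there are an injective resolution X of
A and a decreasing filtration of X by subcomplexes F^i X such that F^i X = X when F^i A = A, F^i X =
0 when F^i A = 0, and, for every i, F^i X is a complex of injective objects into which F^i A (placed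
in degree 0) maps, compatibly with the augmentation A ⟶ X, by a quasi-isomorphism; thus F^i X is an
injective resolution of F^i A. -/
theorem result {C : Type u} [Category.{v} C] [Abelian C] [EnoughInjectives C]
    (K : SpSeq.FilObj C) (hK : K.IsFinite) :
    ∃ (X : InjectiveResolution K.obj) (G : ℤ → Subobject X.cocomplex), Antitone G ∧
      (∀ i : ℤ, K.fil i = ⊤ → G i = ⊤) ∧ (∀ i : ℤ, K.fil i = ⊥ → G i = ⊥) ∧
      ∀ i : ℤ, (∀ j : ℕ, Injective ((G i : CochainComplex C ℕ).X j)) ∧
        ∃ ι : (CochainComplex.single₀ C).obj (K.step i) ⟶ (G i : CochainComplex C ℕ),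
          ι ≫ (G i).arrow = (CochainComplex.single₀ C).map (K.fil i).arrow ≫ X.ι ∧ QuasiIso ι := by
  by_cases hzero : IsZero K.obj
  · have hzX : IsZero ((CochainComplex.single₀ C).obj K.obj) := Functor.map_isZero _ hzero
    have hinjX : ∀ j, Injective (((CochainComplex.single₀ C).obj K.obj).X j) := fun j =>
      IsZero.injective (Functor.map_isZero (HomologicalComplex.eval C _ j) hzX)
    let X : InjectiveResolution K.obj :=
      { cocomplex := (CochainComplex.single₀ C).obj K.obj
        injective := hinjX
        ι := 𝟙 _ }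
    have htb : ∀ T : Subobject X.cocomplex, T = ⊥ := fun T =>
      le_bot_iff.1 (Subobject.le_of_comm 0 ((IsZero.of_mono T.arrow hzX).eq_of_src _ _))
    have hz' : ∀ i, IsZero ((CochainComplex.single₀ C).obj (K.step i)) := fun i =>
      Functor.map_isZero _ (IsZero.of_mono (K.fil i).arrow hzero)
    refine ⟨X, fun _ => ⊤, antitone_const, fun _ _ => rfl, fun _ _ => htb _, fun i => ⟨?_, 0,
      (hz' i).eq_of_src _ _, ?_⟩⟩
    · exact fun j => IsZero.injective
        (Functor.map_isZero (HomologicalComplex.eval C _ j) (IsZero.of_mono (⊤ : Subobject X.cocomplex).arrow hzX))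
    · have hz : IsZero ((⊤ : Subobject X.cocomplex) : CochainComplex C ℕ) :=
        IsZero.of_mono (⊤ : Subobject X.cocomplex).arrow hzX
      have : IsIso (0 : (CochainComplex.single₀ C).obj (K.step i) ⟶
          ((⊤ : Subobject X.cocomplex) : CochainComplex C ℕ)) :=
        ⟨0, (hz' i).eq_of_src _ _, hz.eq_of_src _ _⟩
      infer_instance
  obtain ⟨⟨a, ha⟩, b, hb⟩ := hK
  have inj_top : ∀ (X : CochainComplex C ℕ), (∀ j, Injective (X.X j)) →
      ∀ j, Injective (((⊤ : Subobject X) : CochainComplex C ℕ).X j) := fun X hX j =>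
    Injective.of_iso ((HomologicalComplex.Hom.isoApp (asIso (⊤ : Subobject X).arrow) j).symm) (hX j)
  have tr : ∀ {Y : CochainComplex C ℕ} {S T : Subobject Y}, S = T → ∀ {Z : C}
      {φ : (CochainComplex.single₀ C).obj Z ⟶ Y},
      ((∀ j, Injective ((T : CochainComplex C ℕ).X j)) ∧
        ∃ ι : (CochainComplex.single₀ C).obj Z ⟶ (T : CochainComplex C ℕ),
          ι ≫ T.arrow = φ ∧ QuasiIso ι) →
      ((∀ j, Injective ((S : CochainComplex C ℕ).X j)) ∧
        ∃ ι : (CochainComplex.single₀ C).obj Z ⟶ (S : CochainComplex C ℕ),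
          ι ≫ S.arrow = φ ∧ QuasiIso ι) := by
    rintro Y S T rfl Z φ h
    exact h
  have key : ∀ m, m ≤ b → ∃ (R : InjectiveResolution (K.step m)) (G : ℤ → Subobject R.cocomplex),
      Antitone G ∧ ∀ i (hi : m ≤ i), (∀ j, Injective ((G i : CochainComplex C ℕ).X j)) ∧
        ∃ ι : (CochainComplex.single₀ C).obj (K.step i) ⟶ (G i : CochainComplex C ℕ),
          ι ≫ (G i).arrow = (CochainComplex.single₀ C).map (K.stepLE hi) ≫ R.ι ∧ QuasiIso ι := by
    intro m hm
    induction m, hm using Int.le_induction_down with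
    | base =>
      let R : InjectiveResolution (K.step b) := injectiveResolution (K.step b)
      refine ⟨R, fun _ => ⊤, antitone_const, fun i hi => ⟨inj_top _ R.injective, ?_⟩⟩
      have hib : K.fil i = K.fil b := le_antisymm (K.anti hi) (hb ▸ bot_le)
      have : IsIso (K.stepLE hi) := ⟨(K.fil b).ofLE (K.fil i) hib.ge,
        by simp [SpSeq.FilObj.stepLE], by simp [SpSeq.FilObj.stepLE]⟩
      exact ⟨(CochainComplex.single₀ C).map (K.stepLE hi) ≫ R.ι ≫ inv (⊤ : Subobject R.cocomplex).arrow,
        by simp, inferInstance⟩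
    | pred m hm ih =>
      obtain ⟨R, G, hG, hι⟩ := ih
      have hle : m - 1 ≤ m := by omega
      let S := ShortComplex.mk (K.stepLE hle) (cokernel.π (K.stepLE hle)) (cokernel.condition _)
      have hS : S.ShortExact := { exact := ShortComplex.exact_cokernel _ }
      obtain ⟨T, hT, -⟩ := SESResLib.exists_sesRes_eq hS R (injectiveResolution S.X₃)
      obtain ⟨I₁, I₂, I₃, f, g, w, hf, hg, hse⟩ := T
      subst hT
      have : Mono f := hse.mono_f
      refine ⟨I₂, fun i => if m ≤ i then Subobject.mk ((G i).arrow ≫ f) else ⊤, ?_, fun i hi => ?_⟩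
      · intro i j hij
        dsimp only
        by_cases hi : m ≤ i
        · rw [if_pos hi, if_pos (hi.trans hij)]
          exact Subobject.mk_le_mk_of_comm (Subobject.ofLE (G j) (G i) (hG hij)) (by simp)
        · rw [if_neg hi]
          exact le_top
      · by_cases hmi : m ≤ i
        · obtain ⟨hinj, ι, hι₁, hι₂⟩ := hι i hmi
          refine tr (if_pos hmi) ?_
          let e := Subobject.underlyingIso ((G i).arrow ≫ f)
          refine ⟨fun j => Injective.of_iso (HomologicalComplex.Hom.isoApp e j).symm (hinj j),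
            ι ≫ e.inv, ?_, inferInstance⟩
          rw [Category.assoc, Subobject.underlyingIso_arrow, reassoc_of% hι₁, hf,
            ← Functor.map_comp_assoc]
          simp [S, SpSeq.FilObj.stepLE]
        · refine tr (if_neg hmi) ?_
          obtain rfl : i = m - 1 := by omega
          refine ⟨inj_top _ I₂.injective,
            (I₂.ι : (CochainComplex.single₀ C).obj (K.step (m - 1)) ⟶ _) ≫
              inv (⊤ : Subobject I₂.cocomplex).arrow, ?_, inferInstance⟩
          simp [SpSeq.FilObj.stepLE, S, Subobject.ofLE_refl]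
  let m := min a b
  obtain ⟨R, G, hG, hι⟩ := key m (min_le_right _ _)
  have hm : K.fil m = ⊤ := top_le_iff.1 (ha ▸ K.anti (min_le_left a b))
  have : IsIso (K.fil m).arrow := Subobject.isIso_iff_mk_eq_top _ |>.2 (by rw [Subobject.mk_arrow]; exact hm)
  let X : InjectiveResolution K.obj :=
    { cocomplex := R.cocomplex
      ι := (CochainComplex.single₀ C).map (inv (K.fil m).arrow) ≫ R.ι }
  classical
  refine ⟨X, fun i => if K.fil i = ⊤ then ⊤ else if K.fil i = ⊥ then ⊥ else G i, ?_,
    fun i h => by simp [h], fun i h => ?_, fun i => ?_⟩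
  · intro i j hij
    have h := K.anti hij
    dsimp only
    by_cases h1 : K.fil i = ⊤
    · rw [if_pos h1]
      exact le_top
    by_cases h2 : K.fil j = ⊤
    · exact absurd (top_le_iff.1 (h2 ▸ h)) h1
    rw [if_neg h1, if_neg h2]
    by_cases h3 : K.fil j = ⊥
    · rw [if_pos h3]
      exact bot_le
    rw [if_neg h3, if_neg fun (h4 : K.fil i = ⊥) => h3 (le_bot_iff.1 (h4 ▸ h))]
    exact hG hij
  · dsimp only
    by_cases h1 : K.fil i = ⊤
    · rw [if_pos h1]
      have hz : IsZero K.obj := by
        have : IsIso (⊥ : Subobject K.obj).arrow :=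
          Subobject.isIso_iff_mk_eq_top _ |>.2 (by rw [Subobject.mk_arrow, ← h, h1])
        exact (isZero_zero C).of_iso ((asIso (⊥ : Subobject K.obj).arrow).symm ≪≫ Subobject.botCoeIsoZero)
      exact absurd hz hzero
    · rw [if_neg h1, if_pos h]
  · by_cases h1 : K.fil i = ⊤
    · refine tr (if_pos h1) ?_
      refine ⟨inj_top _ X.injective, (CochainComplex.single₀ C).map (K.fil i).arrow ≫ X.ι ≫
        inv (⊤ : Subobject X.cocomplex).arrow, by simp, ?_⟩
      have : IsIso (K.fil i).arrow :=
        Subobject.isIso_iff_mk_eq_top _ |>.2 (by rw [Subobject.mk_arrow]; exact h1)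
      infer_instance
    refine tr (if_neg h1) ?_
    by_cases h2 : K.fil i = ⊥
    · refine tr (if_pos h2) ?_
      have hz : IsZero ((⊥ : Subobject X.cocomplex) : CochainComplex C ℕ) :=
        (isZero_zero _).of_iso Subobject.botCoeIsoZero
      have hz' : IsZero ((CochainComplex.single₀ C).obj (K.step i)) :=
        Functor.map_isZero _ ((isZero_zero C).of_iso
          (eqToIso (congrArg (fun s : Subobject K.obj => (s : C)) h2) ≪≫ Subobject.botCoeIsoZero))
      refine ⟨fun j => IsZero.injective (Functor.map_isZero (HomologicalComplex.eval C _ j) hz), 0,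
        hz'.eq_of_src _ _, ?_⟩
      have : IsIso (0 : (CochainComplex.single₀ C).obj (K.step i) ⟶
          ((⊥ : Subobject X.cocomplex) : CochainComplex C ℕ)) :=
        ⟨0, hz'.eq_of_src _ _, hz.eq_of_src _ _⟩
      infer_instance
    refine tr (if_neg h2) ?_
    have hmi : m ≤ i := by
      by_contra hlt
      exact h1 (top_le_iff.1 (hm ▸ K.anti (le_of_not_ge hlt)))
    obtain ⟨hinj, ι, hι₁, hι₂⟩ := hι i hmi
    refine ⟨hinj, ι, hι₁.trans ?_, hι₂⟩
    show _ = _ ≫ (CochainComplex.single₀ C).map (inv (K.fil m).arrow) ≫ R.ι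
    rw [← Functor.map_comp_assoc,
      show (K.fil i).arrow ≫ inv (K.fil m).arrow = K.stepLE hmi by simp [SpSeq.FilObj.stepLE]]

end Groth.Agent.S8350
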