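import Groth.Statements.S8351
import Groth.Agent.SiteBase.KInjSections
import Groth.Agent.TriCat.RPlus

set_option autoImplicit false
universe u
open CategoryTheory CategoryTheory.Limits TopologicalSpace
open CohCx

namespace Groth.Agent.S8351

/-- For abelian sheaves on topological spaces and a complex bounded below. Let f : X ⟶ Y be a continuous
map and K a bounded below complex of abelian sheaves on X. For every p, the p-th cohomology sheaf of
the derived direct image R f_*(K) (bounded below right derived functor of f_*, computed with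
injective resolutions) is isomorphic to the sheaf associated with the presheaf U ↦ H^p(f⁻¹(U), K) on
Y, where H^p(V, K) denotes hypercohomology (morphisms from the free abelian sheaf on V to K[p] in
the derived category). (The published statement is for modules over arbitrary ringed spaces,
complexes unbounded via Cartan-Eilenberg resolutions, and a canonical isomorphism; here only the
existence of an isomorphism is asserted, and the derived categories are assumed to exist with
morphism types in the universe of X and Y.) -/
theorem result {X Y : TopCat.{u}} (f : X ⟶ Y)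
    [HasDerivedCategory.{u} (CohTop.Ab X)] [HasDerivedCategory.{u} (CohTop.Ab Y)]
    (K : CochainComplex.Plus (CohTop.Ab X)) (p : ℤ) :
    Nonempty ((DerivedCategory.Plus.homologyFunctor (CohTop.Ab Y) p).obj
        ((CohTop.push f).rightDerivedFunctorPlus.obj
          (DerivedCategory.Plus.Qh.obj ((HomotopyCategory.Plus.quotient (CohTop.Ab X)).obj K))) ≅
      (presheafToSheaf (Opens.grothendieckTopology Y) AddCommGrpCat.{u}).obj
        ((Opens.map f).op ⋙ CohCx.HDUPresheaf (DerivedCategory.Q.obj K.obj) p)) := by
  let L := (TriCat.injToPlus (CohTop.Ab X)).objPreimage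
    (DerivedCategory.Plus.Qh.obj ((HomotopyCategory.Plus.quotient (CohTop.Ab X)).obj K))
  let e : (TriCat.injToPlus (CohTop.Ab X)).obj L ≅ _ :=
    (TriCat.injToPlus (CohTop.Ab X)).objObjPreimageIso _
  obtain ⟨L₀, hL⟩ := HomotopyCategory.Plus.quotient_obj_surjective L
  let I : CochainComplex (CohTop.Ab X) ℤ :=
    ((InjectiveObject.ι (CohTop.Ab X)).mapHomologicalComplex (ComplexShape.up ℤ)).obj L₀.obj
  let J' : CochainComplex (CohTop.Ab Y) ℤ :=
    ((CohTop.push f).mapHomologicalComplex (ComplexShape.up ℤ)).obj I
  have : I.IsKInjective := inferInstance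
  let e' := eqToIso (congrArg (TriCat.injToPlus (CohTop.Ab X)).obj hL) ≪≫ e
  let eQ : DerivedCategory.Q.obj I ≅ DerivedCategory.Q.obj K.obj :=
    ((DerivedCategory.quotientCompQhIso _).app I).symm ≪≫ DerivedCategory.Plus.ι.mapIso e' ≪≫
      (DerivedCategory.quotientCompQhIso _).app K.obj
  let i₁ := (DerivedCategory.Plus.homologyFunctor (CohTop.Ab Y) p).mapIso
    ((CohTop.push f).rightDerivedFunctorPlus.mapIso e'.symm ≪≫
      (TriCat.rightDerivedPlusIso (CohTop.Ab X) (CohTop.push f)).app _)
  let i₂ := (DerivedCategory.homologyFunctor (CohTop.Ab Y) p).mapIso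
    ((DerivedCategory.quotientCompQhIso _).app J') ≪≫
      (DerivedCategory.homologyFunctorFactors (CohTop.Ab Y) p).app J'
  let w := (Functor.whiskeringLeft _ _ AddCommGrpCat.{u}).obj (Opens.map f).op
  let a := presheafToSheaf (Opens.grothendieckTopology Y) AddCommGrpCat.{u}
  let i₃ : w.obj (CohCx.HDUPresheaf (DerivedCategory.Q.obj K.obj) p) ≅
      w.obj ((KInjSections.preCx I).homology p) :=
    w.mapIso (Functor.isoWhiskerLeft _ (preadditiveYoneda.mapIso
      ((shiftFunctor (DerivedCategory (CohTop.Ab X)) p).mapIso eQ.symm)) ≪≫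
        (KInjSections.iso I p).symm)
  let i₄ : w.obj ((KInjSections.preCx I).homology p) ≅ (KInjSections.preCx J').homology p :=
    (((KInjSections.preCx I).sc p).mapHomologyIso w).symm
  let i₅ : J'.homology p ≅ a.obj ((KInjSections.preCx J').homology p) :=
    (HomologicalComplex.homologyFunctor _ _ p).mapIso
      ((NatIso.mapHomologicalComplex (asIso (sheafificationAdjunction (Opens.grothendieckTopology Y)
        AddCommGrpCat.{u}).counit) (ComplexShape.up ℤ)).app J').symm ≪≫
      ((KInjSections.preCx J').sc p).mapHomologyIso a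
  exact ⟨i₁ ≪≫ i₂ ≪≫ i₅ ≪≫ a.mapIso (i₃ ≪≫ i₄).symm⟩

end Groth.Agent.S8351
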