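import Groth.Statements.S8353
import Mathlib

set_option autoImplicit false
universe u
open HomAlg3

namespace Groth.Agent.S8353

section

variable {S : Type u} [CommRing S] {M : Type u} [AddCommGroup M] [Module S M]

lemma exists_coeff (I : Ideal S) {n : ℕ} (φ : (Fin n → S) →ₗ[S] M) {y : M}
    (hy : y ∈ I • LinearMap.range φ) : ∃ v : Fin n → S, φ v = y ∧ ∀ j, v j ∈ I := by
  rw [LinearMap.range_eq_map, ← Submodule.map_smul''] at hy
  obtain ⟨v, hv, rfl⟩ := hy
  refine ⟨v, rfl, ?_⟩
  refine Submodule.smul_induction_on hv (fun r hr x _ j => ?_) fun x y hx hy j => ?_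
  · exact I.mul_mem_right _ hr
  · exact I.add_mem (hx j) (hy j)

/-- Successive approximation. -/
lemma le_range (J : Ideal S) [IsAdicComplete J S] {n : ℕ} (φ : (Fin n → S) →ₗ[S] M)
    (G : ℕ → Submodule S M) (hG : ∀ k, (J ^ k) • LinearMap.range φ ≤ G k)
    (hG' : Antitone G) (m : ℕ)
    (hstep : ∀ k, m ≤ k → G k ≤ (J ^ k) • LinearMap.range φ ⊔ G (k + 1))
    (hsep : ∀ x, (∀ k, x ∈ G k) → x = 0) :
    G m ≤ (J ^ m) • LinearMap.range φ := by
  intro x hx
  have H : ∀ (k : ℕ) (y : M), y ∈ G (m + k) → ∃ v : Fin n → S,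
      (∀ j, v j ∈ J ^ (m + k)) ∧ y - φ v ∈ G (m + k + 1) := by
    intro k y hy
    obtain ⟨a, ha, b, hb, rfl⟩ := Submodule.mem_sup.1 (hstep (m + k) (by omega) hy)
    obtain ⟨v, rfl, hv⟩ := exists_coeff _ φ ha
    exact ⟨v, hv, by simpa using hb⟩
  choose v hv hv' using H
  let seq : (k : ℕ) → {w : Fin n → S // x - φ w ∈ G (m + k)} := fun k =>
    Nat.rec ⟨0, by simpa using hx⟩
      (fun k w => ⟨w.1 + v k (x - φ w.1) w.2, by
        simpa [map_add, ← sub_sub, add_assoc] using hv' k (x - φ w.1) w.2⟩) k
  have hdiff : ∀ k j, (seq (k + 1)).1 j - (seq k).1 j ∈ J ^ (m + k) := fun k j => by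
    simpa [seq] using hv k (x - φ (seq k).1) (seq k).2 j
  have hcauchy : ∀ j, ∀ {a b : ℕ}, a ≤ b → (seq b).1 j - (seq a).1 j ∈ J ^ (m + a) := by
    intro j a b hab
    induction b, hab using Nat.le_induction with
    | base => simp
    | succ b hab ih =>
      have := Ideal.add_mem _ (Ideal.pow_le_pow_right (by omega : m + a ≤ m + b) (hdiff b j)) ih
      simpa using this
  have hlim : ∀ j, ∃ L : S, ∀ a, (seq a).1 j ≡ L [SMOD (J ^ a • ⊤ : Submodule S S)] := by
    intro j
    refine IsPrecomplete.prec (inferInstance : IsPrecomplete J S) fun {a b} hab => ?_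
    rw [smul_eq_mul, Ideal.mul_top, SModEq.sub_mem]
    have := (J ^ a).neg_mem (Ideal.pow_le_pow_right (by omega : a ≤ m + a) (hcauchy j hab))
    simpa using this
  choose L hL using hlim
  have hL' : ∀ j k, L j - (seq k).1 j ∈ J ^ (m + k) := fun j k => by
    have h1 := hL j (m + k)
    rw [smul_eq_mul, Ideal.mul_top, SModEq.sub_mem] at h1
    have h2 := (J ^ (m + k)).sub_mem (hcauchy j (show k ≤ m + k by omega)) h1
    simpa using h2
  have hmem : ∀ (k : ℕ) (w : Fin n → S), (∀ j, w j ∈ J ^ k) → φ w ∈ (J ^ k) • LinearMap.range φ := by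
    intro k w hw
    rw [pi_eq_sum_univ w, map_sum]
    refine Submodule.sum_mem _ fun j _ => ?_
    rw [map_smul]
    exact Submodule.smul_mem_smul (hw j) (LinearMap.mem_range_self _ _)
  have hx' : x = φ L := by
    refine sub_eq_zero.1 (hsep _ fun k => ?_)
    have h1 : x - φ L = (x - φ (seq k).1) - φ (L - (seq k).1) := by
      rw [map_sub]; abel
    rw [h1]
    exact hG' (show k ≤ m + k by omega) ((G (m + k)).sub_mem (seq k).2
      (hG (m + k) (hmem _ _ fun j => hL' j k)))
  rw [hx']
  exact hmem m L fun j => by simpa [seq] using hL' j 0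

end

/-- Let S be a Noetherian ring which is separated and complete for the adic topology of an ideal J, and
let M be an S-module with a decreasing filtration (F^p M)_{p ∈ ℤ} by submodules such that F^p M = M
for some p, J·F^p M ⊆ F^{p+1} M for all p, and ⋂_p F^p M = 0. Then the following are equivalent: (a)
M is a finitely generated S-module and J·F^p M = F^{p+1} M for all large p; (c) every F^p M /
F^{p+1} M is a finitely generated S-module and, for all large p, the map J ⊗ (F^p M/F^{p+1} M) ⟶
F^{p+1} M/F^{p+2} M is surjective, that is F^{p+1} M = J·F^p M + F^{p+2} M. (The published statement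
also lists a third equivalent condition, finite generation of the associated graded module over the
associated graded ring; this row states the equivalence of the other two.) -/
theorem result {S : Type u} [CommRing S] [IsNoetherianRing S]
    (J : Ideal S) [IsAdicComplete J S] {M : Type u} [AddCommGroup M] [Module S M]
    (F : ℤ → Submodule S M) (hF : Antitone F) (hcod : ∃ p₀ : ℤ, F p₀ = ⊤)
    (hJ : ∀ p : ℤ, J • F p ≤ F (p + 1)) (hsep : ⨅ p : ℤ, F p = ⊥) :
    (Module.Finite S M ∧ ∃ p₁ : ℤ, ∀ p : ℤ, p₁ ≤ p → J • F p = F (p + 1)) ↔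
      ((∀ p : ℤ, (Submodule.map (F (p + 1)).mkQ (F p)).FG) ∧
        ∃ p₁ : ℤ, ∀ p : ℤ, p₁ ≤ p → F (p + 1) = J • F p ⊔ F (p + 2)) := by
  constructor
  · rintro ⟨hfin, p₁, hp₁⟩
    refine ⟨fun p => (IsNoetherian.noetherian (F p)).map _, p₁, fun p hp => ?_⟩
    rw [hp₁ p hp]
    exact (sup_eq_left.2 (hF (by omega))).symm
  · rintro ⟨hfg, q₁, hq₁⟩
    obtain ⟨p₀, hp₀⟩ := hcod
    let q : ℤ := max q₁ p₀
    have hq : ∀ p, q ≤ p → F (p + 1) = J • F p ⊔ F (p + 2) := fun p hp => hq₁ p (le_trans (le_max_left _ _) hp)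
    have hgen : ∃ (n : ℕ) (φ : (Fin n → S) →ₗ[S] M), LinearMap.range φ ≤ F q ∧
        F q ≤ LinearMap.range φ ⊔ F (q + 1) := by
      obtain ⟨n, g, hg⟩ := Submodule.fg_iff_exists_fin_generating_family.1 (hfg q)
      have hmem : ∀ j, ∃ y ∈ F q, (F (q + 1)).mkQ y = g j := fun j =>
        (Submodule.mem_map.1 (hg ▸ Submodule.subset_span (Set.mem_range_self j) :
          g j ∈ Submodule.map (F (q + 1)).mkQ (F q)))
      choose y hy hy' using hmem
      refine ⟨n, Fintype.linearCombination S y, ?_, ?_⟩
      · rw [Fintype.range_linearCombination, Submodule.span_le]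
        rintro _ ⟨j, rfl⟩
        exact hy j
      · have h1 : (F q).map (F (q + 1)).mkQ ≤
            (LinearMap.range (Fintype.linearCombination S y)).map (F (q + 1)).mkQ := by
          rw [Fintype.range_linearCombination, Submodule.map_span, ← Set.range_comp, ← hg]
          exact Submodule.span_mono (le_of_eq (congrArg Set.range (funext fun j => (hy' j).symm)))
        rw [Submodule.map_le_iff_le_comap, Submodule.comap_map_eq, Submodule.ker_mkQ] at h1
        exact h1
    obtain ⟨n, φ, hφ, hφ'⟩ := hgen
    let G : ℕ → Submodule S M := fun k => F (q + k)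
    have hG : ∀ k, (J ^ k) • LinearMap.range φ ≤ G k := by
      intro k
      induction k with
      | zero => simpa [G] using hφ
      | succ k ih =>
        rw [pow_succ', Submodule.mul_smul]
        refine (Submodule.smul_mono le_rfl ih).trans ((hJ _).trans (le_of_eq ?_))
        simp [G, add_assoc]
    have hG' : Antitone G := fun a b hab => hF (by omega)
    have hstep : ∀ k, G k ≤ (J ^ k) • LinearMap.range φ ⊔ G (k + 1) := by
      intro k
      induction k with
      | zero => simpa [G] using hφ'
      | succ k ih =>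
        have e1 : G (k + 1) = F (q + k + 1) := by simp [G, add_assoc]
        have e2 : G (k + 2) = F (q + k + 2) := by simp [G, add_assoc]
        have e3 : J • G (k + 1) ≤ G (k + 2) := by
          rw [e1, e2]
          exact (hJ _).trans (le_of_eq (by rw [add_assoc (q + k) 1 1]; rfl))
        rw [pow_succ', Submodule.mul_smul]
        calc G (k + 1) = J • G k ⊔ G (k + 2) := by
              rw [e1, e2]
              exact hq (q + k) (by omega)
          _ ≤ J • ((J ^ k) • LinearMap.range φ) ⊔ G (k + 2) := by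
              refine sup_le ((Submodule.smul_mono le_rfl ih).trans ?_) le_sup_right
              rw [Submodule.smul_sup]
              exact sup_le le_sup_left (e3.trans le_sup_right)
    have hsep' : ∀ x, (∀ k, x ∈ G k) → x = 0 := fun x hx => by
      have : x ∈ ⨅ p : ℤ, F p := (Submodule.mem_iInf _).2 fun p =>
        hF (show p ≤ q + ((p - q).toNat : ℤ) by omega) (hx (p - q).toNat)
      rw [hsep] at this
      exact (Submodule.mem_bot S).1 this
    have hkey : ∀ k : ℕ, G k = (J ^ k) • LinearMap.range φ := fun k =>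
      le_antisymm (le_range J φ G hG hG' k (fun j _ => hstep j) hsep') (hG k)
    have hfgq : (F q).FG := by
      have h0 : F q = LinearMap.range φ := by simpa [G] using hkey 0
      rw [h0, LinearMap.range_eq_map]
      exact Module.Finite.fg_top.map φ
    refine ⟨⟨?_⟩, q, fun p hp => ?_⟩
    · have hd : ∀ k : ℕ, (F (q - k)).FG := by
        intro k
        induction k with
        | zero => simpa using hfgq
        | succ k ih =>
          have e : q - ((k + 1 : ℕ) : ℤ) + 1 = q - k := by push_cast; ring
          refine Submodule.fg_of_fg_map_of_fg_inf_ker (F (q - ((k + 1 : ℕ) : ℤ) + 1)).mkQ (hfg _) ?_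
          rw [Submodule.ker_mkQ, inf_eq_right.2 (hF (by omega)), e]
          exact ih
      have hle : p₀ ≤ q := le_max_right _ _
      have := hd (q - p₀).toNat
      rwa [show q - (((q - p₀).toNat : ℕ) : ℤ) = p₀ by omega, hp₀] at this
    · obtain ⟨k, rfl⟩ : ∃ k : ℕ, q + k = p := ⟨(p - q).toNat, by omega⟩
      have h1 : G (k + 1) = J • G k := by
        rw [hkey, hkey, pow_succ', Submodule.mul_smul]
      have e1 : G (k + 1) = F (q + k + 1) := by simp [G, add_assoc]
      rw [← e1, h1]

end Groth.Agent.S8353
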