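import Groth.Statements.S8356
import Groth.Agent.LieSLib.Bracket

set_option autoImplicit false
universe u
open CategoryTheory MonObj AlgebraicGeometry
open LieS

namespace Groth.Agent.S8356

/-- For a group scheme G over a scheme S and an affine S-scheme T = Spec B, the group Lie(G/S)(T) of
points of G with values in the dual numbers over T that restrict to the unit along the zero section,
with the group law of G and the rescaling action of B, is the additive group of a Lie algebra over
B: there are a Lie algebra L over B and a multiplicative isomorphism from L onto Lie(G/S)(T)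
carrying the scalar multiplication of L to the rescaling action and the bracket of L to the
infinitesimal commutator on the iterated dual numbers. In particular the group law of Lie(G/S)(T) is
commutative, the rescaling action makes it a B-module, and the bracket so defined is B-bilinear,
alternating and satisfies the Jacobi identity. -/
theorem result (S : Scheme.{u}) (G : Over S) [GrpObj G] (B : Type u) [CommRing B]
    (f : Spec (CommRingCat.of B) ⟶ S) :
    ∃ (L : Type u) (_ : LieRing L) (_ : LieAlgebra B L), Nonempty (LieS.Model G B f L) := by
  have hcomm : ∀ v w : LieS.Lie G B f, v * w = w * v := fun v w =>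
    Subtype.ext (LieSLib.comm_of_zeroSec f ((LieS.mem_Lie_iff G B f v.1).mp v.2)
      ((LieS.mem_Lie_iff G B f w.1).mp w.2))
  letI : CommGroup (LieS.Lie G B f) := { (inferInstance : Group (LieS.Lie G B f)) with mul_comm := hcomm }
  have hone : ∀ b : B, b • (1 : LieS.Lie G B f) = 1 := fun b =>
    Subtype.ext (MonObj.comp_one _)
  have hmul : ∀ (b : B) (v w : LieS.Lie G B f), b • (v * w) = b • v * b • w := fun b v w =>
    Subtype.ext (MonObj.comp_mul _ _ _)
  have hadd : ∀ (b c : B) (v : LieS.Lie G B f), (b + c) • v = b • v * c • v := fun b c v =>
    Subtype.ext (LieSLib.scale_add_comp f ((LieS.mem_Lie_iff G B f v.1).mp v.2) b c)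
  have hcomp : ∀ (b c : B) (v : LieS.Lie G B f), (b * c) • v = b • c • v := fun b c v => by
    refine Subtype.ext ?_
    rw [LieS.smul_val, LieS.smul_val, LieS.smul_val, ← Category.assoc]
    congr 1
    ext
    change Spec.map _ = Spec.map _ ≫ Spec.map _
    rw [LieS.specMap_comp]
    congr 2
    exact RingHom.ext fun x => by ext <;> simp [LieSLib.scaleHom_apply, _root_.mul_assoc]
  letI : Module B (Additive (LieS.Lie G B f)) :=
    { smul := fun b v => Additive.ofMul (b • Additive.toMul v)
      one_smul := fun v => congrArg Additive.ofMul
        (Subtype.ext ((congrArg (· ≫ (Additive.toMul v).1) (LieSLib.scale_one f)).trans (Category.id_comp _)))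
      mul_smul := fun b c v => congrArg Additive.ofMul (hcomp b c _)
      smul_zero := fun b => congrArg Additive.ofMul (hone b)
      smul_add := fun b v w => congrArg Additive.ofMul (hmul b _ _)
      add_smul := fun b c v => congrArg Additive.ofMul (hadd b c _)
      zero_smul := fun v => congrArg Additive.ofMul
        (Subtype.ext (LieSLib.scale_zero_comp f ((LieS.mem_Lie_iff G B f _).mp (Additive.toMul v).2))) }
  letI : LieRing (Additive (LieS.Lie G B f)) :=
    { bracket := fun v w => Additive.ofMul (LieSLib.br (Additive.toMul v) (Additive.toMul w))
      add_lie := fun v v' w => congrArg Additive.ofMul (LieSLib.br_mul_left _ _ _)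
      lie_add := fun v w w' => congrArg Additive.ofMul (LieSLib.br_mul_right _ _ _)
      lie_self := fun v => congrArg Additive.ofMul (LieSLib.br_self _)
      leibniz_lie := fun v w z => congrArg Additive.ofMul (LieSLib.br_leibniz _ _ _) }
  letI : LieAlgebra B (Additive (LieS.Lie G B f)) :=
    { lie_smul := fun b v w => congrArg Additive.ofMul (LieSLib.br_smul_right b _ _) }
  refine ⟨Additive (LieS.Lie G B f), inferInstance, inferInstance,
    ⟨⟨MulEquiv.multiplicativeAdditive _, fun b v => rfl, fun v w => ?_⟩⟩⟩
  exact LieSLib.isBracket_br _ _

end Groth.Agent.S8356
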