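import Groth.Statements.S8357
import Groth.Agent.LieSLib.Basic

set_option autoImplicit false
universe u
open CategoryTheory MonObj AlgebraicGeometry
open LieS

namespace Groth.Agent.S8357

open Groth.Agent.LieSLib

/-- For a group scheme G over a scheme S and an affine S-scheme T = Spec B, the map induced on
Lie(G/S)(T) by the n-th power map of G is multiplication by n; that is, for v in Lie(G/S)(T) and an
integer n, the n-th power of v in the group law inherited from G is the rescaling of v by the image
of n in B. -/
theorem result (S : Scheme.{u}) (G : Over S) [GrpObj G] (B : Type u) [CommRing B]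
    (f : Spec (CommRingCat.of B) ⟶ S) (v : LieS.Lie G B f) (n : ℤ) :
    v ^ n = ((n : B) • v : LieS.Lie G B f) := by
  apply Subtype.ext
  rw [SubgroupClass.coe_zpow, LieS.smul_val]
  have hv : zeroSec B f ≫ v.1 = 1 := v.2
  induction n using Int.induction_on with
  | zero => rw [zpow_zero, Int.cast_zero, scale_zero_comp f hv]
  | succ k ih =>
    rw [zpow_add_one, ih, Int.cast_add, Int.cast_one, scale_add_comp f hv, scale_one, Category.id_comp]
  | pred k ih =>
    have hinv : scale B f (-1) ≫ v.1 = v.1⁻¹ := eq_inv_of_mul_eq_one_right (mul_scale_neg_one f hv).1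
    rw [zpow_sub_one, ih, Int.cast_sub, Int.cast_one, sub_eq_add_neg, scale_add_comp f hv, hinv]

end Groth.Agent.S8357
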