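import Groth.Statements.S8358
import Groth.Agent.LieSLib.Basic

set_option autoImplicit false
universe u
open CategoryTheory MonObj AlgebraicGeometry
open LieS

namespace Groth.Agent.S8358

/-- First isomorphism: over an affine base: for a commutative ring R, a commutative group M, the
diagonalisable group D(M) = Spec R[M] over Spec R and a commutative R-algebra B, the group
Lie(D(M))(Spec B) is identified with the additive group Hom(M, B) of group homomorphisms: there is a
multiplicative isomorphism which sends a point v of D(M) with values in B[ε], read as an R-algebra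
homomorphism from R[M] to B[ε], to the homomorphism m ↦ (ε-coefficient of the image of m), and which
carries the rescaling action of b in B to multiplication of homomorphisms by b. -/
theorem result (R : Type u) [CommRing R] (M : Type) [AddCommGroup M]
    (B : Type u) [CommRing B] [Algebra R B] :
    ∃ e : LieS.LieR (Red.diag R M) B ≃* Multiplicative (M →+ B),
      (∀ (v : LieS.LieR (Red.diag R M) B) (m : M),
        Multiplicative.toAdd (e v) m =
          TrivSqZeroExt.snd (((Spec.mapMulEquiv.symm ((LieS.dptIso B).inv ≫ v.1)).ofConv :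
            MonoidAlgebra R (Multiplicative M) →ₐ[R] DualNumber B)
            (MonoidAlgebra.single (Multiplicative.ofAdd m) 1))) ∧
      ∀ (b : B) (v : LieS.LieR (Red.diag R M) B),
        e (b • v) = Multiplicative.ofAdd (b • Multiplicative.toAdd (e v)) := by
  classical
  let pre : (dpt B (Spec.map (CommRingCat.ofHom (algebraMap R B))) ⟶ Red.diag R M) ≃*
      ((Spec (CommRingCat.of (DualNumber B))).asOver (Spec (CommRingCat.of R)) ⟶ Red.diag R M) :=
    { toFun := fun v => (dptIso B).inv ≫ v
      invFun := fun v => (dptIso B).hom ≫ v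
      left_inv := fun v => by simp only [Iso.hom_inv_id_assoc]
      right_inv := fun v => by simp only [Iso.inv_hom_id_assoc]
      map_mul' := fun v w => comp_mul _ _ _ }
  let Φ : (dpt B (Spec.map (CommRingCat.ofHom (algebraMap R B))) ⟶ Red.diag R M) ≃*
      (Multiplicative M →* DualNumber B) :=
    (pre.trans Spec.mapMulEquiv.symm).trans (MonoidAlgebra.liftMulEquiv R (DualNumber B) (Multiplicative M)).symm
  have hval : ∀ v m, Φ v m = ((Spec.mapMulEquiv.symm ((LieS.dptIso B).inv ≫ v)).ofConv :
      MonoidAlgebra R (Multiplicative M) →ₐ[R] DualNumber B) (MonoidAlgebra.single m 1) := fun v m => rfl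
  have hscale : ∀ (b : B) v m, Φ (scale B _ b ≫ v) m = scaleHom b (Φ v m) := by
    intro b v m
    let sc : DualNumber B →ₐ[R] DualNumber B := AlgHom.mk (scaleHom b) (fun r => by
      rw [← algebraMap_comp_eq]
      exact RingHom.congr_fun (scaleHom_comp_algebraMap b) (algebraMap R B r))
    have e : Spec.mapMulEquiv.symm ((LieS.dptIso B).inv ≫ scale B _ b ≫ v) =
        WithConv.toConv (sc.comp (Spec.mapMulEquiv.symm ((LieS.dptIso B).inv ≫ v)).ofConv) := by
      apply Spec.mapMulEquiv.injective
      obtain ⟨χ, hχ⟩ := Spec.mapMulEquiv.surjective ((LieS.dptIso B).inv ≫ v)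
      rw [MulEquiv.apply_symm_apply, ← hχ, MulEquiv.symm_apply_apply]
      have hl : v.left = Spec.map (CommRingCat.ofHom χ.ofConv.toRingHom) := by
        have := congrArg (fun g => g.left) hχ
        change Spec.map (CommRingCat.ofHom χ.ofConv.toRingHom) = 𝟙 _ ≫ v.left at this
        rw [Category.id_comp] at this
        exact this.symm
      refine Over.OverMorphism.ext ?_
      change 𝟙 _ ≫ Spec.map (CommRingCat.ofHom (scaleHom b)) ≫ v.left =
        Spec.map (CommRingCat.ofHom ((sc.comp χ.ofConv).toRingHom))
      rw [Category.id_comp, hl]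
      exact specMap_comp χ.ofConv.toRingHom (scaleHom b)
    rw [hval, hval, e]
    rfl
  have hmem : ∀ v, v ∈ LieR (Red.diag R M) B ↔ ∀ m, (Φ v m).fst = 1 := by
    intro v
    constructor
    · intro hv m
      have h0 : scale B _ 0 ≫ v = (1 : dpt B _ ⟶ Red.diag R M) := Groth.Agent.LieSLib.scale_zero_comp _ hv
      have := congrArg TrivSqZeroExt.fst (hscale 0 v m)
      rw [h0, map_one, MonoidHom.one_apply] at this
      simpa [Groth.Agent.LieSLib.scaleHom_apply] using this.symm
    · intro hv
      have h0 : scale B _ 0 ≫ v = (1 : dpt B _ ⟶ Red.diag R M) := by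
        apply Φ.injective
        refine MonoidHom.ext fun m => ?_
        rw [hscale, map_one, MonoidHom.one_apply]
        ext <;> simp [Groth.Agent.LieSLib.scaleHom_apply, hv m]
      show zeroSec B _ ≫ v = 1
      have := congrArg (zeroSec B _ ≫ ·) h0
      simp only [Groth.Agent.LieSLib.scale_zero, comp_one] at this
      rwa [← Category.assoc, ← Category.assoc, zeroSec_proj, Category.id_comp] at this
  have hmk : ∀ χ : M →+ B, ∃ φ : Multiplicative M →* DualNumber B,
      ∀ m, φ m = TrivSqZeroExt.inl 1 + TrivSqZeroExt.inr (χ m.toAdd) := fun χ =>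
    ⟨{ toFun := fun m => TrivSqZeroExt.inl 1 + TrivSqZeroExt.inr (χ m.toAdd)
       map_one' := by ext <;> simp
       map_mul' := fun x y => by ext <;> simp [add_comm] }, fun m => rfl⟩
  choose φ hφ using hmk
  let toHom : LieR (Red.diag R M) B → (M →+ B) := fun v =>
    AddMonoidHom.mk' (fun m => (Φ v.1 (Multiplicative.ofAdd m)).snd) fun x y => by
      rw [ofAdd_add, map_mul, DualNumber.snd_mul, (hmem _).mp v.2, (hmem _).mp v.2, _root_.one_mul, _root_.mul_one, add_comm]
  let e : LieR (Red.diag R M) B ≃* Multiplicative (M →+ B) :=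
    { toFun := fun v => Multiplicative.ofAdd (toHom v)
      invFun := fun χ => ⟨Φ.symm (φ χ.toAdd), (hmem _).mpr fun m => by
        rw [MulEquiv.apply_symm_apply, hφ]; simp⟩
      left_inv := fun v => Subtype.ext <| Φ.injective <| MonoidHom.ext fun m => by
        rw [MulEquiv.apply_symm_apply, hφ]
        ext
        · simp [(hmem _).mp v.2]
        · simp [toHom]
      right_inv := fun χ => by
        apply Multiplicative.toAdd.injective
        ext m
        show (Φ (Φ.symm (φ χ.toAdd)) (Multiplicative.ofAdd m)).snd = _
        rw [MulEquiv.apply_symm_apply, hφ]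
        simp
      map_mul' := fun v w => by
        apply Multiplicative.toAdd.injective
        ext m
        show (Φ (v.1 * w.1) _).snd = (Φ v.1 _).snd + (Φ w.1 _).snd
        rw [map_mul, MonoidHom.mul_apply, DualNumber.snd_mul, (hmem _).mp v.2, (hmem _).mp w.2,
          _root_.one_mul, _root_.mul_one, add_comm] }
  refine ⟨e, fun v m => rfl, fun b v => ?_⟩
  apply Multiplicative.toAdd.injective
  ext m
  show (Φ (b • v).1 _).snd = b * (Φ v.1 _).snd
  rw [smul_val, hscale]
  simp [Groth.Agent.LieSLib.scaleHom_apply]

end Groth.Agent.S8358
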