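import Groth.Statements.S8359
import Groth.Agent.DiagDefLib.Rigid

set_option autoImplicit false
universe u
open CategoryTheory MonObj AlgebraicGeometry
open Red

namespace Groth.Agent.S8359

/-- Over an affine base S = Spec R with S₀ = Spec (R/I) for a nilpotent ideal I: for a commutative group
M, the diagonalisable group D(M) = Spec R[M] over S, a group scheme X locally of finite presentation
over S and a homomorphism f from D(M) to X, if the base change of f to S₀ is the unit homomorphism
then f is the unit homomorphism. (The published statement is over an arbitrary base scheme with S₀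
defined by a nilpotent quasi-coherent ideal; this row is its case of an affine base.) -/
theorem result (R : Type u) [CommRing R] (I : Ideal R) (hI : IsNilpotent I)
    (M : Type) [AddCommGroup M] (X : Over (Spec (CommRingCat.of R))) [GrpObj X]
    [LocallyOfFinitePresentation X.hom] (f : Red.diag R M ⟶ X) [IsMonHom f]
    (h : (Over.pullback (Spec.map (CommRingCat.ofHom (Ideal.Quotient.mk I)))).map f = 1) :
    f = 1 := by
  obtain ⟨n, hn⟩ := hI
  have key : ∀ (k : ℕ) (B : Type u) [CommRing B] [Algebra R B], (∀ a ∈ I ^ (k + 1), algebraMap R B a = 0) →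
      ∀ χ : MonoidAlgebra R (Multiplicative M) →ₐ[R] B,
        Groth.Agent.GrpSchLib.AffineHopf.spMap χ ≫ f = (1 : Groth.Agent.GrpSchLib.AffineHopf.sp R B ⟶ X) := by
    intro k
    induction k with
    | zero =>
      intro B _ _ hB χ
      have hB' : ∀ a ∈ I, algebraMap R B a = 0 := fun a ha => hB a (by simpa using ha)
      let q := Spec.map (CommRingCat.ofHom (Ideal.Quotient.mk I))
      have hw : (Groth.Agent.GrpSchLib.AffineHopf.spMap χ).left ≫ (Red.diag R M).hom =
          Spec.map (CommRingCat.ofHom (Ideal.Quotient.lift I (algebraMap R B) hB')) ≫ q := by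
        rw [Over.w, ← Spec.map_comp]
        rfl
      have hmap1 : (Over.pullback q).map (1 : Red.diag R M ⟶ X) = 1 := (Over.pullback q).map_one
      have e := congrArg (fun g => Over.Hom.left g ≫ Limits.pullback.fst _ _) (h.trans hmap1.symm)
      simp only [q, Over.pullback_map_left, Limits.pullback.lift_fst] at e
      have e' := congrArg (fun g => Limits.pullback.lift (f := (Red.diag R M).hom) (g := q)
        (Groth.Agent.GrpSchLib.AffineHopf.spMap χ).left _ hw ≫ g) e
      rw [← comp_one (Groth.Agent.GrpSchLib.AffineHopf.spMap χ)]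
      exact Over.OverMorphism.ext (((Limits.pullback.lift_fst_assoc _ _ _ _).symm.trans e').trans
        (Limits.pullback.lift_fst_assoc _ _ _ _))
    | succ k ih =>
      intro B _ _ hB χ
      let L := I ^ (k + 1 + 1)
      have hq := DiagDefLib.comp_eq_one f (R ⧸ L) ((I ^ (k + 1)).map (Ideal.Quotient.mk L)) (by
          rw [← Ideal.map_mul, ← pow_add, Ideal.map_eq_bot_iff_le_ker, Ideal.mk_ker]
          exact Ideal.pow_le_pow_right (by omega))
        (fun B' _ _ ψ hψ χ' => ih B' (fun a ha => by
          rw [← ψ.commutes]; exact hψ _ (Ideal.mem_map_of_mem _ ha)) χ')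
      letI : Algebra (R ⧸ L) B := (Ideal.Quotient.lift L (algebraMap R B) hB).toAlgebra
      haveI : IsScalarTower R (R ⧸ L) B := IsScalarTower.of_algebraMap_eq fun _ => rfl
      let ext' : MonoidAlgebra (R ⧸ L) (Multiplicative M) →ₐ[R] B :=
        (MonoidAlgebra.lift (R ⧸ L) B (Multiplicative M)
          (χ.toMonoidHom.comp (MonoidAlgebra.of R (Multiplicative M)))).restrictScalars R
      have hext : χ = ext'.comp (DiagDefLib.chi (R := R) (R ⧸ L) (AddMonoidHom.id M)) :=
        MonoidAlgebra.algHom_ext (fun m => by simp [ext', DiagDefLib.chi_single]) (by ext)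
      rw [hext, ← Groth.Agent.GrpSchLib.AffineHopf.spMap_comp, Category.assoc, hq, comp_one]
  have := key n (MonoidAlgebra R (Multiplicative M)) (fun a ha => by
    rw [pow_succ, hn, zero_mul] at ha
    simp [(Submodule.mem_bot R).mp ha]) (AlgHom.id R _)
  rw [Groth.Agent.GrpSchLib.AffineHopf.spMap_id] at this
  exact (Category.id_comp f).symm.trans this

end Groth.Agent.S8359
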