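import Groth.Statements.S8360
import Groth.Agent.MultTypeLib.PointLift
import Groth.Agent.MultTypeLib.Build

set_option autoImplicit false
universe u
open CategoryTheory MonObj AlgebraicGeometry
open Red

namespace Groth.Agent.S8360

open CategoryTheory.Limits MonoidalCategory CartesianMonoidalCategory GrpObj TensorProduct
open Groth.Agent.GrpSchLib.AffineHopf Groth.Agent.MultTypeLib Groth.Agent.MultTypeLib.FixedLift
open Groth.Agent.MultTypeLib.PointAverage

variable {R : Type u} [CommRing R]

theorem isMultType_monoidAlgebra (M : Type) [AddCommGroup M] :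
    SGA3b.IsMultType R (MonoidAlgebra R (Multiplicative M)) :=
  isMultType_of_ff R ⟨ULift.{u} (Multiplicative M), inferInstance,
    ⟨(scalarBialgEquiv R R (Multiplicative M)).symm.trans
      (MonoidAlgebra.domCongrBialgEquiv R R MulEquiv.ulift.symm)⟩⟩

/-- A point over the identity is a point. -/
noncomputable def em (T : Type u) [CommRing T] [Algebra R T] :
    OT (𝟙 (Spec (CommRingCat.of R))) T ⟶ sp R T :=
  Over.homMk (𝟙 _) ((Category.id_comp _).trans (Category.comp_id _).symm)

/-- A point is a point over the identity. -/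
noncomputable def em' (T : Type u) [CommRing T] [Algebra R T] :
    sp R T ⟶ OT (𝟙 (Spec (CommRingCat.of R))) T :=
  Over.homMk (𝟙 _) ((Category.id_comp _).trans (Category.comp_id _))

theorem em'_natural {T T' : Type u} [CommRing T] [Algebra R T] [CommRing T'] [Algebra R T'] (u : T →ₐ[R] T') :
    spMap u ≫ em' T = em' T' ≫ OTm (𝟙 _) u :=
  Over.OverMorphism.ext ((Category.comp_id _).trans (Category.id_comp _).symm)

theorem em_natural {T T' : Type u} [CommRing T] [Algebra R T] [CommRing T'] [Algebra R T'] (u : T →ₐ[R] T') :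
    OTm (𝟙 _) u ≫ em T = em T' ≫ spMap u :=
  Over.OverMorphism.ext ((Category.comp_id _).trans (Category.id_comp _).symm)

theorem em'_em (T : Type u) [CommRing T] [Algebra R T] : em' (R := R) T ≫ em T = 𝟙 _ :=
  Over.OverMorphism.ext (Category.id_comp _)

/-- Over the affine base S = Spec R with S₀ = Spec (R/I) for a nilpotent ideal I, for a commutative
group M, the diagonalisable group D(M) = Spec R[M] over S and a group scheme X smooth over S, every
homomorphism of S₀-group schemes from D(M) ×_S S₀ to X ×_S S₀ is the base change of a homomorphism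
of S-group schemes from D(M) to X. -/
theorem result (R : Type u) [CommRing R] (I : Ideal R)
    (hI : IsNilpotent I) (M : Type) [AddCommGroup M] (X : Over (Spec (CommRingCat.of R))) [GrpObj X]
    [Smooth X.hom]
    (f₀ : Red.bc (Spec.map (CommRingCat.ofHom (Ideal.Quotient.mk I))) (Red.diag R M) ⟶ Red.bc (Spec.map (CommRingCat.ofHom (Ideal.Quotient.mk I))) X) [IsMonHom f₀] :
    ∃ f : Red.diag R M ⟶ X, IsMonHom f ∧ (Over.pullback (Spec.map (CommRingCat.ofHom (Ideal.Quotient.mk I)))).map f = f₀ := by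
  classical
  let q := Spec.map (CommRingCat.ofHom (Ideal.Quotient.mk I))
  let A := MonoidAlgebra R (Multiplicative M)
  haveI : IsMonHom (M := (Over.pullback q).obj (Red.diag R M)) (N := (Over.pullback q).obj X) f₀ := ‹IsMonHom f₀›
  -- points over the closed subscheme
  let Y : ∀ (T : Type u) [CommRing T] [Algebra R T] (_ : R ⧸ I →ₐ[R] T), Over (Spec (CommRingCat.of (R ⧸ I))) :=
    fun T _ _ io => Over.mk (Spec.map (CommRingCat.ofHom io.toRingHom))
  have hY : ∀ (T : Type u) [CommRing T] [Algebra R T] (io : R ⧸ I →ₐ[R] T),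
      Spec.map (CommRingCat.ofHom io.toRingHom) ≫ q = (sp R T).hom := fun T _ _ io => by
    show Spec.map _ ≫ Spec.map _ = Spec.map (CommRingCat.ofHom (algebraMap R T))
    rw [← Spec.map_comp, ← CommRingCat.ofHom_comp, ← io.comp_algebraMap]
    rfl
  let nu : ∀ (T : Type u) [CommRing T] [Algebra R T] (io : R ⧸ I →ₐ[R] T),
      (Over.map q).obj (Y T io) ⟶ sp R T := fun T _ _ io =>
    Over.homMk (𝟙 _) ((Category.id_comp _).trans (hY T io).symm)
  let nu' : ∀ (T : Type u) [CommRing T] [Algebra R T] (io : R ⧸ I →ₐ[R] T),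
      sp R T ⟶ (Over.map q).obj (Y T io) := fun T _ _ io =>
    Over.homMk (𝟙 _) ((Category.id_comp _).trans (hY T io))
  let Q := A ⧸ JT I A
  let ioQ : R ⧸ I →ₐ[R] Q := Ideal.Quotient.liftₐ I (Algebra.ofId R Q) fun r hr => by
    show algebraMap R Q r = 0
    rw [IsScalarTower.algebraMap_apply R A Q, Ideal.Quotient.algebraMap_eq]
    exact Ideal.Quotient.eq_zero_iff_mem.2 (Ideal.mem_map_of_mem _ hr)
  obtain ⟨pQ, hpQ⟩ := (DSPtsLib.theta_bijective (H := Red.diag R M) (Y := Y Q ioQ) q).2
    (nu Q ioQ ≫ spMap (qT I A))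
  let φ₀ : OT (𝟙 _) Q ⟶ X := em Q ≫ nu' Q ioQ ≫ DSPtsLib.theta q (pQ ≫ f₀)
  have h0 : HomMod (𝟙 _) I φ₀ := by
    intro T _ _ u v w huv
    let io : R ⧸ I →ₐ[R] T := u.comp ioQ
    have hio : ∀ z : Q →ₐ[R] T, z.comp ioQ = io := fun z =>
      Ideal.Quotient.algHom_ext _ (Subsingleton.elim _ _)
    let hm : ∀ z : Q →ₐ[R] T, Y T io ⟶ Y Q ioQ := fun z =>
      Over.homMk (Spec.map (CommRingCat.ofHom z.toRingHom)) (by
        show Spec.map _ ≫ Spec.map _ = Spec.map _
        rw [← Spec.map_comp, ← CommRingCat.ofHom_comp]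
        congr 2
        exact congrArg AlgHom.toRingHom (hio z))
    have hmap : ∀ z, (Over.map q).map (hm z) ≫ nu Q ioQ = nu T io ≫ spMap z := fun z =>
      Over.OverMorphism.ext ((Category.comp_id _).trans (Category.id_comp _).symm)
    have hth : ∀ z, DSPtsLib.theta q (hm z ≫ pQ) = nu T io ≫ spMap (z.comp (qT I A)) := fun z => by
      rw [DSPtsLib.theta_comp, hpQ, ← Category.assoc, hmap, Category.assoc, spMap_comp]
    have hmul : (hm u ≫ pQ) * (hm v ≫ pQ) = hm w ≫ pQ := by
      apply (DSPtsLib.theta_bijective q).injective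
      rw [DSPtsLib.theta_mul, hth, hth, hth, ← MonObj.comp_mul, huv, spMap_mul]
      congr 2
      exact AlgHom.ext fun a => by rw [AlgHom.convMul_apply]; rfl
    have e : ∀ z, OTm (𝟙 _) z ≫ φ₀ = em T ≫ nu' T io ≫ DSPtsLib.theta q ((hm z ≫ pQ) ≫ f₀) := fun z => by
      rw [Category.assoc (hm z), DSPtsLib.theta_comp]
      simp only [φ₀, ← Category.assoc, em_natural]
      congr 1
    rw [e, e, e, ← MonObj.comp_mul, ← MonObj.comp_mul, ← DSPtsLib.theta_mul, ← MonObj.mul_comp (hm u ≫ pQ) (hm v ≫ pQ) f₀, hmul]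
  obtain ⟨φ, hφ, hφm⟩ := PointLift.exists_hom_lift (G := X) (𝟙 _) I hI A (isMultType_monoidAlgebra M) φ₀ h0
  let f : Red.diag R M ⟶ X := em' A ≫ φ
  let iL : A →ₐ[R] A ⊗[R] A := Algebra.TensorProduct.includeLeft
  let iR : A →ₐ[R] A ⊗[R] A := Algebra.TensorProduct.includeRight
  let U : sp R (A ⊗[R] A) ⟶ Red.diag R M ⊗ Red.diag R M :=
    CartesianMonoidalCategory.lift (spMap iL) (spMap iR)
  haveI : IsIso U := by
    have hU : U.left = (pullbackSpecIso R A A).inv := by
      apply pullback.hom_ext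
      · refine (congrArg (fun g => g.left) (lift_fst (spMap iL) (spMap iR))).trans ?_
        exact (pullbackSpecIso_inv_fst R A A).symm
      · refine (congrArg (fun g => g.left) (lift_snd (spMap iL) (spMap iR))).trans ?_
        exact (pullbackSpecIso_inv_snd R A A).symm
    haveI : IsIso U.left := by rw [hU]; exact inferInstanceAs (IsIso (pullbackSpecIso R A A).inv)
    haveI : IsIso ((Over.forget _).map U) := ‹IsIso U.left›
    exact isIso_of_reflects_iso U (Over.forget _)
  have hΔ : star iL iR = Bialgebra.comulAlgHom R A := AlgHom.ext fun a => by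
    show Algebra.TensorProduct.lift iL iR (fun _ _ => Commute.all _ _) (Bialgebra.comulAlgHom R A a) = _
    generalize Bialgebra.comulAlgHom R A a = z
    induction z using TensorProduct.induction_on with
    | zero => simp
    | add p p' hp hp' => simp only [map_add, hp, hp']
    | tmul p p' => simp [iL, iR]
  have hmul : μ[Red.diag R M] ≫ f = (f ⊗ₘ f) ≫ μ[X] := by
    rw [← cancel_epi U, ← Category.assoc, ← Category.assoc U (f ⊗ₘ f), lift_map, ← Hom.mul_def,
      ← Hom.mul_def, ← FixedSmooth.spMap_comul]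
    show spMap (Bialgebra.comulAlgHom R A) ≫ em' A ≫ φ = (spMap iL ≫ em' A ≫ φ) * (spMap iR ≫ em' A ≫ φ)
    simp only [← Category.assoc, em'_natural]
    simp only [Category.assoc]
    rw [← MonObj.comp_mul, hφm (A ⊗[R] A) iL iR, hΔ]
  have hone : η[Red.diag R M] ≫ f = η[X] := by
    have hm : ∀ a b : 𝟙_ (Over (Spec (CommRingCat.of R))) ⟶ Red.diag R M, (a * b) ≫ f = (a ≫ f) * (b ≫ f) := fun a b => by
      rw [Hom.mul_def, Hom.mul_def, Category.assoc, hmul, lift_map_assoc]
    have e := hm 1 1
    rw [_root_.one_mul, left_eq_mul] at e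
    rw [Hom.one_def, Hom.one_def, toUnit_unique (toUnit (𝟙_ (Over (Spec (CommRingCat.of R))))) (𝟙 _),
      Category.id_comp, Category.id_comp] at e
    exact e
  refine ⟨f, { one_hom := hone, mul_hom := hmul }, ?_⟩
  haveI : IsIso pQ.left := by
    let κ : (R ⧸ I) ⊗[R] A →ₐ[R] Q := Algebra.TensorProduct.lift ioQ (qT I A) fun _ _ => Commute.all _ _
    have hκl : κ.comp Algebra.TensorProduct.includeLeft = ioQ := AlgHom.ext fun x => by
      show κ (x ⊗ₜ[R] (1 : A)) = ioQ x
      simp [κ]
    have hκr : κ.comp Algebra.TensorProduct.includeRight = qT I A := AlgHom.ext fun x => by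
      show κ ((1 : R ⧸ I) ⊗ₜ[R] x) = qT I A x
      simp [κ]
      rfl
    let κ' : Q →ₐ[R] (R ⧸ I) ⊗[R] A :=
      Ideal.Quotient.liftₐ (JT I A) Algebra.TensorProduct.includeRight fun a ha => by
        have hle : JT I A ≤ RingHom.ker (Algebra.TensorProduct.includeRight : A →ₐ[R] (R ⧸ I) ⊗[R] A).toRingHom := by
          rw [Ideal.map_le_iff_le_comap]
          intro r hr
          show (1 : R ⧸ I) ⊗ₜ[R] algebraMap R A r = 0
          rw [Algebra.algebraMap_eq_smul_one, ← TensorProduct.smul_tmul, Algebra.smul_def,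
            Ideal.Quotient.algebraMap_eq, Ideal.Quotient.eq_zero_iff_mem.2 hr, zero_mul, TensorProduct.zero_tmul]
        exact hle ha
    have h1 : κ.comp κ' = AlgHom.id R Q := AlgHom.ext fun x => by
      obtain ⟨a, rfl⟩ := Ideal.Quotient.mk_surjective x
      exact AlgHom.congr_fun hκr a
    have h2 : κ'.comp κ = AlgHom.id R _ := by
      refine Algebra.TensorProduct.ext (Ideal.Quotient.algHom_ext _ (Subsingleton.elim _ _)) (AlgHom.ext fun a => ?_)
      show κ' (κ ((1 : R ⧸ I) ⊗ₜ[R] a)) = (1 : R ⧸ I) ⊗ₜ[R] a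
      rw [show κ ((1 : R ⧸ I) ⊗ₜ[R] a) = qT I A a from AlgHom.congr_fun hκr a]
      rfl
    let eκ : (R ⧸ I) ⊗[R] A ≃ₐ[R] Q := AlgEquiv.ofAlgHom κ κ' h1 h2
    haveI : IsIso (CommRingCat.ofHom κ.toRingHom) := inferInstanceAs (IsIso eκ.toRingEquiv.toCommRingCatIso.hom)
    have hp : pQ.left = Spec.map (CommRingCat.ofHom κ.toRingHom) ≫
        (pullbackSymmetry _ _ ≪≫ pullbackSpecIso R (R ⧸ I) A).inv := by
      apply pullback.hom_ext
      · have h := congrArg (fun g => g.left) hpQ
        refine (DSPtsLib.theta_left q pQ).symm.trans (h.trans ?_)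
        show 𝟙 _ ≫ Spec.map (CommRingCat.ofHom (qT I A).toRingHom) =
          (Spec.map (CommRingCat.ofHom κ.toRingHom) ≫ (pullbackSpecIso R (R ⧸ I) A).inv ≫
            (pullbackSymmetry (Spec.map (CommRingCat.ofHom (algebraMap R A)))
              (Spec.map (CommRingCat.ofHom (algebraMap R (R ⧸ I))))).inv) ≫
          pullback.fst (Spec.map (CommRingCat.ofHom (algebraMap R A)))
              (Spec.map (CommRingCat.ofHom (algebraMap R (R ⧸ I))))
        rw [Category.id_comp, Category.assoc, Category.assoc, pullbackSymmetry_inv_comp_fst,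
          pullbackSpecIso_inv_snd, ← Spec.map_comp, ← hκr]
        rfl
      · refine (Over.w pQ).trans ?_
        show Spec.map (CommRingCat.ofHom ioQ.toRingHom) =
          (Spec.map (CommRingCat.ofHom κ.toRingHom) ≫ (pullbackSpecIso R (R ⧸ I) A).inv ≫
            (pullbackSymmetry (Spec.map (CommRingCat.ofHom (algebraMap R A)))
              (Spec.map (CommRingCat.ofHom (algebraMap R (R ⧸ I))))).inv) ≫
          pullback.snd (Spec.map (CommRingCat.ofHom (algebraMap R A)))
              (Spec.map (CommRingCat.ofHom (algebraMap R (R ⧸ I))))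
        rw [Category.assoc, Category.assoc, pullbackSymmetry_inv_comp_snd,
          pullbackSpecIso_inv_fst, ← Spec.map_comp, ← hκl]
        rfl
    rw [hp]
    exact IsIso.comp_isIso' inferInstance inferInstance
  apply (DSPtsLib.theta_bijective q).injective
  refine Over.OverMorphism.ext ((cancel_epi pQ.left).1 ?_)
  have h1 : (DSPtsLib.theta q (pQ ≫ (Over.pullback q).map f)).left = (DSPtsLib.theta q (pQ ≫ f₀)).left := by
    have hnat : DSPtsLib.theta q (pQ ≫ (Over.pullback q).map f) = DSPtsLib.theta q pQ ≫ f := by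
      apply Over.OverMorphism.ext
      show (pQ.left ≫ ((Over.pullback q).map f).left) ≫ pullback.fst _ _ = (pQ.left ≫ pullback.fst _ _) ≫ f.left
      rw [Category.assoc, Category.assoc]
      congr 1
      exact pullback.lift_fst _ _ _
    rw [hnat, hpQ, Category.assoc]
    show (nu Q ioQ ≫ spMap (qT I A) ≫ em' A ≫ φ).left = _
    rw [← Category.assoc (spMap (qT I A)), em'_natural, Category.assoc, hφ]
    simp only [φ₀]
    rw [← Category.assoc (em' Q), em'_em, Category.id_comp, ← Category.assoc (nu Q ioQ),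
      show nu Q ioQ ≫ nu' Q ioQ = 𝟙 _ from Over.OverMorphism.ext (Category.id_comp _), Category.id_comp]
  rw [DSPtsLib.theta_left, DSPtsLib.theta_left, Over.comp_left, Over.comp_left, Category.assoc, Category.assoc] at h1
  rw [DSPtsLib.theta_left, DSPtsLib.theta_left]
  exact h1

end Groth.Agent.S8360
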