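import Groth.Statements.S8362
import Mathlib.AlgebraicGeometry.Morphisms.UniversallyInjective
import Mathlib.AlgebraicGeometry.PullbackCarrier
import Mathlib.AlgebraicGeometry.Morphisms.UnderlyingMap
import Mathlib.AlgebraicGeometry.Morphisms.IsIso
-- import your own Groth.Agent.* helpers here

set_option autoImplicit false
universe u
open CategoryTheory AlgebraicGeometry
open SGA3

namespace Groth.Agent.S8362

open CategoryTheory CategoryTheory.Limits AlgebraicGeometry

theorem bijective_of_congr {R A : Type*} [CommRing R] [CommRing A] (J : Ideal R) (hJ : J * J = ⊥)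
    (a : R →+* A) (χ : A →+* A) (hχ : ∀ r, χ (a r) = a r) (hmem : ∀ x, χ x - x ∈ J.map a) :
    Function.Bijective χ := by
  have hI2 : J.map a * J.map a = ⊥ := by rw [← Ideal.map_mul, hJ, Ideal.map_bot]
  let := a.toAlgebra
  have hker : ∀ x ∈ J.map a, χ x = x := by
    intro x hx
    have hx' : x ∈ J • (⊤ : Submodule R A) := by
      rw [Ideal.smul_top_eq_map]; exact hx
    induction hx' using Submodule.smul_induction_on' with
    | smul j hj b _ =>
      rw [Algebra.smul_def, RingHom.algebraMap_toAlgebra, map_mul, hχ, ← sub_eq_zero, ← mul_sub,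
        ← Ideal.mem_bot, ← hI2]
      exact Ideal.mul_mem_mul (Ideal.mem_map_of_mem a hj) (hmem b)
    | add b hb c hc ihb ihc =>
      rw [Ideal.smul_top_eq_map] at hb hc
      rw [map_add, ihb hb, ihc hc]
  refine ⟨fun b c hbc => ?_, fun b => ⟨b - (χ b - b), ?_⟩⟩
  · have h1 : b - c ∈ J.map a := by
      have h2 := (J.map a).sub_mem (hmem c) (hmem b)
      convert h2 using 1
      rw [hbc]; ring
    have h3 := hker _ h1
    rw [map_sub, hbc, sub_self] at h3
    exact sub_eq_zero.mp h3.symm
  · rw [map_sub, hker _ (hmem b), sub_sub_cancel]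

theorem isIso_restrict (R : Type u) [CommRing R] (J : Ideal R) (hJ : J * J = ⊥) {X : Scheme.{u}}
    (p : X ⟶ Spec (CommRingCat.of R)) (u : X ⟶ X) (hu : u ≫ p = p)
    (hfix : pullback.fst p (Spec.map (CommRingCat.ofHom (Ideal.Quotient.mk J))) ≫ u =
      pullback.fst p (Spec.map (CommRingCat.ofHom (Ideal.Quotient.mk J))))
    (hbase : ∀ x, u.base x = x) {A : CommRingCat.{u}} (f : Spec A ⟶ X) [IsOpenImmersion f] :
    IsIso (pullback.snd u f) := by
  let g := IsOpenImmersion.lift f (f ≫ u) (by
    rintro _ ⟨y, rfl⟩
    exact ⟨y, ((Scheme.Hom.comp_apply f u y).trans (hbase _)).symm⟩)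
  have hg : g ≫ f = f ≫ u := IsOpenImmersion.lift_fac _ _ _
  have hsq : IsPullback g f f u := IsOpenImmersion.isPullback g f f u hg.symm (by
    ext x
    show u.base x ∈ f.opensRange ↔ x ∈ f.opensRange
    rw [hbase])
  suffices hgiso : IsIso g by
    rw [← hsq.flip.isoPullback_inv_snd]
    infer_instance
  obtain ⟨φ, hφ⟩ : ∃ φ, Spec.map φ = g := ⟨_, Spec.map_preimage g⟩
  obtain ⟨a, ha⟩ : ∃ a, Spec.map a = f ≫ p := ⟨_, Spec.map_preimage _⟩
  suffices hb : Function.Bijective φ.hom by
    have : IsIso φ := (ConcreteCategory.isIso_iff_bijective φ).mpr hb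
    rw [← hφ]
    infer_instance
  have hφa : a ≫ φ = a := by
    apply Spec.map_injective
    rw [Spec.map_comp, hφ, ha, ← Category.assoc, hg, Category.assoc, hu]
  let qA := CommRingCat.ofHom (Ideal.Quotient.mk (J.map a.hom))
  let bar : CommRingCat.of (R ⧸ J) ⟶ CommRingCat.of (A ⧸ J.map a.hom) :=
    CommRingCat.ofHom (Ideal.quotientMap (J.map a.hom) a.hom Ideal.le_comap_map)
  have hbar : CommRingCat.ofHom (Ideal.Quotient.mk J) ≫ bar = a ≫ qA := by
    ext r; rfl
  have hqA : φ ≫ qA = qA := by
    apply Spec.map_injective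
    rw [Spec.map_comp, hφ, ← cancel_mono f, Category.assoc, hg, ← Category.assoc]
    have hl : (Spec.map qA ≫ f) ≫ p =
        Spec.map bar ≫ Spec.map (CommRingCat.ofHom (Ideal.Quotient.mk J)) := by
      rw [Category.assoc, ← ha, ← Spec.map_comp, ← Spec.map_comp, hbar]
    rw [← pullback.lift_fst (Spec.map qA ≫ f) (Spec.map bar) hl, Category.assoc, hfix]
  exact bijective_of_congr J hJ a.hom φ.hom (fun r => congrArg (fun m => m.hom r) hφa)
    (fun x => (Ideal.Quotient.eq).mp (congrArg (fun m => m.hom x) hqA))

/-- Over an affine base S = Spec R with S₀ = Spec (R/J) for an ideal J of square zero: for an arbitrary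
S-scheme X, every S-endomorphism of X inducing the identity on X ×_S S₀ is an automorphism. (The
published statement is over an arbitrary base scheme with a quasi-coherent ideal of square zero;
this row is its case of an affine base, to which it reduces since being an isomorphism is local on
the base.) -/
theorem result (R : Type u) [CommRing R] (J : Ideal R) (hJ : J * J = ⊥)
    (X : Over (Spec (CommRingCat.of R))) (u : X ⟶ X)
    (h : (Over.pullback (Spec.map (CommRingCat.ofHom (Ideal.Quotient.mk J)))).map u = 𝟙 _) :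
    IsIso u := by
  let q : Spec (CommRingCat.of (R ⧸ J)) ⟶ Spec (CommRingCat.of R) :=
    Spec.map (CommRingCat.ofHom (Ideal.Quotient.mk J))
  have hq : Function.Surjective q.base := by
    have hle : J ≤ nilradical R := fun x hx => ⟨2, by rw [pow_two]; exact Ideal.mem_bot.mp (hJ ▸ Ideal.mul_mem_mul hx hx)⟩
    exact (PrimeSpectrum.comap_quotientMk_bijective_of_le_nilradical hle).2
  have : AlgebraicGeometry.Surjective q := ⟨hq⟩
  -- the closed subscheme `X₀`
  have hfix : pullback.fst X.hom q ≫ u.left = pullback.fst X.hom q := by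
    have h1 := congrArg (fun m => Over.Hom.left m ≫ pullback.fst X.hom q) h
    simp [q] at h1
    exact (pullback.lift_fst _ _ _).symm.trans h1
  have : AlgebraicGeometry.Surjective (pullback.fst X.hom q) :=
    MorphismProperty.pullback_fst _ _ this
  have hbase : ∀ x, u.left.base x = x := by
    intro x
    obtain ⟨y, rfl⟩ := (pullback.fst X.hom q).surjective x
    rw [← Scheme.Hom.comp_apply, hfix]
  -- locally, `u` is an isomorphism
  have hloc : IsIso u.left := by
    show MorphismProperty.isomorphisms Scheme u.left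
    rw [IsZariskiLocalAtTarget.iff_of_openCover (P := MorphismProperty.isomorphisms Scheme)
      X.left.affineCover]
    intro i
    exact @isIso_restrict R _ J hJ X.left X.hom u.left (Over.w u) hfix hbase _ (X.left.affineCover.f i)
      (X.left.affineCover.map_prop i)
  have : IsIso ((Over.forget _).map u) := hloc
  exact isIso_of_reflects_iso u (Over.forget _)


end Groth.Agent.S8362
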