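import Groth.Statements.S8363
import Groth.Agent.SqZeroLib.Basic

set_option autoImplicit false
universe u
open CategoryTheory MonObj AlgebraicGeometry
open SGA3

namespace Groth.Agent.S8363

/-- The kernel of the reduction map is commutative: over an affine base S = Spec R with S₀ = Spec (R/J)
for an ideal J of square zero: for a group scheme X over S and an arbitrary S-scheme Y, the kernel
of the reduction map from X(Y) to X(Y ×_S S₀) = X₀(Y₀) is a commutative group: two Y-valued points
of X whose base changes to S₀ are the unit commute. (The published statement identifies this kernel,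
as a group functor, with the commutative functor of homomorphisms from the pulled-back invariant
differentials of X₀ to J·O_Y, over an arbitrary base with a quasi-coherent ideal of square zero;
this row states only the resulting commutativity, over an affine base.) -/
theorem result (R : Type u) [CommRing R] (J : Ideal R) (hJ : J * J = ⊥)
    (X : Over (Spec (CommRingCat.of R))) [GrpObj X] (Y : Over (Spec (CommRingCat.of R))) (g g' : Y ⟶ X)
    (hg : (Over.pullback (Spec.map (CommRingCat.ofHom (Ideal.Quotient.mk J)))).map g = 1)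
    (hg' : (Over.pullback (Spec.map (CommRingCat.ofHom (Ideal.Quotient.mk J)))).map g' = 1) :
    g * g' = g' * g := by
  have hmap1 : (Over.pullback (Spec.map (CommRingCat.ofHom (Ideal.Quotient.mk J)))).map (1 : Y ⟶ X) = 1 :=
    (Over.pullback (Spec.map (CommRingCat.ofHom (Ideal.Quotient.mk J)))).map_one
  have key : ∀ y : Y.left, ∃ U : Y.left.Opens, y ∈ U ∧ U.ι ≫ (g * g').left = U.ι ≫ (g' * g).left := fun y => by
    obtain ⟨W, hW, hyW, -⟩ := exists_isAffineOpen_mem_and_subset (X := X.left) (x := (1 : Y ⟶ X).left.base y)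
      (U := ⊤) trivial
    have hyV : (CartesianMonoidalCategory.lift (1 : Y ⟶ X) 1).left.base y ∈
        (CartesianMonoidalCategory.fst X X).left ⁻¹ᵁ W ⊓ (CartesianMonoidalCategory.snd X X).left ⁻¹ᵁ W ⊓ μ[X].left ⁻¹ᵁ W := by
      refine ⟨⟨?_, ?_⟩, ?_⟩
      · show (CartesianMonoidalCategory.fst X X).left.base _ ∈ W; rw [← Scheme.Hom.comp_apply, ← Over.comp_left, CartesianMonoidalCategory.lift_fst]; exact hyW
      · show (CartesianMonoidalCategory.snd X X).left.base _ ∈ W; rw [← Scheme.Hom.comp_apply, ← Over.comp_left, CartesianMonoidalCategory.lift_snd]; exact hyW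
      · show μ[X].left.base _ ∈ W
        rw [← Scheme.Hom.comp_apply, ← Over.comp_left, ← Hom.mul_def, _root_.one_mul]; exact hyW
    obtain ⟨V, hV, hyV', hVle⟩ := exists_isAffineOpen_mem_and_subset hyV
    obtain ⟨U, hU, hyU, hUle⟩ := exists_isAffineOpen_mem_and_subset
      (U := (CartesianMonoidalCategory.lift (1 : Y ⟶ X) 1).left ⁻¹ᵁ V) (x := y) hyV'
    refine ⟨U, hyU, ?_⟩
    have : IsAffine U := hU
    let ρ : R →+* Γ(U, ⊤) := ((U.ι ≫ Y.hom).appTop).hom.comp (Scheme.ΓSpecIso (CommRingCat.of R)).inv.hom
    let I := J.map ρ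
    have hI : I * I = ⊥ := by rw [← Ideal.map_mul, hJ, Ideal.map_bot]
    have hw : Groth.Agent.SqZeroLib.inclusion I ≫ U.ι ≫ Y.hom =
        Spec.map (CommRingCat.ofHom (Ideal.Quotient.lift J ((Ideal.Quotient.mk I).comp ρ)
          fun a ha => Ideal.Quotient.eq_zero_iff_mem.mpr (Ideal.mem_map_of_mem ρ ha))) ≫
          Spec.map (CommRingCat.ofHom (Ideal.Quotient.mk J)) := by
      apply ext_of_isAffine
      rw [← cancel_mono (Scheme.ΓSpecIso (CommRingCat.of (↑Γ(U, ⊤) ⧸ I))).hom, ← Spec.map_comp,
        Scheme.ΓSpecIso_naturality, Scheme.Hom.comp_appTop, ← cancel_epi (Scheme.ΓSpecIso (CommRingCat.of R)).inv]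
      simp only [Category.assoc, Iso.inv_hom_id_assoc]
      refine CommRingCat.hom_ext (RingHom.ext fun a => ?_)
      exact Groth.Agent.SqZeroLib.appTop_inclusion I _
    have hcong : ∀ h : Y ⟶ X, (Over.pullback (Spec.map (CommRingCat.ofHom (Ideal.Quotient.mk J)))).map h = 1 →
        Groth.Agent.SqZeroLib.inclusion I ≫ U.ι ≫ h.left =
          Groth.Agent.SqZeroLib.inclusion I ≫ U.ι ≫ (1 : Y ⟶ X).left := fun h hh => by
      have e := congrArg (fun f => Over.Hom.left f ≫ Limits.pullback.fst _ _) (hh.trans hmap1.symm)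
      simp only [Over.pullback_map_left, Limits.pullback.lift_fst] at e
      have e' := congrArg (fun f => Limits.pullback.lift (f := Y.hom)
        (g := Spec.map (CommRingCat.ofHom (Ideal.Quotient.mk J))) (Groth.Agent.SqZeroLib.inclusion I ≫ U.ι) _
        ((Category.assoc _ _ _).trans hw) ≫ f) e
      simpa only [Limits.pullback.lift_fst_assoc, Category.assoc] using e'
    have hd : ∀ u, (U.ι ≫ (CartesianMonoidalCategory.lift (1 : Y ⟶ X) 1).left).base u ∈ V := fun u => hUle u.2
    obtain ⟨gx, gy, e, gxy, h1, h2, h3, h4, hs⟩ := Groth.Agent.SqZeroLib.isSum_mul I X hI U.ι W hW V hV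
      (hVle.trans (inf_le_left.trans inf_le_left)) (hVle.trans (inf_le_left.trans inf_le_right))
      (hVle.trans inf_le_right) hd (hcong g hg) (hcong g' hg')
    obtain ⟨gx', gy', e', gxy', h1', h2', h3', h4', hs'⟩ := Groth.Agent.SqZeroLib.isSum_mul I X hI U.ι W hW V hV
      (hVle.trans (inf_le_left.trans inf_le_left)) (hVle.trans (inf_le_left.trans inf_le_right))
      (hVle.trans inf_le_right) hd (hcong g' hg') (hcong g hg)
    have : IsAffine W := hW
    obtain rfl : gx' = gy := by rw [← cancel_mono W.ι, h1', h2]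
    obtain rfl : gy' = gx := by rw [← cancel_mono W.ι, h2', h1]
    obtain rfl : e' = e := by rw [← cancel_mono W.ι, h3', h3]
    rw [← h4, ← h4', hs.eq (a' := gxy') fun x => (hs' x).trans (by ring)]
  choose U hmem hUeq using key
  apply Over.OverMorphism.ext
  refine (Y.left.openCoverOfIsOpenCover U (.mk (top_unique fun x _ => TopologicalSpace.Opens.mem_iSup.mpr ⟨x, hmem x⟩))).hom_ext _ _ fun y => hUeq y

end Groth.Agent.S8363
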