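import Groth.Statements.S8364
-- import your own Groth.Agent.* helpers here

set_option autoImplicit false
universe u
open SGA3

namespace Groth.Agent.S8364

/-- For a commutative ring R, an ideal J of R of square zero, a smooth R-algebra A and the extended
ideal I = J·A, every R-algebra automorphism of A/I lifts to an R-algebra automorphism of A. (The
published statement concerns the automorphism functor of a smooth affine S-scheme E and affine test
schemes Y; this row is the case Y = S = Spec R, E = Spec A, which gives the general one after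
replacing R by the ring of Y.) -/
theorem result (R A : Type u) [CommRing R] [CommRing A] [Algebra R A]
    [Algebra.Smooth R A] (J : Ideal R) (hJ : J * J = ⊥)
    (φ₀ : (A ⧸ Ideal.map (algebraMap R A) J) ≃ₐ[R] (A ⧸ Ideal.map (algebraMap R A) J)) :
    ∃ φ : A ≃ₐ[R] A,
      (Ideal.Quotient.mkₐ R (Ideal.map (algebraMap R A) J)).comp φ.toAlgHom =
        φ₀.toAlgHom.comp (Ideal.Quotient.mkₐ R (Ideal.map (algebraMap R A) J)) := by
  revert φ₀
  generalize hI' : Ideal.map (algebraMap R A) J = I
  intro φ₀
  have hI : I = Ideal.map (algebraMap R A) J := hI'.symm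
  have hI2 : I * I = ⊥ := by rw [hI, ← Ideal.map_mul, hJ, Ideal.map_bot]
  have hnil : IsNilpotent I := ⟨2, by rw [pow_two, hI2]; rfl⟩
  let q := Ideal.Quotient.mkₐ R I
  let φ : A →ₐ[R] A := Algebra.FormallySmooth.lift I hnil (φ₀.toAlgHom.comp q)
  let ψ : A →ₐ[R] A := Algebra.FormallySmooth.lift I hnil (φ₀.symm.toAlgHom.comp q)
  have hφ : q.comp φ = φ₀.toAlgHom.comp q := Algebra.FormallySmooth.comp_lift I hnil _
  have hψ : q.comp ψ = φ₀.symm.toAlgHom.comp q := Algebra.FormallySmooth.comp_lift I hnil _
  -- an endomorphism congruent to the identity is bijective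
  have main : ∀ χ : A →ₐ[R] A, q.comp χ = q → Function.Bijective χ := by
    intro χ hχ
    have hmem : ∀ a : A, χ a - a ∈ I := fun a => by
      rw [← Ideal.Quotient.eq]; exact AlgHom.congr_fun hχ a
    have hker : ∀ x ∈ I, χ x = x := by
      intro x hx
      have hx' : x ∈ I.restrictScalars R := hx
      rw [hI, ← Ideal.smul_top_eq_map] at hx'
      induction hx' using Submodule.smul_induction_on' with
      | smul j hj a _ =>
        rw [Algebra.smul_def, map_mul, AlgHom.commutes, ← sub_eq_zero, ← mul_sub, ← Ideal.mem_bot,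
          ← hI2]
        exact Ideal.mul_mem_mul (hI' ▸ Ideal.mem_map_of_mem (algebraMap R A) hj) (hmem a)
      | add a ha b hb iha ihb =>
        rw [Ideal.smul_top_eq_map, hI'] at ha hb
        rw [map_add, iha ha, ihb hb]
    refine ⟨fun a b hab => ?_, fun a => ⟨a - (χ a - a), ?_⟩⟩
    · have h1 : a - b ∈ I := by
        have h2 := I.sub_mem (hmem b) (hmem a)
        convert h2 using 1
        rw [hab]; ring
      have h3 := hker _ h1
      rw [map_sub, hab, sub_self] at h3
      exact sub_eq_zero.mp h3.symm
    · rw [map_sub, hker _ (hmem a), sub_sub_cancel]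
  have h1 : Function.Bijective (ψ.comp φ) := main _ (by
    rw [← AlgHom.comp_assoc, hψ, AlgHom.comp_assoc, hφ]
    ext a; simp)
  have h2 : Function.Bijective (φ.comp ψ) := main _ (by
    rw [← AlgHom.comp_assoc, hφ, AlgHom.comp_assoc, hψ]
    ext a; simp)
  have hbij : Function.Bijective φ :=
    ⟨Function.Injective.of_comp (f := ψ) h1.1, Function.Surjective.of_comp (g := ψ) h2.2⟩
  refine ⟨AlgEquiv.ofBijective φ hbij, ?_⟩
  ext a
  exact AlgHom.congr_fun hφ a


end Groth.Agent.S8364
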