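import Groth.Statements.S8365
import Groth.Agent.LieSLib.Basic

set_option autoImplicit false
universe u
open CategoryTheory MonObj AlgebraicGeometry
open LieS

namespace Groth.Agent.S8365

open Groth.Agent.LieSLib

/-- For a monoid scheme X over a scheme S (an associative unital monoid object in S-schemes) and an
affine S-scheme T = Spec B, a point of X with values in the dual numbers over T is invertible if and
only if its restriction along the zero section ε = 0 is invertible in X(T); in particular every such
point restricting to the unit section is invertible. (The published statement is for monoid-valued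
functors satisfying a tangent-space exactness condition, which every representable functor
satisfies, and its special case where the restriction is the unit section allows unital composition
laws that need not be associative; this row treats monoid schemes only.) -/
theorem result (S : Scheme.{u}) (X : Over S) [MonObj X] (B : Type u) [CommRing B]
    (f : Spec (CommRingCat.of B) ⟶ S) (v : LieS.dpt B f ⟶ X) :
    IsUnit v ↔ IsUnit (LieS.zeroSec B f ≫ v) := by
  constructor
  · rintro ⟨⟨a, b, hab, hba⟩, rfl⟩
    exact ⟨⟨zeroSec B f ≫ a, zeroSec B f ≫ b, by rw [← comp_mul, hab, comp_one],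
      by rw [← comp_mul, hba, comp_one]⟩, rfl⟩
  · rintro ⟨⟨a, b, hab, hba⟩, (ha : a = zeroSec B f ≫ v)⟩
    have hu : IsUnit (proj B f ≫ a) :=
      ⟨⟨proj B f ≫ a, proj B f ≫ b, by rw [← comp_mul, hab, comp_one], by rw [← comp_mul, hba, comp_one]⟩, rfl⟩
    set w := (proj B f ≫ b) * v
    have hw : zeroSec B f ≫ w = 1 := by
      simp only [w, comp_mul]
      rw [← Category.assoc, zeroSec_proj, Category.id_comp, ← ha, hba]
    have hwu : IsUnit w := ⟨⟨w, _, (mul_scale_neg_one f hw).1, (mul_scale_neg_one f hw).2⟩, rfl⟩
    have e : v = (proj B f ≫ a) * w := by
      simp only [w]
      rw [← _root_.mul_assoc, ← comp_mul, hab, comp_one, _root_.one_mul]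
    rw [e]; exact hu.mul hwu

end Groth.Agent.S8365
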