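import Groth.Statements.S8366
import Groth.Agent.GrpSchLib.LiftLaw
-- import your own Groth.Agent.* helpers here

set_option autoImplicit false
universe u
open CategoryTheory MonoidalCategory MonObj AlgebraicGeometry
open SGA3

namespace Groth.Agent.S8366

/-- Over an affine base S = Spec R with S₀ = Spec (R/I) for a nilpotent ideal I: let X be an S-scheme
which is flat and either quasi-compact or locally of finite presentation over S, and P : X ×_S X → X
a composition law. If P is associative and its base change to S₀ is the multiplication of some
group-scheme structure on X ×_S S₀, then P is the multiplication of a group-scheme structure on X.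
(The published statement is over an arbitrary base scheme with S₀ defined by a nilpotent
quasi-coherent ideal; this row is its case of an affine base.) -/
theorem result (R : Type u) [CommRing R] (I : Ideal R)
    (hI : IsNilpotent I) (X : Over (Spec (CommRingCat.of R))) [Flat X.hom]
    (hX : QuasiCompact X.hom ∨ LocallyOfFinitePresentation X.hom) (P : X ⊗ X ⟶ X)
    (hassoc : (P ▷ X) ≫ P = (α_ X X X).hom ≫ (X ◁ P) ≫ P)
    (h0 : ∃ _ : GrpObj ((Over.pullback (Spec.map (CommRingCat.ofHom (Ideal.Quotient.mk I)))).obj X),
      μ[(Over.pullback (Spec.map (CommRingCat.ofHom (Ideal.Quotient.mk I)))).obj X] =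
        Functor.LaxMonoidal.μ (Over.pullback (Spec.map (CommRingCat.ofHom (Ideal.Quotient.mk I)))) X X ≫ (Over.pullback (Spec.map (CommRingCat.ofHom (Ideal.Quotient.mk I)))).map P) :
    ∃ _ : GrpObj X, μ[X] = P := by
  obtain ⟨str, hμ⟩ := h0
  exact GrpSchLib.LiftLaw.exists_grpObj_of_mod_nilpotent I hI hX P hassoc hμ

end Groth.Agent.S8366
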