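import Mathlib.RingTheory.Flat.Equalizer
import Mathlib.LinearAlgebra.TensorProduct.Quotient
import Groth.Statements.S8369
-- import your own Groth.Agent.* helpers here

set_option autoImplicit false
universe u v
open SGA3

namespace Groth.Agent.S8369

/-- Let A be a commutative ring, J a nilpotent ideal, N ⊆ M A-modules with M/N flat over A. If elements
of N have images generating the image of N in M/JM, then they generate N. (The published statement
takes finitely many elements; this row allows an arbitrary set, which the same argument permits.) -/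
theorem result (A : Type u) [CommRing A] (J : Ideal A) (hJ : IsNilpotent J)
    (M : Type v) [AddCommGroup M] [Module A M] (N : Submodule A M) [Module.Flat A (M ⧸ N)] (s : Set M)
    (hs : s ⊆ N)
    (hgen : (Submodule.span A s).map (J • (⊤ : Submodule A M)).mkQ = N.map (J • (⊤ : Submodule A M)).mkQ) :
    Submodule.span A s = N := by
  set S := Submodule.span A s with hS
  have hSN : S ≤ N := Submodule.span_le.mpr hs
  -- `JM ∩ N = JN` by flatness of `M ⧸ N`
  have key : ∀ x ∈ N, x ∈ J • (⊤ : Submodule A M) → x ∈ J • N := by
    intro x hx hxJ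
    have hinj : Function.Injective (N.subtype.lTensor (A ⧸ J)) :=
      LinearMap.lTensor_injective_of_exact_of_flat N.mkQ N.mkQ_surjective N.subtype
        N.injective_subtype (LinearMap.exact_subtype_mkQ N) (A ⧸ J)
    have h0 : (1 : A ⧸ J) ⊗ₜ[A] x = 0 := by
      rw [← TensorProduct.quotTensorEquivQuotSMul_symm_mk J x,
        (Submodule.Quotient.mk_eq_zero _).mpr hxJ, map_zero]
    have h1 : (1 : A ⧸ J) ⊗ₜ[A] (⟨x, hx⟩ : N) = 0 := by
      apply hinj
      rw [map_zero, LinearMap.lTensor_tmul]
      exact h0
    have h2 : (⟨x, hx⟩ : N) ∈ J • (⊤ : Submodule A N) := by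
      rw [← Submodule.Quotient.mk_eq_zero]
      have := congrArg (TensorProduct.quotTensorEquivQuotSMul N J) h1
      rw [TensorProduct.quotTensorEquivQuotSMul_mk_one_tmul, map_zero] at this
      exact this
    have h3 := Submodule.mem_map_of_mem (f := N.subtype) h2
    rw [Submodule.map_smul'', Submodule.map_top, Submodule.range_subtype] at h3
    exact h3
  -- `N = S + JN`
  have step : N ≤ S ⊔ J • N := by
    intro x hx
    have : (J • (⊤ : Submodule A M)).mkQ x ∈ S.map (J • (⊤ : Submodule A M)).mkQ := by
      rw [hgen]; exact Submodule.mem_map_of_mem hx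
    obtain ⟨y, hy, hyx⟩ := this
    have hd : x - y ∈ J • (⊤ : Submodule A M) := by
      rw [← Submodule.Quotient.eq]; exact hyx.symm
    have hx' : x = y + (x - y) := by abel
    rw [hx']
    exact Submodule.add_mem_sup hy (key _ (N.sub_mem hx (hSN hy)) hd)
  have main : ∀ n : ℕ, N ≤ S ⊔ J ^ n • N := by
    intro n
    induction n with
    | zero => simp
    | succ n ih =>
      refine ih.trans (sup_le le_sup_left ?_)
      calc J ^ n • N ≤ J ^ n • (S ⊔ J • N) := Submodule.smul_mono le_rfl step
        _ = J ^ n • S ⊔ J ^ n • (J • N) := Submodule.smul_sup _ _ _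
        _ ≤ S ⊔ J ^ (n + 1) • N := by
          refine sup_le_sup Submodule.smul_le_right ?_
          rw [pow_succ, Submodule.mul_smul]
  obtain ⟨n, hn⟩ := hJ
  refine le_antisymm hSN ?_
  simpa [hn] using main n


end Groth.Agent.S8369
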