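import Groth.Statements.S8370
import Groth.Agent.LieSLib.Basic

set_option autoImplicit false
universe u
open CategoryTheory MonObj AlgebraicGeometry
open LieS

namespace Groth.Agent.S8370

open Groth.Agent.LieSLib

/-- For a group scheme G over a scheme S (the group law of the Lie algebra functor of a group scheme is
commutative, which the published statement assumes), a sub-group-scheme K of G given by a
monomorphic homomorphism i, and an affine S-scheme T = Spec B: an element x of Lie(G/S)(T) belongs
to the Lie algebra of the centraliser of K, i.e. the point x of G with values in the dual numbers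
I_T commutes with every point of K with values in any scheme over I_T, if and only if x is fixed by
the adjoint action of every point of K with values in an affine scheme T' = Spec B' over T (acting
on the restriction of x to T'). -/
theorem result (S : Scheme.{u}) (G K : Over S) [GrpObj G] [GrpObj K] (i : K ⟶ G)
    [IsMonHom i] [Mono i] (B : Type u) [CommRing B] (f : Spec (CommRingCat.of B) ⟶ S) (x : LieS.Lie G B f) :
    (∀ (X' : Over S) (y : X' ⟶ LieS.dpt B f) (h : X' ⟶ K), (y ≫ x.1) * (h ≫ i) = (h ≫ i) * (y ≫ x.1)) ↔
    (∀ (B' : Type u) [CommRing B'] (h : B →+* B')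
      (k : LieS.pt B' (Spec.map (CommRingCat.ofHom h) ≫ f) ⟶ K),
      LieS.Ad G B' (Spec.map (CommRingCat.ofHom h) ≫ f) (k ≫ i) (LieS.pull G f h x) = LieS.pull G f h x) := by
  constructor
  · intro H B' _ h k
    have e := H _ (dptMap f h) (proj B' _ ≫ k)
    apply Subtype.ext
    show (proj B' _ ≫ k ≫ i) * (dptMap f h ≫ x.1) * (proj B' _ ≫ k ≫ i)⁻¹ = dptMap f h ≫ x.1
    rw [Category.assoc] at e
    rw [← e, mul_inv_cancel_right]
  · intro H X' y hK
    have key : ∀ (C : Type u) [CommRing C] (j : Spec (CommRingCat.of C) ⟶ X'.left),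
        j ≫ ((y ≫ x.1) * (hK ≫ i)).left = j ≫ ((hK ≫ i) * (y ≫ x.1)).left := by
      intro C _ j
      obtain ⟨ρ, hρ⟩ := Spec.map_surjective
        (j ≫ y.left : Spec (CommRingCat.of C) ⟶ Spec (CommRingCat.of (DualNumber B)))
      let h0 : B →+* C := ρ.hom.comp (algebraMap B (DualNumber B))
      have hj : j ≫ X'.hom = Spec.map (CommRingCat.ofHom h0) ≫ f := by
        have e1 : j ≫ X'.hom =
            Spec.map ρ ≫ (Spec.map (CommRingCat.ofHom (algebraMap B (DualNumber B))) ≫ f) := by
          rw [← Over.w y, hρ]
          exact (Category.assoc _ _ _).symm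
        rw [e1, ← Category.assoc, ← Spec.map_comp]
        rfl
      let f' := Spec.map (CommRingCat.ofHom h0) ≫ f
      let jm : pt C f' ⟶ X' := Over.homMk j hj
      have hc : ρ.hom DualNumber.eps * ρ.hom DualNumber.eps = 0 := by
        rw [← map_mul, eps_sq, map_zero]
      let σ : DualNumber C →+* C := dualHom (RingHom.id C) (ρ.hom DualNumber.eps) hc
      have hσ : σ.comp (algebraMap C (DualNumber C)) = RingHom.id C := dualHom_comp_algebraMap _ _ _
      let σm : pt C f' ⟶ dpt C f' := Over.homMk (Spec.map (CommRingCat.ofHom σ)) (by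
        change Spec.map _ ≫ Spec.map _ ≫ f' = f'
        rw [← Category.assoc, specMap_comp, hσ, CommRingCat.ofHom_id]
        erw [Spec.map_id]; exact Category.id_comp f')
      have hσp : σm ≫ proj C f' = 𝟙 _ := by
        ext; change Spec.map _ ≫ Spec.map _ = 𝟙 _
        rw [specMap_comp, hσ, CommRingCat.ofHom_id]; erw [Spec.map_id]
      have hσd : σm ≫ dptMap f h0 = jm ≫ y := by
        ext; change Spec.map _ ≫ Spec.map _ = j ≫ y.left
        refine Eq.trans ?_ hρ
        rw [specMap_comp]
        congr 1
        refine CommRingCat.hom_ext (RingHom.ext fun (z : DualNumber B) => ?_)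
        conv_rhs => rw [show z = algebraMap B (DualNumber B) z.fst + algebraMap B (DualNumber B) z.snd * DualNumber.eps by
          ext <;> simp [TrivSqZeroExt.algebraMap_eq_inl']]
        simp [σ, bcHom, h0, TrivSqZeroExt.algebraMap_eq_inl']
      have e := congrArg Subtype.val (H C h0 (jm ≫ hK))
      change (proj C f' ≫ (jm ≫ hK) ≫ i) * (dptMap f h0 ≫ x.1) * (proj C f' ≫ (jm ≫ hK) ≫ i)⁻¹ =
        dptMap f h0 ≫ x.1 at e
      have e' := congrArg (σm ≫ ·) (mul_inv_eq_iff_eq_mul.mp e)
      simp only [comp_mul] at e'
      rw [← Category.assoc σm (proj C f'), hσp, Category.id_comp, ← Category.assoc σm (dptMap f h0),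
        hσd] at e'
      have e'' : jm ≫ ((y ≫ x.1) * (hK ≫ i)) = jm ≫ ((hK ≫ i) * (y ≫ x.1)) := by
        simp only [comp_mul, ← Category.assoc]
        exact e'.symm
      exact congrArg (fun g => g.left) e''
    exact Over.OverMorphism.ext (Scheme.Cover.hom_ext X'.left.affineCover _ _ fun a => key _ _)

end Groth.Agent.S8370
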