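import Groth.Statements.S8373
import Groth.Agent.AdFibre.Basic

set_option autoImplicit false
universe u
open scoped TensorProduct
open SGA3t2b

namespace Groth.Agent.S8373

/-- Over an affine base Spec A: let L be a Lie algebra over A which is a finitely generated projective
A-module, H a Cartan subalgebra of L relative to A, a an element of H which is quasi-regular in L,
and u an automorphism of the Lie algebra L over A. Then u(H) = H if and only if u(a) ∈ H. -/
theorem result {A : Type u} [CommRing A] {L : Type u} [LieRing L]
    [LieAlgebra A L] [Module.Finite A L] [Module.Projective A L]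
    (H : LieSubalgebra A L) (hH : SGA3t2b.IsCartanRel H) (a : L) (haH : a ∈ H)
    (ha : SGA3t2b.IsQuasiRegular A L a) (u : L ≃ₗ⁅A⁆ L) :
    H.map u.toLieHom = H ↔ u a ∈ H := by
  constructor
  · intro h
    rw [← h]
    exact ⟨a, haH, rfl⟩
  · intro hua
    have hconj : ∀ (n : ℕ) (x : L), u (((LieAlgebra.ad A L a) ^ n) x) =
        ((LieAlgebra.ad A L (u a)) ^ n) (u x) := by
      intro n
      induction n with
      | zero => simp
      | succ n ih =>
        intro x
        rw [pow_succ, pow_succ, Module.End.mul_apply, Module.End.mul_apply, ih, LieAlgebra.ad_apply,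
          LieAlgebra.ad_apply]
        exact congrArg _ (u.toLieHom.map_lie a x)
    have hua' : SGA3t2b.IsQuasiRegular A L (u a) := by
      intro p
      have h := ha p
      rw [LieAlgebra.isRegular_def] at h ⊢
      let e := (u.toLinearEquiv).baseChange A p.asIdeal.ResidueField _ _
      have he : e.conj (LieAlgebra.ad p.asIdeal.ResidueField (p.asIdeal.ResidueField ⊗[A] L)
          ((1 : p.asIdeal.ResidueField) ⊗ₜ[A] a)) =
          LieAlgebra.ad p.asIdeal.ResidueField (p.asIdeal.ResidueField ⊗[A] L)
          ((1 : p.asIdeal.ResidueField) ⊗ₜ[A] u a) := by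
        ext x
        simp only [e, LinearEquiv.conj_apply]
        simp
        congr 1
        exact (u.toLieHom.map_lie a (u.symm x)).trans (congrArg (fun y => ⁅u a, y⁆) (u.apply_symm_apply x))
      rw [← he, LinearEquiv.charpoly_conj]
      exact h
    rw [AdFibre.eq_engel hH haH ha]
    conv_rhs => rw [← AdFibre.eq_engel hH haH ha, AdFibre.eq_engel hH hua hua']
    ext x
    simp only [LieSubalgebra.mem_map, LieSubalgebra.mem_engel_iff]
    constructor
    · rintro ⟨y, ⟨n, hn⟩, rfl⟩
      refine ⟨n, ?_⟩
      have := hconj n y
      rw [hn, map_zero] at this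
      exact this.symm
    · rintro ⟨n, hn⟩
      refine ⟨u.symm x, ⟨n, u.injective ?_⟩, by simp⟩
      change u _ = u 0
      rw [hconj, map_zero]
      simpa using hn

end Groth.Agent.S8373
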