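import Groth.Statements.S8375
import Groth.Agent.AdFibre.Basic

set_option autoImplicit false
universe u
open scoped TensorProduct
open SGA3t2b

namespace Groth.Agent.S8375

/-- Over an affine base Spec A: let L be a Lie algebra over A which is a finitely generated projective
A-module, such that the nilpotent rank of the fibre Lie algebras κ(p) ⊗ L is a locally constant
function of p ∈ Spec A. Then for every a ∈ L the set of primes p at which 1 ⊗ a is a regular element
of κ(p) ⊗ L is open in Spec A. (The published statement is over an arbitrary base and first asserts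
that the locus of regular elements in the vector bundle of L is open; this row states its
consequence for a given section a, over an affine base.) -/
theorem result {A : Type u} [CommRing A] {L : Type u} [LieRing L]
    [LieAlgebra A L] [Module.Finite A L] [Module.Projective A L]
    (hC0 : ∀ p : PrimeSpectrum A, ∃ f : A, f ∉ p.asIdeal ∧ ∀ q : PrimeSpectrum A, f ∉ q.asIdeal →
        LieAlgebra.rank q.asIdeal.ResidueField (q.asIdeal.ResidueField ⊗[A] L) =
          LieAlgebra.rank p.asIdeal.ResidueField (p.asIdeal.ResidueField ⊗[A] L)) (a : L) :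
    IsOpen {p : PrimeSpectrum A |
      LieAlgebra.IsRegular p.asIdeal.ResidueField ((1 : p.asIdeal.ResidueField) ⊗ₜ[A] a)} := by
  obtain ⟨n, P, -, hP⟩ := AdFibre.exists_charpoly (LieAlgebra.ad A L a)
  haveI : Module.FinitePresentation A L := Module.finitePresentation_of_projective A L
  rw [isOpen_iff_forall_mem_open]
  intro p hp
  obtain ⟨f, hf, hrank⟩ := hC0 p
  set r := LieAlgebra.rank p.asIdeal.ResidueField (p.asIdeal.ResidueField ⊗[A] L)
  set d := Module.finrank p.asIdeal.ResidueField (p.asIdeal.ResidueField ⊗[A] L)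
  have key : ∀ q : PrimeSpectrum A, f ∉ q.asIdeal → Module.rankAtStalk L q = d →
      (LieAlgebra.IsRegular q.asIdeal.ResidueField ((1 : q.asIdeal.ResidueField) ⊗ₜ[A] a) ↔
        ∃ i, i + d = r + n ∧ P.coeff i ∉ q.asIdeal) := by
    intro q hqf hqd
    rw [Module.rankAtStalk_eq] at hqd
    rw [LieAlgebra.isRegular_def, hrank q hqf]
    have hq := congrArg (fun Q => Q.coeff (r + n)) (hP q)
    rw [hqd] at hq
    rw [Polynomial.coeff_X_pow_mul] at hq
    have h5 : LieAlgebra.ad q.asIdeal.ResidueField (q.asIdeal.ResidueField ⊗[A] L)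
        ((1 : q.asIdeal.ResidueField) ⊗ₜ[A] a) =
        (LieAlgebra.ad A L a).baseChange _ := LieModule.toEnd_baseChange _ _ _ _ a
    rw [h5, ← hq]
    by_cases hd : d ≤ r + n
    · rw [Polynomial.coeff_X_pow_mul', if_pos hd, Polynomial.coeff_map,
        ne_eq, Ideal.algebraMap_residueField_eq_zero]
      refine ⟨fun h => ⟨r + n - d, by omega, h⟩, ?_⟩
      rintro ⟨i, hi, h⟩
      rwa [show r + n - d = i by omega]
    · rw [Polynomial.coeff_X_pow_mul', if_neg hd]
      simp only [ne_eq, not_true_eq_false, false_iff, not_exists, not_and]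
      intro i hi
      omega
  have hpd : Module.rankAtStalk L p = d := Module.rankAtStalk_eq p
  obtain ⟨i, hi, hpi⟩ := (key p hf hpd).mp hp
  refine ⟨{q | f ∉ q.asIdeal} ∩ {q | P.coeff i ∉ q.asIdeal} ∩ (Module.rankAtStalk L) ⁻¹' {d},
    ?_, ?_, ⟨hf, hpi⟩, hpd⟩
  · rintro q ⟨⟨hqf, hqi⟩, hqd⟩
    exact (key q hqf hqd).mpr ⟨i, hi, hqi⟩
  · exact ((PrimeSpectrum.basicOpen f).isOpen.inter (PrimeSpectrum.basicOpen (P.coeff i)).isOpen).inter
      (Module.isLocallyConstant_rankAtStalk.isOpen_fiber d)

end Groth.Agent.S8375
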