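import Groth.Statements.S8374
import Groth.Agent.AdFibre.Section
import Groth.Agent.S8375

set_option autoImplicit false
universe u
open scoped TensorProduct
open SGA3t2b

namespace Groth.Agent.S8374

/-- Over an affine base Spec A: let L be a Lie algebra over A which is a finitely generated projective
A-module, H a Cartan subalgebra of L relative to A, and p a prime of A whose residue field is
infinite. Then there are f ∈ A with f ∉ p and an element a ∈ H such that a is a regular element of
every fibre κ(q) ⊗ L with f ∉ q, H is contained in the Engel subalgebra Nil(a, L), and every element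
of Nil(a, L) is carried into H by some power of f; that is, over the basic open set D(f) the section
a is regular and H coincides with Nil(a, L). (The published statement gives a regular section of H
over some open neighbourhood of p; this row takes a global element of H and a basic open
neighbourhood D(f), which is equivalent over an affine base because multiplying by a function
invertible on D(f) does not change regularity.) -/
theorem result {A : Type u} [CommRing A] {L : Type u} [LieRing L]
    [LieAlgebra A L] [Module.Finite A L] [Module.Projective A L]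
    (H : LieSubalgebra A L) (hH : SGA3t2b.IsCartanRel H) (p : PrimeSpectrum A)
    (hp : Infinite p.asIdeal.ResidueField) :
    ∃ f : A, f ∉ p.asIdeal ∧ ∃ a : L, a ∈ H ∧
      (∀ q : PrimeSpectrum A, f ∉ q.asIdeal →
        LieAlgebra.IsRegular q.asIdeal.ResidueField ((1 : q.asIdeal.ResidueField) ⊗ₜ[A] a)) ∧
      H ≤ LieSubalgebra.engel A a ∧
      ∀ y : L, y ∈ LieSubalgebra.engel A a → ∃ n : ℕ, f ^ n • y ∈ H := by
  have := hp
  obtain ⟨a, haH, ha⟩ := AdFibre.exists_regular_mem H hH p
  classical
  have hproj := hH.1
  obtain ⟨σ, hσ⟩ := Module.projective_lifting_property H.toSubmodule.mkQ LinearMap.id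
    H.toSubmodule.mkQ_surjective
  let π : L →ₗ[A] H.toSubmodule :=
    (LinearMap.id - σ ∘ₗ H.toSubmodule.mkQ).codRestrict H.toSubmodule (fun x => by
    rw [← Submodule.Quotient.mk_eq_zero]
    change H.toSubmodule.mkQ (x - σ (H.toSubmodule.mkQ x)) = 0
    rw [map_sub]
    exact sub_eq_zero.mpr (LinearMap.congr_fun hσ (H.toSubmodule.mkQ x)).symm)
  have hπ : π ∘ₗ H.toSubmodule.subtype = LinearMap.id := by
    ext x
    change (x : L) - σ (H.toSubmodule.mkQ (x : L)) = (x : L)
    rw [show H.toSubmodule.mkQ (x : L) = 0 from (Submodule.Quotient.mk_eq_zero _).mpr x.2,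
      map_zero, sub_zero]
  have : Module.Finite A H.toSubmodule :=
    Module.Finite.of_surjective π (fun x => ⟨x, LinearMap.congr_fun hπ x⟩)
  have : Module.Projective A H.toSubmodule := Module.Projective.of_split H.toSubmodule.subtype π hπ
  have : Module.FinitePresentation A H.toSubmodule := Module.finitePresentation_of_projective A _
  have key : Module.rankAtStalk H.toSubmodule = fun q : PrimeSpectrum A =>
      LieAlgebra.rank q.asIdeal.ResidueField (q.asIdeal.ResidueField ⊗[A] L) := by
    funext q
    rw [Module.rankAtStalk_eq, ← LinearMap.finrank_range_of_inj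
      (AdFibre.baseChange_subtype_injective (N := H.toSubmodule) q.asIdeal.ResidueField)]
    exact (hH.2 q).2.2
  have hlc := Module.isLocallyConstant_rankAtStalk (R := A) (M := H.toSubmodule)
  rw [key] at hlc
  have hC0 : ∀ p : PrimeSpectrum A, ∃ f : A, f ∉ p.asIdeal ∧ ∀ q : PrimeSpectrum A, f ∉ q.asIdeal →
      LieAlgebra.rank q.asIdeal.ResidueField (q.asIdeal.ResidueField ⊗[A] L) =
        LieAlgebra.rank p.asIdeal.ResidueField (p.asIdeal.ResidueField ⊗[A] L) := by
    intro p
    obtain ⟨_, ⟨f, rfl⟩, hpf, hsub⟩ :=
      PrimeSpectrum.isTopologicalBasis_basic_opens.exists_subset_of_mem_open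
        (a := p) (by exact rfl)
        (hlc.isOpen_fiber (LieAlgebra.rank p.asIdeal.ResidueField (p.asIdeal.ResidueField ⊗[A] L)))
    exact ⟨f, hpf, fun q hq => hsub hq⟩
  have hopen := S8375.result hC0 a
  obtain ⟨_, ⟨f, rfl⟩, hpf, hsub⟩ :=
    PrimeSpectrum.isTopologicalBasis_basic_opens.exists_subset_of_mem_open (show p ∈ _ from ha) hopen
  exact ⟨f, hpf, a, haH, fun q hq => hsub hq, AdFibre.le_engel hH haH,
    AdFibre.exists_pow_smul_mem hH haH f fun q hq => hsub hq⟩

end Groth.Agent.S8374
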