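import Groth.Statements.S8377
import Groth.Agent.AdFibre.Engel
import Groth.Agent.S8375
import Mathlib.RingTheory.Etale.Pi
import Mathlib.RingTheory.Smooth.Flat
import Mathlib.RingTheory.Flat.FaithfullyFlat.Algebra

set_option autoImplicit false
universe u
open scoped TensorProduct
open SGA3t2b

namespace Groth.Agent.S8377

/-- Let L be a Lie algebra over the commutative ring A which is a finitely generated projective
A-module. Suppose that the nilpotent rank of the fibres κ(p) ⊗ L is locally constant on Spec A, that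
for every A-algebra A' every quasi-regular element of A' ⊗ L is regular (condition (C₂)), and that
every fibre κ(p) ⊗ L has a regular element (automatic when every residue field of A is infinite).
Then L acquires a relative Cartan subalgebra after a faithfully flat etale base change A → A'
(condition (C′₁)). (The published implication (C₂) ⇒ (C′₁) is over an arbitrary base and has no
hypothesis on regular elements of the fibres; this row is over an affine base and assumes every
fibre has a regular element, the case in which the published argument, through the existence of a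
Cartan subalgebra Zariski-locally near each such point, is complete.) -/
theorem result {A : Type u} [CommRing A] {L : Type u} [LieRing L]
    [LieAlgebra A L] [Module.Finite A L] [Module.Projective A L]
    (hC2 : ((∀ p : PrimeSpectrum A, ∃ f : A, f ∉ p.asIdeal ∧ ∀ q : PrimeSpectrum A, f ∉ q.asIdeal →
        LieAlgebra.rank q.asIdeal.ResidueField (q.asIdeal.ResidueField ⊗[A] L) =
          LieAlgebra.rank p.asIdeal.ResidueField (p.asIdeal.ResidueField ⊗[A] L)) ∧
      ∀ (A' : Type u) [CommRing A'] [Algebra A A'] (a' : A' ⊗[A] L),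
        SGA3t2b.IsQuasiRegular A' (A' ⊗[A] L) a' → SGA3t2b.IsRegularRel A' (A' ⊗[A] L) a'))
    (hreg : ∀ p : PrimeSpectrum A, ∃ x : p.asIdeal.ResidueField ⊗[A] L, LieAlgebra.IsRegular p.asIdeal.ResidueField x) :
    ∃ (A' : Type u) (_ : CommRing A') (_ : Algebra A A'), Algebra.Etale A A' ∧ Module.FaithfullyFlat A A' ∧
        ∃ H : LieSubalgebra A' (A' ⊗[A] L), SGA3t2b.IsCartanRel H := by
  classical
  have hloc : ∀ p : PrimeSpectrum A, ∃ (a : L) (f : A), f ∉ p.asIdeal ∧ ∀ q : PrimeSpectrum A, f ∉ q.asIdeal →
      LieAlgebra.IsRegular q.asIdeal.ResidueField ((1 : q.asIdeal.ResidueField) ⊗ₜ[A] a) := by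
    intro p
    obtain ⟨x, hx⟩ := hreg p
    obtain ⟨c, a, hc, rfl⟩ := AdFibre.exists_eq_smul_tmul p.asIdeal x
    rw [AdFibre.isRegular_smul hc] at hx
    obtain ⟨_, ⟨f, rfl⟩, hpf, hsub⟩ :=
      PrimeSpectrum.isTopologicalBasis_basic_opens.exists_subset_of_mem_open (show p ∈ _ from hx)
        (S8375.result hC2.1 a)
    exact ⟨a, f, hpf, fun q hq => hsub hq⟩
  choose a f hf hreg' using hloc
  obtain ⟨t, ht⟩ := isCompact_univ.elim_finite_subcover
    (fun p => (PrimeSpectrum.basicOpen (f p) : Set (PrimeSpectrum A))) (fun p => (PrimeSpectrum.basicOpen (f p)).isOpen)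
    (fun p _ => Set.mem_iUnion.mpr ⟨p, hf p⟩)
  let A' := ∀ i : t, Localization.Away (f i.1)
  haveI : Algebra.Etale A A' := inferInstance
  let e : t → A' := fun i => Pi.single i 1
  have hu : ∀ i : t, IsUnit (algebraMap A A' (f i.1) i) := fun i => IsLocalization.Away.algebraMap_isUnit (f i.1)
  have hsum : ∀ q' : PrimeSpectrum A', ∃ i : t, e i ∉ q'.asIdeal ∧ (∀ j, j ≠ i → e j ∈ q'.asIdeal) ∧
      algebraMap A A' (f i.1) ∉ q'.asIdeal := by
    intro q'
    obtain ⟨i, hi⟩ : ∃ i, e i ∉ q'.asIdeal := by
      by_contra hall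
      push Not at hall
      refine q'.isPrime.ne_top ((Ideal.eq_top_iff_one _).mpr ?_)
      rw [show (1 : A') = ∑ i, e i from (Finset.univ_sum_single (1 : A')).symm]
      exact Ideal.sum_mem _ fun i _ => hall i
    refine ⟨i, hi, fun j hj => ?_, fun hfi => hi ?_⟩
    · refine (q'.isPrime.mem_or_mem (?_ : e i * e j ∈ q'.asIdeal)).resolve_left hi
      rw [show e i * e j = 0 from ?_]
      · exact Ideal.zero_mem _
      · funext k
        rw [Pi.mul_apply, Pi.zero_apply]
        by_cases hk : k = i
        · rw [show e j k = 0 from Pi.single_eq_of_ne (fun h => hj (h.symm.trans hk)) _, mul_zero]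
        · rw [show e i k = 0 from Pi.single_eq_of_ne hk _, zero_mul]
    · obtain ⟨v, hv⟩ := (hu i).exists_left_inv
      have : e i = Pi.single i v * algebraMap A A' (f i.1) := by
        funext k
        rw [Pi.mul_apply]
        by_cases hk : k = i
        · subst hk; rw [show e k k = 1 from Pi.single_eq_same _ _, Pi.single_eq_same, hv]
        · rw [show e i k = 0 from Pi.single_eq_of_ne hk _, Pi.single_eq_of_ne hk, zero_mul]
      rw [this]
      exact Ideal.mul_mem_left _ _ hfi
  haveI : Module.Flat A A' := inferInstance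
  haveI : Module.FaithfullyFlat A A' := Module.FaithfullyFlat.of_comap_surjective fun p => by
    obtain ⟨i, hi, hpi⟩ := Set.mem_iUnion₂.mp (ht (Set.mem_univ p))
    obtain ⟨r, hr⟩ : p ∈ Set.range (PrimeSpectrum.comap (algebraMap A (Localization.Away (f i)))) := by
      rw [PrimeSpectrum.localization_away_comap_range (Localization.Away (f i)) (f i)]; exact hpi
    refine ⟨PrimeSpectrum.comap (Pi.evalRingHom (fun j : t => Localization.Away (f j.1)) ⟨i, hi⟩) r, ?_⟩
    exact hr
  refine ⟨A', inferInstance, inferInstance, inferInstance, inferInstance, ?_⟩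
  let a' : A' ⊗[A] L := ∑ i : t, e i ⊗ₜ[A] a i.1
  have hq : SGA3t2b.IsQuasiRegular A' (A' ⊗[A] L) a' := by
    intro q'
    obtain ⟨i, hi, hj, hfi⟩ := hsum q'
    set K := q'.asIdeal.ResidueField
    have he : (1 : K) ⊗ₜ[A'] a' = algebraMap A' K (e i) • ((1 : K) ⊗ₜ[A'] ((1 : A') ⊗ₜ[A] a i.1)) := by
      rw [TensorProduct.tmul_sum, Finset.sum_eq_single i]
      · rw [algebraMap_smul, ← TensorProduct.tmul_smul, TensorProduct.smul_tmul', smul_eq_mul, mul_one]
      · intro j _ hji
        rw [show e j ⊗ₜ[A] a j.1 = e j • ((1 : A') ⊗ₜ[A] a j.1) by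
          rw [TensorProduct.smul_tmul', smul_eq_mul, mul_one], TensorProduct.tmul_smul,
          ← algebraMap_smul K (e j), Ideal.algebraMap_residueField_eq_zero.mpr (hj j hji), zero_smul]
      · simp
    rw [he, AdFibre.isRegular_smul (fun h => hi (Ideal.algebraMap_residueField_eq_zero.mp h)),
      AdFibre.isRegular_above A' _ q' rfl]
    exact hreg' i.1 _ hfi
  exact ⟨(hC2.2 _ _ hq).2.choose, (hC2.2 _ _ hq).2.choose_spec.1⟩

end Groth.Agent.S8377
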