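import Groth.Statements.S8378
import Groth.Agent.AdFibre.Engel
import Mathlib.RingTheory.Ideal.GoingDown

set_option autoImplicit false
universe u
open scoped TensorProduct
open SGA3t2b

namespace Groth.Agent.S8378

/-- Over an affine base Spec A: let L be a Lie algebra over A which is a finitely generated projective
A-module. If for some faithfully flat A-algebra A' the Lie algebra A' ⊗ L has a Cartan subalgebra
relative to A' (condition (C₁)), then the nilpotent rank of the fibres κ(p) ⊗ L is a locally
constant function of p ∈ Spec A (condition (C₀)). -/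
theorem result {A : Type u} [CommRing A] {L : Type u} [LieRing L]
    [LieAlgebra A L] [Module.Finite A L] [Module.Projective A L]
    (hC1 : ∃ (A' : Type u) (_ : CommRing A') (_ : Algebra A A'), Module.FaithfullyFlat A A' ∧
        ∃ H : LieSubalgebra A' (A' ⊗[A] L), SGA3t2b.IsCartanRel H) :
    ∀ p : PrimeSpectrum A, ∃ f : A, f ∉ p.asIdeal ∧ ∀ q : PrimeSpectrum A, f ∉ q.asIdeal →
        LieAlgebra.rank q.asIdeal.ResidueField (q.asIdeal.ResidueField ⊗[A] L) =
          LieAlgebra.rank p.asIdeal.ResidueField (p.asIdeal.ResidueField ⊗[A] L) := by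
  classical
  obtain ⟨A', _, _, hff, H, hH⟩ := hC1
  intro p
  let r : PrimeSpectrum A → ℕ := fun q =>
    LieAlgebra.rank q.asIdeal.ResidueField (q.asIdeal.ResidueField ⊗[A] L)
  have hproj := hH.1
  obtain ⟨σ, hσ⟩ := Module.projective_lifting_property H.toSubmodule.mkQ LinearMap.id
    H.toSubmodule.mkQ_surjective
  let π : (A' ⊗[A] L) →ₗ[A'] H.toSubmodule :=
    (LinearMap.id - σ ∘ₗ H.toSubmodule.mkQ).codRestrict H.toSubmodule (fun x => by
    rw [← Submodule.Quotient.mk_eq_zero]
    change H.toSubmodule.mkQ (x - σ (H.toSubmodule.mkQ x)) = 0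
    rw [map_sub]
    exact sub_eq_zero.mpr (LinearMap.congr_fun hσ (H.toSubmodule.mkQ x)).symm)
  have hπ : π ∘ₗ H.toSubmodule.subtype = LinearMap.id := by
    ext x
    change (x : A' ⊗[A] L) - σ (H.toSubmodule.mkQ (x : A' ⊗[A] L)) = (x : A' ⊗[A] L)
    rw [show H.toSubmodule.mkQ (x : A' ⊗[A] L) = 0 from (Submodule.Quotient.mk_eq_zero _).mpr x.2,
      map_zero, sub_zero]
  have : Module.Finite A' H.toSubmodule :=
    Module.Finite.of_surjective π (fun x => ⟨x, LinearMap.congr_fun hπ x⟩)
  have : Module.Projective A' H.toSubmodule := Module.Projective.of_split H.toSubmodule.subtype π hπ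
  have : Module.FinitePresentation A' H.toSubmodule := Module.finitePresentation_of_projective A' _
  have key : ∀ q' : PrimeSpectrum A', Module.rankAtStalk H.toSubmodule q' =
      r (PrimeSpectrum.comap (algebraMap A A') q') := by
    intro q'
    set q := PrimeSpectrum.comap (algebraMap A A') q' with hq
    let φ := Ideal.ResidueField.map q.asIdeal q'.asIdeal (algebraMap A A') rfl
    letI : Algebra q.asIdeal.ResidueField q'.asIdeal.ResidueField := φ.toAlgebra
    haveI : IsScalarTower A q.asIdeal.ResidueField q'.asIdeal.ResidueField :=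
      IsScalarTower.of_algebraMap_eq fun x => by
        rw [RingHom.algebraMap_toAlgebra, Ideal.ResidueField.map_algebraMap,
          ← IsScalarTower.algebraMap_apply A A' q'.asIdeal.ResidueField]
    rw [Module.rankAtStalk_eq,
      ← LinearMap.finrank_range_of_inj (AdFibre.baseChange_subtype_injective (N := H.toSubmodule) q'.asIdeal.ResidueField)]
    refine ((hH.2 q').2.2).trans ?_
    rw [AdFibre.rank_eq_of_lieEquiv ((AdFibre.cancelLie A A' q'.asIdeal.ResidueField L).trans
        (AdFibre.cancelLie A q.asIdeal.ResidueField q'.asIdeal.ResidueField L).symm),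
      AdFibre.rank_baseChange_field]
  have hlc : IsLocallyConstant (fun q' : PrimeSpectrum A' => r (PrimeSpectrum.comap (algebraMap A A') q')) := by
    have h := Module.isLocallyConstant_rankAtStalk (R := A') (M := H.toSubmodule)
    rwa [show Module.rankAtStalk (R := A') H.toSubmodule = _ from funext key] at h
  have hqm : Topology.IsQuotientMap (PrimeSpectrum.comap (algebraMap A A')) :=
    PrimeSpectrum.isQuotientMap_of_generalizingMap PrimeSpectrum.comap_surjective_of_faithfullyFlat
      (Algebra.HasGoingDown.iff_generalizingMap_primeSpectrumComap.mp inferInstance)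
  have hopen : IsOpen (r ⁻¹' {r p}) := hqm.isOpen_preimage.mp (hlc.isOpen_fiber (r p))
  obtain ⟨_, ⟨f, rfl⟩, hpf, hsub⟩ :=
    PrimeSpectrum.isTopologicalBasis_basic_opens.exists_subset_of_mem_open (rfl : r p ∈ ({r p} : Set ℕ)) hopen
  exact ⟨f, hpf, fun q hq => hsub hq⟩

end Groth.Agent.S8378
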