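import Groth.Statements.S8379
import Groth.Agent.AdFibre.Fitting

set_option autoImplicit false
universe u
open scoped TensorProduct
open SGA3t2b

namespace Groth.Agent.S8379

/-- Over an affine base Spec A with A reduced: let L be a Lie algebra over A which is a finitely
generated projective A-module whose fibres κ(p) ⊗ L have locally constant nilpotent rank on Spec A.
Then for every A-algebra A', every quasi-regular element of A' ⊗ L (regular in every fibre) is
regular: it lies in a Cartan subalgebra of A' ⊗ L relative to A' (over a reduced base, condition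
(C₀) implies condition (C₂)). -/
theorem result {A : Type u} [CommRing A] {L : Type u} [LieRing L]
    [LieAlgebra A L] [Module.Finite A L] [Module.Projective A L] [IsReduced A]
    (hC0 : ∀ p : PrimeSpectrum A, ∃ f : A, f ∉ p.asIdeal ∧ ∀ q : PrimeSpectrum A, f ∉ q.asIdeal →
        LieAlgebra.rank q.asIdeal.ResidueField (q.asIdeal.ResidueField ⊗[A] L) =
          LieAlgebra.rank p.asIdeal.ResidueField (p.asIdeal.ResidueField ⊗[A] L))
    (A' : Type u) [CommRing A'] [Algebra A A'] (a' : A' ⊗[A] L)
    (ha' : SGA3t2b.IsQuasiRegular A' (A' ⊗[A] L) a') :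
    SGA3t2b.IsRegularRel A' (A' ⊗[A] L) a' := by
  obtain ⟨N, U, hU, hN⟩ := AdFibre.exists_fitting hC0 A' a' ha'
  obtain ⟨e, he, hker, W, hW⟩ := AdFibre.fitting _ U hU hN
  set H := LieSubalgebra.engel A' a' with hH
  have hmem : ∀ x, x ∈ H ↔ e x = 0 := fun x => (LieSubalgebra.mem_engel_iff _ _ _).trans (hker x).symm
  have hee : ∀ x, e (e x) = e x := fun x => LinearMap.congr_fun he x
  have hsurj : ∀ y, ∃ z, ⁅a', z⁆ - y ∈ H := fun y => by
    refine ⟨W (e y), (hmem _).mpr ?_⟩
    have : ⁅a', W (e y)⁆ = e y := (LinearMap.congr_fun hW y).symm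
    rw [this, map_sub, hee, sub_self]
  let i : ((A' ⊗[A] L) ⧸ H.toSubmodule) →ₗ[A'] A' ⊗[A] L :=
    H.toSubmodule.liftQ e fun x hx => (hmem x).mp hx
  have : Module.Projective A' ((A' ⊗[A] L) ⧸ H.toSubmodule) := by
    refine Module.Projective.of_split i H.toSubmodule.mkQ ?_
    refine LinearMap.ext fun w => ?_
    obtain ⟨x, rfl⟩ := H.toSubmodule.mkQ_surjective w
    show H.toSubmodule.mkQ (e x) = H.toSubmodule.mkQ x
    exact (Submodule.Quotient.eq _).mpr ((hmem _).mpr (by rw [map_sub, hee, sub_self]))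
  exact ⟨ha', H, AdFibre.isCartanRel_engel ha' hsurj, LieSubalgebra.self_mem_engel A' a'⟩

end Groth.Agent.S8379
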