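import Mathlib.LinearAlgebra.TensorProduct.Basis
import Groth.Statements.S8383
-- import your own Groth.Agent.* helpers here

set_option autoImplicit false
universe u
open scoped TensorProduct
open SGA3t2b

namespace Groth.Agent.S8383

/-- Let k be a finite field with algebraic closure K, V a finite-dimensional vector space over k, and
θ₁, …, θₙ a basis of the dual of the K-vector space K ⊗ V. Then there is x ∈ V with θᵢ(1 ⊗ x) ≠ 0
for every i. -/
theorem result (k : Type u) [Field k] [Finite k]
    (V : Type u) [AddCommGroup V] [Module k V] [Module.Finite k V] {ι : Type} [Fintype ι]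
    (θ : Module.Basis ι (AlgebraicClosure k) (Module.Dual (AlgebraicClosure k) (AlgebraicClosure k ⊗[k] V))) :
    ∃ x : V, ∀ i : ι, θ i ((1 : AlgebraicClosure k) ⊗ₜ[k] x) ≠ 0 := by
  classical
  let K := AlgebraicClosure k
  have hcard : Fintype.card ι = Module.finrank k V := by
    rw [← Module.finrank_eq_card_basis θ, Subspace.dual_finrank_eq, Module.finrank_baseChange]
  let b : Module.Basis ι k V := (Module.finBasis k V).reindex
    ((finCongr hcard.symm).trans (Fintype.equivFin ι).symm)
  let B : Module.Basis ι K (K ⊗[k] V) := b.baseChange K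
  let Θ : Matrix ι ι K := Matrix.of fun i j => θ i ((1 : K) ⊗ₜ[k] b j)
  have hΘ : Θ.det ≠ 0 := by
    have h := B.dualBasis.isUnit_det θ
    rw [Module.Basis.det_apply, ← Matrix.det_transpose] at h
    have : (B.dualBasis.toMatrix θ).transpose = Θ := by
      ext i j
      simp [Θ, B, Module.Basis.toMatrix_apply, Module.Basis.dualBasis_repr]
    rw [this] at h
    exact h.ne_zero
  -- replace rows one at a time by rows with entries in `k`
  have key : ∀ S : Finset ι, ∃ lam : ι → (K →ₗ[k] k),
      (Matrix.of fun i j => if i ∈ S then algebraMap k K (lam i (Θ i j)) else Θ i j).det ≠ 0 := by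
    intro S
    induction S using Finset.induction with
    | empty => exact ⟨0, by simpa [Θ] using hΘ⟩
    | @insert a S ha ih =>
      obtain ⟨lam, hlam⟩ := ih
      set M : Matrix ι ι K :=
        Matrix.of fun i j => if i ∈ S then algebraMap k K (lam i (Θ i j)) else Θ i j with hM
      by_contra hcon
      push Not at hcon
      apply hlam
      let e := Module.Basis.ofVectorSpace k K
      let T := Finset.univ.biUnion fun j => (e.repr (Θ a j)).support
      have hrow : M a = ∑ l ∈ T, e l • (fun j => algebraMap k K (e.repr (Θ a j) l)) := by
        funext j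
        rw [Finset.sum_apply]
        have h1 : M a j = Θ a j := by simp [hM, ha]
        rw [h1]
        conv_lhs => rw [← e.linearCombination_repr (Θ a j), Finsupp.linearCombination_apply]
        rw [Finsupp.sum_of_support_subset _ (s := T) (fun l hl =>
          Finset.mem_biUnion.mpr ⟨j, Finset.mem_univ _, hl⟩) _ (by simp)]
        refine Finset.sum_congr rfl fun l _ => ?_
        simp [Algebra.smul_def, mul_comm]
      have hD : M.det = ∑ l ∈ T, e l *
          (M.updateRow a (fun j => algebraMap k K (e.repr (Θ a j) l))).det := by
        have h2 : M.det = (M.updateRow a (M a)).det := by rw [Matrix.updateRow_eq_self]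
        rw [h2, hrow]
        have h3 : ∀ r, (M.updateRow a r).det =
            (Matrix.detRowAlternating (R := K) (n := ι)).toMultilinearMap.toLinearMap M a r :=
          fun r => rfl
        rw [h3, map_sum]
        refine Finset.sum_congr rfl fun l _ => ?_
        rw [map_smul, ← h3, smul_eq_mul]
      rw [hD]
      refine Finset.sum_eq_zero fun l _ => ?_
      have h4 := hcon (Function.update lam a (e.coord l))
      have h5 : (Matrix.of fun i j => if i ∈ insert a S then
          algebraMap k K (Function.update lam a (e.coord l) i (Θ i j)) else Θ i j) =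
          M.updateRow a (fun j => algebraMap k K (e.repr (Θ a j) l)) := by
        ext i j
        rcases eq_or_ne i a with rfl | hi
        · simp
        · simp [hM, hi, Matrix.updateRow_apply]
      rw [h5] at h4
      rw [h4, mul_zero]
  obtain ⟨lam, hlam⟩ := key Finset.univ
  let N : Matrix ι ι k := Matrix.of fun i j => lam i (Θ i j)
  have hN : IsUnit N.det := by
    rw [isUnit_iff_ne_zero]
    intro h0
    apply hlam
    have : (Matrix.of fun i j => if i ∈ (Finset.univ : Finset ι) then
        algebraMap k K (lam i (Θ i j)) else Θ i j) = (algebraMap k K).mapMatrix N := by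
      ext i j; simp [N]
    rw [this, ← RingHom.map_det, h0, map_zero]
  let y : ι → k := N⁻¹.mulVec 1
  refine ⟨∑ j, y j • b j, fun i hi => ?_⟩
  have h1 : lam i (θ i ((1 : K) ⊗ₜ[k] ∑ j, y j • b j)) = N.mulVec y i := by
    simp [Matrix.mulVec, dotProduct, N, Θ, TensorProduct.tmul_sum, TensorProduct.tmul_smul,
      mul_comm, LinearMap.map_smul_of_tower]
  rw [hi, map_zero] at h1
  simp [y, Matrix.mulVec_mulVec, Matrix.mul_nonsing_inv _ hN] at h1


end Groth.Agent.S8383
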