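import Groth.Statements.S8386
import Groth.Agent.CentralMT.Props
import Groth.Agent.MaxTorusBC.Basic
-- import your own Groth.Agent.* helpers here

set_option autoImplicit false
universe u
open CategoryTheory MonoidalCategory CartesianMonoidalCategory MonObj GrpObj AlgebraicGeometry
open SGA3x

namespace Groth.Agent.S8386

/-- Over an affine base: let A be a ring, J an ideal of A all of whose elements are nilpotent, S = Spec
A, S₀ = Spec(A/J), G an S-group scheme flat and of finite presentation over S, and H₀ a subgroup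
scheme of G₀ = G ×_S S₀ which is smooth and finite over S₀, of multiplicative type and central in
G₀. Then there is a subgroup scheme H of G of multiplicative type with H ×_S S₀ = H₀ as subgroups of
G₀; it is unique (any two such are isomorphic over G); and H is central in G. -/
theorem result (A : Type u) [CommRing A] (J : Ideal A)
    (hJ : ∀ x ∈ J, IsNilpotent x) (G : Over (Spec (CommRingCat.of A))) [GrpObj G] [Flat G.hom] [QuasiCompact G.hom]
    [QuasiSeparated G.hom] [LocallyOfFinitePresentation G.hom]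
    (H₀ : Over (Spec (CommRingCat.of (A ⧸ J)))) [GrpObj H₀] (j₀ : H₀ ⟶ Red.bc (Spec.map (CommRingCat.ofHom (Ideal.Quotient.mk J))) G) [IsMonHom j₀] [Mono j₀]
    [Smooth H₀.hom] [IsFinite H₀.hom] (hm₀ : SGA3x.IsMultTypeFT H₀)
    (hc₀ : (∀ (X : Over _) (x : X ⟶ _) (g : X ⟶ Red.bc (Spec.map (CommRingCat.ofHom (Ideal.Quotient.mk J))) G), (x ≫ j₀) * g = g * (x ≫ j₀))) :
    (∃ (H : Over (Spec (CommRingCat.of A))) (_ : GrpObj H) (j : H ⟶ G), IsMonHom j ∧ Mono j ∧ SGA3x.IsMultTypeFT H ∧
      (∃ e : Red.bc (Spec.map (CommRingCat.ofHom (Ideal.Quotient.mk J))) H ≅ H₀, e.hom ≫ j₀ = (Over.pullback (Spec.map (CommRingCat.ofHom (Ideal.Quotient.mk J)))).map j) ∧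
      (∀ (X : Over _) (x : X ⟶ _) (g : X ⟶ G), (x ≫ j) * g = g * (x ≫ j)) ∧
      ∀ (H' : Over (Spec (CommRingCat.of A))) [GrpObj H'] (j' : H' ⟶ G) [IsMonHom j'] [Mono j'], SGA3x.IsMultTypeFT H' →
        (∃ e' : Red.bc (Spec.map (CommRingCat.ofHom (Ideal.Quotient.mk J))) H' ≅ H₀, e'.hom ≫ j₀ = (Over.pullback (Spec.map (CommRingCat.ofHom (Ideal.Quotient.mk J)))).map j') →
        ∃ φ : H' ≅ H, φ.hom ≫ j = j') := by
  set_option backward.isDefEq.respectTransparency.types false in
  let i := Spec.map (CommRingCat.ofHom (Ideal.Quotient.mk J))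
  haveI : IsClosedImmersion i := IsClosedImmersion.spec_of_surjective _ Ideal.Quotient.mk_surjective
  haveI : Surjective i :=
    ⟨(PrimeSpectrum.comap_quotientMk_bijective_of_le_nilradical fun x hx => mem_nilradical.mpr (hJ x hx)).2⟩
  haveI : Etale H₀.hom := Groth.Agent.CentralMT.etale_of_finite_smooth H₀.hom
  obtain ⟨H, hHet, ⟨e⟩⟩ := Groth.Agent.CentralMT.exists_etale_lift_obj (i := i) H₀
  haveI := hHet
  choose V₀ n hs hinv hpow using Groth.Agent.CentralMT.exists_torsion hm₀
  choose c hc using i.surjective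
  have hemb := i.isClosedEmbedding
  let V : Spec (CommRingCat.of A) → (Spec (CommRingCat.of A)).Opens := fun s => ⟨i '' (V₀ (c s) : Set _), by
    rw [← isClosed_compl_iff, ← Set.image_compl_eq ⟨hemb.injective, i.surjective⟩]
    exact hemb.isClosedMap _ (V₀ (c s)).2.isClosed_compl⟩
  let u₀ : Red.bc i H ⟶ Red.bc i G := e.hom ≫ j₀
  let D : Groth.Agent.CentralMT.CentralTors u₀ := {
    V := V
    n := fun s => n (c s)
    mem := fun s => ⟨c s, hs (c s), hc s⟩
    inv := by
      intro s p hp h0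
      obtain ⟨h₀, hh₀⟩ := (Limits.pullback.fst H.hom i).surjective p
      subst hh₀
      have h1 := congrArg ((Limits.pullback.fst H.hom i).residueFieldMap h₀).hom h0
      rw [_root_.map_natCast, map_zero] at h1
      obtain ⟨t, ht, hte⟩ := hp
      rw [Groth.Agent.CentralMT.hom_fst] at hte
      refine hinv (c s) (e.hom.left h₀) ?_ ?_
      · have : H₀.hom (e.hom.left h₀) = t := by
          rw [hemb.injective hte]
          exact (Scheme.Hom.comp_apply _ _ _).symm.trans (congrArg (fun k => k h₀) (Over.w e.hom))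
        rw [this]
        exact ht
      · apply (e.hom.left.residueFieldMap h₀).hom.injective
        rw [_root_.map_natCast, map_zero]
        exact h1
    pow := fun s X x hX => by
      rw [← Category.assoc, ← MonObj.pow_comp, hpow (c s) X (x ≫ e.hom) (fun q => ?_), MonObj.one_comp]
      obtain ⟨t, ht, hte⟩ := hX q
      exact hemb.injective hte ▸ ht
    central := fun X x g => by
      rw [← Category.assoc]
      exact hc₀ X (x ≫ e.hom) g }
  obtain ⟨j, hj, hmap⟩ := D.exists_lift
  have hcent := D.central_lift hj hmap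
  haveI : Mono j := ⟨fun {X} a b h => Groth.Agent.CentralMT.map_inj (i := i) (by
    have h' := congrArg (Over.pullback i).map h
    rw [Functor.map_comp, Functor.map_comp, hmap, cancel_mono u₀] at h'
    exact h')⟩
  obtain ⟨μ', hμ'⟩ := Groth.Agent.CentralMT.exists_lift_hom (i := i) (X := H ⊗ H) (A := H)
    ((((Over.pullback i).map (fst H H) ≫ e.hom) * ((Over.pullback i).map (snd H H) ≫ e.hom)) ≫ e.inv)
  obtain ⟨η', hη'⟩ := Groth.Agent.CentralMT.exists_lift_hom (i := i) (X := 𝟙_ (Over (Spec (CommRingCat.of A))))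
    (A := H) ((1 : Red.bc i (𝟙_ (Over (Spec (CommRingCat.of A)))) ⟶ H₀) ≫ e.inv)
  obtain ⟨ι', hι'⟩ := Groth.Agent.CentralMT.exists_lift_hom (i := i) (X := H) (A := H) ((e.hom)⁻¹ ≫ e.inv)
  have hu₀ : ∀ (X : Over (Spec (CommRingCat.of A))) (x : X ⟶ H),
      (Over.pullback i).map (x ≫ j) = ((Over.pullback i).map x ≫ e.hom) ≫ j₀ := fun X x => by
    rw [Functor.map_comp, hmap, Category.assoc]
  have he : η' ≫ j = η[G] := by
    have h1 : η[G] = 1 := by rw [Hom.one_def, toUnit_unique (toUnit (𝟙_ _)) (𝟙 _), Category.id_comp]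
    rw [h1]
    refine D.eq_of_tor ((Over.pullback i).map η') (by rw [Functor.map_comp, hmap]) ?_ (hj.comp D _) D.tor_one
    rw [Functor.map_one, hη', Category.assoc, Iso.inv_hom_id_assoc, MonObj.one_comp]
  have hm : μ' ≫ j = (fst H H ≫ j) * (snd H H ≫ j) := by
    refine D.eq_of_tor ((Over.pullback i).map μ') (by rw [Functor.map_comp, hmap]) ?_ (hj.comp D _)
      ((hj.comp D _).mul D (hj.comp D _) fun Y r => ?_)
    · rw [Functor.map_mul, hu₀, hu₀, ← MonObj.mul_comp, hμ', Category.assoc, Iso.inv_hom_id_assoc]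
    · show (r ≫ fst H H ≫ j) * (r ≫ snd H H ≫ j) = _
      rw [← Category.assoc]
      exact hcent _ _ _
  have hv : ι' ≫ j = j⁻¹ := by
    refine D.eq_of_tor ((Over.pullback i).map ι') (by rw [Functor.map_comp, hmap]) ?_ (hj.comp D _) (hj.inv D)
    rw [Groth.Agent.CentralMT.map_grpInv, hmap, hι', Category.assoc, Iso.inv_hom_id_assoc, GrpObj.inv_comp]
  obtain ⟨str, hjm⟩ := Groth.Agent.GrpSchLib.exists_grpObj_of_mono j η' he μ' hm ι' hv
  letI := str
  haveI := hjm
  haveI hemon : IsMonHom e.hom := by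
    refine Groth.Agent.MaxTorusBC.isMonHom_of_mono e.hom j₀ ?_
    show IsMonHom u₀
    rw [← hmap]
    infer_instance
  have hMT : SGA3x.IsMultTypeFT H :=
    Groth.Agent.CentralMT.isMultTypeFT_of_bc (i := i)
      (@Grp.mkIso _ _ _ (Grp.mk (Red.bc i H)) (Grp.mk H₀) e hemon.one_hom hemon.mul_hom) hm₀
  refine ⟨H, str, j, hjm, inferInstance, hMT, ⟨e, hmap.symm⟩, hcent, ?_⟩
  intro H' _ j' _ _ hH' hex
  obtain ⟨e', he'⟩ := hex
  haveI := Groth.Agent.MultTypeQI.flat hH'
  haveI := Groth.Agent.GrpSchLib.MultTypeLfp.lfp hH'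
  haveI : IsIso e'.hom.left := (inferInstance : IsIso ((Over.forget _).map e'.hom))
  haveI : Etale (Limits.pullback.snd H'.hom i) := by
    rw [show Limits.pullback.snd H'.hom i = e'.hom.left ≫ H₀.hom from (Over.w e'.hom).symm]
    infer_instance
  haveI : Etale H'.hom := Groth.Agent.CentralMT.etale_of_bc i H'.hom
  obtain ⟨φ, hφ⟩ := Groth.Agent.CentralMT.exists_lift_hom (i := i) (X := H') (A := H) (e'.hom ≫ e.inv)
  obtain ⟨ψ, hψ⟩ := Groth.Agent.CentralMT.exists_lift_hom (i := i) (X := H) (A := H') (e.hom ≫ e'.inv)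
  refine ⟨{ hom := φ, inv := ψ, hom_inv_id := ?_, inv_hom_id := ?_ }, ?_⟩
  · exact Groth.Agent.CentralMT.map_inj (i := i) (by simp [hφ, hψ])
  · exact Groth.Agent.CentralMT.map_inj (i := i) (by simp [hφ, hψ])
  refine D.eq_of_tor ((Over.pullback i).map φ) (by rw [Functor.map_comp, hmap]) ?_ (hj.comp D _) ?_
  · rw [hφ, ← he', Category.assoc, Iso.inv_hom_id_assoc]
  intro s X r hX
  rw [← MonObj.pow_comp, show r ^ n (c s) = 1 from ?_, MonObj.one_comp]
  refine Groth.Agent.CentralMT.map_inj (i := i) ?_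
  haveI : Mono ((Over.pullback i).map j') := inferInstance
  rw [← cancel_mono ((Over.pullback i).map j'), Groth.Agent.CentralMT.map_pow, Functor.map_one, MonObj.one_comp,
    MonObj.pow_comp, ← he', ← Category.assoc, ← MonObj.pow_comp,
    hpow (c s) _ _ (fun q => ?_), MonObj.one_comp]
  obtain ⟨t, ht, hte⟩ := hX (Limits.pullback.fst X.hom i q)
  rw [Groth.Agent.CentralMT.hom_fst] at hte
  exact hemb.injective hte ▸ ht


end Groth.Agent.S8386
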