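import Groth.Statements.S8388
import Groth.Agent.HomComplete.Lift
import Groth.Agent.HomComplete.Conj
-- import your own Groth.Agent.* helpers here

set_option autoImplicit false
universe u
open CategoryTheory MonoidalCategory CartesianMonoidalCategory MonObj GrpObj AlgebraicGeometry
open SGA3x

namespace Groth.Agent.S8388

open CategoryTheory.Limits in
/-- A point congruent to the unit restricts to the unit. -/
theorem map_eq_one {S U : Scheme.{u}} (b : U ⟶ S) {G : Over S} [GrpObj G] (g : 𝟙_ (Over S) ⟶ G)
    (h : toUnit (Over.mk b) ≫ g = 1) :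
    (Over.pullback b).map g = toUnit _ ≫ η[Red.bc b G] := by
  apply (DSPtsLib.theta_bijective (g := b)).1
  refine Eq.trans ?_ (GrpSchLib.HomUnitLocus.theta_one b _).symm
  set_option backward.isDefEq.respectTransparency.types false in
  have e := congrArg (fun z => DSPtsLib.theta b z) (Category.id_comp ((Over.pullback b).map g)).symm
  refine e.trans ((TorsionCent.theta_map' b _ g).trans ?_)
  let Y : Over U := (Over.pullback b).obj (𝟙_ (Over S))
  let k : (Over.map b).obj Y ⟶ Over.mk b := Over.homMk Y.hom rfl
  rw [toUnit_unique (DSPtsLib.theta b (𝟙 _)) (k ≫ toUnit _), Category.assoc, h, MonObj.comp_one]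


/-- Let A be a complete Noetherian local ring with residue field k, S = Spec A, S₀ = Spec k the closed
point, M an S-group scheme finite over S and of multiplicative type, and G an S-group scheme smooth
over S. Then every homomorphism of S₀-groups u₀ : M₀ → G₀ between the closed fibres is the
restriction of a homomorphism of S-groups u : M → G; and if u, u′ : M → G are homomorphisms with the
same restriction to S₀, there is g ∈ G(S) restricting to the unit of G(S₀) with u′ = int(g) ∘ u. -/
theorem result (A : Type u) [CommRing A]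
    [IsLocalRing A] [IsNoetherianRing A] [IsAdicComplete (IsLocalRing.maximalIdeal A) A]
    (M : Over (Spec (CommRingCat.of A))) [GrpObj M] [IsFinite M.hom] (hM : SGA3x.IsMultTypeFT M)
    (G : Over (Spec (CommRingCat.of A))) [GrpObj G] [Smooth G.hom] :
    (∀ (u₀ : Red.bc (Spec.map (CommRingCat.ofHom (Ideal.Quotient.mk (IsLocalRing.maximalIdeal A)))) M ⟶ Red.bc (Spec.map (CommRingCat.ofHom (Ideal.Quotient.mk (IsLocalRing.maximalIdeal A)))) G) [IsMonHom u₀],
      ∃ u : M ⟶ G, IsMonHom u ∧ (Over.pullback (Spec.map (CommRingCat.ofHom (Ideal.Quotient.mk (IsLocalRing.maximalIdeal A))))).map u = u₀) ∧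
    (∀ (u u' : M ⟶ G) [IsMonHom u] [IsMonHom u'],
      (Over.pullback (Spec.map (CommRingCat.ofHom (Ideal.Quotient.mk (IsLocalRing.maximalIdeal A))))).map u = (Over.pullback (Spec.map (CommRingCat.ofHom (Ideal.Quotient.mk (IsLocalRing.maximalIdeal A))))).map u' →
      ∃ g : 𝟙_ (Over (Spec (CommRingCat.of A))) ⟶ G,
        (Over.pullback (Spec.map (CommRingCat.ofHom (Ideal.Quotient.mk (IsLocalRing.maximalIdeal A))))).map g = toUnit _ ≫ η[Red.bc (Spec.map (CommRingCat.ofHom (Ideal.Quotient.mk (IsLocalRing.maximalIdeal A)))) G] ∧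
        ∀ (X : Over (Spec (CommRingCat.of A))) (x : X ⟶ M), x ≫ u' = (toUnit X ≫ g) * (x ≫ u) * (toUnit X ≫ g)⁻¹) := by
  refine ⟨fun u₀ _ => HomComplete.exists_lift hM u₀, fun u u' _ _ huu' => ?_⟩
  obtain ⟨g, hg, hconj⟩ := HomComplete.exists_conj hM u u' huu'
  exact ⟨g, map_eq_one _ g hg, hconj⟩

end Groth.Agent.S8388
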