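import Groth.Statements.S8396
import Groth.Agent.CentralMT.Props
-- import your own Groth.Agent.* helpers here

set_option autoImplicit false
universe u
open CategoryTheory MonoidalCategory CartesianMonoidalCategory MonObj GrpObj AlgebraicGeometry
open SGA3x

namespace Groth.Agent.S8396

/-- Let A be a ring, J an ideal of A all of whose elements are nilpotent, S = Spec A, S₀ = Spec(A/J), G
an S-group scheme flat and of finite presentation over S, H an S-group scheme of multiplicative
type, smooth and finite over S, and u₀ : H₀ → G₀ a central homomorphism between the restrictions to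
S₀. Then u₀ is the restriction of exactly one homomorphism u : H → G, and u is central. (The
published statement is over an arbitrary base S with S₀ defined by a locally nilpotent ideal; this
row is over an affine base.) -/
theorem result (A : Type u) [CommRing A] (J : Ideal A)
    (hJ : ∀ x ∈ J, IsNilpotent x) (G : Over (Spec (CommRingCat.of A))) [GrpObj G] [Flat G.hom] [QuasiCompact G.hom]
    [QuasiSeparated G.hom] [LocallyOfFinitePresentation G.hom]
    (H : Over (Spec (CommRingCat.of A))) [GrpObj H] [Smooth H.hom] [IsFinite H.hom] (hH : SGA3x.IsMultTypeFT H)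
    (u₀ : Red.bc (Spec.map (CommRingCat.ofHom (Ideal.Quotient.mk J))) H ⟶ Red.bc (Spec.map (CommRingCat.ofHom (Ideal.Quotient.mk J))) G) [IsMonHom u₀]
    (hc₀ : ∀ (X : Over (Spec (CommRingCat.of (A ⧸ J)))) (x : X ⟶ Red.bc (Spec.map (CommRingCat.ofHom (Ideal.Quotient.mk J))) H) (g : X ⟶ Red.bc (Spec.map (CommRingCat.ofHom (Ideal.Quotient.mk J))) G), (x ≫ u₀) * g = g * (x ≫ u₀)) :
    ∃ u : H ⟶ G, IsMonHom u ∧ (Over.pullback (Spec.map (CommRingCat.ofHom (Ideal.Quotient.mk J)))).map u = u₀ ∧
      (∀ (X : Over (Spec (CommRingCat.of A))) (x : X ⟶ H) (g : X ⟶ G), (x ≫ u) * g = g * (x ≫ u)) ∧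
      ∀ u' : H ⟶ G, IsMonHom u' → (Over.pullback (Spec.map (CommRingCat.ofHom (Ideal.Quotient.mk J)))).map u' = u₀ → u' = u := by
  set_option backward.isDefEq.respectTransparency.types false in
  let i := Spec.map (CommRingCat.ofHom (Ideal.Quotient.mk J))
  haveI : IsClosedImmersion i := IsClosedImmersion.spec_of_surjective _ Ideal.Quotient.mk_surjective
  haveI : Surjective i := ⟨(PrimeSpectrum.comap_quotientMk_bijective_of_le_nilradical fun x hx => mem_nilradical.mpr (hJ x hx)).2⟩
  haveI : Etale H.hom := Groth.Agent.CentralMT.etale_of_finite_smooth H.hom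
  choose V n hs hinv hpow using Groth.Agent.CentralMT.exists_torsion hH
  let D : Groth.Agent.CentralMT.CentralTors u₀ := {
    V := V
    n := n
    mem := hs
    inv := hinv
    pow := fun s X x hX => by
      have h1 : x ^ n s = 1 := (Groth.Agent.DSPtsLib.theta_bijective (g := i)).1 (by
        rw [Groth.Agent.CentralMT.theta_pow, Groth.Agent.GrpSchLib.HomUnitLocus.theta_one]
        exact hpow s _ _ hX)
      rw [← MonObj.pow_comp, h1, MonObj.one_comp]
    central := hc₀ }
  obtain ⟨u, hu, hmap⟩ := D.exists_lift
  refine ⟨u, D.isMonHom_lift hu hmap, hmap, D.central_lift hu hmap, fun u' hu' hmap' => ?_⟩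
  refine D.eq_of_tor (𝟙 _) (by rw [hmap', Category.id_comp]) (by rw [hmap, Category.id_comp]) ?_ hu
  intro s X r hX
  rw [← MonObj.pow_comp, hpow s X r hX, MonObj.one_comp]


end Groth.Agent.S8396
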