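import Groth.Statements.S8398
import Groth.Agent.RedRank.CentralFactor
-- import your own Groth.Agent.* helpers here

set_option autoImplicit false
universe u
open CategoryTheory MonoidalCategory CartesianMonoidalCategory MonObj GrpObj AlgebraicGeometry
open SGA3x

namespace Groth.Agent.S8398

/-- Let G be an S-group scheme which is smooth and affine over S with connected fibres, T a maximal
torus of G, and u : H → G a central homomorphism from an S-group scheme H of multiplicative type and
of finite type. Then u factors through T. -/
theorem result (S : Scheme.{u}) (G : Over S) [GrpObj G]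
    [Smooth G.hom] [IsAffineHom G.hom] (hconn : ∀ s : S, _root_.IsConnected (G.hom.base ⁻¹' {s}))
    (T : Over S) [GrpObj T] (i : T ⟶ G) (hT : Red.IsMaximalTorus i)
    (H : Over S) [GrpObj H] (hH : SGA3x.IsMultTypeFT H) (u : H ⟶ G) [IsMonHom u]
    (hc : ∀ (X : Over S) (x : X ⟶ H) (g : X ⟶ G), (x ≫ u) * g = g * (x ≫ u)) :
    ∃ w : H ⟶ T, w ≫ i = u := by
  set_option backward.isDefEq.respectTransparency.types false in
  exact RedRank.CentralFactor.exists_factor hconn hT hH u fun X h x => hc X h (x ≫ i)

end Groth.Agent.S8398
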