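import Groth.Statements.S8400
-- import your own Groth.Agent.* helpers here
import Groth.Agent.LieCentral.Bracket
import Groth.Agent.RedRank.CentreLocal
import Groth.Agent.TorusQI.QuotientTorus
import Groth.Agent.AGFLib.Rosen.Reduce
import Groth.Agent.GrpSchLib.SmoothReduced

set_option autoImplicit false
universe u
open CategoryTheory MonoidalCategory CartesianMonoidalCategory MonObj GrpObj AlgebraicGeometry
open SGA3x

namespace Groth.Agent.S8400

open MonoidalCategory CartesianMonoidalCategory MonObj WithConv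
open GrpSchLib GrpSchLib.AffineHopf RedRank.CentreLocal RedRank.CentreWeights

set_option backward.isDefEq.respectTransparency false
set_option backward.isDefEq.respectTransparency.types false
set_option linter.style.haveILetI false
set_option synthInstance.maxHeartbeats 200000
set_option maxHeartbeats 1000000

theorem isIso_of_grpIso {S : Scheme.{u}} {X Y : Over S} [GrpObj X] [GrpObj Y] (e : Grp.mk X ≅ Grp.mk Y) :
    IsIso e.hom.hom.hom :=
  ⟨e.inv.hom.hom, congrArg (fun q => q.hom.hom) e.hom_inv_id, congrArg (fun q => q.hom.hom) e.inv_hom_id⟩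

theorem domain_noetherian (k : Type u) [Field k] [IsAlgClosed k] (A : Type u) [CommRing A] [Algebra k A]
    (G : Over (Spec (CommRingCat.of k))) [GrpObj G] [Smooth G.hom] [ConnectedSpace ↥G.left] (eh : sp k A ⟶ G)
    [IsIso eh] : IsDomain A ∧ IsNoetherianRing A := by
  haveI : IsIso eh.left := inferInstanceAs (IsIso ((Over.forget _).map eh))
  haveI : Smooth (sp k A).hom := by rw [← Over.w eh]; infer_instance
  haveI : AlgebraicGeometry.IsReduced G.left := GrpSchLib.isReduced_of_smooth_field G.hom
  haveI : IrreducibleSpace ↥G.left := AGFLib.Rosen.irreducibleSpace_of_connected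
  haveI : IsIntegral G.left := isIntegral_of_irreducibleSpace_of_isReduced G.left
  haveI : Nonempty ↥(Spec (CommRingCat.of A)) := ⟨(inv eh.left).base (Nonempty.some inferInstance)⟩
  haveI : IsIntegral (Spec (CommRingCat.of A)) := isIntegral_of_isOpenImmersion eh.left
  refine ⟨(affine_isIntegral_iff (CommRingCat.of A)).mp inferInstance, ?_⟩
  have hft : LocallyOfFiniteType (Spec.map (CommRingCat.ofHom (algebraMap k A))) :=
    (inferInstance : LocallyOfFiniteType (sp k A).hom)
  rw [HasRingHomProperty.Spec_iff (P := @LocallyOfFiniteType)] at hft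
  haveI : Algebra.FiniteType k A := RingHom.finiteType_algebraMap.mp hft
  exact Algebra.FiniteType.isNoetherianRing k A

theorem isMultTypeFT_sp (k : Type u) [Field k] (M : Type) [AddCommGroup M] [AddGroup.FG M] :
    SGA3x.IsMultTypeFT (sp k (MonoidAlgebra k (Multiplicative M))) := by
  obtain ⟨e⟩ := nonempty_DS_iso k M
  obtain ⟨S', g, hg1, hg2, hg3, hg4⟩ := TorusQI.isMultTypeFT_DS (S := Spec (CommRingCat.of k)) M
  refine ⟨S', g, hg1, hg2, hg3, fun s' => ?_⟩
  obtain ⟨U, hU, M', iM, hM, ⟨e'⟩⟩ := hg4 s'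
  obtain ⟨e''⟩ := MultTypeBC.bc_iso (U.ι ≫ g) e
  exact ⟨U, hU, M', iM, hM, ⟨e'' ≪≫ e'⟩⟩

theorem central_sub (k : Type u) [Field k] {A : Type u} [CommRing A] [HopfAlgebra k A]
    {M : Type} [AddCommGroup M] (f : A →ₐc[k] MonoidAlgebra k (Multiplicative M)) (N : AddSubgroup M)
    (hN : ∀ m ∉ N.toSubgroup, ∀ a, RedRank.CentreWeights.comp f m a = 0) {G : Over (Spec (CommRingCat.of k))}
    [GrpObj G] (eh : sp k A ⟶ G) [IsMonHom eh] [IsIso eh] {X : Over (Spec (CommRingCat.of k))}
    (x : X ⟶ sp k (MonoidAlgebra k (Multiplicative (M ⧸ N)))) (g : X ⟶ G) :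
    (x ≫ sub k N ≫ incl f ≫ eh) * g = g * (x ≫ sub k N ≫ incl f ≫ eh) := by
  refine eq_of_affine _ _ fun B _ _ y => ?_
  obtain ⟨T', hT'⟩ := exists_eq_spMap (y ≫ x)
  obtain ⟨g', hg'⟩ := exists_eq_spMap (y ≫ g ≫ inv eh)
  let T := T'.comp (qMap k N : MonoidAlgebra k (Multiplicative M) →ₐ[k] MonoidAlgebra k (Multiplicative (M ⧸ N)))
  have h1 : y ≫ x ≫ sub k N ≫ incl f ≫ eh =
      spMap (T.comp (f : A →ₐ[k] MonoidAlgebra k (Multiplicative M))) ≫ eh := by
    rw [← Category.assoc, hT', ← Category.assoc, spMap_comp, ← Category.assoc, spMap_comp]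
  have h2 : y ≫ g = spMap g' ≫ eh := by
    rw [← hg', Category.assoc, Category.assoc, IsIso.inv_hom_id, Category.comp_id]
  rw [MonObj.comp_mul, MonObj.comp_mul, h1, h2, ← MonObj.mul_comp, ← MonObj.mul_comp, spMap_mul, spMap_mul,
    ← comp_f_eq f T]
  congr 2
  refine congrArg WithConv.ofConv ((conj_eq_iff f _ _).mp
    (LieCentral.conj_eq_self f N.toSubgroup hN _ (fun m hm => ?_) g')).eq
  show T' (qMap k N (MonoidAlgebra.single (Multiplicative.ofAdd (Multiplicative.toAdd m)) 1)) = 1
  rw [qMap_single, show QuotientAddGroup.mk' N (Multiplicative.toAdd m) = 0 from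
    (QuotientAddGroup.eq_zero_iff _).mpr hm]
  exact map_one T'

theorem eq_top_of_isIso (k : Type u) [Field k] {M : Type} [AddCommGroup M] (N : AddSubgroup M)
    (h : Red.IsTrivialGrp (sp k (MonoidAlgebra k (Multiplicative (M ⧸ N))))) : N = ⊤ := by
  haveI : IsIso (sp k (MonoidAlgebra k (Multiplicative (M ⧸ N)))).hom := h
  refine eq_top_iff.mpr fun m _ => ?_
  let K := MonoidAlgebra k (Multiplicative (M ⧸ N))
  let g : K →ₐ[k] K := (Algebra.ofId k K).comp (Bialgebra.counitAlgHom k K)
  have e : g = AlgHom.id k K := spMap_injective (Over.OverMorphism.ext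
    ((cancel_mono (sp k K).hom).mp ((Over.w _).trans (Over.w _).symm)))
  have h1 := DFunLike.congr_fun e
    (MonoidAlgebra.single (Multiplicative.ofAdd (QuotientAddGroup.mk' N m)) (1 : k))
  have h2 : g (MonoidAlgebra.single (Multiplicative.ofAdd (QuotientAddGroup.mk' N m)) (1 : k)) =
      MonoidAlgebra.single 1 (1 : k) := by
    show algebraMap k K (Coalgebra.counit (R := k)
      (MonoidAlgebra.single (Multiplicative.ofAdd (QuotientAddGroup.mk' N m)) (1 : k) : K)) = _
    rw [MonoidAlgebra.counit_single]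
    simp
    rfl
  rw [h2] at h1
  refine (QuotientAddGroup.eq_zero_iff _).mp ?_
  exact Multiplicative.ofAdd.injective (MonoidAlgebra.single_left_injective (one_ne_zero (α := k)) h1).symm

theorem isIso_of_top (k : Type u) [Field k] {M : Type} [AddCommGroup M] {T : Over (Spec (CommRingCat.of k))}
    (et : sp k (MonoidAlgebra k (Multiplicative M)) ⟶ T) [IsIso et] (h : Subsingleton M) : IsIso T.hom := by
  haveI : IsIso et.left := inferInstanceAs (IsIso ((Over.forget _).map et))
  haveI : Subsingleton (Multiplicative M) := inferInstanceAs (Subsingleton M)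
  haveI : IsIso (Spec.map (CommRingCat.ofHom (algebraMap k (MonoidAlgebra k (Multiplicative M))))) := by
    haveI : IsIso (CommRingCat.ofHom (algebraMap k (MonoidAlgebra k (Multiplicative M)))) := by
      rw [ConcreteCategory.isIso_iff_bijective]
      refine ⟨(algebraMap k (MonoidAlgebra k (Multiplicative M))).injective, fun x => ?_⟩
      induction x using MonoidAlgebra.induction_linear with
      | zero => exact ⟨0, map_zero _⟩
      | add p q hp hq =>
        obtain ⟨a, rfl⟩ := hp
        obtain ⟨b, rfl⟩ := hq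
        exact ⟨a + b, map_add _ _ _⟩
      | single m c => exact ⟨c, by rw [Subsingleton.elim m 1]; rfl⟩
    infer_instance
  haveI : IsIso (sp k (MonoidAlgebra k (Multiplicative M))).hom :=
    ‹IsIso (Spec.map (CommRingCat.ofHom (algebraMap k (MonoidAlgebra k (Multiplicative M)))))›
  haveI : IsIso (et.left ≫ T.hom) := by rw [Over.w]; infer_instance
  exact IsIso.of_isIso_comp_left et.left T.hom

/-- Let G be a smooth, connected, affine algebraic group over an algebraically closed field k whose
reductive centre is trivial (every central subgroup scheme of multiplicative type is trivial), and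
suppose the Lie algebra of G is nilpotent. Then the maximal tori of G are trivial: G contains no
non-trivial subtorus. (The published statement concludes that G is unipotent, i.e. has a composition
series with quotients isomorphic to 𝔾_a; this row concludes only that G contains no non-trivial
subtorus.) -/
theorem result (k : Type u) [Field k] [IsAlgClosed k]
    (G : Over (Spec (CommRingCat.of k))) [GrpObj G] [Smooth G.hom] [QuasiCompact G.hom] [IsAffine G.left] [ConnectedSpace ↥G.left]
    (hZ : ∀ (Z : Over (Spec (CommRingCat.of k))) [GrpObj Z] (z : Z ⟶ G) [IsMonHom z] [Mono z], SGA3x.IsMultTypeFT Z →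
      (∀ (X : Over (Spec (CommRingCat.of k))) (x : X ⟶ Z) (g : X ⟶ G), (x ≫ z) * g = g * (x ≫ z)) → Red.IsTrivialGrp Z)
    (L : Type u) [LieRing L] [LieAlgebra k L] (m : LieS.Model G k (Spec.map (CommRingCat.ofHom (algebraMap k k))) L) (hL : LieRing.IsNilpotent L) :
    Red.HasNoSubtorus k G := by
  intro T _ j _ _ hT
  -- the coordinate ring
  obtain ⟨A, _, _, ⟨eG⟩⟩ := exists_hopf G
  let eh : sp k A ⟶ G := eG.hom.hom.hom
  haveI : IsMonHom eh := eG.hom.hom.isMonHom_hom
  haveI : IsIso eh := isIso_of_grpIso eG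
  obtain ⟨hdom, hnoeth⟩ := domain_noetherian k A G eh
  -- the torus
  obtain ⟨r, ⟨eT⟩⟩ := TorusQI.exists_split_geom hT (𝟙 (Spec (CommRingCat.of k)))
  obtain ⟨eB⟩ := TorusQI.nonempty_bc_id T
  obtain ⟨eD⟩ := nonempty_DS_iso k (Fin r → ℤ)
  let e := eD.trans (eT.symm.trans eB)
  let et : sp k (MonoidAlgebra k (Multiplicative (Fin r → ℤ))) ⟶ T := e.hom.hom.hom
  haveI : IsMonHom et := e.hom.hom.isMonHom_hom
  haveI : IsIso et := isIso_of_grpIso e
  let g := et ≫ j ≫ inv eh
  haveI : IsMonHom (inv eh) := eG.inv.hom.isMonHom_hom |> fun h => by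
    have : inv eh = eG.inv.hom.hom := IsIso.inv_eq_of_hom_inv_id (congrArg (fun q => q.hom.hom) eG.hom_inv_id)
    exact this ▸ h
  haveI : IsMonHom g := inferInstance
  obtain ⟨f, hf⟩ := exists_bialgHom g
  haveI : Mono g := inferInstance
  haveI : Mono (incl f) := by rw [show incl f = g from hf.symm]; infer_instance
  haveI : IsMonHom (incl f) := inferInstance
  -- weights
  let p := ringChar k
  let N : AddSubgroup (Fin r → ℤ) := (nsmulAddMonoidHom p).range
  have hcomp : ∀ m ∉ N.toSubgroup, ∀ a, RedRank.CentreWeights.comp f m a = 0 := by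
    refine fun w hw a => LieCentral.comp_eq_zero f N.toSubgroup (fun δ hδ l hl b => ?_) w hw a
    obtain ⟨i, hi⟩ : ∃ i, ((Multiplicative.toAdd l i : ℤ) : k) ≠ 0 := by
      by_contra! h
      refine hl ?_
      choose c hc using fun i => (CharP.intCast_eq_zero_iff k p _).mp (h i)
      exact ⟨c, funext fun i => by simp [nsmulAddMonoidHom, hc i]⟩
    exact LieCentral.tangent_comp_eq_zero eh f m hL
      (φ := fun x => ((Multiplicative.toAdd x i : ℤ) : k)) (fun x y => by simp) hδ hi b
  -- the central subgroup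
  let Z := sp k (MonoidAlgebra k (Multiplicative ((Fin r → ℤ) ⧸ N)))
  haveI : IsClosedImmersion (sub k N).left := isClosedImmersion_sub N
  haveI : Mono (sub k N) := Over.mono_of_mono_left _
  haveI : IsMonHom (sub k N) := inferInstance
  have hZmt : SGA3x.IsMultTypeFT Z := isMultTypeFT_sp k _
  have htriv := hZ Z (sub k N ≫ incl f ≫ eh) hZmt fun X x γ' =>
    central_sub k f N hcomp eh x γ'
  have hN : N = ⊤ := eq_top_of_isIso k N htriv
  refine isIso_of_top k et ?_
  rcases Nat.eq_zero_or_pos r with hr | hr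
  · subst hr
    exact inferInstance
  · exfalso
    have h1 : Pi.single (⟨0, hr⟩ : Fin r) (1 : ℤ) ∈ N := hN ▸ AddSubgroup.mem_top _
    obtain ⟨c, hc⟩ := h1
    have h2 := congrFun hc ⟨0, hr⟩
    simp [nsmulAddMonoidHom] at h2
    have h3 : (p : ℤ) ∣ 1 := ⟨_, h2.symm⟩
    exact CharP.ringChar_ne_one (R := k) (Nat.dvd_one.mp (Int.natCast_dvd_natCast.mp h3))


end Groth.Agent.S8400
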