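import Groth.Statements.S8401
import Groth.Agent.RedRank.CentreInter
-- import your own Groth.Agent.* helpers here

set_option autoImplicit false
universe u
open CategoryTheory MonoidalCategory CartesianMonoidalCategory MonObj GrpObj AlgebraicGeometry
open SGA3x

namespace Groth.Agent.S8401

/-- Let G be an affine, smooth, connected algebraic group over an algebraically closed field k, and Z
its reductive centre. Then Z is the scheme-theoretic intersection of the maximal tori of G: a point
of G with values in a k-scheme X factors through Z if and only if it factors through every maximal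
torus of G. -/
theorem result (k : Type u) [Field k] [IsAlgClosed k]
    (G : Over (Spec (CommRingCat.of k))) [GrpObj G] [Smooth G.hom] [QuasiCompact G.hom] [IsAffine G.left] [ConnectedSpace ↥G.left]
    (Z : Over (Spec (CommRingCat.of k))) [GrpObj Z] (z : Z ⟶ G)
    (hZ : (IsMonHom z ∧ Mono z ∧ SGA3x.IsMultTypeFT Z ∧
      (∀ (X : Over (Spec (CommRingCat.of k))) (x : X ⟶ Z) (g : X ⟶ G), (x ≫ z) * g = g * (x ≫ z)) ∧
      ∀ (S' : Scheme.{u}) (f : S' ⟶ (Spec (CommRingCat.of k))) (H : Over S') [GrpObj H] (v : H ⟶ Red.bc f G) [IsMonHom v],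
        SGA3x.IsMultTypeFT H →
        (∀ (X : Over S') (x : X ⟶ H) (g : X ⟶ Red.bc f G), (x ≫ v) * g = g * (x ≫ v)) →
        ∃ w : H ⟶ Red.bc f Z, w ≫ (Over.pullback f).map z = v)) (X : Over (Spec (CommRingCat.of k))) (g : X ⟶ G) :
    (∃ x : X ⟶ Z, x ≫ z = g) ↔
      ∀ (T : Over (Spec (CommRingCat.of k))) [GrpObj T] (i : T ⟶ G), Red.IsMaximalTorus i → ∃ t : X ⟶ T, t ≫ i = g := by
  set_option backward.isDefEq.respectTransparency.types false in
  haveI := hZ.1
  haveI : IsAffineHom G.hom := isAffineHom_of_isAffine G.hom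
  refine ⟨fun ⟨x, hx⟩ T _ i hi => ?_, RedRank.CentreInter.exists_fac_of_forall z hZ.2.2.2.2 g⟩
  obtain ⟨w, hw⟩ := RedRank.CentralFactor.exists_factor (RedRank.CentreInter.isConnected_fibre G) hi hZ.2.2.1 z
    fun Y h y => hZ.2.2.2.1 Y h (y ≫ i)
  exact ⟨x ≫ w, by rw [Category.assoc, hw, hx]⟩

end Groth.Agent.S8401
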