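import Groth.Statements.S8403
import Groth.Agent.RedRank.CentDim
-- import your own Groth.Agent.* helpers here

set_option autoImplicit false
universe u
open CategoryTheory MonoidalCategory CartesianMonoidalCategory MonObj GrpObj AlgebraicGeometry
open SGA3x

namespace Groth.Agent.S8403

/-- Let G be an affine smooth algebraic group over a field k, T a torus in G and C its centralizer. Then
the nilpotent rank of G (the dimension of the Cartan subgroups of G over an algebraic closure of k)
is at most dim C. -/
theorem result (k : Type u) [Field k]
    (G : Over (Spec (CommRingCat.of k))) [GrpObj G] [Smooth G.hom] [QuasiCompact G.hom] [IsAffine G.left]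
    (T : Over (Spec (CommRingCat.of k))) [GrpObj T] (j : T ⟶ G) [IsMonHom j] [Mono j] (hT : Red.IsTorus T)
    (C : Over (Spec (CommRingCat.of k))) [GrpObj C] (c : C ⟶ G) (hC : Red.IsCentralizerOf j c)
    (s : ↥(Spec (CommRingCat.of k))) (C' : Over (Spec (CommRingCat.of (AlgebraicClosure ((Spec (CommRingCat.of k)).residueField s))))) [GrpObj C']
    (c' : C' ⟶ Red.geomFibre s G) (hC' : SGA3x.IsCartanOver (AlgebraicClosure ((Spec (CommRingCat.of k)).residueField s)) c') :
    topologicalKrullDim ↥C'.left ≤ topologicalKrullDim ↥C.left := by
  set_option backward.isDefEq.respectTransparency.types false in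
  exact RedRank.CentDim.dim_cartanOver_le j hT hC s hC' 

end Groth.Agent.S8403
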