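import Groth.Statements.S8404
import Groth.Agent.RedRank.NilpCentral
-- import your own Groth.Agent.* helpers here

set_option autoImplicit false
universe u
open CategoryTheory MonoidalCategory CartesianMonoidalCategory MonObj GrpObj AlgebraicGeometry
open SGA3x

namespace Groth.Agent.S8404

/-- Let G be an S-group scheme, smooth and affine over S, such that every geometric fibre of G is
connected and nilpotent (its group of points over the algebraic closure is a nilpotent group), and
such that the reductive rank of G is locally constant. Then G has a unique maximal torus T; T is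
central and contains every subtorus of G. -/
theorem result (S : Scheme.{u}) (G : Over S) [GrpObj G]
    [Smooth G.hom] [IsAffineHom G.hom]
    (hconn : ∀ s : S, ConnectedSpace ↥(Red.geomFibre s G).left)
    (hnil : ∀ s : S, Group.IsNilpotent
      (𝟙_ (Over (Spec (CommRingCat.of (AlgebraicClosure (S.residueField s))))) ⟶ Red.geomFibre s G))
    (hr : SGA3x.RedRankLocallyConstant G) :
    ∃ (T : Over S) (_ : GrpObj T) (i : T ⟶ G), Red.IsMaximalTorus i ∧
      (∀ (X : Over S) (t : X ⟶ T) (g : X ⟶ G), (t ≫ i) * g = g * (t ≫ i)) ∧
      ∀ (R : Over S) [GrpObj R] (j : R ⟶ G) [IsMonHom j] [Mono j], Red.IsTorus R → ∃ f : R ⟶ T, f ≫ i = j := by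
  set_option backward.isDefEq.respectTransparency.types false in
  exact RedRank.NilpCentral.exists_central_maximal hconn hnil hr

end Groth.Agent.S8404
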