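import Groth.Statements.S8405
import Groth.Agent.GrpSchLib.AdjointCentre


set_option autoImplicit false
universe u
open CategoryTheory MonoidalCategory CartesianMonoidalCategory MonObj GrpObj AlgebraicGeometry
open SGA3x

namespace Groth.Agent.S8405

/-- Let G be a connected algebraic group (a group scheme of finite type) over a field k, z : Z → G the
centre of G and q : G → Q a morphism representing the fppf quotient G/Z. Then Q is an affine scheme.
(The published statement allows any subgroup of finite index in the centre; this row takes Z to be
the centre itself.) -/
theorem result (k : Type u) [Field k]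
    (G : Over (Spec (CommRingCat.of k))) [GrpObj G] [QuasiCompact G.hom] [LocallyOfFiniteType G.hom] [ConnectedSpace ↥G.left]
    (Z : Over (Spec (CommRingCat.of k))) [GrpObj Z] (z : Z ⟶ G) (hZ : Red.IsCentre z)
    (Q : Over (Spec (CommRingCat.of k))) (q : G ⟶ Q) (hq : RedSub.IsQuotient z q) : IsAffine Q.left := by exact GrpSchLib.Adjoint.isAffine_of_isQuotient G z hZ q hq

end Groth.Agent.S8405
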