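import Groth.Statements.S8407
import Groth.Agent.NonAffine.Cent

set_option autoImplicit false
universe u
open CategoryTheory MonoidalCategory CartesianMonoidalCategory MonObj GrpObj AlgebraicGeometry
open SGA3x

namespace Groth.Agent.S8407

/-- Let G be a smooth connected algebraic group (not necessarily affine) over an algebraically closed
field k, T a torus in G and C its centralizer. Then C is smooth and connected. -/
theorem result (k : Type u) [Field k] [IsAlgClosed k]
    (G : Over (Spec (CommRingCat.of k))) [GrpObj G] [Smooth G.hom] [QuasiCompact G.hom] [ConnectedSpace ↥G.left]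
    (T : Over (Spec (CommRingCat.of k))) [GrpObj T] (j : T ⟶ G) [IsMonHom j] [Mono j] (hT : Red.IsTorus T)
    (C : Over (Spec (CommRingCat.of k))) [GrpObj C] (c : C ⟶ G) (hC : Red.IsCentralizerOf j c) :
    Smooth C.hom ∧ ConnectedSpace ↥C.left := by
  set_option backward.isDefEq.respectTransparency.types false in
  exact Groth.Agent.NonAffine.smooth_connected_centralizer j hT hC

end Groth.Agent.S8407
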