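import Groth.Statements.S8410
import Groth.Agent.RedCentre.Main
-- import your own Groth.Agent.* helpers here

set_option autoImplicit false
universe u
open CategoryTheory MonoidalCategory CartesianMonoidalCategory MonObj GrpObj AlgebraicGeometry
open SGA3x

namespace Groth.Agent.S8410

/-- Let G be an S-group scheme, smooth and affine over S with connected fibres, Z a reductive centre of
G (central, of multiplicative type, and universal after every base change for central homomorphisms
from groups of multiplicative type and finite type), and q : G → G′ a homomorphism representing the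
quotient G/Z. Then the unit subgroup is a reductive centre of G′: for every S′ → S, every central
homomorphism H → G′ ×_S S′ from an S′-group H of multiplicative type and of finite type is trivial.
(The published item b) first asserts that G/Z is representable; this row takes a representing
homomorphism q as given and states its second assertion.) -/
theorem result (S : Scheme.{u}) (G : Over S) [GrpObj G]
    [Smooth G.hom] [IsAffineHom G.hom] (hconn : ∀ s : S, _root_.IsConnected (G.hom.base ⁻¹' {s}))
    (Z : Over S) [GrpObj Z] (z : Z ⟶ G) (hZ : (IsMonHom z ∧ Mono z ∧ SGA3x.IsMultTypeFT Z ∧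
      (∀ (X : Over S) (x : X ⟶ Z) (g : X ⟶ G), (x ≫ z) * g = g * (x ≫ z)) ∧
      ∀ (S' : Scheme.{u}) (f : S' ⟶ S) (H : Over S') [GrpObj H] (v : H ⟶ Red.bc f G) [IsMonHom v],
        SGA3x.IsMultTypeFT H →
        (∀ (X : Over S') (x : X ⟶ H) (g : X ⟶ Red.bc f G), (x ≫ v) * g = g * (x ≫ v)) →
        ∃ w : H ⟶ Red.bc f Z, w ≫ (Over.pullback f).map z = v))
    (G' : Over S) [GrpObj G'] (q : G ⟶ G') [IsMonHom q] (hq : RedSub.IsQuotient z q)
    (S' : Scheme.{u}) (f : S' ⟶ S) (H : Over S') [GrpObj H] (v : H ⟶ Red.bc f G') [IsMonHom v]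
    (hH : SGA3x.IsMultTypeFT H)
    (hv : ∀ (X : Over S') (x : X ⟶ H) (g : X ⟶ Red.bc f G'), (x ≫ v) * g = g * (x ≫ v)) :
    v = 1 := by
  set_option backward.isDefEq.respectTransparency false in
  set_option backward.isDefEq.respectTransparency.types false in
  obtain ⟨_, _, hZm, hcen, huniv⟩ := hZ
  haveI : IsMonHom z := ‹IsMonHom z›
  have hker := Groth.Agent.RedCentre.isKernel_of_isQuotient z q hq
  obtain ⟨_, _, _, hpb⟩ := hq
  haveI : QuasiCompact q.left := by
    haveI := Groth.Agent.EtFound.fpqc_quasiCompact.{u}
    haveI : IsAffineHom Z.hom := (Groth.Agent.TransLib.multTypeFT_essFree hZm).1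
    haveI : QuasiCompact (fst G Z).left :=
      MorphismProperty.pullback_fst (P := @QuasiCompact) _ _ inferInstance
    exact MorphismProperty.of_isPullback_of_descendsAlong (P := @QuasiCompact) (hpb.map (Over.forget S))
      (show (@Surjective ⊓ @Flat ⊓ @LocallyOfFinitePresentation : MorphismProperty Scheme.{u}) q.left from
        ⟨⟨‹_›, ‹_›⟩, ‹_›⟩) ‹QuasiCompact (fst G Z).left›
  let qf : Red.bc f G ⟶ Red.bc f G' := (Over.pullback f).map q
  let zf : Red.bc f Z ⟶ Red.bc f G := (Over.pullback f).map z
  haveI : IsMonHom qf := inferInstanceAs (IsMonHom ((Over.pullback f).map q))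
  haveI : IsMonHom zf := inferInstanceAs (IsMonHom ((Over.pullback f).map z))
  have hsq := Groth.Agent.GrpSchLib.HomSplitLocal.isPullback_map q f
  haveI : Flat qf.left := MorphismProperty.of_isPullback (P := @Flat) hsq ‹_›
  haveI : Surjective qf.left := MorphismProperty.of_isPullback (P := @Surjective) hsq ‹_›
  haveI : QuasiCompact qf.left := MorphismProperty.of_isPullback (P := @QuasiCompact) hsq ‹_›
  refine Groth.Agent.RedCentre.central_hom_eq_one zf qf (Groth.Agent.MultTypeExt.isKernel_bc f hker)
    (Groth.Agent.GrpSchLib.MultTypeBC.isMultTypeFT_bc f hZm) (fun X x g => ?_)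
    (Groth.Agent.RedCentre.isConnected_fibre_bc f G hconn) (fun E _ u _ hE hc => huniv S' f E u hE hc) hH v hv
  refine (Groth.Agent.DSPtsLib.theta_bijective f).injective ?_
  rw [Groth.Agent.DSPtsLib.theta_mul, Groth.Agent.DSPtsLib.theta_mul,
    Groth.Agent.GrpSchLib.HomUnitLocus.theta_comp_map]
  exact hcen _ _ _

end Groth.Agent.S8410
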