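import Groth.Statements.S8412
import Groth.Agent.CartanIn.Torus
import Groth.Agent.S3025
import Groth.Agent.FixTorus.Conn
-- import your own Groth.Agent.* helpers here

set_option autoImplicit false
set_option backward.isDefEq.respectTransparency false
set_option backward.isDefEq.respectTransparency.types false
universe u
open CategoryTheory MonoidalCategory CartesianMonoidalCategory MonObj GrpObj AlgebraicGeometry
open SGA3x

namespace Groth.Agent.S8412

/-- Let G be an S-group scheme, smooth and of finite presentation over S with connected fibres, and i :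
H → G a monomorphism of S-groups with H smooth over S, such that every geometric fibre H_s̄ is
connected and contains a Cartan subgroup of G_s̄ (has the same reductive and nilpotent ranks). Then
a subgroup scheme C of H is a Cartan subgroup of H if and only if it is a Cartan subgroup of G. -/
theorem result (S : Scheme.{u}) (G : Over S) [GrpObj G]
    [Smooth G.hom] [QuasiCompact G.hom] [QuasiSeparated G.hom] (hconn : ∀ s : S, _root_.IsConnected (G.hom.base ⁻¹' {s}))
    (H : Over S) [GrpObj H] [Smooth H.hom] (i : H ⟶ G) [IsMonHom i] [Mono i]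
    (hHconn : ∀ s : S, ConnectedSpace ↥(Red.geomFibre s H).left)
    (hHC : ∀ s : S, ∃ (C' : Over (Spec (CommRingCat.of (AlgebraicClosure (S.residueField s))))) (_ : GrpObj C')
      (c' : C' ⟶ Red.geomFibre s H), SGA3x.IsCartanOver _ (c' ≫ (Over.pullback (Red.geomPt s)).map i))
    (C : Over S) [GrpObj C] (c : C ⟶ H) :
    SGA3x.IsCartan c ↔ SGA3x.IsCartan (c ≫ i) := by
  haveI : IsSeparated G.hom := (S3025.result S G hconn).1
  have hH' : ∀ s : S, _root_.IsConnected (H.hom.base ⁻¹' {s}) := fun s => by
    haveI := hHconn s
    exact FixTorus.isConnected_preimage_of_geomFibre H s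
  haveI : QuasiCompact H.hom := (S3025.result S H hH').2
  have key : ∀ s : S, SGA3x.IsCartanOver _ ((Over.pullback (Red.geomPt s)).map c) ↔
      SGA3x.IsCartanOver _ ((Over.pullback (Red.geomPt s)).map (c ≫ i)) := fun s => by
    obtain ⟨C', _, c', hC⟩ := hHC s
    haveI : (Over.pullback (Red.geomPt s)).IsRightAdjoint := (Over.mapPullbackAdj (Red.geomPt s)).isRightAdjoint
    haveI : Smooth (Red.geomFibre s G).hom := inferInstanceAs (Smooth (Limits.pullback.snd G.hom (Red.geomPt s)))
    haveI : QuasiCompact (Red.geomFibre s G).hom :=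
      inferInstanceAs (QuasiCompact (Limits.pullback.snd G.hom (Red.geomPt s)))
    haveI : Smooth (Red.geomFibre s H).hom := inferInstanceAs (Smooth (Limits.pullback.snd H.hom (Red.geomPt s)))
    haveI : QuasiCompact (Red.geomFibre s H).hom :=
      inferInstanceAs (QuasiCompact (Limits.pullback.snd H.hom (Red.geomPt s)))
    rw [Functor.map_comp]
    exact CartanIn.isCartanOver_iff _ hC _
  constructor
  · rintro ⟨h1, h2, h3, h4⟩
    haveI := h1; haveI := h2
    exact ⟨inferInstance, inferInstance, h3, fun s => (key s).1 (h4 s)⟩
  · rintro ⟨h1, h2, h3, h4⟩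
    haveI := h1; haveI := h2
    exact ⟨MaxTorusBC.isMonHom_of_mono c i h1, mono_of_mono c i, h3, fun s => (key s).2 (h4 s)⟩

end Groth.Agent.S8412
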