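import Groth.Statements.S8413
import Groth.Agent.CartanIn.Main
import Groth.Agent.S3025
import Groth.Agent.FixTorus.Conn
-- import your own Groth.Agent.* helpers here

set_option autoImplicit false
universe u
open CategoryTheory MonoidalCategory CartesianMonoidalCategory MonObj GrpObj AlgebraicGeometry
open SGA3x

namespace Groth.Agent.S8413

/-- Let G be an S-group scheme, smooth and of finite presentation over S with connected fibres, and i :
H → G a monomorphism of S-groups with H smooth over S whose geometric fibres are connected and
contain a Cartan subgroup of the corresponding geometric fibre of G. Then H contains every subgroup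
scheme Z of G which is central in G and flat and of finite presentation over S. -/
theorem result (S : Scheme.{u}) (G : Over S) [GrpObj G]
    [Smooth G.hom] [QuasiCompact G.hom] [QuasiSeparated G.hom] (hconn : ∀ s : S, _root_.IsConnected (G.hom.base ⁻¹' {s}))
    (H : Over S) [GrpObj H] [Smooth H.hom] (i : H ⟶ G) [IsMonHom i] [Mono i]
    (hHconn : ∀ s : S, ConnectedSpace ↥(Red.geomFibre s H).left)
    (hHC : ∀ s : S, ∃ (C' : Over (Spec (CommRingCat.of (AlgebraicClosure (S.residueField s))))) (_ : GrpObj C')
      (c' : C' ⟶ Red.geomFibre s H), SGA3x.IsCartanOver _ (c' ≫ (Over.pullback (Red.geomPt s)).map i))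
    (Z : Over S) [GrpObj Z] (z : Z ⟶ G) [IsMonHom z] [Mono z] [Flat Z.hom] [QuasiCompact Z.hom]
    [QuasiSeparated Z.hom] [LocallyOfFinitePresentation Z.hom]
    (hc : ∀ (X : Over S) (x : X ⟶ Z) (g : X ⟶ G), (x ≫ z) * g = g * (x ≫ z)) :
    ∃ f : Z ⟶ H, f ≫ i = z := by
  haveI : IsSeparated G.hom := (S3025.result S G hconn).1
  have hH' : ∀ s : S, _root_.IsConnected (H.hom.base ⁻¹' {s}) := fun s => by
    haveI := hHconn s
    exact FixTorus.isConnected_preimage_of_geomFibre H s
  haveI : IsSeparated H.hom := (S3025.result S H hH').1
  haveI : QuasiCompact H.hom := (S3025.result S H hH').2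
  exact CartanIn.exists_factor i hHC z fun Y x h => hc Y x (h ≫ i)

end Groth.Agent.S8413
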