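import Groth.Statements.S8414
import Groth.Agent.SubPre.Main
-- import your own Groth.Agent.* helpers here

set_option autoImplicit false
universe u
open CategoryTheory MonoidalCategory CartesianMonoidalCategory MonObj GrpObj AlgebraicGeometry
open SGA3x

namespace Groth.Agent.S8414

/-- Let G, G′ be S-group schemes flat and of finite presentation over S, u : G → G′ a homomorphism which
is faithfully flat, and C′ a subgroup scheme of G′ of finite presentation over S whose inverse image
C = u⁻¹(C′) is smooth over S (resp. has connected fibres). Then for every subgroup scheme H′ of G′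
of finite presentation over S containing C′ and smooth over S (resp. with connected fibres), the
inverse image u⁻¹(H′) is smooth over S (resp. has connected fibres). -/
theorem result (S : Scheme.{u}) (G G' : Over S) [GrpObj G] [GrpObj G']
    [Flat G.hom] [QuasiCompact G.hom] [QuasiSeparated G.hom] [LocallyOfFinitePresentation G.hom]
    [Flat G'.hom] [QuasiCompact G'.hom] [QuasiSeparated G'.hom] [LocallyOfFinitePresentation G'.hom]
    (u : G ⟶ G') [IsMonHom u] [Flat u.left] [Surjective u.left]
    (C' : Over S) [GrpObj C'] (c' : C' ⟶ G') [IsMonHom c'] [Mono c']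
    [QuasiCompact C'.hom] [QuasiSeparated C'.hom] [LocallyOfFinitePresentation C'.hom]
    (H' : Over S) [GrpObj H'] (h' : H' ⟶ G') [IsMonHom h'] [Mono h']
    [QuasiCompact H'.hom] [QuasiSeparated H'.hom] [LocallyOfFinitePresentation H'.hom]
    (hle : ∃ f : C' ⟶ H', f ≫ h' = c') :
    (Smooth (Limits.pullback c' u).hom → Smooth H'.hom → Smooth (Limits.pullback h' u).hom) ∧
    ((∀ s : S, _root_.IsConnected ((Limits.pullback c' u).hom.base ⁻¹' {s})) →
      (∀ s : S, _root_.IsConnected (H'.hom.base ⁻¹' {s})) →
      ∀ s : S, _root_.IsConnected ((Limits.pullback h' u).hom.base ⁻¹' {s})) := by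
  obtain ⟨f, hf⟩ := hle
  exact SubPre.main u c' h' f hf

end Groth.Agent.S8414
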