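import Groth.Statements.S8415
import Groth.Agent.TorusArtin.Centralizer
-- import your own Groth.Agent.* helpers here

set_option autoImplicit false
universe u
open CategoryTheory MonoidalCategory CartesianMonoidalCategory MonObj GrpObj AlgebraicGeometry
open SGA3x

namespace Groth.Agent.S8415

/-- Let S = Spec A be an Artinian scheme, G an S-group scheme which is smooth and of finite presentation
over S with connected fibres, and H a subgroup scheme of G (a homomorphism H → G which is an
immersion), smooth over S, such that for every s ∈ S the geometric fibre H_s̄ is the centralizer in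
G_s̄ of a subtorus of G_s̄. Then H is the centralizer in G of a subtorus of G, and H is closed in G.
(The published item on closedness also asserts that the normalizer N of H in G is a closed smooth
subgroup scheme, that N/H is represented by a separated etale S-group of finite type and that G/N is
smooth and quasi-projective over S; this row states only that H is closed.) -/
theorem result (A : Type u) [CommRing A] [IsArtinianRing A]
    (G : Over (Spec (CommRingCat.of A))) [GrpObj G] [Smooth G.hom] [QuasiCompact G.hom] [QuasiSeparated G.hom]
    (hconn : ∀ s : ↥(Spec (CommRingCat.of A)), _root_.IsConnected (G.hom.base ⁻¹' {s}))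
    (H : Over (Spec (CommRingCat.of A))) [GrpObj H] [Smooth H.hom] (i : H ⟶ G) [IsMonHom i] [Mono i]
    (hi : IsImmersion i.left) (hH : ∀ s : ↥(Spec (CommRingCat.of A)), ∃ (T' : Over (Spec (CommRingCat.of (AlgebraicClosure ((Spec (CommRingCat.of A)).residueField s)))))
      (_ : GrpObj T') (j' : T' ⟶ Red.geomFibre s G) (_ : IsMonHom j') (_ : Mono j'), Red.IsTorus T' ∧
      Red.IsCentralizerOf j' ((Over.pullback (Red.geomPt s)).map i)) :
    (∃ (T : Over (Spec (CommRingCat.of A))) (_ : GrpObj T) (j : T ⟶ G) (_ : IsMonHom j) (_ : Mono j), Red.IsTorus T ∧
      Red.IsCentralizerOf j i) ∧ IsClosedImmersion i.left := by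
  haveI := hi
  exact TorusArtin.exists_torus_centralizer i hH

end Groth.Agent.S8415
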