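import Groth.Statements.S8417
import Groth.Agent.RedRank.NilRank
-- import your own Groth.Agent.* helpers here

set_option autoImplicit false
universe u
open CategoryTheory MonoidalCategory CartesianMonoidalCategory MonObj GrpObj AlgebraicGeometry
open SGA3x

namespace Groth.Agent.S8417

/-- Let G be an S-group scheme, affine and smooth over S. Then the nilpotent rank of the geometric
fibres of G (the common dimension of their Cartan subgroups) is an upper semicontinuous function on
S: for every n, the set of s ∈ S such that G_s̄ has a Cartan subgroup of dimension ≤ n is open. (The
published item a) asserts the same upper semicontinuity for the reductive rank as well; this row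
states it for the nilpotent rank.) -/
theorem result (S : Scheme.{u}) (G : Over S) [GrpObj G] [IsAffineHom G.hom] [Smooth G.hom] (n : ℕ) :
    IsOpen {s : S | ∃ (C' : Over (Spec (CommRingCat.of (AlgebraicClosure (S.residueField s))))) (_ : GrpObj C') (c' : C' ⟶ Red.geomFibre s G),
      SGA3x.IsCartanOver (AlgebraicClosure (S.residueField s)) c' ∧ topologicalKrullDim ↥C'.left ≤ (n : WithBot ℕ∞)} := by
  set_option backward.isDefEq.respectTransparency.types false in
  exact RedRank.NilRank.isOpen_le n

end Groth.Agent.S8417
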