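import Groth.Statements.S8418
import Groth.Agent.RedRank.NilRank
-- import your own Groth.Agent.* helpers here

set_option autoImplicit false
universe u
open CategoryTheory MonoidalCategory CartesianMonoidalCategory MonObj GrpObj AlgebraicGeometry
open SGA3x

namespace Groth.Agent.S8418

/-- Let G be an S-group scheme, affine and smooth over S, whose reductive rank is locally constant on S.
Then the nilpotent rank of the geometric fibres is locally constant too: every s ∈ S has an open
neighbourhood U and an r such that for all t ∈ U every Cartan subgroup of G_t̄ has dimension r. -/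
theorem result (S : Scheme.{u}) (G : Over S) [GrpObj G]
    [IsAffineHom G.hom] [Smooth G.hom] (hr : SGA3x.RedRankLocallyConstant G) (s : S) :
    ∃ U : S.Opens, s ∈ U ∧ ∃ r : WithBot ℕ∞, ∀ t : S, t ∈ U →
      ∀ (C' : Over (Spec (CommRingCat.of (AlgebraicClosure (S.residueField t))))) [GrpObj C'] (c' : C' ⟶ Red.geomFibre t G),
        SGA3x.IsCartanOver (AlgebraicClosure (S.residueField t)) c' → topologicalKrullDim ↥C'.left = r := by
  set_option backward.isDefEq.respectTransparency.types false in
  exact RedRank.NilRank.exists_nhd_eq hr s

end Groth.Agent.S8418
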