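import Groth.Statements.S8420
import Groth.Agent.CartanIn.TransCartan
import Groth.Agent.S3025
-- import your own Groth.Agent.* helpers here

set_option autoImplicit false
set_option backward.isDefEq.respectTransparency false
set_option backward.isDefEq.respectTransparency.types false
universe u
open CategoryTheory MonoidalCategory CartesianMonoidalCategory MonObj GrpObj AlgebraicGeometry
open SGA3x

namespace Groth.Agent.S8420

/-- Let G be an S-group scheme, smooth and of finite presentation over S with connected fibres, i : H →
G a monomorphism of S-groups with H smooth over S, and C a Cartan subgroup of G. Then the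
transporter Transp_G(C, H), the subfunctor of G of points g with int(g)(C) ⊂ H, is represented by a
closed subscheme of G which is smooth over S. -/
theorem result (S : Scheme.{u}) (G : Over S) [GrpObj G]
    [Smooth G.hom] [QuasiCompact G.hom] [QuasiSeparated G.hom] (hconn : ∀ s : S, _root_.IsConnected (G.hom.base ⁻¹' {s}))
    (H : Over S) [GrpObj H] [Smooth H.hom] (i : H ⟶ G) [IsMonHom i] [Mono i]
    (C : Over S) [GrpObj C] (c : C ⟶ G) (hC : SGA3x.IsCartan c) :
    ∃ (M : Over S) (m : M ⟶ G), IsClosedImmersion m.left ∧ Smooth M.hom ∧
      ∀ (X : Over S) (g : X ⟶ G), (∃ z : X ⟶ M, z ≫ m = g) ↔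
        ∀ (X' : Over S) (x : X' ⟶ X) (y : X' ⟶ C), ∃ h : X' ⟶ H, (x ≫ g) * (y ≫ c) * (x ≫ g)⁻¹ = h ≫ i := by
  haveI : IsSeparated G.hom := (S3025.result S G hconn).1
  exact CartanIn.exists_transporter_cartan hconn i c hC

end Groth.Agent.S8420
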