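import Groth.Statements.S8421
import Groth.Agent.CartanIn.NormOpen
import Groth.Agent.S3025
import Groth.Agent.SmoothWeilLib.Subgroups
-- import your own Groth.Agent.* helpers here

set_option autoImplicit false
set_option backward.isDefEq.respectTransparency false
set_option backward.isDefEq.respectTransparency.types false
universe u
open CategoryTheory MonoidalCategory CartesianMonoidalCategory MonObj GrpObj AlgebraicGeometry
open SGA3x

namespace Groth.Agent.S8421

/-- Let G be an S-group scheme, smooth and of finite presentation over S with connected fibres, and i :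
H → G a monomorphism of S-groups with H smooth over S, such that each geometric fibre H_s̄ is
connected and contains a Cartan subgroup of G_s̄. Then Norm_G(H) is represented by a closed subgroup
scheme N of G of finite presentation over S, the canonical monomorphism H → N is an open immersion
(H = N⁰), and consequently i is an immersion. -/
theorem result (S : Scheme.{u}) (G : Over S) [GrpObj G]
    [Smooth G.hom] [QuasiCompact G.hom] [QuasiSeparated G.hom] (hconn : ∀ s : S, _root_.IsConnected (G.hom.base ⁻¹' {s}))
    (H : Over S) [GrpObj H] [Smooth H.hom] (i : H ⟶ G) [IsMonHom i] [Mono i]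
    (hHconn : ∀ s : S, ConnectedSpace ↥(Red.geomFibre s H).left)
    (hHC : ∀ s : S, ∃ (C' : Over (Spec (CommRingCat.of (AlgebraicClosure (S.residueField s))))) (_ : GrpObj C')
      (c' : C' ⟶ Red.geomFibre s H), SGA3x.IsCartanOver _ (c' ≫ (Over.pullback (Red.geomPt s)).map i)) :
    (∃ (N : Over S) (_ : GrpObj N) (n : N ⟶ G) (f : H ⟶ N), Red.IsNormalizerOf i n ∧ IsClosedImmersion n.left ∧
      QuasiCompact N.hom ∧ LocallyOfFinitePresentation N.hom ∧ f ≫ n = i ∧ IsOpenImmersion f.left) ∧
    IsImmersion i.left := by
  haveI : IsSeparated G.hom := (S3025.result S G hconn).1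
  have hH' : ∀ s : S, _root_.IsConnected (H.hom.base ⁻¹' {s}) := fun s => by
    haveI := hHconn s
    exact FixTorus.isConnected_preimage_of_geomFibre H s
  haveI : IsSeparated H.hom := (S3025.result S H hH').1
  obtain ⟨N, _, n, hn, hnc, hnf⟩ := SmoothWeilLib.exists_normalizer hH' i
  haveI := hn.2.1; haveI := hnc; haveI := hnf
  haveI : QuasiCompact N.hom := by rw [← Over.w n]; infer_instance
  haveI : LocallyOfFinitePresentation N.hom := by rw [← Over.w n]; infer_instance
  obtain ⟨f, hf⟩ := (hn.2.2 H i).mpr fun X' x h =>
    ⟨⟨x * h * x⁻¹, by rw [MonObj.mul_comp, MonObj.mul_comp, GrpObj.inv_comp]⟩,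
      ⟨x⁻¹ * h * x, by rw [MonObj.mul_comp, MonObj.mul_comp, GrpObj.inv_comp]⟩⟩
  haveI := CartanIn.isOpenImmersion_toNormalizer i hHC n
    (fun X z T q h => ((hn.2.2 X (z ≫ n)).mp ⟨z, rfl⟩ T q h).1) f hf
  refine ⟨⟨N, inferInstance, n, f, hn, hnc, inferInstance, inferInstance, hf, inferInstance⟩, ?_⟩
  rw [← hf, Over.comp_left]
  infer_instance

end Groth.Agent.S8421
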