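import Groth.Statements.S8424
import Groth.Agent.NonAffine.BorelTori

set_option autoImplicit false
universe u
open CategoryTheory MonoidalCategory CartesianMonoidalCategory MonObj GrpObj AlgebraicGeometry
open SGA3x

namespace Groth.Agent.S8424

/-- Let G be a smooth algebraic group (not necessarily affine) over an algebraically closed field k, B a
Borel subgroup of G, C a Cartan subgroup of B and N the normalizer of C in G. Then N ∩ B = C: a
point of G with values in a k-scheme factors through N and through B if and only if it factors
through C. -/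
theorem result (k : Type u) [Field k] [IsAlgClosed k]
    (G : Over (Spec (CommRingCat.of k))) [GrpObj G] [Smooth G.hom] [QuasiCompact G.hom]
    (B : Over (Spec (CommRingCat.of k))) [GrpObj B] (b : B ⟶ G) (hB : Red.IsBorelOver k b)
    (C : Over (Spec (CommRingCat.of k))) [GrpObj C] (c : C ⟶ B) (hC : SGA3x.IsCartanOver k c)
    (N : Over (Spec (CommRingCat.of k))) [GrpObj N] (n : N ⟶ G) (hN : Red.IsNormalizerOf (c ≫ b) n)
    (X : Over (Spec (CommRingCat.of k))) (g : X ⟶ G) :
    ((∃ x : X ⟶ N, x ≫ n = g) ∧ (∃ y : X ⟶ B, y ≫ b = g)) ↔ ∃ z : X ⟶ C, z ≫ c ≫ b = g := by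
  set_option backward.isDefEq.respectTransparency.types false in
  exact Groth.Agent.NonAffine.cartan_inter_borel hB hC hN g

end Groth.Agent.S8424
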