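import Groth.Statements.S8428
import Groth.Agent.TorsionCent.Global
import Groth.Agent.MultTypeImage.MaxTorus

set_option autoImplicit false
universe u
open CategoryTheory MonoidalCategory CartesianMonoidalCategory MonObj GrpObj AlgebraicGeometry
open SGA3x

namespace Groth.Agent.S8428

/-- Let G and G′ be S-group schemes, smooth, separated and of finite type over S, G admitting a maximal
torus locally for the fpqc topology, and u : G → G′ a homomorphism which is surjective on every
geometric fibre. Then G′ admits a maximal torus locally for the etale topology. -/
theorem result (S : Scheme.{u}) (G G' : Over S) [GrpObj G] [GrpObj G']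
    [Smooth G.hom] [IsSeparated G.hom] [QuasiCompact G.hom] [Smooth G'.hom] [IsSeparated G'.hom] [QuasiCompact G'.hom]
    (hG : SGA3x.HasMaxTorusFpqcLocally G) (u : G ⟶ G') [IsMonHom u]
    (hu : ∀ s : S, Surjective ((Over.pullback (Red.geomPt s)).map u).left) :
    SGA3x.HasMaxTorusEtaleLocally G' := by
  set_option backward.isDefEq.respectTransparency.types false in
  exact TorsionCent.etale_locally (TorsionCent.fpqc_locally_image hG u hu)

end Groth.Agent.S8428
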