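import Groth.Statements.S8429
import Groth.Agent.RedRank.ImageBij
-- import your own Groth.Agent.* helpers here

set_option autoImplicit false
universe u
open CategoryTheory MonoidalCategory CartesianMonoidalCategory MonObj GrpObj AlgebraicGeometry
open SGA3x

namespace Groth.Agent.S8429

/-- Let G, G′ be S-group schemes, smooth, separated and of finite type over S, G admitting a maximal
torus locally for the fpqc topology, and u : G → G′ a homomorphism surjective on every geometric
fibre whose kernel is a central subgroup of G. Then T ↦ u(T) is a bijection from the maximal tori of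
G onto those of G′: every maximal torus T′ of G′ is the image of a maximal torus T of G (there is a
surjective flat homomorphism T → T′ over u), and two maximal tori of G whose images in G′ coincide
are equal as subgroups of G. (The published item f) makes the same assertion for Cartan subgroups
when G′ has connected fibres; this row states the assertion on maximal tori.) -/
theorem result (S : Scheme.{u}) (G G' : Over S) [GrpObj G] [GrpObj G']
    [Smooth G.hom] [IsSeparated G.hom] [QuasiCompact G.hom] [Smooth G'.hom] [IsSeparated G'.hom] [QuasiCompact G'.hom]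
    (hG : SGA3x.HasMaxTorusFpqcLocally G) (u : G ⟶ G') [IsMonHom u]
    (hu : ∀ s : S, Surjective ((Over.pullback (Red.geomPt s)).map u).left)
    (hker : ∀ (X : Over S) (z : X ⟶ G), z ≫ u = 1 → ∀ (X' : Over S) (x : X' ⟶ X) (g : X' ⟶ G),
      (x ≫ z) * g = g * (x ≫ z)) :
    (∀ (T' : Over S) [GrpObj T'] (i' : T' ⟶ G'), Red.IsMaximalTorus i' →
      ∃ (T : Over S) (_ : GrpObj T) (i : T ⟶ G) (v : T ⟶ T'), Red.IsMaximalTorus i ∧ IsMonHom v ∧
        v ≫ i' = i ≫ u ∧ Surjective v.left ∧ Flat v.left) ∧
    (∀ (T₁ T₂ T' : Over S) [GrpObj T₁] [GrpObj T₂] [GrpObj T'] (i₁ : T₁ ⟶ G) (i₂ : T₂ ⟶ G) (i' : T' ⟶ G')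
      (v₁ : T₁ ⟶ T') (v₂ : T₂ ⟶ T'), Red.IsMaximalTorus i₁ → Red.IsMaximalTorus i₂ → Red.IsMaximalTorus i' →
      v₁ ≫ i' = i₁ ≫ u → v₂ ≫ i' = i₂ ≫ u → Surjective v₁.left → Surjective v₂.left →
      ∃ φ : T₁ ≅ T₂, φ.hom ≫ i₂ = i₁) := by
  set_option backward.isDefEq.respectTransparency.types false in
  haveI : Surjective u.left := TorsionCent.surjective_of_geomPt u hu
  refine ⟨fun T' _ i' hT' => ?_, fun T₁ T₂ T' _ _ _ i₁ i₂ i' v₁ v₂ h₁ h₂ hT' e₁ e₂ hv₁ _ => ?_⟩
  · obtain ⟨T, hTg, t, w, ht, hw, hws⟩ := RedRank.ImageBij.exists_preimage hG u hker hT'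
    haveI := ht.1; haveI := hT'.1; haveI := hT'.2.1; haveI := hws
    haveI : IsMonHom w := AGFLib.isMonHom_of_mul w fun X a b => by
      rw [← cancel_mono i', Category.assoc, hw, MonObj.mul_comp _ _ i', Category.assoc, Category.assoc, hw,
        MonObj.mul_comp]
    exact ⟨T, hTg, t, w, ht, inferInstance, hw, hws,
      (RedRank.ImageBij.flat_onto_torus w ht.2.2.1 hT'.2.2.1).1⟩
  · haveI := hT'.1; haveI := hT'.2.1; haveI := hv₁
    exact RedRank.ImageBij.exists_iso_of_image u hker h₁ h₂ i' hT'.2.2.1 v₁ v₂ e₁ e₂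

end Groth.Agent.S8429
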