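import Groth.Statements.S8430
import Groth.Agent.CartanPre.Main
-- import your own Groth.Agent.* helpers here

set_option autoImplicit false
universe u
open CategoryTheory MonoidalCategory CartesianMonoidalCategory MonObj GrpObj AlgebraicGeometry
open SGA3x

namespace Groth.Agent.S8430

/-- Let G, G′ be S-group schemes, smooth and of finite presentation over S, u : G → G′ a homomorphism
which is faithfully flat on every fibre, with Ker u central and G with connected fibres. Then for
every subgroup scheme H′ of G′, smooth and of finite presentation over S and having the same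
reductive and nilpotent ranks as G′ at every point (each geometric fibre contains a Cartan
subgroup), the inverse image H = u⁻¹(H′) is a subgroup scheme of G, smooth and of finite
presentation over S, with the same property relative to G; and H has connected fibres if and only if
H′ does. (The published statement also asserts that H′ ↦ u⁻¹(H′) is a bijection onto the subgroup
schemes of G that are smooth, of finite presentation and have the ranks of G everywhere; this row
states only that u⁻¹(H′) is one of them.) -/
theorem result (S : Scheme.{u}) (G G' : Over S)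
    [GrpObj G] [GrpObj G'] [Smooth G.hom] [QuasiCompact G.hom] [QuasiSeparated G.hom]
    [Smooth G'.hom] [QuasiCompact G'.hom] [QuasiSeparated G'.hom]
    (hconn : ∀ s : S, _root_.IsConnected (G.hom.base ⁻¹' {s}))
    (u : G ⟶ G') [IsMonHom u] (hu : ∀ s : S, Surjective ((Over.pullback (S.fromSpecResidueField s)).map u).left ∧
      Flat ((Over.pullback (S.fromSpecResidueField s)).map u).left)
    (hker : ∀ (X : Over S) (z : X ⟶ G), z ≫ u = 1 → ∀ (X' : Over S) (x : X' ⟶ X) (g : X' ⟶ G),
      (x ≫ z) * g = g * (x ≫ z))
    (H' : Over S) [GrpObj H'] (h' : H' ⟶ G') [IsMonHom h'] [Mono h'] [Smooth H'.hom] [QuasiCompact H'.hom]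
    (hH' : ∀ s : S, ∃ (C' : Over (Spec (CommRingCat.of (AlgebraicClosure (S.residueField s))))) (_ : GrpObj C')
      (c' : C' ⟶ Red.geomFibre s H'), SGA3x.IsCartanOver _ (c' ≫ (Over.pullback (Red.geomPt s)).map h')) :
    Smooth (Limits.pullback h' u).hom ∧ QuasiCompact (Limits.pullback h' u).hom ∧
    (∀ s : S, ∃ (C : Over (Spec (CommRingCat.of (AlgebraicClosure (S.residueField s))))) (_ : GrpObj C)
      (c : C ⟶ Red.geomFibre s (Limits.pullback h' u)),
      SGA3x.IsCartanOver _ (c ≫ (Over.pullback (Red.geomPt s)).map (Limits.pullback.snd h' u))) ∧
    ((∀ s : S, _root_.IsConnected ((Limits.pullback h' u).hom.base ⁻¹' {s})) ↔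
      ∀ s : S, _root_.IsConnected (H'.hom.base ⁻¹' {s})) := by
  refine CartanPre.preimage hconn u (fun s => (hu s).1)
    (fun X z hz g => by simpa using hker X z hz X (𝟙 X) g) h' hH' _ _ (IsPullback.of_hasPullback h' u)

end Groth.Agent.S8430
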