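import Groth.Statements.S8433
import Groth.Agent.CentMax.Descent
-- import your own Groth.Agent.* helpers here

set_option autoImplicit false
universe u
open CategoryTheory MonoidalCategory CartesianMonoidalCategory MonObj GrpObj AlgebraicGeometry
open SGA3x

namespace Groth.Agent.S8433

/-- Let G be an S-group scheme of finite presentation over S which admits, locally for the fpqc
topology, a central maximal torus. Then G admits globally a unique maximal torus T, which is the
largest subtorus of G (every subtorus factors through T), and T is central. -/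
theorem result (S : Scheme.{u}) (G : Over S) [GrpObj G]
    [QuasiCompact G.hom] [QuasiSeparated G.hom] [LocallyOfFinitePresentation G.hom]
    (h : ∃ (S' : Scheme.{u}) (f : S' ⟶ S), Flat f ∧ Surjective f ∧
      (∀ V : S.Opens, IsAffineOpen V → ∃ W : S'.Opens, IsCompact (W : Set ↥S') ∧ f.base '' (W : Set ↥S') = (V : Set ↥S)) ∧
      ∃ (T' : Over S') (_ : GrpObj T') (i' : T' ⟶ Red.bc f G), Red.IsMaximalTorus i' ∧
        ∀ (X : Over S') (t : X ⟶ T') (g : X ⟶ Red.bc f G), (t ≫ i') * g = g * (t ≫ i')) :
    ∃ (T : Over S) (_ : GrpObj T) (i : T ⟶ G), Red.IsMaximalTorus i ∧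
      (∀ (X : Over S) (t : X ⟶ T) (g : X ⟶ G), (t ≫ i) * g = g * (t ≫ i)) ∧
      ∀ (R : Over S) [GrpObj R] (j : R ⟶ G) [IsMonHom j] [Mono j], Red.IsTorus R → ∃ f : R ⟶ T, f ≫ i = j := by
  obtain ⟨S', f, hff, hfs, hfq, T', iT, i', hi', hc⟩ := h
  haveI := hff
  haveI := hfs
  exact CentMax.exists_descent f (FpqcDescLib.isCovering_of_flat f hfq) i' hi' hc

end Groth.Agent.S8433
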