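import Groth.Statements.S8437
import Groth.Agent.RedRank.CartanBij
-- import your own Groth.Agent.* helpers here

set_option autoImplicit false
universe u
open CategoryTheory MonoidalCategory CartesianMonoidalCategory MonObj GrpObj AlgebraicGeometry
open SGA3x

namespace Groth.Agent.S8437

/-- Let G, G′ be S-group schemes, smooth, separated and of finite type over S, G admitting a maximal
torus locally for the fpqc topology, G′ with connected fibres, and u : G → G′ a homomorphism
surjective on every geometric fibre whose kernel is central. Then C ↦ u(C) is a bijection from the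
Cartan subgroups of G onto those of G′ with C = u⁻¹(u(C)): for every Cartan subgroup C of G there
are a Cartan subgroup C′ of G′ and a faithfully flat homomorphism v : C → C′ making C → G, C → C′ a
cartesian square over u; and every Cartan subgroup C′ of G′ is obtained in this way. -/
theorem result (S : Scheme.{u}) (G G' : Over S) [GrpObj G] [GrpObj G']
    [Smooth G.hom] [IsSeparated G.hom] [QuasiCompact G.hom] [Smooth G'.hom] [IsSeparated G'.hom] [QuasiCompact G'.hom]
    (hG : SGA3x.HasMaxTorusFpqcLocally G) (u : G ⟶ G') [IsMonHom u]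
    (hu : ∀ s : S, Surjective ((Over.pullback (Red.geomPt s)).map u).left)
    (hconn' : ∀ s : S, _root_.IsConnected (G'.hom.base ⁻¹' {s}))
    (hker : ∀ (X : Over S) (z : X ⟶ G), z ≫ u = 1 → ∀ (X' : Over S) (x : X' ⟶ X) (g : X' ⟶ G),
      (x ≫ z) * g = g * (x ≫ z)) :
    (∀ (C : Over S) [GrpObj C] (c : C ⟶ G), SGA3x.IsCartan c →
      ∃ (C' : Over S) (_ : GrpObj C') (c' : C' ⟶ G') (v : C ⟶ C'), SGA3x.IsCartan c' ∧ IsMonHom v ∧
        Surjective v.left ∧ Flat v.left ∧ IsPullback c v u c') ∧
    (∀ (C' : Over S) [GrpObj C'] (c' : C' ⟶ G'), SGA3x.IsCartan c' →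
      ∃ (C : Over S) (_ : GrpObj C) (c : C ⟶ G) (v : C ⟶ C'), SGA3x.IsCartan c ∧ IsMonHom v ∧
        Surjective v.left ∧ Flat v.left ∧ IsPullback c v u c') := by
  set_option backward.isDefEq.respectTransparency.types false in
  haveI : Surjective u.left := TorsionCent.surjective_of_geomPt u hu
  refine ⟨fun C _ c hc => ?_, fun C' _ c' hc' => ?_⟩
  · obtain ⟨-, T, _, t, ht, hcen⟩ := MaxTorTransp.exists_maximalTorus_of_cartan hG hc
    obtain ⟨T', _, i', v₀, hi', -, e₀, -, hv₀s, -⟩ := MultTypeImage.exists_maximalTorus_image u hu ht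
    haveI := hv₀s; haveI := hi'.1
    obtain ⟨C', hC', c', hc', -, hcart, -⟩ := MaxTorCent.exists_cartan G' hi'
    obtain ⟨v, hv⟩ := RedRank.CartanBij.exists_cartesian u hker ht hi' v₀ e₀ hcen hc'
      (fun s => RedRank.isConnected_centralizer hconn' i' hi'.2.2.1 hc' s)
    exact ⟨C', hC', c', v, hcart, hv⟩
  · obtain ⟨-, T', _, t', ht', hcen'⟩ :=
      MaxTorTransp.exists_maximalTorus_of_cartan (RedRank.CartanBij.hasMaxTorus_image u hG) hc'
    haveI := ht'.1
    obtain ⟨T, _, i, v₀, hi, e₀, hv₀s⟩ := RedRank.ImageBij.exists_preimage hG u hker ht'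
    haveI := hv₀s
    obtain ⟨C, hC, c, hc, -, hcart, -⟩ := MaxTorCent.exists_cartan G hi
    obtain ⟨v, hv⟩ := RedRank.CartanBij.exists_cartesian u hker hi ht' v₀ e₀ hc hcen'
      (fun s => RedRank.isConnected_centralizer hconn' _ ht'.2.2.1 hcen' s)
    exact ⟨C, hC, c, v, hcart, hv⟩

end Groth.Agent.S8437
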