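import Groth.Statements.S8441


set_option autoImplicit false
universe u v w
open SGA3t2b

namespace Groth.Agent.S8441

/-- Let R be a root system with a system of simple roots a₁, …, aₙ and simple reflections rᵢ, and put θᵢ
= rₙ ⋯ rᵢ₊₁(aᵢ). Then the θᵢ form a basis of the group generated by the roots. Stated for a root
pairing over ℤ (Mathlib) with a base whose support is enumerated by Fin n: the θᵢ are ℤ-linearly
independent and their ℤ-span is the ℤ-span of all roots. -/
theorem result {ι : Type u} {M : Type v} {N : Type w} [AddCommGroup M] [Module ℤ M]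
    [AddCommGroup N] [Module ℤ N] (P : RootPairing ι ℤ M N) (b : P.Base) (n : ℕ) (e : Fin n ≃ ↥b.support) :
    LinearIndependent ℤ (fun i : Fin n =>
      ((List.finRange n).filter (fun j => i < j)).foldl (fun x j => P.reflection (e j : ι) x) (P.root (e i : ι))) ∧
    Submodule.span ℤ (Set.range (fun i : Fin n =>
      ((List.finRange n).filter (fun j => i < j)).foldl (fun x j => P.reflection (e j : ι) x) (P.root (e i : ι)))) =
      Submodule.span ℤ (Set.range P.root) := by
  classical
  obtain rfl : ‹Module ℤ M› = AddCommGroup.toIntModule M := Subsingleton.elim _ _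
  set a : Fin n → M := fun i => P.root (e i : ι)
  set θ : Fin n → M := fun i =>
    ((List.finRange n).filter (fun j => i < j)).foldl (fun x j => P.reflection (e j : ι) x) (a i)
  have hθ : ∀ i, θ i - a i ∈ Submodule.span ℤ (a '' Set.Ioi i) := by
    intro i
    have key : ∀ (l : List (Fin n)) (x : M), (∀ j ∈ l, i < j) →
        x - a i ∈ Submodule.span ℤ (a '' Set.Ioi i) →
        l.foldl (fun x j => P.reflection (e j : ι) x) x - a i ∈ Submodule.span ℤ (a '' Set.Ioi i) := by
      intro l
      induction l with
      | nil => intro x _ hx; exact hx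
      | cons j t ih =>
        intro x hl hx
        refine ih _ (fun y hy => hl y (List.mem_cons_of_mem _ hy)) ?_
        show P.reflection (e j : ι) x - a i ∈ _
        rw [P.reflection_apply, sub_right_comm]
        exact sub_mem hx (Submodule.smul_mem _ _ (Submodule.subset_span ⟨j, hl j List.mem_cons_self, rfl⟩))
    exact key _ _ (fun j hj => by simpa using hj) (by simp)
  have hmem : ∀ i, a i ∈ Submodule.span ℤ (Set.range θ) := by
    have : ∀ (k : ℕ) (i : Fin n), n - (i : ℕ) = k → a i ∈ Submodule.span ℤ (Set.range θ) := by
      intro k
      induction k using Nat.strong_induction_on with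
      | _ k ih =>
        intro i hk
        have hle : Submodule.span ℤ (a '' Set.Ioi i) ≤ Submodule.span ℤ (Set.range θ) := by
          refine Submodule.span_le.mpr ?_
          rintro _ ⟨j, hj, rfl⟩
          have hj' : (i : ℕ) < (j : ℕ) := hj
          exact ih (n - (j : ℕ)) (by omega) j rfl
        have := sub_mem (Submodule.subset_span (Set.mem_range_self i) : θ i ∈ Submodule.span ℤ (Set.range θ))
          (hle (hθ i))
        simpa using this
    exact fun i => this _ i rfl
  have hli : LinearIndependent ℤ a := (b.linearIndepOn_root).comp (fun i => e i) e.injective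
  refine ⟨Fintype.linearIndependent_iff.mpr fun c hc => ?_, le_antisymm (Submodule.span_le.mpr ?_) (Submodule.span_le.mpr ?_)⟩
  · have key : ∀ (k : ℕ) (i : Fin n), (i : ℕ) = k → c i = 0 := by
      intro k
      induction k using Nat.strong_induction_on with
      | _ k ih =>
        intro i hk
        by_contra hci
        have hrest : ∑ j, c j • θ j - c i • a i ∈ Submodule.span ℤ (a '' {j | j ≠ i}) := by
          rw [← Finset.add_sum_erase _ _ (Finset.mem_univ i), add_sub_right_comm, ← smul_sub]
          refine add_mem (Submodule.smul_mem _ _ (Submodule.span_mono (Set.image_mono ?_) (hθ i)))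
            (Submodule.sum_mem _ fun j hj => ?_)
          · intro j hj; exact ne_of_gt (show i < j from hj)
          · rcases lt_trichotomy (j : ℕ) k with h | h | h
            · rw [ih _ h j rfl, zero_smul]; exact zero_mem _
            · exact absurd (Fin.ext (h.trans hk.symm)) (Finset.ne_of_mem_erase hj)
            · refine Submodule.smul_mem _ _ ?_
              rw [← sub_add_cancel (θ j) (a j)]
              refine add_mem (Submodule.span_mono (Set.image_mono ?_) (hθ j))
                (Submodule.subset_span ⟨j, Finset.ne_of_mem_erase hj, rfl⟩)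
              intro y hy
              have : (j : ℕ) < (y : ℕ) := hy
              show y ≠ i
              intro e'; subst e'; omega
        rw [show ∑ j, c j • θ j = 0 from hc, zero_sub, neg_mem_iff] at hrest
        exact hci (linearIndependent_iff_eq_zero_of_smul_mem_span.mp hli i (c i)
          (by rwa [← Set.compl_eq_univ_diff, Set.compl_singleton_eq]))
    exact fun i => key _ i rfl
  · rintro _ ⟨i, rfl⟩
    show θ i ∈ _
    rw [← sub_add_cancel (θ i) (a i)]
    refine add_mem (Submodule.span_mono ?_ (hθ i)) (Submodule.subset_span ⟨_, rfl⟩)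
    rintro _ ⟨j, -, rfl⟩; exact ⟨_, rfl⟩
  · rintro _ ⟨k, rfl⟩
    have hle : AddSubmonoid.closure (P.root '' (b.support : Set ι)) ≤ (Submodule.span ℤ (Set.range θ)).toAddSubmonoid := by
      refine AddSubmonoid.closure_le.mpr ?_
      rintro _ ⟨x, hx, rfl⟩
      simpa [a] using hmem (e.symm ⟨x, hx⟩)
    rcases b.root_mem_or_neg_mem k with h | h
    · exact hle h
    · exact neg_mem_iff.mp (hle h)

end Groth.Agent.S8441
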