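import Groth.Statements.S8442
import Groth.Agent.CartanIn.TransTorus
import Groth.Agent.S3025
-- import your own Groth.Agent.* helpers here

set_option autoImplicit false
set_option backward.isDefEq.respectTransparency false
set_option backward.isDefEq.respectTransparency.types false
universe u
open CategoryTheory MonoidalCategory CartesianMonoidalCategory MonObj GrpObj AlgebraicGeometry
open SGA3x

namespace Groth.Agent.S8442

/-- Let G be an S-group scheme, smooth and of finite presentation over S with connected fibres, and i :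
H → G a monomorphism of S-groups with H smooth over S whose geometric fibres are connected and
contain a Cartan subgroup of the corresponding geometric fibre of G. Then for every Cartan subgroup
C of G, Transp_G(C, H) is represented by a closed subscheme of G, smooth over S, whose structure
morphism to S is surjective; and if C is the centralizer of a maximal torus T of G, then Transp_G(T,
H) = Transp_G(C, H). -/
theorem result (S : Scheme.{u}) (G : Over S) [GrpObj G]
    [Smooth G.hom] [QuasiCompact G.hom] [QuasiSeparated G.hom] (hconn : ∀ s : S, _root_.IsConnected (G.hom.base ⁻¹' {s}))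
    (H : Over S) [GrpObj H] [Smooth H.hom] (i : H ⟶ G) [IsMonHom i] [Mono i]
    (hHconn : ∀ s : S, ConnectedSpace ↥(Red.geomFibre s H).left)
    (hHC : ∀ s : S, ∃ (C' : Over (Spec (CommRingCat.of (AlgebraicClosure (S.residueField s))))) (_ : GrpObj C')
      (c' : C' ⟶ Red.geomFibre s H), SGA3x.IsCartanOver _ (c' ≫ (Over.pullback (Red.geomPt s)).map i))
    (C : Over S) [GrpObj C] (c : C ⟶ G) (hC : SGA3x.IsCartan c) :
    (∃ (M : Over S) (m : M ⟶ G), IsClosedImmersion m.left ∧ Smooth M.hom ∧ Surjective M.hom ∧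
      ∀ (X : Over S) (g : X ⟶ G), (∃ z : X ⟶ M, z ≫ m = g) ↔
        ∀ (X' : Over S) (x : X' ⟶ X) (y : X' ⟶ C), ∃ h : X' ⟶ H, (x ≫ g) * (y ≫ c) * (x ≫ g)⁻¹ = h ≫ i) ∧
    (∀ (T : Over S) [GrpObj T] (t : T ⟶ G), Red.IsMaximalTorus t → Red.IsCentralizerOf t c →
      ∀ (X : Over S) (g : X ⟶ G),
        (∀ (X' : Over S) (x : X' ⟶ X) (y : X' ⟶ T), ∃ h : X' ⟶ H, (x ≫ g) * (y ≫ t) * (x ≫ g)⁻¹ = h ≫ i) ↔
        (∀ (X' : Over S) (x : X' ⟶ X) (y : X' ⟶ C), ∃ h : X' ⟶ H, (x ≫ g) * (y ≫ c) * (x ≫ g)⁻¹ = h ≫ i)) := by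
  haveI : IsSeparated G.hom := (S3025.result S G hconn).1
  have hH' : ∀ s : S, _root_.IsConnected (H.hom.base ⁻¹' {s}) := fun s => by
    haveI := hHconn s
    exact FixTorus.isConnected_preimage_of_geomFibre H s
  haveI : IsSeparated H.hom := (S3025.result S H hH').1
  haveI : QuasiCompact H.hom := (S3025.result S H hH').2
  haveI := hC.2.2.1
  obtain ⟨M, m, hm, hMs, hM⟩ := CartanIn.exists_transporter_cartan hconn i c hC
  exact ⟨⟨M, m, hm, hMs, CartanIn.surjective_transporter i hHC c hC m hM, hM⟩,
    fun T _ t ht hc X g => CartanIn.into_torus_iff i hHC ht hc g⟩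

end Groth.Agent.S8442
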