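import Groth.Statements.S8446
import Groth.Agent.GrpSchLib.RankOneNonComm


set_option autoImplicit false
universe u
open CategoryTheory MonoidalCategory CartesianMonoidalCategory MonObj GrpObj AlgebraicGeometry CategoryTheory.Limits
open Red

namespace Groth.Agent.S8446

/-- Let G be a reductive S-group, i : T ⟶ G a maximal torus, α a character of T non-trivial on every
geometric fibre, and p₊, p₋ : 𝔾_a ⟶ G monomorphisms of groups normalised by T with multipliers α and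
α⁻¹ such that 𝔾_a ×_S T ×_S 𝔾_a ⟶ G, (y, t, x) ↦ p₋(y) i(t) p₊(x), is an open immersion (a rank-one
system: G has semisimple rank 1 and p₊, p₋ trivialise the root groups of α and -α). Then on no
geometric fibre of S do the images of p₊ and p₋ commute: for every s there are points x, y of 𝔾_a
with values in some scheme over the geometric point at s such that p₊(x) p₋(y) ≠ p₋(y) p₊(x). -/
theorem result (S : Scheme.{u}) (G T : Over S) [GrpObj G] [GrpObj T] (i : T ⟶ G) [IsMonHom i] [Mono i] (hG : Red.IsReductive G) (hTm : Red.IsMaximalTorus i)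
    (α : T ⟶ Red.Gm S) [IsMonHom α] (hα : ∀ s : S, (Over.pullback (Red.geomPt s)).map α ≠ 1)
    (pp pm : Red.Ga S ⟶ G) [IsMonHom pp] [Mono pp] [IsMonHom pm] [Mono pm]
    (hpp : ∀ (X : Over S) (t : X ⟶ T) (x : X ⟶ Red.Ga S), ∃ x' : X ⟶ Red.Ga S,
      x' ≫ pp = (t ≫ i) * (x ≫ pp) * (t ≫ i)⁻¹ ∧ Red.gaFn x' = Red.gmFn (t ≫ α) * Red.gaFn x)
    (hpm : ∀ (X : Over S) (t : X ⟶ T) (y : X ⟶ Red.Ga S), ∃ y' : X ⟶ Red.Ga S,
      y' ≫ pm = (t ≫ i) * (y ≫ pm) * (t ≫ i)⁻¹ ∧ Red.gaFn y' * Red.gmFn (t ≫ α) = Red.gaFn y)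
    (hΩ : IsOpenImmersion (((pm ⊗ₘ i) ⊗ₘ pp) ≫ (μ[G] ▷ G) ≫ μ[G]).left) (s : S) :
    ∃ (X : Over (Spec (CommRingCat.of (AlgebraicClosure (S.residueField s)))))
      (x y : X ⟶ Red.bc (Red.geomPt s) (Red.Ga S)),
      (x ≫ (Over.pullback (Red.geomPt s)).map pp) * (y ≫ (Over.pullback (Red.geomPt s)).map pm) ≠
        (y ≫ (Over.pullback (Red.geomPt s)).map pm) * (x ≫ (Over.pullback (Red.geomPt s)).map pp) := by
  exact Groth.Agent.GrpSchLib.RankOne.exists_not_commute hG hΩ hpp s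

end Groth.Agent.S8446
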