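import Groth.Statements.S8447
import Groth.Agent.GrpSchLib.RankOneNondeg
import Groth.Agent.GrpSchLib.RankOneBig


set_option autoImplicit false
universe u
open CategoryTheory MonoidalCategory CartesianMonoidalCategory MonObj GrpObj AlgebraicGeometry CategoryTheory.Limits
open Red

namespace Groth.Agent.S8447

/-- Let G be a reductive S-group, i : T ⟶ G a maximal torus, α a character of T non-trivial on every
geometric fibre, and p₊, p₋ : 𝔾_a ⟶ G monomorphisms of groups normalised by T with multipliers α and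
α⁻¹ such that 𝔾_a ×_S T ×_S 𝔾_a ⟶ G, (y, t, x) ↦ p₋(y) i(t) p₊(x), is an open immersion (a rank-one
system: G has semisimple rank 1 and p₊, p₋ trivialise the root groups of α and -α). Then the centre
of G is Ker α: a point g of G with values in an S-scheme X commutes with all points of G after every
base change X' ⟶ X if and only if g = i(t) for some X-point t of T with α(t) = 1. (In particular the
centre is a closed subgroup of multiplicative type; only the equality of points is stated.) -/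
theorem result (S : Scheme.{u}) (G T : Over S) [GrpObj G] [GrpObj T] (i : T ⟶ G) [IsMonHom i] [Mono i] (hG : Red.IsReductive G) (hTm : Red.IsMaximalTorus i)
    (α : T ⟶ Red.Gm S) [IsMonHom α] (hα : ∀ s : S, (Over.pullback (Red.geomPt s)).map α ≠ 1)
    (pp pm : Red.Ga S ⟶ G) [IsMonHom pp] [Mono pp] [IsMonHom pm] [Mono pm]
    (hpp : ∀ (X : Over S) (t : X ⟶ T) (x : X ⟶ Red.Ga S), ∃ x' : X ⟶ Red.Ga S,
      x' ≫ pp = (t ≫ i) * (x ≫ pp) * (t ≫ i)⁻¹ ∧ Red.gaFn x' = Red.gmFn (t ≫ α) * Red.gaFn x)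
    (hpm : ∀ (X : Over S) (t : X ⟶ T) (y : X ⟶ Red.Ga S), ∃ y' : X ⟶ Red.Ga S,
      y' ≫ pm = (t ≫ i) * (y ≫ pm) * (t ≫ i)⁻¹ ∧ Red.gaFn y' * Red.gmFn (t ≫ α) = Red.gaFn y)
    (hΩ : IsOpenImmersion (((pm ⊗ₘ i) ⊗ₘ pp) ≫ (μ[G] ▷ G) ≫ μ[G]).left) (X : Over S) (g : X ⟶ G) :
    (∀ (X' : Over S) (x : X' ⟶ X) (k : X' ⟶ G), (x ≫ g) * k = k * (x ≫ g)) ↔
      ∃ t : X ⟶ T, t ≫ i = g ∧ t ≫ α = 1 := by
  have hT : Red.IsTorus T := hTm.2.2.1
  constructor
  · intro hc
    obtain ⟨a, t, d, he⟩ := GrpSchLib.RankOne.exists_coords hΩ g fun K hK b j hroot => by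
      letI := hK.toField
      haveI : IsAlgClosed K := IsAlgClosed.of_exists_root _ fun q _ hq =>
        hroot q (Irreducible.natDegree_pos hq).ne'
      obtain ⟨a, t, d, a', t', d', he⟩ := GrpSchLib.RankOne.exists_cell_translate (K := (K : Type u)) (b := b) hG hΩ (j ≫ g)
      have h1 := hc _ j (a ≫ pm)
      have h3 : (j ≫ g) * (t ≫ i) = (a⁻¹ ≫ pm) * ((a' ≫ pm) * (t' ≫ i) * (d' ≫ pp)) * (d⁻¹ ≫ pp) := by
        rw [← he, ← _root_.mul_assoc (j ≫ g), ← _root_.mul_assoc (j ≫ g), h1, GrpObj.inv_comp, GrpObj.inv_comp]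
        group
      refine ⟨a⁻¹ * a', t' * t⁻¹, GrpSchLib.GaPts.ptOfFn (GmPts.unitOfPt (t ≫ α) * Red.gaFn (d' * d⁻¹)), ?_⟩
      rw [← GrpSchLib.RankOne.conj_pp hpp t (d' * d⁻¹), MonObj.mul_comp, MonObj.mul_comp, MonObj.mul_comp,
        GrpObj.inv_comp _ i]
      refine mul_right_cancel (b := t ≫ i) ?_
      rw [h3]
      group
    have key : ∀ (X' : Over S) (x : X' ⟶ X) (s : X' ⟶ T),
        GrpSchLib.GaPts.ptOfFn (((GmPts.unitOfPt (s ≫ α))⁻¹ : _ˣ) * Red.gaFn (x ≫ a) : Γ(X'.left, ⊤)) = x ≫ a ∧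
        GrpSchLib.GaPts.ptOfFn (GmPts.unitOfPt (s ≫ α) * Red.gaFn (x ≫ d) : Γ(X'.left, ⊤)) = x ≫ d := by
      intro X' x s
      have h1 : (s ≫ i) * (x ≫ g) * (s ≫ i)⁻¹ = x ≫ g := by rw [← hc X' x (s ≫ i), mul_inv_cancel_right]
      rw [he, MonObj.comp_mul, MonObj.comp_mul, ← Category.assoc, ← Category.assoc, ← Category.assoc,
        GrpSchLib.RankOne.conj_cell hpp hpm] at h1
      obtain ⟨e1, -, e3⟩ := GrpSchLib.RankOne.cell_ext hΩ h1
      exact ⟨e1, e3⟩
    have ha : a = 1 := GrpSchLib.GaPts.gaFn_injective (by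
      show Red.gaFn a = Red.gaFn 1
      rw [GrpSchLib.GaPts.gaFn_one]
      refine GrpSchLib.RankOne.eq_zero_of_nondeg hT α hα one_pos _ fun X' x s => ?_
      have h := congrArg (fun z => (GmPts.unitOfPt (s ≫ α) : Γ(X'.left, ⊤)) * Red.gaFn z) (key X' x s).1
      simp only [GrpSchLib.GaPts.gaFn_ptOfFn, Units.mul_inv_cancel_left, GrpSchLib.GaPts.gaFn_comp] at h
      linear_combination -h)
    have hd : d = 1 := GrpSchLib.GaPts.gaFn_injective (by
      show Red.gaFn d = Red.gaFn 1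
      rw [GrpSchLib.GaPts.gaFn_one]
      refine GrpSchLib.RankOne.eq_zero_of_nondeg hT α hα one_pos _ fun X' x s => ?_
      have h := congrArg (fun z => Red.gaFn z) (key X' x s).2
      simp only [GrpSchLib.GaPts.gaFn_ptOfFn, GrpSchLib.GaPts.gaFn_comp] at h
      linear_combination h)
    rw [ha, hd, MonObj.one_comp, MonObj.one_comp, _root_.one_mul, _root_.mul_one] at he
    refine ⟨t, he.symm, GmPts.gmFn_injective ?_⟩
    show Red.gmFn (t ≫ α) = Red.gmFn 1
    rw [GmPts.gmFn_one]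
    have h2 := GrpSchLib.RankOne.conj_pp hpp t (GrpSchLib.GaPts.ptOfFn (1 : Γ(X.left, ⊤)))
    have h1 := hc X (𝟙 X) (GrpSchLib.GaPts.ptOfFn (1 : Γ(X.left, ⊤)) ≫ pp)
    rw [Category.id_comp, he] at h1
    rw [h1, mul_inv_cancel_right, cancel_mono] at h2
    have h3 := congrArg Red.gaFn h2
    rw [GrpSchLib.GaPts.gaFn_ptOfFn, GrpSchLib.GaPts.gaFn_ptOfFn, _root_.mul_one] at h3
    exact h3.symm
  · rintro ⟨t, rfl, ht⟩ X' x k
    have hcell : ∀ (Y : Over S) (y : Y ⟶ X) (c : Y ⟶ (Red.Ga S ⊗ T) ⊗ Red.Ga S),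
        (y ≫ t ≫ i) * (c ≫ GrpSchLib.RankOne.cellMap i pp pm) = (c ≫ GrpSchLib.RankOne.cellMap i pp pm) * (y ≫ t ≫ i) := by
      intro Y y c
      have hc : c = lift (lift (c ≫ fst _ _ ≫ fst _ _) (c ≫ fst _ _ ≫ snd _ _)) (c ≫ snd _ _) := by
        ext <;> simp
      rw [hc, GrpSchLib.RankOne.cell_comp, ← Category.assoc y, ← mul_inv_eq_iff_eq_mul,
        GrpSchLib.RankOne.conj_cell hpp hpm, Category.assoc y t α, ht, MonObj.comp_one, GmPts.unitOfPt_one, inv_one,
        Units.val_one, _root_.one_mul, _root_.one_mul, ← GrpSchLib.RankOne.ga_eq_ptOfFn,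
        ← GrpSchLib.RankOne.ga_eq_ptOfFn, GrpSchLib.RankOne.torus_mul_comm hT (Y) (y ≫ t), mul_inv_cancel_right]
    let D := GrpSchLib.RankOne.divCell i pp pm
    let p := Limits.pullback.fst k.left D.left
    haveI := GrpSchLib.RankOne.flat_divCell hG.2.1 hΩ
    haveI := GrpSchLib.RankOne.surjective_divCell hG hΩ
    haveI : Epi p := Flat.epi_of_flat_of_surjective p
    let P : Over S := Over.mk (p ≫ X'.hom)
    let q : P ⟶ X' := Over.homMk p rfl
    haveI : Epi q := (Over.forget S).epi_of_epi_map (inferInstanceAs (Epi p))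
    let l : P ⟶ _ := Over.homMk (Limits.pullback.snd k.left D.left) (by
      show _ ≫ _ = p ≫ X'.hom
      rw [← Over.w D, ← Category.assoc, ← Limits.pullback.condition, Category.assoc, Over.w k])
    have hl : q ≫ k = l ≫ D := Over.OverMorphism.ext Limits.pullback.condition
    rw [← cancel_epi q, MonObj.comp_mul, MonObj.comp_mul, hl, ← Category.assoc q x]
    have h1 := hcell P (q ≫ x) (l ≫ fst _ _)
    have h2 := hcell P (q ≫ x) (l ≫ snd _ _)
    have hD : l ≫ D = ((l ≫ fst _ _) ≫ GrpSchLib.RankOne.cellMap i pp pm) *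
        ((l ≫ snd _ _) ≫ GrpSchLib.RankOne.cellMap i pp pm)⁻¹ := by
      simp only [D, GrpSchLib.RankOne.divCell, GrpSchLib.RankOne.divMap, MonObj.comp_mul, GrpObj.comp_inv,
        tensorHom_fst, tensorHom_snd, Category.assoc]
    rw [hD]
    exact Commute.mul_right h1 (Commute.inv_right h2)

end Groth.Agent.S8447
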