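import Groth.Statements.S8448
import Groth.Agent.GrpSchLib.RankOne


set_option autoImplicit false
universe u
open CategoryTheory MonoidalCategory CartesianMonoidalCategory MonObj GrpObj AlgebraicGeometry CategoryTheory.Limits
open Red

namespace Groth.Agent.S8448

/-- Let G be an S-group scheme, i : T ⟶ G a torus of G (a monomorphism of groups), α : T ⟶ 𝔾_m and α^* :
𝔾_m ⟶ T homomorphisms with α ∘ α^* the squaring map, and p₊, p₋ : 𝔾_a ⟶ G homomorphisms normalised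
by T with multipliers α and α⁻¹ which satisfy the rank-one commutation rule: whenever 1 + xy is
invertible, p₊(x) p₋(y) = p₋(y/(1+xy)) · i(α^*(1+xy)) · p₊(x/(1+xy)) (the situation of any reductive
group of semisimple rank 1 with trivialised root groups, where α^* is the coroot). For a point x of
𝔾_a whose coordinate is invertible put w(x) = p₊(x) p₋(-x⁻¹) p₊(x). Then w(x) normalises T: w(x)
i(t) w(x)⁻¹ = i(α^*(α(t)))⁻¹ · i(t) for every point t of T, and for every point z of 𝔾_m one has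
w(zx) = i(α^*(z)) · w(x) = w(x) · i(α^*(z))⁻¹. (The published statement is for a reductive group of
semisimple rank one with a maximal torus and a root; this row assumes only the commutation rule, the
normalisation of p₊, p₋ by T and α ∘ α^* the squaring map, which is all the published proof uses.) -/
theorem result (S : Scheme.{u}) (G T : Over S) [GrpObj G] [GrpObj T] (i : T ⟶ G) [IsMonHom i] [Mono i] (hT : Red.IsTorus T)
    (α : T ⟶ Red.Gm S) [IsMonHom α]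
    (pp pm : Red.Ga S ⟶ G) [IsMonHom pp] [IsMonHom pm]
    (hpp : ∀ (X : Over S) (t : X ⟶ T) (x : X ⟶ Red.Ga S), ∃ x' : X ⟶ Red.Ga S,
      x' ≫ pp = (t ≫ i) * (x ≫ pp) * (t ≫ i)⁻¹ ∧ Red.gaFn x' = Red.gmFn (t ≫ α) * Red.gaFn x)
    (hpm : ∀ (X : Over S) (t : X ⟶ T) (y : X ⟶ Red.Ga S), ∃ y' : X ⟶ Red.Ga S,
      y' ≫ pm = (t ≫ i) * (y ≫ pm) * (t ≫ i)⁻¹ ∧ Red.gaFn y' * Red.gmFn (t ≫ α) = Red.gaFn y)
    (av : Red.Gm S ⟶ T) [IsMonHom av] (h2 : av ≫ α = (𝟙 (Red.Gm S)) ^ 2)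
    (hF : ∀ (X : Over S) (x y : X ⟶ Red.Ga S), IsUnit (1 + Red.gaFn x * Red.gaFn y) →
      ∃ (x' y' : X ⟶ Red.Ga S) (z : X ⟶ Red.Gm S), Red.gmFn z = 1 + Red.gaFn x * Red.gaFn y ∧
        Red.gaFn x' * Red.gmFn z = Red.gaFn x ∧ Red.gaFn y' * Red.gmFn z = Red.gaFn y ∧
        (x ≫ pp) * (y ≫ pm) = (y' ≫ pm) * (z ≫ av ≫ i) * (x' ≫ pp))
    (X : Over S) (x x' : X ⟶ Red.Ga S) (hx : Red.gaFn x' * Red.gaFn x = -1) :
    (∀ t : X ⟶ T, ((x ≫ pp) * (x' ≫ pm) * (x ≫ pp)) * (t ≫ i) * ((x ≫ pp) * (x' ≫ pm) * (x ≫ pp))⁻¹ =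
        (t ≫ α ≫ av ≫ i)⁻¹ * (t ≫ i)) ∧
      ∀ (z : X ⟶ Red.Gm S) (y y' : X ⟶ Red.Ga S), Red.gaFn y = Red.gmFn z * Red.gaFn x →
        Red.gaFn y' * Red.gaFn y = -1 →
        (y ≫ pp) * (y' ≫ pm) * (y ≫ pp) = (z ≫ av ≫ i) * ((x ≫ pp) * (x' ≫ pm) * (x ≫ pp)) ∧
          (y ≫ pp) * (y' ≫ pm) * (y ≫ pp) = ((x ≫ pp) * (x' ≫ pm) * (x ≫ pp)) * (z ≫ av ≫ i)⁻¹ := by
  let Φ := Groth.Agent.GrpSchLib.RankOne.sys i α pp pm hpp hpm av h2 hF X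
  have hp : ∀ x : X ⟶ Red.Ga S, Φ.p (Red.gaFn x) = x ≫ pp := fun x =>
    congrArg (· ≫ pp) (Groth.Agent.GrpSchLib.GaPts.gaFn_injective (Groth.Agent.GrpSchLib.GaPts.gaFn_ptOfFn _))
  have hm' : ∀ x : X ⟶ Red.Ga S, Φ.m (Red.gaFn x) = x ≫ pm := fun x =>
    congrArg (· ≫ pm) (Groth.Agent.GrpSchLib.GaPts.gaFn_injective (Groth.Agent.GrpSchLib.GaPts.gaFn_ptOfFn _))
  have hI : ∀ z : X ⟶ Red.Gm S, Φ.I (Φ.av (GmPts.unitOfPt z)) = z ≫ av ≫ i := fun z => by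
    show (GmPts.ptOfUnit (GmPts.unitOfPt z) ≫ av) ≫ i = _
    rw [GmPts.ptOfUnit_unitOfPt, Category.assoc]
  have ha : ∀ t : X ⟶ T, Φ.a t = GmPts.unitOfPt (t ≫ α) := fun t => rfl
  let u : (Γ(X.left, ⊤))ˣ := Units.mkOfMulEqOne (Red.gaFn x) (-Red.gaFn x')
    (by rw [mul_neg, mul_comm, hx, neg_neg])
  have hw : (x ≫ pp) * (x' ≫ pm) * (x ≫ pp) = Φ.w u := by
    show _ = Φ.p (Red.gaFn x) * Φ.m (-(-Red.gaFn x')) * Φ.p (Red.gaFn x)
    rw [neg_neg, hp, hm']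
  refine ⟨fun t => ?_, fun z y y' hy0 hy => ?_⟩
  · rw [hw]
    refine (Φ.w_conj u t).trans ?_
    rw [ha, hI, Category.assoc]
    rfl
  ·
    let v : (Γ(X.left, ⊤))ˣ := Units.mkOfMulEqOne (Red.gaFn y) (-Red.gaFn y')
      (by rw [mul_neg, mul_comm, hy, neg_neg])
    have hv : (y ≫ pp) * (y' ≫ pm) * (y ≫ pp) = Φ.w v := by
      show _ = Φ.p (Red.gaFn y) * Φ.m (-(-Red.gaFn y')) * Φ.p (Red.gaFn y)
      rw [neg_neg, hp, hm']
    have e : v = GmPts.unitOfPt z * u := Units.ext hy0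
    rw [hv, hw, e, ← hI]
    exact ⟨Φ.w_mul _ _, Φ.w_mul_right _ _⟩

end Groth.Agent.S8448
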