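import Groth.Statements.S8475
import Groth.Agent.GrpSchLib.RankOneBraid


set_option autoImplicit false
universe u
open CategoryTheory MonoidalCategory CartesianMonoidalCategory MonObj GrpObj AlgebraicGeometry CategoryTheory.Limits
open Red

namespace Groth.Agent.S8475

/-- Let G be a reductive S-group, i : T ⟶ G a maximal torus, α a character of T non-trivial on every
geometric fibre, p₊, p₋ : 𝔾_a ⟶ G monomorphisms of groups normalised by T with multipliers α and α⁻¹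
whose cell map (y, t, x) ↦ p₋(y) i(t) p₊(x) is an open immersion 𝔾_a ×_S T ×_S 𝔾_a ⟶ G, and α^* :
𝔾_m ⟶ T the coroot: α ∘ α^* is the squaring map and p₊(x) p₋(y) = p₋(y/(1+xy)) · i(α^*(1+xy)) ·
p₊(x/(1+xy)) whenever 1 + xy is invertible (so p₊ and p₋ are dual to each other). For a point x of
𝔾_a with invertible coordinate put w(x) = p₊(x) p₋(-x⁻¹) p₊(x). Then w(x) p₊(x) w(x)⁻¹ = p₋(-x⁻¹),
and consequently (w(x) p₊(x))³ = e. -/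
theorem result (S : Scheme.{u}) (G T : Over S) [GrpObj G] [GrpObj T] (i : T ⟶ G) [IsMonHom i] [Mono i] (hG : Red.IsReductive G) (hTm : Red.IsMaximalTorus i)
    (α : T ⟶ Red.Gm S) [IsMonHom α] (hα : ∀ s : S, (Over.pullback (Red.geomPt s)).map α ≠ 1)
    (pp pm : Red.Ga S ⟶ G) [IsMonHom pp] [Mono pp] [IsMonHom pm] [Mono pm]
    (hpp : ∀ (X : Over S) (t : X ⟶ T) (x : X ⟶ Red.Ga S), ∃ x' : X ⟶ Red.Ga S,
      x' ≫ pp = (t ≫ i) * (x ≫ pp) * (t ≫ i)⁻¹ ∧ Red.gaFn x' = Red.gmFn (t ≫ α) * Red.gaFn x)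
    (hpm : ∀ (X : Over S) (t : X ⟶ T) (y : X ⟶ Red.Ga S), ∃ y' : X ⟶ Red.Ga S,
      y' ≫ pm = (t ≫ i) * (y ≫ pm) * (t ≫ i)⁻¹ ∧ Red.gaFn y' * Red.gmFn (t ≫ α) = Red.gaFn y)
    (hΩ : IsOpenImmersion (((pm ⊗ₘ i) ⊗ₘ pp) ≫ (μ[G] ▷ G) ≫ μ[G]).left)
    (av : Red.Gm S ⟶ T) [IsMonHom av] (h2 : av ≫ α = (𝟙 (Red.Gm S)) ^ 2)
    (hF : ∀ (X : Over S) (x y : X ⟶ Red.Ga S), IsUnit (1 + Red.gaFn x * Red.gaFn y) →
      ∃ (x' y' : X ⟶ Red.Ga S) (z : X ⟶ Red.Gm S), Red.gmFn z = 1 + Red.gaFn x * Red.gaFn y ∧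
        Red.gaFn x' * Red.gmFn z = Red.gaFn x ∧ Red.gaFn y' * Red.gmFn z = Red.gaFn y ∧
        (x ≫ pp) * (y ≫ pm) = (y' ≫ pm) * (z ≫ av ≫ i) * (x' ≫ pp))
    (X : Over S) (x x' : X ⟶ Red.Ga S) (hx : Red.gaFn x' * Red.gaFn x = -1) :
    ((x ≫ pp) * (x' ≫ pm) * (x ≫ pp)) * (x ≫ pp) * ((x ≫ pp) * (x' ≫ pm) * (x ≫ pp))⁻¹ = x' ≫ pm ∧
      (((x ≫ pp) * (x' ≫ pm) * (x ≫ pp)) * (x ≫ pp)) ^ 3 = 1 := by
  let Φ := Groth.Agent.GrpSchLib.RankOne.sys i α pp pm hpp hpm av h2 hF X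
  have hp : ∀ x : X ⟶ Red.Ga S, Φ.p (Red.gaFn x) = x ≫ pp := fun x =>
    congrArg (· ≫ pp) (Groth.Agent.GrpSchLib.GaPts.gaFn_injective (Groth.Agent.GrpSchLib.GaPts.gaFn_ptOfFn _))
  have hm' : ∀ x : X ⟶ Red.Ga S, Φ.m (Red.gaFn x) = x ≫ pm := fun x =>
    congrArg (· ≫ pm) (Groth.Agent.GrpSchLib.GaPts.gaFn_injective (Groth.Agent.GrpSchLib.GaPts.gaFn_ptOfFn _))
  have hI : ∀ z : X ⟶ Red.Gm S, Φ.I (Φ.av (GmPts.unitOfPt z)) = z ≫ av ≫ i := fun z => by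
    show (GmPts.ptOfUnit (GmPts.unitOfPt z) ≫ av) ≫ i = _
    rw [GmPts.ptOfUnit_unitOfPt, Category.assoc]
  have ha : ∀ t : X ⟶ T, Φ.a t = GmPts.unitOfPt (t ≫ α) := fun t => rfl
  let u : (Γ(X.left, ⊤))ˣ := Units.mkOfMulEqOne (Red.gaFn x) (-Red.gaFn x')
    (by rw [mul_neg, mul_comm, hx, neg_neg])
  have hw : (x ≫ pp) * (x' ≫ pm) * (x ≫ pp) = Φ.w u := by
    show _ = Φ.p (Red.gaFn x) * Φ.m (-(-Red.gaFn x')) * Φ.p (Red.gaFn x)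
    rw [neg_neg, hp, hm']
  have hb := Groth.Agent.GrpSchLib.RankOne.braid i α pp pm hpp hpm av h2 hF X (-u)
  rw [neg_neg, inv_neg, Units.val_neg, Units.val_neg, neg_neg] at hb
  rw [hw, ← hp, ← hm']
  have hu : (u : Γ(X.left, ⊤)) = Red.gaFn x := rfl
  have hu' : -((u⁻¹ : _ˣ) : Γ(X.left, ⊤)) = Red.gaFn x' := neg_neg _
  have hw' : Φ.w u = Φ.p (Red.gaFn x) * Φ.m (Red.gaFn x') * Φ.p (Red.gaFn x) := by rw [← hu, ← hu']; rfl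
  replace hb : Φ.m (Red.gaFn x') * Φ.p (Red.gaFn x) * Φ.m (Red.gaFn x') = Φ.w u := by rw [← hu, ← hu']; exact hb
  have h1 : Φ.w u * Φ.p (Red.gaFn x) * (Φ.w u)⁻¹ = Φ.m (Red.gaFn x') := by
    conv_lhs => arg 1; arg 1; rw [← hb]
    rw [hw']; group
  refine ⟨h1, ?_⟩
  have hc : Φ.w u ^ 2 * Φ.m (Red.gaFn x') = Φ.m (Red.gaFn x') * Φ.w u ^ 2 := by
    rw [Φ.w_sq, Φ.I_mul_m, Φ.a_av]; simp
  have h3 : Φ.m (Red.gaFn x') * Φ.p (Red.gaFn x) * Φ.w u * Φ.p (Red.gaFn x) = Φ.w u ^ 2 := by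
    conv_lhs => arg 1; arg 2; rw [← hb]
    conv_rhs => rw [pow_two]; arg 2; rw [hw']
    rw [← hb]; group
  calc (Φ.w u * Φ.p (Red.gaFn x)) ^ 3
      = (Φ.w u * Φ.p (Red.gaFn x) * (Φ.w u)⁻¹) * Φ.w u ^ 2 * Φ.p (Red.gaFn x) * Φ.w u * Φ.p (Red.gaFn x) := by
        simp only [pow_succ, pow_zero, _root_.one_mul]; group
    _ = Φ.w u ^ 2 * (Φ.m (Red.gaFn x') * Φ.p (Red.gaFn x) * Φ.w u * Φ.p (Red.gaFn x)) := by
        rw [h1, ← hc]; group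
    _ = 1 := by rw [h3, Φ.w_sq, ← map_mul, ← map_mul, neg_mul_neg, _root_.one_mul, map_one, map_one]

end Groth.Agent.S8475
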