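import Groth.Statements.S8451
import Groth.Agent.S8450
import Groth.Agent.S8475
import Groth.Agent.GrpSchLib.RankOneBraid


set_option autoImplicit false
universe u
open CategoryTheory MonoidalCategory CartesianMonoidalCategory MonObj GrpObj AlgebraicGeometry CategoryTheory.Limits
open Red

namespace Groth.Agent.S8451

/-- Let G be a reductive S-group, i : T ⟶ G a maximal torus, α a character of T non-trivial on every
geometric fibre, p₊, p₋ : 𝔾_a ⟶ G monomorphisms of groups normalised by T with multipliers α and α⁻¹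
whose cell map (y, t, x) ↦ p₋(y) i(t) p₊(x) is an open immersion 𝔾_a ×_S T ×_S 𝔾_a ⟶ G, and α^* :
𝔾_m ⟶ T the coroot: α ∘ α^* is the squaring map and p₊(x) p₋(y) = p₋(y/(1+xy)) · i(α^*(1+xy)) ·
p₊(x/(1+xy)) whenever 1 + xy is invertible (so p₊ and p₋ are dual to each other). Let e₁, em be the
S-points of 𝔾_a with coordinates 1 and -1, u = p₊(e₁) and w₀ = p₊(e₁) p₋(em) p₊(e₁). Let n be a
non-zero integer. If an S-point w of G satisfies w · i(α^*(z))^n · w⁻¹ = i(α^*(z))^{-n} for all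
points z of 𝔾_m (after base change) and w u w⁻¹ = u⁻¹ w u⁻¹, then w = w₀. (The published statement
has the condition (w u)³ = e in place of w u w⁻¹ = u⁻¹ w u⁻¹, and also asserts that w₀ has both
properties. The cube condition does not determine w when the centre of G contains a non-trivial cube
root of unity: for G = GL₂ over a field containing a primitive cube root of unity ζ, the point ζ·w₀
inverts the coroot and satisfies (ζ w₀ u)³ = e. The published proof uses the conjugation identity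
stated here, which is equivalent to (w u)³ = e once w² = i(α^*(-1)).) -/
theorem result (S : Scheme.{u}) (G T : Over S) [GrpObj G] [GrpObj T] (i : T ⟶ G) [IsMonHom i] [Mono i] (hG : Red.IsReductive G) (hTm : Red.IsMaximalTorus i)
    (α : T ⟶ Red.Gm S) [IsMonHom α] (hα : ∀ s : S, (Over.pullback (Red.geomPt s)).map α ≠ 1)
    (pp pm : Red.Ga S ⟶ G) [IsMonHom pp] [Mono pp] [IsMonHom pm] [Mono pm]
    (hpp : ∀ (X : Over S) (t : X ⟶ T) (x : X ⟶ Red.Ga S), ∃ x' : X ⟶ Red.Ga S,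
      x' ≫ pp = (t ≫ i) * (x ≫ pp) * (t ≫ i)⁻¹ ∧ Red.gaFn x' = Red.gmFn (t ≫ α) * Red.gaFn x)
    (hpm : ∀ (X : Over S) (t : X ⟶ T) (y : X ⟶ Red.Ga S), ∃ y' : X ⟶ Red.Ga S,
      y' ≫ pm = (t ≫ i) * (y ≫ pm) * (t ≫ i)⁻¹ ∧ Red.gaFn y' * Red.gmFn (t ≫ α) = Red.gaFn y)
    (hΩ : IsOpenImmersion (((pm ⊗ₘ i) ⊗ₘ pp) ≫ (μ[G] ▷ G) ≫ μ[G]).left)
    (av : Red.Gm S ⟶ T) [IsMonHom av] (h2 : av ≫ α = (𝟙 (Red.Gm S)) ^ 2)
    (hF : ∀ (X : Over S) (x y : X ⟶ Red.Ga S), IsUnit (1 + Red.gaFn x * Red.gaFn y) →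
      ∃ (x' y' : X ⟶ Red.Ga S) (z : X ⟶ Red.Gm S), Red.gmFn z = 1 + Red.gaFn x * Red.gaFn y ∧
        Red.gaFn x' * Red.gmFn z = Red.gaFn x ∧ Red.gaFn y' * Red.gmFn z = Red.gaFn y ∧
        (x ≫ pp) * (y ≫ pm) = (y' ≫ pm) * (z ≫ av ≫ i) * (x' ≫ pp))
    (e₁ em : 𝟙_ (Over S) ⟶ Red.Ga S) (he₁ : Red.gaFn e₁ = 1) (hem : Red.gaFn em = -1)
    (n : ℤ) (hn : n ≠ 0) (w : 𝟙_ (Over S) ⟶ G)
    (hw : ∀ (X : Over S) (z : X ⟶ Red.Gm S),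
      (toUnit X ≫ w) * (((z ≫ av) ^ n) ≫ i) * (toUnit X ≫ w)⁻¹ = ((((z ≫ av) ^ n) ≫ i))⁻¹)
    (hconj : w * (e₁ ≫ pp) * w⁻¹ = (e₁ ≫ pp)⁻¹ * w * (e₁ ≫ pp)⁻¹) :
    w = (e₁ ≫ pp) * (em ≫ pm) * (e₁ ≫ pp) := by
  let Φ := GrpSchLib.RankOne.sys i α pp pm hpp hpm av h2 hF
  have ec : ∀ X : Over S, toUnit X ≫ e₁ = GrpSchLib.GaPts.ptOfFn (1 : Γ(X.left, ⊤)) := fun X =>
    GrpSchLib.GaPts.gaFn_injective (by simp [GrpSchLib.GaPts.gaFn_comp, GrpSchLib.GaPts.gaFn_ptOfFn, he₁])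
  let w₀ := (e₁ ≫ pp) * (em ≫ pm) * (e₁ ≫ pp)
  have hw₀ : w₀ = (Φ (𝟙_ (Over S))).w 1 := by
    have h1 : e₁ = GrpSchLib.GaPts.ptOfFn 1 :=
      GrpSchLib.GaPts.gaFn_injective (by simp [GrpSchLib.GaPts.gaFn_ptOfFn, he₁])
    have h2 : em = GrpSchLib.GaPts.ptOfFn (-1) :=
      GrpSchLib.GaPts.gaFn_injective (by simp [GrpSchLib.GaPts.gaFn_ptOfFn, hem])
    simp only [w₀, h1, h2, GrpSchLib.RankOne.Sys.w, inv_one, Units.val_one]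
    rfl
  have hw₀' : ∀ (X : Over S) (z : X ⟶ Red.Gm S),
      (toUnit X ≫ w₀) * ((z ≫ av) ≫ i) * (toUnit X ≫ w₀)⁻¹ = ((z ≫ av) ≫ i)⁻¹ := by
    intro X z
    have h := (Φ X).w_conj 1 ((Φ X).av (GmPts.unitOfPt z))
    rw [(Φ X).a_av, pow_two, map_mul, map_mul, _root_.mul_inv_rev, inv_mul_cancel_right] at h
    have e : toUnit X ≫ w₀ = (Φ X).w 1 := by
      have h1 : toUnit X ≫ em = GrpSchLib.GaPts.ptOfFn (-1 : Γ(X.left, ⊤)) :=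
        GrpSchLib.GaPts.gaFn_injective (by simp [GrpSchLib.GaPts.gaFn_comp, GrpSchLib.GaPts.gaFn_ptOfFn, hem])
      simp only [w₀, MonObj.comp_mul, ← Category.assoc, ec, h1, GrpSchLib.RankOne.Sys.w, inv_one, Units.val_one]
      rfl
    have e2 : (Φ X).I ((Φ X).av (GmPts.unitOfPt z)) = (z ≫ av) ≫ i := by
      show ((GmPts.ptOfUnit (GmPts.unitOfPt z) ≫ av) ≫ i) = _
      rw [GmPts.ptOfUnit_unitOfPt]
    rw [e, ← e2]
    exact h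
  obtain ⟨t, ht⟩ := (Groth.Agent.S8450.result S G T i hG hTm α hα pp pm hpp hpm hΩ av h2 hF n hn (𝟙_ (Over S))
    (w₀⁻¹ * w)).1 (fun X y z => by
      obtain rfl : y = toUnit X := toUnit_unique _ _
      have h1 := hw X z
      have h2' : (toUnit X ≫ w₀) * (((z ≫ av) ^ n) ≫ i) * (toUnit X ≫ w₀)⁻¹ = (((z ≫ av) ^ n) ≫ i)⁻¹ := by
        have h := congrArg (· ^ n) (hw₀' X z)
        simp only [conj_zpow, inv_zpow] at h
        rw [GrpObj.zpow_comp]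
        exact h
      rw [MonObj.comp_mul, GrpObj.comp_inv]
      have h3 := h1.trans h2'.symm
      calc (toUnit X ≫ w₀)⁻¹ * (toUnit X ≫ w) * (((z ≫ av) ^ n) ≫ i)
          = (toUnit X ≫ w₀)⁻¹ * ((toUnit X ≫ w) * (((z ≫ av) ^ n) ≫ i) * (toUnit X ≫ w)⁻¹) * (toUnit X ≫ w) := by group
        _ = _ := by rw [h3]; group)
  have hwt : w = w₀ * (t ≫ i) := by rw [ht, mul_inv_cancel_left]
  show w = w₀
  let Ψ := Φ (𝟙_ (Over S))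
  let a : Γ((𝟙_ (Over S)).left, ⊤) := (Ψ.a t : _)
  have hP : e₁ ≫ pp = Ψ.p 1 :=
    congrArg (· ≫ pp) (GrpSchLib.GaPts.gaFn_injective (by simp [GrpSchLib.GaPts.gaFn_ptOfFn, he₁]))
  have hM : em ≫ pm = Ψ.m (-1) :=
    congrArg (· ≫ pm) (GrpSchLib.GaPts.gaFn_injective (by simp [GrpSchLib.GaPts.gaFn_ptOfFn, hem]))
  have hc : (Ψ.I t) * Ψ.p 1 * (Ψ.I t)⁻¹ = Ψ.p a := (Ψ.conj_p t 1).trans (by rw [_root_.mul_one])
  have hm : Ψ.w 1 * Ψ.p a * (Ψ.w 1)⁻¹ = Ψ.m (-a) := by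
    have h5 := (Groth.Agent.S8475.result S G T i hG hTm α hα pp pm hpp hpm hΩ av h2 hF _ e₁ em (by rw [hem, he₁, _root_.mul_one])).1
    rw [show (e₁ ≫ pp) * (em ≫ pm) * (e₁ ≫ pp) = Ψ.w 1 from hw₀, hP, hM] at h5
    rw [← hc]
    calc Ψ.w 1 * (Ψ.I t * Ψ.p 1 * (Ψ.I t)⁻¹) * (Ψ.w 1)⁻¹
        = (Ψ.w 1 * Ψ.I t * (Ψ.w 1)⁻¹) * (Ψ.w 1 * Ψ.p 1 * (Ψ.w 1)⁻¹) * (Ψ.w 1 * Ψ.I t * (Ψ.w 1)⁻¹)⁻¹ := by group
      _ = _ := by
        rw [Ψ.w_conj, h5, ← map_inv, ← map_mul, Ψ.conj_m, map_mul, map_inv, Ψ.a_av]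
        congr 1
        simp [a, pow_two]
  have h1 : Ψ.p (-1) * (Ψ.w 1 * Ψ.I t) * Ψ.p (-1) = Ψ.m (-a) := by
    have h := hconj
    rw [hwt, hw₀, hP] at h
    rw [Ψ.p_neg]
    refine h.symm.trans ?_
    rw [← hm]
    rw [← hc]
    show Ψ.w 1 * Ψ.I t * Ψ.p 1 * (Ψ.w 1 * Ψ.I t)⁻¹ = _
    group
  have h3 : Ψ.m (-1) * Ψ.I t * Ψ.p (((Ψ.a t)⁻¹ : _ˣ) - 1) = Ψ.m (-a) * Ψ.I 1 * Ψ.p 0 := by
    rw [map_one, Ψ.p_zero, _root_.mul_one, _root_.mul_one, ← h1, sub_eq_add_neg, Ψ.p_add, ← _root_.mul_assoc]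
    have hc : Ψ.I t * Ψ.p ((Ψ.a t)⁻¹ : _ˣ) = Ψ.p 1 * Ψ.I t := by
      rw [Ψ.p_mul_I, _root_.mul_one]
    rw [_root_.mul_assoc (Ψ.m (-1)), hc]
    simp only [GrpSchLib.RankOne.Sys.w, inv_one, Units.val_one, Ψ.p_neg]
    group
  have ht1 := (GrpSchLib.RankOne.cell_ext hΩ h3).2.1
  rw [hwt, ht1, MonObj.one_comp, _root_.mul_one]

end Groth.Agent.S8451
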