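import Groth.Statements.S8452
import Groth.Agent.GrpSchLib.RankOneTransfer


set_option autoImplicit false
universe u
open CategoryTheory MonoidalCategory CartesianMonoidalCategory MonObj GrpObj AlgebraicGeometry CategoryTheory.Limits
open Red

namespace Groth.Agent.S8452

/-- Let (G, T, α, p₊, p₋, α^*) and (G', T', α', p'₊, p'₋, α'^*) be two rank-one systems over S: G
reductive, i : T ⟶ G a maximal torus, α a character of T non-trivial on every geometric fibre, p₊,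
p₋ : 𝔾_a ⟶ G monomorphisms normalised by T with multipliers α, α⁻¹ whose cell map (y, t, x) ↦ p₋(y)
i(t) p₊(x) is an open immersion, α^* : 𝔾_m ⟶ T with α ∘ α^* the squaring map and p₊(x) p₋(y) =
p₋(y/(1+xy)) · i(α^*(1+xy)) · p₊(x/(1+xy)) whenever 1 + xy is invertible; likewise for the primed
data. Let q > 0 be an integer such that x ↦ x^q is additive on all functions of S-schemes. For a
homomorphism f : G ⟶ G' the following are equivalent: (i) f restricted to T factors through a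
homomorphism f_T : T ⟶ T' with α' ∘ f_T = α^q and f_T ∘ α^* = (α'^*)^q; (ii) there is an S-point c
of 𝔾_m (it is then unique) with f(p₊(x)) = p'₊(c x^q) and f(p₋(y)) = p'₋(c⁻¹ y^q) for all points x,
y of 𝔾_a. -/
theorem result (S : Scheme.{u}) (G T : Over S) [GrpObj G] [GrpObj T] (i : T ⟶ G) [IsMonHom i] [Mono i] (hG : Red.IsReductive G) (hTm : Red.IsMaximalTorus i)
    (α : T ⟶ Red.Gm S) [IsMonHom α] (hα : ∀ s : S, (Over.pullback (Red.geomPt s)).map α ≠ 1)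
    (pp pm : Red.Ga S ⟶ G) [IsMonHom pp] [Mono pp] [IsMonHom pm] [Mono pm]
    (hpp : ∀ (X : Over S) (t : X ⟶ T) (x : X ⟶ Red.Ga S), ∃ x' : X ⟶ Red.Ga S,
      x' ≫ pp = (t ≫ i) * (x ≫ pp) * (t ≫ i)⁻¹ ∧ Red.gaFn x' = Red.gmFn (t ≫ α) * Red.gaFn x)
    (hpm : ∀ (X : Over S) (t : X ⟶ T) (y : X ⟶ Red.Ga S), ∃ y' : X ⟶ Red.Ga S,
      y' ≫ pm = (t ≫ i) * (y ≫ pm) * (t ≫ i)⁻¹ ∧ Red.gaFn y' * Red.gmFn (t ≫ α) = Red.gaFn y)
    (hΩ : IsOpenImmersion (((pm ⊗ₘ i) ⊗ₘ pp) ≫ (μ[G] ▷ G) ≫ μ[G]).left)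
    (av : Red.Gm S ⟶ T) [IsMonHom av] (h2 : av ≫ α = (𝟙 (Red.Gm S)) ^ 2)
    (hF : ∀ (X : Over S) (x y : X ⟶ Red.Ga S), IsUnit (1 + Red.gaFn x * Red.gaFn y) →
      ∃ (x' y' : X ⟶ Red.Ga S) (z : X ⟶ Red.Gm S), Red.gmFn z = 1 + Red.gaFn x * Red.gaFn y ∧
        Red.gaFn x' * Red.gmFn z = Red.gaFn x ∧ Red.gaFn y' * Red.gmFn z = Red.gaFn y ∧
        (x ≫ pp) * (y ≫ pm) = (y' ≫ pm) * (z ≫ av ≫ i) * (x' ≫ pp))
    (G' T' : Over S) [GrpObj G'] [GrpObj T'] (i' : T' ⟶ G') [IsMonHom i'] [Mono i'] (hG' : Red.IsReductive G') (hTm' : Red.IsMaximalTorus i')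
    (α' : T' ⟶ Red.Gm S) [IsMonHom α'] (hα' : ∀ s : S, (Over.pullback (Red.geomPt s)).map α' ≠ 1)
    (pp' pm' : Red.Ga S ⟶ G') [IsMonHom pp'] [Mono pp'] [IsMonHom pm'] [Mono pm']
    (hpp' : ∀ (X : Over S) (t : X ⟶ T') (x : X ⟶ Red.Ga S), ∃ x' : X ⟶ Red.Ga S,
      x' ≫ pp' = (t ≫ i') * (x ≫ pp') * (t ≫ i')⁻¹ ∧ Red.gaFn x' = Red.gmFn (t ≫ α') * Red.gaFn x)
    (hpm' : ∀ (X : Over S) (t : X ⟶ T') (y : X ⟶ Red.Ga S), ∃ y' : X ⟶ Red.Ga S,
      y' ≫ pm' = (t ≫ i') * (y ≫ pm') * (t ≫ i')⁻¹ ∧ Red.gaFn y' * Red.gmFn (t ≫ α') = Red.gaFn y)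
    (hΩ' : IsOpenImmersion (((pm' ⊗ₘ i') ⊗ₘ pp') ≫ (μ[G'] ▷ G') ≫ μ[G']).left)
    (av' : Red.Gm S ⟶ T') [IsMonHom av'] (h2' : av' ≫ α' = (𝟙 (Red.Gm S)) ^ 2)
    (hF' : ∀ (X : Over S) (x y : X ⟶ Red.Ga S), IsUnit (1 + Red.gaFn x * Red.gaFn y) →
      ∃ (x' y' : X ⟶ Red.Ga S) (z : X ⟶ Red.Gm S), Red.gmFn z = 1 + Red.gaFn x * Red.gaFn y ∧
        Red.gaFn x' * Red.gmFn z = Red.gaFn x ∧ Red.gaFn y' * Red.gmFn z = Red.gaFn y ∧
        (x ≫ pp') * (y ≫ pm') = (y' ≫ pm') * (z ≫ av' ≫ i') * (x' ≫ pp'))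
    (q : ℕ) (hq0 : 0 < q) (hq : ∀ (X : Over S) (a b : Γ(X.left, ⊤)), (a + b) ^ q = a ^ q + b ^ q) (f : G ⟶ G') [IsMonHom f] :
    (∃ fT : T ⟶ T', IsMonHom fT ∧ i ≫ f = fT ≫ i' ∧ fT ≫ α' = α ^ q ∧ av ≫ fT = av' ^ q) ↔
      ∃! c : 𝟙_ (Over S) ⟶ Red.Gm S,
        (∀ (X : Over S) (x y : X ⟶ Red.Ga S), Red.gaFn y = Red.gmFn (toUnit X ≫ c) * Red.gaFn x ^ q →
          (x ≫ pp) ≫ f = y ≫ pp') ∧
        (∀ (X : Over S) (x y : X ⟶ Red.Ga S), Red.gaFn y * Red.gmFn (toUnit X ≫ c) = Red.gaFn x ^ q →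
          (x ≫ pm) ≫ f = y ≫ pm') := by
  haveI : IsAffineHom G'.hom := hG'.1
  let Φ := fun X => GrpSchLib.RankOne.sys i α pp pm hpp hpm av h2 hF X
  let Φ' := fun X => GrpSchLib.RankOne.sys i' α' pp' pm' hpp' hpm' av' h2' hF' X
  let F := fun X => GrpSchLib.RankOne.postHom f X
  have hneg : ∀ (X : Over S) (v : Γ(X.left, ⊤)), (-v) ^ q = -(v ^ q) := fun X =>
    GrpSchLib.RankOne.neg_pow_of_additive hq0 (hq X)
  have hav' : ∀ (X : Over S) (z : (Γ(X.left, ⊤))ˣ),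
      GmPts.ptOfUnit z ≫ (av' ^ q) = GmPts.ptOfUnit (z ^ q) ≫ av' := fun X z => by
    rw [MonObj.comp_pow, ← GrpSchLib.RankOne.ptOfUnit_comp_pow, MonObj.comp_pow, Category.comp_id, MonObj.pow_comp]
  constructor
  · rintro ⟨fT, hfT, hi, hα', hav⟩
    haveI := hfT
    have hI : ∀ (X : Over S) (z : (Γ(X.left, ⊤))ˣ),
        (GmPts.ptOfUnit z ≫ av ≫ i) ≫ f = GmPts.ptOfUnit (z ^ q) ≫ av' ≫ i' := fun X z => by
      rw [Category.assoc, Category.assoc, hi, ← Category.assoc av fT i', hav, ← Category.assoc, hav', Category.assoc]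
    obtain ⟨c, hc⟩ := GrpSchLib.RankOne.exists_pp_coeff f q hpp h2 hTm'.2.2.1 hpp' hpm' hΩ' h2' hq0 hI
    obtain ⟨a, ha⟩ := GrpSchLib.RankOne.exists_pm_coeff f q hpm h2 hTm'.2.2.1 hpp' hpm' hΩ' h2' hq0 hI
    have hone := GrpSchLib.RankOne.coeff_mul_eq_one f q Φ Φ' (fun _ _ => rfl) (fun _ _ => rfl) (fun _ _ => rfl)
      (fun _ _ => rfl) (fun _ _ => rfl) hΩ' hq0 hq (fun X z => by
        refine Eq.trans ?_ ((hI X z).trans (Category.assoc (GmPts.ptOfUnit (z ^ q)) av' i').symm)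
        exact congrArg (· ≫ f) (Category.assoc (GmPts.ptOfUnit z) av i))
      c a hc ha
    have h1 := hone (𝟙_ (Over S))
    simp only [toUnit_unique (toUnit (𝟙_ (Over S))) (𝟙 _), Category.id_comp] at h1
    let cu : (Γ((𝟙_ (Over S)).left, ⊤))ˣ := Units.mkOfMulEqOne _ _ h1
    have hcu : ∀ X : Over S, Red.gmFn (toUnit X ≫ GmPts.ptOfUnit cu) = Red.gaFn (toUnit X ≫ c) := fun X => by
      rw [GmPts.gmFn_comp, GmPts.gmFn_ptOfUnit, GrpSchLib.GaPts.gaFn_comp]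
      rfl
    refine ⟨GmPts.ptOfUnit cu, ⟨fun X x y hy => ?_, fun X x y hy => ?_⟩, fun c' hc' => GmPts.gmFn_injective ?_⟩
    · rw [GrpSchLib.RankOne.ga_eq_ptOfFn x, Category.assoc, hc]
      refine congrArg (· ≫ pp') (GrpSchLib.GaPts.gaFn_injective ?_)
      simp only [GrpSchLib.GaPts.gaFn_ptOfFn, hy, hcu]
    · rw [GrpSchLib.RankOne.ga_eq_ptOfFn x, Category.assoc, ha]
      refine congrArg (· ≫ pm') (GrpSchLib.GaPts.gaFn_injective ?_)
      rw [hcu] at hy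
      simp only [GrpSchLib.GaPts.gaFn_ptOfFn, ← hy]
      linear_combination Red.gaFn y * hone X
    · have e := hc'.1 (𝟙_ (Over S)) (GrpSchLib.GaPts.ptOfFn 1) (GrpSchLib.GaPts.ptOfFn (Red.gmFn c'))
        (by simp [GrpSchLib.GaPts.gaFn_ptOfFn, toUnit_unique (toUnit (𝟙_ (Over S))) (𝟙 _)])
      rw [Category.assoc, hc, cancel_mono] at e
      have e' := congrArg Red.gaFn e
      simp only [GrpSchLib.GaPts.gaFn_ptOfFn, one_pow, _root_.mul_one, toUnit_unique (toUnit (𝟙_ (Over S))) (𝟙 _),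
        Category.id_comp] at e'
      exact e'.symm.trans (GmPts.gmFn_ptOfUnit cu).symm
  · rintro ⟨c, ⟨hcp, hcm⟩, -⟩
    let cU := fun X : Over S => GmPts.unitOfPt (toUnit X ≫ c)
    have hfp : ∀ (X : Over S) (v : Γ(X.left, ⊤)), F X ((Φ X).p v) = (Φ' X).p ((cU X : Γ(X.left, ⊤)) * v ^ q) := fun X v =>
      hcp X _ _ (by simp only [GrpSchLib.GaPts.gaFn_ptOfFn]; rfl)
    have hfm : ∀ (X : Over S) (v : Γ(X.left, ⊤)),
        F X ((Φ X).m v) = (Φ' X).m (((cU X)⁻¹ : _ˣ) * v ^ q : Γ(X.left, ⊤)) := fun X v =>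
      hcm X _ _ (by
        simp only [GrpSchLib.GaPts.gaFn_ptOfFn]
        rw [mul_right_comm]
        exact (congrArg (· * v ^ q) (cU X).inv_mul).trans (_root_.one_mul _))
    have hI : ∀ (X : Over S) (z : (Γ(X.left, ⊤))ˣ),
        (GmPts.ptOfUnit z ≫ av ≫ i) ≫ f = GmPts.ptOfUnit (z ^ q) ≫ av' ≫ i' := fun X z => by
      have h := GrpSchLib.RankOne.Sys.coroot_of_w (Φ X) (Φ' X) (F X) (cU X)
        (GrpSchLib.RankOne.Sys.w_of_roots _ _ _ (cU X) (hneg X) (hfp X) (hfm X)) z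
      refine Eq.trans ?_ (h.trans (Category.assoc (GmPts.ptOfUnit (z ^ q)) av' i'))
      exact congrArg (· ≫ f) (Category.assoc (GmPts.ptOfUnit z) av i).symm
    have hlam : ∀ (Y : Over S) (z : (Γ(Y.left, ⊤))ˣ),
        GmPts.unitOfPt (GmPts.ptOfUnit z ≫ (((𝟙 (Red.Gm S)) ^ q) ≫ av') ≫ α') = z ^ (2 * q) := by
      intro Y z
      rw [Category.assoc, ← Category.assoc (GmPts.ptOfUnit z), GrpSchLib.RankOne.ptOfUnit_comp_pow,
        GrpSchLib.RankOne.unitOfPt_av h2', ← pow_mul, _root_.mul_comm]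
    obtain ⟨fT, hfT⟩ := GrpSchLib.RankOne.exists_torus_of_centralizes hG' hTm'.2.2.1 hpp' hpm' hΩ' _ (2 * q)
      (Nat.mul_pos two_pos hq0) hlam (i ≫ f) (fun Y j z => by
        rw [Category.assoc, ← Category.assoc (GmPts.ptOfUnit z), GrpSchLib.RankOne.ptOfUnit_comp_pow, ← hI,
          ← Category.assoc j i f, ← GrpObj.inv_comp, ← MonObj.mul_comp, ← MonObj.mul_comp]
        refine congrArg (· ≫ f) ?_
        rw [← Category.assoc, ← GrpObj.inv_comp, ← MonObj.mul_comp, ← MonObj.mul_comp,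
          GrpSchLib.RankOne.torus_mul_comm hTm.2.2.1 Y _ j, mul_inv_cancel_right])
    haveI : IsMonHom fT :=
      { one_hom := by rw [← cancel_mono i', Category.assoc, ← hfT, IsMonHom.one_hom (i ≫ f), IsMonHom.one_hom i']
        mul_hom := by
          rw [← cancel_mono i', Category.assoc, Category.assoc, ← hfT, IsMonHom.mul_hom (i ≫ f),
            IsMonHom.mul_hom i', ← Category.assoc (fT ⊗ₘ fT), MonoidalCategory.tensorHom_comp_tensorHom, ← hfT] }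
    refine ⟨fT, inferInstance, hfT, ?_, ?_⟩
    · refine (GmPts.equiv T).injective ?_
      show GmPts.unitOfPt (fT ≫ α') = GmPts.equiv T (α ^ q)
      rw [map_pow, GmPts.equiv_apply]
      have h := congrArg (F T) ((Φ T).conj_p (𝟙 T) 1)
      rw [map_mul, map_mul, map_inv, hfp, hfp, one_pow, _root_.mul_one, _root_.mul_one] at h
      have e1 : F T ((Φ T).I (𝟙 T)) = (Φ' T).I fT := by
        show (𝟙 T ≫ i) ≫ f = fT ≫ i'
        rw [Category.id_comp, hfT]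
      rw [e1, (Φ' T).conj_p] at h
      have h' := congrArg Red.gaFn ((cancel_mono pp').1 h)
      simp only [GrpSchLib.GaPts.gaFn_ptOfFn] at h'
      refine Units.ext ((cU T).isUnit.mul_left_inj.1 ?_)
      refine h'.trans ?_
      show _ * ((GmPts.unitOfPt (𝟙 T ≫ α) : _ˣ) : Γ(T.left, ⊤)) ^ q = _
      rw [Category.id_comp, Units.val_pow_eq_pow_val, _root_.mul_comm]
    · rw [← cancel_mono i', Category.assoc, ← hfT]
      have h := hI (Red.Gm S) (GmPts.unitOfPt (𝟙 (Red.Gm S)))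
      rw [← Category.assoc (GmPts.ptOfUnit (_ ^ q)), ← hav', GmPts.ptOfUnit_unitOfPt] at h
      simpa [Category.assoc] using h

end Groth.Agent.S8452
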