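import Groth.Statements.S8470
import Groth.Agent.GrpSchLib.RankOne


set_option autoImplicit false
universe u
open CategoryTheory MonoidalCategory CartesianMonoidalCategory MonObj GrpObj AlgebraicGeometry CategoryTheory.Limits
open Red

namespace Groth.Agent.S8470

/-- Let G be an S-group scheme, i : T ⟶ G a torus of G (a monomorphism of groups), α : T ⟶ 𝔾_m and α^* :
𝔾_m ⟶ T homomorphisms with α ∘ α^* the squaring map, and p₊, p₋ : 𝔾_a ⟶ G homomorphisms normalised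
by T with multipliers α and α⁻¹ which satisfy the rank-one commutation rule: whenever 1 + xy is
invertible, p₊(x) p₋(y) = p₋(y/(1+xy)) · i(α^*(1+xy)) · p₊(x/(1+xy)) (the situation of any reductive
group of semisimple rank 1 with trivialised root groups, where α^* is the coroot). Then the coroot
is expressed through the root groups: for every point z of 𝔾_m, i(α^*(z)) = p₋(z⁻¹ - 1) · p₊(1) ·
p₋(z - 1) · p₊(-z⁻¹). (The published statement is for a reductive group of semisimple rank one with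
a maximal torus and a root; this row assumes only the commutation rule, the normalisation of p₊, p₋
by T and α ∘ α^* the squaring map, which is all the published proof uses.) -/
theorem result (S : Scheme.{u}) (G T : Over S) [GrpObj G] [GrpObj T] (i : T ⟶ G) [IsMonHom i] [Mono i] (hT : Red.IsTorus T)
    (α : T ⟶ Red.Gm S) [IsMonHom α]
    (pp pm : Red.Ga S ⟶ G) [IsMonHom pp] [IsMonHom pm]
    (hpp : ∀ (X : Over S) (t : X ⟶ T) (x : X ⟶ Red.Ga S), ∃ x' : X ⟶ Red.Ga S,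
      x' ≫ pp = (t ≫ i) * (x ≫ pp) * (t ≫ i)⁻¹ ∧ Red.gaFn x' = Red.gmFn (t ≫ α) * Red.gaFn x)
    (hpm : ∀ (X : Over S) (t : X ⟶ T) (y : X ⟶ Red.Ga S), ∃ y' : X ⟶ Red.Ga S,
      y' ≫ pm = (t ≫ i) * (y ≫ pm) * (t ≫ i)⁻¹ ∧ Red.gaFn y' * Red.gmFn (t ≫ α) = Red.gaFn y)
    (av : Red.Gm S ⟶ T) [IsMonHom av] (h2 : av ≫ α = (𝟙 (Red.Gm S)) ^ 2)
    (hF : ∀ (X : Over S) (x y : X ⟶ Red.Ga S), IsUnit (1 + Red.gaFn x * Red.gaFn y) →
      ∃ (x' y' : X ⟶ Red.Ga S) (z : X ⟶ Red.Gm S), Red.gmFn z = 1 + Red.gaFn x * Red.gaFn y ∧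
        Red.gaFn x' * Red.gmFn z = Red.gaFn x ∧ Red.gaFn y' * Red.gmFn z = Red.gaFn y ∧
        (x ≫ pp) * (y ≫ pm) = (y' ≫ pm) * (z ≫ av ≫ i) * (x' ≫ pp))
    (X : Over S) (z : X ⟶ Red.Gm S) (y₁ x₁ y₂ x₂ : X ⟶ Red.Ga S) (hy₁ : Red.gaFn y₁ * Red.gmFn z = 1 - Red.gmFn z)
    (hx₁ : Red.gaFn x₁ = 1) (hy₂ : Red.gaFn y₂ = Red.gmFn z - 1) (hx₂ : Red.gaFn x₂ * Red.gmFn z = -1) :
    z ≫ av ≫ i = (y₁ ≫ pm) * (x₁ ≫ pp) * (y₂ ≫ pm) * (x₂ ≫ pp) := by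
  let Φ := Groth.Agent.GrpSchLib.RankOne.sys i α pp pm hpp hpm av h2 hF X
  have hp : ∀ x : X ⟶ Red.Ga S, Φ.p (Red.gaFn x) = x ≫ pp := fun x =>
    congrArg (· ≫ pp) (Groth.Agent.GrpSchLib.GaPts.gaFn_injective (Groth.Agent.GrpSchLib.GaPts.gaFn_ptOfFn _))
  have hm' : ∀ x : X ⟶ Red.Ga S, Φ.m (Red.gaFn x) = x ≫ pm := fun x =>
    congrArg (· ≫ pm) (Groth.Agent.GrpSchLib.GaPts.gaFn_injective (Groth.Agent.GrpSchLib.GaPts.gaFn_ptOfFn _))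
  have hI : ∀ z : X ⟶ Red.Gm S, Φ.I (Φ.av (GmPts.unitOfPt z)) = z ≫ av ≫ i := fun z => by
    show (GmPts.ptOfUnit (GmPts.unitOfPt z) ≫ av) ≫ i = _
    rw [GmPts.ptOfUnit_unitOfPt, Category.assoc]
  have ha : ∀ t : X ⟶ T, Φ.a t = GmPts.unitOfPt (t ≫ α) := fun t => rfl
  let u := GmPts.unitOfPt z
  have hu : ((u : Γ(X.left, ⊤))) = Red.gmFn z := rfl
  rw [← hI, ← hp, ← hp, ← hm', ← hm', hx₁, hy₂, ← hu]
  have e1 : Red.gaFn y₁ = ((u⁻¹ : _ˣ) : Γ(X.left, ⊤)) - 1 := by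
    rw [← hu] at hy₁
    linear_combination ((u⁻¹ : _ˣ) : Γ(X.left, ⊤)) * hy₁ - (Red.gaFn y₁ + 1) * u.mul_inv
  have e2 : Red.gaFn x₂ = -((u⁻¹ : _ˣ) : Γ(X.left, ⊤)) := by
    rw [← hu] at hx₂
    linear_combination ((u⁻¹ : _ˣ) : Γ(X.left, ⊤)) * hx₂ - Red.gaFn x₂ * u.mul_inv
  rw [e1, e2]
  exact Φ.I_av_eq u

end Groth.Agent.S8470
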