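import Groth.Statements.S8471
import Mathlib.Algebra.MvPolynomial.Equiv
import Mathlib.FieldTheory.RatFunc.AsPolynomial
import Mathlib.FieldTheory.IsAlgClosed.AlgebraicClosure
import Mathlib.Tactic.LinearCombination


set_option autoImplicit false
open Red

namespace Groth.Agent.S8471

/-- Let k be a field and F ∈ k(X) a rational function whose denominator does not vanish at 0 and with
F(0) = 1. Suppose that in the field of fractions L of k[X₀, X₁] one has F(X₀ + X₁ · F(X₀)) = F(X₀) ·
F(X₁) (the functional equation F(x + y F(x)) = F(x) F(y)). Then there is a ∈ k with F = 1 + a X.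
(The published statement takes the identity on an open neighbourhood of the origin of 𝔾_a × 𝔾_a on
which all terms are defined; this row takes it as an identity of rational functions in two
variables.) -/
theorem result (k : Type) [Field k] (F : RatFunc k)
    (h0 : F.denom.eval 0 ≠ 0) (h1 : F.num.eval 0 = F.denom.eval 0)
    (hFE : RatFunc.eval (algebraMap k (FractionRing (MvPolynomial (Fin 2) k)))
        (algebraMap (MvPolynomial (Fin 2) k) (FractionRing (MvPolynomial (Fin 2) k)) (MvPolynomial.X 0) +
          algebraMap (MvPolynomial (Fin 2) k) (FractionRing (MvPolynomial (Fin 2) k)) (MvPolynomial.X 1) *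
            RatFunc.eval (algebraMap k (FractionRing (MvPolynomial (Fin 2) k)))
              (algebraMap (MvPolynomial (Fin 2) k) (FractionRing (MvPolynomial (Fin 2) k)) (MvPolynomial.X 0)) F) F =
      RatFunc.eval (algebraMap k (FractionRing (MvPolynomial (Fin 2) k)))
          (algebraMap (MvPolynomial (Fin 2) k) (FractionRing (MvPolynomial (Fin 2) k)) (MvPolynomial.X 0)) F *
        RatFunc.eval (algebraMap k (FractionRing (MvPolynomial (Fin 2) k)))
          (algebraMap (MvPolynomial (Fin 2) k) (FractionRing (MvPolynomial (Fin 2) k)) (MvPolynomial.X 1)) F) :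
    ∃ a : k, F = 1 + RatFunc.C a * RatFunc.X := by
  let P := F.num
  let Q := F.denom
  let ι : k →+* (RatFunc (AlgebraicClosure k)) := (algebraMap (AlgebraicClosure k) (RatFunc (AlgebraicClosure k))).comp (algebraMap k (AlgebraicClosure k))
  have hι : Function.Injective ι := ι.injective
  let x : (RatFunc (AlgebraicClosure k)) := RatFunc.X
  -- the injective map to `(RatFunc (AlgebraicClosure k))(Y)`
  let j : MvPolynomial (Fin 1) k →+* (RatFunc (AlgebraicClosure k)) :=
    ((algebraMap (Polynomial (AlgebraicClosure k)) (RatFunc (AlgebraicClosure k))).comp (Polynomial.mapRingHom (algebraMap k (AlgebraicClosure k)))).comp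
      ((MvPolynomial.uniqueAlgEquiv k (Fin 1) : MvPolynomial (Fin 1) k ≃ₐ[k] Polynomial k) : MvPolynomial (Fin 1) k →+* Polynomial k)
  have hj : Function.Injective j := ((RatFunc.algebraMap_injective (AlgebraicClosure k)).comp
    (Polynomial.map_injective _ (algebraMap k (AlgebraicClosure k)).injective)).comp (AlgEquiv.injective _)
  let φ : MvPolynomial (Fin 2) k →+* (FractionRing (Polynomial (RatFunc (AlgebraicClosure k)))) :=
    (((algebraMap (Polynomial (RatFunc (AlgebraicClosure k))) (FractionRing (Polynomial (RatFunc (AlgebraicClosure k))))).comp (Polynomial.mapRingHom j)).comp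
      ((MvPolynomial.finSuccEquiv k 1 : MvPolynomial (Fin 2) k ≃ₐ[k] Polynomial (MvPolynomial (Fin 1) k)) :
        MvPolynomial (Fin 2) k →+* Polynomial (MvPolynomial (Fin 1) k))).comp
      ((MvPolynomial.rename (Equiv.swap (0 : Fin 2) 1) : MvPolynomial (Fin 2) k →ₐ[k] MvPolynomial (Fin 2) k) :
        MvPolynomial (Fin 2) k →+* MvPolynomial (Fin 2) k)
  have hφ : Function.Injective φ := (((IsFractionRing.injective (Polynomial (RatFunc (AlgebraicClosure k))) (FractionRing (Polynomial (RatFunc (AlgebraicClosure k))))).comp
    (Polynomial.map_injective _ hj)).comp (AlgEquiv.injective _)).comp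
      (MvPolynomial.rename_injective _ (Equiv.injective _))
  let Φ : FractionRing (MvPolynomial (Fin 2) k) →+* (FractionRing (Polynomial (RatFunc (AlgebraicClosure k)))) := IsFractionRing.lift hφ
  have hk : Φ.comp (algebraMap k _) = (algebraMap (RatFunc (AlgebraicClosure k)) (FractionRing (Polynomial (RatFunc (AlgebraicClosure k))))).comp ι := by
    ext a
    show Φ (algebraMap k _ a) = _
    rw [IsScalarTower.algebraMap_apply k (MvPolynomial (Fin 2) k) (FractionRing _), IsFractionRing.lift_algebraMap]
    simp [φ, j, ι, MvPolynomial.finSuccEquiv_apply, ← RatFunc.algebraMap_C, IsScalarTower.algebraMap_apply (RatFunc (AlgebraicClosure k)) (Polynomial (RatFunc (AlgebraicClosure k))) (FractionRing (Polynomial (RatFunc (AlgebraicClosure k)))), Polynomial.algebraMap_eq]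
  have hX0 : Φ (algebraMap (MvPolynomial (Fin 2) k) _ (MvPolynomial.X 0)) = algebraMap (RatFunc (AlgebraicClosure k)) (FractionRing (Polynomial (RatFunc (AlgebraicClosure k)))) x := by
    rw [IsFractionRing.lift_algebraMap]
    simp only [φ, RingHom.comp_apply, RingHom.coe_coe, MvPolynomial.rename_X, Equiv.swap_apply_left]
    rw [show (1 : Fin 2) = (0 : Fin 1).succ from rfl, MvPolynomial.finSuccEquiv_X_succ]
    simp [j, x, RatFunc.algebraMap_X, IsScalarTower.algebraMap_apply (RatFunc (AlgebraicClosure k)) (Polynomial (RatFunc (AlgebraicClosure k))) (FractionRing (Polynomial (RatFunc (AlgebraicClosure k)))), Polynomial.algebraMap_eq]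
  have hX1 : Φ (algebraMap (MvPolynomial (Fin 2) k) _ (MvPolynomial.X 1)) = (algebraMap (Polynomial (RatFunc (AlgebraicClosure k))) (FractionRing (Polynomial (RatFunc (AlgebraicClosure k)))) Polynomial.X) := by
    rw [IsFractionRing.lift_algebraMap]
    simp [φ, MvPolynomial.finSuccEquiv_X_zero]
  let e := (algebraMap (RatFunc (AlgebraicClosure k)) (FractionRing (Polynomial (RatFunc (AlgebraicClosure k))))).comp ι
  have hev : ∀ a, Φ (RatFunc.eval (algebraMap k _) a F) = Polynomial.eval₂ e (Φ a) P / Polynomial.eval₂ e (Φ a) Q := by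
    intro a
    rw [RatFunc.eval, map_div₀, Polynomial.hom_eval₂, Polynomial.hom_eval₂, hk]
  have hQ0 : Q ≠ 0 := RatFunc.denom_ne_zero F
  have hP0 : P ≠ 0 := fun h => h0 (by rw [← h1]; exact (congrArg (Polynomial.eval 0) h).trans Polynomial.eval_zero)
  have htr : ∀ R : Polynomial k, R ≠ 0 → Polynomial.eval₂ ι x R ≠ 0 := by
    intro R hR h
    refine hR (Polynomial.map_injective (algebraMap k (AlgebraicClosure k)) (algebraMap k (AlgebraicClosure k)).injective ?_)
    rw [Polynomial.map_zero]
    apply RatFunc.algebraMap_injective (AlgebraicClosure k)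
    rw [map_zero, ← h]
    conv_lhs => rw [← Polynomial.eval₂_C_X (p := Polynomial.map (algebraMap k (AlgebraicClosure k)) R), Polynomial.hom_eval₂, RatFunc.algebraMap_X,
      Polynomial.eval₂_map]
    congr 1
  let s : (RatFunc (AlgebraicClosure k)) := Polynomial.eval₂ ι x P / Polynomial.eval₂ ι x Q
  have hs : Polynomial.eval₂ e (algebraMap (RatFunc (AlgebraicClosure k)) (FractionRing (Polynomial (RatFunc (AlgebraicClosure k)))) x) P / Polynomial.eval₂ e (algebraMap (RatFunc (AlgebraicClosure k)) (FractionRing (Polynomial (RatFunc (AlgebraicClosure k)))) x) Q =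
      algebraMap (RatFunc (AlgebraicClosure k)) (FractionRing (Polynomial (RatFunc (AlgebraicClosure k)))) s := by
    simp only [e, s, map_div₀, Polynomial.hom_eval₂]
  have hpoly : ∀ R : Polynomial k, R ≠ 0 → Polynomial.eval₂ e (algebraMap (Polynomial (RatFunc (AlgebraicClosure k))) (FractionRing (Polynomial (RatFunc (AlgebraicClosure k)))) Polynomial.X) R ≠ 0 := by
    intro R hR h
    refine hR (Polynomial.map_injective ι hι ?_)
    rw [Polynomial.map_zero]
    apply IsFractionRing.injective (Polynomial (RatFunc (AlgebraicClosure k))) (FractionRing (Polynomial (RatFunc (AlgebraicClosure k))))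
    rw [map_zero, ← h]
    conv_lhs => rw [← Polynomial.eval₂_C_X (p := Polynomial.map ι R), Polynomial.hom_eval₂, Polynomial.eval₂_map]
    congr 1
  have hs0 : s ≠ 0 := div_ne_zero (htr P hP0) (htr Q hQ0)
  -- the functional equation as an identity of polynomials in `Y` over `(RatFunc (AlgebraicClosure k))`
  have key : (P.map ι).comp (Polynomial.C x + Polynomial.X * Polynomial.C s) * Q.map ι =
      (Q.map ι).comp (Polynomial.C x + Polynomial.X * Polynomial.C s) * (Polynomial.C s * P.map ι) := by
    apply IsFractionRing.injective (Polynomial (RatFunc (AlgebraicClosure k))) (FractionRing (Polynomial (RatFunc (AlgebraicClosure k))))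
    have h := congrArg Φ hFE
    rw [map_mul, hev, hev, hev, map_add, map_mul, hev, hX0, hX1, hs] at h
    have hpc : ∀ R : Polynomial k, algebraMap (Polynomial (RatFunc (AlgebraicClosure k))) (FractionRing (Polynomial (RatFunc (AlgebraicClosure k)))) ((R.map ι).comp (Polynomial.C x + Polynomial.X * Polynomial.C s)) =
        Polynomial.eval₂ e (algebraMap (RatFunc (AlgebraicClosure k)) (FractionRing (Polynomial (RatFunc (AlgebraicClosure k)))) x + (algebraMap (Polynomial (RatFunc (AlgebraicClosure k))) (FractionRing (Polynomial (RatFunc (AlgebraicClosure k)))) Polynomial.X) * algebraMap (RatFunc (AlgebraicClosure k)) (FractionRing (Polynomial (RatFunc (AlgebraicClosure k)))) s) R := by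
      intro R
      rw [Polynomial.comp, Polynomial.eval₂_map, Polynomial.hom_eval₂]
      simp [e, IsScalarTower.algebraMap_apply (RatFunc (AlgebraicClosure k)) (Polynomial (RatFunc (AlgebraicClosure k))) (FractionRing (Polynomial (RatFunc (AlgebraicClosure k)))), Polynomial.algebraMap_eq]
      congr 1
      ring
    have hY : ∀ R : Polynomial k, algebraMap (Polynomial (RatFunc (AlgebraicClosure k))) (FractionRing (Polynomial (RatFunc (AlgebraicClosure k)))) (R.map ι) = Polynomial.eval₂ e (algebraMap (Polynomial (RatFunc (AlgebraicClosure k))) (FractionRing (Polynomial (RatFunc (AlgebraicClosure k)))) Polynomial.X) R := by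
      intro R
      conv_lhs => rw [← Polynomial.eval₂_C_X (p := R.map ι), Polynomial.hom_eval₂, Polynomial.eval₂_map]
      congr 1
    have hne : algebraMap (RatFunc (AlgebraicClosure k)) (FractionRing (Polynomial (RatFunc (AlgebraicClosure k)))) s * (Polynomial.eval₂ e (algebraMap (Polynomial (RatFunc (AlgebraicClosure k))) (FractionRing (Polynomial (RatFunc (AlgebraicClosure k)))) Polynomial.X) P / Polynomial.eval₂ e (algebraMap (Polynomial (RatFunc (AlgebraicClosure k))) (FractionRing (Polynomial (RatFunc (AlgebraicClosure k)))) Polynomial.X) Q) ≠ 0 :=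
      mul_ne_zero (map_ne_zero_iff _ (algebraMap (RatFunc (AlgebraicClosure k)) (FractionRing (Polynomial (RatFunc (AlgebraicClosure k))))).injective |>.2 hs0) (div_ne_zero (hpoly P hP0) (hpoly Q hQ0))
    have hd : Polynomial.eval₂ e (algebraMap (RatFunc (AlgebraicClosure k)) (FractionRing (Polynomial (RatFunc (AlgebraicClosure k)))) x + (algebraMap (Polynomial (RatFunc (AlgebraicClosure k))) (FractionRing (Polynomial (RatFunc (AlgebraicClosure k)))) Polynomial.X) * algebraMap (RatFunc (AlgebraicClosure k)) (FractionRing (Polynomial (RatFunc (AlgebraicClosure k)))) s) Q ≠ 0 := by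
      intro hz
      rw [hz, div_zero] at h
      exact hne h.symm
    rw [map_mul, map_mul, map_mul, hpc, hpc, hY, hY, ← Polynomial.algebraMap_eq (R := (RatFunc (AlgebraicClosure k))),
      ← IsScalarTower.algebraMap_apply (RatFunc (AlgebraicClosure k)) (Polynomial (RatFunc (AlgebraicClosure k))) (FractionRing (Polynomial (RatFunc (AlgebraicClosure k))))]
    rw [← mul_div_assoc, div_eq_div_iff hd (hpoly Q hQ0)] at h
    linear_combination h
  -- a root of numerator or denominator
  by_cases hD : (P * Q).degree = 0
  · have hP : P.degree = 0 ∧ Q.degree = 0 := by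
      rw [Polynomial.degree_mul] at hD
      have hPn := Polynomial.degree_eq_natDegree hP0
      have hQn := Polynomial.degree_eq_natDegree hQ0
      rw [hPn, hQn] at hD ⊢
      norm_cast at hD ⊢
      omega
    refine ⟨0, ?_⟩
    have hQ1 : Q = 1 := Polynomial.eq_one_of_monic_natDegree_zero (RatFunc.monic_denom F)
      (Polynomial.natDegree_eq_of_degree_eq_some hP.2)
    have hP1 : P = 1 := by
      rw [Polynomial.eq_C_of_degree_eq_zero hP.1, Polynomial.coeff_zero_eq_eval_zero]
      show Polynomial.C (F.num.eval 0) = 1
      rw [h1, show F.denom = 1 from hQ1]; simp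
    rw [map_zero, zero_mul, add_zero, ← RatFunc.num_div_denom F, show F.num = 1 from hP1, show F.denom = 1 from hQ1]
    simp
  obtain ⟨c, hc⟩ := IsAlgClosed.exists_root ((P * Q).map (algebraMap k (AlgebraicClosure k))) (by rwa [Polynomial.degree_map])
  have hspl : ∀ z : (RatFunc (AlgebraicClosure k)), Polynomial.eval₂ ι z (P * Q) = 0 → ∃ d : (AlgebraicClosure k), algebraMap (AlgebraicClosure k) (RatFunc (AlgebraicClosure k)) d = z := by
    intro z hz
    have hne : ((P * Q).map (algebraMap k (AlgebraicClosure k))) ≠ 0 :=
      (Polynomial.map_ne_zero_iff (algebraMap k (AlgebraicClosure k)).injective).2 (mul_ne_zero hP0 hQ0)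
    have hr : z ∈ (((P * Q).map (algebraMap k (AlgebraicClosure k))).map (algebraMap (AlgebraicClosure k) (RatFunc (AlgebraicClosure k)))).roots := by
      rw [Polynomial.mem_roots ((Polynomial.map_ne_zero_iff (algebraMap (AlgebraicClosure k) (RatFunc (AlgebraicClosure k))).injective).2 hne), Polynomial.IsRoot,
        Polynomial.map_map, Polynomial.eval_map]
      exact hz
    rw [Polynomial.Splits.roots_map (IsAlgClosed.splits _)] at hr
    obtain ⟨d, -, hd⟩ := Multiset.mem_map.1 hr
    exact ⟨d, hd⟩
  have hcop : IsCoprime (P.map (algebraMap k (AlgebraicClosure k))) (Q.map (algebraMap k (AlgebraicClosure k))) :=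
    (RatFunc.isCoprime_num_denom F).map (Polynomial.mapRingHom (algebraMap k (AlgebraicClosure k)))
  obtain ⟨d, hd⟩ : ∃ d : (AlgebraicClosure k), algebraMap (AlgebraicClosure k) (RatFunc (AlgebraicClosure k)) d = x + algebraMap (AlgebraicClosure k) (RatFunc (AlgebraicClosure k)) c * s := by
    apply hspl
    have h := congrArg (Polynomial.eval (algebraMap (AlgebraicClosure k) (RatFunc (AlgebraicClosure k)) c)) key
    simp only [Polynomial.eval_mul, Polynomial.eval_comp, Polynomial.eval_add, Polynomial.eval_C,
      Polynomial.eval_X, Polynomial.eval_map] at h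
    rw [Polynomial.eval₂_mul]
    have hc' : ∀ R : Polynomial k, Polynomial.eval₂ ι (algebraMap (AlgebraicClosure k) (RatFunc (AlgebraicClosure k)) c) R = algebraMap (AlgebraicClosure k) (RatFunc (AlgebraicClosure k)) ((R.map (algebraMap k (AlgebraicClosure k))).eval c) := by
      intro R
      rw [Polynomial.eval_map, Polynomial.hom_eval₂]
    rw [hc', hc'] at h
    rw [Polynomial.IsRoot, Polynomial.map_mul, Polynomial.eval_mul, mul_eq_zero] at hc
    obtain ⟨a, b, hab⟩ := hcop
    have hab' := congrArg (Polynomial.eval c) hab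
    simp only [Polynomial.eval_add, Polynomial.eval_mul, Polynomial.eval_one] at hab'
    rcases hc with hc | hc
    · rw [hc] at h hab'
      have hq : algebraMap (AlgebraicClosure k) (RatFunc (AlgebraicClosure k)) ((Q.map (algebraMap k (AlgebraicClosure k))).eval c) ≠ 0 := by
        rw [map_ne_zero_iff _ (algebraMap (AlgebraicClosure k) (RatFunc (AlgebraicClosure k))).injective]
        intro h0; rw [h0] at hab'; simp at hab'
      simp only [map_zero, mul_zero] at h
      rw [(mul_eq_zero.1 h).resolve_right hq, zero_mul]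
    · rw [hc] at h hab'
      have hp : algebraMap (AlgebraicClosure k) (RatFunc (AlgebraicClosure k)) ((P.map (algebraMap k (AlgebraicClosure k))).eval c) ≠ 0 := by
        rw [map_ne_zero_iff _ (algebraMap (AlgebraicClosure k) (RatFunc (AlgebraicClosure k))).injective]
        intro h0; rw [h0] at hab'; simp at hab'
      simp only [map_zero, mul_zero] at h
      rw [(mul_eq_zero.1 h.symm).resolve_right (mul_ne_zero hs0 hp), mul_zero]
  -- hence `P c = Q (d - X)`
  let Pb := P.map (algebraMap k (AlgebraicClosure k))
  let Qb := Q.map (algebraMap k (AlgebraicClosure k))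
  have hlin : Polynomial.C c * Pb = (Polynomial.C d - Polynomial.X) * Qb := by
    apply RatFunc.algebraMap_injective (AlgebraicClosure k)
    have hev' : ∀ R : Polynomial k, algebraMap (Polynomial (AlgebraicClosure k)) (RatFunc (AlgebraicClosure k)) (R.map (algebraMap k (AlgebraicClosure k))) = Polynomial.eval₂ ι x R := by
      intro R
      conv_lhs => rw [← Polynomial.eval₂_C_X (p := R.map (algebraMap k (AlgebraicClosure k))), Polynomial.hom_eval₂, RatFunc.algebraMap_X,
        Polynomial.eval₂_map]
      congr 1
    rw [map_mul, map_mul, map_sub, hev', hev', RatFunc.algebraMap_X, RatFunc.algebraMap_C, RatFunc.algebraMap_C,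
      ← RatFunc.algebraMap_eq_C, hd]
    have : s * Polynomial.eval₂ ι x Q = Polynomial.eval₂ ι x P := div_mul_cancel₀ _ (htr Q hQ0)
    linear_combination -(algebraMap (AlgebraicClosure k) (RatFunc (AlgebraicClosure k)) c) * this
  have hc0 : c ≠ 0 := by
    rintro rfl
    rw [Polynomial.IsRoot, ← Polynomial.coeff_zero_eq_eval_zero, Polynomial.coeff_map, map_eq_zero,
      Polynomial.mul_coeff_zero, Polynomial.coeff_zero_eq_eval_zero, Polynomial.coeff_zero_eq_eval_zero] at hc
    exact (mul_eq_zero.1 hc).elim (fun h => h0 (h1.symm.trans h)) h0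
  have hQ1 : Q = 1 := by
    have hdvd : Qb ∣ Pb := by
      have h2 : Qb ∣ Polynomial.C c * Pb := ⟨_, hlin.trans (mul_comm _ _)⟩
      exact (Polynomial.isUnit_C.2 (isUnit_iff_ne_zero.2 hc0)).dvd_mul_left.1 h2
    have hu : IsUnit Qb := hcop.symm.isUnit_of_dvd' dvd_rfl hdvd
    refine (RatFunc.monic_denom F).eq_one_of_isUnit ?_
    exact Polynomial.isUnit_iff_degree_eq_zero.2 ((Polynomial.degree_map _ _).symm.trans (Polynomial.isUnit_iff_degree_eq_zero.1 hu))
  have hdeg : P.natDegree ≤ 1 := by
    rw [← Polynomial.natDegree_map (algebraMap k (AlgebraicClosure k)), ← Polynomial.natDegree_C_mul hc0]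
    show (Polynomial.C c * Pb).natDegree ≤ 1
    rw [hlin, show Qb = 1 by simp only [Qb, hQ1, Polynomial.map_one], mul_one]
    compute_degree
  refine ⟨P.coeff 1, ?_⟩
  have hc1 : P.coeff 0 = 1 := by
    rw [Polynomial.coeff_zero_eq_eval_zero]; show F.num.eval 0 = 1
    rw [h1, show F.denom = 1 from hQ1]; simp
  conv_lhs => rw [← RatFunc.num_div_denom F, show F.denom = 1 from hQ1, show F.num = P from rfl,
    Polynomial.eq_X_add_C_of_natDegree_le_one hdeg, hc1]
  simp [RatFunc.algebraMap_X, RatFunc.algebraMap_C, add_comm]

end Groth.Agent.S8471
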