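import Groth.Statements.S8473
import Groth.Agent.AGFLib.QuasiComp.TorusProps
import Groth.Agent.GrpSchLib.GaPts
import Groth.Agent.GrpSchLib.MultTypeLft
import Groth.Agent.GrpSchLib.AntiAffineHom
import Groth.Agent.GrpSchLib.RankOneBase
import Groth.Agent.GrpSchLib.SmallestSubgroup
import Groth.Agent.GrpSchLib.SmoothReduced
import Groth.Agent.HomRepLib.ConstDual
import Groth.Agent.DomHom.MonoAffine
import Mathlib.AlgebraicGeometry.AlgClosed.Basic
-- import your own Groth.Agent.* helpers here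

set_option autoImplicit false
universe u
open CategoryTheory MonoidalCategory CartesianMonoidalCategory MonObj GrpObj AlgebraicGeometry CategoryTheory.Limits
open Red

namespace Groth.Agent.S8473

/-- Let k be an algebraically closed field, T a k-torus, α : T ⟶ 𝔾_m a non-trivial character and P the
semi-direct product T ⋉_α 𝔾_a, given as a k-group P with homomorphisms j_T : T ⟶ P and j_U : 𝔾_a ⟶ P
such that (t, x) ↦ j_T(t) j_U(x) is an isomorphism of schemes T × 𝔾_a ≅ P and j_T(t) j_U(x) j_T(t)⁻¹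
= j_U(α(t) x). Let n : N ⟶ P be a normal subgroup scheme which is étale over k and such that N ∩ T
is trivial (a point of N whose image is in j_T(T) is the unit). Then N is the trivial group. -/
theorem result (K : Type u) [Field K] [IsAlgClosed K]
    (T P N : Over (Spec (CommRingCat.of K))) [GrpObj T] [GrpObj P] [GrpObj N] (hT : Red.IsTorus T)
    (α : T ⟶ Red.Gm (Spec (CommRingCat.of K))) [IsMonHom α] (hα : α ≠ 1)
    (jT : T ⟶ P) [IsMonHom jT] (jU : Red.Ga (Spec (CommRingCat.of K)) ⟶ P) [IsMonHom jU] (hiso : IsIso ((jT ⊗ₘ jU) ≫ μ[P]))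
    (hconj : ∀ (X : Over (Spec (CommRingCat.of K))) (t : X ⟶ T) (x x' : X ⟶ Red.Ga (Spec (CommRingCat.of K))), Red.gaFn x' = Red.gmFn (t ≫ α) * Red.gaFn x →
      (t ≫ jT) * (x ≫ jU) * (t ≫ jT)⁻¹ = x' ≫ jU)
    (n : N ⟶ P) [IsMonHom n] [Mono n] (hn : AlgGrp.IsNormalHom n) (het : Etale N.hom)
    (hNT : ∀ (X : Over (Spec (CommRingCat.of K))) (t : X ⟶ T) (m : X ⟶ N), t ≫ jT = m ≫ n → m = 1) :
    Red.IsTrivialGrp N := by
  haveI := het
  obtain ⟨hTa, hTs, hTc⟩ := Groth.Agent.AGFLib.QuasiComp.torus_props hT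
  haveI := hTa
  haveI := hTs
  haveI := hTc
  haveI : DiscreteTopology ↥N.left := by
    have h1 := N.hom.isDiscrete_preimage_singleton (IsLocalRing.closedPoint K)
    exact isDiscrete_univ_iff.1 (h1.mono fun x _ => Subsingleton.elim (α := PrimeSpectrum K) _ _)
  haveI : IsReduced T.left :=
    haveI := Groth.Agent.GrpSchLib.geometricallyReduced_of_smooth T.hom
    Groth.Agent.GrpSchLib.SmallestSubgroup.isReduced_of_geometricallyReduced T.hom
  haveI : LocallyOfFiniteType (Red.Gm (Spec (CommRingCat.of K))).hom :=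
    Groth.Agent.GrpSchLib.MultTypeLft.lft_DS _ ℤ
  haveI : IsSeparated (Red.Gm (Spec (CommRingCat.of K))).hom := Groth.Agent.GrpSchLib.AntiAffine.isSeparated_grp _
  let PT : Over (Spec (CommRingCat.of K)) := 𝟙_ _
  let ψ := (jT ⊗ₘ jU) ≫ μ[P]
  haveI := hiso
  -- every rational point of `N` is trivial
  have hpt : ∀ m : PT ⟶ N, m = 1 := by
    intro m
    let w := (m ≫ n) ≫ inv ψ
    have hw : m ≫ n = ((w ≫ fst _ _) ≫ jT) * ((w ≫ snd _ _) ≫ jU) := by
      have h : w ≫ ψ = m ≫ n := by simp [w, ψ]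
      rw [← h]
      show w ≫ (jT ⊗ₘ jU) ≫ μ[P] = _
      rw [Hom.mul_def, ← Category.assoc w]
      congr 1
      ext <;> simp
    obtain ⟨c, hc⟩ := hn T jT (toUnit T ≫ m)
    have hcs : ∀ s : PT ⟶ T, (s ≫ jT) * (m ≫ n) * (s ≫ jT)⁻¹ = (s ≫ c) ≫ n := by
      intro s
      have h := congrArg (s ≫ ·) hc
      simp only [MonObj.comp_mul, GrpObj.comp_inv, Category.assoc] at h
      rw [reassoc_of% toUnit_unique (s ≫ toUnit T) (𝟙 PT)] at h
      rw [h, Category.assoc]
    have hfix : ∀ s : PT ⟶ T, (s ≫ jT) * (m ≫ n) * (s ≫ jT)⁻¹ = m ≫ n := by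
      intro s
      have h1 : (1 : PT ⟶ T) ≫ c = m := by
        rw [← cancel_mono n, ← hcs, MonObj.one_comp, _root_.one_mul, inv_one, _root_.mul_one]
      have h2 : s ≫ c = (1 : PT ⟶ T) ≫ c := by
        refine Over.OverMorphism.ext (ext_of_apply_closedPoint_eq N.hom (Over.w _) (Over.w _) ?_)
        exact PreconnectedSpace.constant (inferInstanceAs (PreconnectedSpace ↥T.left)) c.left.continuous
      rw [hcs, h2, h1]
    let t := w ≫ fst _ _
    let x := w ≫ snd _ _
    have hx : Red.gaFn x = 0 := by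
      by_contra hne
      refine hα (Over.OverMorphism.ext ?_)
      haveI : LocallyOfFiniteType (α.left ≫ (Red.Gm (Spec (CommRingCat.of K))).hom) := by rw [Over.w α]; infer_instance
      refine ext_of_apply_eq (Red.Gm (Spec (CommRingCat.of K))).hom Set.univ isOpen_univ.isLocallyClosed dense_univ
        (fun p _ hp => ?_) ((Over.w α).trans (Over.w (1 : T ⟶ Red.Gm _)).symm)
      let s : PT ⟶ T := Over.homMk (pointOfClosedPoint T.hom p hp) (pointOfClosedPoint_comp _ _ _)
      have hs : s ≫ α = s ≫ 1 := by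
        apply Groth.Agent.HomRepLib.Gm_pt_ext
        rw [MonObj.comp_one, GmPts.gmFn_one]
        let x' : PT ⟶ Red.Ga (Spec (CommRingCat.of K)) :=
          Groth.Agent.GrpSchLib.GaPts.ptOfFn (Red.gmFn (s ≫ α) * Red.gaFn x)
        have hx' : Red.gaFn x' = Red.gmFn (s ≫ α) * Red.gaFn x := Groth.Agent.GrpSchLib.GaPts.gaFn_ptOfFn _
        have h := hfix s
        rw [hw] at h
        have e1 : (s ≫ jT) * (t ≫ jT) = (t ≫ jT) * (s ≫ jT) := by
          rw [← MonObj.mul_comp, ← MonObj.mul_comp, Groth.Agent.GrpSchLib.RankOne.torus_mul_comm hT]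
        have e2 : x' ≫ jU = x ≫ jU := by
          rw [← hconj PT s x x' hx']
          change (s ≫ jT) * ((t ≫ jT) * (x ≫ jU)) * (s ≫ jT)⁻¹ = (t ≫ jT) * (x ≫ jU) at h
          rw [← _root_.mul_assoc, e1, _root_.mul_assoc (t ≫ jT), _root_.mul_assoc (t ≫ jT), mul_right_inj] at h
          exact h
        have e3 : x' = x := by
          have h3 : lift (1 : PT ⟶ T) x' ≫ ψ = lift (1 : PT ⟶ T) x ≫ ψ := by
            simp only [ψ, lift_map_assoc, ← Hom.mul_def, e2]
          simpa using ((cancel_mono ψ).mp h3) =≫ snd _ _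
        rw [e3] at hx'
        haveI : IsDomain Γ(PT.left, ⊤) :=
          ((Scheme.ΓSpecIso (CommRingCat.of K)).commRingCatIsoToRingEquiv.toMulEquiv.isField (Field.toIsField K)).isDomain
        exact (mul_eq_right₀ hne).mp hx'.symm
      have := congrArg (fun q : PT ⟶ _ => q.left (IsLocalRing.closedPoint K)) hs
      change α.left (s.left (IsLocalRing.closedPoint K)) = (1 : T ⟶ Red.Gm _).left (s.left (IsLocalRing.closedPoint K)) at this
      rw [show s.left (IsLocalRing.closedPoint K) = p from pointOfClosedPoint_apply _ p hp _] at this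
      exact this
    have hx1 : x = 1 := Groth.Agent.GrpSchLib.GaPts.gaFn_injective
      (hx.trans Groth.Agent.GrpSchLib.GaPts.gaFn_one.symm)
    refine hNT PT t m ?_
    rw [hw]
    show t ≫ jT = (t ≫ jT) * (x ≫ jU)
    rw [hx1, MonObj.one_comp, _root_.mul_one]
  -- hence `N` has one point
  show IsIso N.hom
  let e : Spec (CommRingCat.of K) ⟶ N.left := η[N].left
  haveI : Surjective e := ⟨fun p => by
    have hp : IsClosed ({p} : Set N.left) := isClosed_discrete _
    have h := hpt (Over.homMk (pointOfClosedPoint N.hom p hp) (pointOfClosedPoint_comp _ _ _))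
    refine ⟨IsLocalRing.closedPoint K, ?_⟩
    have h2 := congrArg (fun q : PT ⟶ N => q.left (IsLocalRing.closedPoint K)) h
    simp only [Over.homMk_left] at h2
    refine Eq.trans ?_ (h2.symm.trans (pointOfClosedPoint_apply N.hom p hp _))
    rw [show (1 : PT ⟶ N) = η[N] by rw [Hom.one_def, toUnit_unique (toUnit PT) (𝟙 _), Category.id_comp]]⟩
  have he : e ≫ N.hom = 𝟙 _ := Over.w η[N]
  haveI : IsOpenImmersion (e ≫ N.hom) := by rw [he]; infer_instance
  haveI : Etale (e ≫ N.hom) := inferInstance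
  haveI : Etale e := Etale.of_comp e N.hom
  haveI : Mono (e ≫ N.hom) := inferInstance
  haveI : Mono e := mono_of_mono e N.hom
  haveI : QuasiCompact e := by
    haveI : Subsingleton ↥N.left := ⟨fun p q => by
      obtain ⟨a, rfl⟩ := e.surjective p
      obtain ⟨b, rfl⟩ := e.surjective q
      rw [Subsingleton.elim (α := PrimeSpectrum K) a b]⟩
    exact ⟨fun U hU _ => Set.Subsingleton.isCompact (fun a _ b _ => Subsingleton.elim (α := PrimeSpectrum K) a b)⟩
  haveI : IsIso e := Groth.Agent.DomHom.isIso_of_flat_surjective_mono e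
  haveI : IsIso (e ≫ N.hom) := by rw [he]; infer_instance
  exact IsIso.of_isIso_comp_left e N.hom
end Groth.Agent.S8473
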