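import Groth.Statements.S8478
import Groth.Agent.GrpSchLib.RankOneTransfer


set_option autoImplicit false
universe u
open CategoryTheory MonoidalCategory CartesianMonoidalCategory MonObj GrpObj AlgebraicGeometry CategoryTheory.Limits
open Red

namespace Groth.Agent.S8478

/-- Let (G, T, α, p₊, p₋, α^*) and (G', T', α', p'₊, p'₋, α'^*) be two rank-one systems over S: G
reductive, i : T ⟶ G a maximal torus, α a character of T non-trivial on every geometric fibre, p₊,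
p₋ : 𝔾_a ⟶ G monomorphisms normalised by T with multipliers α, α⁻¹ whose cell map (y, t, x) ↦ p₋(y)
i(t) p₊(x) is an open immersion, α^* : 𝔾_m ⟶ T with α ∘ α^* the squaring map and p₊(x) p₋(y) =
p₋(y/(1+xy)) · i(α^*(1+xy)) · p₊(x/(1+xy)) whenever 1 + xy is invertible; likewise for the primed
data. Let q > 0 be an integer such that x ↦ x^q is additive on all functions of S-schemes. Let c be
an S-point of 𝔾_m and f : G ⟶ G' a homomorphism with f(p₊(x)) = p'₊(c x^q) for all points x of 𝔾_a.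
Write w(x) = p₊(x) p₋(-x⁻¹) p₊(x) and w'(x) = p'₊(x) p'₋(-x⁻¹) p'₊(x) for points x with invertible
coordinate. Then the following are equivalent: (i) f(i(α^*(z))) = i'(α'^*(z))^q for all points z of
𝔾_m; (ii) f(w(x)) = w'(c x^q) for all x with invertible coordinate; (iii) f(p₋(y)) = p'₋(c⁻¹ y^q)
for all points y. -/
theorem result (S : Scheme.{u}) (G T : Over S) [GrpObj G] [GrpObj T] (i : T ⟶ G) [IsMonHom i] [Mono i] (hG : Red.IsReductive G) (hTm : Red.IsMaximalTorus i)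
    (α : T ⟶ Red.Gm S) [IsMonHom α] (hα : ∀ s : S, (Over.pullback (Red.geomPt s)).map α ≠ 1)
    (pp pm : Red.Ga S ⟶ G) [IsMonHom pp] [Mono pp] [IsMonHom pm] [Mono pm]
    (hpp : ∀ (X : Over S) (t : X ⟶ T) (x : X ⟶ Red.Ga S), ∃ x' : X ⟶ Red.Ga S,
      x' ≫ pp = (t ≫ i) * (x ≫ pp) * (t ≫ i)⁻¹ ∧ Red.gaFn x' = Red.gmFn (t ≫ α) * Red.gaFn x)
    (hpm : ∀ (X : Over S) (t : X ⟶ T) (y : X ⟶ Red.Ga S), ∃ y' : X ⟶ Red.Ga S,
      y' ≫ pm = (t ≫ i) * (y ≫ pm) * (t ≫ i)⁻¹ ∧ Red.gaFn y' * Red.gmFn (t ≫ α) = Red.gaFn y)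
    (hΩ : IsOpenImmersion (((pm ⊗ₘ i) ⊗ₘ pp) ≫ (μ[G] ▷ G) ≫ μ[G]).left)
    (av : Red.Gm S ⟶ T) [IsMonHom av] (h2 : av ≫ α = (𝟙 (Red.Gm S)) ^ 2)
    (hF : ∀ (X : Over S) (x y : X ⟶ Red.Ga S), IsUnit (1 + Red.gaFn x * Red.gaFn y) →
      ∃ (x' y' : X ⟶ Red.Ga S) (z : X ⟶ Red.Gm S), Red.gmFn z = 1 + Red.gaFn x * Red.gaFn y ∧
        Red.gaFn x' * Red.gmFn z = Red.gaFn x ∧ Red.gaFn y' * Red.gmFn z = Red.gaFn y ∧
        (x ≫ pp) * (y ≫ pm) = (y' ≫ pm) * (z ≫ av ≫ i) * (x' ≫ pp))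
    (G' T' : Over S) [GrpObj G'] [GrpObj T'] (i' : T' ⟶ G') [IsMonHom i'] [Mono i'] (hG' : Red.IsReductive G') (hTm' : Red.IsMaximalTorus i')
    (α' : T' ⟶ Red.Gm S) [IsMonHom α'] (hα' : ∀ s : S, (Over.pullback (Red.geomPt s)).map α' ≠ 1)
    (pp' pm' : Red.Ga S ⟶ G') [IsMonHom pp'] [Mono pp'] [IsMonHom pm'] [Mono pm']
    (hpp' : ∀ (X : Over S) (t : X ⟶ T') (x : X ⟶ Red.Ga S), ∃ x' : X ⟶ Red.Ga S,
      x' ≫ pp' = (t ≫ i') * (x ≫ pp') * (t ≫ i')⁻¹ ∧ Red.gaFn x' = Red.gmFn (t ≫ α') * Red.gaFn x)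
    (hpm' : ∀ (X : Over S) (t : X ⟶ T') (y : X ⟶ Red.Ga S), ∃ y' : X ⟶ Red.Ga S,
      y' ≫ pm' = (t ≫ i') * (y ≫ pm') * (t ≫ i')⁻¹ ∧ Red.gaFn y' * Red.gmFn (t ≫ α') = Red.gaFn y)
    (hΩ' : IsOpenImmersion (((pm' ⊗ₘ i') ⊗ₘ pp') ≫ (μ[G'] ▷ G') ≫ μ[G']).left)
    (av' : Red.Gm S ⟶ T') [IsMonHom av'] (h2' : av' ≫ α' = (𝟙 (Red.Gm S)) ^ 2)
    (hF' : ∀ (X : Over S) (x y : X ⟶ Red.Ga S), IsUnit (1 + Red.gaFn x * Red.gaFn y) →
      ∃ (x' y' : X ⟶ Red.Ga S) (z : X ⟶ Red.Gm S), Red.gmFn z = 1 + Red.gaFn x * Red.gaFn y ∧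
        Red.gaFn x' * Red.gmFn z = Red.gaFn x ∧ Red.gaFn y' * Red.gmFn z = Red.gaFn y ∧
        (x ≫ pp') * (y ≫ pm') = (y' ≫ pm') * (z ≫ av' ≫ i') * (x' ≫ pp'))
    (q : ℕ) (hq0 : 0 < q) (hq : ∀ (X : Over S) (a b : Γ(X.left, ⊤)), (a + b) ^ q = a ^ q + b ^ q) (c : 𝟙_ (Over S) ⟶ Red.Gm S) (f : G ⟶ G') [IsMonHom f]
    (hf : ∀ (X : Over S) (x y : X ⟶ Red.Ga S), Red.gaFn y = Red.gmFn (toUnit X ≫ c) * Red.gaFn x ^ q →
      (x ≫ pp) ≫ f = y ≫ pp') :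
    [∀ (X : Over S) (z : X ⟶ Red.Gm S), (z ≫ av ≫ i) ≫ f = ((z ≫ av') ^ q) ≫ i',
      ∀ (X : Over S) (x x' y y' : X ⟶ Red.Ga S), Red.gaFn x' * Red.gaFn x = -1 →
        Red.gaFn y = Red.gmFn (toUnit X ≫ c) * Red.gaFn x ^ q → Red.gaFn y' * Red.gaFn y = -1 →
        ((x ≫ pp) * (x' ≫ pm) * (x ≫ pp)) ≫ f = (y ≫ pp') * (y' ≫ pm') * (y ≫ pp'),
      ∀ (X : Over S) (x y : X ⟶ Red.Ga S), Red.gaFn y * Red.gmFn (toUnit X ≫ c) = Red.gaFn x ^ q →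
        (x ≫ pm) ≫ f = y ≫ pm'].TFAE := by
  haveI : IsAffineHom G'.hom := hG'.1
  let Φ := fun X => GrpSchLib.RankOne.sys i α pp pm hpp hpm av h2 hF X
  let Φ' := fun X => GrpSchLib.RankOne.sys i' α' pp' pm' hpp' hpm' av' h2' hF' X
  let F := fun X => GrpSchLib.RankOne.postHom f X
  let cU := fun X : Over S => GmPts.unitOfPt (toUnit X ≫ c)
  have hfp : ∀ (X : Over S) (v : Γ(X.left, ⊤)), F X ((Φ X).p v) = (Φ' X).p ((cU X : Γ(X.left, ⊤)) * v ^ q) := fun X v =>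
    hf X _ _ (by simp only [GrpSchLib.GaPts.gaFn_ptOfFn]; rfl)
  have hneg : ∀ (X : Over S) (v : Γ(X.left, ⊤)), (-v) ^ q = -(v ^ q) := fun X =>
    GrpSchLib.RankOne.neg_pow_of_additive hq0 (hq X)
  have hpow : ∀ (X : Over S) (z : X ⟶ Red.Gm S), ((z ≫ av') ^ q) ≫ i' =
      (Φ' X).I ((Φ' X).av (GmPts.unitOfPt z ^ q)) := fun X z => by
    show _ = (GmPts.ptOfUnit (GmPts.unitOfPt z ^ q) ≫ av') ≫ i'
    rw [← GmPts.equiv_apply z, ← GmPts.equiv_symm_apply, map_pow, MulEquiv.symm_apply_apply]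
    simp only [MonObj.pow_comp]
  tfae_have 1 → 3 := fun h1 X x y hy => by
    have hI : ∀ (X : Over S) (z : (Γ(X.left, ⊤))ˣ),
        (GmPts.ptOfUnit z ≫ av ≫ i) ≫ f = GmPts.ptOfUnit (z ^ q) ≫ av' ≫ i' := fun X z => by
      refine (h1 X _).trans ((hpow X _).trans ?_)
      rw [GmPts.unitOfPt_ptOfUnit]
      exact Category.assoc (GmPts.ptOfUnit (z ^ q)) av' i'
    obtain ⟨a, ha⟩ := GrpSchLib.RankOne.exists_pm_coeff f q hpm h2 hTm'.2.2.1 hpp' hpm' hΩ' h2' hq0 hI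
    have hone := GrpSchLib.RankOne.coeff_mul_eq_one f q Φ Φ' (fun _ _ => rfl) (fun _ _ => rfl) (fun _ _ => rfl)
      (fun _ _ => rfl) (fun _ _ => rfl) hΩ' hq0 hq (fun X z => by
        refine Eq.trans ?_ ((hI X z).trans (Category.assoc (GmPts.ptOfUnit (z ^ q)) av' i').symm)
        exact congrArg (· ≫ f) (Category.assoc (GmPts.ptOfUnit z) av i))
      (GrpSchLib.GaPts.ptOfFn (Red.gmFn c)) a
      (fun X v => by
        rw [GrpSchLib.RankOne.exists_unit_const X]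
        exact ((Category.assoc _ _ _).symm).trans (hfp X v)) ha X
    rw [GrpSchLib.RankOne.exists_unit_const X] at hone
    rw [GrpSchLib.RankOne.ga_eq_ptOfFn x, Category.assoc, ha]
    refine congrArg (· ≫ pm') (GrpSchLib.GaPts.gaFn_injective ?_)
    simp only [GrpSchLib.GaPts.gaFn_ptOfFn, ← hy]
    linear_combination Red.gaFn y * hone
  have hw : (∀ (X : Over S) (x y : X ⟶ Red.Ga S), Red.gaFn y * Red.gmFn (toUnit X ≫ c) = Red.gaFn x ^ q →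
      (x ≫ pm) ≫ f = y ≫ pm') → ∀ (X : Over S) (x : (Γ(X.left, ⊤))ˣ),
      F X ((Φ X).w x) = (Φ' X).w (cU X * x ^ q) := fun h3 X x => by
    refine GrpSchLib.RankOne.Sys.w_of_roots _ _ _ (cU X) (hneg X) (hfp X) (fun y => h3 X _ _ ?_) x
    simp only [GrpSchLib.GaPts.gaFn_ptOfFn]
    rw [mul_right_comm]
    exact (congrArg (· * y ^ q) (cU X).inv_mul).trans (_root_.one_mul _)
  tfae_have 3 → 2 := fun h3 X x x' y y' hx hy hy' => by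
    have hxu : Red.gaFn x * -Red.gaFn x' = 1 := by linear_combination -hx
    have hyu : Red.gaFn y * -Red.gaFn y' = 1 := by linear_combination -hy'
    let u : (Γ(X.left, ⊤))ˣ := Units.mkOfMulEqOne _ _ hxu
    have h := hw h3 X u
    have e : cU X * u ^ q = Units.mkOfMulEqOne _ _ hyu := Units.ext hy.symm
    rw [e] at h
    have ex : ∀ (z z' : X ⟶ Red.Ga S) (hz : Red.gaFn z * -Red.gaFn z' = 1) {H : Over S} [GrpObj H]
        (p m : Red.Ga S ⟶ H),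
        (GrpSchLib.GaPts.ptOfFn ((Units.mkOfMulEqOne _ _ hz : (Γ(X.left, ⊤))ˣ) : Γ(X.left, ⊤)) ≫ p) *
            (GrpSchLib.GaPts.ptOfFn (-(((Units.mkOfMulEqOne _ _ hz : (Γ(X.left, ⊤))ˣ)⁻¹ : _ˣ) : Γ(X.left, ⊤))) ≫ m) *
            (GrpSchLib.GaPts.ptOfFn ((Units.mkOfMulEqOne _ _ hz : (Γ(X.left, ⊤))ˣ) : Γ(X.left, ⊤)) ≫ p) =
          (z ≫ p) * (z' ≫ m) * (z ≫ p) := by
      intro z z' hz H _ p m
      rw [show -(((Units.mkOfMulEqOne _ _ hz : (Γ(X.left, ⊤))ˣ)⁻¹ : _ˣ) : Γ(X.left, ⊤)) = Red.gaFn z' from neg_neg _,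
        show ((Units.mkOfMulEqOne _ _ hz : (Γ(X.left, ⊤))ˣ) : Γ(X.left, ⊤)) = Red.gaFn z from rfl,
        ← GrpSchLib.RankOne.ga_eq_ptOfFn, ← GrpSchLib.RankOne.ga_eq_ptOfFn]
    exact ((congrArg (· ≫ f) (ex x x' hxu pp pm)).symm.trans h).trans (ex y y' hyu pp' pm')
  tfae_have 2 → 1 := fun h2w X z => by
    have hW : ∀ x : (Γ(X.left, ⊤))ˣ, F X ((Φ X).w x) = (Φ' X).w (cU X * x ^ q) := fun x =>
      h2w X _ _ _ _ (by simp only [GrpSchLib.GaPts.gaFn_ptOfFn, neg_mul, Units.inv_mul])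
        (by simp only [GrpSchLib.GaPts.gaFn_ptOfFn]; rfl)
        (by simp only [GrpSchLib.GaPts.gaFn_ptOfFn, neg_mul, Units.inv_mul])
    rw [hpow, ← GrpSchLib.RankOne.Sys.coroot_of_w _ _ (F X) (cU X) hW]
    show _ = ((GmPts.ptOfUnit (GmPts.unitOfPt z) ≫ av) ≫ i) ≫ f
    rw [GmPts.ptOfUnit_unitOfPt]
    simp only [Category.assoc]
  tfae_finish

end Groth.Agent.S8478
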