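import Groth.Statements.S8483
import Groth.Agent.GrpSchLib.RankOneBraid


set_option autoImplicit false
universe u
open CategoryTheory MonoidalCategory CartesianMonoidalCategory MonObj GrpObj AlgebraicGeometry CategoryTheory.Limits
open Red

namespace Groth.Agent.S8483

/-- Let G be a reductive S-group, i : T ⟶ G a maximal torus, α a character of T non-trivial on every
geometric fibre, p₊, p₋ : 𝔾_a ⟶ G monomorphisms of groups normalised by T with multipliers α and α⁻¹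
whose cell map (y, t, x) ↦ p₋(y) i(t) p₊(x) is an open immersion 𝔾_a ×_S T ×_S 𝔾_a ⟶ G, and α^* :
𝔾_m ⟶ T the coroot: α ∘ α^* is the squaring map and p₊(x) p₋(y) = p₋(y/(1+xy)) · i(α^*(1+xy)) ·
p₊(x/(1+xy)) whenever 1 + xy is invertible (so p₊ and p₋ are dual to each other). For points x, y of
𝔾_a with invertible coordinates put w(x) = p₊(x) p₋(-x⁻¹) p₊(x) and w₋(y) = p₋(y) p₊(-y⁻¹) p₋(y).
Then w₋(x⁻¹) = w(x)⁻¹ = w(-x), and w(x) w₋(y) = i(α^*(x y)). -/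
theorem result (S : Scheme.{u}) (G T : Over S) [GrpObj G] [GrpObj T] (i : T ⟶ G) [IsMonHom i] [Mono i] (hG : Red.IsReductive G) (hTm : Red.IsMaximalTorus i)
    (α : T ⟶ Red.Gm S) [IsMonHom α] (hα : ∀ s : S, (Over.pullback (Red.geomPt s)).map α ≠ 1)
    (pp pm : Red.Ga S ⟶ G) [IsMonHom pp] [Mono pp] [IsMonHom pm] [Mono pm]
    (hpp : ∀ (X : Over S) (t : X ⟶ T) (x : X ⟶ Red.Ga S), ∃ x' : X ⟶ Red.Ga S,
      x' ≫ pp = (t ≫ i) * (x ≫ pp) * (t ≫ i)⁻¹ ∧ Red.gaFn x' = Red.gmFn (t ≫ α) * Red.gaFn x)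
    (hpm : ∀ (X : Over S) (t : X ⟶ T) (y : X ⟶ Red.Ga S), ∃ y' : X ⟶ Red.Ga S,
      y' ≫ pm = (t ≫ i) * (y ≫ pm) * (t ≫ i)⁻¹ ∧ Red.gaFn y' * Red.gmFn (t ≫ α) = Red.gaFn y)
    (hΩ : IsOpenImmersion (((pm ⊗ₘ i) ⊗ₘ pp) ≫ (μ[G] ▷ G) ≫ μ[G]).left)
    (av : Red.Gm S ⟶ T) [IsMonHom av] (h2 : av ≫ α = (𝟙 (Red.Gm S)) ^ 2)
    (hF : ∀ (X : Over S) (x y : X ⟶ Red.Ga S), IsUnit (1 + Red.gaFn x * Red.gaFn y) →
      ∃ (x' y' : X ⟶ Red.Ga S) (z : X ⟶ Red.Gm S), Red.gmFn z = 1 + Red.gaFn x * Red.gaFn y ∧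
        Red.gaFn x' * Red.gmFn z = Red.gaFn x ∧ Red.gaFn y' * Red.gmFn z = Red.gaFn y ∧
        (x ≫ pp) * (y ≫ pm) = (y' ≫ pm) * (z ≫ av ≫ i) * (x' ≫ pp))
    (X : Over S) (x x' nx nx' y y' : X ⟶ Red.Ga S) (hx : Red.gaFn x' * Red.gaFn x = -1) (hnx : Red.gaFn nx = - Red.gaFn x)
    (hnx' : Red.gaFn nx' = - Red.gaFn x') (hy : Red.gaFn y' * Red.gaFn y = -1) (z : X ⟶ Red.Gm S)
    (hz : Red.gmFn z = Red.gaFn x * Red.gaFn y) :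
    (nx' ≫ pm) * (nx ≫ pp) * (nx' ≫ pm) = ((x ≫ pp) * (x' ≫ pm) * (x ≫ pp))⁻¹ ∧
      (nx ≫ pp) * (nx' ≫ pm) * (nx ≫ pp) = ((x ≫ pp) * (x' ≫ pm) * (x ≫ pp))⁻¹ ∧
      ((x ≫ pp) * (x' ≫ pm) * (x ≫ pp)) * ((y ≫ pm) * (y' ≫ pp) * (y ≫ pm)) = z ≫ av ≫ i := by
  let Φ := Groth.Agent.GrpSchLib.RankOne.sys i α pp pm hpp hpm av h2 hF X
  have hp : ∀ x : X ⟶ Red.Ga S, Φ.p (Red.gaFn x) = x ≫ pp := fun x =>
    congrArg (· ≫ pp) (Groth.Agent.GrpSchLib.GaPts.gaFn_injective (Groth.Agent.GrpSchLib.GaPts.gaFn_ptOfFn _))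
  have hm' : ∀ x : X ⟶ Red.Ga S, Φ.m (Red.gaFn x) = x ≫ pm := fun x =>
    congrArg (· ≫ pm) (Groth.Agent.GrpSchLib.GaPts.gaFn_injective (Groth.Agent.GrpSchLib.GaPts.gaFn_ptOfFn _))
  have hI : ∀ z : X ⟶ Red.Gm S, Φ.I (Φ.av (GmPts.unitOfPt z)) = z ≫ av ≫ i := fun z => by
    show (GmPts.ptOfUnit (GmPts.unitOfPt z) ≫ av) ≫ i = _
    rw [GmPts.ptOfUnit_unitOfPt, Category.assoc]
  have ha : ∀ t : X ⟶ T, Φ.a t = GmPts.unitOfPt (t ≫ α) := fun t => rfl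
  let u : (Γ(X.left, ⊤))ˣ := Units.mkOfMulEqOne (Red.gaFn x) (-Red.gaFn x')
    (by rw [mul_neg, mul_comm, hx, neg_neg])
  have hw : (x ≫ pp) * (x' ≫ pm) * (x ≫ pp) = Φ.w u := by
    show _ = Φ.p (Red.gaFn x) * Φ.m (-(-Red.gaFn x')) * Φ.p (Red.gaFn x)
    rw [neg_neg, hp, hm']
  have hb : ∀ a, Φ.m ((a⁻¹ : _ˣ) : Γ(X.left, ⊤)) * Φ.p (-(a : Γ(X.left, ⊤))) * Φ.m ((a⁻¹ : _ˣ) : Γ(X.left, ⊤)) = Φ.w (-a) :=
    Groth.Agent.GrpSchLib.RankOne.braid i α pp pm hpp hpm av h2 hF X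
  let v : (Γ(X.left, ⊤))ˣ := Units.mkOfMulEqOne (Red.gaFn y) (-Red.gaFn y')
    (by rw [mul_neg, mul_comm, hy, neg_neg])
  have hv : (y ≫ pm) * (y' ≫ pp) * (y ≫ pm) = Φ.w (-v⁻¹) := by
    rw [← hb, _root_.inv_inv]
    show _ = Φ.m (Red.gaFn y) * Φ.p (-(-Red.gaFn y')) * Φ.m (Red.gaFn y)
    rw [neg_neg, hp, hm']
  refine ⟨?_, ?_, ?_⟩
  · rw [hw, ← Φ.w_neg, ← hb, ← hp, ← hm', hnx, hnx']
    rfl
  · rw [hw, ← Φ.w_neg, ← hp, ← hm', hnx, hnx']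
    show _ = Φ.p (-(Red.gaFn x)) * Φ.m (-((((-u)⁻¹ : _ˣ)) : Γ(X.left, ⊤))) * Φ.p (-(Red.gaFn x))
    rw [inv_neg, Units.val_neg, neg_neg]
    rfl
  · rw [hw, hv, Φ.w_mul_w, ← hI]
    congr 2
    rw [inv_neg, _root_.inv_inv, mul_neg, neg_neg]
    exact Units.ext hz.symm

end Groth.Agent.S8483
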