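import Groth.Statements.S8487
import Groth.Agent.S8450


set_option autoImplicit false
universe u
open CategoryTheory MonoidalCategory CartesianMonoidalCategory MonObj GrpObj AlgebraicGeometry CategoryTheory.Limits
open Red

namespace Groth.Agent.S8487

/-- Let G be a reductive S-group, i : T ⟶ G a maximal torus, α a character of T non-trivial on every
geometric fibre, p₊, p₋ : 𝔾_a ⟶ G monomorphisms of groups normalised by T with multipliers α and α⁻¹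
whose cell map (y, t, x) ↦ p₋(y) i(t) p₊(x) is an open immersion 𝔾_a ×_S T ×_S 𝔾_a ⟶ G, and α^* :
𝔾_m ⟶ T the coroot: α ∘ α^* is the squaring map and p₊(x) p₋(y) = p₋(y/(1+xy)) · i(α^*(1+xy)) ·
p₊(x/(1+xy)) whenever 1 + xy is invertible (so p₊ and p₋ are dual to each other). Let n be a
non-zero integer and w an S-point of G such that w · i(α^*(z))^n · w⁻¹ = i(α^*(z))^{-n} for all
points z of 𝔾_m (after base change). Then w is a point of N^× = Norm_G(T) − T: it normalises T, with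
w i(t) w⁻¹ = i(α^*(α(t)))⁻¹ i(t) for all points t of T, and for no geometric point s̄ of S does
w(s̄) lie in T. (The published statement is an equivalence; this row states only this implication.) -/
theorem result (S : Scheme.{u}) (G T : Over S) [GrpObj G] [GrpObj T] (i : T ⟶ G) [IsMonHom i] [Mono i] (hG : Red.IsReductive G) (hTm : Red.IsMaximalTorus i)
    (α : T ⟶ Red.Gm S) [IsMonHom α] (hα : ∀ s : S, (Over.pullback (Red.geomPt s)).map α ≠ 1)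
    (pp pm : Red.Ga S ⟶ G) [IsMonHom pp] [Mono pp] [IsMonHom pm] [Mono pm]
    (hpp : ∀ (X : Over S) (t : X ⟶ T) (x : X ⟶ Red.Ga S), ∃ x' : X ⟶ Red.Ga S,
      x' ≫ pp = (t ≫ i) * (x ≫ pp) * (t ≫ i)⁻¹ ∧ Red.gaFn x' = Red.gmFn (t ≫ α) * Red.gaFn x)
    (hpm : ∀ (X : Over S) (t : X ⟶ T) (y : X ⟶ Red.Ga S), ∃ y' : X ⟶ Red.Ga S,
      y' ≫ pm = (t ≫ i) * (y ≫ pm) * (t ≫ i)⁻¹ ∧ Red.gaFn y' * Red.gmFn (t ≫ α) = Red.gaFn y)
    (hΩ : IsOpenImmersion (((pm ⊗ₘ i) ⊗ₘ pp) ≫ (μ[G] ▷ G) ≫ μ[G]).left)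
    (av : Red.Gm S ⟶ T) [IsMonHom av] (h2 : av ≫ α = (𝟙 (Red.Gm S)) ^ 2)
    (hF : ∀ (X : Over S) (x y : X ⟶ Red.Ga S), IsUnit (1 + Red.gaFn x * Red.gaFn y) →
      ∃ (x' y' : X ⟶ Red.Ga S) (z : X ⟶ Red.Gm S), Red.gmFn z = 1 + Red.gaFn x * Red.gaFn y ∧
        Red.gaFn x' * Red.gmFn z = Red.gaFn x ∧ Red.gaFn y' * Red.gmFn z = Red.gaFn y ∧
        (x ≫ pp) * (y ≫ pm) = (y' ≫ pm) * (z ≫ av ≫ i) * (x' ≫ pp))
    (n : ℤ) (hn : n ≠ 0) (w : 𝟙_ (Over S) ⟶ G)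
    (hw : ∀ (X : Over S) (z : X ⟶ Red.Gm S),
      (toUnit X ≫ w) * (((z ≫ av) ^ n) ≫ i) * (toUnit X ≫ w)⁻¹ = ((((z ≫ av) ^ n) ≫ i))⁻¹) :
    (∀ (X : Over S) (t : X ⟶ T), (toUnit X ≫ w) * (t ≫ i) * (toUnit X ≫ w)⁻¹ = (t ≫ α ≫ av ≫ i)⁻¹ * (t ≫ i)) ∧
      ∀ s : S, ¬ ∃ t : Over.mk (Red.geomPt s) ⟶ T, t ≫ i = toUnit (Over.mk (Red.geomPt s)) ≫ w := by
  let Φ := GrpSchLib.RankOne.sys i α pp pm hpp hpm av h2 hF
  have hT : Red.IsTorus T := hTm.2.2.1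
  have hcomp : ∀ {X Y : Over S} (j : Y ⟶ X), j ≫ (Φ X).w 1 = (Φ Y).w 1 := by
    intro X Y j
    simp only [GrpSchLib.RankOne.Sys.w, inv_one, Units.val_one]
    show j ≫ ((GrpSchLib.GaPts.ptOfFn 1 ≫ pp) * (GrpSchLib.GaPts.ptOfFn (-1) ≫ pm) * (GrpSchLib.GaPts.ptOfFn 1 ≫ pp)) =
      (GrpSchLib.GaPts.ptOfFn 1 ≫ pp) * (GrpSchLib.GaPts.ptOfFn (-1) ≫ pm) * (GrpSchLib.GaPts.ptOfFn 1 ≫ pp)
    have hj : ∀ v : Γ(X.left, ⊤), j ≫ (GrpSchLib.GaPts.ptOfFn v : X ⟶ Red.Ga S) =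
        GrpSchLib.GaPts.ptOfFn (j.left.appTop v) := fun v =>
      GrpSchLib.GaPts.gaFn_injective (by simp only [GrpSchLib.GaPts.gaFn_comp, GrpSchLib.GaPts.gaFn_ptOfFn])
    simp only [MonObj.comp_mul, ← Category.assoc, hj, map_one, map_neg]
  let w₀ := (Φ (𝟙_ (Over S))).w 1
  have hw₀ : ∀ (X : Over S) (t : X ⟶ T),
      (toUnit X ≫ w₀) * (t ≫ i) * (toUnit X ≫ w₀)⁻¹ = (t ≫ α ≫ av ≫ i)⁻¹ * (t ≫ i) := by
    intro X t
    rw [hcomp]
    refine ((Φ X).w_conj 1 t).trans ?_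
    show ((GmPts.ptOfUnit (GmPts.unitOfPt (t ≫ α)) ≫ av) ≫ i)⁻¹ * _ = _
    rw [GmPts.ptOfUnit_unitOfPt]
    simp only [Category.assoc]
    rfl
  have hinv : ∀ (X : Over S) (z : X ⟶ Red.Gm S), (toUnit X ≫ w₀) * (((z ≫ av) ^ n) ≫ i) * (toUnit X ≫ w₀)⁻¹ =
      (((z ≫ av) ^ n) ≫ i)⁻¹ := by
    intro X z
    have h1 : (toUnit X ≫ w₀) * ((z ≫ av) ≫ i) * (toUnit X ≫ w₀)⁻¹ = ((z ≫ av) ≫ i)⁻¹ := by
      rw [hw₀, Category.assoc z av (α ≫ av ≫ i), ← Category.assoc av α, h2, ← Category.assoc z _ (av ≫ i),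
        MonObj.comp_pow, Category.comp_id, ← Category.assoc (z ^ 2) av i, MonObj.pow_comp, MonObj.pow_comp,
        pow_two, _root_.mul_inv_rev, inv_mul_cancel_right]
    have h := congrArg (· ^ n) h1
    simp only [conj_zpow, inv_zpow] at h
    rw [GrpObj.zpow_comp]
    exact h
  obtain ⟨t₀, ht₀⟩ := (Groth.Agent.S8450.result S G T i hG hTm α hα pp pm hpp hpm hΩ av h2 hF n hn (𝟙_ (Over S))
    (w₀⁻¹ * w)).1 (fun X y z => by
      obtain rfl : y = toUnit X := toUnit_unique _ _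
      rw [MonObj.comp_mul, GrpObj.comp_inv]
      calc (toUnit X ≫ w₀)⁻¹ * (toUnit X ≫ w) * (((z ≫ av) ^ n) ≫ i)
          = (toUnit X ≫ w₀)⁻¹ * ((toUnit X ≫ w) * (((z ≫ av) ^ n) ≫ i) * (toUnit X ≫ w)⁻¹) * (toUnit X ≫ w) := by group
        _ = _ := by rw [(hw X z).trans (hinv X z).symm]; group)
  refine ⟨fun X t => ?_, fun s ⟨t, ht⟩ => ?_⟩
  · have e : toUnit X ≫ w = (toUnit X ≫ w₀) * ((toUnit X ≫ t₀) ≫ i) := by
      rw [Category.assoc, ht₀, ← MonObj.comp_mul, mul_inv_cancel_left]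
    rw [← hw₀, e]
    have hc : ((toUnit X ≫ t₀) ≫ i) * (t ≫ i) = (t ≫ i) * ((toUnit X ≫ t₀) ≫ i) := by
      rw [← MonObj.mul_comp, ← MonObj.mul_comp, GrpSchLib.RankOne.torus_mul_comm hT]
    rw [_root_.mul_inv_rev, _root_.mul_assoc (toUnit X ≫ w₀) ((toUnit X ≫ t₀) ≫ i), hc]
    group
  · let X := Over.mk (Red.geomPt s)
    let K := AlgebraicClosure (S.residueField s)
    have hone : ∀ v : (Γ(X.left, ⊤))ˣ, v ^ (4 * n) = 1 := by
      intro v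
      let z : X ⟶ Red.Gm S := GmPts.ptOfUnit v
      have h := hw X z
      rw [← ht, ← MonObj.mul_comp, ← GrpObj.inv_comp, ← MonObj.mul_comp, GrpSchLib.RankOne.torus_mul_comm hT,
        inv_mul_cancel_left, ← GrpObj.inv_comp] at h
      have h' : (z ≫ av) ^ n = ((z ≫ av) ^ n)⁻¹ := (cancel_mono i).1 h
      have h'' := congrArg (fun k => GmPts.equiv X (k ≫ α)) h'
      simp only [GrpObj.zpow_comp, GrpObj.inv_comp, map_inv, map_zpow, Category.assoc, GmPts.equiv_apply] at h''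
      rw [GrpSchLib.RankOne.unitOfPt_av h2, ← mul_eq_one_iff_eq_inv, ← zpow_natCast, ← zpow_mul, ← zpow_add] at h''
      rw [show 4 * n = ((2 : ℕ) : ℤ) * n + ((2 : ℕ) : ℤ) * n by push_cast; ring]
      exact h''
    haveI : Infinite K := IsAlgClosed.instInfinite
    obtain ⟨v, hv0, hv⟩ : ∃ v : K, v ≠ 0 ∧ v ^ (4 * n) ≠ 1 := by
      by_contra h
      push_neg at h
      have hd : (Polynomial.X ^ (4 * n).natAbs - 1 : Polynomial K) * Polynomial.X = 0 := Polynomial.zero_of_eval_zero _ fun v => by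
        rcases eq_or_ne v 0 with rfl | hv
        · simp
        · rcases Int.natAbs_eq (4 * n) with hn' | hn'
          · have := h v hv; rw [hn', zpow_natCast] at this; simp [this]
          · have := h v hv; rw [hn', zpow_neg, inv_eq_one, zpow_natCast] at this; simp [this]
      exact (Polynomial.monic_X_pow_sub_C (1 : K) (by omega : (4 * n).natAbs ≠ 0)).ne_zero (by simpa using hd)
    let e := GrpSchLib.RankOne.sval (Red.geomPt s)
    have := hone (Units.map e.symm.toMonoidHom (Units.mk0 v hv0))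
    rw [← map_zpow, ← (Units.map e.symm.toMonoidHom).map_one] at this
    exact hv (by simpa using congrArg Units.val (Units.map_injective (f := e.symm.toMonoidHom) e.symm.injective this))

end Groth.Agent.S8487
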