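import Groth.Statements.S8489
import Groth.Agent.GrpSchLib.RankOneScale


set_option autoImplicit false
universe u
open CategoryTheory MonoidalCategory CartesianMonoidalCategory MonObj GrpObj AlgebraicGeometry CategoryTheory.Limits
open Red

namespace Groth.Agent.S8489

/-- At the level of root homomorphisms. Let G be a reductive S-group, i : T ⟶ G a maximal torus, α a
character of T non-trivial on every geometric fibre, and p₊, p₋ : 𝔾_a ⟶ G monomorphisms of groups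
normalised by T with multipliers α and α⁻¹ such that 𝔾_a ×_S T ×_S 𝔾_a ⟶ G, (y, t, x) ↦ p₋(y) i(t)
p₊(x), is an open immersion (a rank-one system: G has semisimple rank 1 and p₊, p₋ trivialise the
root groups of α and -α). Then every monomorphism of groups p : 𝔾_a ⟶ G normalised by T with
multiplier α is a rescaling of p₊ by a unit: there is exactly one S-point c of 𝔾_m with p(x) = p₊(c
x) for all points x of 𝔾_a. (The published statement is a bijection between the nowhere-vanishing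
sections of the root line bundle and such monomorphisms; this row states it after fixing p₊.) -/
theorem result (S : Scheme.{u}) (G T : Over S) [GrpObj G] [GrpObj T] (i : T ⟶ G) [IsMonHom i] [Mono i] (hG : Red.IsReductive G) (hTm : Red.IsMaximalTorus i)
    (α : T ⟶ Red.Gm S) [IsMonHom α] (hα : ∀ s : S, (Over.pullback (Red.geomPt s)).map α ≠ 1)
    (pp pm : Red.Ga S ⟶ G) [IsMonHom pp] [Mono pp] [IsMonHom pm] [Mono pm]
    (hpp : ∀ (X : Over S) (t : X ⟶ T) (x : X ⟶ Red.Ga S), ∃ x' : X ⟶ Red.Ga S,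
      x' ≫ pp = (t ≫ i) * (x ≫ pp) * (t ≫ i)⁻¹ ∧ Red.gaFn x' = Red.gmFn (t ≫ α) * Red.gaFn x)
    (hpm : ∀ (X : Over S) (t : X ⟶ T) (y : X ⟶ Red.Ga S), ∃ y' : X ⟶ Red.Ga S,
      y' ≫ pm = (t ≫ i) * (y ≫ pm) * (t ≫ i)⁻¹ ∧ Red.gaFn y' * Red.gmFn (t ≫ α) = Red.gaFn y)
    (hΩ : IsOpenImmersion (((pm ⊗ₘ i) ⊗ₘ pp) ≫ (μ[G] ▷ G) ≫ μ[G]).left)
    (p : Red.Ga S ⟶ G) [IsMonHom p] [Mono p]
    (hp : ∀ (X : Over S) (t : X ⟶ T) (x : X ⟶ Red.Ga S), ∃ x' : X ⟶ Red.Ga S,
      x' ≫ p = (t ≫ i) * (x ≫ p) * (t ≫ i)⁻¹ ∧ Red.gaFn x' = Red.gmFn (t ≫ α) * Red.gaFn x) :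
    ∃! c : 𝟙_ (Over S) ⟶ Red.Gm S, ∀ (X : Over S) (x y : X ⟶ Red.Ga S),
      Red.gaFn y = Red.gmFn (toUnit X ≫ c) * Red.gaFn x → x ≫ p = y ≫ pp := by
  obtain ⟨c, hc'⟩ := GrpSchLib.RankOne.exists_coeff_root (j₀ := 𝟙 T) (q₀ := 1) hTm.2.2.1 hTm.2.2.1
    (by simpa using hα) hpp hpm hΩ (p := p) (fun X t x x' h => by
      obtain ⟨x'', h1, h2⟩ := hp X t x
      rw [Category.id_comp] at h
      rw [pow_one, Category.id_comp, ← h1, GrpSchLib.GaPts.gaFn_injective (h.trans h2.symm)])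
  have hc : ∀ (X : Over S) (y : Γ(X.left, ⊤)), GrpSchLib.GaPts.ptOfFn y ≫ p =
      GrpSchLib.GaPts.ptOfFn (Red.gaFn (toUnit X ≫ c) * y) ≫ pp := fun X y => by rw [hc' X y, pow_one]
  let v : Γ((𝟙_ (Over S)).left, ⊤) := Red.gaFn c
  have hv : IsUnit v := by
    refine (𝟙_ (Over S)).left.toRingedSpace.isUnit_of_isUnit_germ ⊤ v fun (x : S) _ => ?_
    suffices h : x ∈ S.basicOpen (U := ⊤) v from (Scheme.mem_basicOpen S v x trivial).mp h
    let X : Over S := Over.mk (S.fromSpecResidueField x)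
    let w : Γ(X.left, ⊤) := (S.fromSpecResidueField x).appTop v
    have hw : w ≠ 0 := fun h0 => by
      have h1 := hc X 1
      have e : Red.gaFn (toUnit X ≫ c) = w := GrpSchLib.GaPts.gaFn_comp (toUnit X) c
      rw [e, h0, zero_mul, GrpSchLib.RankOne.ga_zero_comp, ← GrpSchLib.RankOne.ga_zero_comp p, cancel_mono] at h1
      have h2 := congrArg Red.gaFn h1
      rw [GrpSchLib.GaPts.gaFn_ptOfFn, GrpSchLib.GaPts.gaFn_ptOfFn] at h2
      have h3 := congrArg (Scheme.ΓSpecIso (S.residueField x)).hom.hom h2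
      rw [map_one, map_zero] at h3
      exact one_ne_zero h3
    have hw' : IsUnit w := by
      have h3 : IsUnit ((Scheme.ΓSpecIso (S.residueField x)).commRingCatIsoToRingEquiv w) :=
        isUnit_iff_ne_zero.mpr fun h => hw ((map_eq_zero_iff _ (RingEquiv.injective _)).mp h)
      simpa using h3.map (Scheme.ΓSpecIso (S.residueField x)).commRingCatIsoToRingEquiv.symm
    have h4 := Scheme.preimage_basicOpen_top (S.fromSpecResidueField x) v
    have h5 : IsLocalRing.closedPoint (S.residueField x) ∈ (S.fromSpecResidueField x) ⁻¹ᵁ S.basicOpen v := by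
      rw [h4, show (Spec (S.residueField x)).basicOpen ((S.fromSpecResidueField x).appTop v) = ⊤ from
        Scheme.basicOpen_of_isUnit _ hw']
      trivial
    have h6 : (S.fromSpecResidueField x) (IsLocalRing.closedPoint (S.residueField x)) ∈ S.basicOpen v := h5
    exact Eq.mp (congrArg (· ∈ S.basicOpen v) (Scheme.fromSpecResidueField_apply x _)) h6
  refine ⟨GmPts.ptOfUnit hv.unit, fun X x y hxy => ?_, fun c' hc' => ?_⟩
  · rw [GrpSchLib.RankOne.ga_eq_ptOfFn x, hc, GrpSchLib.RankOne.ga_eq_ptOfFn y, hxy, GmPts.gmFn_comp,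
      GmPts.gmFn_ptOfUnit, GrpSchLib.GaPts.gaFn_comp (toUnit X) c, IsUnit.unit_spec]
  · refine GmPts.gmFn_injective ?_
    have h1 := hc' (𝟙_ (Over S)) (GrpSchLib.GaPts.ptOfFn 1)
      (GrpSchLib.GaPts.ptOfFn (Red.gmFn (toUnit (𝟙_ (Over S)) ≫ c') * 1))
      (by rw [GrpSchLib.GaPts.gaFn_ptOfFn, GrpSchLib.GaPts.gaFn_ptOfFn])
    rw [hc, cancel_mono] at h1
    have h2 := congrArg Red.gaFn h1
    rw [GrpSchLib.GaPts.gaFn_ptOfFn, GrpSchLib.GaPts.gaFn_ptOfFn, _root_.mul_one, _root_.mul_one,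
      toUnit_unique (toUnit (𝟙_ (Over S))) (𝟙 _), Category.id_comp, Category.id_comp] at h2
    show Red.gmFn c' = Red.gmFn (GmPts.ptOfUnit hv.unit)
    rw [GmPts.gmFn_ptOfUnit, IsUnit.unit_spec]
    exact h2.symm

end Groth.Agent.S8489
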