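import Groth.Statements.S8509
import Groth.Agent.RedTorsorSec.Basic
-- import your own Groth.Agent.* helpers here

set_option autoImplicit false
open CategoryTheory MonoidalCategory CartesianMonoidalCategory MonObj GrpObj AlgebraicGeometry
universe u
open RedSub

namespace Groth.Agent.S8509

/-- Let A be a henselian local ring, S = Spec A, and G an S-group scheme which is smooth and affine over
S. Then every torsor P under G (a representable principal homogeneous bundle) is isotrivial: there
is a finite etale surjective morphism S' ⟶ S such that P_{S'} has a section. (The published
statement asks only that every finite set of points of G lie in an affine open; this row takes G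
affine over S.) -/
theorem result (A : Type u) [CommRing A] [HenselianLocalRing A]
    {G P : Over (Spec (CommRingCat.of A))} [GrpObj G] [Smooth G.hom] [IsAffineHom G.hom] (a : AlgGrp.Action G P)
    (ha : RedSub.IsTorsor a) :
    ∃ (S' : Scheme.{u}) (f : S' ⟶ Spec (CommRingCat.of A)), IsFinite f ∧ Etale f ∧ Surjective f ∧
      RedSub.HasSection (Red.bc f P) := by
  exact Groth.Agent.RedTorsorSec.torsor_isotrivial A a ha

end Groth.Agent.S8509
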