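import Groth.Statements.S8513
-- import your own Groth.Agent.* helpers here

set_option autoImplicit false
open CategoryTheory MonoidalCategory CartesianMonoidalCategory MonObj GrpObj AlgebraicGeometry
universe u
open Par

namespace Groth.Agent.S8513

/-- Let G be a reductive S-group and P, Q two parabolic subgroups of G in transversal position (the
multiplication morphism P ×_S Q ⟶ G is smooth). Then P ∩ Q (a fibre product of P and Q over G) is
smooth over S. -/
theorem result {S : Scheme.{u}} {G P Q I : Over S} [GrpObj G] [GrpObj P] [GrpObj Q]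
    (hG : Red.IsReductive G) (p : P ⟶ G) (q : Q ⟶ G) (hP : Red.IsParabolic p) (hQ : Red.IsParabolic q)
    (htr : Smooth ((p ⊗ₘ q) ≫ μ[G]).left) (m : I ⟶ P) (m' : I ⟶ Q) (hI : IsPullback m m' p q) :
    Smooth I.hom := by
  obtain ⟨hp, -⟩ := hP
  obtain ⟨hq, -⟩ := hQ
  have := hp
  have := hq
  have key : IsPullback (lift m (m' ≫ GrpObj.inv)) (toUnit I) ((p ⊗ₘ q) ≫ μ[G]) MonObj.one := by
    refine IsPullback.of_isLimit' ⟨?_⟩ ?_
    · rw [← Category.assoc, lift_map, ← Hom.mul_def]
      have h1 : (m' ≫ GrpObj.inv) ≫ q = (m' ≫ q)⁻¹ := by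
        rw [Hom.inv_def, Category.assoc, Category.assoc, GrpObj.inv_hom]
      rw [h1, hI.w, mul_inv_cancel, Hom.one_def]
    · refine Limits.PullbackCone.IsLimit.mk _
        (fun s => hI.lift (s.fst ≫ fst P Q) ((s.fst ≫ snd P Q) ≫ GrpObj.inv) ?_)
        (fun s => ?_) (fun s => toUnit_unique _ _) (fun s l hl1 hl2 => ?_)
      · have h := s.condition
        have h2 : s.fst ≫ (p ⊗ₘ q) = lift ((s.fst ≫ fst P Q) ≫ p) ((s.fst ≫ snd P Q) ≫ q) := by
          ext <;> simp
        rw [← Category.assoc, h2, ← Hom.mul_def, toUnit_unique s.snd (toUnit _), ← Hom.one_def] at h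
        rw [Category.assoc _ GrpObj.inv q, GrpObj.inv_hom, ← Category.assoc, ← Hom.inv_def]
        exact mul_eq_one_iff_eq_inv.mp h
      · rw [comp_lift, hI.lift_fst, hI.lift_snd_assoc]
        ext
        · simp
        · simp
      · apply hI.hom_ext
        · rw [hI.lift_fst, ← hl1, Category.assoc, lift_fst]
        · rw [hI.lift_snd, ← hl1]
          simp
  have h := key.map (Over.forget S)
  have h2 := MorphismProperty.of_isPullback (P := @Smooth) h htr
  rw [← Category.comp_id I.hom]
  have e : (toUnit I).left = I.hom := by simp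
  rw [Category.comp_id, ← e]
  exact h2

end Groth.Agent.S8513
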