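import Groth.Statements.S8517
import Groth.Agent.RootData.BaseSmul

set_option autoImplicit false
open CategoryTheory MonoidalCategory CartesianMonoidalCategory MonObj GrpObj AlgebraicGeometry
universe u
open RedSub

namespace Groth.Agent.S8517

open Groth.Agent.RootData

/-- Let R be the set of roots of a root pairing over ℤ with finitely many roots, and R₁, R₂ two closed
subsets of R (if a, b ∈ Rᵢ and root a + root b is a root c then c ∈ Rᵢ), each containing a system of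
positive roots (the positive roots of some base). If R₁ ∪ R₂ = R, then R₁ ∩ (−R₂) (the roots of R₁
whose negative is a root in R₂) contains a system of positive roots. -/
theorem result {idx M N : Type} [Finite idx] [AddCommGroup M] [AddCommGroup N] (P : RootPairing idx ℤ M N) (R₁ R₂ : Set idx)
    (h₁ : ∀ a b c : idx, a ∈ R₁ → b ∈ R₁ → P.root a + P.root b = P.root c → c ∈ R₁)
    (h₂ : ∀ a b c : idx, a ∈ R₂ → b ∈ R₂ → P.root a + P.root b = P.root c → c ∈ R₂)
    (hb₁ : ∃ b : P.Base, RedSub.posRoots P b ⊆ R₁) (hb₂ : ∃ b : P.Base, RedSub.posRoots P b ⊆ R₂)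
    (hunion : R₁ ∪ R₂ = Set.univ) :
    ∃ b : P.Base, RedSub.posRoots P b ⊆ {a | a ∈ R₁ ∧ ∃ c ∈ R₂, P.root a = -P.root c} := by
  classical
  have := Fintype.ofFinite idx
  obtain ⟨b₁, hb₁⟩ := hb₁
  obtain ⟨b₂, hb₂⟩ := hb₂
  have hcov1 : ∀ i, i ∈ R₁ ∨ P.reflectionPerm i i ∈ R₁ := fun i =>
    ((Simple.of_base b₁).posOf_isPosSys.cover i).imp (fun h => hb₁ h) (fun h => hb₁ h)
  have hcov2 : ∀ i, i ∈ R₂ ∨ P.reflectionPerm i i ∈ R₂ := fun i =>
    ((Simple.of_base b₂).posOf_isPosSys.cover i).imp (fun h => hb₂ h) (fun h => hb₂ h)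
  set P' : Set idx := {a | a ∈ R₁ ∧ P.reflectionPerm a a ∈ R₂}
  have hcl : RootD.IsClosedSub P P' := by
    intro i j k hi hj hk
    exact ⟨h₁ i j k hi.1 hj.1 hk.symm, h₂ _ _ _ hi.2 hj.2 (by rw [root_neg, root_neg, root_neg, hk, neg_add])⟩
  have hu : ∀ i, i ∈ R₁ ∨ i ∈ R₂ := fun i => by rw [← Set.mem_union, hunion]; trivial
  have hcov : ∀ i, i ∈ P' ∨ P.reflectionPerm i i ∈ P' := by
    intro i
    show (i ∈ R₁ ∧ P.reflectionPerm i i ∈ R₂) ∨
      (P.reflectionPerm i i ∈ R₁ ∧ P.reflectionPerm (P.reflectionPerm i i) (P.reflectionPerm i i) ∈ R₂)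
    rw [neg_neg_idx]
    rcases hcov1 i with h | h <;> rcases hcov2 i with h' | h' <;>
      rcases hu i with e | e <;> rcases hu (P.reflectionPerm i i) with e' | e' <;> tauto
  obtain ⟨g, -, hg⟩ := exists_smul_subset (Simple.of_base b₁).posOf_isPosSys hcl hcov
  refine ⟨baseSmul b₁ g, fun a ha => ?_⟩
  obtain ⟨x, hx, rfl⟩ := baseSmul_pos b₁ g ha
  obtain ⟨h, h'⟩ := hg ⟨x, hx, rfl⟩
  exact ⟨h, _, h', by rw [root_neg, neg_neg]⟩

end Groth.Agent.S8517
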