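import Groth.Statements.S8524
import Groth.Agent.EtFound.Stalk
import Mathlib.AlgebraicGeometry.Morphisms.UniversallyOpen

set_option autoImplicit false
universe u
open CategoryTheory CategoryTheory.Limits AlgebraicGeometry Opposite
open EtAcyc

namespace Groth.Agent.S8524

/-- For the small etale site of a scheme and abelian sheaves: let L be a set of primes, F an abelian
L-torsion sheaf on the small etale site of a scheme X, and U an etale X-scheme with quasi-compact
underlying space. Then every section of F over U is killed by some positive integer all of whose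
prime factors lie in L. -/
theorem result {X : Scheme.{u}} (L : Set ℕ) (F : EtCoh.Ab X)
    (hF : EtAcyc.IsLTorsion L F) (U : X.Etale) [CompactSpace U.left] (s : EtCoh.sect F U) :
    ∃ m : ℕ, EtAcyc.PrimesIn L m ∧ m • s = 0 := by
  classical
  have h : ∀ x : U.left, ∃ W : Set U.left, IsOpen W ∧ x ∈ W ∧ ∃ (V : X.Etale) (g : V ⟶ U) (m : ℕ),
      Set.range g.left.base = W ∧ EtAcyc.PrimesIn L m ∧ m • F.obj.map g.op s = 0 := fun x => by
    obtain ⟨V, g, m, ⟨v, hv⟩, hm, h0⟩ := hF U s x
    have := EtFound.etale_left g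
    exact ⟨_, g.left.isOpenMap.isOpen_range, ⟨v, hv⟩, V, g, m, rfl, hm, h0⟩
  choose W hWo hxW V g m hr hm h0 using h
  obtain ⟨t, ht⟩ := isCompact_univ.elim_finite_subcover W hWo
    (fun x _ => Set.mem_iUnion.2 ⟨x, hxW x⟩)
  refine ⟨∏ x ∈ t, m x, ⟨Finset.prod_pos fun x _ => (hm x).1, fun p hp hdvd => ?_⟩, ?_⟩
  · obtain ⟨x, -, hx⟩ := (Prime.dvd_finsetProd_iff hp.prime m).1 hdvd
    exact (hm x).2 p hp hx
  · refine (((isSheaf_iff_isSheaf_of_type _ _).1 ((sheafCompose X.smallEtaleTopology
      (forget AddCommGrpCat.{u + 1})).obj F).property).isSeparated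
      (Presheaf.equalizerSieve (X := op U) ((∏ x ∈ t, m x) • s) 0) ?_).ext fun Y h hh => hh
    rw [EtFound.mem_topology_iff]
    intro y
    obtain ⟨x, hxt, hy⟩ := Set.mem_iUnion₂.1 (ht (Set.mem_univ y))
    rw [← hr x] at hy
    obtain ⟨v, hv⟩ := hy
    obtain ⟨c, hc⟩ := Finset.dvd_prod_of_mem m hxt
    refine ⟨V x, g x, v, ?_, hv⟩
    change F.obj.map (g x).op ((∏ x ∈ t, m x) • s) = F.obj.map (g x).op 0
    rw [map_nsmul, map_zero, hc, mul_nsmul, h0 x, nsmul_zero]

end Groth.Agent.S8524
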