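import Groth.Statements.S8531
import Groth.Agent.GmZar13.Basic
-- import your own Groth.Agent.* helpers here

set_option autoImplicit false
universe u
open CategoryTheory CategoryTheory.Limits AlgebraicGeometry Opposite
open EtPBC

namespace Groth.Agent.S8531

/-- In the form R^1 ε_* G_m = 0 for the morphism ε from the etale site to the Zariski site (equivalently
H^1(X_Zar, O_X^*) → H^1(X_et, G_m) is bijective, so H^1(X_et, G_m) is the Picard group): let X be a
scheme, c a class in H^1(X_et, G_m) and x a point of X. Then there is an open neighbourhood U of x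
such that the pullback of c to H^1(U_et, G_m restricted to U) is zero. -/
theorem result (X : Scheme.{u}) (c : EtCoh.H X (EtCoh.Gm X) 1) (x : X) :
    ∃ U : X.Opens, x ∈ U ∧ ∀ [PreservesFiniteLimits (EtCoh.pull U.ι)], EtCore.Hpull U.ι (EtCoh.Gm X) 1 c = 0 :=
  Groth.Agent.GmZar13.exists_open_Hpull_eq_zero c x

end Groth.Agent.S8531
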