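import Groth.Statements.S8535
import Groth.Agent.DeltaFLib.Basic
import Mathlib.CategoryTheory.Abelian.FunctorCategory

set_option autoImplicit false
universe v v' u u'
open CategoryTheory CategoryTheory.Limits
open DeltaF

namespace Groth.Agent.S8535

/-- Let A and B be abelian categories, T and T' cohomological delta-functors from A to B in degrees ≥ 0
whose degree-0 components are left exact (they vanish in negative degrees), such that T^i is
effaceable for every i > 0, and let φ : T → T' be a morphism of delta-functors and n a natural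
number. Then the following are equivalent: (a) φ^i is an isomorphism for i ≤ n and a monomorphism
for i = n + 1; (b) φ^0 is a monomorphism and φ^i is an epimorphism for every i ≤ n; (c) φ^0 is an
isomorphism and, for 0 < i ≤ n, T'^i is effaceable (every object X admits a monomorphism X → Y
killed by T'^i). -/
theorem result {A : Type u} [Category.{v} A] [Abelian A]
    {B : Type u'} [Category.{v'} B] [Abelian B] (T T' : DeltaF.CohDeltaFunctor A B ℕ)
    (h0 : T.ZeroMono) (h0' : T'.ZeroMono) (hT : T.IsEffaceable) (φ : T ⟶ T') (n : ℕ) :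
    ((∀ i : ℕ, i ≤ n → IsIso (φ.app i)) ∧ Mono (φ.app (n + 1)) ↔
      (Mono (φ.app 0) ∧ ∀ i : ℕ, i ≤ n → Epi (φ.app i))) ∧
    ((∀ i : ℕ, i ≤ n → IsIso (φ.app i)) ∧ Mono (φ.app (n + 1)) ↔
      (IsIso (φ.app 0) ∧ ∀ i : ℕ, 0 < i → i ≤ n → ∀ X : A, ∃ (Y : A) (u : X ⟶ Y), Mono u ∧ (T'.F i).map u = 0)) := by
  have key : ∀ i, i ≤ n → Mono (φ.app 0) → (∀ j, j ≤ i → Epi (φ.app j)) → IsIso (φ.app i) := by
    intro i
    induction i with
    | zero =>
      intro _ h1 h2
      have := h2 0 le_rfl
      exact isIso_of_mono_of_epi _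
    | succ i ih =>
      intro hi h1 h2
      have : IsIso (φ.app i) := ih (by omega) h1 fun j hj => h2 j (by omega)
      have := Groth.Agent.DeltaFLib.mono_app_succ hT i φ
      have := h2 (i + 1) le_rfl
      exact isIso_of_mono_of_epi _
  have ba : Mono (φ.app 0) → (∀ i : ℕ, i ≤ n → Epi (φ.app i)) →
      (∀ i : ℕ, i ≤ n → IsIso (φ.app i)) ∧ Mono (φ.app (n + 1)) := by
    intro h1 h2
    have hiso : ∀ i : ℕ, i ≤ n → IsIso (φ.app i) := fun i hi =>
      key i hi h1 fun j hj => h2 j (by omega)
    have := hiso n le_rfl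
    exact ⟨hiso, Groth.Agent.DeltaFLib.mono_app_succ hT n φ⟩
  refine ⟨⟨fun h => ?_, fun h => ba h.1 h.2⟩, ⟨fun h => ?_, fun h => ?_⟩⟩
  · have := h.1 0 (Nat.zero_le n)
    exact ⟨inferInstance, fun i hi => by have := h.1 i hi; infer_instance⟩
  · refine ⟨h.1 0 (Nat.zero_le n), fun i hi hin X => ?_⟩
    obtain ⟨m, rfl⟩ : ∃ m, i = m + 1 := ⟨i - 1, by omega⟩
    obtain ⟨Y, u, hu, h0u⟩ := hT m X
    refine ⟨Y, u, hu, ?_⟩
    have := h.1 (m + 1) hin
    rw [← cancel_epi ((φ.app (m + 1)).app X), ← NatTrans.naturality, h0u,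
      CategoryTheory.Limits.zero_comp, CategoryTheory.Limits.comp_zero]
  · have := h.1
    refine ba inferInstance fun i => ?_
    induction i with
    | zero => intro _; infer_instance
    | succ i ih =>
      intro hi
      have := ih (by omega)
      exact Groth.Agent.DeltaFLib.epi_app_succ i φ (h.2 (i + 1) (by omega) hi)

end Groth.Agent.S8535
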