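import Groth.Statements.S8538
import Groth.Agent.DeltaFun13.Basic
-- import your own Groth.Agent.* helpers here

set_option autoImplicit false
universe u
open CategoryTheory CategoryTheory.Limits AlgebraicGeometry Opposite
open EtCd

namespace Groth.Agent.S8538

/-- Let A be a Noetherian universally catenary local ring, f : X → Spec A a morphism of finite type, x a
point of X with image y, and X₀ the closed fibre of f. Put δ(x) = dim closure(y) + trdeg(κ(x)/κ(y))
= dim(A/p_y) + trdeg(κ(x)/κ(y)) and d(x) = dim closure(x) (topological Krull dimension of the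
closure of x in X). Then d(x) = δ(x) when the closure of x meets X₀, and d(x) + 1 = δ(x) when it
does not. -/
theorem result (A : Type u) [CommRing A] [IsNoetherianRing A] [IsLocalRing A]
    (hA : CAlg.IsUniversallyCatenary A) {X : Scheme.{u}} (f : X ⟶ Spec (CommRingCat.of A)) [LocallyOfFiniteType f]
    [QuasiCompact f] (x : X) (a b d : ℕ) (ha : ringKrullDim (A ⧸ (f.base x).asIdeal) = a)
    (hb : letI := (f.residueFieldMap x).hom.toAlgebra;
      Algebra.trdeg ((Spec (CommRingCat.of A)).residueField (f.base x)) (X.residueField x) = b)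
    (hd : topologicalKrullDim ↥(closure ({x} : Set X)) = d) :
    ((closure ({x} : Set X) ∩ f.base ⁻¹' {((IsLocalRing.closedPoint A : PrimeSpectrum A) : ↥(Spec (CommRingCat.of A)))}).Nonempty →
        d = a + b) ∧
    (closure ({x} : Set X) ∩ f.base ⁻¹' {((IsLocalRing.closedPoint A : PrimeSpectrum A) : ↥(Spec (CommRingCat.of A)))} = ∅ →
        d + 1 = a + b) := by
  have hya : DimFormula.cd (f.base x) (DeltaFun13.mPt A) = a := by
    rw [DeltaFun13.ringKrullDim_quotient_eq] at ha
    exact_mod_cast ha
  have hyb : FibDim.rd f x = b := by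
    have h := FibDim.rd_eq_rdeg f x
    rw [show VarDim.rdeg f x = (b : Cardinal.{u}) from hb] at h
    exact_mod_cast h
  obtain ⟨h1, h2⟩ := DeltaFun13.dim_closure hA f x
  refine ⟨fun hm => ?_, fun he => ?_⟩
  · rw [h1 hm, hya, hyb] at hd
    exact_mod_cast hd.symm
  · obtain ⟨d', hd', he'⟩ := h2 he
    rw [hd'] at hd
    have e : d' = d := by exact_mod_cast hd
    rw [hya, hyb, e] at he'
    exact he'

end Groth.Agent.S8538
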