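import Groth.Statements.S8539
import Groth.Agent.StrictModel13.Scheme

set_option autoImplicit false
universe u
open CategoryTheory CategoryTheory.Limits AlgebraicGeometry Opposite
open EtCd

namespace Groth.Agent.S8539

/-- Let X be a scheme of finite type over a field k, x a point of X and A a strict henselization of the
local ring of X at x. Then there are a separably closed field k', a scheme X' of finite type over k'
and a closed point x' of X' such that A is (isomorphic to) a strict henselization of the local ring
of X' at x': some local algebra structure over that local ring makes A a strict henselization of it. -/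
theorem result (k : Type u) [Field k] {X : Scheme.{u}}
    (f : X ⟶ Spec (CommRingCat.of k)) [LocallyOfFiniteType f] [QuasiCompact f] (x : X)
    (A : Type u) [CommRing A] [IsLocalRing A] [Algebra (X.presheaf.stalk x) A]
    [IsLocalHom (algebraMap (X.presheaf.stalk x) A)] [Hensel.IsStrictHenselization (X.presheaf.stalk x) A] :
    ∃ (k' : Type u) (_ : Field k') (_ : IsSepClosed k') (X' : Scheme.{u}) (f' : X' ⟶ Spec (CommRingCat.of k'))
      (_ : LocallyOfFiniteType f') (_ : QuasiCompact f') (x' : X') (_ : IsClosed ({x'} : Set X'))
      (_ : Algebra (X'.presheaf.stalk x') A) (_ : IsLocalHom (algebraMap (X'.presheaf.stalk x') A)),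
      Hensel.IsStrictHenselization (X'.presheaf.stalk x') A := by
  obtain ⟨σ, _, P, _, hP, X', f', hf₁, hf₂, x', hx', -, hA, hl, hs⟩ :=
    StrictModel13.exists_closedPoint_model f x (Subsingleton.elim (α := PrimeSpectrum k) _ _) A
  let W := Hensel.StrictHenz (Localization.AtPrime P)
  have hW : IsField W := StrictModel13.isField_strictHenz_of_field P hP
  haveI := (Hensel.IsStrictHenselization.isSepClosure (R := Localization.AtPrime P) (S := W)).sep_closed
  letI : Field W := hW.toField
  haveI : IsSepClosed W := Hensel.isSepClosed_of_ringEquiv
    (RingEquiv.ofBijective (IsLocalRing.residue W) ⟨RingHom.injective _, IsLocalRing.residue_surjective⟩).symm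
  exact ⟨W, inferInstance, inferInstance, X', f', hf₁, hf₂, x', hx', hA, hl, hs⟩

end Groth.Agent.S8539
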