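import Groth.Statements.S8540
import Groth.Agent.EtFound.ConstrColim
import Groth.Agent.EtFound.NoethACC
import Groth.Agent.EtFound.NoethConstr
import Mathlib.CategoryTheory.Subobject.NoetherianObject
import Mathlib.CategoryTheory.Subobject.Limits
-- import your own Groth.Agent.* helpers here

set_option autoImplicit false
universe u
open CategoryTheory CategoryTheory.Limits AlgebraicGeometry Opposite
open EtPBC

namespace Groth.Agent.S8540

/-- Let X be a Noetherian scheme and F a torsion abelian sheaf on the small etale site of X. Then F is
constructible if and only if F is a Noetherian object of the category of abelian etale sheaves on X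
(ascending chain condition on subsheaves). -/
theorem result (X : Scheme.{u}) [IsNoetherian X] (F : EtCoh.Ab X)
    (hF : EtCoh.IsTorsion F) :
    EtPBC.IsConstructible F ↔ IsNoetherianObject F := by
  refine ⟨fun h => (isNoetherianObject_iff_monotone_chain_condition F).2 fun c => ?_, fun h => ?_⟩
  · obtain ⟨N, hN⟩ := EtFound.subobject_chain_stabilises h c
    exact ⟨N, fun m hm => (hN m hm).symm⟩
  obtain ⟨hc⟩ := EtFound.nonempty_isColimit_stageCocone hF
  let D := EtFound.stageFunctor F
  let p : ∀ j, D.obj j ⟶ F := fun j => (EtFound.stageCocone F).ι.app j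
  haveI : WellFoundedGT (Subobject F) := inferInstance
  obtain ⟨_, ⟨j, rfl⟩, hj⟩ := wellFounded_gt.has_min (r := fun a b : Subobject F => b < a)
    (Set.range fun j => imageSubobject (p j)) (Set.range_nonempty _)
  haveI : Epi (p j) := by
    have hepi : Epi (imageSubobject (p j)).arrow := (EtFound.epi_iff_stalks _).2 fun Ω _ _ ξ y => by
      haveI : (EtCoh.stalk ξ).IsLeftAdjoint := (Scheme.pointSmallEtale ξ).skyscraperSheafAdjunction.isLeftAdjoint
      obtain ⟨k, b, hb⟩ := Types.jointly_surjective _
        (isColimitOfPreserves (EtCoh.stalk ξ ⋙ forget AddCommGrpCat.{u + 1}) hc) y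
      change (EtCoh.stalk ξ).map (p k) b = y at hb
      obtain ⟨l, hjl, hkl⟩ := exists_ge_ge j k
      have hjl' : D.map (homOfLE hjl) ≫ p l = p j := (EtFound.stageCocone F).w (homOfLE hjl)
      have hkl' : D.map (homOfLE hkl) ≫ p l = p k := (EtFound.stageCocone F).w (homOfLE hkl)
      have hle : imageSubobject (p j) ≤ imageSubobject (p l) := by
        rw [← hjl']
        exact imageSubobject_comp_le _ _
      have heq : imageSubobject (p l) ≤ imageSubobject (p j) := by
        rcases hle.eq_or_lt with h | h
        · exact h.ge
        · exact absurd h (hj _ ⟨l, rfl⟩)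
      let q : D.obj k ⟶ (imageSubobject (p j) : EtCoh.Ab X) :=
        D.map (homOfLE hkl) ≫ factorThruImageSubobject (p l) ≫ Subobject.ofLE _ _ heq
      have hq : q ≫ (imageSubobject (p j)).arrow = p k := by
        simp only [q, Category.assoc, Subobject.ofLE_arrow, imageSubobject_arrow_comp, hkl']
      refine ⟨(EtCoh.stalk ξ).map q b, ?_⟩
      rw [← ConcreteCategory.comp_apply, ← Functor.map_comp, hq, hb]
    rw [← imageSubobject_arrow_comp (p j)]
    exact epi_comp _ _
  exact EtFound.isConstructible_of_epi (EtFound.isConstructible_stage j) (p j)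

end Groth.Agent.S8540
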