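import Groth.Statements.S8543
import Groth.Agent.StrictModel13.Scheme

set_option autoImplicit false
universe u
open CategoryTheory CategoryTheory.Limits AlgebraicGeometry Opposite
open EtCd

namespace Groth.Agent.S8543

/-- Let R be a discrete valuation ring, X a scheme of finite type over Spec R, x a point of X over the
closed point of Spec R, and A a strict henselization of the local ring of X at x. Then there are a
strictly henselian discrete valuation ring R' (henselian, with separably closed residue field), a
scheme X' of finite type over Spec R', a closed point x' of X' over the closed point of Spec R', and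
a local algebra structure over the local ring of X' at x' for which A is a strict henselization of
that local ring. -/
theorem result (R : Type u) [CommRing R] [IsDomain R]
    [IsDiscreteValuationRing R] {X : Scheme.{u}} (f : X ⟶ Spec (CommRingCat.of R)) [LocallyOfFiniteType f]
    [QuasiCompact f] (x : X)
    (hx : f.base x = ((IsLocalRing.closedPoint R : PrimeSpectrum R) : ↥(Spec (CommRingCat.of R))))
    (A : Type u) [CommRing A] [IsLocalRing A] [Algebra (X.presheaf.stalk x) A]
    [IsLocalHom (algebraMap (X.presheaf.stalk x) A)] [Hensel.IsStrictHenselization (X.presheaf.stalk x) A] :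
    ∃ (R' : Type u) (_ : CommRing R') (_ : IsDomain R') (_ : IsDiscreteValuationRing R') (_ : HenselianLocalRing R')
      (_ : IsSepClosed (IsLocalRing.ResidueField R'))
      (X' : Scheme.{u}) (f' : X' ⟶ Spec (CommRingCat.of R')) (_ : LocallyOfFiniteType f') (_ : QuasiCompact f')
      (x' : X') (_ : IsClosed ({x'} : Set X'))
      (_ : f'.base x' = ((IsLocalRing.closedPoint R' : PrimeSpectrum R') : ↥(Spec (CommRingCat.of R'))))
      (_ : Algebra (X'.presheaf.stalk x') A) (_ : IsLocalHom (algebraMap (X'.presheaf.stalk x') A)),
      Hensel.IsStrictHenselization (X'.presheaf.stalk x') A := by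
  obtain ⟨σ, _, P, _, hP, X', f', hf₁, hf₂, x', hx', hfx, hA, hl, hs⟩ :=
    StrictModel13.exists_closedPoint_model f x hx A
  obtain ⟨hdom, hdvr⟩ := StrictModel13.isDVR_strictHenz P hP
  let W := Hensel.StrictHenz (Localization.AtPrime P)
  exact ⟨W, inferInstance, hdom, hdvr, Hensel.IsStrictHenselization.henselian (Localization.AtPrime P),
    (Hensel.IsStrictHenselization.isSepClosure (R := Localization.AtPrime P) (S := W)).sep_closed,
    X', f', hf₁, hf₂, x', hx', hfx, hA, hl, hs⟩

end Groth.Agent.S8543
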