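import Groth.Statements.S8544
import Groth.Agent.EtRadStrat13.Main

set_option autoImplicit false
universe u
open CategoryTheory CategoryTheory.Limits AlgebraicGeometry Opposite
open EtPBC

namespace Groth.Agent.S8544

/-- Let f : X → Y be a surjective morphism locally of finite presentation, with Y quasi-compact and
quasi-separated. Then there are a finite partition of Y by subschemes Y_i of finite presentation
over Y (immersions e_i of finite presentation with pairwise disjoint images covering Y) and, for
each i, finite surjective morphisms g_i : Y_i'' → Y_i' and h_i : Y_i' → Y_i with h_i etale and g_i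
flat, of finite presentation and radicial (universally injective), together with a Y-morphism s_i :
Y_i'' → X, i.e. s_i followed by f equals g_i, h_i, e_i composed. -/
theorem result {X Y : Scheme.{u}} (f : X ⟶ Y) [Surjective f]
    [LocallyOfFinitePresentation f] [CompactSpace Y] [QuasiSeparatedSpace Y] :
    ∃ (m : ℕ) (T T' T'' : Fin m → Scheme.{u}) (e : ∀ i, T i ⟶ Y) (hh : ∀ i, T' i ⟶ T i) (gg : ∀ i, T'' i ⟶ T' i)
      (s : ∀ i, T'' i ⟶ X),
      (∀ i, IsImmersion (e i) ∧ LocallyOfFinitePresentation (e i) ∧ QuasiCompact (e i)) ∧
      Pairwise (fun i j => Disjoint (Set.range (e i).base) (Set.range (e j).base)) ∧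
      (⋃ i, Set.range (e i).base) = Set.univ ∧
      (∀ i, IsFinite (hh i) ∧ Surjective (hh i) ∧ Etale (hh i)) ∧
      (∀ i, IsFinite (gg i) ∧ Surjective (gg i) ∧ Flat (gg i) ∧ LocallyOfFinitePresentation (gg i) ∧
        UniversallyInjective (gg i)) ∧
      ∀ i, s i ≫ f = gg i ≫ hh i ≫ e i := by
  obtain ⟨ι, _, T, e, h1, h2, h3, h4⟩ := EtRadStrat13.strat f
  choose T' T'' hh gg s h5 h6 h7 using h4
  let v := (Fintype.equivFin ι).symm
  exact ⟨_, fun i => T (v i), fun i => T' (v i), fun i => T'' (v i), fun i => e (v i), fun i => hh (v i),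
    fun i => gg (v i), fun i => s (v i), fun i => h1 (v i), fun i j hij => h2 (fun h => hij (v.injective h)),
    (v.surjective.iUnion_comp fun i => Set.range (e i)).trans h3, fun i => h5 (v i), fun i => h6 (v i),
    fun i => h7 (v i)⟩

end Groth.Agent.S8544
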