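import Groth.Statements.S8545
import Groth.Agent.DeltaFun13.Strict
import Groth.Agent.S0539
import Groth.Agent.HenselConn.SpecLoc
-- import your own Groth.Agent.* helpers here

set_option autoImplicit false
universe u
open CategoryTheory CategoryTheory.Limits AlgebraicGeometry Opposite
open EtCd

namespace Groth.Agent.S8545

/-- Let f : X → Y be a morphism of schemes of finite type over a field k, x a point of X with image y,
y₀ a specialization of y in Y, R a strict henselization of the local ring of Y at y₀ with Y' = Spec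
R → Y the strict localization and X' = X ×_Y Y' with projection f' : X' → Y', and let x' be a point
of X' lying over x, with image y' in Y'. Writing δ(x') = dim closure(y') + trdeg(κ(x')/κ(y'))
(closure in Y' = Spec R, so dim closure(y') = dim R/p_{y'}) and d for the dimension of the closure
of a point in X or Y, one has δ(x') = d(x) - d(y₀); stated as δ(x') + d(y₀) = d(x). -/
theorem result (k : Type u) [Field k] {X Y : Scheme.{u}}
    (aX : X ⟶ Spec (CommRingCat.of k)) (aY : Y ⟶ Spec (CommRingCat.of k)) [LocallyOfFiniteType aX] [QuasiCompact aX]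
    [LocallyOfFiniteType aY] [QuasiCompact aY] (f : X ⟶ Y) (w : f ≫ aY = aX) (x : X) (y₀ : Y) (hsp : f.base x ⤳ y₀)
    (R : Type u) [CommRing R] [IsLocalRing R] [Algebra (Y.presheaf.stalk y₀) R]
    [IsLocalHom (algebraMap (Y.presheaf.stalk y₀) R)] [Hensel.IsStrictHenselization (Y.presheaf.stalk y₀) R]
    (x' : ↥(pullback f (Hens2.specOf Y y₀ R))) (hx' : (pullback.fst f (Hens2.specOf Y y₀ R)).base x' = x)
    (a b dx dy : ℕ)
    (ha : ringKrullDim (R ⧸ ((pullback.snd f (Hens2.specOf Y y₀ R)).base x').asIdeal) = a)
    (hb : letI := ((pullback.snd f (Hens2.specOf Y y₀ R)).residueFieldMap x').hom.toAlgebra;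
      Algebra.trdeg ((Spec (CommRingCat.of R)).residueField ((pullback.snd f (Hens2.specOf Y y₀ R)).base x'))
        ((pullback f (Hens2.specOf Y y₀ R)).residueField x') = b)
    (hdx : topologicalKrullDim ↥(closure ({x} : Set X)) = dx)
    (hdy : topologicalKrullDim ↥(closure ({y₀} : Set Y)) = dy) :
    a + b + dy = dx := by
  let π := Hens2.specOf Y y₀ R
  let q := pullback.snd f π
  have hq : π (q x') = f.base x := by
    have h1 := congrArg (fun g => g.base x') (pullback.condition (f := f) (g := π))
    simp only [Scheme.Hom.comp_apply] at h1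
    rw [← hx']
    exact h1.symm
  haveI : IsLocallyNoetherian Y := LocallyOfFiniteType.isLocallyNoetherian aY
  haveI : IsLocallyNoetherian X := LocallyOfFiniteType.isLocallyNoetherian aX
  haveI : LocallyOfFiniteType f := by
    haveI : LocallyOfFiniteType (f ≫ aY) := w ▸ inferInstance
    exact locallyOfFiniteType_of_comp f aY
  haveI : JacobsonSpace X := LocallyOfFiniteType.jacobsonSpace aX
  haveI : JacobsonSpace Y := LocallyOfFiniteType.jacobsonSpace aY
  haveI : IsNoetherianRing (Y.presheaf.stalk y₀) := inferInstance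
  haveI : IsNoetherianRing R := (S0540.result (Y.presheaf.stalk y₀) R).1 inferInstance
  haveI : TopologicalSpace.NoetherianSpace ↥(Spec (CommRingCat.of R)) :=
    inferInstanceAs (TopologicalSpace.NoetherianSpace (PrimeSpectrum R))
  haveI : Module.FaithfullyFlat (Y.presheaf.stalk y₀) R := S0539.result (Y.presheaf.stalk y₀) R
  haveI := DeltaFun13.flat_specOf Y y₀ R
  obtain ⟨P⟩ := EtLimit.nonempty_etPres_specOf Y y₀ R
  obtain ⟨gX, hx⟩ := DeltaFun13.dd_eq_rd aX x
  obtain ⟨gY, hy⟩ := DeltaFun13.dd_eq_rd aY (f.base x)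
  -- the length of the chain
  have hm : π (DeltaFun13.mPt R) = y₀ := HenselConn.specOf_closedPoint Y y₀ R
  have hUC : ∀ y : Y, CAlg.IsUniversallyCatenary (Y.presheaf.stalk y) := fun y =>
    H23.SetupLFT.isUniversallyCatenary_stalk aY y (DimFormula.isUniversallyCatenary_stalk_field k _)
  have hcd := DeltaFun13.cd_eq P hUC (DeltaFun13.specializes_mPt (q x'))
  rw [hm, hq] at hcd
  have ha' : DimFormula.cd (f.base x) y₀ = a := by
    rw [DeltaFun13.ringKrullDim_quotient_eq] at ha
    rw [← hcd]
    exact_mod_cast ha
  -- the transcendence degree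
  haveI : LocallyOfFiniteType q := inferInstance
  have hb' : FibDim.rd q x' = b := by
    have h := FibDim.rd_eq_rdeg q x'
    rw [show VarDim.rdeg q x' = (b : Cardinal.{u}) from hb] at h
    exact_mod_cast h
  have hle : FibDim.rd q x' ≤ FibDim.rd f x := hx' ▸
    FibDim.rd_baseChange_le (IsPullback.of_hasPullback f π) x'
  have hge : FibDim.rd f x ≤ FibDim.rd q x' := by
    have h := VarDim.rdeg_congr (pullback.condition (f := f) (g := π)) x'
    rw [VarDim.rdeg_comp, VarDim.rdeg_comp, DeltaFun13.rdeg_eq_zero P, zero_add, hx'] at h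
    rw [← Nat.cast_le (α := Cardinal.{u}), FibDim.rd_eq_rdeg, FibDim.rd_eq_rdeg]
    exact le_self_add.trans h.le
  have hdd := gY.dd_add hsp
  have hdx' : DimFormula.dd x = dx := by
    rw [gX.dim_closure] at hdx
    exact_mod_cast hdx
  have hdy' : DimFormula.dd y₀ = dy := by
    rw [gY.dim_closure] at hdy
    exact_mod_cast hdy
  have hcomp : FibDim.rd aX x = FibDim.rd aY (f.base x) + FibDim.rd f x := by
    subst w
    exact FibDim.rd_comp f aY x
  omega

end Groth.Agent.S8545
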