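import Groth.Statements.S8549
import Groth.Agent.HenselConn.Effective
import Groth.Agent.HenselConn.Geom
import Groth.Agent.BigSiteLib.EtDescSec.FlatLfp
-- import your own Groth.Agent.* helpers here

set_option autoImplicit false
universe u
open CategoryTheory CategoryTheory.Limits AlgebraicGeometry Opposite
open EtAcyc

namespace Groth.Agent.S8549

/-- Flat with separable fibres: let g : X → Y be surjective and flat with separable fibres (every base
change of a fibre of g to a field is a reduced scheme), and assume either that X and Y are locally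
Noetherian and g is quasi-compact and quasi-separated or universally open, or that g is locally of
finite presentation. Then g is a morphism of universal effective descent for etale sheaves of sets:
for every base change g₁ : X₁ → Y₁ of g and every sheaf of sets on the small etale site of X₁ with
an isomorphism pr₁^* F' ≅ pr₂^* F' satisfying the cocycle condition, the datum is effective. -/
theorem result {X Y : Scheme.{u}} (g : X ⟶ Y) [Surjective g] [Flat g]
    (hsep : ∀ (K : Type u) [Field K] (k : Spec (CommRingCat.of K) ⟶ Y), IsReduced (pullback g k))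
    (h : (IsLocallyNoetherian X ∧ IsLocallyNoetherian Y ∧ ((QuasiCompact g ∧ QuasiSeparated g) ∨ UniversallyOpen g)) ∨
      LocallyOfFinitePresentation g) :
    ∀ ⦃X₁ Y₁ : Scheme.{u}⦄ (g₁ : X₁ ⟶ Y₁) (b' : X₁ ⟶ X) (b : Y₁ ⟶ Y), IsPullback b' g₁ g b →
      ∀ (F' : EtDesc.Sh X₁)
        (φ : (EtDesc.pullSh (pullback.fst g₁ g₁)).obj F' ≅ (EtDesc.pullSh (pullback.snd g₁ g₁)).obj F'),
        EtDesc.IsCocycle F' φ → EtDesc.IsEffective g₁ F' φ := by
  intro X₁ Y₁ g₁ b' b H F' φ hφ
  haveI : Surjective g₁ := MorphismProperty.of_isPullback (P := @Surjective) H ‹_›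
  haveI : Flat g₁ := MorphismProperty.of_isPullback (P := @Flat) H ‹_›
  rcases h with ⟨-, hY, hq⟩ | hfp
  · haveI : GeometricallyReduced g := ⟨geometrically_iff_of_isClosedUnderIsomorphisms.mpr fun K _ k => hsep K k⟩
    have hg : EtAcyc.IsULocZeroAcyclic g₁ := fun X₂ Y₂ g₂ c' c H₂ =>
      Groth.Agent.HenselConn.isLocZeroAcyclic_of_isPullback_noetherian g g₂ _ _ (H₂.paste_horiz H)
    refine Groth.Agent.HenselConn.isEffective_of_uloc g₁ hg ?_ F' φ hφ
    rcases hq with ⟨hqc, -⟩ | huo
    · exact Or.inl (MorphismProperty.of_isPullback (P := @QuasiCompact) H hqc)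
    · exact Or.inr (MorphismProperty.of_isPullback (P := @UniversallyOpen) H huo)
  · haveI : LocallyOfFinitePresentation g₁ := MorphismProperty.of_isPullback (P := @LocallyOfFinitePresentation) H hfp
    exact Groth.Agent.BigSiteLib.DescSec.isEffective_of_flat g₁ φ hφ

end Groth.Agent.S8549
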