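import Groth.Statements.S8552
import Groth.Agent.EtDev.Main
-- import your own Groth.Agent.* helpers here

set_option autoImplicit false
universe u
open CategoryTheory CategoryTheory.Limits AlgebraicGeometry Opposite
open EtCd

namespace Groth.Agent.S8552

/-- (ii) ⇒ (i): let X be a Noetherian scheme, ℓ a prime, and φ an ℕ-valued function on schemes over X
which, on integral schemes finite over X, is monotone for X-morphisms and strictly monotone for
closed immersions that are not isomorphisms (for a general Y finite over X one puts φ(Y) = the sup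
of φ over its irreducible components with reduced structure). If H^q(Y, Z/ℓ) = 0 for every integral
Y finite over X and every q > φ(Y), then for every Y finite over X, every abelian ℓ-torsion sheaf F
on Y and every q with q > φ(Z) for all integral closed subschemes Z of Y inside the closure of the
support of F, one has H^q(Y, F) = 0. (The converse implication is the special case F = Z/ℓ.) -/
theorem result (X : Scheme.{u}) [IsNoetherian X] (ℓ : ℕ) (hℓ : ℓ.Prime)
    (φ : ∀ (Y : Scheme.{u}), (Y ⟶ X) → ℕ)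
    (hmono : ∀ (Y₁ Y₂ : Scheme.{u}) (g₁ : Y₁ ⟶ X) (g₂ : Y₂ ⟶ X) [IsIntegral Y₁] [IsIntegral Y₂] [IsFinite g₁] [IsFinite g₂]
      (m : Y₁ ⟶ Y₂), m ≫ g₂ = g₁ → φ Y₁ g₁ ≤ φ Y₂ g₂ ∧ (IsClosedImmersion m → ¬ IsIso m → φ Y₁ g₁ < φ Y₂ g₂))
    (h2 : ∀ (Y : Scheme.{u}) (g : Y ⟶ X) [IsIntegral Y] [IsFinite g] (q : ℕ), φ Y g < q →
      Subsingleton (EtCoh.H Y (EtCoh.const Y (ZMod ℓ)) q))
    (Y : Scheme.{u}) (g : Y ⟶ X) [IsFinite g] (F : EtCoh.Ab Y) (hF : EtAcyc.IsLTorsion {ℓ} F) (q : ℕ)
    (hq : ∀ (Z : Scheme.{u}) (c : Z ⟶ Y) [IsIntegral Z] [IsClosedImmersion c],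
      Set.range c.base ⊆ closure (EtPBC.supp F) → φ Z (c ≫ g) < q) :
    Subsingleton (EtCoh.H Y F q) := by
  haveI := Fact.mk hℓ
  exact Groth.Agent.EtDev.subsingleton_H_primary (φ := φ) ⟨hmono, h2⟩ g
    (Groth.Agent.EtDev.isPrimaryTorsion_of_isLTorsion hℓ hF) q fun y hy =>
      hq _ (Groth.Agent.EtDev.clι y) (by
        rw [Groth.Agent.EtDev.range_clι]
        exact closure_mono (Set.singleton_subset_iff.2 hy))

end Groth.Agent.S8552
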