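import Groth.Statements.S8554
import Groth.Agent.Flasque.GodementGrp
import Mathlib.AlgebraicGeometry.Sites.EtalePoint
-- import your own Groth.Agent.* helpers here

set_option autoImplicit false
set_option backward.isDefEq.respectTransparency false
set_option backward.isDefEq.respectTransparency.types false
set_option linter.style.haveILetI false
universe u
open CategoryTheory CategoryTheory.Limits AlgebraicGeometry Opposite
open NonAbH1

namespace Groth.Agent.S8554

/-- Every sheaf of groups F on the small etale site of a scheme X embeds into a sheaf of groups G with
vanishing first non-abelian cohomology on every etale X-scheme: there are G and a morphism u : F ⟶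
G, injective on sections over every object of the site, such that for every etale X-scheme U every
torsor under the restriction of G to the induced site over U is trivial, i.e. H¹(U, G) is reduced to
its base point. (The published statement adds that the first higher direct images of G along any
morphism of schemes then vanish as pointed sheaves; that clause follows from this one and is not
stated here.) -/
theorem result {X : Scheme.{u}}
    (F : Sheaf X.smallEtaleTopology GrpCat.{u + 1}) :
    ∃ (G : Sheaf X.smallEtaleTopology GrpCat.{u + 1}) (φ : F ⟶ G),
      (∀ U : X.Etaleᵒᵖ, Function.Injective (φ.hom.app U)) ∧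
      ∀ (U : X.Etale) (P : NonAbH1.Torsor (G.over U)), P.IsTrivial := by
  let Φ : X → X.smallEtaleTopology.Point := fun s => Scheme.pointSmallEtale
    ((Scheme.SpecToEquivOfField (SeparableClosure (X.residueField s)) _).2
      ⟨s, CommRingCat.ofHom (algebraMap (X.residueField s) _)⟩)
  have hΦ : ∀ (U : X.Etale) (κ : Type u) (V : κ → X.Etale) (f : ∀ i, V i ⟶ U),
      (∀ (x : X) (y : (Φ x).fiber.obj U), ∃ (i : κ) (z : (Φ x).fiber.obj (V i)), (Φ x).fiber.map (f i) z = y) →
      Sieve.ofArrows V f ∈ X.smallEtaleTopology U :=
    fun U κ V f h => (Scheme.isConservativeFamilyOfPoints_pointSmallEtale' X).jointly_reflect_ofArrows_mem f |>.2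
      fun ⟨Ψ, hΨ⟩ y => by obtain ⟨x⟩ := hΨ; exact h x y
  exact ⟨Groth.Agent.Flasque.GodementGrp.god Φ F, Groth.Agent.Flasque.GodementGrp.toGod Φ F,
    Groth.Agent.Flasque.GodementGrp.toGod_injective F hΦ,
    fun U P => Groth.Agent.Flasque.GodementGrp.isTrivial_torsor F U P⟩

end Groth.Agent.S8554
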