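import Groth.Statements.S8556
import Groth.Agent.CechTorsorX.Boundary
-- import your own Groth.Agent.* helpers here

set_option autoImplicit false
universe u
open CategoryTheory CategoryTheory.Limits AlgebraicGeometry Opposite
open NonAbH1

namespace Groth.Agent.S8556

/-- Exactness of the non-abelian cohomology sequence at H¹(X, F): let u : F ⟶ G be a morphism of sheaves
of groups on the small etale site of a scheme X that is injective on sections over every object, and
let the G-sheaf Q with its equivariant map π from G (acting on itself by left translation) be the
quotient G/F (π identifies two sections of G exactly when they differ by right multiplication by a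
section of F, and is locally surjective). Then for an F-torsor T the following are equivalent: the
image of the class of T under u is the base point of H¹(X, G), in the sense that there is a
u-equivariant morphism of sheaves of sets from T to G acting on itself by left translation; T is the
sheaf of local liftings to G of some global section c of Q (with F acting on liftings by f · g = g
u(f)⁻¹), that is, the class of T is a boundary ∂c. -/
theorem result {X : Scheme.{u}} {F G : Sheaf X.smallEtaleTopology GrpCat.{u + 1}}
    (u : F ⟶ G) (hu : ∀ U : X.Etaleᵒᵖ, Function.Injective (u.hom.app U))
    {Q : NonAbH1.GSheaf G} (π : NonAbH1.GSheaf.trivial.{u + 1, u, u + 1} G ⟶ Q) (hQ : NonAbH1.GSheaf.IsQuotientBy.{u + 1, u, u + 1} u π)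
    (T : NonAbH1.Torsor F) :
    NonAbH1.GSheaf.IsPushforwardAlong.{u + 1, u, u + 1} u T.toGSheaf (NonAbH1.GSheaf.trivial.{u + 1, u, u + 1} G) ↔
      ∃ c : Q.P.obj.sections, NonAbH1.GSheaf.IsFibreOver.{u + 1, u, u + 1} u π c T.toGSheaf := by
  exact Groth.Agent.CechTorsorX.Boundary.pushforward_trivial_iff hu hQ T

end Groth.Agent.S8556
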