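import Groth.Statements.S8563
import Groth.Agent.Chow17.OpenPart
-- import your own Groth.Agent.* helpers here

set_option autoImplicit false
universe u
open CategoryTheory CategoryTheory.Limits AlgebraicGeometry
open RelProj

set_option backward.isDefEq.respectTransparency false
set_option backward.isDefEq.respectTransparency.types false
set_option linter.style.haveILetI false
open AlgebraicGeometry CategoryTheory CategoryTheory.Limits
open Groth.Agent

namespace Groth.Agent.S8563

/-- A variant of Chow's lemma free of Noetherian and irreducibility hypotheses: let S be a quasi-compact
and quasi-separated scheme and f : X ⟶ S a separated morphism of finite type with X nonempty. Then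
there are a scheme X̄ and a morphism π : X̄ ⟶ X such that π is projective (X̄ is, over X, the
homogeneous spectrum of a quasi-coherent graded algebra generated by its degree-one part, of finite
type in degree one), the composite π ≫ f is quasi-projective (of finite type with a relatively ample
invertible sheaf), and π induces an isomorphism from the inverse image of U onto U for some nonempty
open subset U of X. (No density of U and no surjectivity of π are asserted.) -/
theorem result {X S : Scheme.{u}} (f : X ⟶ S)
    [CompactSpace S] [QuasiSeparatedSpace S] [IsSeparated f] [LocallyOfFiniteType f] [QuasiCompact f]
    [Nonempty X] :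
    ∃ (Xbar : Scheme.{u}) (π : Xbar ⟶ X), RelProj.IsProjective π ∧ RelProj.IsQuasiProjective (π ≫ f) ∧
      ∃ U : X.Opens, (U : Set X).Nonempty ∧ IsIso (π ∣_ U) := by
  exact Chow17.exists_chow_open f

end Groth.Agent.S8563
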