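import Groth.Statements.S8567
import Groth.Agent.SiteBase.CompactSub.Colim

set_option autoImplicit false
open CategoryTheory TopologicalSpace Opposite
universe u
open CohTop

namespace Groth.Agent.S8567

/-- Let X be a topological space, K ⊆ X a compact subset such that any two distinct points of K have
disjoint neighbourhoods in X, and F a flasque abelian sheaf on X. Then the inverse image F|K of F on
the subspace K is a soft sheaf: for every closed subset A of K, every section of (F|K)|A over A is
the restriction of a section of F|K over K (the restriction map is the unit of the inverse image /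
direct image adjunction for the inclusion A → K, taken on global sections). -/
theorem result {X : TopCat.{u}} {K : Set X} (hK : IsCompact K)
    (hsep : ∀ x ∈ K, ∀ y ∈ K, x ≠ y → ∃ U V : Set X, IsOpen U ∧ IsOpen V ∧ x ∈ U ∧ y ∈ V ∧ Disjoint U V)
    (F : CohTop.Ab X) [TopCat.Sheaf.IsFlasque F] {A : Set K} (hA : IsClosed A) :
    Function.Surjective
      ((((TopCat.Sheaf.pullbackPushforwardAdjunction AddCommGrpCat.{u}
        (TopCat.ofHom ⟨((↑) : A → K), continuous_subtype_val⟩ : TopCat.of A ⟶ TopCat.of K)).unit.app
        ((CohTop.pull (TopCat.ofHom ⟨((↑) : K → X), continuous_subtype_val⟩ : TopCat.of K ⟶ X)).obj F)).hom.app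
        (op ⊤)).hom) := by
  have : CompactSpace K := isCompact_iff_compactSpace.1 hK
  have hr : CompactSub.RelHaus (Set.range (CompactSub.incl K)) := fun x hx y hy => by
    obtain ⟨x, rfl⟩ := hx
    obtain ⟨y, rfl⟩ := hy
    exact hsep _ x.2 _ y.2
  have : T2Space K := CompactSub.RelHaus.t2Space (show CompactSub.RelHaus K from hsep)
  let G : CohTop.Ab (TopCat.of K) := (CohTop.pull (CompactSub.incl K)).obj F
  have hi : Topology.IsInducing (CompactSub.incl (X := TopCat.of K) A) := (CompactSub.isEmbedding_incl (X := TopCat.of K) A).isInducing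
  intro s
  obtain ⟨t, ht⟩ := CompactSub.isSoft_pull (CompactSub.isEmbedding_incl K) hr F A hA
    (fun a => CompactSub.phi hi G s a (Opens.mem_top a)) (fun a => by
      obtain ⟨W, hW, t, -, ht⟩ := CompactSub.phi_loc hi G s a (Opens.mem_top a)
      exact ⟨W, hW, t, fun b hb => ht b hb (Opens.mem_top b)⟩)
  refine ⟨t, CompactSub.phi_ext hi G _ s fun z hz => ?_⟩
  exact (CompactSub.phi_etaSec hi G t z hz).trans (ht z).symm


end Groth.Agent.S8567
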