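import Groth.Statements.S8568
import Groth.Agent.SiteBase.DerivedLimSimplex

set_option autoImplicit false
open CategoryTheory CategoryTheory.Limits
universe u
open CohSite

namespace Groth.Agent.S8568

/-- Let F be a cosimplicial abelian sheaf on a small site. The right derived functors of the limit over
the simplex category (this limit functor is the direct image of the augmentation of the constant
simplicial topos) are computed by the cochain complex n ↦ F([n]) whose differential is the
alternating sum of the cofaces: for every n, R^n lim F is isomorphic to the n-th cohomology sheaf of
that complex. (Existence of an isomorphism only. The two instance hypotheses, enough injectives for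
cosimplicial sheaves and additivity of the limit functor, always hold. The published statement is
for bounded below complexes of modules over a ringed topos and a small indexing category equipped
with a resolution of the constant integers in its additive envelope; this row is the simplicial
case, for one abelian sheaf placed in degree zero.) -/
theorem result {C : Type u} [SmallCategory C] (J : GrothendieckTopology C)
    [EnoughInjectives (SimplexCategory ⥤ Sheaf J AddCommGrpCat.{u})]
    [(lim : (SimplexCategory ⥤ Sheaf J AddCommGrpCat.{u}) ⥤ Sheaf J AddCommGrpCat.{u}).Additive]
    (F : SimplexCategory ⥤ Sheaf J AddCommGrpCat.{u}) (n : ℕ) :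
    Nonempty (((lim : (SimplexCategory ⥤ Sheaf J AddCommGrpCat.{u}) ⥤ Sheaf J AddCommGrpCat.{u}).rightDerived n).obj F ≅
      ((AlgebraicTopology.alternatingCofaceMapComplex (Sheaf J AddCommGrpCat.{u})).obj F).homology n) := by
  haveI : ∀ T : Type, HasProductsOfShape T (Sheaf J AddCommGrpCat.{u}) := fun T => inferInstance
  obtain ⟨e⟩ := Groth.Agent.SiteBase.DerivedLimSimplex.nonempty_rightDerived_iso (B := Sheaf J AddCommGrpCat.{u}) n
  exact ⟨e.app F⟩


end Groth.Agent.S8568
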