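import Groth.Statements.S8573
import Groth.Agent.BigDescentSS.Ph

set_option autoImplicit false
open CategoryTheory CategoryTheory.Limits AlgebraicGeometry
universe u
open EtDesc

namespace Groth.Agent.S8573

/-- Let f : X → Y be a proper surjective morphism of schemes and F a torsion abelian sheaf on the small
etale site of Y. Then f is of universal cohomological descent for torsion sheaves, and the descent
spectral sequence reads, in existence form: there is a bounded spectral sequence of abelian groups
starting at page one with E_1^{p,q} isomorphic, for p, q ≥ 0, to the etale cohomology group H^q(X_p,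
F|X_p), where X_p is the (p+1)-fold fibre product of X over Y and F|X_p the inverse image of F along
its projection to Y, and zero otherwise, together with abutment data whose filtrations are finite on
H^n(Y_et, F) for n ≥ 0 (zero for n < 0). (The E_1 identifications and the abutment isomorphisms are
asserted to exist only; the differentials are not part of this statement. The published statement is
descent for sheaves of Z/n-modules, n ≥ 1, and, for f viewed among quasi-compact quasi-separated
morphisms, for torsion abelian sheaves; this row takes a torsion abelian sheaf.) -/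
theorem result {X Y : Scheme.{u}} (f : X ⟶ Y) [IsProper f] [Surjective f]
    (F : EtCoh.Ab Y) (hF : EtCoh.IsTorsion F) :
    ∃ (E : CohomologicalSpectralSequence AddCommGrpCat.{u + 1} 1)
      (a : SpSeq.Abutment E (fun n : ℤ =>
        if 0 ≤ n then AddCommGrpCat.of (EtCoh.H Y F n.toNat) else AddCommGrpCat.of PUnit.{u + 2})),
      (∀ n, a.IsFinite n) ∧ SpSeq.IsBounded E ∧
      ∀ p q : ℤ, Nonempty ((E.page 1 le_rfl).X (p, q) ≅
        (if 0 ≤ p ∧ 0 ≤ q then
          AddCommGrpCat.of (EtCoh.H (widePullback Y (fun _ : Fin (p.toNat + 1) => X) (fun _ => f))
            ((EtCoh.pull (WidePullback.base (fun _ : Fin (p.toNat + 1) => f) :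
              widePullback Y (fun _ : Fin (p.toNat + 1) => X) (fun _ => f) ⟶ Y)).obj F) q.toNat)
         else AddCommGrpCat.of PUnit.{u + 2})) := by
  open Groth.Agent.BigDescentSS in
  open Groth.Agent.BigSiteLib Groth.Agent.GabberAff13.BigDesc in
  haveI : ∀ S : Scheme.{u}, BigSite.AEtCont HTop.phPrecoverage.{u} S :=
    fun S => BigSite.aEtCont_of_le etale_le_ph S
  open Groth.Agent.BigDescentSS in
  open Groth.Agent.BigSiteLib Groth.Agent.GabberAff13.BigDesc in
  exact exists_ss HTop.phPrecoverage f (piK refinedByV_ph F)
    (fun I hI => by haveI := hI; exact rowExact_of_covering f _ (aug_mem_ph f) I)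
    (fun n => AddCommGrpCat.of (EtCoh.H Y F n)) (fun n => HU_ph_top_iso n F hF)
    (fun p q => AddCommGrpCat.of (EtCoh.H (powX f p) ((EtCoh.pull (powG f p)).obj F) q))
    (fun p q => HU_ph_iso (powG f p) q F hF)

end Groth.Agent.S8573
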