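import Groth.Statements.S8578
import Groth.Agent.BigDescentSS.Hyper

set_option autoImplicit false
open CategoryTheory CategoryTheory.Limits AlgebraicGeometry Opposite
universe u
open EtDesc

namespace Groth.Agent.S8578

/-- In the setting of schemes, proper surjective morphisms and torsion etale sheaves, let Y be a scheme
and K a simplicial object of schemes over Y which is a proper hypercovering: K_0 → Y and, for every
n, the canonical morphism K_{n+1} → (cosk_n K)_{n+1} (n-coskeleton computed in schemes over Y,
assumed to exist as a right Kan extension) are proper and surjective. Then K is of cohomological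
descent over Y for torsion sheaves, and the descent spectral sequence reads, in existence form: for
every torsion abelian sheaf F on the small etale site of Y there is a bounded spectral sequence of
abelian groups starting at page one with E_1^{p,q} isomorphic, for p, q ≥ 0, to H^q_et(K_p, F|K_p)
(inverse image along K_p → Y) and zero otherwise, together with abutment data whose filtrations are
finite on H^n(Y_et, F) for n ≥ 0 (zero for n < 0). (The E_1 identifications and the abutment
isomorphisms are asserted to exist only; the differentials are not part of this statement.) -/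
theorem result {Y : Scheme.{u}}
    [∀ (n : ℕ) (G : (SimplexCategory.Truncated n)ᵒᵖ ⥤ Over Y),
      (SimplexCategory.Truncated.inclusion n).op.HasRightKanExtension G]
    (K : SimplicialObject (Over Y))
    [IsProper (K.obj (op (SimplexCategory.mk 0))).hom] [Surjective (K.obj (op (SimplexCategory.mk 0))).hom]
    (hK : ∀ n : ℕ, IsProper (((SimplicialObject.coskAdj n).unit.app K).app (op (SimplexCategory.mk (n + 1)))).left ∧
      Surjective (((SimplicialObject.coskAdj n).unit.app K).app (op (SimplexCategory.mk (n + 1)))).left)
    (F : EtCoh.Ab Y) (hF : EtCoh.IsTorsion F) :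
    ∃ (E : CohomologicalSpectralSequence AddCommGrpCat.{u + 1} 1)
      (a : SpSeq.Abutment E (fun n : ℤ =>
        if 0 ≤ n then AddCommGrpCat.of (EtCoh.H Y F n.toNat) else AddCommGrpCat.of PUnit.{u + 2})),
      (∀ n, a.IsFinite n) ∧ SpSeq.IsBounded E ∧
      ∀ p q : ℤ, Nonempty ((E.page 1 le_rfl).X (p, q) ≅
        (if 0 ≤ p ∧ 0 ≤ q then
          AddCommGrpCat.of (EtCoh.H (K.obj (op (SimplexCategory.mk p.toNat))).left
            ((EtCoh.pull (K.obj (op (SimplexCategory.mk p.toNat))).hom).obj F) q.toNat)
         else AddCommGrpCat.of PUnit.{u + 2})) := by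
  open Groth.Agent.BigSiteLib Groth.Agent.GabberAff13.BigDesc in
  haveI : ∀ S : Scheme.{u}, BigSite.AEtCont HTop.phPrecoverage.{u} S :=
    fun S => BigSite.aEtCont_of_le etale_le_ph S
  open Groth.Agent.BigDescentSS in
  open Groth.Agent.BigSiteLib Groth.Agent.GabberAff13.BigDesc in
  exact exists_ss_simplicial K HTop.phPrecoverage (piK refinedByV_ph F)
    (fun I hI => by
      haveI := hI
      exact rowExact_of_hypercovering K _ (fun U => exists_lift_zero K U)
        (fun n => by haveI := (hK n).1; haveI := (hK n).2; exact fillsBig_of_proper K n) I)
    (fun n => AddCommGrpCat.of (EtCoh.H Y F n)) (fun n => HU_ph_top_iso n F hF)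
    (fun p q => AddCommGrpCat.of (EtCoh.H (K.obj (op (SimplexCategory.mk p))).left
      ((EtCoh.pull (K.obj (op (SimplexCategory.mk p))).hom).obj F) q))
    (fun p q => HU_ph_iso (K.obj (op (SimplexCategory.mk p))).hom q F hF)

end Groth.Agent.S8578
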