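import Groth.Statements.S8586
import Mathlib

set_option autoImplicit false
universe u
open CAlg

namespace Groth.Agent.S8586
def Valid {A : Type u} [CommRing A] [IsLocalRing A] (I : Ideal A) {r : ℕ} (w : Fin r → A) : Prop :=
  (∀ i, w i ∈ IsLocalRing.maximalIdeal A) ∧
    IsLocalRing.maximalIdeal A ≤ (I ⊔ Ideal.span (Set.range w)).radical

def Step {A : Type u} [CommRing A] [IsLocalRing A] (I : Ideal A) {r : ℕ} (w w' : Fin r → A) : Prop :=
  Valid I w' ∧ ∃ i : Fin r, ∀ i', i' ≠ i → w i' = w' i'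

theorem span_cons {A : Type u} [CommRing A] {r : ℕ} (I : Ideal A) (z : A) (t : Fin r → A) :
    I ⊔ Ideal.span (Set.range (Fin.cons z t : Fin (r + 1) → A)) =
      (I ⊔ Ideal.span {z}) ⊔ Ideal.span (Set.range t) := by
  rw [Fin.range_cons, Ideal.span_insert, sup_assoc]

theorem exists_common {A : Type u} [CommRing A] [IsLocalRing A] [IsNoetherianRing A]
    (J J' : Ideal A) (a a' : A) (ha : a ∈ IsLocalRing.maximalIdeal A)
    (hJ : J ≤ IsLocalRing.maximalIdeal A) (hJ' : J' ≤ IsLocalRing.maximalIdeal A)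
    (ha' : a' ∈ IsLocalRing.maximalIdeal A)
    (h : IsLocalRing.maximalIdeal A ≤ (J ⊔ Ideal.span {a}).radical)
    (h' : IsLocalRing.maximalIdeal A ≤ (J' ⊔ Ideal.span {a'}).radical) :
    ∃ z ∈ IsLocalRing.maximalIdeal A, IsLocalRing.maximalIdeal A ≤ (J ⊔ Ideal.span {z}).radical ∧
      IsLocalRing.maximalIdeal A ≤ (J' ⊔ Ideal.span {z}).radical := by
  classical
  let m := IsLocalRing.maximalIdeal A
  have hfin : {P : Ideal A | (P ∈ J.minimalPrimes ∨ P ∈ J'.minimalPrimes) ∧ P ≠ m}.Finite :=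
    ((J.finite_minimalPrimes_of_isNoetherianRing A).union
      (J'.finite_minimalPrimes_of_isNoetherianRing A)).subset fun P hP => hP.1
  have hprime : ∀ P ∈ hfin.toFinset, P.IsPrime := fun P hP => by
    rcases (hfin.mem_toFinset.1 hP).1 with h | h <;> exact h.1.1
  obtain ⟨z, hzm, hz⟩ : ∃ z ∈ m, ∀ P ∈ hfin.toFinset, z ∉ P := by
    by_contra hcon
    push Not at hcon
    have hsub : (m : Set A) ⊆ ⋃ P ∈ (hfin.toFinset : Set (Ideal A)), (P : Set A) := by
      intro b hb
      obtain ⟨P, hP, hbP⟩ := hcon b hb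
      exact Set.mem_biUnion (by simpa using hP) hbP
    obtain ⟨P, hP, hle⟩ := (Ideal.subset_union_prime (f := fun P : Ideal A => P) ⊥ ⊥
      (fun P hP _ _ => hprime P hP)).1 hsub
    haveI := hprime P hP
    exact (hfin.mem_toFinset.1 hP).2 ((IsLocalRing.le_maximalIdeal Ideal.IsPrime.ne_top').antisymm hle)
  have key : ∀ (K : Ideal A) (c : A), c ∈ m → K ≤ m → m ≤ (K ⊔ Ideal.span {c}).radical →
      (∀ P ∈ K.minimalPrimes, P ≠ m → z ∉ P) → m ≤ (K ⊔ Ideal.span {z}).radical := by
    intro K c hc hK hKc hzK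
    rw [Ideal.radical_eq_sInf]
    refine le_sInf fun Q hQ => ?_
    obtain ⟨hKQ, hQp⟩ := hQ
    haveI := hQp
    obtain ⟨P, hP, hPQ⟩ := Ideal.exists_minimalPrimes_le (le_sup_left.trans hKQ)
    by_cases hPm : P = m
    · exact hPm ▸ hPQ
    haveI := hP.1.1
    by_contra hQm
    have hzQ : z ∈ Q := hKQ (Ideal.mem_sup_right (Ideal.mem_span_singleton_self z))
    have hlt : P < Q := lt_of_le_of_ne hPQ fun hh => hzK P hP hPm (hh ▸ hzQ)
    have hQlt : Q < m := lt_of_le_not_ge (IsLocalRing.le_maximalIdeal Ideal.IsPrime.ne_top') hQm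
    let π := Ideal.Quotient.mk P
    have hker : RingHom.ker π = P := Ideal.mk_ker
    haveI : (Q.map π).IsPrime := Ideal.map_isPrime_of_surjective Ideal.Quotient.mk_surjective (hker.le.trans hPQ)
    haveI : (m.map π).IsPrime := Ideal.map_isPrime_of_surjective Ideal.Quotient.mk_surjective
      (hker.le.trans (hlt.le.trans hQlt.le))
    have hback : ∀ T : Ideal A, P ≤ T → (T.map π).comap π = T := fun T hT => by
      rw [Ideal.comap_map_of_surjective' π Ideal.Quotient.mk_surjective, hker, sup_eq_left.2 hT]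
    have h1 : (⊥ : Ideal (A ⧸ P)) < Q.map π := bot_lt_iff_ne_bot.2 fun hh => by
      have := hback Q hPQ
      rw [hh, ← RingHom.ker_eq_comap_bot, hker] at this
      exact hlt.ne this
    have h2 : Q.map π < m.map π := lt_of_le_of_ne (Ideal.map_mono hQlt.le) fun hh => by
      have := congrArg (Ideal.comap π) hh
      rw [hback Q hPQ, hback m (hlt.le.trans hQlt.le)] at this
      exact hQlt.ne this
    have hmin : m.map π ∈ (Ideal.span ({π c} : Set (A ⧸ P))).minimalPrimes := by
      refine ⟨⟨inferInstance, by rw [Ideal.span_singleton_le_iff_mem]; exact Ideal.mem_map_of_mem π hc⟩,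
        fun T hT _ => ?_⟩
      haveI := hT.1
      haveI : (T.comap π).IsPrime := Ideal.comap_isPrime _ _
      have hle : m ≤ T.comap π := by
        refine hKc.trans ((Ideal.IsPrime.radical_le_iff inferInstance).2 (sup_le ?_ ?_))
        · exact hP.1.2.trans fun x hx => by
            rw [Ideal.mem_comap, Ideal.Quotient.eq_zero_iff_mem.2 hx]; exact zero_mem _
        · rw [Ideal.span_singleton_le_iff_mem, Ideal.mem_comap]
          exact hT.2 (Ideal.mem_span_singleton_self _)
      exact Ideal.map_le_iff_le_comap.2 hle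
    have hh1 := Ideal.height_le_one_of_isPrincipal_of_mem_minimalPrimes (Ideal.span {π c}) (m.map π) hmin
    have hh2 := Ideal.height_strict_mono_of_isPrime_of_isPrime h1
    have hh3 := Ideal.height_strict_mono_of_isPrime_of_isPrime h2
    have : (Q.map π).height = 0 := Order.lt_one_iff.1 (hh3.trans_le hh1)
    rw [this] at hh2
    exact not_lt_zero hh2
  exact ⟨z, hzm, key J a ha hJ h fun P hP hPm => hz P (hfin.mem_toFinset.2 ⟨Or.inl hP, hPm⟩),
    key J' a' ha' hJ' h' fun P hP hPm => hz P (hfin.mem_toFinset.2 ⟨Or.inr hP, hPm⟩)⟩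

theorem chain_exists {A : Type u} [CommRing A] [IsLocalRing A] [IsNoetherianRing A] :
    ∀ (r : ℕ) (I : Ideal A), I ≤ IsLocalRing.maximalIdeal A → ∀ u v : Fin r → A,
      Valid I u → Valid I v → Relation.ReflTransGen (Step I) u v := by
  intro r
  induction r with
  | zero =>
    intro I _ u v _ _
    rw [Subsingleton.elim u v]
  | succ r ih =>
    intro I hI u v hu hv
    obtain ⟨u0, u', rfl⟩ : ∃ a t, u = Fin.cons a t := ⟨u 0, Fin.tail u, (Fin.cons_self_tail u).symm⟩
    obtain ⟨v0, v', rfl⟩ : ∃ a t, v = Fin.cons a t := ⟨v 0, Fin.tail v, (Fin.cons_self_tail v).symm⟩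
    have htail : ∀ (a : A) (t : Fin r → A), Valid I (Fin.cons a t : Fin (r + 1) → A) →
        ∀ i, t i ∈ IsLocalRing.maximalIdeal A := fun a t h i => by
      simpa using h.1 i.succ
    have hle : ∀ (a : A) (t : Fin r → A), Valid I (Fin.cons a t : Fin (r + 1) → A) →
        I ⊔ Ideal.span (Set.range t) ≤ IsLocalRing.maximalIdeal A := fun a t h =>
      sup_le hI (Ideal.span_le.2 (by rintro _ ⟨i, rfl⟩; exact htail a t h i))
    have hu0 : u0 ∈ IsLocalRing.maximalIdeal A := by simpa using hu.1 0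
    have hv0 : v0 ∈ IsLocalRing.maximalIdeal A := by simpa using hv.1 0
    have hsu := hu.2
    have hsv := hv.2
    rw [span_cons, sup_right_comm] at hsu hsv
    obtain ⟨z, hz, hzu, hzv⟩ := exists_common _ _ u0 v0 hu0 (hle _ _ hu) (hle _ _ hv) hv0 hsu hsv
    rw [sup_right_comm] at hzu hzv
    have hval : ∀ t : Fin r → A, Valid (I ⊔ Ideal.span {z}) t →
        Valid I (Fin.cons z t : Fin (r + 1) → A) := fun t ht =>
      ⟨Fin.cases (by simpa using hz) (fun i => by simpa using ht.1 i), by rw [span_cons]; exact ht.2⟩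
    have hu1 : Valid (I ⊔ Ideal.span {z}) u' := ⟨htail _ _ hu, hzu⟩
    have hv1 : Valid (I ⊔ Ideal.span {z}) v' := ⟨htail _ _ hv, hzv⟩
    have hmid := (ih (I ⊔ Ideal.span {z}) (sup_le hI ((Ideal.span_singleton_le_iff_mem _).2 hz))
      u' v' hu1 hv1).lift (p := Step I) (fun t => (Fin.cons z t : Fin (r + 1) → A)) (by
        rintro a b ⟨hb, i, hi⟩
        refine ⟨hval b hb, i.succ, Fin.cases (fun _ => by simp) fun j hj => ?_⟩
        simpa using hi j fun hji => hj (congrArg Fin.succ hji))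
    refine ((Relation.ReflTransGen.single ?_).trans hmid).trans (Relation.ReflTransGen.single ?_)
    · exact ⟨hval u' hu1, 0, Fin.cases (fun h => absurd rfl h) fun j _ => by simp⟩
    · exact ⟨hv, 0, Fin.cases (fun h => absurd rfl h) fun j _ => by simp⟩



/-- Suppose A is a Cohen–Macaulay local ring whose Krull dimension is d, and consider two systems of
parameters u = (u_1, ..., u_d) and v = (v_1, ..., v_d) of A (that is, d-tuples of elements of the
maximal ideal m such that the ideal they generate has radical m). Then one can find a finite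
sequence w_0 = u, w_1, ..., w_m = v, each term a system of parameters of A, where w_{k+1} arises
from w_k by altering just one coordinate. -/
theorem result (A : Type u) [CommRing A] [LocCoh.IsCohenMacaulayLocalRing A]
    (d : ℕ) (hd : ringKrullDim A = d) (u v : Fin d → A)
    (hu : ∀ i, u i ∈ IsLocalRing.maximalIdeal A) (hu' : IsLocalRing.maximalIdeal A ≤ (Ideal.span (Set.range u)).radical)
    (hv : ∀ i, v i ∈ IsLocalRing.maximalIdeal A) (hv' : IsLocalRing.maximalIdeal A ≤ (Ideal.span (Set.range v)).radical) :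
    ∃ (m : ℕ) (w : Fin (m + 1) → Fin d → A), w 0 = u ∧ w (Fin.last m) = v ∧
      (∀ k : Fin (m + 1), (∀ i, w k i ∈ IsLocalRing.maximalIdeal A) ∧
        IsLocalRing.maximalIdeal A ≤ (Ideal.span (Set.range (w k))).radical) ∧
      (∀ k : Fin m, ∃ i : Fin d, ∀ i' : Fin d, i' ≠ i → w k.castSucc i' = w k.succ i') := by
  have hbot : (⊥ : Ideal A) ≤ IsLocalRing.maximalIdeal A := bot_le
  have hval : ∀ t : Fin d → A, Valid ⊥ t ↔ (∀ i, t i ∈ IsLocalRing.maximalIdeal A) ∧
      IsLocalRing.maximalIdeal A ≤ (Ideal.span (Set.range t)).radical := fun t => by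
    simp [Valid]
  have hu0 : Valid ⊥ u := (hval u).2 ⟨hu, hu'⟩
  have H := chain_exists d ⊥ hbot u v hu0 ((hval v).2 ⟨hv, hv'⟩)
  clear hv hv'
  induction H with
  | refl =>
    exact ⟨0, fun _ => u, rfl, rfl, fun _ => ⟨hu, hu'⟩, fun k => k.elim0⟩
  | @tail b c _ hstep ih =>
    obtain ⟨m, w, hw0, hwlast, hwv, hwstep⟩ := ih
    obtain ⟨hc, i, hi⟩ := hstep
    refine ⟨m + 1, Fin.snoc w c, ?_, Fin.snoc_last _ _, Fin.lastCases ?_ ?_, Fin.lastCases ?_ ?_⟩
    · rw [show (0 : Fin (m + 1 + 1)) = Fin.castSucc 0 from rfl, Fin.snoc_castSucc, hw0]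
    · rw [Fin.snoc_last]; exact (hval c).1 hc
    · intro k; rw [Fin.snoc_castSucc]; exact hwv k
    · refine ⟨i, fun i' hi' => ?_⟩
      rw [Fin.snoc_castSucc, Fin.succ_last, Fin.snoc_last, hwlast]
      exact hi i' hi'
    · intro k
      obtain ⟨j, hj⟩ := hwstep k
      refine ⟨j, fun i' hi' => ?_⟩
      rw [Fin.snoc_castSucc, ← Fin.castSucc_succ, Fin.snoc_castSucc]
      exact hj i' hi'


end Groth.Agent.S8586
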