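import Groth.Statements.S8591
import Mathlib

set_option autoImplicit false
universe u
open CAlg

namespace Groth.Agent.S8591
universe w

theorem map_det_aeval {ν : Type*} [Fintype ν] [DecidableEq ν] {R S : Type*} [CommRing R]
    [CommRing S] (f : R →+* S) (C : Matrix ν ν R) (Q : Polynomial R) :
    f (Polynomial.aeval C Q).det = (Polynomial.aeval (f.mapMatrix C) (Q.map f)).det := by
  rw [RingHom.map_det, Polynomial.aeval_def, Polynomial.aeval_def, Polynomial.eval₂_map,
    Polynomial.hom_eval₂]
  congr 2
  ext r i j
  simp [Matrix.algebraMap_matrix_apply, apply_ite f]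

theorem det_aeval_X_sub_C {ν : Type*} [Fintype ν] [DecidableEq ν] {R : Type*} [CommRing R]
    (C : Matrix ν ν R) (b : R) :
    (Polynomial.aeval C (Polynomial.X - Polynomial.C b)).det =
      (-1) ^ Fintype.card ν * C.charpoly.eval b := by
  rw [Matrix.eval_charpoly, map_sub, Polynomial.aeval_X, Polynomial.aeval_C,
    ← neg_sub, Matrix.det_neg]
  rfl

theorem det_aeval_eq_of_charpoly {ι κ : Type*} [Fintype ι] [DecidableEq ι] [Fintype κ] [DecidableEq κ]
    (hcard : Fintype.card ι = Fintype.card κ) (n : ℕ) :
    ∀ {R : Type w} [CommRing R] (A : Matrix ι ι R) (B : Matrix κ κ R),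
      A.charpoly = B.charpoly → ∀ Q : Polynomial R, Q.Monic → Q.natDegree = n →
      (Polynomial.aeval A Q).det = (Polynomial.aeval B Q).det := by
  induction n with
  | zero =>
    intro R _ A B _ Q hQ hdeg
    simp [hQ.natDegree_eq_zero.1 hdeg]
  | succ n ih =>
    intro R _ A B hAB Q hQ hdeg
    rcases subsingleton_or_nontrivial R with hsub | hnt
    · exact Subsingleton.elim _ _
    let f : R →+* AdjoinRoot Q := AdjoinRoot.of Q
    have hf : Function.Injective f := by
      rw [injective_iff_map_eq_zero]
      intro a ha
      by_contra hne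
      exact hQ.not_dvd_of_natDegree_lt (mt Polynomial.C_eq_zero.1 hne)
        (by rw [Polynomial.natDegree_C, hdeg]; omega) (AdjoinRoot.mk_eq_zero.1 ha)
    have : Nontrivial (AdjoinRoot Q) := hf.nontrivial
    apply hf
    rw [map_det_aeval, map_det_aeval]
    obtain ⟨Q', hQ'⟩ : (Polynomial.X - Polynomial.C (AdjoinRoot.root Q)) ∣ Q.map f :=
      Polynomial.dvd_iff_isRoot.2 (AdjoinRoot.isRoot_root Q)
    have hQ'm : Q'.Monic :=
      (Polynomial.monic_X_sub_C _).of_mul_monic_left (hQ' ▸ hQ.map f)
    have hdeg' : Q'.natDegree = n := by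
      have := congrArg Polynomial.natDegree hQ'
      rw [(Polynomial.monic_X_sub_C _).natDegree_mul hQ'm, Polynomial.natDegree_X_sub_C,
        hQ.natDegree_map, hdeg] at this
      omega
    have hAB' : (f.mapMatrix A).charpoly = (f.mapMatrix B).charpoly := by
      simp only [RingHom.mapMatrix_apply]
      rw [Matrix.charpoly_map, Matrix.charpoly_map, hAB]
    rw [hQ', map_mul, map_mul, Matrix.det_mul, Matrix.det_mul, det_aeval_X_sub_C, det_aeval_X_sub_C, hAB', hcard,
      ih _ _ hAB' Q' hQ'm hdeg']


/-- Let k be a commutative ring, M a finite free k-module, u an endomorphism of M with characteristic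
polynomial χ, and P a polynomial over k. Then the norm, from the k-algebra k[T]/(χ) (free of rank
the rank of M) down to k, of the class of P(T) equals det(P(u)). (The published statement writes the
quotient by det(u - T), which generates the same ideal as χ(T) = det(T - u).) -/
theorem result (k : Type u) [CommRing k] (M : Type u) [AddCommGroup M] [Module k M]
    [Module.Free k M] [Module.Finite k M] (u : M →ₗ[k] M) (P : Polynomial k) :
    Algebra.norm k (AdjoinRoot.mk u.charpoly P) = LinearMap.det (Polynomial.aeval u P) := by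
  classical
  nontriviality k
  let b := Module.Free.chooseBasis k M
  have hχ : u.charpoly.Monic := u.charpoly_monic
  let pb := AdjoinRoot.powerBasis' hχ
  let A := Algebra.leftMulMatrix pb.basis (AdjoinRoot.root u.charpoly)
  let B := LinearMap.toMatrix b b u
  have hB : B.charpoly = u.charpoly := LinearMap.charpoly_toMatrix u b
  have hdim : pb.dim = u.charpoly.natDegree := AdjoinRoot.powerBasis'_dim hχ
  have hA : A.charpoly = u.charpoly := by
    have h1 : Polynomial.aeval (AdjoinRoot.root u.charpoly) A.charpoly = 0 := by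
      apply Algebra.leftMulMatrix_injective pb.basis
      rw [map_zero, ← Polynomial.aeval_algHom_apply]
      exact A.aeval_self_charpoly
    rw [AdjoinRoot.aeval_eq, AdjoinRoot.mk_eq_zero] at h1
    exact Polynomial.eq_of_monic_of_dvd_of_natDegree_le hχ A.charpoly_monic h1
      (by rw [Matrix.charpoly_natDegree_eq_dim, Fintype.card_fin, hdim])
  have hcard : Fintype.card (Fin pb.dim) = Fintype.card (Module.Free.ChooseBasisIndex k M) := by
    rw [← Matrix.charpoly_natDegree_eq_dim A, hA, ← hB, Matrix.charpoly_natDegree_eq_dim]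
  -- make `P` monic without changing either side
  let P' := P + u.charpoly * Polynomial.X ^ (P.natDegree + 1)
  have hP' : P'.Monic := by
    apply (hχ.mul (Polynomial.monic_X_pow _)).add_of_right
    rw [Polynomial.degree_eq_natDegree (hχ.mul (Polynomial.monic_X_pow _)).ne_zero,
      hχ.natDegree_mul (Polynomial.monic_X_pow _), Polynomial.natDegree_X_pow]
    exact lt_of_le_of_lt P.degree_le_natDegree (by exact_mod_cast Nat.lt_of_lt_of_le (Nat.lt_succ_self _) (Nat.le_add_left _ _))
  have h1 : AdjoinRoot.mk u.charpoly P = AdjoinRoot.mk u.charpoly P' := by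
    simp [P', AdjoinRoot.mk_self]
  have h2 : Polynomial.aeval u P = Polynomial.aeval u P' := by
    simp [P', LinearMap.aeval_self_charpoly]
  rw [h1, h2, Algebra.norm_eq_matrix_det pb.basis, ← AdjoinRoot.aeval_eq,
    ← Polynomial.aeval_algHom_apply, ← LinearMap.det_toMatrix b,
    det_aeval_eq_of_charpoly hcard P'.natDegree A B (hA.trans hB.symm) P' hP' rfl]
  congr 1
  exact Polynomial.aeval_algHom_apply (LinearMap.toMatrixAlgEquiv b).toAlgHom u P'


end Groth.Agent.S8591
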