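import Groth.Statements.S8597
import Groth.Agent.TorDimLib.Cone

set_option autoImplicit false
universe u
open CategoryTheory CategoryTheory.Limits
open CAlg

namespace Groth.Agent.S8597

/-- Case of modules placed in degree 0: let A be a commutative Noetherian ring and u : M -> N a
homomorphism of A-modules such that for every prime ideal x of A, with residue field k(x), and every
i ≥ 0, the induced map Tor_i^A(k(x), M) -> Tor_i^A(k(x), N) (left derived functors of k(x) ⊗ -) is
an isomorphism. Then u is an isomorphism. (The published statement is for a morphism of
bounded-above complexes and the derived tensor products with k(x); this is the case of two modules.) -/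
theorem result (A : Type u) [CommRing A] [IsNoetherianRing A]
    {M N : ModuleCat.{u} A} (u : M ⟶ N)
    (h : ∀ (x : Ideal A) [x.IsPrime] (i : ℕ),
      IsIso (((Tor (ModuleCat.{u} A) i).obj (ModuleCat.of A x.ResidueField)).map u)) :
    IsIso u := by
  let P : CategoryTheory.ProjectiveResolution M := CategoryTheory.ProjectiveResolution.of M
  let Q : CategoryTheory.ProjectiveResolution N := CategoryTheory.ProjectiveResolution.of N
  have hb := Groth.Agent.TorDimLib.bijective_of_cone u P Q (CategoryTheory.ProjectiveResolution.lift u P Q)
    (CategoryTheory.ProjectiveResolution.lift_commutes_zero u P Q) h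
  exact (CategoryTheory.ConcreteCategory.isIso_iff_bijective u).2 hb


end Groth.Agent.S8597
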