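import Groth.Statements.S8598
import Groth.Agent.EtFound.CounitEpi
-- import your own Groth.Agent.* helpers here

set_option autoImplicit false
universe u
open CategoryTheory CategoryTheory.Limits AlgebraicGeometry Opposite
open EtDl

namespace Groth.Agent.S8598

/-- Let u : X -> Y be an etale, separated morphism of finite type that is surjective, and F an abelian
sheaf on Y_et. The sheaves F_n = (u_n)_! u_n^* F built from the iterated fibre powers of X over Y
form a left resolution of F; in particular (the part stated here) the augmentation u_! u^* F -> F,
which is the counit of the adjunction between extension by zero u_! and restriction u^*, is an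
epimorphism. (The continuity of V ↦ (V -> X -> Y) between the small etale sites is carried as an
instance hypothesis, the prelude's convention for extension by zero along an etale morphism.) -/
theorem result {X Y : Scheme.{u}} (u : X ⟶ Y) [Etale u] [IsSeparated u]
    [LocallyOfFiniteType u] [QuasiCompact u] [Surjective u] [EtShriek.JCont u] (F : EtCoh.Ab Y) :
    Epi ((EtShriek.extZeroAdj u).counit.app F) := by
  exact (EtFound.epi_iff_stalks _).2 fun Ω _ _ ξ =>
    EtFound.counit_stalk_surjective u F ξ (u.surjective _)

end Groth.Agent.S8598
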