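import Groth.Statements.S8603
import Mathlib

set_option autoImplicit false
universe u
open CategoryTheory CategoryTheory.Limits AlgebraicGeometry Opposite
open DEt

namespace Groth.Agent.S8603

/-- The domination half of 'the category of compactifications of f is cofiltering': let f : X -> Y be a
morphism of quasi-compact quasi-separated schemes and let (Xbar_1, j_1, fbar_1), (Xbar_2, j_2,
fbar_2) be two compactifications of f (j_i : X -> Xbar_i open immersions, fbar_i : Xbar_i -> Y
proper, fbar_i ∘ j_i = f). Then there are a compactification (Xbar, j, fbar) of f and proper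
morphisms p_i : Xbar -> Xbar_i (i = 1, 2) with p_i ∘ j = j_i and fbar_i ∘ p_i = fbar, i.e. a
compactification mapping to both by morphisms of compactifications. (The published statement also
includes the equalizing axiom: two morphisms of compactifications are equalized by a third; only
domination is stated here.) -/
theorem result {X Y : Scheme.{u}} [CompactSpace ↥X] [QuasiSeparatedSpace ↥X]
    [CompactSpace ↥Y] [QuasiSeparatedSpace ↥Y] {f : X ⟶ Y} (c₁ c₂ : DEt.Compactification f) :
    ∃ (c : DEt.Compactification f) (p₁ : c.Xbar ⟶ c₁.Xbar) (p₂ : c.Xbar ⟶ c₂.Xbar),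
      IsProper p₁ ∧ IsProper p₂ ∧ c.j ≫ p₁ = c₁.j ∧ c.j ≫ p₂ = c₂.j ∧
        p₁ ≫ c₁.fbar = c.fbar ∧ p₂ ≫ c₂.fbar = c.fbar := by
  let P : Scheme.{u} := pullback c₁.fbar c₂.fbar
  let p : P ⟶ c₁.Xbar := pullback.fst _ _
  let q : P ⟶ c₂.Xbar := pullback.snd _ _
  let h : X ⟶ P := pullback.lift c₁.j c₂.j (by rw [c₁.fac, c₂.fac])
  have hp : h ≫ p = c₁.j := pullback.lift_fst _ _ _
  have hq : h ≫ q = c₂.j := pullback.lift_snd _ _ _
  have : IsImmersion (h ≫ p) := hp.symm ▸ inferInstance
  have : IsImmersion h := IsImmersion.of_comp h p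
  have : IsProper (p ≫ c₁.fbar) := inferInstance
  have : QuasiSeparatedSpace P := quasiSeparatedSpace_of_quasiSeparated (p ≫ c₁.fbar)
  have : QuasiCompact h := inferInstance
  have hI : h.toImage ≫ h.imageι = h := h.toImage_imageι
  refine ⟨⟨h.image, h.toImage, h.imageι ≫ p ≫ c₁.fbar, inferInstance, inferInstance, ?_⟩,
    h.imageι ≫ p, h.imageι ≫ q, inferInstance, inferInstance, ?_, ?_, by simp, ?_⟩
  · rw [reassoc_of% hI, reassoc_of% hp, c₁.fac]
  · rw [reassoc_of% hI, hp]
  · rw [reassoc_of% hI, hq]
  · simp only [Category.assoc, p, q, pullback.condition]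


end Groth.Agent.S8603
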