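import Groth.Statements.S8604
import Mathlib
import Groth.Agent.SigmaLinLib.Basic
import Groth.Agent.SigmaLinLib.AlgClosed

set_option autoImplicit false
universe u
open CAlg

namespace Groth.Agent.S8604
lemma int_of_pow_eq (p : ℕ) [Fact p.Prime] {k : Type*} [Field k] [CharP k p] {x : k} (hx : x ^ p = x) :
    ∃ n : ℤ, (n : k) = x := by
  have := (Subfield.mem_bot_iff_pow_eq_self k p).2 hx
  rw [← ZMod.fieldRange_castHom_eq_bot p] at this
  obtain ⟨z, rfl⟩ := RingHom.mem_fieldRange.1 this
  obtain ⟨n, rfl⟩ := ZMod.intCast_surjective z
  exact ⟨n, by simp⟩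


/-- Over an algebraically closed field: let k be an algebraically closed field of characteristic p > 0,
V a finite-dimensional k-vector space and F : V -> V a p-linear endomorphism (additive with F(a·v) =
a^p·F(v)). Let V^F be the set of vectors fixed by F (an F_p-subspace), V_0 the k-span of V^F and V_n
the k-span of the vectors killed by some iterate of F (these already form an F-stable subspace on
which F is nilpotent). Then V = V_0 ⊕ V_n, and V^F ⊗ k -> V_0 is bijective in the sense that any
finitely many F-fixed vectors linearly independent over Z/p (every vanishing integer combination has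
all coefficients divisible by p) are linearly independent over k. (The published statement asserts
this decomposition, with V^F ⊗ k ≅ V_0, for every PERFECT field k; that is false when k is not
separably closed — for k = Z/3, V = k and F = multiplication by 2 there are no nonzero fixed vectors
although F is bijective — and the decomposition is stated here over an algebraically closed field,
the case in which it holds.) -/
theorem result (p : ℕ) [Fact p.Prime] (k : Type u) [Field k]
    [IsAlgClosed k] [CharP k p] (V : Type u) [AddCommGroup V] [Module k V] [FiniteDimensional k V]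
    (F : V →+ V) (hF : ∀ (a : k) (v : V), F (a • v) = a ^ p • F v) :
    IsCompl (Submodule.span k {v : V | F v = v})
        (Submodule.span k {v : V | ∃ m : ℕ, (⇑F)^[m] v = 0}) ∧
      ∀ (s : Finset V), (∀ v ∈ s, F v = v) →
        (∀ c : s → ℤ, (∑ v : s, c v • (v : V)) = 0 → ∀ v : s, (p : ℤ) ∣ c v) →
          LinearIndependent k (fun v : s => (v : V)) := by
  classical
  let T : V →ₛₗ[frobenius k p] V :=
    { toFun := F, map_add' := F.map_add, map_smul' := fun a v => hF a v }
  have hσ : Function.Surjective (frobenius k p) := surjective_frobenius k p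
  have h2 := SigmaLinLib.frob_fixed_eq (k := k) p
  have h3 := SigmaLinLib.frob_sub_eq (k := k) p
  refine ⟨⟨?_, ?_⟩, ?_⟩
  · rw [Submodule.disjoint_def]
    intro v hv hv'
    have hW : v ∈ ⨅ i, SigmaLinLib.im T i := by
      refine (Submodule.span_le.2 ?_) hv
      intro w (hw : F w = w)
      simp only [SetLike.mem_coe, Submodule.mem_iInf]
      intro i
      exact Submodule.subset_span ⟨w, Function.iterate_fixed (f := ⇑T) hw i⟩
    obtain ⟨n, hn⟩ : ∃ n, (⇑T)^[n] v = 0 := by
      obtain ⟨N, hN⟩ := SigmaLinLib.kerIter_stable T
      exact ⟨N, (Submodule.span_le (p := SigmaLinLib.kerIter T N)).2 (fun w hw => hN w hw) hv'⟩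
    exact SigmaLinLib.eq_zero_of_mem_stable T hW hn
  · rw [codisjoint_iff, eq_top_iff]
    intro v _
    obtain ⟨w, z, rfl, hw, hz⟩ := SigmaLinLib.exists_split T hσ v
    refine Submodule.add_mem _ (Submodule.mem_sup_right (Submodule.subset_span hw))
      (Submodule.mem_sup_left ?_)
    let W := ⨅ i, SigmaLinLib.im T i
    let R := SigmaLinLib.res T W fun _ => SigmaLinLib.map_mem_stable T
    have htop : Submodule.span k {u : W | R u = u} = ⊤ :=
      SigmaLinLib.span_fixed_eq_top R (SigmaLinLib.span_range_res_stable T) h2 h3
    have hmem : (⟨z, hz⟩ : W) ∈ Submodule.span k {u : W | R u = u} := htop ▸ Submodule.mem_top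
    refine (Submodule.span_le (p := (Submodule.span k {v : V | F v = v}).comap W.subtype)).2 ?_ hmem
    intro u hu
    exact Submodule.subset_span (congrArg Subtype.val hu : F u.1 = u.1)
  · intro s
    induction s using Finset.induction with
    | empty => exact fun _ _ => linearIndependent_empty_type
    | insert a s ha ih =>
      intro hs hind
      have ih' : LinearIndepOn k id (s : Set V) := by
        refine ih (fun v hv => hs v (Finset.mem_insert_of_mem hv)) fun c hc v => ?_
        let c' : (↥(insert a s)) → ℤ := fun w => if h : (w : V) ∈ s then c ⟨w, h⟩ else 0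
        have hsum : ∑ w : ↥(insert a s), c' w • (w : V) = 0 := by
          let g : V → V := fun w => if h : w ∈ s then c ⟨w, h⟩ • w else 0
          have : ∀ w : ↥(insert a s), c' w • (w : V) = g w := fun w => by
            simp only [c', g]; split_ifs <;> simp
          simp only [this]
          rw [Finset.sum_coe_sort _ g, Finset.sum_insert ha, ← Finset.sum_coe_sort s g]
          simpa [g, ha] using hc
        have := hind c' hsum ⟨v, Finset.mem_insert_of_mem v.2⟩
        simpa [c'] using this
      show LinearIndepOn k id ((insert a s : Finset V) : Set V)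
      rw [Finset.coe_insert, linearIndepOn_id_insert (by simpa using ha)]
      refine ⟨ih', fun hspan => ?_⟩
      obtain ⟨c, -, hc⟩ := Submodule.mem_span_finset.1 hspan
      have hfix : ∀ x ∈ s, (c x) ^ p = c x := by
        have h0 : ∑ x ∈ s, ((c x) ^ p - c x) • x = 0 := by
          have e := congrArg F hc
          rw [map_sum, hs a (Finset.mem_insert_self _ _), ← hc] at e
          simp only [sub_smul, Finset.sum_sub_distrib, sub_eq_zero]
          refine Eq.trans (Finset.sum_congr rfl fun x hx => ?_) e
          rw [hF, hs x (Finset.mem_insert_of_mem hx)]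
        exact fun x hx => sub_eq_zero.1 (linearIndepOn_finset_iff.1 ih' _ h0 x hx)
      choose n hn using fun x : ↥s => int_of_pow_eq p (hfix x x.2)
      let c' : (↥(insert a s)) → ℤ := fun w => if h : (w : V) ∈ s then n ⟨w, h⟩ else -1
      have hsum : ∑ w : ↥(insert a s), c' w • (w : V) = 0 := by
        let g : V → V := fun w => if h : w ∈ s then n ⟨w, h⟩ • w else (-1 : ℤ) • w
        have : ∀ w : ↥(insert a s), c' w • (w : V) = g w := fun w => by
          simp only [c', g]; split_ifs <;> rfl
        simp only [this]
        rw [Finset.sum_coe_sort _ g, Finset.sum_insert ha]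
        have h1 : ∑ x ∈ s, g x = a := by
          rw [← hc]
          refine Finset.sum_congr rfl fun x hx => ?_
          simp only [g, dif_pos hx]
          rw [← hn ⟨x, hx⟩, Int.cast_smul_eq_zsmul]
        rw [h1]; simp [g, ha]
      have hdvd := hind c' hsum ⟨a, Finset.mem_insert_self _ _⟩
      simp only [c', dif_neg ha, dvd_neg] at hdvd
      exact (Fact.out : p.Prime).one_lt.ne' (by exact_mod_cast Int.eq_one_of_dvd_one (by omega) hdvd)


end Groth.Agent.S8604
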