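import Groth.Statements.S8605
import Groth.Agent.S3110
import Groth.Agent.EtFound.ExtZeroExact
import Groth.Agent.CdFin.Devissage
-- import your own Groth.Agent.* helpers here

set_option autoImplicit false
universe u
open CategoryTheory CategoryTheory.Limits AlgebraicGeometry Opposite
open EtDl

namespace Groth.Agent.S8605
open Groth.Agent
set_option backward.isDefEq.respectTransparency.types false

/-- Let f : X -> S be a morphism of quasi-compact quasi-separated schemes with a compactification c (f =
j followed by the proper fbar), all of whose fibres have dimension at most d. Then the functor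
R^{2d} f_!, computed through c as F ↦ R^{2d} fbar_* (j_! F), is right exact on torsion abelian
sheaves; stated here as: for every epimorphism φ : F -> G of torsion abelian sheaves on X_et, the
map R^{2d} fbar_*(j_! φ) is an epimorphism. (The published statement also asserts that R^i f_! F
vanishes for i > 2d.) -/
theorem result {X S : Scheme.{u}} [CompactSpace ↥X] [QuasiSeparatedSpace ↥X]
    [CompactSpace ↥S] [QuasiSeparatedSpace ↥S]
    {f : X ⟶ S} (c : DEt.Compactification f) (d : ℕ)
    (hdim : ∀ s : S, topologicalKrullDim ↥(f.fiber s) ≤ d)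
    {F G : EtCoh.Ab X} (hF : EtCoh.IsTorsion F) (hG : EtCoh.IsTorsion G) (φ : F ⟶ G) [Epi φ] :
    Epi ((EtCoh.Rpush c.fbar (2 * d)).map ((EtShriek.extZero c.j).map φ)) := by
  haveI := c.isOpenImmersion
  haveI := c.isProper
  haveI := EtFound.extZero_preservesFiniteLimits c.j
  let S₀ := ShortComplex.mk (kernel.ι φ) φ (kernel.condition φ)
  have hS : S₀.ShortExact := { exact := ShortComplex.exact_kernel _ }
  haveI : PreservesFiniteColimits (EtShriek.extZero c.j) :=
    haveI : PreservesColimitsOfSize.{0, 0} (EtShriek.extZero c.j) :=
      (EtShriek.extZeroAdj c.j).leftAdjoint_preservesColimits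
    PreservesColimitsOfSize.preservesFiniteColimits _
  have hS' := hS.map_of_exact (EtShriek.extZero c.j)
  letI := HasDerivedCategory.standard (EtCoh.Ab c.Xbar)
  letI := HasDerivedCategory.standard (EtCoh.Ab S)
  obtain ⟨δ, w₁, w₂, w₃, -, h₂, -⟩ := TriCat.exists_rightDerived_ses (EtCoh.push c.fbar) hS' (2 * d)
  refine h₂.epi_f (IsZero.eq_of_tgt ?_ _ _)
  refine S3110.result c.j c.fbar d (fun s => ?_) (kernel φ) (CdFin.isTorsion_of_mono (kernel.ι φ) hF) (2 * d + 1)
    (by omega)
  rw [c.fac]
  exact hdim s

end Groth.Agent.S8605
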