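import Groth.Statements.S8607
-- import your own Groth.Agent.* helpers here

set_option autoImplicit false
universe u
open CategoryTheory CategoryTheory.Limits AlgebraicGeometry Opposite
open DEt

namespace Groth.Agent.S8607

/-- The equalizing half of 'the category of compactifications of f is cofiltering': let f : X -> Y be a
morphism of quasi-compact quasi-separated schemes, (Xbar_1, j_1, fbar_1) and (Xbar_2, j_2, fbar_2)
two compactifications of f, and r, s : Xbar_1 -> Xbar_2 two morphisms of compactifications (r ∘ j_1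
= j_2 = s ∘ j_1 and fbar_2 ∘ r = fbar_1 = fbar_2 ∘ s). Then there are a compactification (Xbar, j,
fbar) of f and a proper morphism t : Xbar -> Xbar_1 of compactifications (t ∘ j = j_1, fbar_1 ∘ t =
fbar) with r ∘ t = s ∘ t. -/
theorem result {X Y : Scheme.{u}} [CompactSpace ↥X] [QuasiSeparatedSpace ↥X]
    [CompactSpace ↥Y] [QuasiSeparatedSpace ↥Y] {f : X ⟶ Y} (c₁ c₂ : DEt.Compactification f)
    (r s : c₁.Xbar ⟶ c₂.Xbar) (hr : c₁.j ≫ r = c₂.j) (hs : c₁.j ≫ s = c₂.j)
    (hr' : r ≫ c₂.fbar = c₁.fbar) (hs' : s ≫ c₂.fbar = c₁.fbar) :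
    ∃ (c : DEt.Compactification f) (t : c.Xbar ⟶ c₁.Xbar), IsProper t ∧ c.j ≫ t = c₁.j ∧ t ≫ c₁.fbar = c.fbar ∧
      t ≫ r = t ≫ s := by
  let X₁ : Over Y := Over.mk c₁.fbar
  let X₂ : Over Y := Over.mk c₂.fbar
  let r' : X₁ ⟶ X₂ := Over.homMk r hr'
  let s' : X₁ ⟶ X₂ := Over.homMk s hs'
  haveI : IsSeparated X₂.hom := inferInstanceAs (IsSeparated c₂.fbar)
  let i : Over.mk f ⟶ X₁ := Over.homMk c₁.j c₁.fac
  have hi : i ≫ r' = i ≫ s' := by ext; simp [i, r', s', X₁, X₂, hr, hs]
  let k := Limits.equalizer.lift i hi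
  haveI : IsClosedImmersion (Limits.equalizer.ι r' s').left := inferInstance
  have hk : k.left ≫ (Limits.equalizer.ι r' s').left = c₁.j := by
    rw [← Over.comp_left, Limits.equalizer.lift_ι]; rfl
  have hw : (Limits.equalizer r' s').hom = (Limits.equalizer.ι r' s').left ≫ c₁.fbar :=
    (Over.w (Limits.equalizer.ι r' s')).symm
  have hsq : IsPullback (𝟙 X) k.left c₁.j (Limits.equalizer.ι r' s').left := by
    refine IsPullback.of_isLimit (c := PullbackCone.mk (𝟙 X) k.left (by simp [hk])) ?_
    refine PullbackCone.IsLimit.mk _ (fun s => s.fst) (fun s => by simp) (fun s => ?_)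
      (fun s m h _ => by simpa using h)
    rw [← cancel_mono (Limits.equalizer.ι r' s').left, Category.assoc, hk, s.condition]
  haveI hopen : IsOpenImmersion k.left := MorphismProperty.of_isPullback hsq c₁.isOpenImmersion
  haveI : IsProper (Limits.equalizer r' s').hom := by rw [hw]; infer_instance
  refine ⟨⟨(Limits.equalizer r' s').left, k.left, (Limits.equalizer r' s').hom, hopen, inferInstance,
    Over.w k⟩, (Limits.equalizer.ι r' s').left, inferInstance, hk, hw.symm, ?_⟩
  exact congrArg CommaMorphism.left (Limits.equalizer.condition r' s')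


end Groth.Agent.S8607
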