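import Groth.Statements.S8611
import Groth.Agent.DeltaFLib.IsoCriterion
-- import your own Groth.Agent.* helpers here

set_option autoImplicit false
universe w v u
open CategoryTheory CategoryTheory.Limits
open SGA4h

namespace Groth.Agent.S8611

/-- Let C be an abelian category, T and T' cohomological delta-functors on C in degrees ≥ 0 with values
in abelian groups, both left exact in degree 0, with T effaceable in every degree q > 0 (every
element of T^q(A) is killed by T^q(u) for some monomorphism u : A → M, depending on the element),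
and φ : T → T' a morphism of delta-functors. Let E be a class of objects such that every object
admits a monomorphism into a member of E. Then the following are equivalent: (i) φ^q(A) is bijective
for all q and all A; (ii) φ^0(M) is bijective and φ^q(M) is surjective for q > 0, for all M in E;
(iii) φ^0(A) is bijective for all A and T' is effaceable in every degree > 0 (in the same
element-wise sense). Stated as (i) ⇔ (ii) together with (i) ⇔ (iii). -/
theorem result {C : Type u} [Category.{v} C] [Abelian C]
    (T T' : DeltaF.CohDeltaFunctor C AddCommGrpCat.{w} ℕ) (hT0 : T.ZeroMono) (hT'0 : T'.ZeroMono)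
    (hT : ∀ (q : ℕ) (A : C) (α : (T.F (q + 1)).obj A),
      ∃ (M : C) (u : A ⟶ M), Mono u ∧ (T.F (q + 1)).map u α = 0)
    (φ : T ⟶ T') (E : ObjectProperty C)
    (hE : ∀ A : C, ∃ (M : C) (i : A ⟶ M), Mono i ∧ E M) :
    ((∀ (q : ℕ) (A : C), IsIso ((φ.app q).app A)) ↔
      ((∀ M : C, E M → IsIso ((φ.app 0).app M)) ∧
        ∀ (q : ℕ) (M : C), E M → Epi ((φ.app (q + 1)).app M))) ∧
    ((∀ (q : ℕ) (A : C), IsIso ((φ.app q).app A)) ↔
      ((∀ A : C, IsIso ((φ.app 0).app A)) ∧
        ∀ (q : ℕ) (A : C) (α : (T'.F (q + 1)).obj A),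
          ∃ (M : C) (u : A ⟶ M), Mono u ∧ (T'.F (q + 1)).map u α = 0)) := by
  simp only [DeltaFLib.isIso_iff_bij, AddCommGrpCat.epi_iff_surjective]
  have key : ∀ q, ((∀ A, Function.Bijective ((φ.app q).app A)) →
      ∀ A, Function.Injective ((φ.app (q + 1)).app A)) := by
    intro q hq A
    rw [injective_iff_map_eq_zero]
    intro α hα
    obtain ⟨M, u, hu, hα'⟩ := hT q A α
    exact DeltaFLib.eq_zero_of_killed φ q u (hq _).1 (hq _).2 α hα' hα
  constructor
  · refine ⟨fun h => ⟨fun M _ => h 0 M, fun q M _ => (h (q + 1) M).2⟩, fun ⟨h0, hs⟩ q => ?_⟩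
    induction q with
    | zero =>
      have hi : ∀ A, Function.Injective ((φ.app 0).app A) := fun A => by
        obtain ⟨M, i, hi, hM⟩ := hE A
        exact DeltaFLib.inj_zero φ hT0 i (h0 M hM).1
      intro A
      obtain ⟨M, i, hi', hM⟩ := hE A
      exact ⟨hi A, DeltaFLib.surj_zero φ hT'0 i (h0 M hM).2 (hi _)⟩
    | succ q ih =>
      intro A
      obtain ⟨M, i, hi', hM⟩ := hE A
      exact ⟨key q ih A, DeltaFLib.surj_succ φ q i (key q ih _) (ih _).2 (hs q M hM)⟩
  · constructor
    · intro h
      refine ⟨h 0, fun q A α => ?_⟩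
      obtain ⟨β, rfl⟩ := (h (q + 1) A).2 α
      obtain ⟨M, u, hu, hβ⟩ := hT q A β
      exact ⟨M, u, hu, by rw [← DeltaFLib.natural_apply, hβ, map_zero]⟩
    · rintro ⟨h0, hs⟩ q
      induction q with
      | zero => exact h0
      | succ q ih =>
        intro A
        refine ⟨key q ih A, fun y => ?_⟩
        obtain ⟨M, i, hi, hy⟩ := hs q A y
        obtain ⟨c', hc'⟩ := DeltaFLib.exact₁_apply T' _ (DeltaFLib.ses_of_mono i) q y hy
        obtain ⟨c, rfl⟩ := (ih _).2 c'
        exact ⟨_, (DeltaFLib.comm_apply φ _ (DeltaFLib.ses_of_mono i) q c).trans hc'⟩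

end Groth.Agent.S8611
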