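import Groth.Statements.S8612
import Groth.Agent.DeltaFLib.IsoCriterion
-- import your own Groth.Agent.* helpers here

set_option autoImplicit false
universe w v u
open CategoryTheory CategoryTheory.Limits
open SGA4h

namespace Groth.Agent.S8612

/-- Let C be an abelian category with filtered colimits, T and T' cohomological delta-functors on C in
degrees ≥ 0 with values in abelian groups, both left exact in degree 0 and commuting with filtered
colimits in every degree, and φ : T → T' a morphism of delta-functors. Let D and E be classes of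
objects such that (a) every object of C is a filtered colimit of objects of D and (b) every object
of D admits a monomorphism into a member of E. Then φ^q(A) is bijective for all q and all A if and
only if φ^q(M) is bijective for all q and all M in E. -/
theorem result {C : Type u} [Category.{v} C] [Abelian C]
    [HasFilteredColimitsOfSize.{v, v} C]
    (T T' : DeltaF.CohDeltaFunctor C AddCommGrpCat.{w} ℕ) (hT0 : T.ZeroMono) (hT'0 : T'.ZeroMono)
    [∀ n, PreservesFilteredColimitsOfSize.{v, v} (T.F n)] [∀ n, PreservesFilteredColimitsOfSize.{v, v} (T'.F n)]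
    (φ : T ⟶ T') (D E : ObjectProperty C)
    (hD : ∀ A : C, ∃ (J : Type v) (_ : SmallCategory J) (_ : IsFiltered J) (K : J ⥤ C) (c : Cocone K)
      (_ : IsColimit c), (∀ j, D (K.obj j)) ∧ Nonempty (c.pt ≅ A))
    (hE : ∀ A : C, D A → ∃ (M : C) (i : A ⟶ M), Mono i ∧ E M) :
    (∀ (q : ℕ) (A : C), IsIso ((φ.app q).app A)) ↔
      ∀ (q : ℕ) (M : C), E M → IsIso ((φ.app q).app M) := by
  simp only [DeltaFLib.isIso_iff_bij]
  refine ⟨fun h q M _ => h q M, fun h => ?_⟩
  -- from `D` to everything
  have extI : ∀ q, (∀ A, D A → Function.Injective ((φ.app q).app A)) →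
      ∀ A, Function.Injective ((φ.app q).app A) := by
    intro q hq A
    obtain ⟨J, _, _, K, c, hc, hK, ⟨e⟩⟩ := hD A
    have h1 : Function.Injective ((φ.app q).app c.pt) := DeltaFLib.injective_of_cocone
      (isColimitOfPreserves (T.F q) hc) (isColimitOfPreserves (T'.F q) hc) _ fun j => hq _ (hK j)
    have hb : Function.Bijective ((T.F q).map e.inv) :=
      (ConcreteCategory.isIso_iff_bijective _).1 inferInstance
    intro a b hab
    apply hb.1
    apply h1
    rw [DeltaFLib.natural_apply, DeltaFLib.natural_apply, hab]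
  have extS : ∀ q, (∀ A, D A → Function.Surjective ((φ.app q).app A)) →
      ∀ A, Function.Surjective ((φ.app q).app A) := by
    intro q hq A
    obtain ⟨J, _, _, K, c, hc, hK, ⟨e⟩⟩ := hD A
    have h1 : Function.Surjective ((φ.app q).app c.pt) := DeltaFLib.surjective_of_cocone
      (isColimitOfPreserves (T'.F q) hc) _ fun j => hq _ (hK j)
    have hb : Function.Bijective ((T'.F q).map e.hom) :=
      (ConcreteCategory.isIso_iff_bijective _).1 inferInstance
    intro y
    obtain ⟨y', rfl⟩ := hb.2 y
    obtain ⟨x, rfl⟩ := h1 y'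
    exact ⟨_, DeltaFLib.natural_apply φ q e.hom x⟩
  intro q
  induction q with
  | zero =>
    have hi : ∀ A, Function.Injective ((φ.app 0).app A) := extI 0 fun A hA => by
      obtain ⟨M, i, hi, hM⟩ := hE A hA
      exact DeltaFLib.inj_zero φ hT0 i (h 0 M hM).1
    refine fun A => ⟨hi A, extS 0 (fun A hA => ?_) A⟩
    obtain ⟨M, i, hi', hM⟩ := hE A hA
    exact DeltaFLib.surj_zero φ hT'0 i (h 0 M hM).2 (hi _)
  | succ q ih =>
    have hi : ∀ A, Function.Injective ((φ.app (q + 1)).app A) := extI (q + 1) fun A hA => by
      obtain ⟨M, i, hi, hM⟩ := hE A hA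
      rw [injective_iff_map_eq_zero]
      intro α hα
      refine DeltaFLib.eq_zero_of_killed φ q i (ih _).1 (ih _).2 α ((h (q + 1) M hM).1 ?_) hα
      rw [DeltaFLib.natural_apply, hα, map_zero, map_zero]
    refine fun A => ⟨hi A, extS (q + 1) (fun A hA => ?_) A⟩
    obtain ⟨M, i, hi', hM⟩ := hE A hA
    exact DeltaFLib.surj_succ φ q i (hi _) (ih _).2 (h (q + 1) M hM).2

end Groth.Agent.S8612
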