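import Groth.Statements.S8614
import Groth.Agent.CohCrit13.Main

set_option backward.isDefEq.respectTransparency false
set_option backward.isDefEq.respectTransparency.types false
set_option linter.style.haveILetI false
set_option maxHeartbeats 1000000

set_option autoImplicit false
universe u
open CategoryTheory CategoryTheory.Limits AlgebraicGeometry
open SGA4h

namespace Groth.Agent.S8614

open Groth.Agent.EtFound Groth.Agent.CohCrit13 Opposite

variable {X Y : Scheme.{u}}

/-- The cokernel of a morphism of constructible sheaves is constructible. -/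
theorem isConstructible_coker [CompactSpace X] [QuasiSeparatedSpace X] {F G : EtCoh.Ab X} (u : F ⟶ G)
    (hF : EtPBC.IsConstructible F) (hG : EtPBC.IsConstructible G) : EtPBC.IsConstructible (cokernel u) := by
  obtain ⟨a, ha, hFa⟩ := exists_killedBy X hF
  obtain ⟨b, hb, hGb⟩ := exists_killedBy X hG
  exact (S0131.result u (a * b) (Nat.mul_pos ha hb) ((killedBy_iff_nsmul _ _).2 (by rw [mul_comm, mul_nsmul', hFa, nsmul_zero]))
    ((killedBy_iff_nsmul _ _).2 (by rw [mul_nsmul', hGb, nsmul_zero])) hF hG).2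

/-- Constructible sheaves embed into sums of direct images of constant cyclic sheaves. -/
theorem exists_emb_cyclic [CompactSpace X] [QuasiSeparatedSpace X] {F : EtCoh.Ab X} (hF : EtPBC.IsConstructible F) :
    ∃ (b : ℕ) (Z : Fin b → Scheme.{u}) (p : ∀ i, Z i ⟶ X) (_ : ∀ i, IsFinite (p i))
      (_ : ∀ i, LocallyOfFinitePresentation (p i)) (a : Fin b → ℕ) (_ : ∀ i, 0 < a i)
      (u : F ⟶ ⨁ fun i => (EtCoh.push (p i)).obj (EtCoh.const (Z i) (ZMod (a i)))), Mono u := by
  classical
  obtain ⟨n, W, f, hf, hfp, M, hM, hMf, h0⟩ := ConstEmb13.exists_mono F hF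
  obtain ⟨ι₀, hι₀⟩ := h0
  choose κ hκ q hq e φ using fun i => (haveI := hMf i; AddCommGroup.equiv_directSum_zmod_of_finite (M i))
  haveI : ∀ i, Fintype (κ i) := hκ
  let S := Σ i : Fin n, κ i
  let σ := (Fintype.equivFin S).symm
  let a : S → ℕ := fun s => q s.1 s.2 ^ e s.1 s.2
  let pr : ∀ i j, M i →+ ZMod (q i j ^ e i j) := fun i j =>
    (DirectSum.component ℤ (κ i) (fun j => ZMod (q i j ^ e i j)) j).toAddMonoidHom.comp (φ i).some.toAddMonoidHom
  let inj : ∀ i j, ZMod (q i j ^ e i j) →+ M i := fun i j =>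
    (φ i).some.symm.toAddMonoidHom.comp (DirectSum.of (fun j => ZMod (q i j ^ e i j)) j)
  have tot : ∀ i, ∑ j, (inj i j).comp (pr i j) = AddMonoidHom.id (M i) := fun i => by
    refine AddMonoidHom.ext fun x => ?_
    rw [AddMonoidHom.finsetSum_apply]
    apply (φ i).some.injective
    rw [map_sum]
    simp only [inj, pr, AddMonoidHom.comp_apply, AddEquiv.coe_toAddMonoidHom, AddEquiv.apply_symm_apply,
      AddMonoidHom.id_apply, LinearMap.toAddMonoidHom_coe, ← DirectSum.lof_eq_of ℤ]
    exact (DirectSum.sum_univ_of _).trans rfl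
  let w : ∀ s : S, F ⟶ (EtCoh.push (f s.1)).obj (EtCoh.const (W s.1) (ZMod (a s))) := fun s =>
    ι₀ ≫ biproduct.π _ s.1 ≫ (EtCoh.push (f s.1)).map (cmap (W s.1) (pr s.1 s.2))
  refine ⟨Fintype.card S, fun t => W (σ t).1, fun t => f (σ t).1, fun t => hf _, fun t => hfp _,
    fun t => a (σ t), fun t => pow_pos (hq _ _).pos _, biproduct.lift fun t => w (σ t),
    Preadditive.mono_of_cancel_zero _ fun {A} g hg => ?_⟩
  have hz : ∀ s, g ≫ w s = 0 := fun s => by
    obtain ⟨t, rfl⟩ := σ.surjective s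
    have h1 := congrArg (· ≫ biproduct.π (fun t => (EtCoh.push (f (σ t).1)).obj (EtCoh.const (W (σ t).1) (ZMod (a (σ t))))) t) hg
    simp only [Category.assoc, biproduct.lift_π, zero_comp] at h1
    exact h1
  rw [← cancel_mono ι₀, zero_comp]
  refine biproduct.hom_ext _ _ fun i => ?_
  rw [zero_comp, Category.assoc]
  let Φ : (M i →+ M i) →+ (EtCoh.const (W i) (M i) ⟶ EtCoh.const (W i) (M i)) := AddMonoidHom.mk' (cmap (W i)) (cmap_add _)
  have hsum : (EtCoh.push (f i)).map (∑ j, cmap (W i) (pr i j) ≫ cmap (W i) (inj i j)) = 𝟙 _ := by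
    simp only [← cmap_comp]
    rw [← (EtCoh.push (f i)).map_id, ← cmap_id, ← tot i]
    exact congrArg _ (map_sum Φ _ _).symm
  rw [← Category.comp_id (g ≫ ι₀ ≫ biproduct.π _ i), ← hsum, Functor.map_sum, Preadditive.comp_sum]
  refine Finset.sum_eq_zero fun j _ => ?_
  have h2 := congrArg (· ≫ (EtCoh.push (f i)).map (cmap (W i) (inj i j))) (hz ⟨i, j⟩)
  simp only [w, Category.assoc, zero_comp, ← Functor.map_comp] at h2
  simpa only [Category.assoc] using h2

/-- Comparison for all torsion sheaves from cyclic constant sheaves on finite schemes. -/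
theorem criterion (h : Y ⟶ X) [CompactSpace X] [QuasiSeparatedSpace X] [CompactSpace Y] [QuasiSeparatedSpace Y]
    [PreservesFiniteLimits (EtCoh.pull h)]
    (hb : ∀ (n : ℕ) (X' : Scheme.{u}) (p : X' ⟶ X) [IsFinite p] [PreservesFiniteLimits (EtCoh.pull (pullback.fst p h))],
      Function.Injective (EtCore.Hpull (pullback.fst p h) (EtCoh.const X' (ZMod n)) 0) ∧
      ∀ i, Function.Surjective (EtCore.Hpull (pullback.fst p h) (EtCoh.const X' (ZMod n)) i))
    (F : EtCoh.Ab X) (hF : EtCoh.IsTorsion F) (q : ℕ) : Function.Bijective (EtCore.Hpull h F q) := by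
  let C : EtCoh.Ab X → Prop := fun G => EtPBC.IsConstructible G
  have hemb : ∀ F, C F → ∃ (G : EtCoh.Ab X) (u : F ⟶ G) (_ : Mono u), C (cokernel u) ∧
      Function.Injective (EtCore.Hpull h G 0) ∧ ∀ i ≤ q, Function.Surjective (EtCore.Hpull h G i) := by
    intro F hFc
    obtain ⟨b, Z, p, hp, hfp, a, ha, u, hu⟩ := exists_emb_cyclic hFc
    haveI : ∀ i, NeZero (a i) := fun i => ⟨(ha i).ne'⟩
    refine ⟨_, u, hu, isConstructible_coker u hFc (isConstructible_biproduct _ fun i => by
        haveI := hp i; haveI := hfp i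
        exact S0137.result (p i) _ (ConstEmb13.isConstructible_const _ _)), ?_, fun i hi => ?_⟩
    · exact (comparison_biproduct h _ 0).1 fun j => by
        haveI := hp j
        haveI : PreservesFiniteLimits (EtCoh.pull (pullback.fst (p j) h)) := EtFound.pull_preservesFiniteLimits _
        exact (comparison_push h (p j) _ 0).1 (hb (a j) _ (p j)).1
    · exact (comparison_biproduct h _ i).2 fun j => by
        haveI := hp j
        haveI : PreservesFiniteLimits (EtCoh.pull (pullback.fst (p j) h)) := EtFound.pull_preservesFiniteLimits _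
        exact (comparison_push h (p j) _ i).2 ((hb (a j) _ (p j)).2 i)
  have heff : ∀ F, C F → ∀ (i : ℕ) (α : EtCoh.H X F (i + 1)), ∃ (G : EtCoh.Ab X) (u : F ⟶ G) (_ : Mono u),
      C G ∧ C (cokernel u) ∧ EtLimit.hmap u (i + 1) α = 0 := by
    intro F hFc i α
    obtain ⟨G, u, hG, hu, hα⟩ := S13504.result X F hFc (i + 1) (Nat.succ_pos i) α
    exact ⟨G, u, hu, hG, isConstructible_coker u hFc hG, hα⟩
  have main := comparison h C q hemb heff
  obtain ⟨J, _, _, D, c₀, hc₀, hD, ⟨eF⟩⟩ := S0134.result X F hF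
  let c := c₀.extend eF.hom
  let hc : IsColimit c := IsColimit.extendIso eF.hom hc₀
  haveI : PreservesColimitsOfSize.{u + 1, u + 1} (EtCoh.pull h) := (EtCoh.pullPushAdj h).leftAdjoint_preservesColimits
  haveI := EtLC12.QcqsAcyclic.preservesColimitsOfShape_HF X q J
  haveI := EtLC12.QcqsAcyclic.preservesColimitsOfShape_HF Y q J
  refine ⟨(injective_iff_map_eq_zero _).2 fun x hx => ?_, fun y => ?_⟩
  · obtain ⟨j, x, rfl⟩ := Concrete.isColimit_exists_rep _ (isColimitOfPreserves (EtCoh.HF X q) hc) x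
    replace hx := (Hpull_hmap h (c.ι.app j) q x).symm.trans hx
    obtain ⟨j', φ, φ', hφ⟩ := Concrete.isColimit_exists_of_rep_eq _
      (isColimitOfPreserves (EtCoh.pull h ⋙ EtCoh.HF Y q) hc) (EtCore.Hpull h (D.obj j) q x) (0 : EtCoh.H Y ((EtCoh.pull h).obj (D.obj j)) q)
      (hx.trans (map_zero (EtLimit.hmap ((EtCoh.pull h).map (c.ι.app j)) q)).symm)
    change EtLimit.hmap ((EtCoh.pull h).map (D.map φ)) q (EtCore.Hpull h (D.obj j) q x) =
      EtLimit.hmap ((EtCoh.pull h).map (D.map φ')) q 0 at hφ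
    rw [map_zero] at hφ
    replace hφ := (Hpull_hmap h (D.map φ) q x).trans hφ
    have h0 : EtLimit.hmap (D.map φ) q x = 0 := (main q (Nat.le_succ q) _ (hD j')).1 (hφ.trans (map_zero _).symm)
    show EtLimit.hmap (c.ι.app j) q x = 0
    rw [← c.w φ, ← EtLimit.hmap_comp, h0, map_zero]
  · obtain ⟨j, y, rfl⟩ := Concrete.isColimit_exists_rep _ (isColimitOfPreserves (EtCoh.pull h ⋙ EtCoh.HF Y q) hc) y
    obtain ⟨x, rfl⟩ := (main q (Nat.le_succ q) _ (hD j)).2 le_rfl y
    refine ⟨EtLimit.hmap (c.ι.app j) q x, ?_⟩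
    exact Hpull_hmap h (c.ι.app j) q x

/-- Let X be a Noetherian scheme and i : X₀ → X a subscheme (an immersion). Assume that for every
natural number n (n = 0 giving ℤ) and every finite morphism p : X' → X, with X'₀ = X' ×_X X₀, the
restriction map H^q(X', ℤ/n) → H^q(X'₀, ℤ/n) is bijective for q = 0 and surjective for q > 0. Then
for every torsion abelian etale sheaf F on X and every q the restriction map H^q(X, F) → H^q(X₀,
i⁻¹F) is bijective. -/
theorem result {X X₀ : Scheme.{u}} [IsNoetherian X] (i : X₀ ⟶ X)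
    [IsImmersion i]
    (h : ∀ (n : ℕ) (X' : Scheme.{u}) (p : X' ⟶ X) [IsFinite p]
      [PreservesFiniteLimits (EtCoh.pull (pullback.fst p i))],
      Function.Bijective (EtCore.Hpull (pullback.fst p i) (EtCoh.const X' (ZMod n)) 0) ∧
        ∀ q : ℕ, 0 < q → Function.Surjective (EtCore.Hpull (pullback.fst p i) (EtCoh.const X' (ZMod n)) q))
    (F : EtCoh.Ab X) (hF : EtCoh.IsTorsion F) [PreservesFiniteLimits (EtCoh.pull i)] (q : ℕ) :
    Function.Bijective (EtCore.Hpull i F q) := by
  haveI : IsLocallyNoetherian X₀ := LocallyOfFiniteType.isLocallyNoetherian i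
  haveI : TopologicalSpace.NoetherianSpace X₀ := i.isEmbedding.isInducing.noetherianSpace
  haveI : CompactSpace X₀ := inferInstance
  refine criterion i (fun n X' p _ _ => ?_) F hF q
  obtain ⟨h0, h1⟩ := h n X' p
  refine ⟨h0.1, fun j => ?_⟩
  cases j with
  | zero => exact h0.2
  | succ j => exact h1 (j + 1) (Nat.succ_pos j)

end Groth.Agent.S8614
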