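import Groth.Statements.S8615
import Groth.Agent.GabberAff13.Points
import Groth.Agent.GabberAff13.ShriekPush
import Groth.Agent.S0071
import Groth.Agent.EtLC12.QcqsAcyclic
import Groth.Agent.EtLimit.HTools

set_option backward.isDefEq.respectTransparency false
set_option backward.isDefEq.respectTransparency.types false
set_option linter.style.haveILetI false

set_option autoImplicit false
universe u
open CategoryTheory CategoryTheory.Limits AlgebraicGeometry
open SGA4h

namespace Groth.Agent.S8615

open Groth.Agent.EtFound Groth.Agent.GabberAff13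

/-- Sheaves pushed forward from a finite scheme over a separably closed field have no cohomology. -/
theorem isZero_HF_push {k : Type u} [Field k] [IsSepClosed k] {X W : Scheme.{u}}
    (f : X ⟶ Spec (CommRingCat.of k)) [QuasiCompact f] [QuasiSeparated f] (r : W ⟶ X) [IsFinite r] [IsFinite (r ≫ f)]
    (N : EtCoh.Ab W) (q : ℕ) (hq : 0 < q) : IsZero ((EtCoh.HF X q).obj ((EtCoh.push r).obj N)) := by
  haveI : EtCoh.BCCont r := EtCoh.bcCont r
  haveI : EtCoh.BCCont f := EtCoh.bcCont f
  haveI : EtCoh.BCCont (r ≫ f) := EtCoh.bcCont _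
  obtain ⟨c⟩ := nonempty_Rpush_push r f N (fun i hi => Groth.Agent.S0071.result r N i hi) q
  obtain ⟨e⟩ := nonempty_stalk_Rpush_point f ((EtCoh.push r).obj N) q
  exact ((EtCoh.stalk _).map_isZero ((Groth.Agent.S0071.result (r ≫ f) N q hq).of_iso c)).of_iso e.symm

/-- Coproducts of sheaves without cohomology in a degree have none. -/
theorem isZero_HF_sigma {X : Scheme.{u}} [CompactSpace X] [QuasiSeparatedSpace X] (q : ℕ) {ι : Type u}
    (A : ι → EtCoh.Ab X) (h : ∀ i, IsZero ((EtCoh.HF X q).obj (A i))) :
    IsZero ((EtCoh.HF X q).obj (∐ A)) := by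
  classical
  haveI : (EtCoh.HF X q).Additive := ⟨fun {F G a b} => AddCommGrpCat.ext fun x => by
    exact (congrArg (fun m => x.comp (Abelian.Ext.mk₀ m) (add_zero q)) rfl).trans
      ((congrArg (fun m => x.comp m (add_zero q)) (Abelian.Ext.mk₀_add a b)).trans (Abelian.Ext.comp_add _ _ _ _))⟩
  haveI := EtLimit.preservesColimitsOfShape_HF X q (Finset (Discrete ι))
  refine IsZero.of_iso ?_ ((EtCoh.HF X q).mapIso
    (CoproductsFromFiniteFiltered.liftToFinsetColimIso.app (Discrete.functor A)).symm)
  refine IsZero.of_iso ?_ (preservesColimitIso (EtCoh.HF X q) _)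
  refine (IsZero.iff_id_eq_zero _).2 (colimit.hom_ext fun J => ?_)
  haveI : PreservesColimit (Discrete.functor fun x : { x // x ∈ J } => (Discrete.functor A).obj x.val)
      (EtCoh.HF X q) := inferInstance
  refine IsZero.eq_of_src ?_ _ _
  refine IsZero.of_iso ?_ (PreservesCoproduct.iso (EtCoh.HF X q) _)
  exact (IsZero.iff_id_eq_zero _).2 (Sigma.hom_ext _ _ fun x => (h x.val.as).eq_of_src _ _)

/-- Let k be an algebraically closed field and X a connected smooth proper curve over k. For the family,
indexed by the closed points x of X, of direct images i_{x*} ℤ of the constant sheaf ℤ along i_x :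
Spec κ(x) → X, any coproduct (given as a colimit cofan) has vanishing etale cohomology in every
degree q > 0. -/
theorem result {k : Type u} [Field k] [IsAlgClosed k]
    {X : Scheme.{u}} (f : X ⟶ Spec (CommRingCat.of k)) [IsProper f] [SmoothOfRelativeDimension 1 f]
    [ConnectedSpace ↥X]
    (c : Cofan fun x : {x : X // IsClosed ({x} : Set X)} =>
      (EtCoh.push (X.fromSpecResidueField x.1)).obj (EtCoh.const (Spec (X.residueField x.1)) ℤ))
    (hc : IsColimit c) (q : ℕ) (hq : 0 < q) :
    Subsingleton (EtCoh.H X c.pt q) := by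
  haveI : CompactSpace X := QuasiCompact.compactSpace_of_compactSpace f
  haveI : QuasiSeparatedSpace X := quasiSeparatedSpace_of_quasiSeparated f
  refine AddCommGrpCat.subsingleton_of_isZero (G := (EtCoh.HF X q).obj c.pt) ?_
  refine IsZero.of_iso ?_ ((EtCoh.HF X q).mapIso (hc.coconePointUniqueUpToIso (colimit.isColimit _)))
  refine isZero_HF_sigma q _ fun x => ?_
  haveI : IsClosedImmersion (X.fromSpecResidueField x.1) := (isClosed_singleton_iff_isClosedImmersion).1 x.2
  haveI : LocallyQuasiFinite (X.fromSpecResidueField x.1 ≫ f) :=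
    LocallyQuasiFinite.of_injective (Function.injective_of_subsingleton _)
  haveI : IsFinite (X.fromSpecResidueField x.1 ≫ f) := IsFinite.of_locallyQuasiFinite _
  exact isZero_HF_push f _ _ q hq

end Groth.Agent.S8615
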