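import Groth.Statements.S8618
import Mathlib
import Groth.Agent.SigmaLinLib.Basic
import Groth.Agent.SigmaLinLib.AlgClosed
-- import your own Groth.Agent.* helpers here

set_option autoImplicit false
universe u
open SGA4h

set_option maxHeartbeats 200000
set_option linter.style.haveILetI false

namespace Groth.Agent.S8618

/-- A `p`-linear map of a finite-dimensional space over an algebraically closed field has independent fixed
vectors spanning its stable part. -/
private theorem exists_basis (p : ℕ) [Fact p.Prime] {K : Type u} [Field K] [CharP K p] [IsAlgClosed K]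
    {M : Type u} [AddCommGroup M] [Module K M] [FiniteDimensional K M] (T : M →ₛₗ[frobenius K p] M) :
    ∃ (n : ℕ) (e : Fin n → M), LinearIndependent K e ∧ (∀ i, T (e i) = e i) ∧
      Submodule.span K (Set.range e) = ⨅ i, SigmaLinLib.im T i := by
  obtain ⟨b, hb⟩ := SigmaLinLib.exists_basis_fixed
    (SigmaLinLib.res T (⨅ n, SigmaLinLib.im T n) fun _ => SigmaLinLib.map_mem_stable T)
    (SigmaLinLib.span_fixed_eq_top _ (SigmaLinLib.span_range_res_stable T)
      (SigmaLinLib.frob_fixed_eq (k := K) p) (SigmaLinLib.frob_sub_eq (k := K) p))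
  refine ⟨_, fun i => (b i : M), b.linearIndependent.map' (Submodule.subtype _) (Submodule.ker_subtype _),
    fun i => congrArg Subtype.val (hb i), ?_⟩
  have h := congrArg (Submodule.map (⨅ n, SigmaLinLib.im T n).subtype) b.span_eq
  rw [Submodule.map_span, Submodule.map_top, Submodule.range_subtype, ← Set.range_comp] at h
  exact h

/-- An endomorphism of a space spanned by vectors fixed in a lattice over a subfield has the same trace on it. -/
private theorem trace_descend {F₀ K M : Type u} [Field F₀] [Field K] [Algebra F₀ K] [AddCommGroup M]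
    [Module K M] [Module F₀ M] [IsScalarTower F₀ K M] {n : ℕ} (W : Submodule F₀ M) (U : Submodule K M)
    (e : Fin n → M) (hli : LinearIndependent K e) (heW : ∀ i, e i ∈ W)
    (hspan : Submodule.span K (Set.range e) = U)
    (hcoef : ∀ y ∈ W, ∃ a : Fin n → F₀, y = ∑ i, algebraMap F₀ K (a i) • e i) :
    Module.Finite F₀ W ∧ ∀ (H : M →ₗ[K] M) (hH : ∀ y ∈ U, H y ∈ U) (G : W →ₗ[F₀] W),
      (∀ y : W, (G y : M) = H y) → algebraMap F₀ K (LinearMap.trace F₀ W G) = LinearMap.trace K U (H.restrict hH) := by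
  classical
  let e' : Fin n → W := fun i => ⟨e i, heW i⟩
  have hsum : ∀ c : Fin n → F₀, ((∑ i, c i • e' i : W) : M) = ∑ i, algebraMap F₀ K (c i) • e i := fun c => by
    simp only [AddSubmonoidClass.coe_finsetSum, SetLike.val_smul, algebraMap_smul, e']
  have hli' : LinearIndependent F₀ e' := Fintype.linearIndependent_iff.2 fun c hc i => by
    have h0 : ∑ i, algebraMap F₀ K (c i) • e i = 0 := by rw [← hsum c, hc]; rfl
    exact (algebraMap F₀ K).injective ((Fintype.linearIndependent_iff.1 hli _ h0 i).trans (map_zero _).symm)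
  have hsp : ⊤ ≤ Submodule.span F₀ (Set.range e') := by
    rintro ⟨y, hy⟩ -
    obtain ⟨a, ha⟩ := hcoef y hy
    have : (⟨y, hy⟩ : W) = ∑ i, a i • e' i := Subtype.ext (by rw [hsum]; exact ha)
    rw [this]
    exact Submodule.sum_mem _ fun i _ => Submodule.smul_mem _ _ (Submodule.subset_span ⟨i, rfl⟩)
  let bW : Module.Basis (Fin n) F₀ W := Module.Basis.mk hli' hsp
  refine ⟨Module.Finite.of_basis bW, fun H hH G hG => ?_⟩
  let bU : Module.Basis (Fin n) K U := (Module.Basis.span hli).map (LinearEquiv.ofEq _ _ hspan)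
  have hbU : ∀ i, ((bU i : U) : M) = e i := fun i => by simp [bU]
  have hcol : ∀ j, H.restrict hH (bU j) = ∑ i, algebraMap F₀ K (bW.repr (G (bW j)) i) • bU i := fun j => Subtype.ext (by
    have h1 : (∑ i, bW.repr (G (bW j)) i • e' i : W) = G (bW j) := by
      conv_rhs => rw [← bW.sum_repr (G (bW j))]
      simp [bW]
    have h2 := hsum fun i => bW.repr (G (bW j)) i
    rw [h1, hG] at h2
    simp only [AddSubmonoidClass.coe_finsetSum, SetLike.val_smul, hbU]
    rw [← h2, LinearMap.coe_restrict_apply, hbU]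
    simp [bW, e'])
  rw [LinearMap.trace_eq_matrix_trace F₀ bW G, LinearMap.trace_eq_matrix_trace K bU (H.restrict hH)]
  simp only [Matrix.trace, Matrix.diag, LinearMap.toMatrix_apply, map_sum]
  refine Finset.sum_congr rfl fun j _ => ?_
  rw [hcol j, bU.repr_sum_self]

open TensorProduct in
/-- Let k be a finite field with q = p^f elements, F₀ ⊂ k its prime field, K an algebraically closed
extension of k, V a finite-dimensional k-vector space and φ a p-linear endomorphism of V (φ(λx) =
λ^p φ(x)); let F = φ^f, a k-linear endomorphism, F_K its K-linear extension to K ⊗_k V and φ_K the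
p-linear extension of φ (φ_K(μ ⊗ v) = μ^p ⊗ φ(v)). Then F_K preserves the F₀-subspace W = Ker(φ_K -
1) of K ⊗_k V, W is finite-dimensional over F₀, and the trace of F_K on W (an element of F₀) equals
the trace of F on V. -/
theorem result {p : ℕ} [Fact p.Prime] (k : Type u) [Field k] [Fintype k]
    [CharP k p] (f : ℕ) (hq : Fintype.card k = p ^ f) (K : Type u) [Field K] [Algebra k K] [IsAlgClosed K]
    (V : Type u) [AddCommGroup V] [Module k V] [FiniteDimensional k V]
    (φ : V →ₛₗ[frobenius k p] V) (F : V →ₗ[k] V) (hF : ∀ x, F x = (⇑φ)^[f] x)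
    (φK : K ⊗[k] V →+ K ⊗[k] V) (hφK : ∀ (μ : K) (v : V), φK (μ ⊗ₜ[k] v) = (μ ^ p) ⊗ₜ[k] φ v)
    (W : Submodule (↥(⊥ : Subfield k)) (K ⊗[k] V)) (hW : ∀ y, y ∈ W ↔ φK y = y) :
    (∀ y, φK y = y → φK (F.baseChange K y) = F.baseChange K y) ∧
    Module.Finite (↥(⊥ : Subfield k)) ↥W ∧
    ∀ (G : ↥W →ₗ[↥(⊥ : Subfield k)] ↥W), (∀ y : ↥W, (↑(G y) : K ⊗[k] V) = F.baseChange K ↑y) →
      algebraMap k K (algebraMap (↥(⊥ : Subfield k)) k (LinearMap.trace (↥(⊥ : Subfield k)) ↥W G)) =
        algebraMap k K (LinearMap.trace k V F) := by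
  classical
  obtain ⟨-, rfl⟩ | hf := (Nat.eq_zero_or_pos f).imp_left (fun h => And.intro h h)
  · exact absurd (hq.trans (pow_zero p)) (Fintype.one_lt_card (α := k)).ne'
  haveI : CharP K p := charP_of_injective_algebraMap (algebraMap k K).injective p
  let FK : (K ⊗[k] V) →ₗ[K] (K ⊗[k] V) := F.baseChange K
  have hT : ∀ (a : K) (y : (K ⊗[k] V)), φK (a • y) = a ^ p • φK y := by
    intro a y
    induction y using TensorProduct.induction_on with
    | zero => simp
    | tmul μ v =>
      show φK ((a * μ) ⊗ₜ v) = a ^ p • φK (μ ⊗ₜ v)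
      rw [hφK, hφK, mul_pow, TensorProduct.smul_tmul', smul_eq_mul]
    | add x y hx hy => simp only [smul_add, map_add, hx, hy]
  let T : (K ⊗[k] V) →ₛₗ[frobenius K p] (K ⊗[k] V) :=
    { toFun := φK, map_add' := φK.map_add, map_smul' := fun a y => hT a y }
  have hFφ : ∀ v : V, F (φ v) = φ (F v) := fun v => by
    rw [hF, hF, ← Function.iterate_succ_apply, Function.iterate_succ_apply']
  have hcomm : ∀ y : (K ⊗[k] V), T (FK y) = FK (T y) := by
    intro y
    induction y using TensorProduct.induction_on with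
    | zero => simp
    | tmul μ v =>
      show φK (F.baseChange K (μ ⊗ₜ v)) = F.baseChange K (φK (μ ⊗ₜ v))
      rw [LinearMap.baseChange_tmul, hφK, hφK, LinearMap.baseChange_tmul, hFφ]
    | add x y hx hy => simp only [map_add, hx, hy]
  have hcommn : ∀ (n : ℕ) (y : (K ⊗[k] V)), (⇑T)^[n] (FK y) = FK ((⇑T)^[n] y) := fun n y =>
    (Function.Commute.iterate_left (f := ⇑T) (g := ⇑FK) hcomm n) y
  have hσ : Function.Surjective (frobenius K p) := surjective_frobenius K p
  let U : Submodule K (K ⊗[k] V) := ⨅ i, SigmaLinLib.im T i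
  obtain ⟨r, b, hbli, hbT', hbspan⟩ := exists_basis p T
  have hbT : ∀ i, φK (b i) = b i := hbT'
  have hfixU : ∀ y : (K ⊗[k] V), φK y = y → y ∈ U := fun y hy => by
    simp only [U, Submodule.mem_iInf]
    exact fun i => Submodule.subset_span ⟨y, Function.iterate_fixed (f := ⇑T) hy i⟩
  have hFW : ∀ y : (K ⊗[k] V), φK y = y → φK (FK y) = FK y := fun y hy =>
    (hcomm y).trans (congrArg FK hy)
  -- the fixed vectors are the combinations of `b` with coefficients in the prime field
  have hcoef : ∀ y ∈ W, ∃ a : Fin r → (⊥ : Subfield k), y = ∑ i, algebraMap (⊥ : Subfield k) K (a i) • b i := by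
    intro y hy
    have hyU : y ∈ Submodule.span K (Set.range b) := hbspan.symm ▸ hfixU y ((hW y).1 hy)
    obtain ⟨c, hc⟩ := (Submodule.mem_span_range_iff_exists_fun K).1 hyU
    have h1 : ∑ i, c i ^ p • b i = ∑ i, c i • b i := by
      have h2 := congrArg φK hc
      simp only [map_sum, hT, hbT] at h2
      exact h2.trans (((hW y).1 hy).trans hc.symm)
    have hint : ∀ i, ∃ a : (⊥ : Subfield k), algebraMap (⊥ : Subfield k) K a = c i := fun i => by
      have hx := (Subfield.mem_bot_iff_pow_eq_self K p).2 (Fintype.linearIndependent_iffₛ.1 hbli _ _ h1 i)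
      rw [← ZMod.fieldRange_castHom_eq_bot p] at hx
      obtain ⟨z, hz⟩ := RingHom.mem_fieldRange.1 hx
      obtain ⟨n, rfl⟩ := ZMod.intCast_surjective z
      exact ⟨(n : (⊥ : Subfield k)), by rw [map_intCast, ← hz, map_intCast]⟩
    choose a ha using hint
    exact ⟨a, by simp only [ha]; exact hc.symm⟩
  obtain ⟨hfin, htr⟩ := trace_descend W U b hbli (fun i => (hW _).2 (hbT i)) hbspan hcoef
  refine ⟨hFW, hfin, fun G hG => ?_⟩
  -- `FK` preserves `U` and a nilpotent complement
  have hU : ∀ y ∈ U, FK y ∈ U := by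
    intro y hy
    refine (Submodule.span_le (p := U.comap FK)).2 ?_ (hbspan.symm ▸ hy : y ∈ Submodule.span K (Set.range b))
    rintro _ ⟨i, rfl⟩
    exact hfixU _ (hFW _ (hbT i))
  obtain ⟨N₁, hN₁⟩ := SigmaLinLib.kerIter_stable T
  let Z := SigmaLinLib.kerIter T N₁
  have hZ : ∀ y ∈ Z, FK y ∈ Z := fun y hy => by
    show (⇑T)^[N₁] (FK y) = 0
    rw [hcommn, show (⇑T)^[N₁] y = 0 from hy, map_zero]
  have hUZ : IsCompl U Z := by
    refine ⟨Submodule.disjoint_def.2 fun y hy hy' => SigmaLinLib.eq_zero_of_mem_stable T hy hy', ?_⟩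
    rw [codisjoint_iff, eq_top_iff]
    intro y _
    obtain ⟨w, z, rfl, hw, hz⟩ := SigmaLinLib.exists_split T hσ y
    exact add_mem (Submodule.mem_sup_right (hN₁ w hw)) (Submodule.mem_sup_left hz)
  obtain ⟨N, hN⟩ := SigmaLinLib.im_stable T
  have hTn : ∀ (n : ℕ) (v : V), (⇑T)^[n] ((1 : K) ⊗ₜ[k] v) = (1 : K) ⊗ₜ[k] ((⇑φ)^[n] v) := fun n v => by
    induction n with
    | zero => rfl
    | succ n ih =>
      rw [Function.iterate_succ_apply', ih, Function.iterate_succ_apply']
      exact (hφK 1 _).trans (by rw [one_pow])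
  have hFn : ∀ (n : ℕ) (v : V), (⇑F)^[n] v = (⇑φ)^[f * n] v := fun n v => by
    rw [Function.iterate_mul, show (⇑F) = (⇑φ)^[f] from funext hF]
  have hFKn : ∀ (n : ℕ) (μ : K) (v : V), (⇑FK)^[n] (μ ⊗ₜ[k] v) = μ ⊗ₜ[k] ((⇑F)^[n] v) := fun n μ v => by
    induction n with
    | zero => rfl
    | succ n ih => rw [Function.iterate_succ_apply', ih, Function.iterate_succ_apply']; exact LinearMap.baseChange_tmul _ _ _
  have hnil : ∀ y : (K ⊗[k] V), (⇑FK)^[N] y ∈ U := by
    intro y
    induction y using TensorProduct.induction_on with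
    | zero => rw [iterate_map_zero]; exact zero_mem _
    | tmul μ v =>
      rw [hFKn, hFn, show μ ⊗ₜ[k] ((⇑φ)^[f * N] v) = μ • ((1 : K) ⊗ₜ[k] ((⇑φ)^[f * N] v)) by
        rw [smul_tmul', smul_eq_mul, mul_one], ← hTn]
      refine Submodule.smul_mem _ _ ?_
      show _ ∈ ⨅ i, SigmaLinLib.im T i
      rw [(hN N le_rfl).2]
      exact SigmaLinLib.im_antitone T (Nat.le_mul_of_pos_left N hf) (Submodule.subset_span ⟨_, rfl⟩)
    | add x y hx hy => rw [iterate_map_add]; exact add_mem hx hy
  let FU : U →ₗ[K] U := FK.restrict hU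
  let FZ : Z →ₗ[K] Z := FK.restrict hZ
  have hFZ : IsNilpotent FZ := ⟨N, LinearMap.ext fun z => by
    rw [Module.End.pow_apply]
    have hcoe : ∀ n, (((⇑FZ)^[n] z : Z) : (K ⊗[k] V)) = (⇑FK)^[n] (z : (K ⊗[k] V)) := fun n => by
      induction n with
      | zero => rfl
      | succ n ih => rw [Function.iterate_succ_apply', Function.iterate_succ_apply', ← ih]; rfl
    refine Subtype.ext ?_
    exact Submodule.disjoint_def.1 hUZ.disjoint _ ((hcoe N).symm ▸ hnil _) ((⇑FZ)^[N] z).2⟩
  let e := Submodule.prodEquivOfIsCompl U Z hUZ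
  have hconj : e.conj (LinearMap.prodMap FU FZ) = FK := LinearMap.ext fun y => by
    obtain ⟨⟨a, c⟩, rfl⟩ := e.surjective y
    rw [LinearEquiv.conj_apply_apply, LinearEquiv.symm_apply_apply]
    simp [e, FU, FZ, map_add]
  haveI : Module.Free K U := Module.Free.of_divisionRing K U
  haveI : Module.Free K Z := Module.Free.of_divisionRing K Z
  haveI : Module.Finite K U := FiniteDimensional.finiteDimensional_submodule U
  haveI : Module.Finite K Z := FiniteDimensional.finiteDimensional_submodule Z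
  have htrFU : algebraMap k K (LinearMap.trace k V F) = LinearMap.trace K U FU := by
    rw [← LinearMap.trace_baseChange F K]
    show LinearMap.trace K (K ⊗[k] V) FK = _
    rw [← hconj]
    refine (LinearMap.trace_conj' (R := K) (M := ↥U × ↥Z) (N := K ⊗[k] V) (LinearMap.prodMap FU FZ) e).trans ?_
    refine (LinearMap.trace_prodMap' (R := K) (M := ↥U) (N := ↥Z) FU FZ).trans ?_
    have h0 : LinearMap.trace K Z FZ = 0 := (LinearMap.isNilpotent_trace_of_isNilpotent (R := K) (M := ↥Z) hFZ).eq_zero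
    rw [h0, add_zero]
  -- the matrix over the prime field
  rw [htrFU, ← IsScalarTower.algebraMap_apply]
  exact htr FK hU G hG

end Groth.Agent.S8618
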