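import Groth.Statements.S8625
import Mathlib.Tactic.Group

set_option autoImplicit false
universe u
open SGA4h

namespace Groth.Agent.S8625

variable {G : Type u} [Group G] (F : G →* G)

theorem fix_right {g : G} (h : F (F g * g⁻¹) = F g * g⁻¹) : F (g⁻¹ * F g) = g⁻¹ * F g := by
  rw [map_mul, map_inv] at h ⊢
  rw [mul_inv_eq_iff_eq_mul] at h
  rw [h]; group

theorem fix_left {g : G} (h : F (g⁻¹ * F g) = g⁻¹ * F g) : F (F g * g⁻¹) = F g * g⁻¹ := by
  rw [map_mul, map_inv] at h ⊢
  rw [inv_mul_eq_iff_eq_mul] at h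
  rw [h]; group

theorem mk_eq {a b : ↥(F.eqLocus (MonoidHom.id G))} (c : G) (hc : F c = c)
    (h : c * (a : G) = (b : G) * c) : ConjClasses.mk a = ConjClasses.mk b := by
  rw [ConjClasses.mk_eq_mk_iff_isConj, isConj_iff]
  refine ⟨⟨c, hc⟩, ?_⟩
  apply Subtype.ext
  simp [h]

theorem transport {g g' c : G} (hc : F c = c) (h : c * (F g * g⁻¹) = (F g' * g'⁻¹) * c) :
    ∃ d : G, F d = d ∧ d * (g⁻¹ * F g) = (g'⁻¹ * F g') * d := by
  refine ⟨g'⁻¹ * (c * g), ?_, ?_⟩
  · have e : c * F g = F g' * g'⁻¹ * (c * g) := by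
      calc c * F g = c * (F g * g⁻¹) * g := by group
        _ = _ := by rw [h]; group
    simp [hc, e]; group
  · have e : c * F g = F g' * g'⁻¹ * (c * g) := by
      calc c * F g = c * (F g * g⁻¹) * g := by group
        _ = _ := by rw [h]; group
    calc _ = g'⁻¹ * (c * F g) := by group
      _ = _ := by rw [e]; group

theorem transport' {g g' d : G} (hd : F d = d) (h : d * (g⁻¹ * F g) = (g'⁻¹ * F g') * d) :
    ∃ c : G, F c = c ∧ c * (F g * g⁻¹) = (F g' * g'⁻¹) * c := by
  have e : F g' * d = g' * d * g⁻¹ * F g := by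
    calc F g' * d = g' * ((g'⁻¹ * F g') * d) := by group
      _ = _ := by rw [← h]; group
  refine ⟨g' * d * g⁻¹, ?_, ?_⟩
  · simp [hd, e]
  · calc _ = g' * d * g⁻¹ * F g * g⁻¹ := by group
      _ = _ := by rw [← e]; group

/-- Let G be a group with an endomorphism F, and assume the Lang map g ↦ F(g)g⁻¹ is surjective (for
instance the geometric points of a connected algebraic group over F_q with its Frobenius, where the
surjectivity is the classical result of Lang; the other Lang map g ↦ g⁻¹F(g) is then surjective too,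
by g ↦ g⁻¹). Let G^F be the subgroup of fixed points of F. (i) If F(g)g⁻¹ is fixed by F then so is
g⁻¹F(g). (ii), (iii) There is a bijection of the set of conjugacy classes of G^F with itself
sending, for every g with F(g)g⁻¹ ∈ G^F, the class of F(g)g⁻¹ to the class of g⁻¹F(g) (in particular
the latter class depends only on the former). -/
theorem result {G : Type u} [Group G] (F : G →* G)
    (hL : Function.Surjective fun g : G => F g * g⁻¹) :
    (∀ g : G, F (F g * g⁻¹) = F g * g⁻¹ → F (g⁻¹ * F g) = g⁻¹ * F g) ∧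
    ∃ φ : ConjClasses ↥(F.eqLocus (MonoidHom.id G)) → ConjClasses ↥(F.eqLocus (MonoidHom.id G)),
      Function.Bijective φ ∧
      ∀ (g : G) (h : F (F g * g⁻¹) = F g * g⁻¹) (h' : F (g⁻¹ * F g) = g⁻¹ * F g),
        φ (ConjClasses.mk (⟨F g * g⁻¹, h⟩ : ↥(F.eqLocus (MonoidHom.id G)))) =
          ConjClasses.mk (⟨g⁻¹ * F g, h'⟩ : ↥(F.eqLocus (MonoidHom.id G))) := by
  classical
  refine ⟨fun g h => fix_right F h, ?_⟩
  let pre : ↥(F.eqLocus (MonoidHom.id G)) → G := fun a => Classical.choose (hL (a : G))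
  have hpre : ∀ a : ↥(F.eqLocus (MonoidHom.id G)), F (pre a) * (pre a)⁻¹ = (a : G) :=
    fun a => Classical.choose_spec (hL (a : G))
  have hpre' : ∀ a : ↥(F.eqLocus (MonoidHom.id G)), F (F (pre a) * (pre a)⁻¹) = F (pre a) * (pre a)⁻¹ :=
    fun a => by rw [hpre a]; exact a.2
  let f : ↥(F.eqLocus (MonoidHom.id G)) → ConjClasses ↥(F.eqLocus (MonoidHom.id G)) :=
    fun a => ConjClasses.mk ⟨(pre a)⁻¹ * F (pre a), fix_right F (hpre' a)⟩
  have key : ∀ (a : ↥(F.eqLocus (MonoidHom.id G))) (g c : G), F c = c →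
      c * (a : G) = (F g * g⁻¹) * c → ∀ h' : F (g⁻¹ * F g) = g⁻¹ * F g,
      f a = ConjClasses.mk ⟨g⁻¹ * F g, h'⟩ := by
    intro a g c hc h h'
    rw [← hpre a] at h
    obtain ⟨d, hd, e⟩ := transport F hc h
    exact mk_eq F d hd e
  refine ⟨Quotient.lift f ?_, ⟨?_, ?_⟩, fun g h h' => key ⟨_, h⟩ g 1 (map_one F) (by simp) h'⟩
  · intro a b hab
    obtain ⟨c, hc⟩ := isConj_iff.1 hab
    refine key a (pre b) c c.2 ?_ _
    rw [hpre b, ← hc]; simp
  · intro A B
    induction A using Quotient.inductionOn with | h a => ?_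
    induction B using Quotient.inductionOn with | h b => ?_
    intro hAB
    obtain ⟨d, hd⟩ := isConj_iff.1 (ConjClasses.mk_eq_mk_iff_isConj.1 hAB)
    obtain ⟨c, hc, e⟩ := transport' F (g := pre a) (g' := pre b) d.2 (by
      have := congrArg Subtype.val hd
      simp only [Subgroup.coe_mul, Subgroup.coe_inv] at this
      rw [← this]; group)
    rw [hpre, hpre] at e
    exact mk_eq F c hc e
  · intro B
    induction B using Quotient.inductionOn with | h b => ?_
    obtain ⟨g, hg⟩ := hL (b : G)⁻¹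
    have hb : g⁻¹⁻¹ * F g⁻¹ = (b : G) := by
      rw [map_inv, ← inv_inv (b : G), ← hg]; group
    have h' : F (g⁻¹⁻¹ * F g⁻¹) = g⁻¹⁻¹ * F g⁻¹ := by rw [hb]; exact b.2
    refine ⟨ConjClasses.mk ⟨F g⁻¹ * g⁻¹⁻¹, fix_left F h'⟩, (key _ g⁻¹ 1 (map_one F) (by simp) h').trans ?_⟩
    exact congrArg ConjClasses.mk (Subtype.ext hb)

end Groth.Agent.S8625
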