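import Groth.Statements.S8626
-- import your own Groth.Agent.* helpers here

set_option autoImplicit false
universe v v' u u'
open CategoryTheory CategoryTheory.Limits
open SGA4h

namespace Groth.Agent.S8626

section

open HomologicalComplex

variable {A : Type u} [Category.{v} A] [Abelian A]
  (L : CochainComplex A ℕ) (O : A → A) (emb : ∀ Y, Y ⟶ O Y)

/-- a stage: an object retracting onto the cycles of `L` in degree `n` -/
structure Stage (n : ℕ) : Type (max u v) where
  Q : A
  t : L.cycles n ⟶ Q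
  ρ : Q ⟶ L.cycles n
  retract : t ≫ ρ = 𝟙 _

variable {L O}

noncomputable abbrev Stage.obj {n : ℕ} (S : Stage L n) : A :=
  O (pushout S.t (L.iCycles n))

noncomputable def Stage.j {n : ℕ} (S : Stage L n) : S.Q ⟶ S.obj (O := O) :=
  pushout.inl S.t (L.iCycles n) ≫ emb _

noncomputable def Stage.s {n : ℕ} (S : Stage L n) : L.X n ⟶ S.obj (O := O) :=
  pushout.inr S.t (L.iCycles n) ≫ emb _

theorem Stage.comm {n : ℕ} (S : Stage L n) : L.iCycles n ≫ S.s emb = S.t ≫ S.j emb := by
  simp only [Stage.s, Stage.j]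
  rw [← Category.assoc, ← Category.assoc, pushout.condition]

variable [∀ Y, Mono (emb Y)]

instance {n : ℕ} (S : Stage L n) : Mono (S.j emb) := by
  have : Mono (pushout.inl S.t (L.iCycles n)) := inferInstance
  exact mono_comp _ _

variable [∀ n, Injective (L.X n)]

noncomputable def Stage.r (emb : ∀ Y, Y ⟶ O Y) [∀ Y, Mono (emb Y)] {n : ℕ} (S : Stage L n) : S.obj (O := O) ⟶ L.X n :=
  Injective.factorThru
    (pushout.desc (S.ρ ≫ L.iCycles n) (𝟙 _) (by rw [← Category.assoc, S.retract, Category.id_comp, Category.comp_id]))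
    (emb _)

theorem Stage.s_r {n : ℕ} (S : Stage L n) : S.s emb ≫ Stage.r emb S = 𝟙 _ := by
  simp [Stage.s, Stage.r]
  exact pushout.inr_desc _ _ _

theorem Stage.j_r {n : ℕ} (S : Stage L n) : S.j emb ≫ Stage.r emb S = S.ρ ≫ L.iCycles n := by
  simp [Stage.j, Stage.r]
  exact pushout.inl_desc _ _ _

theorem exact_iCycles_toCycles (n : ℕ) :
    (ShortComplex.mk (L.iCycles n) (L.toCycles n (n + 1)) (by
      rw [← cancel_mono (L.iCycles (n + 1))]; simp)).Exact := by
  refine ShortComplex.exact_of_f_is_kernel _ ?_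
  exact Fork.IsLimit.mk _ (fun c => L.liftCycles c.ι (n + 1) (by simp) (by
      have hc : c.ι ≫ L.toCycles n (n + 1) = 0 := KernelFork.condition c
      refine ((congrArg (c.ι ≫ ·) (L.toCycles_i n (n + 1))).symm.trans ?_)
      exact (Category.assoc _ _ _).symm.trans ((congrArg (· ≫ _) hc).trans zero_comp)))
    (fun c => L.liftCycles_i _ _ _ _)
    (fun c m hm => by rw [← cancel_mono (L.iCycles n), L.liftCycles_i]; exact hm)

variable (hL : ∀ n, L.ExactAt (n + 1))

include hL in
theorem epi_toCycles (n : ℕ) : Epi (L.toCycles n (n + 1)) := by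
  refine Preadditive.epi_of_cancel_zero _ fun g hg => ?_
  obtain ⟨l, hl⟩ := CokernelCofork.IsColimit.desc' (L.homologyIsCokernel n (n + 1) (by simp)) g hg
  rw [← hl, show l = 0 from ((exactAt_iff_isZero_homology _ _).1 (hL n)).eq_of_src _ _, comp_zero]

/-- the cycles in degree `n + 1` as a cokernel -/
noncomputable def descCycles (n : ℕ) {T : A} (g : L.X n ⟶ T) (hg : L.iCycles n ≫ g = 0) :
    L.cycles (n + 1) ⟶ T :=
  haveI := epi_toCycles hL n
  (exact_iCycles_toCycles n).desc g hg

theorem toCycles_descCycles (n : ℕ) {T : A} (g : L.X n ⟶ T) (hg : L.iCycles n ≫ g = 0) :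
    L.toCycles n (n + 1) ≫ descCycles hL n g hg = g :=
  haveI := epi_toCycles hL n
  (exact_iCycles_toCycles n).g_desc g hg

noncomputable def Stage.next {n : ℕ} (S : Stage L n) : Stage L (n + 1) where
  Q := cokernel (S.j emb)
  t := descCycles hL n (S.s emb ≫ cokernel.π _) (by
    rw [← Category.assoc, S.comm, Category.assoc, cokernel.condition, comp_zero])
  ρ := cokernel.desc _ (Stage.r emb S ≫ L.toCycles n (n + 1)) (by
    refine (Category.assoc _ _ _).symm.trans ((congrArg (· ≫ L.toCycles n (n + 1)) (Stage.j_r emb S)).trans ?_)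
    change (S.ρ ≫ L.iCycles n) ≫ L.toCycles n (n + 1) = 0
    rw [Category.assoc,
      show L.iCycles n ≫ L.toCycles n (n + 1) = 0 by rw [← cancel_mono (L.iCycles (n + 1))]; simp, comp_zero])
  retract := by
    haveI := epi_toCycles hL n
    rw [← cancel_epi (L.toCycles n (n + 1)), ← Category.assoc, toCycles_descCycles, Category.assoc,
      cokernel.π_desc]
    refine (Category.assoc _ _ _).symm.trans ((congrArg (· ≫ L.toCycles n (n + 1)) (Stage.s_r emb S)).trans ?_)
    exact (Category.id_comp _).trans (Category.comp_id _).symm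

variable (S₀ : Stage L 0)

noncomputable def stage : ∀ n, Stage L n
  | 0 => S₀
  | n + 1 => (stage n).next emb hL

noncomputable abbrev dJ (n : ℕ) :
    (stage emb hL S₀ n).obj (O := O) ⟶ (stage emb hL S₀ (n + 1)).obj (O := O) :=
  cokernel.π ((stage emb hL S₀ n).j emb) ≫ (stage emb hL S₀ (n + 1)).j emb

theorem dJ_dJ (n : ℕ) : dJ emb hL S₀ n ≫ dJ emb hL S₀ (n + 1) = 0 := by
  exact (Category.assoc _ _ _).trans ((congrArg (cokernel.π ((stage emb hL S₀ n).j emb) ≫ ·)
    ((cokernel.condition_assoc ((stage emb hL S₀ (n + 1)).j emb) _).trans zero_comp)).trans comp_zero)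

/-- the `𝒪`-resolution -/
noncomputable abbrev J : CochainComplex A ℕ :=
  CochainComplex.of (fun n => (stage emb hL S₀ n).obj (O := O)) (dJ emb hL S₀) (dJ_dJ emb hL S₀)

/-- the augmented resolution -/
noncomputable def KX : ℕ → A
  | 0 => S₀.Q
  | n + 1 => (stage emb hL S₀ n).obj (O := O)

noncomputable def dK : ∀ n, KX emb hL S₀ n ⟶ KX emb hL S₀ (n + 1)
  | 0 => S₀.j emb
  | n + 1 => dJ emb hL S₀ n

theorem dK_dK : ∀ n, dK emb hL S₀ n ≫ dK emb hL S₀ (n + 1) = 0
  | 0 => by
    change S₀.j emb ≫ cokernel.π (S₀.j emb) ≫ _ = 0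
    exact (cokernel.condition_assoc (S₀.j emb) _).trans zero_comp
  | n + 1 => dJ_dJ emb hL S₀ n

noncomputable def K : CochainComplex A ℕ := CochainComplex.of (KX emb hL S₀) (dK emb hL S₀) (dK_dK emb hL S₀)

theorem K_d (n : ℕ) : (K emb hL S₀).d n (n + 1) = dK emb hL S₀ n := CochainComplex.of_d (KX emb hL S₀) (dK emb hL S₀) n

theorem J_d (n : ℕ) : (J emb hL S₀).d n (n + 1) = dJ emb hL S₀ n :=
  CochainComplex.of_d (fun n => (stage emb hL S₀ n).obj (O := O)) (dJ emb hL S₀) n

theorem exact_j_dJ (n : ℕ) :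
    (ShortComplex.mk ((stage emb hL S₀ n).j emb) (dJ emb hL S₀ n)
      (by simp only [dJ]; exact (cokernel.condition_assoc _ _).trans zero_comp)).Exact := by
  have h := ShortComplex.exact_of_g_is_cokernel (ShortComplex.mk _ _ (cokernel.condition _))
    (cokernelIsCokernel ((stage emb hL S₀ n).j emb))
  let φ : ShortComplex.mk ((stage emb hL S₀ n).j emb) (cokernel.π _) (cokernel.condition _) ⟶
      ShortComplex.mk ((stage emb hL S₀ n).j emb) (dJ emb hL S₀ n)
        (by simp only [dJ]; exact (cokernel.condition_assoc _ _).trans zero_comp) :=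
    ShortComplex.homMk (𝟙 _) (𝟙 _) ((stage emb hL S₀ (n + 1)).j emb)
      ((Category.id_comp _).trans (Category.comp_id _).symm) (Category.id_comp _)
  haveI : Epi φ.τ₁ := inferInstanceAs (Epi (𝟙 _))
  haveI : IsIso φ.τ₂ := inferInstanceAs (IsIso (𝟙 _))
  haveI : Mono φ.τ₃ := inferInstanceAs (Mono ((stage emb hL S₀ (n + 1)).j emb))
  exact (ShortComplex.exact_iff_of_epi_of_isIso_of_mono φ).1 h

theorem K_acyclic : (K emb hL S₀).Acyclic := by
  intro n
  rcases n with _ | _ | n
  · rw [HomologicalComplex.exactAt_iff' _ 0 0 1 (by simp) (by simp)]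
    refine (ShortComplex.exact_iff_mono _ ((K emb hL S₀).shape 0 0 (fun h : (0 : ℕ) + 1 = 0 => Nat.one_ne_zero h))).2 ?_
    change Mono ((K emb hL S₀).d 0 (0 + 1))
    rw [K_d]
    exact inferInstanceAs (Mono (S₀.j emb))
  · rw [HomologicalComplex.exactAt_iff' _ 0 1 2 (by simp) (by simp)]
    refine ShortComplex.exact_of_iso (ShortComplex.isoMk
      (S₁ := ShortComplex.mk ((stage emb hL S₀ 0).j emb) (dJ emb hL S₀ 0)
        (by simp only [dJ]; exact (cokernel.condition_assoc _ _).trans zero_comp))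
      (S₂ := (K emb hL S₀).sc' 0 1 2) (Iso.refl _) (Iso.refl _) (Iso.refl _) ?_ ?_) (exact_j_dJ emb hL S₀ 0)
    · exact (Category.id_comp _).trans ((K_d emb hL S₀ 0).trans (Category.comp_id _).symm)
    · exact (Category.id_comp _).trans ((K_d emb hL S₀ 1).trans (Category.comp_id _).symm)
  · rw [HomologicalComplex.exactAt_iff' _ (n + 1) (n + 2) (n + 3) (by simp) (by simp)]
    let φ : (K emb hL S₀).sc' (n + 1) (n + 2) (n + 3) ⟶
        ShortComplex.mk ((stage emb hL S₀ (n + 1)).j emb) (dJ emb hL S₀ (n + 1))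
          (by simp only [dJ]; exact (cokernel.condition_assoc _ _).trans zero_comp) :=
      ShortComplex.homMk (cokernel.π ((stage emb hL S₀ n).j emb)) (𝟙 _) (𝟙 _)
        (((Category.comp_id _).trans (K_d emb hL S₀ (n + 1))).symm)
        ((Category.id_comp _).trans ((K_d emb hL S₀ (n + 2)).symm.trans (Category.comp_id _).symm))
    haveI : Epi φ.τ₁ := inferInstanceAs (Epi (cokernel.π ((stage emb hL S₀ n).j emb)))
    haveI : IsIso φ.τ₂ := inferInstanceAs (IsIso (𝟙 _))
    haveI : Mono φ.τ₃ := inferInstanceAs (Mono (𝟙 _))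
    exact (ShortComplex.exact_iff_of_epi_of_isIso_of_mono φ).2 (exact_j_dJ emb hL S₀ (n + 1))

/-- `L` maps to the resolution -/
noncomputable def sHom : L ⟶ J emb hL S₀ where
  f n := (stage emb hL S₀ n).s emb
  comm' i j hij := by
    obtain rfl : i + 1 = j := hij
    exact (congrArg ((stage emb hL S₀ i).s emb ≫ ·) (J_d emb hL S₀ i)).trans
      ((Category.assoc _ _ _).symm.trans
        ((congrArg (· ≫ (stage emb hL S₀ (i + 1)).j emb) (toCycles_descCycles hL i _ _).symm).trans
          ((Category.assoc _ _ _).trans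
            ((congrArg (L.toCycles i (i + 1) ≫ ·) (Stage.comm emb (stage emb hL S₀ (i + 1))).symm).trans
              ((Category.assoc _ _ _).symm.trans
                (congrArg (· ≫ (stage emb hL S₀ (i + 1)).s emb) (L.toCycles_i i (i + 1))))))))

/-- the resolution retracts to `L` -/
noncomputable def rHom : J emb hL S₀ ⟶ L where
  f n := Stage.r emb (stage emb hL S₀ n)
  comm' i j hij := by
    obtain rfl : i + 1 = j := hij
    exact ((congrArg (· ≫ Stage.r emb (stage emb hL S₀ (i + 1))) (J_d emb hL S₀ i)).trans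
      ((Category.assoc _ _ _).trans
        ((congrArg (cokernel.π ((stage emb hL S₀ i).j emb) ≫ ·) (Stage.j_r emb (stage emb hL S₀ (i + 1)))).trans
          ((Category.assoc _ _ _).symm.trans
            ((congrArg (· ≫ L.iCycles (i + 1)) (cokernel.π_desc _ _ _)).trans
              ((Category.assoc _ _ _).trans
                (congrArg (Stage.r emb (stage emb hL S₀ i) ≫ ·) (L.toCycles_i i (i + 1))))))))).symm

theorem sHom_rHom : sHom emb hL S₀ ≫ rHom emb hL S₀ = 𝟙 L :=
  HomologicalComplex.hom_ext _ _ fun n => Stage.s_r emb _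

end


/-- Acyclicity assertion; A with enough injectives so that R^n f is the usual right derived functor: let
f : A → B be an additive functor between abelian categories and 𝒪 a class of objects of A, stable
under binary direct sums, such that (1) f carries every acyclic bounded-below cochain complex of
objects of 𝒪 (indexed by ℕ, exact in every degree, in degree 0 meaning the first differential is a
monomorphism) to an acyclic complex, and (2) every object of A admits a monomorphism into a member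
of 𝒪. Then every member of 𝒪 is right f-acyclic: R^n f(X) = 0 for all n > 0. -/
theorem result {A : Type u} [Category.{v} A] [Abelian A] [EnoughInjectives A]
    {B : Type u'} [Category.{v'} B] [Abelian B] (f : A ⥤ B) [f.Additive] (𝒪 : ObjectProperty A)
    (h0 : ∀ X Y : A, 𝒪 X → 𝒪 Y → 𝒪 (X ⊞ Y))
    (h1 : ∀ K : CochainComplex A ℕ, (∀ i, 𝒪 (K.X i)) → K.Acyclic →
      ((f.mapHomologicalComplex (ComplexShape.up ℕ)).obj K).Acyclic)
    (h2 : ∀ X : A, ∃ (Y : A) (i : X ⟶ Y), 𝒪 Y ∧ Mono i)
    (X : A) (hX : 𝒪 X) (n : ℕ) (hn : 0 < n) :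
    IsZero ((f.rightDerived n).obj X) := by
  classical
  choose O emb hO hmono using h2
  haveI := hmono
  let I := injectiveResolution X
  have hL : ∀ n, I.cocomplex.ExactAt (n + 1) := I.cocomplex_exactAt_succ
  let e : X ≅ I.cocomplex.cycles 0 :=
    IsLimit.conePointUniqueUpToIso I.isLimitKernelFork (I.cocomplex.cyclesIsKernel 0 1 (by simp))
  let S₀ : Stage I.cocomplex 0 := ⟨X, e.inv, e.hom, e.inv_hom_id⟩
  have hK : ∀ i, 𝒪 ((K emb hL S₀).X i) := fun i => by
    cases i with
    | zero => exact hX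
    | succ i => exact hO _
  have hfK := h1 (K emb hL S₀) hK (K_acyclic emb hL S₀)
  obtain ⟨m, rfl⟩ : ∃ m, n = m + 1 := ⟨n - 1, by omega⟩
  have hfJ : ((f.mapHomologicalComplex _).obj (J emb hL S₀)).ExactAt (m + 1) := by
    have := hfK (m + 2)
    rw [HomologicalComplex.exactAt_iff' _ (m + 1) (m + 2) (m + 3) (by simp) (by simp)] at this
    rw [HomologicalComplex.exactAt_iff' _ m (m + 1) (m + 2) (by simp) (by simp)]
    refine ShortComplex.exact_of_iso (ShortComplex.isoMk
      (S₁ := ((f.mapHomologicalComplex _).obj (K emb hL S₀)).sc' (m + 1) (m + 2) (m + 3))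
      (S₂ := ((f.mapHomologicalComplex _).obj (J emb hL S₀)).sc' m (m + 1) (m + 2))
      (Iso.refl _) (Iso.refl _) (Iso.refl _) ?_ ?_) this
    · exact (Category.id_comp _).trans ((congrArg f.map ((J_d emb hL S₀ m).trans (K_d emb hL S₀ (m + 1)).symm)).trans
        (Category.comp_id _).symm)
    · exact (Category.id_comp _).trans ((congrArg f.map ((J_d emb hL S₀ (m + 1)).trans (K_d emb hL S₀ (m + 2)).symm)).trans
        (Category.comp_id _).symm)
  refine IsZero.of_iso ?_ (I.isoRightDerivedObj f (m + 1))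
  rw [IsZero.iff_id_eq_zero]
  let G := f.mapHomologicalComplex (ComplexShape.up ℕ) ⋙ HomologicalComplex.homologyFunctor B _ (m + 1)
  change 𝟙 (G.obj I.cocomplex) = 0
  rw [← G.map_id, ← sHom_rHom emb hL S₀, G.map_comp]
  have : IsZero (G.obj (J emb hL S₀)) := (HomologicalComplex.exactAt_iff_isZero_homology _ _).1 hfJ
  rw [this.eq_of_tgt (G.map (sHom emb hL S₀)) 0, zero_comp]

end Groth.Agent.S8626
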