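import Groth.Statements.S8630
import Mathlib

set_option autoImplicit false
open Zeta

namespace Groth.Agent.S8630

/-- Fatou's lemma: let P, Q ∈ ℚ[T] be coprime with constant coefficient 1, and suppose the power series
P/Q has integer coefficients, i.e. P = Q·Z in ℚ⟦T⟧ for a power series Z with coefficients in ℤ. Then
P and Q have integer coefficients. -/
theorem result (P Q : Polynomial ℚ)
    (hPQ : IsCoprime P Q) (hP : P.coeff 0 = 1) (hQ : Q.coeff 0 = 1) (Z : PowerSeries ℤ)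
    (hZ : (P : PowerSeries ℚ) = (Q : PowerSeries ℚ) * PowerSeries.map (Int.castRingHom ℚ) Z) :
    (∃ P₀ : Polynomial ℤ, P₀.map (Int.castRingHom ℚ) = P) ∧
      ∃ Q₀ : Polynomial ℤ, Q₀.map (Int.castRingHom ℚ) = Q := by
  classical
  obtain ⟨a, b, hab⟩ := hPQ
  -- clearing denominators
  have clear : ∀ (f : Polynomial ℚ), ∃ (m : ℤ) (f₁ : Polynomial ℤ), m ≠ 0 ∧
      f₁.map (Int.castRingHom ℚ) = Polynomial.C (m : ℚ) * f := fun f => by
    obtain ⟨⟨m, hm⟩, hmf⟩ := IsLocalization.integerNormalization_map_to_map (nonZeroDivisors ℤ) f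
    refine ⟨m, IsLocalization.integerNormalization (nonZeroDivisors ℤ) f, nonZeroDivisors.ne_zero hm, ?_⟩
    rw [show Int.castRingHom ℚ = algebraMap ℤ ℚ from rfl, hmf]
    show (m : ℤ) • f = _
    rw [zsmul_eq_mul, map_intCast]
  obtain ⟨m, Q₂, hm, hQ₂⟩ := clear Q
  let Q₁ := Q₂.primPart
  have hQ₁p : Q₁.IsPrimitive := Q₂.isPrimitive_primPart
  have hQ₁ : Q₁.map (Int.castRingHom ℚ) = Polynomial.C ((Q₁.coeff 0 : ℤ) : ℚ) * Q := by
    have h := hQ₂
    rw [Q₂.eq_C_content_mul_primPart, Polynomial.map_mul, Polynomial.map_C] at h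
    have hc : ((Q₂.content : ℤ) : ℚ) ≠ 0 := by
      intro h0
      have h1 : Q₂ = 0 := Polynomial.content_eq_zero_iff.mp (by exact_mod_cast h0)
      have h2 := congrArg (fun f => Polynomial.coeff f 0) hQ₂
      simp [h1, hQ] at h2
      exact hm (Int.cast_eq_zero.mp h2.symm)
    have h0 := congrArg (fun f => Polynomial.coeff f 0) h
    simp only [Polynomial.coeff_C_mul, Polynomial.coeff_map, hQ, mul_one, eq_intCast] at h0
    refine mul_left_cancel₀ (Polynomial.C_ne_zero.mpr hc) ?_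
    rw [← mul_assoc, ← map_mul, h0]
    exact h
  have hd : Q₁.coeff 0 ≠ 0 := fun h0 => by
    rw [h0, Int.cast_zero, map_zero, zero_mul, ← Polynomial.map_zero (Int.castRingHom ℚ)] at hQ₁
    exact hQ₁p.ne_zero (Polynomial.map_injective _ Int.cast_injective hQ₁)
  -- the key: `c = Q₁ H` forces the constant term of `Q₁` to be a unit
  have key : ∀ (N : ℕ) (c : ℤ) (H : PowerSeries ℤ), c.natAbs ≤ N → c ≠ 0 →
      (Q₁ : PowerSeries ℤ) * H = PowerSeries.C c → IsUnit (Q₁.coeff 0) := by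
    intro N
    induction N with
    | zero => intro c H hc hc0 _; exact absurd (Int.natAbs_eq_zero.mp (Nat.le_zero.mp hc)) hc0
    | succ N ih =>
      intro c H hc hc0 h
      by_contra hu
      obtain ⟨ℓ, hℓ, hℓd⟩ := Nat.exists_prime_and_dvd (show (Q₁.coeff 0).natAbs ≠ 1 from
        fun h1 => hu (Int.isUnit_iff_natAbs_eq.mpr h1))
      haveI := Fact.mk hℓ
      let r := Int.castRingHom (ZMod ℓ)
      have hr : r (Q₁.coeff 0) = 0 := (ZMod.intCast_zmod_eq_zero_iff_dvd _ _).mpr (Int.natCast_dvd.mpr hℓd)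
      have hQr : PowerSeries.map r (Q₁ : PowerSeries ℤ) ≠ 0 := fun h0 => by
        obtain ⟨u, hu'⟩ : ∃ u : ℕ → ℤ, ∀ i, Q₁.coeff i = (ℓ : ℤ) * u i := by
          refine ⟨fun i => Q₁.coeff i / ℓ, fun i => (Int.mul_ediv_cancel' ?_).symm⟩
          have := congrArg (PowerSeries.coeff i) h0
          rw [PowerSeries.coeff_map, map_zero, Polynomial.coeff_coe] at this
          exact (ZMod.intCast_zmod_eq_zero_iff_dvd _ _).mp this
        have h1 := hQ₁p (ℓ : ℤ) (Polynomial.C_dvd_iff_dvd_coeff _ _ |>.mpr fun i => ⟨u i, hu' i⟩)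
        rw [Int.isUnit_iff_natAbs_eq, Int.natAbs_natCast] at h1
        exact hℓ.one_lt.ne' h1
      have hcr : r c = 0 := by
        have h1 := congrArg (PowerSeries.constantCoeff) h
        rw [map_mul, PowerSeries.constantCoeff_C, ← PowerSeries.coeff_zero_eq_constantCoeff_apply, Polynomial.coeff_coe] at h1
        rw [← h1, map_mul, hr, zero_mul]
      obtain ⟨c', rfl⟩ : (ℓ : ℤ) ∣ c := (ZMod.intCast_zmod_eq_zero_iff_dvd _ _).mp hcr
      have hH : PowerSeries.map r H = 0 := by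
        have h1 := congrArg (PowerSeries.map r) h
        rw [map_mul, PowerSeries.map_C, hcr, map_zero] at h1
        exact (mul_eq_zero.mp h1).resolve_left hQr
      choose H' hH' using fun i => (ZMod.intCast_zmod_eq_zero_iff_dvd (PowerSeries.coeff i H) ℓ).mp (by
        have := congrArg (PowerSeries.coeff i) hH
        rwa [PowerSeries.coeff_map, map_zero] at this)
      have hc' : c' ≠ 0 := right_ne_zero_of_mul hc0
      refine hu (ih c' (PowerSeries.mk H') ?_ hc' ?_)
      · rw [Int.natAbs_mul, Int.natAbs_natCast] at hc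
        have h1 : 0 < c'.natAbs := Int.natAbs_pos.mpr hc'
        have h2 : 2 * c'.natAbs ≤ ℓ * c'.natAbs := Nat.mul_le_mul_right _ hℓ.two_le
        omega
      · have hHe : H = PowerSeries.C (ℓ : ℤ) * PowerSeries.mk H' := by
          ext i; rw [PowerSeries.coeff_C_mul, PowerSeries.coeff_mk]; exact hH' i
        refine mul_left_cancel₀ (a := PowerSeries.C (ℓ : ℤ)) ?_ ?_
        · intro h0
          have := congrArg PowerSeries.constantCoeff h0
          simp [hℓ.ne_zero] at this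
        · rw [← map_mul, ← h, hHe]; ring
  obtain ⟨ma, a₁, hma, ha₁⟩ := clear a
  obtain ⟨mb, b₁, hmb, hb₁⟩ := clear b
  let H : PowerSeries ℤ := PowerSeries.C mb * (a₁ : PowerSeries ℤ) * Z + PowerSeries.C ma * (b₁ : PowerSeries ℤ)
  have hinjM : Function.Injective (PowerSeries.map (Int.castRingHom ℚ)) := PowerSeries.map_injective _ Int.cast_injective
  have coeMap : ∀ f : Polynomial ℤ, PowerSeries.map (Int.castRingHom ℚ) (f : PowerSeries ℤ) =
      ((f.map (Int.castRingHom ℚ) : Polynomial ℚ) : PowerSeries ℚ) := fun f => (Polynomial.polynomial_map_coe).symm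
  have hU : IsUnit (Q₁.coeff 0) := by
    refine key _ (ma * mb * Q₁.coeff 0) H le_rfl (mul_ne_zero (mul_ne_zero hma hmb) hd) (hinjM ?_)
    have hab' : (a : PowerSeries ℚ) * P + (b : PowerSeries ℚ) * Q = 1 := by
      rw [← Polynomial.coe_mul, ← Polynomial.coe_mul, ← Polynomial.coe_add, hab, Polynomial.coe_one]
    simp only [H, map_mul, map_add, PowerSeries.map_C, coeMap, hQ₁, ha₁, hb₁, Int.coe_castRingHom, Polynomial.coe_mul,
      Polynomial.coe_C, Int.cast_mul]
    linear_combination (PowerSeries.C (ma : ℚ) * PowerSeries.C (mb : ℚ) * PowerSeries.C ((Q₁.coeff 0 : ℤ) : ℚ)) * hab' +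
      (-(PowerSeries.C (ma : ℚ) * PowerSeries.C (mb : ℚ) * PowerSeries.C ((Q₁.coeff 0 : ℤ) : ℚ) * (a : PowerSeries ℚ))) * hZ
  obtain ⟨v, hv⟩ := hU.exists_left_inv
  let Q₀ : Polynomial ℤ := Polynomial.C v * Q₁
  have hQ₀ : Q₀.map (Int.castRingHom ℚ) = Q := by
    rw [Polynomial.map_mul, Polynomial.map_C, hQ₁, ← mul_assoc, ← map_mul, eq_intCast, ← Int.cast_mul, hv,
      Int.cast_one, map_one, one_mul]
  refine ⟨⟨PowerSeries.trunc (P.natDegree + 1) ((Q₀ : PowerSeries ℤ) * Z), ?_⟩, Q₀, hQ₀⟩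
  ext n
  rw [Polynomial.coeff_map, PowerSeries.coeff_trunc]
  split_ifs with hn
  · rw [← PowerSeries.coeff_map, map_mul, coeMap, hQ₀, ← hZ, Polynomial.coeff_coe]
  · rw [map_zero, Polynomial.coeff_eq_zero_of_natDegree_lt (by omega)]

end Groth.Agent.S8630
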