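import Groth.Statements.S8650
import Groth.Agent.Lambda.Series

set_option autoImplicit false
universe u
open Finset
open LambdaRing

namespace Groth.Agent.S8650

/-- Let K be a pre-λ-ring (λ^0 = 1, λ^1 = id, additive formula) in which λ^k(1) = 0 for all k ≥ 2. Then
for every x ∈ K and every n, λ^n(x + n − 1) = (−1)^n Σ_{i=0}^{n} (−1)^i λ^i(x + n). (The published
statement is for a λ-ring; its proof uses only additivity and λ_t(1) = 1 + t, the hypotheses taken
here.) -/
theorem result (K : Type u) [CommRing K] [LambdaRing.LambdaOps K]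
    (h1 : ∀ k : ℕ, 2 ≤ k → LambdaRing.LambdaOps.lam k (1 : K) = 0) (n : ℕ) (x : K) :
    LambdaRing.LambdaOps.lam n (x + (n : K) - 1) =
      (-1 : K) ^ n * ∑ i ∈ range (n + 1), (-1 : K) ^ i * LambdaRing.LambdaOps.lam i (x + (n : K)) := by
  induction n with
  | zero => simp [LambdaOps.lam_zero]
  | succ m ih =>
    have hstep : ∀ (z : K) (i : ℕ),
        LambdaOps.lam (i + 1) (z + 1) = LambdaOps.lam (i + 1) z + LambdaOps.lam i z := by
      intro z i
      rw [LambdaOps.lam_add, sum_range_succ, sum_range_succ, sum_eq_zero]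
      · simp [LambdaOps.lam_zero, LambdaOps.lam_one]; ring
      · intro j hj
        rw [mem_range] at hj
        rw [h1 _ (by omega), mul_zero]
    have hgen : ∀ (z : K) (p : ℕ), LambdaOps.lam p z =
        (-1 : K) ^ p * ∑ i ∈ range (p + 1), (-1 : K) ^ i * LambdaOps.lam i (z + 1) := by
      intro z p
      induction p with
      | zero => simp [LambdaOps.lam_zero]
      | succ p ihp =>
        rw [sum_range_succ, mul_add, pow_succ, mul_assoc ((-1 : K) ^ p), mul_left_comm ((-1 : K) ^ p),
          ← ihp, hstep]
        have : ((-1 : K) ^ p) * ((-1 : K) ^ p) = 1 := by rw [← mul_pow]; simp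
        linear_combination (-(LambdaOps.lam (p + 1) z + LambdaOps.lam p z)) * this
    simpa using hgen (x + ((m + 1 : ℕ) : K) - 1) (m + 1)

end Groth.Agent.S8650
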