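import Groth.Statements.S8665
import Groth.Agent.H28.KvbAmple
import Groth.Agent.H28.AugNilp
-- import your own Groth.Agent.* helpers here

set_option autoImplicit false
universe v u
open CategoryTheory CategoryTheory.Limits AlgebraicGeometry
attribute [local instance] HasDerivedCategory.standard
open KRR

namespace Groth.Agent.S8665

/-- Let X be a connected quasi-compact scheme with an ample invertible O_X-module L, and (K, P, φ) a
model of the λ-ring K(X) of finite locally free O_X-modules with its positive structure
(augmentation = rank). Then every x ∈ K(X) of augmentation zero is nilpotent: the augmentation ideal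
F^1 K(X) is a nil ideal. (The published statement allows X disconnected, with the augmentation
taking values in the locally constant integer-valued functions H^0(X, ℤ); this row takes X
connected, as the model requires.) -/
theorem result (X : Scheme.{u}) [ConnectedSpace ↥X] (L : X.Modules) (hL : CohB1.IsAmple L)
    (K : Type v) [CommRing K] [LambdaRing.LambdaOps K] (P : LambdaRing.PosStructure K) (φ : SGA6.Kvb X →+ K) (hK : KRR.IsModel X K P φ)
    (x : K) (hx : P.aug x = 0) : IsNilpotent x := by
  exact Groth.Agent.H28.AugNilp.isNilpotent (Groth.Agent.H28.KvbAmple.isAmpleElt P φ hK L hL) hx

end Groth.Agent.S8665
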