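import Groth.Statements.S8666
import Mathlib

set_option autoImplicit false
universe u
open CAlg

namespace Groth.Agent.S8666
open Pointwise in
lemma exists_locIso {A : Type u} [CommRing A] {M : Type u} [AddCommGroup M] [Module A M] [Module.Invertible A M]
    (P : Ideal A) [P.IsPrime] :
    Nonempty (LocalizedModule P.primeCompl M ≃ₗ[Localization.AtPrime P] Localization.AtPrime P) :=
  Module.Invertible.free_iff_linearEquiv.mp inferInstance

lemma span_top_iff {A : Type u} [CommRing A] {M : Type u} [AddCommGroup M] [Module A M]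
    (P : Ideal A) [P.IsPrime]
    (φ : LocalizedModule P.primeCompl M ≃ₗ[Localization.AtPrime P] Localization.AtPrime P)
    (x : LocalizedModule P.primeCompl M) :
    Submodule.span (Localization.AtPrime P) {x} = ⊤ ↔ IsUnit (φ x) := by
  rw [← Ideal.span_singleton_eq_top, ← (Submodule.map_injective_of_injective (f := φ.toLinearMap) φ.injective).eq_iff,
    Submodule.map_span, Set.image_singleton, Submodule.map_top, LinearEquiv.range]
  rfl


/-- Let A be a Noetherian ring, M an invertible A-module and p_1, …, p_k finitely many primes of A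
(points of Spec A). Then there is a single element s ∈ M whose image generates M_{p_i} as an
A_{p_i}-module for every i, i.e. s is a basis of the stalk of M at each of the given points. -/
theorem result (A : Type u) [CommRing A] [IsNoetherianRing A]
    (M : Type u) [AddCommGroup M] [Module A M] [Module.Invertible A M] (ι : Type) [Finite ι] (p : ι → PrimeSpectrum A) :
    ∃ s : M, ∀ i : ι, Submodule.span (Localization.AtPrime (p i).asIdeal)
      {LocalizedModule.mkLinearMap (p i).asIdeal.primeCompl M s} = ⊤ := by
  classical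
  let : Fintype ι := Fintype.ofFinite ι
  let T : Finset (Ideal A) := Finset.univ.image fun i => (p i).asIdeal
  let S : Finset (Ideal A) := T.filter fun P => ∀ Q ∈ T, P ≤ Q → Q = P
  have hSprime : ∀ P ∈ S, P.IsPrime := fun P hP => by
    obtain ⟨i, -, rfl⟩ := Finset.mem_image.mp (Finset.mem_filter.mp hP).1
    exact (p i).isPrime
  have hgen : ∀ P : S, ∃ m : M, haveI := hSprime P P.2
      Submodule.span (Localization.AtPrime P.1) {LocalizedModule.mkLinearMap P.1.primeCompl M m} = ⊤ := by
    intro P
    have := hSprime P P.2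
    obtain ⟨φ⟩ := exists_locIso (M := M) P.1
    by_contra hne
    push Not at hne
    have hall : ∀ x, φ x ∈ IsLocalRing.maximalIdeal (Localization.AtPrime P.1) := by
      intro x
      induction x using LocalizedModule.induction_on with
      | h m t =>
        have h1 : (t : A) • LocalizedModule.mk m t = LocalizedModule.mkLinearMap P.1.primeCompl M m :=
          IsLocalizedModule.mk'_cancel' (LocalizedModule.mkLinearMap P.1.primeCompl M) m t |> fun h => by
            rwa [← IsLocalizedModule.mk_eq_mk'] at h
        have h2 : ¬ IsUnit (φ (LocalizedModule.mkLinearMap P.1.primeCompl M m)) :=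
          fun h => hne m ((span_top_iff P.1 φ _).mpr h)
        rw [← h1, ← algebraMap_smul (Localization.AtPrime P.1) (t : A), map_smul, smul_eq_mul] at h2
        exact fun hu => h2 ((IsLocalization.map_units _ t).mul hu)
    exact hall (φ.symm 1) (by simp)
  choose s hs using hgen
  have he : ∀ P : S, ∃ e : A, e ∉ P.1 ∧ ∀ Q : S, Q ≠ P → e ∈ Q.1 := by
    intro P
    have hP := hSprime P P.2
    have hnot : ¬ (∏ Q ∈ S.erase P.1, Q) ≤ P.1 := by
      intro hle
      obtain ⟨Q, hQ, hQP⟩ := hP.prod_le.mp hle
      obtain ⟨hne, hQS⟩ := Finset.mem_erase.mp hQ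
      exact hne ((Finset.mem_filter.mp hQS).2 P.1 (Finset.mem_filter.mp P.2).1 hQP).symm
    obtain ⟨e, he1, he2⟩ := SetLike.not_le_iff_exists.mp hnot
    exact ⟨e, he2, fun Q hQ => (Ideal.prod_le_inf.trans (Finset.inf_le
      (Finset.mem_erase.mpr ⟨fun h => hQ (Subtype.ext h), Q.2⟩))) he1⟩
  choose e he1 he2 using he
  let s0 : M := ∑ P : S, e P • s P
  have hS : ∀ P : S, haveI := hSprime P P.2
      Submodule.span (Localization.AtPrime P.1) {LocalizedModule.mkLinearMap P.1.primeCompl M s0} = ⊤ := by
    intro P
    have := hSprime P P.2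
    obtain ⟨φ⟩ := exists_locIso (M := M) P.1
    rw [span_top_iff P.1 φ]
    have hexp : φ (LocalizedModule.mkLinearMap P.1.primeCompl M s0) = ∑ Q : S,
        algebraMap A (Localization.AtPrime P.1) (e Q) * φ (LocalizedModule.mkLinearMap P.1.primeCompl M (s Q)) := by
      simp only [s0, map_sum, map_smul]
      refine Finset.sum_congr rfl fun Q _ => ?_
      rw [← algebraMap_smul (Localization.AtPrime P.1) (e Q), map_smul, smul_eq_mul]
    rw [hexp, ← Finset.add_sum_erase _ _ (Finset.mem_univ P)]
    have hu : IsUnit (algebraMap A (Localization.AtPrime P.1) (e P) *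
        φ (LocalizedModule.mkLinearMap P.1.primeCompl M (s P))) :=
      (IsLocalization.map_units _ (⟨e P, he1 P⟩ : P.1.primeCompl)).mul ((span_top_iff P.1 φ _).mp (hs P))
    by_contra hn
    have hn' : _ ∈ IsLocalRing.maximalIdeal (Localization.AtPrime P.1) :=
      (IsLocalRing.mem_maximalIdeal _).mpr hn
    have hrest : ∑ Q ∈ Finset.univ.erase P, algebraMap A (Localization.AtPrime P.1) (e Q) *
        φ (LocalizedModule.mkLinearMap P.1.primeCompl M (s Q)) ∈
        IsLocalRing.maximalIdeal (Localization.AtPrime P.1) := by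
      refine sum_mem fun Q hQ => Ideal.mul_mem_right _ _ ?_
      rw [← Localization.AtPrime.map_eq_maximalIdeal]
      exact Ideal.mem_map_of_mem _ (he2 Q P (Finset.ne_of_mem_erase hQ).symm)
    exact (IsLocalRing.mem_maximalIdeal _).mp ((Ideal.add_mem_iff_left _ hrest).mp hn') hu
  refine ⟨s0, fun i => ?_⟩
  obtain ⟨P, hiP, hP⟩ := T.exists_le_maximal (a := (p i).asIdeal) (Finset.mem_image.mpr ⟨i, Finset.mem_univ i, rfl⟩)
  have hPS : P ∈ S := Finset.mem_filter.mpr ⟨hP.1, fun Q hQ hle => le_antisymm (hP.2 hQ hle) hle⟩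
  have := hSprime P hPS
  have hm : ∀ m : M, ∃ t ∉ P, ∃ a : A, t • m = a • s0 := by
    intro m
    have h := hS ⟨P, hPS⟩
    have hmem : LocalizedModule.mkLinearMap P.primeCompl M m ∈
        Submodule.span (Localization.AtPrime P) {LocalizedModule.mkLinearMap P.primeCompl M s0} :=
      h.symm ▸ Submodule.mem_top
    obtain ⟨c, hc⟩ := Submodule.mem_span_singleton.mp hmem
    obtain ⟨a, t, rfl⟩ := IsLocalization.exists_mk'_eq P.primeCompl c
    have h2 : LocalizedModule.mkLinearMap P.primeCompl M ((t : A) • m) =
        LocalizedModule.mkLinearMap P.primeCompl M (a • s0) := by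
      rw [map_smul, map_smul, ← hc, ← algebraMap_smul (Localization.AtPrime P) (t : A), smul_smul,
        mul_comm, IsLocalization.mk'_spec, algebraMap_smul]
    obtain ⟨c', hc'⟩ := IsLocalizedModule.exists_of_eq (S := P.primeCompl) h2
    refine ⟨c' * t, P.primeCompl.mul_mem c'.2 t.2, c' * a, ?_⟩
    rw [mul_smul, mul_smul]
    exact hc'
  rw [eq_top_iff]
  intro x _
  induction x using LocalizedModule.induction_on with
  | h m t' =>
    obtain ⟨t, ht, a, hta⟩ := hm m
    have htq : t ∈ (p i).asIdeal.primeCompl := fun h => ht (hiP h)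
    refine Submodule.mem_span_singleton.mpr ⟨IsLocalization.mk' _ a (⟨t, htq⟩ * t'), ?_⟩
    rw [← Localization.mk_eq_mk', LocalizedModule.mkLinearMap_apply, LocalizedModule.mk_smul_mk, mul_one,
      LocalizedModule.mk_eq]
    refine ⟨1, ?_⟩
    simp only [one_smul, Submonoid.smul_def, Submonoid.coe_mul]
    rw [smul_smul, mul_comm, mul_smul, mul_comm, mul_smul, hta]
    rw [smul_comm]


end Groth.Agent.S8666
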