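import Groth.Statements.S8669
import Groth.Agent.H28.GenBasis
-- import your own Groth.Agent.* helpers here

set_option autoImplicit false
universe v u
open CategoryTheory CategoryTheory.Limits AlgebraicGeometry
attribute [local instance] HasDerivedCategory.standard
open SGA6

namespace Groth.Agent.S8669

/-- Let S be a quasi-compact scheme, f : P = P^r_S ⟶ S the projection, and F, G finite locally free
O_P-modules whose classes in K₀ of finite locally free O_P-modules coincide. Then there is n₀ such
that for every n ≥ n₀ the modules f_*(F(n)) and f_*(G(n)) are finite locally free on S and have the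
same class in K₀ of finite locally free O_S-modules, where F(n) = O_P(n) ⊗ F. (The published
statement is for the projective bundle of any finite locally free module of rank r + 1; this row
takes the trivial bundle.) -/
theorem result (S : Scheme.{u}) [CompactSpace ↥S] (r : ℕ)
    (F G : (KRR.PY r S).Modules) (hF : FlatMod.IsFinLocFree F) (hG : FlatMod.IsFinLocFree G)
    (h : KRR.cl (KRR.PY r S) F = KRR.cl (KRR.PY r S) G) :
    ∃ n₀ : ℕ, ∀ n : ℕ, n₀ ≤ n →
      FlatMod.IsFinLocFree ((Scheme.Modules.pushforward (KRR.pr r S)).obj (KRR.twF r S (n : ℤ) F)) ∧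
      FlatMod.IsFinLocFree ((Scheme.Modules.pushforward (KRR.pr r S)).obj (KRR.twF r S (n : ℤ) G)) ∧
      KRR.cl S ((Scheme.Modules.pushforward (KRR.pr r S)).obj (KRR.twF r S (n : ℤ) F)) =
        KRR.cl S ((Scheme.Modules.pushforward (KRR.pr r S)).obj (KRR.twF r S (n : ℤ) G)) := by
  obtain ⟨a, ha⟩ := Groth.Agent.H28.GenReg.exists_twist hF
  obtain ⟨b, hb⟩ := Groth.Agent.H28.GenReg.exists_twist hG
  obtain ⟨π, hπ⟩ := Groth.Agent.H28.GenPsi.exists_pushHom (n := r) (T := S)
  refine ⟨max a b, fun m hm => ?_⟩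
  obtain ⟨h1, h2⟩ := ha m (by omega)
  obtain ⟨h3, h4⟩ := hb m (by omega)
  obtain ⟨t, ht⟩ := Groth.Agent.H28.GenBasis.exists_twHom r S (m : ℤ)
  have hh := congrArg (fun z => π (t z)) h
  simp only [ht F hF, ht G hG, hπ _ ⟨Groth.Agent.H28.KRegK0.vp_twF _ hF, h1⟩,
    hπ _ ⟨Groth.Agent.H28.KRegK0.vp_twF _ hG, h3⟩] at hh
  exact ⟨h2, h4, hh⟩

end Groth.Agent.S8669
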