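import Groth.Statements.S8673
import Groth.Agent.H28.KvbAmple
import Groth.Agent.H28.AugNilp
-- import your own Groth.Agent.* helpers here

set_option autoImplicit false
universe v u
open CategoryTheory CategoryTheory.Limits AlgebraicGeometry
attribute [local instance] HasDerivedCategory.standard
open scoped TensorProduct
open KRR

namespace Groth.Agent.S8673

/-- Let X be a connected quasi-compact scheme with an ample invertible O_X-module, (K, P, φ) a model of
the λ-ring K(X) of finite locally free modules (augmentation ε = rank), and A a commutative ring.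
Then y ∈ A ⊗_ℤ K(X) is invertible if and only if (id ⊗ ε)(y) ∈ A ⊗_ℤ ℤ is invertible; in particular
the class of a nowhere-zero bundle is invertible in K(X) ⊗ ℚ. (The published statement allows X
disconnected, with ε valued in H^0(X, ℤ); this row takes X connected, as the model requires.) -/
theorem result (X : Scheme.{u}) [ConnectedSpace ↥X] (L : X.Modules) (hL : CohB1.IsAmple L)
    (K : Type v) [CommRing K] [LambdaRing.LambdaOps K] (P : LambdaRing.PosStructure K) (φ : SGA6.Kvb X →+ K) (hK : KRR.IsModel X K P φ)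
    (A : Type v) [CommRing A] (y : A ⊗[ℤ] K) :
    IsUnit y ↔ IsUnit (Algebra.TensorProduct.map (AlgHom.id ℤ A) P.aug.toIntAlgHom y) := by
  classical
  have hnil : ∀ x : K, P.aug x = 0 → IsNilpotent x := fun x hx =>
    Groth.Agent.H28.AugNilp.isNilpotent (Groth.Agent.H28.KvbAmple.isAmpleElt P φ hK L hL) hx
  let π := Algebra.TensorProduct.map (AlgHom.id ℤ A) P.aug.toIntAlgHom
  refine ⟨fun h => h.map π, fun h => ?_⟩
  let e := Algebra.TensorProduct.rid ℤ ℤ A
  let a : A := e (π y)
  have ha : IsUnit a := h.map e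
  have hd : ∀ z : A ⊗[ℤ] K, IsNilpotent (z - (e (π z)) ⊗ₜ[ℤ] (1 : K)) := by
    intro z
    induction z using TensorProduct.induction_on with
    | zero => simp
    | tmul b k =>
      have hb : (e (π (b ⊗ₜ[ℤ] k))) ⊗ₜ[ℤ] (1 : K) = b ⊗ₜ[ℤ] ((P.aug k : ℤ) : K) := by
        show (e (b ⊗ₜ[ℤ] P.aug k)) ⊗ₜ[ℤ] (1 : K) = _
        rw [Algebra.TensorProduct.rid_tmul, TensorProduct.smul_tmul, zsmul_one]
      rw [hb, ← TensorProduct.tmul_sub]
      obtain ⟨N, hN⟩ := hnil (k - ((P.aug k : ℤ) : K)) (by rw [map_sub, map_intCast, Int.cast_id, sub_self])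
      exact ⟨N, by rw [Algebra.TensorProduct.tmul_pow, hN, TensorProduct.tmul_zero]⟩
    | add a b ha hb =>
      rw [map_add, map_add, TensorProduct.add_tmul, add_sub_add_comm]
      exact (Commute.all _ _).isNilpotent_add ha hb
  have hu : IsUnit (a ⊗ₜ[ℤ] (1 : K)) :=
    ha.map (Algebra.TensorProduct.includeLeft : A →ₐ[ℤ] A ⊗[ℤ] K)
  have := (hd y).isUnit_add_left_of_commute hu (Commute.all _ _)
  simpa [a] using this

end Groth.Agent.S8673
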