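import Groth.Statements.S8681
import Groth.Agent.Synt29.VirtClass

set_option autoImplicit false
universe u
open CategoryTheory CategoryTheory.Limits AlgebraicGeometry
open Synt

namespace Groth.Agent.S8681

open Groth.Agent.Synt29

/-- Let f : X ⟶ Y be a local complete intersection morphism in the factorisation sense (around each
point, locally of finite type and factoring as a Koszul-regular immersion followed by a smooth
morphism), with two factorisations f = i ≫ g = i' ≫ g' where g : V ⟶ Y, g' : V' ⟶ Y are smooth and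
i, i' are closed immersions, and let d : O_V → Ω, d' : O_{V'} → Ω' be universal Y-derivations. Let x
∈ X and suppose that on open neighbourhoods of x the modules i^*Ω, N_i (conormal sheaf of i), i'^*Ω'
and N_{i'} are free of ranks a, b, a', b'. Then a − b = a' − b': the integer rank(Ω_{V/Y} at i(x)) −
rank(N_i at x), the virtual relative dimension of f at x, is independent of the factorisation. (The
published statement allows factorisations defined only near x and arbitrary immersions; this row
takes global factorisations through closed immersions.) -/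
theorem result {X Y V V' : Scheme.{u}} (f : X ⟶ Y) (hf : ∀ x : X, Synt.IsKoszulAt f x)
    (g : V ⟶ Y) [Smooth g] (i : X ⟶ V) [IsClosedImmersion i] (hi : i ≫ g = f)
    (g' : V' ⟶ Y) [Smooth g'] (i' : X ⟶ V') [IsClosedImmersion i'] (hi' : i' ≫ g' = f)
    (Ω : V.Modules) (d : OmegaSh.Der g Ω) (hd : OmegaSh.IsUniversal d)
    (Ω' : V'.Modules) (d' : OmegaSh.Der g' Ω') (hd' : OmegaSh.IsUniversal d')
    (x : X) (a b a' b' : ℕ) (U₁ U₂ U₃ U₄ : X.Opens) (h₁ : x ∈ U₁) (h₂ : x ∈ U₂) (h₃ : x ∈ U₃) (h₄ : x ∈ U₄)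
    (ha : FlatMod.IsFinLocFreeOfRank a ((Scheme.Modules.restrictFunctor U₁.ι).obj ((Scheme.Modules.pullback i).obj Ω)))
    (hb : FlatMod.IsFinLocFreeOfRank b ((Scheme.Modules.restrictFunctor U₂.ι).obj (Omega.conormal i)))
    (ha' : FlatMod.IsFinLocFreeOfRank a' ((Scheme.Modules.restrictFunctor U₃.ι).obj ((Scheme.Modules.pullback i').obj Ω')))
    (hb' : FlatMod.IsFinLocFreeOfRank b' ((Scheme.Modules.restrictFunctor U₄.ι).obj (Omega.conormal i'))) :
    (a : ℤ) - b = (a' : ℤ) - b' := by
  classical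
  have hi0 : i ≫ g = i' ≫ g' := hi.trans hi'.symm
  obtain ⟨W, p, p', j, _, _, _, hj, hj', hpq, hiso, hiso'⟩ := CommonFact.exists_common g g' i i' hi0
  obtain ⟨Ωp, dp, hdp, a₁, b₁, w₁, hS₁⟩ := VirtClass.exists_ses p j i hj
  obtain ⟨Ωq, dq, hdq, a₂, b₂, w₂, hS₂⟩ := VirtClass.exists_ses p' j i' hj'
  obtain ⟨e₁⟩ := hiso Ω' d' hd' Ωp dp hdp
  obtain ⟨e₂⟩ := hiso' Ω d hd Ωq dq hdq
  have hN := VirtClass.isFinLocFree_conormal f hf g i hi
  have hN' := VirtClass.isFinLocFree_conormal f hf g' i' hi'
  have hO := VirtClass.isFinLocFree_pullback_omega g i Ω d hd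
  have hO' := VirtClass.isFinLocFree_pullback_omega g' i' Ω' d' hd'
  have h1 := VirtClass.finrank_stalk_ses a₁ b₁ w₁ hS₁ hN (H23.PullPush.isFinLocFree_of_iso e₁.symm hO') x
  have h2 := VirtClass.finrank_stalk_ses a₂ b₂ w₂ hS₂ hN' (H23.PullPush.isFinLocFree_of_iso e₂.symm hO) x
  have k1 : Module.finrank (X.presheaf.stalk x) (((Scheme.Modules.pullback j).obj Ωp).presheaf.stalk x) =
      Module.finrank (X.presheaf.stalk x) (((Scheme.Modules.pullback i').obj Ω').presheaf.stalk x) :=
    LinearEquiv.finrank_eq ((DerSch.stalkFunctor X x).mapIso e₁).toLinearEquiv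
  have k2 : Module.finrank (X.presheaf.stalk x) (((Scheme.Modules.pullback j).obj Ωq).presheaf.stalk x) =
      Module.finrank (X.presheaf.stalk x) (((Scheme.Modules.pullback i).obj Ω).presheaf.stalk x) :=
    LinearEquiv.finrank_eq ((DerSch.stalkFunctor X x).mapIso e₂).toLinearEquiv
  have ra := VirtClass.finrank_stalk_of_restrict hO U₁ h₁ ha
  have rb := VirtClass.finrank_stalk_of_restrict hN U₂ h₂ hb
  have ra' := VirtClass.finrank_stalk_of_restrict hO' U₃ h₃ ha'
  have rb' := VirtClass.finrank_stalk_of_restrict hN' U₄ h₄ hb'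
  omega

end Groth.Agent.S8681
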