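import Groth.Statements.S8683
import Groth.Agent.Synt29.VirtComp
import Groth.Agent.S8661

set_option autoImplicit false
universe u
open CategoryTheory CategoryTheory.Limits AlgebraicGeometry
open Synt

namespace Groth.Agent.S8683

open Groth.Agent.Synt29

/-- Let f : X ⟶ Y and g : Y ⟶ Z be local complete intersection morphisms in the factorisation sense,
with factorisations f = i_f ≫ g_f, g = i_g ≫ g_g and f ≫ g = i_h ≫ g_h through smooth morphisms g_f
: V ⟶ Y, g_g : W ⟶ Z, g_h : T ⟶ Z by closed immersions, universal derivations d_f, d_g, d_h (sheaves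
of differentials Ω_f, Ω_g, Ω_h of V/Y, W/Z, T/Z), and x ∈ X. Suppose that on open neighbourhoods of
x the modules i_f^*Ω_f, N_{i_f}, i_h^*Ω_h, N_{i_h} are free of ranks a_f, b_f, a_h, b_h and that on
open neighbourhoods of f(x) the modules i_g^*Ω_g, N_{i_g} are free of ranks a_g, b_g. Then a_h − b_h
= (a_f − b_f) + (a_g − b_g): virtual relative dimensions add under composition. (The published
statement allows local factorisations through arbitrary immersions; this row takes global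
closed-immersion factorisations.) -/
theorem result {X Y Z V W T : Scheme.{u}} (f : X ⟶ Y) (g : Y ⟶ Z)
    (hf : ∀ x : X, Synt.IsKoszulAt f x) (hg : ∀ y : Y, Synt.IsKoszulAt g y)
    (gf : V ⟶ Y) [Smooth gf] (jf : X ⟶ V) [IsClosedImmersion jf] (hjf : jf ≫ gf = f)
    (gg : W ⟶ Z) [Smooth gg] (jg : Y ⟶ W) [IsClosedImmersion jg] (hjg : jg ≫ gg = g)
    (gh : T ⟶ Z) [Smooth gh] (jh : X ⟶ T) [IsClosedImmersion jh] (hjh : jh ≫ gh = f ≫ g)
    (Ωf : V.Modules) (df : OmegaSh.Der gf Ωf) (hdf : OmegaSh.IsUniversal df)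
    (Ωg : W.Modules) (dg : OmegaSh.Der gg Ωg) (hdg : OmegaSh.IsUniversal dg)
    (Ωh : T.Modules) (dh : OmegaSh.Der gh Ωh) (hdh : OmegaSh.IsUniversal dh)
    (x : X) (af bf ag bg ah bh : ℕ) (U₁ U₂ U₃ U₄ : X.Opens) (U₅ U₆ : Y.Opens)
    (h₁ : x ∈ U₁) (h₂ : x ∈ U₂) (h₃ : x ∈ U₃) (h₄ : x ∈ U₄) (h₅ : f x ∈ U₅) (h₆ : f x ∈ U₆)
    (haf : FlatMod.IsFinLocFreeOfRank af ((Scheme.Modules.restrictFunctor U₁.ι).obj ((Scheme.Modules.pullback jf).obj Ωf)))
    (hbf : FlatMod.IsFinLocFreeOfRank bf ((Scheme.Modules.restrictFunctor U₂.ι).obj (Omega.conormal jf)))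
    (hah : FlatMod.IsFinLocFreeOfRank ah ((Scheme.Modules.restrictFunctor U₃.ι).obj ((Scheme.Modules.pullback jh).obj Ωh)))
    (hbh : FlatMod.IsFinLocFreeOfRank bh ((Scheme.Modules.restrictFunctor U₄.ι).obj (Omega.conormal jh)))
    (hag : FlatMod.IsFinLocFreeOfRank ag ((Scheme.Modules.restrictFunctor U₅.ι).obj ((Scheme.Modules.pullback jg).obj Ωg)))
    (hbg : FlatMod.IsFinLocFreeOfRank bg ((Scheme.Modules.restrictFunctor U₆.ι).obj (Omega.conormal jg))) :
    (ah : ℤ) - bh = ((af : ℤ) - bf) + ((ag : ℤ) - bg) := by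
  have hfg := S8661.result f g hf hg
  have key := VirtComp.rk_comp f g hf hg gf jf hjf gg jg hjg gh jh hjh hfg Ωf df hdf Ωg dg hdg Ωh dh hdh x
  have e₁ : VirtComp.rk ((Scheme.Modules.pullback jf).obj Ωf) x = af := VirtClass.finrank_stalk_of_restrict
    (VirtClass.isFinLocFree_pullback_omega gf jf Ωf df hdf) U₁ h₁ haf
  have e₂ : VirtComp.rk (Omega.conormal jf) x = bf := VirtClass.finrank_stalk_of_restrict
    (VirtClass.isFinLocFree_conormal f hf gf jf hjf) U₂ h₂ hbf
  have e₃ : VirtComp.rk ((Scheme.Modules.pullback jh).obj Ωh) x = ah := VirtClass.finrank_stalk_of_restrict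
    (VirtClass.isFinLocFree_pullback_omega gh jh Ωh dh hdh) U₃ h₃ hah
  have e₄ : VirtComp.rk (Omega.conormal jh) x = bh := VirtClass.finrank_stalk_of_restrict
    (VirtClass.isFinLocFree_conormal (f ≫ g) hfg gh jh hjh) U₄ h₄ hbh
  have e₅ : VirtComp.rk ((Scheme.Modules.pullback jg).obj Ωg) (f x) = ag := VirtClass.finrank_stalk_of_restrict
    (VirtClass.isFinLocFree_pullback_omega gg jg Ωg dg hdg) U₅ h₅ hag
  have e₆ : VirtComp.rk (Omega.conormal jg) (f x) = bg := VirtClass.finrank_stalk_of_restrict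
    (VirtClass.isFinLocFree_conormal g hg gg jg hjg) U₆ h₆ hbg
  rw [e₁, e₂, e₃, e₄, e₅, e₆] at key
  omega

end Groth.Agent.S8683
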