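import Groth.Statements.S8684
import Groth.Agent.Lambda.Universal

set_option autoImplicit false
universe u
open LambdaRing

namespace Groth.Agent.S8684

/-- For every n there is a polynomial P ∈ ℤ[X_1, …, X_n, Y_1, …, Y_n] such that substituting the k-th
elementary symmetric functions of two families T, U of n variables for X_k and Y_k yields the n-th
elementary symmetric function of the n² products T_a U_b, and P is isobaric of weight n separately
in the X_k and in the Y_k, the variables X_k and Y_k having weight k. -/
theorem result (n : ℕ) :
    ∃ P : MvPolynomial (Fin n ⊕ Fin n) ℤ, LambdaRing.IsMulPoly n P := by
  exact Groth.Agent.Lambda.exists_isMulPoly n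

end Groth.Agent.S8684
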