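import Groth.Statements.S8686
import Groth.Agent.Lambda.Series
import Mathlib.RingTheory.PowerSeries.Derivative

set_option autoImplicit false
universe u
open LambdaRing

namespace Groth.Agent.S8686

/-- Let K be a pre-λ-ring with λ^n(1) = 0 for all n ≥ 2, i.e. λ_t(1) = 1 + t. Then the Adams operations,
defined for k ≥ 1 through (d/dt λ_t(x)) · λ_t(x)⁻¹ = Σ_{k ≥ 1} (−1)^{k−1} ψ^k(x) t^{k−1}, satisfy
ψ^k(1) = 1 for every k ≥ 1. (The published statement is for a λ-ring in the strict sense; this
identity uses only λ_t(1) = 1 + t, the hypothesis taken here.) -/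
theorem result (K : Type u) [CommRing K] [LambdaRing.LambdaOps K]
    (h1 : ∀ n : ℕ, 2 ≤ n → LambdaRing.LambdaOps.lam n (1 : K) = 0) (k : ℕ) (hk : 1 ≤ k) :
    LambdaRing.adamsOp k (1 : K) = 1 := by
  obtain ⟨p, rfl⟩ : ∃ p, k = p + 1 := ⟨k - 1, by omega⟩
  rw [LambdaRing.adamsOp, LambdaRing.logDerivSeries, Groth.Agent.Lambda.lamSeries_of_lam_eq_zero h1,
    map_one, one_mul]
  have hinv : (1 + PowerSeries.X : PowerSeries K).invOfUnit 1 = PowerSeries.mk (fun n => (-1 : K) ^ n) := by
    have h : (1 + PowerSeries.X : PowerSeries K) * PowerSeries.mk (fun n => (-1 : K) ^ n) = 1 := by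
      ext n
      rcases n with _ | n
      · simp
      · simp [add_mul, pow_succ, PowerSeries.coeff_one]
    calc _ = ((1 + PowerSeries.X : PowerSeries K).invOfUnit 1 * (1 + PowerSeries.X)) * PowerSeries.mk (fun n => (-1 : K) ^ n) := by
          rw [mul_assoc, h, mul_one]
      _ = _ := by rw [PowerSeries.invOfUnit_mul _ _ (by simp), one_mul]
  rw [hinv, map_add, PowerSeries.derivative_one, PowerSeries.derivative_X, zero_add, one_mul,
    PowerSeries.coeff_mk, ← mul_pow]
  simp

end Groth.Agent.S8686
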