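import Groth.Statements.S8689
import Groth.Agent.Lambda.RatOps

set_option autoImplicit false
universe u
open LambdaRing

namespace Groth.Agent.S8689

/-- Let K be a pre-λ-ring which is an algebra over the rationals (the meaning of characteristic zero
here), and suppose that its Adams operations satisfy ψ^k(1) = 1, ψ^k(xy) = ψ^k(x) ψ^k(y) and ψ^k ∘
ψ^{k'} = ψ^{kk'} for all k, k' ≥ 1. Then K is a λ-ring in the strict sense: λ_t(1) = 1 + t, λ^n(xy)
= P_n(λ^1 x, …; λ^1 y, …) and λ^j(λ^i x) = Q_{i,j}(λ^1 x, …) for the universal polynomials. -/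
theorem result (K : Type u) [CommRing K] [LambdaRing.LambdaOps K] [Algebra ℚ K]
    (h1 : ∀ k : ℕ, 1 ≤ k → LambdaRing.adamsOp k (1 : K) = 1)
    (hmul : ∀ k : ℕ, 1 ≤ k → ∀ x y : K, LambdaRing.adamsOp k (x * y) = LambdaRing.adamsOp k x * LambdaRing.adamsOp k y)
    (hcomp : ∀ k k' : ℕ, 1 ≤ k → 1 ≤ k' → ∀ x : K,
      LambdaRing.adamsOp k (LambdaRing.adamsOp k' x) = LambdaRing.adamsOp (k * k') x) :
    LambdaRing.IsSpecial K := by
  haveI : IsAddTorsionFree K := IsAddTorsionFree.of_module_rat K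
  exact Groth.Agent.Lambda.isSpecial_of_adamsOp h1 hmul hcomp

end Groth.Agent.S8689
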