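import Groth.Statements.S8693
import Groth.Agent.H28.KvbAmple
import Groth.Agent.H28.AugNilp
-- import your own Groth.Agent.* helpers here

set_option autoImplicit false
universe v u
open CategoryTheory CategoryTheory.Limits AlgebraicGeometry
attribute [local instance] HasDerivedCategory.standard
open KRR

namespace Groth.Agent.S8693

/-- Let X be a connected quasi-compact scheme with an ample invertible O_X-module L, (K, P, φ) a model
of the λ-ring K(X) of finite locally free modules with its positive structure (augmentation ε =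
rank), and E_1, …, E_k finite locally free O_X-modules. Let R ⊆ K(X) be the subring generated by the
elements λ^j[E_i] for all i and j, which is the sub-λ-ring generated by the classes [E_i]. Then the
ideal R ∩ Ker ε of R is nilpotent: there is n such that every product of n elements of R of
augmentation zero vanishes; and R is finitely generated as an abelian group. (The published
statement allows X disconnected, with R a module of finite type over R ∩ H^0(X, ℤ), and also asserts
that the λ-ring filtration of R is discrete; this row takes X connected, as the model requires, and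
states the nilpotency and the finite generation over the integers.) -/
theorem result (X : Scheme.{u}) [ConnectedSpace ↥X] (L : X.Modules) (hL : CohB1.IsAmple L)
    (K : Type v) [CommRing K] [LambdaRing.LambdaOps K] (P : LambdaRing.PosStructure K) (φ : SGA6.Kvb X →+ K)
    (hK : KRR.IsModel X K P φ)
    (k : ℕ) (E : Fin k → X.Modules) (hE : ∀ i : Fin k, FlatMod.IsFinLocFree (E i)) :
    (∃ n : ℕ, ∀ f : Fin n → K,
      (∀ t : Fin n, f t ∈ Subring.closure {y : K | ∃ (i : Fin k) (j : ℕ), y = LambdaRing.LambdaOps.lam j (φ (KRR.cl X (E i)))} ∧ P.aug (f t) = 0) →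
        ∏ t, f t = 0) ∧
    (Subring.closure {y : K | ∃ (i : Fin k) (j : ℕ), y = LambdaRing.LambdaOps.lam j (φ (KRR.cl X (E i)))}).toAddSubgroup.FG := by
  classical
  have hnil : ∀ x : K, P.aug x = 0 → IsNilpotent x := fun x hx =>
    Groth.Agent.H28.AugNilp.isNilpotent (Groth.Agent.H28.KvbAmple.isAmpleElt P φ hK L hL) hx
  choose r hr using fun i => Groth.Agent.H28.KvbModel.exists_rank (hE i)
  set S : Set K := {y : K | ∃ (i : Fin k) (j : ℕ), y = LambdaRing.LambdaOps.lam j (φ (KRR.cl X (E i)))} with hS
  have hlam : ∀ i j, r i < j → LambdaRing.LambdaOps.lam j (φ (KRR.cl X (E i))) = 0 := fun i j hj => by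
    have hL' := Groth.Agent.H28.ExtSh.isExtPow_L j (hE i)
    rw [hK.map_lam j (E i) _ (hE i) (Groth.Agent.H28.ExtSh.isFinLocFree_L j (hE i)) hL',
      show KRR.cl X _ = 0 from Groth.Agent.KZ.clSub_isZero _ (Groth.Agent.H28.KvbModel.isZero_L (hr i) hj), map_zero]
  have hfin : S.Finite := by
    refine ((Set.finite_range fun p : (Σ i : Fin k, Fin (r i + 1)) =>
      LambdaRing.LambdaOps.lam (p.2 : ℕ) (φ (KRR.cl X (E p.1)))).union (Set.finite_singleton (0 : K))).subset ?_
    rintro y ⟨i, j, rfl⟩
    by_cases hj : j ≤ r i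
    · exact Or.inl ⟨⟨i, ⟨j, Nat.lt_succ_of_le hj⟩⟩, rfl⟩
    · exact Or.inr (hlam i j (Nat.lt_of_not_le hj))
  let T : Finset K := hfin.toFinset.image fun y => y - ((P.aug y : ℤ) : K)
  let I : Ideal K := Ideal.span (T : Set K)
  have hInil : IsNilpotent I := Ideal.FG.isNilpotent_iff_le_nilradical ⟨T, rfl⟩ |>.2 <| Ideal.span_le.2 fun y hy => by
    obtain ⟨z, -, rfl⟩ := Finset.mem_image.1 hy
    exact hnil _ (by rw [map_sub, map_intCast, Int.cast_id, sub_self])
  have hmem : ∀ y ∈ Subring.closure S, y - ((P.aug y : ℤ) : K) ∈ I := by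
    intro y hy
    induction hy using Subring.closure_induction with
    | mem x hx => exact Ideal.subset_span (Finset.mem_image.2 ⟨x, hfin.mem_toFinset.2 hx, rfl⟩)
    | zero => simp
    | one => simp
    | add a b _ _ ha hb =>
      rw [map_add, Int.cast_add, add_sub_add_comm]
      exact add_mem ha hb
    | neg a _ ha =>
      rw [map_neg, Int.cast_neg, ← neg_sub', neg_mem_iff]
      exact ha
    | mul a b _ _ ha hb =>
      have e : a * b - ((P.aug (a * b) : ℤ) : K) =
          (a - ((P.aug a : ℤ) : K)) * b + ((P.aug a : ℤ) : K) * (b - ((P.aug b : ℤ) : K)) := by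
        rw [map_mul, Int.cast_mul]
        ring
      rw [e]
      exact add_mem (I.mul_mem_right _ ha) (I.mul_mem_left _ hb)
  refine ⟨?_, ?_⟩
  · obtain ⟨n, hn⟩ := hInil
    refine ⟨n, fun f hf => ?_⟩
    have h := Ideal.prod_mem_prod (s := Finset.univ) (I := fun _ : Fin n => I) (x := f) fun t _ => by
      simpa [(hf t).2] using hmem _ (hf t).1
    rw [Finset.prod_const, Finset.card_univ, Fintype.card_fin, hn] at h
    exact h
  · have hint : ∀ y ∈ hfin.toFinset, IsIntegral ℤ y := fun y _ => by
      obtain ⟨N, hN⟩ := hnil (y - ((P.aug y : ℤ) : K)) (by rw [map_sub, map_intCast, Int.cast_id, sub_self])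
      refine ⟨(Polynomial.X - Polynomial.C (P.aug y)) ^ N, (Polynomial.monic_X_sub_C _).pow N, ?_⟩
      rw [Polynomial.eval₂_pow, Polynomial.eval₂_sub, Polynomial.eval₂_X, Polynomial.eval₂_C]
      exact hN
    have hfg := fg_adjoin_of_finite (R := ℤ) hfin.toFinset.finite_toSet hint
    rw [Set.Finite.coe_toFinset] at hfg
    rw [Submodule.fg_iff_addSubgroup_fg] at hfg
    rw [Algebra.adjoin_int] at hfg
    exact hfg

end Groth.Agent.S8693
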