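import Groth.Statements.S8697
import Groth.Agent.Lambda.FreeFil

set_option autoImplicit false
universe u v
open Finset
open LambdaRing

namespace Groth.Agent.S8697

/-- Let K be a binomial ring with its binomial λ-structure and B a λ-ring in the strict sense which is
an augmented K-λ-algebra with augmentation ε. Let x ∈ B satisfy ε(x) = 0 and γ^k(x) = 0 for every k
> n, and assume that γ^1(x), …, γ^n(x) are algebraically independent over K and generate B as a
K-algebra — so B is the K-λ-algebra generated by one element subject to the relations γ^k = 0 for k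
> n, a polynomial ring K[γ^1 x, …, γ^n x]. Then for every k, the k-th ideal Fil^k B of the
γ-filtration (generated by the products of γ^{i}(z), ε(z) = 0, of total weight ≥ k) is the ideal
generated by the monomials ∏_j (γ^j x)^{e_j} with Σ_j j·e_j ≥ k: the λ-ring filtration is the
filtration by the weight in the γ^j x. (With λ in place of γ — relations λ^k x = 0 for k > n and
weights in the λ^j x — the assertion fails already for n = 1, where γ^i(x) = x for all i ≥ 1 puts x
in every Fil^k while x is not in the ideal (x²); the form with γ stated here is the one the proof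
establishes.) The hypotheses hP and hQ, existence of the universal polynomials, are true statements
carried so that the identities of B can be used at every index. -/
theorem result
    (K : Type u) [CommRing K] [LambdaRing.LambdaOps K] [BinomialRing K] (hKb : LambdaRing.IsBinomial K)
    (hK : LambdaRing.IsSpecial K)
    (B : Type v) [CommRing B] [LambdaRing.LambdaOps B] [Algebra K B] (hB : LambdaRing.IsSpecial B)
    (hP : ∀ n : ℕ, ∃ P : MvPolynomial (Fin n ⊕ Fin n) ℤ, LambdaRing.IsMulPoly n P)
    (hQ : ∀ i j : ℕ, ∃ Q : MvPolynomial (Fin (i * j)) ℤ, LambdaRing.IsCompPoly i j Q)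
    (ε : B →ₐ[K] K) (hε : LambdaRing.IsAugLambdaAlg K B ε)
    (n : ℕ) (x : B) (hx : ε x = 0) (hγ : ∀ k : ℕ, n < k → LambdaRing.gamma k x = 0)
    (hind : AlgebraicIndependent K (fun j : Fin n => LambdaRing.gamma ((j : ℕ) + 1) x))
    (hgen : Algebra.adjoin K (Set.range fun j : Fin n => LambdaRing.gamma ((j : ℕ) + 1) x) = ⊤)
    (k : ℕ) :
    LambdaRing.gammaFil (ε : B →+* K) k =
      Ideal.span {m : B | ∃ e : Fin n → ℕ, k ≤ ∑ j : Fin n, ((j : ℕ) + 1) * e j ∧
        m = ∏ j : Fin n, LambdaRing.gamma ((j : ℕ) + 1) x ^ e j} := by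
  have hKK : LambdaRing.IsLambdaAlg K B := hε.isLambdaAlg
  have h := Groth.Agent.Lambda.gammaFil_eq_weightIdeal (ι := Fin n) hKb hB (AlgHom.id K K) hKK ε hε
    (fun a => by simp) x hx (fun j : Fin n => (j : ℕ) + 1) (fun i => Nat.le_add_left 1 _)
    (fun j hj => by
      by_cases hjn : j ≤ n
      · exact Or.inr ⟨⟨j - 1, by omega⟩, Nat.sub_add_cancel hj⟩
      · exact Or.inl (hγ j (by omega))) hgen k
  rw [h]
  refine le_antisymm (Ideal.span_le.mpr ?_) (Ideal.span_le.mpr ?_)
  · rintro b ⟨e, a, ha, rfl⟩
    rcases Nat.eq_zero_or_pos (k - e.sum fun (j : Fin n) m => ((j : ℕ) + 1) * m) with h0 | h0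
    · refine Ideal.mul_mem_left _ _ (Ideal.subset_span ⟨fun j => e j, ?_, ?_⟩)
      · rw [Finsupp.sum_fintype _ _ (fun i => by simp)] at h0
        simp only at h0 ⊢
        omega
      · rw [Finsupp.prod_fintype _ _ (fun i => pow_zero _)]
    · rw [Groth.Agent.Lambda.gammaFil_id_of_pos (by simpa using h0.ne')] at ha
      rw [show a = 0 from ha, map_zero, zero_mul]
      exact zero_mem _
  · rintro m ⟨e, he, rfl⟩
    refine Ideal.subset_span ⟨Finsupp.equivFunOnFinite.symm e, 1, ?_, ?_⟩
    · rw [Finsupp.sum_fintype _ _ (fun i => by simp)]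
      have h0 : k - ∑ j : Fin n, ((j : ℕ) + 1) * (Finsupp.equivFunOnFinite.symm e) j = 0 := by
        simpa [Nat.sub_eq_zero_iff_le] using he
      rw [h0, (Groth.Agent.Lambda.gammaFil_isMulFiltration _).zero]
      trivial
    · rw [Finsupp.prod_fintype _ _ (fun i => pow_zero _), map_one, one_mul]
      simp

end Groth.Agent.S8697
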