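import Groth.Statements.S8698
import Groth.Agent.Lambda.FreeFil

set_option autoImplicit false
universe u v w
open Finset
open LambdaRing

namespace Groth.Agent.S8698

/-- Let K be a binomial ring with its binomial λ-structure, A a λ-ring in the strict sense which is an
augmented K-λ-algebra with augmentation ε_A, and B a λ-ring in the strict sense which is at once an
augmented K-λ-algebra with augmentation ε_B and an A-algebra compatibly with the K-structures, the
structure map A → B commuting with the λ^n and ε_B restricting to ε_A on A. Let x ∈ B with ε_B(x) =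
0, and assume that the family (γ^{j+1} x)_{j ∈ ℕ} is algebraically independent over A and generates
B as an A-algebra: B is the free λ-ring A[X, γ^2 X, γ^3 X, …] on one generator over A, augmented by
X ↦ 0. Then for every k the k-th ideal Fil^k B of the γ-filtration of B is the ideal generated by
the products a · m where m = ∏_j (γ^{j+1} x)^{e_j} is a monomial of weight i = Σ_j (j+1) e_j and a
lies in (the image of) Fil^{k−i} A, with Fil^s A = A for s ≤ 0; that is, Fil^k B = Fil^k A +
Fil^{k−1} A·M_1 + ⋯ + Fil^0 A·M_k + (monomials of weight > k), M_i denoting the monomials of weight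
i. The hypotheses hP and hQ, existence of the universal polynomials, are true statements carried so
that the identities of A and B can be used at every index. -/
theorem result
    (K : Type u) [CommRing K] [LambdaRing.LambdaOps K] [BinomialRing K] (hKb : LambdaRing.IsBinomial K)
    (hK : LambdaRing.IsSpecial K)
    (A : Type v) [CommRing A] [LambdaRing.LambdaOps A] [Algebra K A] (hA : LambdaRing.IsSpecial A)
    (εA : A →ₐ[K] K) (hεA : LambdaRing.IsAugLambdaAlg K A εA)
    (B : Type w) [CommRing B] [LambdaRing.LambdaOps B] [Algebra K B] [Algebra A B] [IsScalarTower K A B]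
    (hB : LambdaRing.IsSpecial B) (hAB : LambdaRing.IsLambdaAlg A B)
    (εB : B →ₐ[K] K) (hεB : LambdaRing.IsAugLambdaAlg K B εB) (hεAB : ∀ a : A, εB (algebraMap A B a) = εA a)
    (hP : ∀ n : ℕ, ∃ P : MvPolynomial (Fin n ⊕ Fin n) ℤ, LambdaRing.IsMulPoly n P)
    (hQ : ∀ i j : ℕ, ∃ Q : MvPolynomial (Fin (i * j)) ℤ, LambdaRing.IsCompPoly i j Q)
    (x : B) (hx : εB x = 0)
    (hind : AlgebraicIndependent A (fun j : ℕ => LambdaRing.gamma (j + 1) x))
    (hgen : Algebra.adjoin A (Set.range fun j : ℕ => LambdaRing.gamma (j + 1) x) = ⊤)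
    (k : ℕ) :
    LambdaRing.gammaFil (εB : B →+* K) k =
      Ideal.span {b : B | ∃ (e : ℕ →₀ ℕ) (a : A),
        a ∈ LambdaRing.gammaFil (εA : A →+* K) (k - e.sum fun j n => (j + 1) * n) ∧
        b = algebraMap A B a * e.prod fun j n => LambdaRing.gamma (j + 1) x ^ n} := by
  have hgenset : (Set.range fun i : ℕ => LambdaRing.gamma (i + 1) x) =
      Set.range fun i : ℕ => LambdaRing.gamma ((fun j : ℕ => j + 1) i) x := rfl
  exact Groth.Agent.Lambda.gammaFil_eq_weightIdeal hKb hB εA hAB εB hεB hεAB x hx (fun j : ℕ => j + 1)
    (fun i => Nat.le_add_left 1 i) (fun j hj => Or.inr ⟨j - 1, Nat.sub_add_cancel hj⟩) (hgenset ▸ hgen) k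

end Groth.Agent.S8698
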