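import Groth.Statements.S8700
import Groth.Agent.PBlow.Main

set_option autoImplicit false
universe u
open CategoryTheory CategoryTheory.Limits AlgebraicGeometry Opposite
attribute [local instance] HasDerivedCategory.standard
open RegImm

namespace Groth.Agent.S8700

/-- Let X be a scheme, E a finite locally free O_X-module and u : E → O_X a Koszul-regular homomorphism
(locally on affine opens E has a basis whose images under u form a sequence with Koszul complex
acyclic in nonzero degrees); let J = u(E) be the image ideal sheaf, f : X' → X a blowing up of X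
along the closed subscheme defined by J (universal property) with exceptional ideal J' = J·O_{X'},
and (π : P → X, O(1), q : π^*E → O(1)) the projective bundle of E (universal property for invertible
quotients of pull-backs of E). Let j : X' → P be the X-morphism attached to the invertible quotient
f^*E → J' induced by f^*u, that is j ≫ π = f together with an isomorphism j^*O(1) ≅ J' under which
j^*q followed by the inclusion J' ⊆ O_{X'} is f^*u followed by the canonical map f^*O_X → O_{X'};
this j is the closed immersion given by the surjection of the symmetric algebra of E onto ⊕ J^n.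
Then j is a closed immersion and a Koszul-regular immersion. (The published statement adds that the
ideal of j is the image of the composite F → π^*E → O_P, F the kernel of q; this row does not state
that clause.) -/
theorem result {X X' P : Scheme.{u}}
    (E : X.Modules) (hE : FlatMod.IsFinLocFree E) (u : E ⟶ Coh.structureModule X)
    (hu : ∀ x : X, ∃ U : X.affineOpens, x ∈ U.1 ∧
      ∃ (n : ℕ) (b : Module.Basis (Fin n) Γ(X, U.1) (E.val.obj (op U.1))),
        LCI.IsKoszulRegularSeq Γ(X, U.1) (List.ofFn fun k => ((u.val.app (op U.1)).hom (b k) : Γ(X, U.1))))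
    (J : X.IdealSheafData) (hJ : ∀ U : X.affineOpens, J.ideal U = @Ideal.span Γ(X, U.1) _ (Set.range fun s : E.val.obj (op U.1) => ((u.val.app (op U.1)).hom s : Γ(X, U.1))))
    (π : P ⟶ X) (O1 : P.Modules) (q : (Scheme.Modules.pullback π).obj E ⟶ O1) (hP : KRR.IsProjBundle π E O1 q)
    (f : X' ⟶ X) (hf : BlowUp.IsBlowUp f J)
    (j : X' ⟶ P) (hjπ : j ≫ π = f)
    (e : (Scheme.Modules.pullback j).obj O1 ≅ ClSub.idealMod (BlowUp.exceptional f J))
    (hcomp : (Scheme.Modules.pullbackCongr hjπ).inv.app E ≫ (Scheme.Modules.pullbackComp j π).inv.app E ≫
        (Scheme.Modules.pullback j).map q ≫ e.hom ≫ ClSub.idealModι (BlowUp.exceptional f J) =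
      (Scheme.Modules.pullback f).map u ≫
        ((Scheme.Modules.pullbackPushforwardAdjunction f).homEquiv _ _).symm
          (SheafOfModules.unitToPushforwardObjUnit f.toRingCatSheafHom)) :
    IsClosedImmersion j ∧ RegImm.IsRegularImmersion .koszul j := by
  have h := Groth.Agent.PBlow.exists_charts E hE u hu J hJ π O1 q hP f hf j hjπ e hcomp
  have hcl : IsClosedImmersion j := Groth.Agent.PBlow.isClosedImmersion_of_charts j fun p =>
    (h p).imp fun V hV => ⟨hV.1, hV.2.1⟩
  refine ⟨hcl, inferInstance, fun z => ?_⟩
  obtain ⟨V, hz, hV, rs, -, hreg, hker⟩ := h (j z)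
  exact ⟨V, hz, hV, rs, hreg, hker⟩


end Groth.Agent.S8700
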