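import Groth.Statements.S8703
import Groth.Agent.Lambda.RatOps

set_option autoImplicit false
universe u
open LambdaRing

namespace Groth.Agent.S8703

/-- The Adams operations commute with λ-homomorphisms, and conversely, if K and K' are pre-λ-rings which
are algebras over the rationals, a ring homomorphism f : K → K' commuting with the ψ^k for all k ≥ 1
is a λ-homomorphism (commutes with all λ^i), the λ^i being expressible through the ψ^k in
characteristic zero. -/
theorem result (K K' : Type u) [CommRing K] [CommRing K']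
    [LambdaRing.LambdaOps K] [LambdaRing.LambdaOps K'] [Algebra ℚ K] [Algebra ℚ K'] (f : K →+* K') :
    LambdaRing.IsLambdaHom f ↔
      ∀ k : ℕ, 1 ≤ k → ∀ x : K, f (LambdaRing.adamsOp k x) = LambdaRing.adamsOp k (f x) := by
  haveI : IsAddTorsionFree K' := IsAddTorsionFree.of_module_rat K'
  have hmap : ∀ x, PowerSeries.constantCoeff (PowerSeries.map f (LambdaRing.lamSeries x)) = 1 := fun x => by
    rw [← PowerSeries.coeff_zero_eq_constantCoeff_apply, PowerSeries.coeff_map,
      Groth.Agent.Lambda.coeff_lamSeries, LambdaRing.LambdaOps.lam_zero, map_one]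
  constructor
  · intro hf k hk x
    rw [Groth.Agent.Lambda.adamsOp_eq_psiS, Groth.Agent.Lambda.adamsOp_eq_psiS,
      Groth.Agent.Lambda.map_psiS f (Groth.Agent.Lambda.constantCoeff_lamSeries x)]
    congr 1
    ext n
    simp [Groth.Agent.Lambda.coeff_lamSeries, hf n x]
  · intro h n x
    rw [← Groth.Agent.Lambda.coeff_lamSeries, ← PowerSeries.coeff_map, ← Groth.Agent.Lambda.coeff_lamSeries]
    refine Groth.Agent.Lambda.coeff_eq_of_psiS_eq (hmap x) (Groth.Agent.Lambda.constantCoeff_lamSeries _)
      (n := n) (fun k hk _ => ?_) le_rfl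
    rw [← Groth.Agent.Lambda.map_psiS f (Groth.Agent.Lambda.constantCoeff_lamSeries x),
      ← Groth.Agent.Lambda.adamsOp_eq_psiS, ← Groth.Agent.Lambda.adamsOp_eq_psiS, h k hk x]

end Groth.Agent.S8703
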