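import Groth.Statements.S8705
import Groth.Agent.GrpExtRigid.SymmCocycle
-- import your own Groth.Agent.* helpers here

set_option autoImplicit false
universe u
open SGA7

namespace Groth.Agent.S8705

/-- In the case of the punctual topos (ordinary abelian groups): let P be an abelian group and consider
the complex of free abelian groups Z[P × P × P] ⊕ Z[P × P] → Z[P × P] → Z[P], augmented to P by [p]
↦ p, with d₀[p, q] = [p + q] − [p] − [q], with d₁ on the first summand given by [p, q, r] ↦ [p + q,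
r] − [p, q + r] + [p, q] − [q, r] and on the second summand by [p, q] ↦ [p, q] − [q, p]. Then the
augmentation is surjective with kernel the image of d₀ (so H₀ is P), and the kernel of d₀ is the sum
of the images of the two components of d₁ (so H₁ vanishes). (The published statement is for abelian
sheaves on an arbitrary topos; this row is its case of a one-point space.) -/
theorem result (P : Type u) [AddCommGroup P] :
    letI ε : (P →₀ ℤ) →ₗ[ℤ] P := Finsupp.linearCombination ℤ (fun p : P => p)
    letI d₀ : (P × P →₀ ℤ) →ₗ[ℤ] (P →₀ ℤ) := Finsupp.linearCombination ℤ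
      (fun pq : P × P => Finsupp.single (pq.1 + pq.2) 1 - Finsupp.single pq.1 1 - Finsupp.single pq.2 1)
    letI d₁ : (P × P × P →₀ ℤ) →ₗ[ℤ] (P × P →₀ ℤ) := Finsupp.linearCombination ℤ
      (fun t : P × P × P => Finsupp.single (t.1 + t.2.1, t.2.2) 1 - Finsupp.single (t.1, t.2.1 + t.2.2) 1
        + Finsupp.single (t.1, t.2.1) 1 - Finsupp.single (t.2.1, t.2.2) 1)
    letI d₁' : (P × P →₀ ℤ) →ₗ[ℤ] (P × P →₀ ℤ) := Finsupp.linearCombination ℤ
      (fun pq : P × P => Finsupp.single pq 1 - Finsupp.single (pq.2, pq.1) 1)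
    Function.Surjective ε ∧ LinearMap.ker ε = LinearMap.range d₀ ∧
      LinearMap.ker d₀ = LinearMap.range d₁ ⊔ LinearMap.range d₁' := by
  set ε : (P →₀ ℤ) →ₗ[ℤ] P := Finsupp.linearCombination ℤ (fun p : P => p) with hεdef
  set d₀ : (P × P →₀ ℤ) →ₗ[ℤ] (P →₀ ℤ) := Finsupp.linearCombination ℤ
      (fun pq : P × P => Finsupp.single (pq.1 + pq.2) 1 - Finsupp.single pq.1 1 - Finsupp.single pq.2 1) with hd₀
  set d₁ : (P × P × P →₀ ℤ) →ₗ[ℤ] (P × P →₀ ℤ) := Finsupp.linearCombination ℤ
      (fun t : P × P × P => Finsupp.single (t.1 + t.2.1, t.2.2) 1 - Finsupp.single (t.1, t.2.1 + t.2.2) 1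
        + Finsupp.single (t.1, t.2.1) 1 - Finsupp.single (t.2.1, t.2.2) 1) with hd₁
  set d₁' : (P × P →₀ ℤ) →ₗ[ℤ] (P × P →₀ ℤ) := Finsupp.linearCombination ℤ
      (fun pq : P × P => Finsupp.single pq 1 - Finsupp.single (pq.2, pq.1) 1) with hd₁'
  refine ⟨fun p => ⟨Finsupp.single p 1, by simp [ε]⟩, le_antisymm (fun x hx => ?_) ?_, le_antisymm ?_ ?_⟩
  · have hS0 : (Finsupp.single (0 : P) (1 : ℤ)) ∈ LinearMap.range d₀ :=
      ⟨-Finsupp.single (0, 0) 1, by simp [d₀]⟩
    have := GrpExtRigid.mem_range_d₀ P x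
    have hε : Finsupp.linearCombination ℤ (fun p : P => p) x = 0 := hx
    rw [hε] at this
    simpa using add_mem this hS0
  · rintro _ ⟨y, rfl⟩
    have : ε ∘ₗ d₀ = 0 := by
      ext pq
      simp [ε, d₀]
    exact LinearMap.congr_fun this y
  · intro x hx
    let R := LinearMap.range d₁ ⊔ LinearMap.range d₁'
    let c : P → P → (P × P →₀ ℤ) ⧸ R := fun p q => R.mkQ (Finsupp.single (p, q) 1)
    have hs : ∀ p q, c p q = c q p := by
      intro p q
      rw [← sub_eq_zero]
      show R.mkQ _ - R.mkQ _ = 0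
      rw [← map_sub, Submodule.mkQ_apply, Submodule.Quotient.mk_eq_zero]
      exact Submodule.mem_sup_right ⟨Finsupp.single (p, q) 1, by simp [d₁']⟩
    have hc : ∀ p q r, c (p + q) r - c p (q + r) + c p q - c q r = 0 := by
      intro p q r
      show R.mkQ _ - R.mkQ _ + R.mkQ _ - R.mkQ _ = 0
      rw [← map_sub, ← map_add, ← map_sub, Submodule.mkQ_apply, Submodule.Quotient.mk_eq_zero]
      exact Submodule.mem_sup_left ⟨Finsupp.single (p, q, r) 1, by simp [d₁]⟩
    obtain ⟨E, _, ι, σ, hι, hσ⟩ := GrpExtRigid.exists_extension c hs hc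
    have hext : Finsupp.linearCombination ℤ σ ∘ₗ d₀ = -(ι.toIntLinearMap ∘ₗ R.mkQ) := by
      ext pq
      simp only [d₀, LinearMap.comp_apply, Finsupp.lsingle_apply, Finsupp.linearCombination_single,
        one_smul, map_sub, LinearMap.neg_apply, AddMonoidHom.coe_toIntLinearMap]
      rw [hσ]
      show σ pq.1 + σ pq.2 - ι (c pq.1 pq.2) - σ pq.1 - σ pq.2 = -ι (c pq.1 pq.2)
      abel
    have hx' : d₀ x = 0 := hx
    have := LinearMap.congr_fun hext x
    rw [LinearMap.comp_apply, hx', map_zero, LinearMap.neg_apply, eq_comm, neg_eq_zero,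
      LinearMap.comp_apply, AddMonoidHom.coe_toIntLinearMap] at this
    exact (Submodule.Quotient.mk_eq_zero R).mp (hι (this.trans (map_zero ι).symm))
  · refine sup_le ?_ ?_
    · rintro _ ⟨y, rfl⟩
      have : d₀ ∘ₗ d₁ = 0 := by
        refine Finsupp.lhom_ext fun t n => ?_
        simp only [d₀, d₁, LinearMap.comp_apply, LinearMap.zero_apply, Finsupp.linearCombination_single,
          map_smul, map_sub, map_add, one_smul]
        rw [add_assoc t.1 t.2.1 t.2.2]
        abel_nf
      exact LinearMap.congr_fun this y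
    · rintro _ ⟨y, rfl⟩
      have : d₀ ∘ₗ d₁' = 0 := by
        refine Finsupp.lhom_ext fun t n => ?_
        simp only [d₀, d₁', LinearMap.comp_apply, LinearMap.zero_apply, Finsupp.linearCombination_single,
          map_smul, map_sub, map_add, one_smul]
        rw [add_comm t.2 t.1]
        abel_nf
      exact LinearMap.congr_fun this y

end Groth.Agent.S8705
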