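import Groth.Statements.S8707
import Groth.Agent.ConstTors7.Torsion
import Groth.Agent.ConstTors7.Geometry
-- import your own Groth.Agent.* helpers here

set_option autoImplicit false
universe u
open CategoryTheory CategoryTheory.Limits MonoidalCategory CartesianMonoidalCategory MonObj AlgebraicGeometry
open SGA7

namespace Groth.Agent.S8707

/-- Let S be an irreducible scheme whose local rings are all geometrically unibranch, Z a group without
non-trivial elements of finite order, f : P → S a smooth morphism, G the constant P-group scheme Z_P
(through the isomorphism eG) and E a torsor under G over P for the fppf topology. Then E is trivial: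
it has a section over P. (Taking f the identity of S gives the statement for torsors under Z_S on S
itself. The accompanying assertions identifying the category of such torsors with that of torsors
over the generic point are not stated.) -/
theorem result (S : Scheme.{u}) [IrreducibleSpace ↥S]
    (hS : ∀ s : ↥S, CAlg2.IsGeomUnibranch ↑(S.presheaf.stalk s))
    (Z : Type u) [Group Z] (hZ : ∀ z : Z, IsOfFinOrder z → z = 1)
    (P : Scheme.{u}) (f : P ⟶ S) [Smooth f]
    (G : Over P) [GrpObj G] (eG : G ≅ TwC.const P Z) (hG : TwC.IsConstGrp Z G eG)
    (E : NonAbH1.TorsorSch G Scheme.fppfPrecoverage) :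
    NonAbH1.HasSectionOver E.X (𝟙 P) := by
  have ha : NonAbH1.IsTorsorFor Scheme.fpqcPrecoverage E.act :=
    ⟨E.isTorsor.1, E.isTorsor.2.imp fun R hR => ⟨Scheme.fppfPrecoverage_le_fpqcPrecoverage _ hR.1, hR.2⟩⟩
  haveI := ConstTors7.etale_torsor eG ha
  haveI := ConstTors7.isSeparated_torsor eG ha
  haveI := SchTorsor.surjective_hom ha
  exact ConstTors7.exists_section E.X.hom hS f (ConstTors7.specializing_torsor eG ha)
    (ConstTors7.bijective_residueFieldMap eG hG ha hZ)

end Groth.Agent.S8707
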