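import Groth.Statements.S8709
import Groth.Agent.GrpSchLib.UnitsScheme
import Groth.Agent.MorLib.BddFib
import Groth.Prelude.Def_Red
import Mathlib.AlgebraicGeometry.Geometrically.Connected
import Mathlib.AlgebraicGeometry.Geometrically.Reduced

set_option autoImplicit false
set_option linter.style.haveILetI false
set_option linter.unusedSectionVars false
universe u
open CategoryTheory CategoryTheory.Limits MonoidalCategory CartesianMonoidalCategory MonObj AlgebraicGeometry
open SGA7

namespace Groth.Agent.S8709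

open TopologicalSpace Groth.Agent.GrpSchLib Groth.Agent.GrpSchLib.Kunneth

section Core

variable {k : Type u} [Field k] [IsAlgClosed k]

theorem exists_piece (Z : Over (Spec (CommRingCat.of k))) [IsReduced Z.left] [CompactSpace Z.left]
    [IsLocallyNoetherian Z.left] {W : Set Z.left} (hW : W ∈ irreducibleComponents Z.left) :
    ∃ U : Z.left.Opens, IsAffineOpen U ∧ (U : Set Z.left).Nonempty ∧ (U : Set Z.left) ⊆ W ∧ IsIntegral U := by
  haveI : AlgebraicGeometry.IsNoetherian Z.left := {}
  have hfin : (irreducibleComponents Z.left).Finite := NoetherianSpace.finite_irreducibleComponents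
  obtain ⟨o, ho, hone, hoW⟩ := NoetherianSpace.exists_isOpen_nonempty_subset_irreducibleComponent W hW
  obtain ⟨x, hx⟩ := hone
  obtain ⟨U, hU, hxU, hUo⟩ :=
    exists_isAffineOpen_mem_and_subset (U := (⟨o, ho⟩ : Z.left.Opens)) hx
  have hUW : (U : Set Z.left) ⊆ W := fun y hy => hoW (hUo hy)
  refine ⟨U, hU, ⟨x, hxU⟩, hUW, ?_⟩
  have hirr : IsIrreducible (U : Set Z.left) := by
    refine ⟨⟨x, hxU⟩, fun a b ha hb hxa hxb => ?_⟩
    obtain ⟨y, hy, hya⟩ := hxa
    obtain ⟨z, hz, hzb⟩ := hxb
    obtain ⟨w, hwW, hw⟩ := hW.1.2 _ _ (ha.inter U.isOpen) (hb.inter U.isOpen) ⟨y, hUW hy, hya, hy⟩ ⟨z, hUW hz, hzb, hz⟩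
    exact ⟨w, hw.1.2, hw.1.1, hw.2.1⟩
  haveI : IrreducibleSpace U :=
    { toPreirreducibleSpace := Subtype.preirreducibleSpace hirr.2
      toNonempty := ⟨⟨x, hxU⟩⟩ }
  haveI : IrreducibleSpace (U : Scheme) := ‹_›
  haveI : IsReduced (U : Scheme) := isReduced_of_isOpenImmersion U.ι
  exact isIntegral_of_irreducibleSpace_of_isReduced _

/-- The open subscheme as a scheme over k. -/
noncomputable abbrev piece (Z : Over (Spec (CommRingCat.of k))) (U : Z.left.Opens) : Over (Spec (CommRingCat.of k)) :=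
  Over.mk (U.ι ≫ Z.hom)

noncomputable abbrev pι (Z : Over (Spec (CommRingCat.of k))) (U : Z.left.Opens) : piece Z U ⟶ Z :=
  Over.homMk U.ι rfl

theorem eq_one_of_pieces {Z : Over (Spec (CommRingCat.of k))} [IsReduced Z.left] [CompactSpace Z.left]
    [IsLocallyNoetherian Z.left] [ConnectedSpace Z.left] (φ : Fn Z) (z₀ : 𝟙_ (Over (Spec (CommRingCat.of k))) ⟶ Z)
    (h₀ : evPt z₀ φ = 1)
    (hc : ∀ W ∈ irreducibleComponents Z.left, ∃ (U : Z.left.Opens) (c : k), (U : Set Z.left).Nonempty ∧
      (U : Set Z.left) ⊆ W ∧ ev (pι Z U) φ = algebraMap k _ c) : φ = 1 := by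
  haveI : AlgebraicGeometry.IsNoetherian Z.left := {}
  have hfin : (irreducibleComponents Z.left).Finite := NoetherianSpace.finite_irreducibleComponents
  let D : k → Z.left.Opens := fun c => Z.left.basicOpen (φ - algebraMap k _ c)
  have hcomp : ∀ W ∈ irreducibleComponents Z.left, ∃ c : k, ∀ w ∈ W, w ∉ D c := by
    intro W hW
    obtain ⟨U, c, hne, hUW, hUc⟩ := hc W hW
    refine ⟨c, fun w hw hwD => ?_⟩
    obtain ⟨v, -, hv⟩ := hW.1.2 _ _ U.isOpen (D c).isOpen
      (hne.mono fun y hy => ⟨hUW hy, hy⟩) ⟨w, hw, hwD⟩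
    have h1 : (⟨v, hv.1⟩ : (U : Scheme)) ∈ U.ι ⁻¹ᵁ (D c) := hv.2
    have h2 : U.ι.appTop (φ - algebraMap k _ c) = 0 := by
      show ev (pι Z U) (φ - algebraMap k _ c) = 0
      rw [map_sub, AlgHom.commutes, hUc, sub_self]
    rw [Scheme.preimage_basicOpen_top, h2, Scheme.basicOpen_zero] at h1
    exact h1
  choose! cW hcW using hcomp
  have hkey : ∀ (c c' : k) (w : Z.left), c ≠ c' → w ∉ D c → w ∉ D c' → False := by
    intro c c' w hne hw hw'
    simp only [D, Scheme.mem_basicOpen_top] at hw hw'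
    have hu : IsUnit (Z.left.presheaf.germ ⊤ w trivial (algebraMap k (Fn Z) (c' - c))) :=
      ((IsUnit.mk0 _ (sub_ne_zero.mpr hne.symm)).map (algebraMap k (Fn Z))).map _
    have he : algebraMap k (Fn Z) (c' - c) = (φ - algebraMap k _ c) - (φ - algebraMap k _ c') := by
      rw [map_sub]; ring
    rw [he, map_sub, sub_eq_add_neg] at hu
    rcases IsLocalRing.isUnit_or_isUnit_of_isUnit_add hu with h | h
    · exact hw h
    · exact hw' (IsUnit.neg_iff _ |>.mp h)
  have hD : IsClopen ((D 1 : Set Z.left)) := by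
    refine ⟨?_, (D 1).isOpen⟩
    have : (D 1 : Set Z.left) = ⋃ W ∈ {W ∈ irreducibleComponents Z.left | cW W ≠ 1}, W := by
      ext w
      simp only [Set.mem_iUnion, exists_prop, Set.mem_ofPred_eq]
      refine ⟨fun hw => ?_, fun ⟨W, ⟨hW, hne⟩, hwW⟩ => ?_⟩
      · obtain ⟨W, hW, hwW⟩ : ∃ W ∈ irreducibleComponents Z.left, w ∈ W :=
          ⟨irreducibleComponent w, irreducibleComponent_mem_irreducibleComponents w, mem_irreducibleComponent⟩
        exact ⟨W, ⟨hW, fun h => hcW W hW w hwW (h ▸ hw)⟩, hwW⟩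
      · by_contra h
        exact hkey _ _ w hne (hcW W hW w hwW) h
    rw [this]
    exact Set.Finite.isClosed_biUnion (hfin.subset fun W h => h.1) fun W h => isClosed_of_mem_irreducibleComponents W h.1
  have hempty : (D 1 : Set Z.left) = ∅ := by
    rcases isClopen_iff.mp hD with h | h
    · exact h
    · exfalso
      have hp : z₀.left (IsLocalRing.closedPoint k) ∈ D 1 := by
        have := Set.mem_univ (z₀.left (IsLocalRing.closedPoint k))
        rw [← h] at this
        exact this
      have h2 : IsLocalRing.closedPoint k ∈ z₀.left ⁻¹ᵁ (D 1) := hp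
      have h3 : z₀.left.appTop (φ - algebraMap k _ 1) = 0 := by
        rw [map_sub, (evPt_eq_one_iff z₀ φ).mp h₀, map_one, map_one, sub_self]
      rw [Scheme.preimage_basicOpen_top, h3, Scheme.basicOpen_zero] at h2
      exact h2
  have h4 : φ - algebraMap k _ 1 = 0 := (basicOpen_eq_bot_iff _).mp (Opens.ext hempty)
  rwa [map_one, sub_eq_zero] at h4

theorem comp_slice {T X Y : Over (Spec (CommRingCat.of k))} (x : T ⟶ X) (y : 𝟙_ (Over (Spec (CommRingCat.of k))) ⟶ Y) :
    x ≫ lift (𝟙 X) (toUnit X ≫ y) = lift x (toUnit T ≫ y) := by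
  rw [comp_lift, Category.comp_id, ← Category.assoc, toUnit_unique (x ≫ toUnit X) (toUnit T)]

variable (X Y : Over (Spec (CommRingCat.of k))) [LocallyOfFiniteType X.hom] [QuasiCompact X.hom]
  [LocallyOfFiniteType Y.hom] [QuasiCompact Y.hom] [GeometricallyReduced X.hom] [GeometricallyReduced Y.hom]
  [ConnectedSpace X.left] [ConnectedSpace Y.left]

theorem eq_one_core (f : Fn (X ⊗ Y)) (hf : IsUnit f) (eX : 𝟙_ (Over (Spec (CommRingCat.of k))) ⟶ X)
    (eY : 𝟙_ (Over (Spec (CommRingCat.of k))) ⟶ Y)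
    (hX : ev (lift (𝟙 X) (toUnit X ≫ eY)) f = 1) (hY : ev (lift (toUnit Y ≫ eX) (𝟙 Y)) f = 1) : f = 1 := by
  haveI : Flat X.hom := Groth.Agent.MorLib.BF.flat_to_field (Field.toIsField k) _
  haveI : Flat Y.hom := Groth.Agent.MorLib.BF.flat_to_field (Field.toIsField k) _
  haveI : IsReduced X.left := GeometricallyReduced.isReduced_of_flat_of_isLocallyNoetherian X.hom
  haveI : IsReduced Y.left := GeometricallyReduced.isReduced_of_flat_of_isLocallyNoetherian Y.hom
  haveI : IsLocallyNoetherian X.left := LocallyOfFiniteType.isLocallyNoetherian X.hom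
  haveI : IsLocallyNoetherian Y.left := LocallyOfFiniteType.isLocallyNoetherian Y.hom
  haveI : CompactSpace X.left := (quasiCompact_iff_compactSpace X.hom).mp inferInstance
  haveI : CompactSpace Y.left := (quasiCompact_iff_compactSpace Y.hom).mp inferInstance
  haveI : IsReduced (X ⊗ Y).left := inferInstanceAs (IsReduced (pullback X.hom Y.hom))
  haveI : LocallyOfFiniteType (X ⊗ Y).hom := inferInstanceAs (LocallyOfFiniteType (pullback.fst X.hom Y.hom ≫ X.hom))
  let F := fun (x : 𝟙_ (Over (Spec (CommRingCat.of k))) ⟶ X) (y : 𝟙_ (Over (Spec (CommRingCat.of k))) ⟶ Y) =>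
    evPt (lift x y) f
  let t := fun x : 𝟙_ (Over (Spec (CommRingCat.of k))) ⟶ X => ev (lift (toUnit Y ≫ x) (𝟙 Y)) f
  have ht : ∀ x y, evPt y (t x) = F x y := by
    intro x y
    show evPt y (ev _ f) = _
    rw [evPt_comp, comp_lift, Category.comp_id, ← Category.assoc, toUnit_unique (y ≫ toUnit Y) (𝟙 _), Category.id_comp]
  have hs : ∀ x y, evPt x (ev (lift (𝟙 X) (toUnit X ≫ y)) f) = F x y := by
    intro x y
    rw [evPt_comp, comp_slice, toUnit_unique (toUnit _) (𝟙 _), Category.id_comp]
  have hF₁ : ∀ x, F x eY = 1 := fun x => by rw [← hs, hX, map_one]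
  have hF₂ : ∀ y, F eX y = 1 := fun y => by
    rw [← ht]
    show evPt y (ev (lift (toUnit Y ≫ eX) (𝟙 Y)) f) = 1
    rw [hY, map_one]
  have h1 : ∀ (U : X.left.Opens), IsAffineOpen U → IsIntegral (U : Scheme) →
      ∀ p p' : 𝟙_ (Over (Spec (CommRingCat.of k))) ⟶ piece X U, ∀ y, F (p ≫ pι X U) y = F (p' ≫ pι X U) y := by
    intro U hU hUi p p' y
    haveI : IsAffine (U : Scheme) := hU
    haveI : IsIntegral (piece X U).left := hUi
    haveI : IsAffine (piece X U).left := hU
    haveI : IsAffineHom (piece X U).hom := isAffineHom_of_isAffine _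
    haveI : LocallyOfFiniteType (piece X U).hom := inferInstanceAs (LocallyOfFiniteType (U.ι ≫ X.hom))
    obtain ⟨b, hb⟩ := (hf.map (ev (lift (toUnit Y ≫ (p' ≫ pι X U)) (𝟙 Y)))).exists_right_inv
    have hφ : t (p ≫ pι X U) * b = 1 := by
      refine eq_one_of_pieces _ eY ?_ fun W hW => ?_
      · have hb' := congrArg (evPt eY) hb
        rw [map_mul, map_one] at hb'
        change evPt eY (t (p' ≫ pι X U)) * evPt eY b = 1 at hb'
        rw [ht, hF₁, _root_.one_mul] at hb'
        rw [map_mul, ht, hF₁, hb', _root_.one_mul]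
      · obtain ⟨V, hV, hne, hVW, hVi⟩ := exists_piece Y hW
        haveI : IsAffine (piece Y V).left := hV
        haveI : IsIntegral (piece Y V).left := hVi
        haveI : IsAffineHom (piece Y V).hom := isAffineHom_of_isAffine _
        haveI : LocallyOfFiniteType (piece Y V).hom := inferInstanceAs (LocallyOfFiniteType (V.ι ≫ Y.hom))
        obtain ⟨g, h, hg, hh, he⟩ := exists_units_mul (X := piece X U) (Y := piece Y V)
          (hf.map (ev (pι X U ⊗ₘ pι Y V)))
        refine ⟨V, evPt p g * (evPt p' g)⁻¹, hne, hVW, ?_⟩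
        rw [← sub_eq_zero]
        refine eq_zero_of_forall_evPt _ fun q => ?_
        have hval : ∀ r : 𝟙_ (Over (Spec (CommRingCat.of k))) ⟶ piece X U,
            F (r ≫ pι X U) (q ≫ pι Y V) = evPt r g * evPt q h := by
          intro r
          show evPt _ f = _
          rw [← lift_map r q (pι X U) (pι Y V), ← evPt_comp, he, map_mul, evPt_comp, evPt_comp, lift_fst, lift_snd]
        have hb' := congrArg (evPt (q ≫ pι Y V)) hb
        rw [map_mul, map_one] at hb'
        change evPt (q ≫ pι Y V) (t (p' ≫ pι X U)) * evPt (q ≫ pι Y V) b = 1 at hb'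
        rw [ht, hval] at hb'
        have hgne : evPt p' g ≠ 0 := (hg.map (evPt p')).ne_zero
        rw [map_sub, evPt_comp, map_mul, ht, hval, AlgHom.commutes, sub_eq_zero, Algebra.algebraMap_self_apply]
        field_simp
        linear_combination (evPt p g) * hb'
    have hb2 := congrArg (evPt y) hb
    have hφ2 := congrArg (evPt y) hφ
    rw [map_mul, map_one] at hb2 hφ2
    change evPt y (t (p' ≫ pι X U)) * evPt y b = 1 at hb2
    rw [ht] at hb2 hφ2
    exact mul_right_cancel₀ (right_ne_zero_of_mul_eq_one hb2) (hφ2.trans hb2.symm)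
  have h2 : ∀ y, ev (lift (𝟙 X) (toUnit X ≫ y)) f = 1 := by
    intro y
    refine eq_one_of_pieces _ eX ((hs eX y).trans (hF₂ y)) fun W hW => ?_
    obtain ⟨U, hU, hne, hUW, hUi⟩ := exists_piece X hW
    haveI : Nonempty (piece X U).left := ⟨⟨hne.choose, hne.choose_spec⟩⟩
    haveI : IsAffine (piece X U).left := hU
    haveI : IsReduced (piece X U).left := isReduced_of_isOpenImmersion U.ι
    haveI : IsAffineHom (piece X U).hom := isAffineHom_of_isAffine _
    haveI : LocallyOfFiniteType (piece X U).hom := inferInstanceAs (LocallyOfFiniteType (U.ι ≫ X.hom))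
    obtain ⟨p₀⟩ := exists_point (piece X U)
    refine ⟨U, F (p₀ ≫ pι X U) y, hne, hUW, ?_⟩
    rw [← sub_eq_zero]
    refine eq_zero_of_forall_evPt _ fun p => ?_
    rw [map_sub, evPt_comp, hs, AlgHom.commutes, sub_eq_zero, Algebra.algebraMap_self_apply]
    exact h1 U hU hUi p p₀ y
  rw [← sub_eq_zero]
  refine eq_zero_of_forall_evPt _ fun z => ?_
  have hz : z = lift (z ≫ fst X Y) (z ≫ snd X Y) := by ext <;> simp
  rw [map_sub, map_one, sub_eq_zero, hz]
  show F _ _ = 1
  rw [← hs, h2, map_one]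

end Core

section Descent

variable {k : Type u} [Field k]

/-- The coordinate function of a map to the multiplicative group. -/
noncomputable def coord {T : Over (Spec (CommRingCat.of k))} (u : T ⟶ Red.Gm (Spec (CommRingCat.of k))) (n : ℤ) : Fn T :=
  (u.left ≫ pullback.fst _ _).appTop
    ((Scheme.ΓSpecIso (CommRingCat.of (MonoidAlgebra (ULift.{u} ℤ) (Multiplicative ℤ)))).inv
      (MonoidAlgebra.single (Multiplicative.ofAdd n) 1))

theorem coord_ext {T : Over (Spec (CommRingCat.of k))} (u v : T ⟶ Red.Gm (Spec (CommRingCat.of k)))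
    (h : coord u 1 = coord v 1) : u = v := by
  apply Over.OverMorphism.ext
  apply pullback.hom_ext
  · haveI : IsAffine (Red.diag (ULift.{u} ℤ) ℤ).left :=
      inferInstanceAs (IsAffine (Spec (CommRingCat.of (MonoidAlgebra (ULift.{u} ℤ) (Multiplicative ℤ)))))
    apply ext_of_isAffine
    let R := MonoidAlgebra (ULift.{u} ℤ) (Multiplicative ℤ)
    let φ : R →+* Γ(T.left, ⊤) :=
      ((Scheme.ΓSpecIso (CommRingCat.of R)).inv ≫ (u.left ≫ pullback.fst _ _).appTop).hom
    let ψ : R →+* Γ(T.left, ⊤) :=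
      ((Scheme.ΓSpecIso (CommRingCat.of R)).inv ≫ (v.left ≫ pullback.fst _ _).appTop).hom
    have : φ = ψ := by
      refine MonoidAlgebra.ringHom_ext ?_ ?_
      · intro r
        exact RingHom.congr_fun (RingHom.ext_int ((φ.comp MonoidAlgebra.singleOneRingHom).comp (ULift.ringEquiv.symm.toRingHom))
          ((ψ.comp MonoidAlgebra.singleOneRingHom).comp (ULift.ringEquiv.symm.toRingHom))) r.down
      · intro g
        have := DFunLike.congr_fun (MonoidHom.ext_mint (f := φ.toMonoidHom.comp (MonoidAlgebra.of _ _))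
          (g := ψ.toMonoidHom.comp (MonoidAlgebra.of _ _)) h) g
        exact this
    exact (Iso.cancel_iso_inv_left _ _ _).mp (CommRingCat.hom_ext this)
  · exact (Over.w u).trans (Over.w v).symm

theorem coord_comp {T T' : Over (Spec (CommRingCat.of k))} (a : T ⟶ T') (u : T' ⟶ Red.Gm (Spec (CommRingCat.of k))) (n : ℤ) :
    coord (a ≫ u) n = ev a (coord u n) := rfl

theorem isUnit_coord {T : Over (Spec (CommRingCat.of k))} (u : T ⟶ Red.Gm (Spec (CommRingCat.of k))) (n : ℤ) :
    IsUnit (coord u n) := by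
  refine IsUnit.map _ (IsUnit.map _ ?_)
  exact (Group.isUnit (Multiplicative.ofAdd n)).map (MonoidAlgebra.of (ULift.{u} ℤ) (Multiplicative ℤ))

theorem lift_left_fst {S : Scheme.{u}} {T A B : Over S} (α : T ⟶ A) (β : T ⟶ B) :
    (lift α β).left ≫ pullback.fst A.hom B.hom = α.left :=
  congrArg (fun m : T ⟶ A => m.left) (lift_fst α β)

theorem lift_left_snd {S : Scheme.{u}} {T A B : Over S} (α : T ⟶ A) (β : T ⟶ B) :
    (lift α β).left ≫ pullback.snd A.hom B.hom = β.left :=
  congrArg (fun m : T ⟶ B => m.left) (lift_snd α β)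

theorem eq_one_of_axes (X Y : Over (Spec (CommRingCat.of k)))
    [LocallyOfFiniteType X.hom] [QuasiCompact X.hom] [GeometricallyReduced X.hom] [GeometricallyConnected X.hom]
    [LocallyOfFiniteType Y.hom] [QuasiCompact Y.hom] [GeometricallyReduced Y.hom] [GeometricallyConnected Y.hom]
    (f : Fn (X ⊗ Y)) (hf : IsUnit f) (eX : 𝟙_ (Over (Spec (CommRingCat.of k))) ⟶ X)
    (eY : 𝟙_ (Over (Spec (CommRingCat.of k))) ⟶ Y)
    (hX : ev (lift (𝟙 X) (toUnit X ≫ eY)) f = 1) (hY : ev (lift (toUnit Y ≫ eX) (𝟙 Y)) f = 1) : f = 1 := by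
  haveI : Flat X.hom := Groth.Agent.MorLib.BF.flat_to_field (Field.toIsField k) _
  haveI : Flat Y.hom := Groth.Agent.MorLib.BF.flat_to_field (Field.toIsField k) _
  haveI : IsReduced X.left := GeometricallyReduced.isReduced_of_flat_of_isLocallyNoetherian X.hom
  haveI : IsReduced Y.left := GeometricallyReduced.isReduced_of_flat_of_isLocallyNoetherian Y.hom
  haveI : IsLocallyNoetherian Y.left := LocallyOfFiniteType.isLocallyNoetherian Y.hom
  haveI : IsReduced (X ⊗ Y).left := inferInstanceAs (IsReduced (pullback X.hom Y.hom))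
  let K := AlgebraicClosure k
  let g : Spec (CommRingCat.of K) ⟶ Spec (CommRingCat.of k) := Spec.map (CommRingCat.ofHom (algebraMap k K))
  let X' : Over (Spec (CommRingCat.of K)) := Over.mk (pullback.snd X.hom g)
  let Y' : Over (Spec (CommRingCat.of K)) := Over.mk (pullback.snd Y.hom g)
  haveI : LocallyOfFiniteType X'.hom := inferInstanceAs (LocallyOfFiniteType (pullback.snd X.hom g))
  haveI : LocallyOfFiniteType Y'.hom := inferInstanceAs (LocallyOfFiniteType (pullback.snd Y.hom g))
  haveI : QuasiCompact X'.hom := inferInstanceAs (QuasiCompact (pullback.snd X.hom g))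
  haveI : QuasiCompact Y'.hom := inferInstanceAs (QuasiCompact (pullback.snd Y.hom g))
  haveI : GeometricallyReduced X'.hom := inferInstanceAs (GeometricallyReduced (pullback.snd X.hom g))
  haveI : GeometricallyReduced Y'.hom := inferInstanceAs (GeometricallyReduced (pullback.snd Y.hom g))
  haveI : GeometricallyConnected X'.hom := inferInstanceAs (GeometricallyConnected (pullback.snd X.hom g))
  haveI : GeometricallyConnected Y'.hom := inferInstanceAs (GeometricallyConnected (pullback.snd Y.hom g))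
  haveI : ConnectedSpace X'.left := GeometricallyConnected.connectedSpace_of_subsingleton X'.hom
  haveI : ConnectedSpace Y'.left := GeometricallyConnected.connectedSpace_of_subsingleton Y'.hom
  let a : X'.left ⟶ X.left := pullback.fst X.hom g
  let b : Y'.left ⟶ Y.left := pullback.fst Y.hom g
  have wa : a ≫ X.hom = X'.hom ≫ g := pullback.condition
  have wb : b ≫ Y.hom = Y'.hom ≫ g := pullback.condition
  let q : (X' ⊗ Y').left ⟶ (X ⊗ Y).left := pullback.map X'.hom Y'.hom X.hom Y.hom a b g wa.symm wb.symm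
  haveI : Surjective g := ⟨fun x => ⟨IsLocalRing.closedPoint K, Subsingleton.elim _ _⟩⟩
  haveI : Surjective q := by
    let h := pullback.fst X.hom Y.hom ≫ X.hom
    let c₁ : pullback h g ⟶ X'.left := pullback.lift (pullback.fst h g ≫ pullback.fst X.hom Y.hom) (pullback.snd h g)
      (by rw [Category.assoc]; exact pullback.condition)
    let c₂ : pullback h g ⟶ Y'.left := pullback.lift (pullback.fst h g ≫ pullback.snd X.hom Y.hom) (pullback.snd h g)
      (by rw [Category.assoc, ← pullback.condition (f := X.hom) (g := Y.hom)]; exact pullback.condition)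
    let ψ : pullback h g ⟶ (X' ⊗ Y').left := pullback.lift c₁ c₂ (by
      show c₁ ≫ pullback.snd X.hom g = c₂ ≫ pullback.snd Y.hom g
      exact (pullback.lift_snd _ _ _).trans (pullback.lift_snd _ _ _).symm)
    have e : ψ ≫ q = pullback.fst h g := by
      apply pullback.hom_ext
      · rw [Category.assoc]
        refine (congrArg (ψ ≫ ·) (pullback.lift_fst _ _ _)).trans ?_
        rw [← Category.assoc]
        refine (congrArg (· ≫ a) (pullback.lift_fst _ _ _)).trans (pullback.lift_fst _ _ _)
      · rw [Category.assoc]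
        refine (congrArg (ψ ≫ ·) (pullback.lift_snd _ _ _)).trans ?_
        rw [← Category.assoc]
        refine (congrArg (· ≫ b) (pullback.lift_snd _ _ _)).trans (pullback.lift_fst _ _ _)
    haveI : Surjective (ψ ≫ q) := by rw [e]; infer_instance
    exact Surjective.of_comp ψ q
  let liftPt : ∀ (Z : Over (Spec (CommRingCat.of k))) (z : 𝟙_ (Over (Spec (CommRingCat.of k))) ⟶ Z),
      𝟙_ (Over (Spec (CommRingCat.of K))) ⟶ Over.mk (pullback.snd Z.hom g) := fun Z z =>
    Over.homMk (pullback.lift (g ≫ z.left) (𝟙 _) (by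
      rw [Category.assoc, Over.w z]
      exact (Category.comp_id g).trans (Category.id_comp g).symm)) (pullback.lift_snd _ _ _)
  have hgz : ∀ (Z : Over (Spec (CommRingCat.of k))) (z : 𝟙_ (Over (Spec (CommRingCat.of k))) ⟶ Z),
      (liftPt Z z).left ≫ pullback.fst Z.hom g = g ≫ z.left := fun Z z => pullback.lift_fst _ _ _
  let f' : Fn (X' ⊗ Y') := q.appTop f
  have key : f' = 1 := by
    refine eq_one_core X' Y' f' (hf.map _) (liftPt X eX) (liftPt Y eY) ?_ ?_
    · have e : (lift (𝟙 X') (toUnit X' ≫ liftPt Y eY)).left ≫ q = a ≫ (lift (𝟙 X) (toUnit X ≫ eY)).left := by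
        have qf : q ≫ pullback.fst X.hom Y.hom = pullback.fst X'.hom Y'.hom ≫ a := pullback.lift_fst _ _ _
        have qs : q ≫ pullback.snd X.hom Y.hom = pullback.snd X'.hom Y'.hom ≫ b := pullback.lift_snd _ _ _
        apply pullback.hom_ext
        · rw [Category.assoc, Category.assoc, qf, lift_left_fst]
          refine (reassoc_of% (lift_left_fst (𝟙 X') (toUnit X' ≫ liftPt Y eY))) a |>.trans ?_
          exact (Category.id_comp a).trans (Category.comp_id a).symm
        · rw [Category.assoc, Category.assoc, qs, lift_left_snd]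
          refine (reassoc_of% (lift_left_snd (𝟙 X') (toUnit X' ≫ liftPt Y eY))) b |>.trans ?_
          show (X'.hom ≫ (liftPt Y eY).left) ≫ b = a ≫ X.hom ≫ eY.left
          rw [Category.assoc, hgz, reassoc_of% wa]
      show (lift (𝟙 X') (toUnit X' ≫ liftPt Y eY)).left.appTop (q.appTop f) = 1
      rw [← CommRingCat.comp_apply, ← Scheme.Hom.comp_appTop, e, Scheme.Hom.comp_appTop, CommRingCat.comp_apply]
      exact (congrArg a.appTop hX).trans (map_one _)
    · have e : (lift (toUnit Y' ≫ liftPt X eX) (𝟙 Y')).left ≫ q = b ≫ (lift (toUnit Y ≫ eX) (𝟙 Y)).left := by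
        have qf : q ≫ pullback.fst X.hom Y.hom = pullback.fst X'.hom Y'.hom ≫ a := pullback.lift_fst _ _ _
        have qs : q ≫ pullback.snd X.hom Y.hom = pullback.snd X'.hom Y'.hom ≫ b := pullback.lift_snd _ _ _
        apply pullback.hom_ext
        · rw [Category.assoc, Category.assoc, qf, lift_left_fst]
          refine (reassoc_of% (lift_left_fst (toUnit Y' ≫ liftPt X eX) (𝟙 Y'))) a |>.trans ?_
          show (Y'.hom ≫ (liftPt X eX).left) ≫ a = b ≫ Y.hom ≫ eX.left
          rw [Category.assoc, hgz, reassoc_of% wb]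
        · rw [Category.assoc, Category.assoc, qs, lift_left_snd]
          refine (reassoc_of% (lift_left_snd (toUnit Y' ≫ liftPt X eX) (𝟙 Y'))) b |>.trans ?_
          exact (Category.id_comp b).trans (Category.comp_id b).symm
      show (lift (toUnit Y' ≫ liftPt X eX) (𝟙 Y')).left.appTop (q.appTop f) = 1
      rw [← CommRingCat.comp_apply, ← Scheme.Hom.comp_appTop, e, Scheme.Hom.comp_appTop, CommRingCat.comp_apply]
      exact (congrArg b.appTop hY).trans (map_one _)
  rw [← sub_eq_zero]
  apply (basicOpen_eq_bot_iff _).mp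
  apply Opens.ext
  refine Set.eq_empty_iff_forall_notMem.mpr fun w hw => ?_
  obtain ⟨w', rfl⟩ := q.surjective w
  have h2 : w' ∈ q ⁻¹ᵁ (X ⊗ Y).left.basicOpen (f - 1) := hw
  rw [Scheme.preimage_basicOpen_top, map_sub, show q.appTop f = 1 from key, map_one, sub_self,
    Scheme.basicOpen_zero] at h2
  exact h2

end Descent


/-- Let k be a field and X, Y two k-schemes of finite type which are geometrically reduced and
geometrically connected, with rational points e_X and e_Y. Then every k-morphism u from X ×_k Y to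
the multiplicative group whose restrictions to X × e_Y and to e_X × Y are trivial is trivial.
(Morphisms to the multiplicative group over k form a group; trivial means equal to its unit
element.) -/
theorem result (k : Type u) [Field k]
    (X Y : Over (Spec (CommRingCat.of k)))
    [LocallyOfFiniteType X.hom] [QuasiCompact X.hom] [GeometricallyReduced X.hom] [GeometricallyConnected X.hom]
    [LocallyOfFiniteType Y.hom] [QuasiCompact Y.hom] [GeometricallyReduced Y.hom] [GeometricallyConnected Y.hom]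
    (eX : 𝟙_ (Over (Spec (CommRingCat.of k))) ⟶ X) (eY : 𝟙_ (Over (Spec (CommRingCat.of k))) ⟶ Y)
    (u : X ⊗ Y ⟶ Red.Gm (Spec (CommRingCat.of k)))
    (huX : lift (𝟙 X) (toUnit X ≫ eY) ≫ u = 1) (huY : lift (toUnit Y ≫ eX) (𝟙 Y) ≫ u = 1) :
    u = 1 := by
  obtain ⟨c, hc⟩ := (isUnit_coord (1 : X ⊗ Y ⟶ Red.Gm (Spec (CommRingCat.of k))) 1).exists_right_inv
  refine coord_ext _ _ ?_
  have hone : ∀ {T T' : Over (Spec (CommRingCat.of k))} (a : T ⟶ T'),
      ev a (coord (1 : T' ⟶ Red.Gm (Spec (CommRingCat.of k))) 1) = coord (1 : T ⟶ Red.Gm (Spec (CommRingCat.of k))) 1 := by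
    intro T T' a
    rw [← coord_comp, MonObj.comp_one]
  have key : coord u 1 * c = 1 := by
    refine eq_one_of_axes X Y _ ((isUnit_coord u 1).mul (IsUnit.of_mul_eq_one_right _ hc)) eX eY ?_ ?_
    · have h := congrArg (ev (lift (𝟙 X) (toUnit X ≫ eY))) hc
      rw [map_mul, hone, map_one] at h
      rw [map_mul, ← coord_comp, huX, h]
    · have h := congrArg (ev (lift (toUnit Y ≫ eX) (𝟙 Y))) hc
      rw [map_mul, hone, map_one] at h
      rw [map_mul, ← coord_comp, huY, h]
  exact (IsUnit.of_mul_eq_one_right _ hc).mul_right_cancel (key.trans hc.symm)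

end Groth.Agent.S8709
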