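import Groth.Statements.S8710
import Groth.Agent.TorBridge.FirstVar
-- import your own Groth.Agent.* helpers here

set_option autoImplicit false
universe u
open CategoryTheory CategoryTheory.Limits
open SGA7

namespace Groth.Agent.S8710

/-- Let f : B' → B be a surjective map of R-algebras with B' flat over R, g : C → B a map of R-algebras,
P = B' ×_B C their fibre product (the equalizer of f ∘ pr₁ and g ∘ pr₂ in B' × C), S an R-algebra
and n a natural number. If Tor_i^R(C, S) = 0 for 0 < i < n and Tor_i^R(B, S) = 0 for 0 < i ≤ n, then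
Tor_i^R(P, S) = 0 for 0 < i < n. Here Tor_i^R(M, S) is the i-th left derived functor of M ⊗_R − on
R-modules, evaluated at S. (The published statement asks the vanishing for B only in degrees 0 < i <
n; the published proof and the corollary following it use it in degrees 0 < i ≤ n, which this row
assumes.) -/
theorem result (R B' B C S : Type u) [CommRing R] [CommRing B'] [CommRing B]
    [CommRing C] [CommRing S] [Algebra R B'] [Algebra R B] [Algebra R C] [Algebra R S]
    (f : B' →ₐ[R] B) (hf : Function.Surjective f) (g : C →ₐ[R] B) [Module.Flat R B'] (n : ℕ)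
    (hC : ∀ i : ℕ, 0 < i → i < n →
      IsZero (((Tor (ModuleCat.{u} R) i).obj (ModuleCat.of R C)).obj (ModuleCat.of R S)))
    (hB : ∀ i : ℕ, 0 < i → i ≤ n →
      IsZero (((Tor (ModuleCat.{u} R) i).obj (ModuleCat.of R B)).obj (ModuleCat.of R S))) :
    letI P := AlgHom.equalizer (f.comp (AlgHom.fst R B' C)) (g.comp (AlgHom.snd R B' C))
    ∀ i : ℕ, 0 < i → i < n →
      IsZero (((Tor (ModuleCat.{u} R) i).obj (ModuleCat.of R ↥P)).obj (ModuleCat.of R S)) := by
  intro i hi hin
  obtain ⟨j, rfl⟩ : ∃ j, i = j + 1 := ⟨i - 1, by omega⟩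
  let P := AlgHom.equalizer (f.comp (AlgHom.fst R B' C)) (g.comp (AlgHom.snd R B' C))
  let ι : ↥P →ₗ[R] B' × C := P.val.toLinearMap
  let d : B' × C →ₗ[R] B := f.toLinearMap.coprod (-g.toLinearMap)
  have hd : ∀ x : B' × C, d x = f x.1 - g x.2 := fun x => by simp [d, sub_eq_add_neg]
  have hs : Function.Surjective d := fun b => by
    obtain ⟨b', rfl⟩ := hf b
    exact ⟨(b', 0), by simp [hd]⟩
  have hex : Function.Exact ι d := fun x => by
    rw [hd, sub_eq_zero]
    exact ⟨fun h => ⟨⟨x, h⟩, rfl⟩, by rintro ⟨p, rfl⟩; exact p.2⟩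
  have w : ModuleCat.ofHom ι ≫ ModuleCat.ofHom d = 0 :=
    ModuleCat.hom_ext (LinearMap.ext fun p => hex.apply_apply_eq_zero p)
  have hS : (ShortComplex.mk (ModuleCat.ofHom ι) (ModuleCat.ofHom d) w).ShortExact :=
    { exact := (ShortComplex.ShortExact.moduleCat_exact_iff_function_exact _).2 hex
      mono_f := (ModuleCat.mono_iff_injective _).2 Subtype.val_injective
      epi_g := (ModuleCat.epi_iff_surjective _).2 hs }
  have w' : ModuleCat.ofHom (LinearMap.inl R B' C) ≫ ModuleCat.ofHom (LinearMap.snd R B' C) = 0 :=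
    ModuleCat.hom_ext (LinearMap.snd_comp_inl R B' C)
  have hS' : (ShortComplex.mk (ModuleCat.ofHom (LinearMap.inl R B' C)) (ModuleCat.ofHom (LinearMap.snd R B' C)) w').ShortExact :=
    { exact := (ShortComplex.ShortExact.moduleCat_exact_iff_function_exact _).2 Function.Exact.inl_snd
      mono_f := (ModuleCat.mono_iff_injective _).2 LinearMap.inl_injective
      epi_g := (ModuleCat.epi_iff_surjective _).2 LinearMap.snd_surjective }
  haveI : Module.Flat R (ModuleCat.of R B') := ‹Module.Flat R B'›
  have h2 := TorBridge.isZero_tor_second _ hS' (ModuleCat.of R S) (j + 1)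
    (TorBridge.isZero_tor_succ_of_flat (ModuleCat.of R B') _ j) (hC (j + 1) hi hin)
  exact TorBridge.isZero_tor_first _ hS (ModuleCat.of R S) (j + 1) (hB (j + 2) (by omega) (by omega)) h2

end Groth.Agent.S8710
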