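import Groth.Statements.S8719
import Groth.Agent.PSQuad.Grad

set_option autoImplicit false
universe u
open VanCyc

namespace Groth.Agent.S8719

/-- The formal computation carried out in its proof: let k be a field and f a power series in k[[x_0,
..., x_n]] with vanishing constant and linear terms whose degree-two part is a non-degenerate
quadratic form (the Gram determinant of its polar bilinear form is a unit). Then the partial
derivatives of f generate the maximal ideal of k[[x_0, ..., x_n]] (so f together with its partial
derivatives cut out the origin with multiplicity one). -/
theorem result (k : Type u) [Field k] (n : ℕ)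
    (f : MvPowerSeries (Fin (n + 1)) k) (hf : VanCyc.NondegQuadSeries f) :
    Ideal.span (Set.range fun i : Fin (n + 1) => MvPowerSeries.pderiv k i f) =
      IsLocalRing.maximalIdeal (MvPowerSeries (Fin (n + 1)) k) := by
  rw [PSQuad.span_pderiv_eq_vars f hf, PSQuad.vars_eq_maximalIdeal]

end Groth.Agent.S8719
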