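import Groth.Statements.S8720
import Groth.Agent.PSQuad.Grad

set_option autoImplicit false
universe u
open VanCyc

namespace Groth.Agent.S8720

/-- The formal computation carried out in its proof: let k be a field of characteristic 2, m a natural
number, and f a power series over k in the variables x_0 and x_i, x_i' (i = 1, ..., m) whose terms
of degree less than 3 are exactly those of x_0^2 + x_1 x_1' + ... + x_m x_m'. Then the ideal
generated by f and all its partial derivatives is the ideal generated by x_0^2 and the x_i, x_i',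
and the quotient of the power series ring by this ideal is two-dimensional over k. (Characteristic 2
is what makes the derivative in x_0 lose its linear term.) -/
theorem result (k : Type u) [Field k] [CharP k 2] (m : ℕ)
    (f : MvPowerSeries (Option (Fin m ⊕ Fin m)) k)
    (hf : ∀ d : Option (Fin m ⊕ Fin m) →₀ ℕ, d.degree < 3 →
      MvPowerSeries.coeff d f = MvPowerSeries.coeff d
        (MvPowerSeries.X none ^ 2 +
          ∑ i : Fin m, MvPowerSeries.X (some (Sum.inl i)) * MvPowerSeries.X (some (Sum.inr i)))) :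
    Ideal.span ({f} ∪ Set.range fun i : Option (Fin m ⊕ Fin m) => MvPowerSeries.pderiv k i f) =
      Ideal.span ({MvPowerSeries.X none ^ 2} ∪
        Set.range fun j : Fin m ⊕ Fin m => (MvPowerSeries.X (some j) : MvPowerSeries (Option (Fin m ⊕ Fin m)) k)) ∧
    Module.finrank k (MvPowerSeries (Option (Fin m ⊕ Fin m)) k ⧸
      Ideal.span ({MvPowerSeries.X none ^ 2} ∪
        Set.range fun j : Fin m ⊕ Fin m => (MvPowerSeries.X (some j) : MvPowerSeries (Option (Fin m ⊕ Fin m)) k))) = 2 := by
  classical
  let σ := Option (Fin m ⊕ Fin m)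
  let x : σ → MvPowerSeries σ k := MvPowerSeries.X
  let q : MvPowerSeries σ k := x none ^ 2 + ∑ i : Fin m, x (some (Sum.inl i)) * x (some (Sum.inr i))
  let sw : Fin m ⊕ Fin m → Fin m ⊕ Fin m := Sum.swap
  let g : σ → MvPowerSeries σ k := fun i => MvPowerSeries.pderiv k i f
  let J0 : Ideal (MvPowerSeries σ k) := Ideal.span ({x none ^ 2} ∪ Set.range fun j => x (some j))
  let I : Ideal (MvPowerSeries σ k) := Ideal.span ({f} ∪ Set.range g)
  let 𝔪 := PSQuad.vars σ k
  have h2 : (2 : k) = 0 := by exact_mod_cast CharP.cast_eq_zero k 2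
  have hX : ∀ i, x i ∈ 𝔪 := fun i => Ideal.subset_span ⟨i, rfl⟩
  have hsq : 𝔪 ^ 2 ≤ Ideal.span {x none ^ 2} ⊔ 𝔪 * J0 := by
    rw [sq, show 𝔪 * 𝔪 = Ideal.span (Set.range x) * Ideal.span (Set.range x) from rfl,
      Ideal.span_mul_span', Ideal.span_le]
    rintro _ ⟨_, ⟨a, rfl⟩, _, ⟨b, rfl⟩, rfl⟩
    have key : ∀ (a : σ) j, x a * x (some j) ∈ 𝔪 * J0 := fun a j =>
      Ideal.mul_mem_mul (hX a) (Ideal.subset_span (Or.inr ⟨j, rfl⟩))
    rcases b with _ | j
    · rcases a with _ | j
      · exact Submodule.mem_sup_left (Ideal.subset_span (by simp [x, sq]))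
      · show x (some j) * x none ∈ _
        rw [mul_comm (x (some j)) (x none)]
        exact Submodule.mem_sup_right (key _ j)
    · exact Submodule.mem_sup_right (key _ j)
  have hx2J : x none ^ 2 ∈ J0 := Ideal.subset_span (Or.inl rfl)
  have hsqJ : 𝔪 ^ 2 ≤ J0 := hsq.trans (sup_le (Ideal.span_le.2 (by simpa using hx2J)) Ideal.mul_le_right)
  -- the series with no constant term and no linear term in the degenerate variable
  have hJ0 : ∀ h : MvPowerSeries σ k, h ∈ J0 ↔
      MvPowerSeries.coeff 0 h = 0 ∧ MvPowerSeries.coeff (Finsupp.single none 1) h = 0 := by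
    intro h
    constructor
    · intro hh
      have hle : J0 ≤ Ideal.span (Set.range fun j => x (some j)) ⊔ 𝔪 ^ 2 := by
        rw [Ideal.span_le]
        rintro _ (rfl | hj)
        · exact Submodule.mem_sup_right (Ideal.pow_mem_pow (hX none) 2)
        · exact Submodule.mem_sup_left (Ideal.subset_span hj)
      obtain ⟨a, ha, b, hb, rfl⟩ := Submodule.mem_sup.1 (hle hh)
      obtain ⟨c, rfl⟩ := Ideal.mem_span_range_iff_exists_fun.1 ha
      obtain ⟨hb0, hb1⟩ := PSQuad.mem_sq_iff.1 hb
      refine ⟨?_, ?_⟩
      · rw [map_add, hb0, add_zero, map_sum]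
        refine Finset.sum_eq_zero fun j _ => ?_
        simp [x, MvPowerSeries.coeff_zero_eq_constantCoeff_apply]
      · rw [map_add, hb1, add_zero, map_sum]
        refine Finset.sum_eq_zero fun j _ => ?_
        rw [show x (some j) = MvPowerSeries.X (some j) from rfl, MvPowerSeries.X_def,
          MvPowerSeries.coeff_mul_monomial, if_neg]
        intro hle
        have := hle (some j)
        simp at this
    · rintro ⟨h0, h1⟩
      let lin : MvPowerSeries σ k :=
        ∑ j, MvPowerSeries.C (MvPowerSeries.coeff (Finsupp.single (some j) 1) h) * x (some j)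
      have hlin : lin ∈ J0 :=
        Ideal.sum_mem _ fun j _ => Ideal.mul_mem_left _ _ (Ideal.subset_span (Or.inr ⟨j, rfl⟩))
      have : h - lin ∈ 𝔪 ^ 2 := by
        refine PSQuad.mem_sq_iff.2 ⟨?_, fun i => ?_⟩
        · rw [MvPowerSeries.coeff_zero_eq_constantCoeff_apply] at h0
          simp [lin, x, h0, MvPowerSeries.coeff_zero_eq_constantCoeff_apply]
        · rcases i with _ | j
          · simp [lin, x, h1, MvPowerSeries.coeff_X, Finsupp.single_left_inj]
          · have hl : MvPowerSeries.coeff (Finsupp.single (some j) 1) lin =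
                MvPowerSeries.coeff (Finsupp.single (some j) 1) h := by
              simp only [lin, x, map_sum, MvPowerSeries.coeff_C_mul]
              rw [Finset.sum_eq_single j]
              · simp [MvPowerSeries.coeff_X]
              · intro b _ hb
                simp [MvPowerSeries.coeff_X, Finsupp.single_left_inj, Ne.symm hb]
              · simp
            rw [map_sub, hl, sub_self]
      have := Ideal.add_mem _ (hsqJ this) hlin
      simpa using this
  -- the low degree part of `f`
  have hfq : f - q ∈ 𝔪 ^ 3 := PSQuad.mem_pow_iff.2 fun d hd => by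
    rw [map_sub, hf d hd, sub_self]
  have h3 : 𝔪 ^ 3 ≤ 𝔪 * J0 := by
    rw [pow_succ']
    exact Ideal.mul_mono le_rfl hsqJ
  have hsumJ : ∑ i : Fin m, x (some (Sum.inl i)) * x (some (Sum.inr i)) ∈ 𝔪 * J0 :=
    Ideal.sum_mem _ fun i _ => Ideal.mul_mem_mul (hX _) (Ideal.subset_span (Or.inr ⟨_, rfl⟩))
  have hfI : f ∈ I := Ideal.subset_span (Or.inl rfl)
  have hx2 : x none ^ 2 ∈ I ⊔ 𝔪 * J0 := by
    have : x none ^ 2 = f - ((f - q) + ∑ i : Fin m, x (some (Sum.inl i)) * x (some (Sum.inr i))) := by
      simp only [q]; ring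
    rw [this]
    exact sub_mem (Submodule.mem_sup_left hfI) (Submodule.mem_sup_right (add_mem (h3 hfq) hsumJ))
  -- linear parts of the derivatives
  have hg : ∀ i, g i - MvPowerSeries.pderiv k i q ∈ 𝔪 ^ 2 := fun i => by
    refine PSQuad.mem_pow_iff.2 fun d hd => ?_
    have := hf (d + Finsupp.single i 1) (by simp [Finsupp.degree_single]; omega)
    simp only [g, map_sub, MvPowerSeries.coeff_pderiv]
    rw [this]
    exact sub_self _
  have hdq : ∀ j, MvPowerSeries.pderiv k (some j) q = x (some (sw j)) := by
    intro j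
    simp only [q, map_add, Derivation.leibniz_pow, map_sum, Derivation.leibniz, x, MvPowerSeries.pderiv_X]
    rcases j with a | a <;>
      simp [Pi.single_apply, sw, Finset.sum_add_distrib, Finset.sum_ite_eq, Finset.sum_ite_eq']
  have hdqn : MvPowerSeries.pderiv k none q = 0 := by
    simp only [q, map_add, Derivation.leibniz_pow, map_sum, Derivation.leibniz, x, MvPowerSeries.pderiv_X]
    simp [Pi.single_apply, two_smul]
    rw [← two_mul]
    have : (2 : MvPowerSeries σ k) = 0 := by rw [← map_ofNat (MvPowerSeries.C (σ := σ) (R := k)) 2, h2, map_zero]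
    rw [this, zero_mul]
  have hle1 : I ≤ J0 := by
    rw [Ideal.span_le]
    rintro p (hp | ⟨i, rfl⟩)
    · rw [Set.mem_singleton_iff.1 hp]
      have : f = (f - q) + x none ^ 2 + ∑ i : Fin m, x (some (Sum.inl i)) * x (some (Sum.inr i)) := by
        simp only [q]; ring
      rw [SetLike.mem_coe, this]
      exact add_mem (add_mem (Ideal.mul_le_right (h3 hfq)) hx2J) (Ideal.mul_le_right hsumJ)
    · rw [SetLike.mem_coe, ← sub_add_cancel (g i) (MvPowerSeries.pderiv k i q)]
      refine add_mem (hsqJ (hg i)) ?_
      rcases i with _ | j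
      · rw [hdqn]; exact zero_mem _
      · rw [hdq]; exact Ideal.subset_span (Or.inr ⟨_, rfl⟩)
  have hle2 : J0 ≤ I := by
    refine Submodule.le_of_le_smul_of_le_jacobson_bot
      (Submodule.fg_span ((Set.finite_singleton _).union (Set.finite_range _))) PSQuad.vars_le_jacobson ?_
    rw [smul_eq_mul, Ideal.span_le]
    rintro _ (rfl | ⟨j, rfl⟩)
    · exact hx2
    · have h1 := hg (some (sw j))
      rw [hdq] at h1
      simp only [sw, Sum.swap_swap] at h1
      show x (some j) ∈ _
      rw [← sub_sub_self (g (some (Sum.swap j))) (x (some j))]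
      refine sub_mem (Submodule.mem_sup_left (Ideal.subset_span (Or.inr ⟨_, rfl⟩))) ?_
      exact (hsq.trans (sup_le (Ideal.span_le.2 (by simpa using hx2)) le_sup_right)) h1
  refine ⟨le_antisymm hle1 hle2, ?_⟩
  let L : MvPowerSeries σ k →ₗ[k] k × k :=
    (MvPowerSeries.coeff 0).prod (MvPowerSeries.coeff (Finsupp.single none 1))
  have hL : LinearMap.ker L = J0.restrictScalars k := by
    ext h
    rw [Submodule.restrictScalars_mem, hJ0, LinearMap.mem_ker]
    simp [L, Prod.ext_iff]
  have hsurj : Function.Surjective L := fun p =>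
    ⟨MvPowerSeries.C p.1 + MvPowerSeries.C p.2 * x none, by
      ext <;> simp [L, x, MvPowerSeries.coeff_X, MvPowerSeries.coeff_C,
        MvPowerSeries.coeff_zero_eq_constantCoeff_apply]⟩
  have := (((Submodule.Quotient.restrictScalarsEquiv k J0).symm).trans
    ((Submodule.quotEquivOfEq _ _ hL.symm).trans (LinearMap.quotKerEquivOfSurjective L hsurj))).finrank_eq
  rw [Module.finrank_prod, Module.finrank_self] at this
  exact this

end Groth.Agent.S8720
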