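import Groth.Statements.S8721
import Groth.Agent.SGA7IILib.QLinear
-- import your own Groth.Agent.* helpers here

set_option autoImplicit false
universe u v
open SGA7II

namespace Groth.Agent.S8721

/-- Let k be a separably closed field of characteristic p > 0, q = p^r with r >= 1, V a
finite-dimensional k-vector space and phi : V -> V additive with phi(c v) = c^q phi(v). Let V_ss be
the intersection, over n >= 1, of the k-subspaces spanned by the images of the iterates phi^n (the
semisimple part of V). Then V_ss has a k-basis consisting of phi-fixed vectors, and every phi-fixed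
vector of V is a linear combination of this basis with coefficients c satisfying c^q = c; that is,
V_ss is obtained from the F_q-space of fixed vectors by extension of scalars. -/
theorem result (k : Type u) [Field k] [IsSepClosed k] (p : ℕ)
    [Fact p.Prime] [CharP k p] (r : ℕ) (hr : 0 < r) (V : Type v) [AddCommGroup V] [Module k V]
    [FiniteDimensional k V] (φ : V →+ V) (hφ : ∀ (c : k) (v : V), φ (c • v) = c ^ (p ^ r) • φ v) :
    let Vss : Submodule k V := ⨅ n : ℕ, Submodule.span k (Set.range (φ^[n + 1]))
    ∃ b : Module.Basis (Fin (Module.finrank k ↥Vss)) k ↥Vss, (∀ i, φ (b i : V) = (b i : V)) ∧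
      ∀ v : V, φ v = v → ∃ c : Fin (Module.finrank k ↥Vss) → k,
        (∀ i, c i ^ (p ^ r) = c i) ∧ v = ∑ i, c i • (b i : V) := by
  intro Vss
  obtain ⟨h0, h2⟩ := SGA7IILib.q_facts (k := k) p r hr
  obtain ⟨W, hW, -, ψ, hψv, hψ, hψss⟩ := SGA7IILib.exists_stable_span hφ
  have hWV : W = Vss := hW
  subst hWV
  obtain ⟨b, hb⟩ := SGA7IILib.exists_basis_fixed h0 h2 hψ hψss
  refine ⟨b, fun i => by rw [← hψv, hb], fun v hv => ?_⟩
  have hvW : v ∈ Vss := by
    simp only [Vss, Submodule.mem_iInf]
    exact fun n => Submodule.subset_span ⟨v, Function.iterate_fixed hv (n + 1)⟩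
  have hψfix : ψ ⟨v, hvW⟩ = ⟨v, hvW⟩ := Subtype.ext ((hψv _).trans hv)
  refine ⟨fun i => b.repr ⟨v, hvW⟩ i, fun i => ?_, ?_⟩
  · have h := SGA7IILib.repr_iterate hψ b hb 1 ⟨v, hvW⟩ i
    rw [Function.iterate_one, hψfix, pow_one] at h
    exact h.symm
  · have e := congrArg (Subtype.val : Vss → V) (b.sum_repr ⟨v, hvW⟩).symm
    simp only [AddSubmonoidClass.coe_finset_sum, SetLike.val_smul] at e
    exact e

end Groth.Agent.S8721
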