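import Groth.Statements.S8722
import Groth.Agent.SGA7IILib.QLinear
-- import your own Groth.Agent.* helpers here

set_option autoImplicit false
universe u v
open SGA7II

namespace Groth.Agent.S8722

/-- Let k be a separably closed field of characteristic p > 0, q = p^r with r >= 1, V a
finite-dimensional k-vector space and phi : V -> V additive with phi(c v) = c^q phi(v), semisimple
in the sense that its image spans V. Then for n >= 1 the fixed vectors of the n-th iterate of phi
are exactly the finite linear combinations of phi-fixed vectors with coefficients c satisfying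
c^(q^n) = c; that is, the fixed space of phi^n is obtained from the F_q-space of phi-fixed vectors
by extending scalars to F_{q^n}. -/
theorem result (k : Type u) [Field k] [IsSepClosed k] (p : ℕ)
    [Fact p.Prime] [CharP k p] (r : ℕ) (hr : 0 < r) (V : Type v) [AddCommGroup V] [Module k V]
    [FiniteDimensional k V] (φ : V →+ V) (hφ : ∀ (c : k) (v : V), φ (c • v) = c ^ (p ^ r) • φ v)
    (hss : Submodule.span k (Set.range φ) = ⊤) (n : ℕ) (hn : 0 < n) (v : V) :
    φ^[n] v = v ↔ ∃ (s : Finset V) (c : V → k), (∀ w ∈ s, φ w = w) ∧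
      (∀ w ∈ s, c w ^ ((p ^ r) ^ n) = c w) ∧ v = ∑ w ∈ s, c w • w := by
  obtain ⟨h0, h2⟩ := SGA7IILib.q_facts (k := k) p r hr
  obtain ⟨b, hb⟩ := SGA7IILib.exists_basis_fixed h0 h2 hφ hss
  constructor
  · intro hv
    classical
    refine ⟨Finset.univ.image b, fun w => if h : w ∈ Set.range b then b.repr v h.choose else 0,
      ?_, ?_, ?_⟩
    · intro w hw
      obtain ⟨i, -, rfl⟩ := Finset.mem_image.1 hw
      exact hb i
    · intro w hw
      obtain ⟨i, -, rfl⟩ := Finset.mem_image.1 hw
      have hi : b i ∈ Set.range b := ⟨i, rfl⟩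
      simp only [dif_pos hi]
      have h := SGA7IILib.repr_iterate hφ b hb n v hi.choose
      rw [hv] at h
      exact h.symm
    · rw [Finset.sum_image b.injective.injOn]
      conv_lhs => rw [← b.sum_repr v]
      refine Finset.sum_congr rfl fun i _ => ?_
      have hi : b i ∈ Set.range b := ⟨i, rfl⟩
      simp only [dif_pos hi]
      rw [b.injective hi.choose_spec]
  · rintro ⟨s, c, hs, hc, rfl⟩
    apply b.repr.injective
    ext i
    rw [SGA7IILib.repr_iterate hφ b hb n]
    have hq : ∀ x y : k, (x + y) ^ ((p ^ r) ^ n) = x ^ ((p ^ r) ^ n) + y ^ ((p ^ r) ^ n) := by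
      intro x y
      rw [← pow_mul p r n]
      exact add_pow_char_pow x y p (r * n)
    let F : k →+ k := AddMonoidHom.mk' (fun x => x ^ ((p ^ r) ^ n)) hq
    change F _ = _
    simp only [map_sum, map_smul, Finsupp.coe_finsetSum, Finset.sum_apply, Finsupp.smul_apply,
      smul_eq_mul]
    refine Finset.sum_congr rfl fun w hw => ?_
    simp only [F, AddMonoidHom.mk'_apply]
    rw [mul_pow, hc w hw]
    congr 1
    have h := SGA7IILib.repr_iterate hφ b hb n w i
    rw [Function.iterate_fixed (hs w hw) n] at h
    exact h.symm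

end Groth.Agent.S8722
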