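import Groth.Statements.S8723
import Groth.Agent.H26.GeomMult
import Groth.Agent.H26.InterRange

set_option autoImplicit false
universe u
open CategoryTheory CategoryTheory.Limits AlgebraicGeometry
open ArSurf

namespace Groth.Agent.S8723

/-- Let R be a discrete valuation ring with residue field k and X an integral regular scheme of Krull
dimension 2, proper and flat over Spec R by f (a regular proper flat model whose fibres are curves).
Write X_s for the special fibre and X_sbar for its base change to an algebraic closure of k. Assume
that X_s is geometrically connected (its base change to every field extension of k is connected) and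
that the multiplicities of the irreducible components of X_sbar, i.e. the lengths of the local rings
of X_sbar at its maximal points, have greatest common divisor 1 (no prime divides all of them). Then
the canonical map k -> H^0(X_s, O_{X_s}) is bijective (X is cohomologically flat over R in degree
0). -/
theorem result (R : Type u) [CommRing R] [IsDomain R]
    [IsDiscreteValuationRing R] {X : Scheme.{u}} (f : X ⟶ Spec (CommRingCat.of R)) [IsProper f] [Flat f]
    [IsIntegral X] (hreg : ∀ x : X, IsRegularLocalRing (X.presheaf.stalk x))
    (hdim : topologicalKrullDim X = 2)
    (hconn : ∀ (K : Type u) [Field K] [Algebra (IsLocalRing.ResidueField R) K],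
      ConnectedSpace ↥(pullback f (Spec.map (CommRingCat.ofHom
        ((algebraMap (IsLocalRing.ResidueField R) K).comp (IsLocalRing.residue R))))))
    (hd : letI Xb := pullback f (Spec.map (CommRingCat.ofHom
        ((algebraMap (IsLocalRing.ResidueField R) (AlgebraicClosure (IsLocalRing.ResidueField R))).comp
          (IsLocalRing.residue R))))
      ∀ ℓ : ℕ, ℓ.Prime → ∃ x : ↥Xb, (∀ y : ↥Xb, y ⤳ x → y = x) ∧
        ¬ (ℓ ∣ (Module.length (Xb.presheaf.stalk x) (Xb.presheaf.stalk x)).toNat)) :
    Function.Bijective
      (pullback.snd f (Spec.map (CommRingCat.ofHom (IsLocalRing.residue R)))).appTop.hom := by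
  haveI : IsIntegral (Over.mk f).left := ‹IsIntegral X›
  haveI : IsProper (Over.mk f).hom := ‹IsProper f›
  haveI : Flat (Over.mk f).hom := ‹Flat f›
  have hk := hconn (IsLocalRing.ResidueField R)
  have hs : ConnectedSpace ↥(Models.specialFibre R (Over.mk f).left (Over.mk f).hom) := hk
  exact Groth.Agent.H26.GeomMult.bijective_appTop (Over.mk f) hreg hdim
    (Groth.Agent.H26.InterForm.isConnected_specialFibreSet (X := Over.mk f) hs)
    (hconn (AlgebraicClosure (IsLocalRing.ResidueField R))) hd

end Groth.Agent.S8723
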