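import Groth.Statements.S8724
import Mathlib.Algebra.BigOperators.Ring.Finset
import Mathlib.Data.Nat.Choose.Sum
import Mathlib.Tactic.Ring
import Mathlib.Tactic.LinearCombination

set_option autoImplicit false
open LefPen

namespace Groth.Agent.S8724

private theorem aux_telescope {R : Type*} [CommRing R] (y z : R) (c : ℕ → R) (a : ℕ)
    (hc : ∀ k, a ≤ k → c k = 0) :
    (y - z) * ∑ i ∈ Finset.range a, ∑ j ∈ Finset.range a, c (i + j + 1) * y ^ i * z ^ j =
      ∑ i ∈ Finset.range a, c i * y ^ i - ∑ j ∈ Finset.range a, c j * z ^ j := by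
  let g : ℕ → ℕ → R := fun i j => c (i + j) * y ^ i * z ^ j
  have hy : ∀ j, ∑ i ∈ Finset.range a, g (i + 1) j = (∑ i ∈ Finset.range a, g i j) - g 0 j := by
    intro j
    have h1 := Finset.sum_range_succ' (fun i => g i j) a
    have h2 := Finset.sum_range_succ (fun i => g i j) a
    have hz : g a j = 0 := by simp [g, hc (a + j) (Nat.le_add_right _ _)]
    linear_combination h2 - h1 + hz
  have hz : ∀ i, ∑ j ∈ Finset.range a, g i (j + 1) = (∑ j ∈ Finset.range a, g i j) - g i 0 := by
    intro i
    have h1 := Finset.sum_range_succ' (fun j => g i j) a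
    have h2 := Finset.sum_range_succ (fun j => g i j) a
    have hz : g i a = 0 := by simp [g, hc (i + a) (Nat.le_add_left _ _)]
    linear_combination h2 - h1 + hz
  calc _ = ∑ i ∈ Finset.range a, ∑ j ∈ Finset.range a, g (i + 1) j -
        ∑ i ∈ Finset.range a, ∑ j ∈ Finset.range a, g i (j + 1) := by
        simp only [Finset.mul_sum, ← Finset.sum_sub_distrib]
        refine Finset.sum_congr rfl fun i _ => Finset.sum_congr rfl fun j _ => ?_
        simp only [g, show i + 1 + j = i + j + 1 by omega, show i + (j + 1) = i + j + 1 by omega]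
        ring
    _ = _ := by
        rw [Finset.sum_comm]
        simp only [hy, hz, Finset.sum_sub_distrib]
        rw [Finset.sum_comm]
        simp only [g, Nat.zero_add, Nat.add_zero, pow_zero, mul_one]
        ring


/-- The algebraic identity established in its proof: let a >= 1 and work in Z[y, z]. Then (1+y)^(a-1) -
(1+z)^(a-1) = (y - z) * (sum over i, j >= 0 with i + j + 1 <= a - 1 of C(a-1, i+j+1) y^i z^j), and
(1+y)^a z - (1+z)^a y = (y - z) * (-1 + sum over i, j >= 1 with i + j <= a of C(a, i+j) y^i z^j).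
Consequently the rational function -((1+y)^(a-1) - (1+z)^(a-1)) / ((1+y)^a z - (1+z)^a y), the
generating series of the primitive middle Hodge numbers of smooth hypersurfaces of degree a, equals
(sum_{i,j >= 0} C(a-1, i+j+1) y^i z^j) / (1 - sum_{i,j >= 1} C(a, i+j) y^i z^j). -/
theorem result (a : ℕ) (ha : 1 ≤ a) :
    let y : MvPolynomial (Fin 2) ℤ := MvPolynomial.X 0
    let z : MvPolynomial (Fin 2) ℤ := MvPolynomial.X 1
    ((1 + y) ^ (a - 1) - (1 + z) ^ (a - 1) =
      (y - z) * ∑ i ∈ Finset.range a, ∑ j ∈ Finset.range a,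
        if i + j + 1 ≤ a - 1 then ((a - 1).choose (i + j + 1) : MvPolynomial (Fin 2) ℤ) * y ^ i * z ^ j else 0) ∧
    ((1 + y) ^ a * z - (1 + z) ^ a * y =
      (y - z) * (-1 + ∑ i ∈ Finset.range (a + 1), ∑ j ∈ Finset.range (a + 1),
        if 1 ≤ i ∧ 1 ≤ j ∧ i + j ≤ a then (a.choose (i + j) : MvPolynomial (Fin 2) ℤ) * y ^ i * z ^ j else 0)) := by
  intro y z
  obtain ⟨m, rfl⟩ : ∃ m, a = m + 1 := ⟨a - 1, by omega⟩
  simp only [Nat.add_sub_cancel]
  have hbin : ∀ (w : MvPolynomial (Fin 2) ℤ) (k : ℕ), (1 + w) ^ k = ∑ i ∈ Finset.range (k + 1), (k.choose i : MvPolynomial (Fin 2) ℤ) * w ^ i := by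
    intro w k
    rw [add_comm, add_pow]
    exact Finset.sum_congr rfl fun i _ => by ring
  constructor
  · have := aux_telescope y z (fun k => ((m.choose k : ℕ) : MvPolynomial (Fin 2) ℤ)) (m + 1)
      (fun k hk => by rw [Nat.choose_eq_zero_of_lt (by omega)]; simp)
    rw [hbin, hbin, ← this]
    congr 1
    refine Finset.sum_congr rfl fun i _ => Finset.sum_congr rfl fun j _ => ?_
    split_ifs with h
    · rfl
    · rw [Nat.choose_eq_zero_of_lt (by omega)]; simp
  · have := aux_telescope y z (fun k => (((m + 1).choose (k + 1) : ℕ) : MvPolynomial (Fin 2) ℤ)) (m + 1)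
      (fun k hk => by rw [Nat.choose_eq_zero_of_lt (by omega)]; simp)
    have hs : (∑ i ∈ Finset.range (m + 1 + 1), ∑ j ∈ Finset.range (m + 1 + 1),
        if 1 ≤ i ∧ 1 ≤ j ∧ i + j ≤ m + 1 then ((m + 1).choose (i + j) : MvPolynomial (Fin 2) ℤ) * y ^ i * z ^ j else 0) =
        y * z * ∑ i ∈ Finset.range (m + 1), ∑ j ∈ Finset.range (m + 1),
          ((m + 1).choose (i + j + 1 + 1) : MvPolynomial (Fin 2) ℤ) * y ^ i * z ^ j := by
      rw [Finset.sum_range_succ', Finset.sum_eq_zero (s := Finset.range (m + 1 + 1)) (fun j _ => if_neg (fun h => by omega)), add_zero, Finset.mul_sum]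
      refine Finset.sum_congr rfl fun i _ => ?_
      rw [Finset.sum_range_succ', if_neg (fun h => by omega), add_zero, Finset.mul_sum]
      refine Finset.sum_congr rfl fun j _ => ?_
      split_ifs with h
      · rw [show i + 1 + (j + 1) = i + j + 1 + 1 by omega]; ring
      · rw [Nat.choose_eq_zero_of_lt (by omega)]; simp
    have hb : ∀ w : MvPolynomial (Fin 2) ℤ, w * ∑ i ∈ Finset.range (m + 1), ((m + 1).choose (i + 1) : MvPolynomial (Fin 2) ℤ) * w ^ i = (1 + w) ^ (m + 1) - 1 := by
      intro w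
      rw [hbin, Finset.sum_range_succ' _ (m + 1), Finset.mul_sum]
      simp only [Nat.choose_zero_right, Nat.cast_one, pow_zero, mul_one, add_sub_cancel_right]
      exact Finset.sum_congr rfl fun i _ => by ring
    rw [hs]
    linear_combination (-(y * z)) * this - z * hb y + y * hb z

end Groth.Agent.S8724
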