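import Groth.Statements.S8729
import Groth.Agent.H26.InterSymm
import Groth.Agent.H26.ArSurfProper

set_option autoImplicit false
universe u
open CategoryTheory CategoryTheory.Limits AlgebraicGeometry
open ArSurf

namespace Groth.Agent.S8729

/-- For a vertical prime divisor: let R be a discrete valuation ring, X an arithmetic surface over Spec
R (regular, integral, of dimension 2, flat and projective), Γ a vertical prime divisor of X over the
closed point with ideal sheaf I, N = I/I^2 its conormal sheaf (an invertible O_Γ-module) and L an
O_X-module with L ⊗ I ≅ O_X (L = O_X(Γ)). Then the self-intersection number (Γ · Γ) = deg_k(L|_Γ)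
equals -deg_k(N), degrees over the residue field k being differences of Euler characteristics. -/
theorem result (R : Type u) [CommRing R] [IsDomain R] [IsDiscreteValuationRing R]
    (X : Over (Spec (CommRingCat.of R))) (hX : ArSurf.IsArithSurface R X) (Γ : ArSurf.VertComp R X)
    (L : X.left.Modules) (hL : ClSub.IsInverseOf L (ClSub.idealMod Γ.ι.ker)) :
    ArSurf.inter R X L Γ =
      - ArSurf.curveDeg (IsLocalRing.ResidueField R) Γ.curve.left (Omega.conormal Γ.ι) := by
  haveI := Groth.Agent.H26.isProper_of_isArithSurface hX
  haveI : IsIntegral X.left := hX.2.1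
  have hI := Groth.Agent.H26.IdealCl.isInvertible_idealMod
    (Groth.Agent.H26.InterSymm.isEffCartier_ker (X := X) hX.2.2.1.le (by rw [hX.2.2.1]; decide) hX.1 Γ)
  have hLi := Groth.Agent.H26.ArInter.isInvertible_of_inverse hI hL
  have h := Groth.Agent.H26.ArInter.inter_tensor Γ hLi hI
  rw [Groth.Agent.H26.ArInter.inter_congr Γ (Groth.Agent.H23.PicMul.isInvertible_tensor hLi hI)
    (Groth.Agent.H23.PicMul.cl_eq_iff.2 hL), Groth.Agent.H26.ArInter.inter_structure] at h
  show _ = - ArSurf.inter R X (ClSub.idealMod Γ.ι.ker) Γ
  exact eq_neg_of_add_eq_zero_left h.symm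

end Groth.Agent.S8729
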