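import Groth.Statements.S8731
import Groth.Agent.S19434
import Groth.Agent.S4039
import Groth.Agent.PlaneCurveCoh.Coh
import Groth.Agent.H28.KPn
import Groth.Agent.CurveBC.Geometry
-- import your own Groth.Agent.* helpers here

set_option autoImplicit false
set_option backward.isDefEq.respectTransparency false
set_option backward.isDefEq.respectTransparency.types false
set_option linter.style.haveILetI false
universe u
open CategoryTheory CategoryTheory.Limits AlgebraicGeometry
open LefPen

namespace Groth.Agent.S8731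

/-- (iv), the assertions on the structure sheaf: let k be an algebraically closed field, n >= 1, and Q a
quadratic form in n + 2 variables whose zero scheme X = V(Q) ⊂ P^{n+1}_k is smooth over k of
relative dimension n (a smooth quadric of dimension n). Then H^i(X, O_X) = 0 for every i >= 1, and
the structure map identifies k with H^0(X, O_X). (The published item also computes H^1(X, O_X(1)),
the canonical sheaf and the Picard group, not stated here.) -/
theorem result (k : Type u) [Field k] [IsAlgClosed k] (n : ℕ) (hn : 1 ≤ n)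
    (Q : LefPen.Form (n + 1) k 2)
    [SmoothOfRelativeDimension n ((LefPen.hypIdeal Q).subschemeι ≫ CohB1.ProjSpace.toSpec (n + 1) k)] :
    (∀ i : ℕ, 1 ≤ i → Subsingleton (Coh.HH (LefPen.hypIdeal Q).subscheme
        (Coh.structureModule (LefPen.hypIdeal Q).subscheme) i)) ∧
      Function.Bijective ((LefPen.hypIdeal Q).subschemeι ≫ CohB1.ProjSpace.toSpec (n + 1) k).appTop.hom := by
  have hQ : Q ≠ 0 := fun h => Groth.Agent.S4039.ne_zero_of_smoothRelDim k n Q (by rw [h]; rfl)
  letI : (LefPen.hypIdeal Q).subscheme.Over (Spec (CommRingCat.of k)) :=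
    ⟨(LefPen.hypIdeal Q).subschemeι ≫ CohB1.ProjSpace.toSpec (n + 1) k⟩
  obtain ⟨hv, ⟨hf0, h0⟩, hfn, hn'⟩ := Groth.Agent.S19434.result k n 2 hn (by norm_num)
    (LefPen.hypIdeal Q) (Groth.Agent.PlaneCurveCoh.idealMod_hyp_iso Q hQ) 0
  obtain ⟨e0⟩ := Groth.Agent.H28.KPn.tw_zero k (n + 1)
  obtain ⟨e'⟩ := Groth.Agent.PicClLib.nonempty_pullback_structureModule (LefPen.hypIdeal Q).subschemeι
  let eS := (Scheme.Modules.pullback (LefPen.hypIdeal Q).subschemeι).mapIso e0 ≪≫ e'
  have hq : ∀ q, Nonempty (Coh.HH (LefPen.hypIdeal Q).subscheme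
      (Coh.structureModule (LefPen.hypIdeal Q).subscheme) q ≃ₗ[k]
      Coh.HH (CohB1.ProjSpace (n + 1) k) (CohB1.tensorMod (ClSub.quotMod (LefPen.hypIdeal Q))
        (Twist.twistProjSpace (n + 1) k 0)) q) := fun q => by
    obtain ⟨el⟩ := Groth.Agent.PlaneCurveCoh.exists_linearEquiv_closed (LefPen.hypIdeal Q).subschemeι k rfl
      (Groth.Agent.ProjUPX.isQCoh_of_isInvertible (Groth.Agent.H28.KPn.inv_tw k (n + 1) 0)) q
    exact ⟨(Groth.Agent.CurveCohLib.hhEquiv (k := k) eS.symm q).trans el⟩
  constructor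
  · intro i hi
    obtain ⟨el⟩ := hq i
    by_cases hin : i = n
    · subst hin
      haveI := hfn
      haveI : Subsingleton (Coh.HH (CohB1.ProjSpace (i + 1) k) (CohB1.tensorMod
          (ClSub.quotMod (LefPen.hypIdeal Q)) (Twist.twistProjSpace (i + 1) k 0)) i) := by
        refine Module.finrank_zero_iff.1 (hn'.trans ?_)
        rw [Nat.choose_eq_zero_of_lt (by omega), Nat.zero_sub]
      exact el.toEquiv.subsingleton
    · haveI := hv i (by omega) hin
      exact el.toEquiv.subsingleton
  · refine Groth.Agent.CurveBC.bijective_appTop k (LefPen.hypIdeal Q).subscheme ?_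
    rw [(hq 0).some.finrank_eq, h0, show ((0 : ℤ) - ((2 : ℕ) : ℤ) + ((n : ℤ) + 1)).toNat = n - 1 by omega,
      show ((0 : ℤ) + ((n : ℤ) + 1)).toNat = n + 1 by omega, Nat.choose_self,
      Nat.choose_eq_zero_of_lt (by omega)]

end Groth.Agent.S8731
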