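import Groth.Statements.S8732
import Mathlib.RingTheory.MvPowerSeries.Basic
import Mathlib.Tactic.Linarith
import Mathlib.Tactic.Ring

set_option autoImplicit false
open LefPen

namespace Groth.Agent.S8732

open MvPowerSeries

local notation "M" => MvPowerSeries (Fin 2) ℤ

theorem n_eq (n : Fin 2 →₀ ℕ) : n = Finsupp.single 0 (n 0) + Finsupp.single 1 (n 1) := by
  ext i; fin_cases i <;> simp

theorem s01 (x : ℕ) : Finsupp.single (0 : Fin 2) x 1 = 0 := by simp

theorem s10 (x : ℕ) : Finsupp.single (1 : Fin 2) x 0 = 0 := by simp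

theorem coeff_term (c u v : ℕ) (n : Fin 2 →₀ ℕ) :
    coeff n ((c : M) * MvPowerSeries.X 0 ^ u * MvPowerSeries.X 1 ^ v) = if n 0 = u ∧ n 1 = v then (c : ℤ) else 0 := by
  rw [mul_assoc, show (c : M) = MvPowerSeries.C (c : ℤ) from (map_natCast _ c).symm, MvPowerSeries.coeff_C_mul,
    MvPowerSeries.X_pow_eq, MvPowerSeries.X_pow_eq, MvPowerSeries.monomial_mul_monomial, one_mul,
    MvPowerSeries.coeff_monomial]
  by_cases h : n 0 = u ∧ n 1 = v
  · rw [if_pos h, if_pos (by rw [n_eq n, h.1, h.2]), mul_one]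
  · rw [if_neg h, if_neg (fun h' => h (by subst h'; simp)), mul_zero]

/-- nonnegative coefficients, supported in weight `n 1 - K n 0 ≤ c`. -/
def Good (K : ℕ) (c : ℤ) (F : M) : Prop :=
  ∀ n : Fin 2 →₀ ℕ, 0 ≤ coeff n F ∧ (coeff n F ≠ 0 → (n 1 : ℤ) - K * n 0 ≤ c)

theorem Good.mul {K : ℕ} {c d : ℤ} {F G : M} (hF : Good K c F) (hG : Good K d G) : Good K (c + d) (F * G) := by
  intro n
  classical
  rw [MvPowerSeries.coeff_mul]
  refine ⟨Finset.sum_nonneg fun x _ => mul_nonneg (hF x.1).1 (hG x.2).1, fun h => ?_⟩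
  obtain ⟨x, hx, hne⟩ := Finset.exists_ne_zero_of_sum_ne_zero h
  have h1 := (hF x.1).2 (left_ne_zero_of_mul hne)
  have h2 := (hG x.2).2 (right_ne_zero_of_mul hne)
  have h3 := Finset.mem_antidiagonal.1 hx
  rw [← h3, Finsupp.add_apply, Finsupp.add_apply]
  push_cast
  linarith

theorem pos_mul {K : ℕ} {c d : ℤ} {F G : M} (hF : Good K c F) (hG : Good K d G) {a b : Fin 2 →₀ ℕ}
    (ha : 0 < coeff a F) (hb : 0 < coeff b G) : 0 < coeff (a + b) (F * G) := by
  classical
  rw [MvPowerSeries.coeff_mul]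
  exact lt_of_lt_of_le (mul_pos ha hb) (Finset.single_le_sum (f := fun x : (Fin 2 →₀ ℕ) × (Fin 2 →₀ ℕ) => coeff x.1 F * coeff x.2 G)
    (fun x _ => mul_nonneg (hF x.1).1 (hG x.2).1) (Finset.mem_antidiagonal.2 (rfl : (a, b).1 + (a, b).2 = a + b)))

theorem Good.one (K : ℕ) : Good K 0 (1 : M) := fun n => by
  classical
  rw [MvPowerSeries.coeff_one]
  by_cases h : n = 0
  · subst h; simp
  · simp [h]

theorem Good.pow {K : ℕ} {c : ℤ} {F : M} (hF : Good K c F) (m : ℕ) : Good K (m * c) (F ^ m) := by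
  induction m with
  | zero => simpa using Good.one K
  | succ m ih => rw [pow_succ, Nat.cast_succ, add_mul, one_mul]; exact ih.mul hF

theorem Good.prod {K : ℕ} {ι : Type} (s : Finset ι) {c : ι → ℤ} {F : ι → M} (h : ∀ i, Good K (c i) (F i)) :
    Good K (∑ i ∈ s, c i) (∏ i ∈ s, F i) := by
  classical
  induction s using Finset.induction with
  | empty => simpa using Good.one K
  | insert i s hi ih => rw [Finset.sum_insert hi, Finset.prod_insert hi]; exact (h i).mul ih

theorem Good.sum {K : ℕ} {c : ℤ} {ι : Type} (s : Finset ι) {F : ι → M} (h : ∀ i ∈ s, Good K c (F i)) :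
    Good K c (∑ i ∈ s, F i) := fun n => by
  rw [map_sum]
  refine ⟨Finset.sum_nonneg fun i hi => (h i hi n).1, fun hne => ?_⟩
  obtain ⟨i, hi, hi'⟩ := Finset.exists_ne_zero_of_sum_ne_zero hne
  exact (h i hi n).2 hi'

theorem good_bin (K : ℕ) : Good K 1 ((1 + MvPowerSeries.X 0) * (1 + MvPowerSeries.X 1) : M) := by
  have h0 : Good K 0 (1 + MvPowerSeries.X 0 : M) := fun n => by
    classical
    rw [map_add, MvPowerSeries.coeff_one, MvPowerSeries.coeff_X]
    refine ⟨by split_ifs <;> norm_num, fun h => ?_⟩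
    split_ifs at h with h1 h2 h2 <;> simp_all
  have h1 : Good K 1 (1 + MvPowerSeries.X 1 : M) := fun n => by
    classical
    rw [map_add, MvPowerSeries.coeff_one, MvPowerSeries.coeff_X]
    refine ⟨by split_ifs <;> norm_num, fun h => ?_⟩
    split_ifs at h with h1 h2 h2 <;> simp_all
  simpa using h0.mul h1

theorem bin_pos : ∀ (m f : ℕ), f ≤ m →
    0 < coeff (Finsupp.single (1 : Fin 2) f) (((1 + MvPowerSeries.X 0) * (1 + MvPowerSeries.X 1) : M) ^ m) := by
  classical
  have hb : ∀ f : ℕ, f ≤ 1 → 0 < coeff (Finsupp.single (1 : Fin 2) f) ((1 + MvPowerSeries.X 0) * (1 + MvPowerSeries.X 1) : M) := by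
    intro f hf
    rw [show ((1 + MvPowerSeries.X 0) * (1 + MvPowerSeries.X 1) : M) = 1 + MvPowerSeries.X 1 + MvPowerSeries.X 0 * (1 + MvPowerSeries.X 1) by ring,
      map_add, map_add, MvPowerSeries.coeff_one, MvPowerSeries.coeff_X, MvPowerSeries.X_def, MvPowerSeries.coeff_monomial_mul,
      if_neg (show ¬ Finsupp.single (0 : Fin 2) 1 ≤ Finsupp.single 1 f from fun h => by have := h 0; simp at this)]
    obtain rfl | rfl : f = 0 ∨ f = 1 := by omega
    · rw [Finsupp.single_zero, if_pos rfl, if_neg (fun h => by have := DFunLike.congr_fun h 1; simp at this)]; norm_num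
    · rw [if_neg (fun h => by have := DFunLike.congr_fun h 1; simp at this), if_pos rfl]; norm_num
  intro m
  induction m with
  | zero => intro f hf; obtain rfl := Nat.le_zero.1 hf; simp
  | succ m ih =>
    intro f hf
    rw [pow_succ, show Finsupp.single (1 : Fin 2) f = Finsupp.single 1 (min f m) + Finsupp.single 1 (f - min f m) by
      rw [← Finsupp.single_add, Nat.add_sub_cancel' (min_le_left f m)]]
    exact pos_mul ((good_bin 0).pow m) (good_bin 0) (ih _ (min_le_right _ _)) (hb _ (by omega))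

section hyp
variable {b : ℕ} {H Ps Ns : M} (K : ℕ) (hrec : (1 - Ps) * H = Ns)
  (hP : ∀ n, coeff n Ps = if 1 ≤ n 0 ∧ 1 ≤ n 1 ∧ n 0 + n 1 ≤ b then (b.choose (n 0 + n 1) : ℤ) else 0)
  (hN : ∀ n, coeff n Ns = if n 0 + n 1 + 1 ≤ b - 1 then ((b - 1).choose (n 0 + n 1 + 1) : ℤ) else 0)
include hrec hP hN

theorem good_hyp (hK : b ≤ K + 1) : Good K ((b : ℤ) - 2) H := by
  classical
  have hH : H = Ns + Ps * H := by rw [← hrec]; ring
  suffices ∀ (m : ℕ) (n : Fin 2 →₀ ℕ), n 0 + n 1 = m → 0 ≤ coeff n H ∧ (coeff n H ≠ 0 → (n 1 : ℤ) - K * n 0 ≤ (b : ℤ) - 2) from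
    fun n => this _ n rfl
  intro m
  induction m using Nat.strong_induction_on with
  | _ m ih =>
    intro n hn
    have key : ∀ x ∈ Finset.antidiagonal n, 0 ≤ coeff x.1 Ps * coeff x.2 H ∧
        (coeff x.1 Ps * coeff x.2 H ≠ 0 → (n 1 : ℤ) - K * n 0 ≤ (b : ℤ) - 2) := by
      intro x hx
      have h3 := Finset.mem_antidiagonal.1 hx
      rw [hP]
      by_cases hc : 1 ≤ x.1 0 ∧ 1 ≤ x.1 1 ∧ x.1 0 + x.1 1 ≤ b
      · have e0 : n 0 = x.1 0 + x.2 0 := by rw [← h3]; rfl
        have e1 : n 1 = x.1 1 + x.2 1 := by rw [← h3]; rfl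
        obtain ⟨i1, i2⟩ := ih (x.2 0 + x.2 1) (by omega) x.2 rfl
        rw [if_pos hc]
        refine ⟨mul_nonneg (Int.natCast_nonneg _) i1, fun h => ?_⟩
        have hi := i2 (right_ne_zero_of_mul h)
        have hk : (K : ℤ) ≤ K * (x.1 0 : ℤ) := le_mul_of_one_le_right (Int.natCast_nonneg _) (by exact_mod_cast hc.1)
        rw [e0, e1]
        push_cast
        rw [mul_add]
        omega
      · simp [hc]
    have hNn : 0 ≤ coeff n Ns ∧ (coeff n Ns ≠ 0 → (n 1 : ℤ) - K * n 0 ≤ (b : ℤ) - 2) := by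
      rw [hN]
      by_cases hc : n 0 + n 1 + 1 ≤ b - 1
      · rw [if_pos hc]
        refine ⟨Int.natCast_nonneg _, fun _ => ?_⟩
        have : (0 : ℤ) ≤ K * (n 0 : ℤ) := by positivity
        omega
      · simp [hc]
    rw [hH, map_add, MvPowerSeries.coeff_mul]
    refine ⟨add_nonneg hNn.1 (Finset.sum_nonneg fun x hx => (key x hx).1), fun h => ?_⟩
    by_cases hz : coeff n Ns = 0
    · rw [hz, zero_add] at h
      obtain ⟨x, hx, hne⟩ := Finset.exists_ne_zero_of_sum_ne_zero h
      exact (key x hx).2 hne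
    · exact hNn.2 hz

theorem pos_hyp (hb : 2 ≤ b) : ∀ p q : ℕ, p ≤ q → q ≤ p * (b - 1) + (b - 2) →
    0 < coeff (Finsupp.single (0 : Fin 2) p + Finsupp.single 1 q) H := by
  classical
  have hH : H = Ns + Ps * H := by rw [← hrec]; ring
  have hg := good_hyp b hrec hP hN (by omega)
  have hPg : Good b b Ps := fun n => by
    rw [hP]
    by_cases hc : 1 ≤ n 0 ∧ 1 ≤ n 1 ∧ n 0 + n 1 ≤ b
    · rw [if_pos hc]
      refine ⟨Int.natCast_nonneg _, fun _ => ?_⟩
      have : (0 : ℤ) ≤ b * (n 0 : ℤ) := by positivity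
      omega
    · simp [hc]
  intro p
  induction p with
  | zero =>
    intro q _ hq
    rw [Finsupp.single_zero, zero_add, hH, map_add]
    refine add_pos_of_pos_of_nonneg ?_ ((hPg.mul hg) _).1
    rw [hN, Finsupp.single_eq_of_ne (by decide), Finsupp.single_eq_same, if_pos (by omega)]
    exact_mod_cast Nat.choose_pos (by omega)
  | succ p ih =>
    intro q hpq hq
    rw [add_one_mul] at hq
    have hmono : p ≤ p * (b - 1) := Nat.le_mul_of_pos_right _ (by omega)
    rw [hH, map_add]
    refine add_pos_of_nonneg_of_pos ?_ ?_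
    · rw [hN]; split_ifs <;> simp
    · have hv := min_le_left (b - 1) (q - p)
      rw [show Finsupp.single (0 : Fin 2) (p + 1) + Finsupp.single 1 q =
        (Finsupp.single 0 1 + Finsupp.single 1 (min (b - 1) (q - p))) +
          (Finsupp.single 0 p + Finsupp.single 1 (q - min (b - 1) (q - p))) by
        rw [add_add_add_comm, ← Finsupp.single_add, ← Finsupp.single_add, Nat.add_comm 1 p,
          Nat.add_sub_cancel' ((min_le_right _ _).trans (Nat.sub_le q p))]]
      refine pos_mul hPg hg ?_ (ih _ (by omega) (by omega))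
      rw [hP]
      simp only [Finsupp.add_apply, Finsupp.single_eq_same, s01, s10, add_zero, zero_add]
      rw [if_pos ⟨le_rfl, by omega, by omega⟩]
      exact_mod_cast Nat.choose_pos (by omega)

end hyp



/-- For each i let H_i in Z[[y, z]] be the series determined by (1 - sum_{u, v >= 1, u + v <= a_i}
C(a_i, u+v) y^u z^v) H_i = sum_{u, v >= 0, u + v + 1 <= a_i - 1} C(a_i - 1, u+v+1) y^u z^v (the
hypersurface series of degree a_i), and put H = sum over nonempty subsets P of {1, ..., d} of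
((1+y)(1+z))^(|P|-1) prod_{i in P} H_i, the generating series sum h^{p,q} y^p z^q attached to
primitive middle Hodge numbers of smooth complete intersections of multidegree a. Then for p <= q
one has h^{p,q} ≠ 0 if and only if p + q + d < p · max_i a_i + sum_i a_i, i.e. p > floor((p + q + d
- sum_i a_i) / max_i a_i). (The published statement prints the last condition with >= in place of >;
the proof establishes the strict form, which is the correct one: for a single quadric, d = 1 and a_1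
= 2, the coefficient of y^0 z^1 vanishes although 0 >= floor(0/2).) -/
theorem result (d : ℕ) (a : Fin d → ℕ) (ha : ∀ i, 1 ≤ a i)
    (Hs : Fin d → MvPowerSeries (Fin 2) ℤ) (p q : ℕ) (hpq : p ≤ q) :
    let y : MvPowerSeries (Fin 2) ℤ := MvPowerSeries.X 0
    let z : MvPowerSeries (Fin 2) ℤ := MvPowerSeries.X 1
    let Pser : ℕ → MvPowerSeries (Fin 2) ℤ := fun b => ∑ u ∈ Finset.range (b + 1), ∑ v ∈ Finset.range (b + 1),
      if 1 ≤ u ∧ 1 ≤ v ∧ u + v ≤ b then (b.choose (u + v) : MvPowerSeries (Fin 2) ℤ) * y ^ u * z ^ v else 0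
    let Nser : ℕ → MvPowerSeries (Fin 2) ℤ := fun b => ∑ u ∈ Finset.range b, ∑ v ∈ Finset.range b,
      if u + v + 1 ≤ b - 1 then ((b - 1).choose (u + v + 1) : MvPowerSeries (Fin 2) ℤ) * y ^ u * z ^ v else 0
    (∀ i, (1 - Pser (a i)) * Hs i = Nser (a i)) →
    let H : MvPowerSeries (Fin 2) ℤ := ∑ P ∈ (Finset.univ : Finset (Fin d)).powerset with P.Nonempty,
      ((1 + y) * (1 + z)) ^ (P.card - 1) * ∏ i ∈ P, Hs i
    (MvPowerSeries.coeff (Finsupp.single 0 p + Finsupp.single 1 q) H ≠ 0 ↔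
      p + q + d < p * Finset.univ.sup a + ∑ i, a i) := by
  classical
  intro y z Pser Nser hrec H
  have hP : ∀ (b : ℕ) n, coeff n (Pser b) = if 1 ≤ n 0 ∧ 1 ≤ n 1 ∧ n 0 + n 1 ≤ b then (b.choose (n 0 + n 1) : ℤ) else 0 := by
    intro b n
    simp only [Pser, y, z, map_sum, apply_ite (MvPowerSeries.coeff n), map_zero, coeff_term]
    by_cases hc : 1 ≤ n 0 ∧ 1 ≤ n 1 ∧ n 0 + n 1 ≤ b
    · rw [if_pos hc, Finset.sum_eq_single (n 0), Finset.sum_eq_single (n 1), if_pos hc, if_pos ⟨rfl, rfl⟩]
      · intro v _ hv; split_ifs with _ h <;> first | rfl | exact absurd h.2.symm hv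
      · intro h; simp only [Finset.mem_range] at h; omega
      · intro u _ hu
        exact Finset.sum_eq_zero fun v _ => by split_ifs with _ h <;> first | rfl | exact absurd h.1.symm hu
      · intro h; simp only [Finset.mem_range] at h; omega
    · rw [if_neg hc]
      refine Finset.sum_eq_zero fun u _ => Finset.sum_eq_zero fun v _ => ?_
      split_ifs with h1 h2 <;> first | rfl | exact absurd (by rw [h2.1, h2.2]; exact h1) hc
  have hN : ∀ (b : ℕ) n, coeff n (Nser b) = if n 0 + n 1 + 1 ≤ b - 1 then ((b - 1).choose (n 0 + n 1 + 1) : ℤ) else 0 := by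
    intro b n
    simp only [Nser, y, z, map_sum, apply_ite (MvPowerSeries.coeff n), map_zero, coeff_term]
    by_cases hc : n 0 + n 1 + 1 ≤ b - 1
    · rw [if_pos hc, Finset.sum_eq_single (n 0), Finset.sum_eq_single (n 1), if_pos hc, if_pos ⟨rfl, rfl⟩]
      · intro v _ hv; split_ifs with _ h <;> first | rfl | exact absurd h.2.symm hv
      · intro h; simp only [Finset.mem_range] at h; omega
      · intro u _ hu
        exact Finset.sum_eq_zero fun v _ => by split_ifs with _ h <;> first | rfl | exact absurd h.1.symm hu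
      · intro h; simp only [Finset.mem_range] at h; omega
    · rw [if_neg hc]
      refine Finset.sum_eq_zero fun u _ => Finset.sum_eq_zero fun v _ => ?_
      split_ifs with h1 h2 <;> first | rfl | exact absurd (by rw [h2.1, h2.2]; exact h1) hc
  set A := Finset.univ.sup a with hA
  have haA : ∀ i, a i ≤ A := fun i => Finset.le_sup (Finset.mem_univ i)
  have hg : ∀ i, Good (A - 1) ((a i : ℤ) - 2) (Hs i) := fun i =>
    good_hyp (A - 1) (hrec i) (hP _) (hN _) (by have := haA i; omega)
  have hterm : ∀ P ∈ (Finset.univ : Finset (Fin d)).powerset.filter (·.Nonempty),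
      Good (A - 1) ((∑ i, ((a i : ℤ) - 1)) - 1) (((1 + y) * (1 + z)) ^ (P.card - 1) * ∏ i ∈ P, Hs i) := by
    intro P hP' n
    obtain ⟨h1, h2⟩ := ((good_bin (A - 1)).pow (P.card - 1)).mul (Good.prod P hg) n
    refine ⟨h1, fun h => (h2 h).trans ?_⟩
    have hc : 1 ≤ P.card := (Finset.mem_filter.1 hP').2.card_pos
    have h3 : ∑ i ∈ P, ((a i : ℤ) - 1) ≤ ∑ i, ((a i : ℤ) - 1) :=
      Finset.sum_le_univ_sum_of_nonneg fun i => by have := ha i; omega
    simp only [Finset.sum_sub_distrib, Finset.sum_const, nsmul_eq_mul, Nat.cast_sub hc] at h3 ⊢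
    push_cast
    linarith
  have hsum : (∑ i, ((a i : ℤ) - 1)) = (∑ i, a i : ℕ) - (d : ℤ) := by simp [Finset.sum_sub_distrib]
  constructor
  · intro hne
    have h := ((Good.sum _ hterm) _).2 hne
    simp only [Finsupp.add_apply, Finsupp.single_eq_same, s01, s10, add_zero, zero_add, hsum] at h
    rcases Nat.eq_zero_or_pos d with rfl | hd
    · simp at h; simp [A] at h; omega
    · have hA1 : 1 ≤ A := (ha ⟨0, hd⟩).trans (haA _)
      rw [Nat.cast_sub hA1] at h
      zify
      push_cast at h ⊢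
      linarith
  · intro hlt
    rcases Nat.eq_zero_or_pos d with rfl | hd
    · simp [A] at hlt
    obtain ⟨i0, -, hi0⟩ := Finset.exists_mem_eq_sup Finset.univ ⟨⟨0, hd⟩, Finset.mem_univ _⟩ a
    rw [← hA] at hi0
    have hA2 : 2 ≤ a i0 := by
      by_contra hc
      have hall : ∀ i, a i = 1 := fun i => by have := ha i; have := haA i; omega
      simp [hall, show A = 1 by rw [hi0]; exact hall i0] at hlt
    set P := Finset.univ.filter fun i => 2 ≤ a i with hPdef
    have hi0P : i0 ∈ P := Finset.mem_filter.2 ⟨Finset.mem_univ _, hA2⟩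
    have hPmem : P ∈ (Finset.univ : Finset (Fin d)).powerset.filter (·.Nonempty) :=
      Finset.mem_filter.2 ⟨Finset.mem_powerset.2 (Finset.subset_univ _), ⟨i0, hi0P⟩⟩
    refine ne_of_gt (lt_of_lt_of_le ?_ ((Finset.single_le_sum (f := fun Q : Finset (Fin d) =>
      coeff (Finsupp.single 0 p + Finsupp.single 1 q) (((1 + y) * (1 + z)) ^ (Q.card - 1) * ∏ i ∈ Q, Hs i))
      (fun Q hQ => (hterm Q hQ _).1) hPmem).trans_eq (map_sum _ _ _).symm))
    have hrest : ∀ (s : Finset (Fin d)), (∀ i ∈ s, 2 ≤ a i) → ∀ r, r ≤ ∑ i ∈ s, (a i - 2) →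
        0 < coeff (Finsupp.single (1 : Fin 2) r) (∏ i ∈ s, Hs i) := by
      intro s
      induction s using Finset.induction with
      | empty => intro _ r hr; simp only [Finset.sum_empty, Nat.le_zero] at hr; subst hr; simp
      | insert i s hi ih =>
        intro hs r hr
        rw [Finset.sum_insert hi] at hr
        rw [Finset.prod_insert hi, show Finsupp.single (1 : Fin 2) r = Finsupp.single 1 (min r (a i - 2)) +
            Finsupp.single 1 (r - min r (a i - 2)) by rw [← Finsupp.single_add, Nat.add_sub_cancel' (min_le_left _ _)]]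
        refine pos_mul (hg i) (Good.prod s hg) ?_ (ih (fun j hj => hs j (Finset.mem_insert_of_mem hj)) _ (by omega))
        simpa using pos_hyp (hrec i) (hP _) (hN _) (hs i (Finset.mem_insert_self i s)) 0 _ (Nat.zero_le _) (by simpa using min_le_right r (a i - 2))
    have hs : ∑ i, a i = d + P.card + (∑ i ∈ P.erase i0, (a i - 2)) + (a i0 - 2) := by
      rw [add_assoc, Finset.sum_erase_add _ _ hi0P]
      have e1 : ∀ i, a i = 1 + ((if 2 ≤ a i then 1 else 0) + (if 2 ≤ a i then a i - 2 else 0)) := fun i => by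
        have := ha i; split_ifs <;> omega
      rw [Finset.sum_congr rfl fun i _ => e1 i]
      simp [Finset.sum_add_distrib, ← Finset.sum_filter, hPdef, add_assoc]
    have hcard : 1 ≤ P.card := Finset.card_pos.2 ⟨i0, hi0P⟩
    have hmono : p ≤ p * (a i0 - 1) := Nat.le_mul_of_pos_right _ (by omega)
    have hpA : p * A = p * (a i0 - 1) + p := by rw [hi0, ← Nat.mul_succ]; congr 1; omega
    set q0 := min q (p * (a i0 - 1) + (a i0 - 2)) with hq0
    set R := ∑ i ∈ P.erase i0, (a i - 2) with hR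
    rw [← Finset.mul_prod_erase P Hs hi0P, show Finsupp.single (0 : Fin 2) p + Finsupp.single 1 q =
        Finsupp.single 1 (q - q0 - min (q - q0) R) + ((Finsupp.single 0 p + Finsupp.single 1 q0) +
          Finsupp.single 1 (min (q - q0) R)) by
      rw [add_assoc, ← Finsupp.single_add, add_left_comm, ← Finsupp.single_add]; congr 2; omega]
    exact pos_mul ((good_bin (A - 1)).pow _) ((hg i0).mul (Good.prod _ hg)) (bin_pos _ _ (by omega))
      (pos_mul (hg i0) (Good.prod _ hg) (pos_hyp (hrec i0) (hP _) (hN _) hA2 p q0 (by omega) (by omega))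
        (hrest _ (fun i hi => (Finset.mem_filter.1 (Finset.mem_of_mem_erase hi)).2) _ (min_le_right _ _)))

end Groth.Agent.S8732
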