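import Groth.Statements.S8734
import Groth.Agent.Synt29.PnHodge
import Groth.Agent.PnCoh.Chow.Proper

set_option autoImplicit false
universe u
open CategoryTheory CategoryTheory.Limits AlgebraicGeometry
open LefPen

namespace Groth.Agent.S8734

/-- Over a field: let k be a field, r >= 1, P = P^r_k, Ω = Ω^1_{P/k}, L an O_P-module which is a j-th
exterior power of Ω, and n a nonzero integer; write L(n) = L ⊗ O_P(n). Then H^i(P, L(n)) = H^i(P^r,
Ω^j(n)) is zero unless either i = 0 and n > j, or i = r and n < j - r. -/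
theorem result (k : Type u) [Field k] (r : ℕ) (hr : 1 ≤ r) (j : ℕ)
    (L : (CohB1.ProjSpace r k).Modules)
    (hL : ExtPow.IsExtPow j (Omega.sheaf (CohB1.ProjSpace.toSpec r k)) L) (n : ℤ) (hn : n ≠ 0) (i : ℕ)
    (h0 : ¬ (i = 0 ∧ (j : ℤ) < n)) (hr' : ¬ (i = r ∧ n < (j : ℤ) - r)) :
    Subsingleton (Coh.HH (CohB1.ProjSpace r k)
      (CohB1.tensorMod L (Twist.twistProjSpace r k n)) i) := by
  haveI : QuasiSeparated (CohB1.ProjSpace.toSpec r k) := by
    haveI := Groth.Agent.PnCoh.Chow.isProper_toSpec r k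
    infer_instance
  rcases lt_or_gt_of_ne hn with hneg | hpos
  · exact Groth.Agent.Synt29.PnHodge.vanish_nonpos r k n hneg.le j i (fun h => by omega) (fun h => hn h.1) _
      (Groth.Agent.Synt29.PnEuler.cl_eq_hodge r k hL n)
  · exact Groth.Agent.Synt29.PnHodge.vanish_pos r k n hpos (r + 1) j i (by omega) (fun h => by omega) _
      (Groth.Agent.Synt29.PnEuler.cl_eq_hodge r k hL n)

end Groth.Agent.S8734
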