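import Groth.Statements.S8738
import Groth.Agent.Seidenberg.Extend

set_option autoImplicit false
universe u
open SGA7II

namespace Groth.Agent.S8738

/-- Let k be a field of characteristic zero and A a reduced Noetherian local k-algebra of Krull
dimension one, essentially of finite type over k (the local ring of a reduced curve over k at one of
its points), and let A' be the integral closure of A in its total ring of fractions (the
normalization). Then every k-derivation D of A extends to a k-derivation D' of A', i.e. D' agrees
with D on the image of A. -/
theorem result (k : Type u) [Field k] [CharZero k] (A : Type u) [CommRing A]
    [Algebra k A] [IsReduced A] [IsNoetherianRing A] [IsLocalRing A] [Algebra.EssFiniteType k A]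
    (hdim : ringKrullDim A = 1) (D : Derivation k A A) :
    ∃ D' : Derivation k ↥(integralClosure A (FractionRing A)) ↥(integralClosure A (FractionRing A)),
      ∀ a : A, (D' (algebraMap A ↥(integralClosure A (FractionRing A)) a) : FractionRing A) =
        algebraMap A (FractionRing A) (D a) := by
  exact Groth.Agent.Seidenberg.exists_extension D

end Groth.Agent.S8738
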