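import Groth.Statements.S8746
import Groth.Agent.AdeqFound.Flat
-- import your own Groth.Agent.* helpers here

set_option autoImplicit false
universe u
open CategoryTheory Limits
open Adeq

namespace Groth.Agent.S8746

/-- Let `F`, `G` be module-valued functors on `A`-algebras and `φ` a transformation of the underlying
set-valued functors which is additive and satisfies `φ(uξ) = uφ(ξ)` for units `u`. If `B' ⊗_B G(B) →
G(B')` is an isomorphism for every flat `B → B'`, then `φ` is `B`-linear for every `B`, i.e. a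
morphism of module-valued functors. -/
theorem result (A : Type u) [CommRing A] (F G : Adeq.MVF A)
    (φ : ∀ B : Adeq.Alg A, F.obj (Adeq.pt B) → G.obj (Adeq.pt B))
    (hnat : ∀ ⦃B B' : Adeq.Alg A⦄ (f : B ⟶ B') (x : F.obj (Adeq.pt B)),
      φ B' (F.map (Adeq.ptHom f) x) = G.map (Adeq.ptHom f) (φ B x))
    (hadd : ∀ (B : Adeq.Alg A) (x y : F.obj (Adeq.pt B)), φ B (x + y) = φ B x + φ B y)
    (hunit : ∀ (B : Adeq.Alg A) (v : (B : Type u)ˣ) (x : F.obj (Adeq.pt B)), φ B ((v : B) • x) = (v : B) • φ B x)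
    (hG : ∀ ⦃B B' : Adeq.Alg A⦄ (f : B ⟶ B'), f.hom.toRingHom.Flat → IsIso (G.bc f))
    (B : Adeq.Alg A) (b : B) (x : F.obj (Adeq.pt B)) : φ B (b • x) = b • φ B x := by
  exact Groth.Agent.AdeqFound.linear_of_units φ hnat hunit hG B b x

end Groth.Agent.S8746
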