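import Groth.Statements.S8750
import Groth.Agent.AdeqFound.BaseChange
-- import your own Groth.Agent.* helpers here

set_option autoImplicit false
universe u
open CategoryTheory Limits
open Adeq

namespace Groth.Agent.S8750

/-- For a ring map `A → A'` and an adequate functor `F'` on `A'`-algebras, the functor `B ↦ F'(A' ⊗_A
B)` on `A`-algebras is adequate. -/
theorem result (A A' : Type u) [CommRing A] [CommRing A'] [Algebra A A'] (F' : Adeq.MVF A')
    (hF' : Adeq.adequate A' F') : Adeq.adequate A ((Adeq.push A A').obj F') := by
  exact Groth.Agent.AdeqFound.good_iff.1 (Groth.Agent.AdeqFound.good_push (Groth.Agent.AdeqFound.good_iff.2 hF'))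

end Groth.Agent.S8750
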