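import Groth.Statements.S8760
import Groth.Agent.Adeq2Lib.SheafOps
-- import your own Groth.Agent.* helpers here

set_option autoImplicit false
universe u
open CategoryTheory Limits AlgebraicGeometry
open Adeq

namespace Groth.Agent.S8760

/-- Let `P` be a presheaf of `O`-modules on the big fppf site of `S`. If for every affine scheme `Spec
R` over `S` the module-valued functor `B ↦ P(Spec B)` on `R`-algebras is adequate, then the
sheafification of `P` is an adequate `O`-module. -/
theorem result (S : Scheme.{u})
    (P : PresheafOfModules.{u + 1} (BigSite.ORing Scheme.fppfPrecoverage S).obj)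
    (h : ∀ (R : CommRingCat.{u}) (a : Spec R ⟶ S), Adeq.adequate R ((Adeq.toMVFPre Scheme.fppfPrecoverage a).obj P)) :
    Adeq.adequateMod Scheme.fppfPrecoverage S
      ((PresheafOfModules.sheafification (𝟙 (BigSite.ORing Scheme.fppfPrecoverage S).obj)).obj P) := by
  exact Groth.Agent.Adeq2Lib.adequateMod_of_good _ fun R a => Groth.Agent.Adeq2Lib.good_sheafification P
    (fun R a => Groth.Agent.AdeqFound.good_iff.2 (h R a)) R a

end Groth.Agent.S8760
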