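import Groth.Statements.S8763
import Groth.Agent.Adeq2Lib.SheafExact
-- import your own Groth.Agent.* helpers here

set_option autoImplicit false
universe u
open CategoryTheory Limits AlgebraicGeometry
open Adeq

namespace Groth.Agent.S8763

/-- If `0 → M₁ → M₂ → M₃ → 0` is a short exact sequence of `O`-modules on the big fppf site of `S` with
`M₁` and `M₃` adequate, then `M₂` is adequate. -/
theorem result (S : Scheme.{u}) (C : ShortComplex (BigSite.Mod Scheme.fppfPrecoverage S))
    (hC : C.ShortExact) (h₁ : Adeq.adequateMod Scheme.fppfPrecoverage S C.X₁) (h₃ : Adeq.adequateMod Scheme.fppfPrecoverage S C.X₃) :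
    Adeq.adequateMod Scheme.fppfPrecoverage S C.X₂ := by
  exact Groth.Agent.Adeq2Lib.adequateMod_of_good _ (Groth.Agent.Adeq2Lib.good_toMVF_shortExact C hC h₁ h₃)

end Groth.Agent.S8763
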