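import Groth.Statements.S8768
import Groth.Agent.Adeq2Lib.Pull
-- import your own Groth.Agent.* helpers here

set_option autoImplicit false
universe u
open CategoryTheory Limits AlgebraicGeometry
open scoped TensorProduct
open Adeq

namespace Groth.Agent.S8768

/-- For an adequate `O`-module `M` on the big fppf site of `S` and a faithfully flat map of affine
schemes `Spec B → Spec R` over `S`, the sequence `0 → M(Spec R) → M(Spec B) → M(Spec (B ⊗_R B))` is
exact: the first map is injective and its image is the equalizer of the two maps induced by `b ↦ b ⊗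
1` and `b ↦ 1 ⊗ b`. (The published statement asserts exactness of the whole extended Cech complex
and the fpqc sheaf property; this row covers the first two degrees.) -/
theorem result (S : Scheme.{u}) (M : BigSite.Mod Scheme.fppfPrecoverage S)
    (hM : Adeq.adequateMod Scheme.fppfPrecoverage S M) (R : CommRingCat.{u}) (a : Spec R ⟶ S)
    (B : Type u) [CommRing B] [Algebra R B] [Module.FaithfullyFlat R B] :
    Function.Injective (((Adeq.toMVF Scheme.fppfPrecoverage a).obj M).map
        (Adeq.ptHom (CommAlgCat.ofHom (Algebra.ofId R B) : Adeq.algOf R R ⟶ Adeq.algOf R B))) ∧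
      ∀ y : ((Adeq.toMVF Scheme.fppfPrecoverage a).obj M).obj (Adeq.pt (Adeq.algOf R B)),
        ((Adeq.toMVF Scheme.fppfPrecoverage a).obj M).map (Adeq.ptHom (CommAlgCat.ofHom
            (Algebra.TensorProduct.includeLeft : B →ₐ[R] B ⊗[R] B) : Adeq.algOf R B ⟶ Adeq.algOf R (B ⊗[R] B))) y =
          ((Adeq.toMVF Scheme.fppfPrecoverage a).obj M).map (Adeq.ptHom (CommAlgCat.ofHom
            (Algebra.TensorProduct.includeRight : B →ₐ[R] B ⊗[R] B) : Adeq.algOf R B ⟶ Adeq.algOf R (B ⊗[R] B))) y →
        y ∈ Set.range (((Adeq.toMVF Scheme.fppfPrecoverage a).obj M).map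
          (Adeq.ptHom (CommAlgCat.ofHom (Algebra.ofId R B) : Adeq.algOf R R ⟶ Adeq.algOf R B))) := by
  exact Groth.Agent.Adeq2Lib.exact_cech_two S M hM R a B

end Groth.Agent.S8768
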