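import Groth.Statements.S8780
import Groth.Prelude.Def_W4stkadequateTF
import Mathlib

set_option autoImplicit false
universe u
open CategoryTheory Limits
open AdeqTF

namespace Groth.Agent.S8780
open CategoryTheory Limits Opposite in
noncomputable abbrev freeAb {A : Type u} [CommRing A] (S : Adeq.Alg A ⥤ Type (u + 1)) :
    (Adeq.Alg A)ᵒᵖᵒᵖ ⥤ Ab.{u + 1} where
  obj X := AddCommGrpCat.of (S.obj X.unop.unop →₀ X.unop.unop)
  map {X Y} f := AddCommGrpCat.ofHom
    ((Finsupp.mapDomain.addMonoidHom (S.map f.unop.unop)).comp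
      (Finsupp.mapRange.addMonoidHom f.unop.unop.hom.toRingHom.toAddMonoidHom))
  map_id X := by ext x; simp
  map_comp f g := by ext x; simp

open CategoryTheory Limits Opposite in
noncomputable abbrev freeMVF {A : Type u} [CommRing A] (S : Adeq.Alg A ⥤ Type (u + 1)) : Adeq.MVF A :=
  PresheafOfModules.ofPresheaf (freeAb S) (by
    intro X Y f r m
    induction m using Finsupp.induction_linear with
    | zero => simp
    | add a b ha hb => simp only [smul_add, map_add, ha, hb]
    | single s c =>
      change Finsupp.mapDomain (S.map f.unop.unop)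
          (Finsupp.mapRange f.unop.unop.hom (map_zero _) (r • Finsupp.single s c)) =
        f.unop.unop.hom r • Finsupp.mapDomain (S.map f.unop.unop)
          (Finsupp.mapRange f.unop.unop.hom (map_zero _) (Finsupp.single s c))
      rw [Finsupp.smul_single, Finsupp.mapRange_single, Finsupp.mapDomain_single, Finsupp.mapRange_single,
        Finsupp.mapDomain_single, Finsupp.smul_single, smul_eq_mul, smul_eq_mul, map_mul])

open CategoryTheory Limits Opposite in
noncomputable def freeMVFDesc {A : Type u} [CommRing A] (S : Adeq.Alg A ⥤ Type (u + 1)) (I : Adeq.MVF A)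
    (v : ∀ D : Adeq.Alg A, S.obj D → I.obj (Adeq.pt D))
    (hv : ∀ (D D' : Adeq.Alg A) (f : D ⟶ D') (s : S.obj D),
      v D' (S.map f s) = I.map (Adeq.ptHom f) (v D s)) : freeMVF S ⟶ I :=
  PresheafOfModules.homMk
    { app X := AddCommGrpCat.ofHom
        (Finsupp.linearCombination X.unop.unop (v X.unop.unop)).toAddMonoidHom
      naturality {X Y} f := by
        ext x
        induction x using Finsupp.induction_linear with
        | zero => exact (map_zero _).trans (map_zero _).symm
        | add a b ha hb => exact (map_add _ a b).trans ((congrArg₂ (· + ·) ha hb).trans (map_add _ a b).symm)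
        | single s c =>
          change Finsupp.linearCombination Y.unop.unop (v Y.unop.unop)
              (Finsupp.mapDomain (S.map f.unop.unop) (Finsupp.mapRange f.unop.unop.hom (map_zero _) (Finsupp.single s c))) =
            I.map f (Finsupp.linearCombination X.unop.unop (v X.unop.unop) (Finsupp.single s c))
          rw [Finsupp.mapRange_single, Finsupp.mapDomain_single, Finsupp.linearCombination_single,
            Finsupp.linearCombination_single, hv]
          exact ((I.map f).hom.map_smul c (v X.unop.unop s)).symm }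
    (fun X r m => (Finsupp.linearCombination X.unop.unop (v X.unop.unop)).map_smul r m)

open CategoryTheory Limits Opposite in
theorem exists_lift_tangent {A : Type u} [CommRing A] (I : Adeq.MVF A) [Injective I]
    {C C₂ B : Adeq.Alg A} (q : C ⟶ C₂) (p : C ⟶ B) (p₂ : C₂ ⟶ B) (hp : q ≫ p₂ = p) [Epi q]
    (t : I.obj (Adeq.pt C₂)) (ht : I.map (Adeq.ptHom p₂) t = 0) :
    ∃ t' : I.obj (Adeq.pt C), I.map (Adeq.ptHom q) t' = t ∧ I.map (Adeq.ptHom p) t' = 0 := by
  classical
  let H : Adeq.Alg A ⥤ Type (u + 1) := coyoneda.obj (op C) ⋙ uliftFunctor.{u + 1}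
  let Pr : ∀ D : Adeq.Alg A, (C ⟶ D) → Prop := fun D χ => (∃ φ, q ≫ φ = χ) ∨ ∃ ψ, p ≫ ψ = χ
  let S : Adeq.Alg A ⥤ Type (u + 1) :=
    { obj := fun D => ULift.{u + 1} {χ : C ⟶ D // Pr D χ}
      map := fun f => ↾fun χ => ⟨⟨χ.down.1 ≫ f, by
        rcases χ.down.2 with ⟨φ, h⟩ | ⟨ψ, h⟩
        · exact Or.inl ⟨φ ≫ f, by rw [← Category.assoc, h]⟩
        · exact Or.inr ⟨ψ ≫ f, by rw [← Category.assoc, h]⟩⟩⟩
      map_id := fun D => by ext χ <;> simp [Category.comp_id]
      map_comp := fun f g => by ext χ <;> simp [Category.assoc] }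
  let val : ∀ D : Adeq.Alg A, (C ⟶ D) → I.obj (Adeq.pt D) := fun D χ =>
    if h : ∃ φ, q ≫ φ = χ then I.map (Adeq.ptHom h.choose) t else 0
  have val_q : ∀ D (φ : C₂ ⟶ D), val D (q ≫ φ) = I.map (Adeq.ptHom φ) t := fun D φ => by
    have h : ∃ φ', q ≫ φ' = q ≫ φ := ⟨φ, rfl⟩
    simp only [val, dif_pos h]
    rw [(cancel_epi q).1 h.choose_spec]
  have val_p : ∀ D (ψ : B ⟶ D), val D (p ≫ ψ) = 0 := fun D ψ => by
    rw [← hp, Category.assoc, val_q, show Adeq.ptHom (p₂ ≫ ψ) = Adeq.ptHom p₂ ≫ Adeq.ptHom ψ from rfl,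
      I.map_comp_apply]
    exact (congrArg (I.map (Adeq.ptHom ψ)) ht).trans (map_zero (I.map (Adeq.ptHom ψ)).hom)
  have hval : ∀ (D D' : Adeq.Alg A) (f : D ⟶ D') (s : S.obj D),
      val D' (S.map f s).down.1 = I.map (Adeq.ptHom f) (val D s.down.1) := by
    intro D D' f s
    show val D' (s.down.1 ≫ f) = _
    rcases s.down.2 with ⟨φ, h⟩ | ⟨ψ, h⟩
    · rw [← h, Category.assoc, val_q, val_q, show Adeq.ptHom (φ ≫ f) = Adeq.ptHom φ ≫ Adeq.ptHom f from rfl,
        I.map_comp_apply]
    · rw [← h, Category.assoc, val_p, val_p]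
      exact (map_zero (I.map (Adeq.ptHom f)).hom).symm
  let g : freeMVF S ⟶ I := freeMVFDesc S I (fun D s => val D s.down.1) hval
  let i : freeMVF S ⟶ freeMVF H := freeMVFDesc S (freeMVF H)
    (fun D s => Finsupp.single (ULift.up s.down.1) (1 : D)) (fun D D' f s => by
      change _ = Finsupp.mapDomain (H.map f)
        (Finsupp.mapRange f.hom (map_zero _) (Finsupp.single (ULift.up s.down.1) (1 : D)))
      rw [Finsupp.mapRange_single, Finsupp.mapDomain_single, map_one]
      rfl)
  have hi : ∀ X, Function.Injective (i.app X) := fun X => by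
    let e : S.obj X.unop.unop → H.obj X.unop.unop := fun s => ULift.up s.down.1
    have he : Function.Injective e := fun a b h => ULift.ext _ _ (Subtype.ext (congrArg ULift.down h))
    intro a b hab
    refine Finsupp.mapDomain_injective he ?_
    have key : ∀ m : S.obj X.unop.unop →₀ X.unop.unop,
        Finsupp.mapDomain e m = Finsupp.linearCombination X.unop.unop (fun s => Finsupp.single (e s) (1 : X.unop.unop)) m := by
      intro m
      induction m using Finsupp.induction_linear with
      | zero => simp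
      | add a b ha hb => rw [Finsupp.mapDomain_add, map_add, ha, hb]
      | single s c => simp
    rw [key, key]
    exact hab
  haveI : Mono i := PresheafOfModules.mono_of_injective (fun X => hi X)
  let ext := Injective.factorThru g i
  have hext : ∀ (D : Adeq.Alg A) (s : S.obj D), ext.app (Adeq.pt D) (Finsupp.single (ULift.up s.down.1) (1 : D)) =
      val D s.down.1 := by
    intro D s
    have h1 := congrArg (fun k => k.app (Adeq.pt D) (Finsupp.single s (1 : D))) (Injective.comp_factorThru g i)
    have h2 : i.app (Adeq.pt D) (Finsupp.single s (1 : D)) = Finsupp.single (ULift.up s.down.1) (1 : D) := by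
      change Finsupp.linearCombination D (fun s : S.obj D => Finsupp.single (ULift.up s.down.1) (1 : D))
        (Finsupp.single s (1 : D)) = _
      rw [Finsupp.linearCombination_single, one_smul]
    have h3 : g.app (Adeq.pt D) (Finsupp.single s (1 : D)) = val D s.down.1 := by
      change Finsupp.linearCombination D (fun s : S.obj D => val D s.down.1) (Finsupp.single s (1 : D)) = _
      rw [Finsupp.linearCombination_single, one_smul]
    exact (congrArg _ h2.symm).trans (h1.trans h3)
  refine ⟨ext.app (Adeq.pt C) (Finsupp.single (ULift.up (𝟙 C)) (1 : C)), ?_, ?_⟩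
  · have h1 := (PresheafOfModules.naturality_apply ext (Adeq.ptHom q) (Finsupp.single (ULift.up (𝟙 C)) (1 : C))).symm
    refine h1.trans ?_
    have h2 := hext C₂ ⟨⟨q ≫ 𝟙 _, Or.inl ⟨𝟙 _, rfl⟩⟩⟩
    rw [val_q, show Adeq.ptHom (𝟙 C₂) = 𝟙 _ from rfl, I.map_id] at h2
    refine Eq.trans ?_ h2
    refine congrArg (ext.app (Adeq.pt C₂)) ?_
    change Finsupp.mapDomain (H.map q) (Finsupp.mapRange q.hom (map_zero _) (Finsupp.single (ULift.up (𝟙 C)) (1 : C))) = _
    rw [Finsupp.mapRange_single, Finsupp.mapDomain_single, map_one]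
    exact congrArg (fun z => Finsupp.single z _) (congrArg ULift.up (show 𝟙 C ≫ q = q ≫ 𝟙 _ by simp))
  · have h1 := (PresheafOfModules.naturality_apply ext (Adeq.ptHom p) (Finsupp.single (ULift.up (𝟙 C)) (1 : C))).symm
    refine h1.trans ?_
    have h2 := hext B ⟨⟨p ≫ 𝟙 _, Or.inr ⟨𝟙 _, rfl⟩⟩⟩
    rw [val_p] at h2
    refine Eq.trans ?_ h2
    refine congrArg (ext.app (Adeq.pt B)) ?_
    change Finsupp.mapDomain (H.map p) (Finsupp.mapRange p.hom (map_zero _) (Finsupp.single (ULift.up (𝟙 C)) (1 : C))) = _
    rw [Finsupp.mapRange_single, Finsupp.mapDomain_single, map_one]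
    exact congrArg (fun z => Finsupp.single z _) (congrArg ULift.up (show 𝟙 C ≫ p = p ≫ 𝟙 _ by simp))


/-- Take `I` injective in the category of module-valued functors on `A`-algebras. For every `A`-algebra
`B` and every short exact sequence `0 → N₁ → N → N₂ → 0` of `B`-modules, the induced map of tangent
modules `TI(B, N) → TI(B, N₂)` is surjective (`TI(B, N)` is the kernel of `I(B[N]) → I(B)`, `B[N]`
the trivial square-zero extension). (The published statement asserts that `TI(B, N₁) → TI(B, N) →
TI(B, N₂) → 0` is exact; exactness at the middle term is false: for `A = B = ℚ`, the split sequence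
`0 → ℚ → ℚ² → ℚ → 0` and the injective functor `D ↦ Map(Hom(D, ℚ[ε]/(ε²)), E)` with `E` an injective
hull of `ℚ[ε]/(ε²)`, the indicator function of the first coordinate form lies in the kernel of
`TI(B, ℚ²) → TI(B, ℚ)` and not in the image of `TI(B, ℚ) → TI(B, ℚ²)`. This row keeps the
surjectivity, which the published argument does establish.) -/
theorem result (A : Type u) [CommRing A] (I : Adeq.MVF A) [Injective I]
    (B : Adeq.Alg A) (S : ShortComplex (ModuleCat.{u} B)) (hS : S.ShortExact) :
    Function.Surjective (AdeqTF.tangentMap B I S.g) := by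
  intro t
  have hg : Function.Surjective S.g.hom := (ModuleCat.epi_iff_surjective S.g).1 hS.epi_g
  haveI : Epi (AdeqTF.map B S.g) := by
    refine ⟨fun a b h => CommAlgCat.hom_ext (AlgHom.ext fun x => ?_)⟩
    obtain ⟨n, hn⟩ := hg x.snd
    have hx : (AdeqTF.map B S.g).hom (TrivSqZeroExt.inl x.fst + TrivSqZeroExt.inr n) = x := by
      show TrivSqZeroExt.map S.g.hom _ = x
      rw [map_add, TrivSqZeroExt.map_inl, TrivSqZeroExt.map_inr, hn, TrivSqZeroExt.inl_fst_add_inr_snd_eq]
    rw [← hx]
    exact congrArg (fun k => k.hom (TrivSqZeroExt.inl x.fst + TrivSqZeroExt.inr n)) h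
  obtain ⟨t', h1, h2⟩ := exists_lift_tangent I (AdeqTF.map B S.g) (AdeqTF.fst B S.X₂) (AdeqTF.fst B S.X₃)
    (AdeqTF.map_fst B S.g) t.1 t.2
  exact ⟨⟨t', h2⟩, Subtype.ext h1⟩


end Groth.Agent.S8780
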