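import Groth.Statements.S8784
import Groth.Agent.Adeq2Lib.SheafExact
-- import your own Groth.Agent.* helpers here

set_option autoImplicit false
universe u
open CategoryTheory Limits AlgebraicGeometry
open Adeq

namespace Groth.Agent.S8784

/-- The parasitic adequate `O`-modules form a Serre subcategory of the category of adequate `O`-modules
on the big fppf site of a scheme `S`; concretely, if `M₁ → M₂ → M₃` is a complex of adequate
`O`-modules, exact at `M₂` (exactness taken in the category of all `O`-modules, which agrees with
exactness among adequate modules), and `M₁`, `M₃` are parasitic, then `M₂` is parasitic. (The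
published statement also identifies the quotient by this Serre subcategory with the category of
quasi-coherent modules on `S`; that part is not included here.) -/
theorem result (S : Scheme.{u}) (C : ShortComplex (BigSite.Mod Scheme.fppfPrecoverage S))
    (hC : C.Exact) (h₁ : Adeq.adequateMod Scheme.fppfPrecoverage S C.X₁) (h₂ : Adeq.adequateMod Scheme.fppfPrecoverage S C.X₂)
    (h₃ : Adeq.adequateMod Scheme.fppfPrecoverage S C.X₃) (p₁ : Adeq.parasitic Scheme.fppfPrecoverage S C.X₁)
    (p₃ : Adeq.parasitic Scheme.fppfPrecoverage S C.X₃) :
    Adeq.parasitic Scheme.fppfPrecoverage S C.X₂ := by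
  exact Groth.Agent.Adeq2Lib.parasitic_mid C hC p₁ p₃

end Groth.Agent.S8784
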