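import Groth.Statements.S8786
import Groth.Agent.Adeq2Lib.Fpqc
-- import your own Groth.Agent.* helpers here

set_option autoImplicit false
universe u
open CategoryTheory Limits AlgebraicGeometry
open Adeq

namespace Groth.Agent.S8786

/-- An adequate `O`-module `M` on the big Zariski site of a scheme `S` is a sheaf for the fpqc topology:
the presheaf of abelian groups underlying `M`, on schemes over `S`, satisfies the sheaf property for
every fpqc covering. (The published statement also asserts the exactness of the whole extended Cech
complex of every faithfully flat map of affine objects; that clause is not part of this row.) -/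
theorem result (S : Scheme.{u}) (M : BigSite.Mod Scheme.zariskiPrecoverage S)
    (hM : Adeq.adequateMod Scheme.zariskiPrecoverage S M) :
    Presheaf.IsSheaf (QuotSh.J Scheme.fpqcPrecoverage S) ((BigSite.toAbMod Scheme.zariskiPrecoverage S).obj M).obj := by
  exact Groth.Agent.Adeq2Lib.isSheaf_fpqc_of_good M le_rfl fun R a => Groth.Agent.Adeq2Lib.good_of_adequateMod_zariski S M hM R a

end Groth.Agent.S8786
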