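import Groth.Statements.S8795
import Groth.Agent.GrLib8.CplKill.Local
-- import your own Groth.Agent.* helpers here

set_option autoImplicit false
universe u
open CategoryTheory
attribute [local instance] HasDerivedCategory.standard
open LocCoh

namespace Groth.Agent.S8795

/-- Let (A, m) be a Noetherian local ring which is I-adically complete for an ideal I and has a
dualizing complex; let d be a natural with cd(A, I) ≤ d, M a finite A-module and s a natural. Assume
that every prime p ∉ V(I) with V(p) ∩ V(I) ≠ {m} satisfies depth(M_p) ≥ s or depth(M_p) + dim(A/p) >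
d + s, and that derived I-adic completion (left adjoint to the inclusion of derived complete
objects) exists on D(A). Then there is an ideal J₀ with V(J₀) ∩ V(I) = {m} such that for every ideal
J ⊆ J₀ with V(J) ∩ V(I) = {m} whose total right derived functor RΓ_J exists, the canonical map from
RΓ_J(M) to its derived I-adic completion induces a bijection on cohomology in every degree i ≤ s.
(The identification of that completion with the completion of RΓ_m(M) is not part of this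
statement.) -/
theorem result (A : Type u) [CommRing A] [IsNoetherianRing A] [IsLocalRing A] (I : Ideal A) [IsAdicComplete I A] (hdc : ∃ ω : Dual.D A, Dual.IsDualizing A ω) [DRing.HasDerivedCompletion I] (d : ℕ) (hcd : LocCoh.CdLE A I d) (M : Type u) [AddCommGroup M] [Module A M] [Module.Finite A M] (s : ℕ) (h4 : ∀ p : PrimeSpectrum A, ¬ I ≤ p.asIdeal → (∃ r : PrimeSpectrum A, p ≤ r ∧ I ≤ r.asIdeal ∧ r.asIdeal ≠ IsLocalRing.maximalIdeal A) → (s : ℕ∞) ≤ LocCoh.depth (Localization.AtPrime p.asIdeal) (LocalizedModule p.asIdeal.primeCompl M) ∨ (((d + s : ℕ) : ℕ∞) : WithBot ℕ∞) < ((LocCoh.depth (Localization.AtPrime p.asIdeal) (LocalizedModule p.asIdeal.primeCompl M) : ℕ∞) : WithBot ℕ∞) + ringKrullDim (A ⧸ p.asIdeal)) : ∃ J₀ : Ideal A, PrimeSpectrum.zeroLocus ((J₀ : Ideal A) : Set A) ∩ PrimeSpectrum.zeroLocus ((I : Ideal A) : Set A) = {IsLocalRing.closedPoint A} ∧ ∀ (J : Ideal A) [DRing.HasRgammaI J], J ≤ J₀ → PrimeSpectrum.zeroLocus ((J : Ideal A) : Set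 A) ∩ PrimeSpectrum.zeroLocus ((I : Ideal A) : Set A) = {IsLocalRing.closedPoint A} → ∀ i : ℤ, i ≤ s → Function.Bijective ((DerivedCategory.homologyFunctor (ModuleCat.{u} A) i).map (DRing.toDerivedCompletion I ((DRing.RgammaI J).obj (Dual.inD A M)))).hom := by
  obtain ⟨ω, hω⟩ := hdc
  obtain ⟨n, -, hcov, hmono, -⟩ := Groth.Agent.KFlatLib.exists_extDegree hω
  let m := IsLocalRing.closedPoint A
  have hIm : I ≤ IsLocalRing.maximalIdeal A := (IsAdicComplete.le_jacobson_bot I).trans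
    (le_of_eq (IsLocalRing.jacobson_eq_maximalIdeal ⊥ bot_ne_top))
  have hle : ∀ p : PrimeSpectrum A, p ≤ m := fun p => IsLocalRing.le_maximalIdeal p.isPrime.ne_top
  let T : Set (PrimeSpectrum A) := {p | ∀ q : PrimeSpectrum A, p ≤ q → I ≤ q.asIdeal → IsLocalRing.maximalIdeal A ≤ q.asIdeal}
  have hT : Groth.Agent.GrLib8.AlgLC.IsTrace I (IsLocalRing.maximalIdeal A) T := fun p => Iff.rfl
  have hdim : ∀ p : PrimeSpectrum A, ∃ e : ℕ, ringKrullDim (A ⧸ p.asIdeal) = (e : WithBot ℕ∞) ∧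
      Formal2.dimBetween A p.asIdeal m.asIdeal = ((e : ℕ∞) : WithBot ℕ∞) := by
    intro p
    obtain ⟨e, he, hen⟩ := Groth.Agent.KFlatLib.ringKrullDim_quotient_eq hcov hmono p
    obtain ⟨δ, hδ, hδn⟩ := Groth.Agent.GrLib8.ProZ.exists_dim_eq hcov hmono p m (hle p)
    obtain rfl : δ = e := by
      simp only [m] at hδn
      omega
    exact ⟨δ, he, hδ⟩
  have hTr : ∀ p : PrimeSpectrum A, p ∈ T ↔ Groth.Agent.GrLib8.CplKill.Tr I p := fun p =>
    ⟨fun h r hr hI => le_antisymm (IsLocalRing.le_maximalIdeal r.isPrime.ne_top) (h r hr hI),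
      fun h r hr hI => (h r hr hI).ge⟩
  have h3 : Groth.Agent.GrLib8.AlgLC.H3 I (IsLocalRing.maximalIdeal A) T d := by
    intro p hpI hpT
    refine ⟨m, hle p, le_rfl, hIm, ?_⟩
    obtain ⟨e, he, hd⟩ := hdim p
    rw [hd]
    by_contra hlt
    have hde : d < e := by
      by_contra hge
      exact hlt (by exact_mod_cast (not_lt.1 hge))
    refine Groth.Agent.S0328.result A I (fun h => (IsLocalRing.maximalIdeal.isMaximal A).ne_top (top_unique (h ▸ hIm)))
      p.asIdeal ?_ e he (by omega) fun N _ _ j hj => hcd N j (by omega)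
    rw [Ideal.radical_eq_sInf]
    refine le_antisymm (sInf_le ⟨sup_le (hle p) hIm, inferInstance⟩) (le_sInf fun Q hQ => ?_)
    exact hpT ⟨Q, hQ.2⟩ (le_sup_left.trans hQ.1) (le_sup_right.trans hQ.1)
  have h4' : ∀ p : PrimeSpectrum A, ¬ I ≤ p.asIdeal → ¬ Groth.Agent.GrLib8.CplKill.Tr I p →
      ∃ r : PrimeSpectrum A, p ≤ r ∧ I ≤ r.asIdeal ∧ r.asIdeal ≠ IsLocalRing.maximalIdeal A := fun p _ h => by
    simp only [Groth.Agent.GrLib8.CplKill.Tr, not_forall] at h
    obtain ⟨r, h1, h2, h3⟩ := h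
    exact ⟨r, h1, h2, h3⟩
  obtain ⟨J₀, -, hJ₀, hdep, -⟩ := Groth.Agent.GrLib8.AlgLC.exists_main (M := M) (s := s) (d := d) ⟨ω, hω⟩ hT h3
    fun p hpI hpT q hpq hq _ => by
      obtain rfl : q = m := le_antisymm (hle q) hq
      obtain ⟨e, he, hd⟩ := hdim p
      rw [hd]
      rcases h4 p hpI (h4' p hpI (mt (hTr p).2 hpT)) with h | h
      · exact Or.inl h
      · exact Or.inr (by rw [he] at h; exact h)
  have hm : PrimeSpectrum.zeroLocus ((IsLocalRing.maximalIdeal A : Ideal A) : Set A) ∩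
      PrimeSpectrum.zeroLocus ((I : Ideal A) : Set A) = {m} := by
    ext q
    exact ⟨fun h => le_antisymm (hle q) h.1, fun h => (show q = m from h) ▸ ⟨show IsLocalRing.maximalIdeal A ≤ m.asIdeal from le_rfl, hIm⟩⟩
  refine ⟨J₀, hJ₀.trans hm, fun J _ hle₀ hJ i hi => ?_⟩
  haveI := Groth.Agent.GrLib8.CplKill.hasRgammaI I
  have hV : ∀ r : PrimeSpectrum A, J ≤ r.asIdeal → I ≤ r.asIdeal → r.asIdeal = IsLocalRing.maximalIdeal A :=
    fun r h1 h2 => congrArg PrimeSpectrum.asIdeal (hJ.subset ⟨h1, h2⟩ : r ∈ ({m} : Set (PrimeSpectrum A)))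
  refine Groth.Agent.GrLib8.CplKill.bijective_of_good ⟨ω, hω⟩ hcd hV (sup_le (hJ.superset rfl).1 hIm) M
    ⟨fun p h1 h2 => h4 p h1 (h4' p h1 h2), fun p h1 h2 h3' => hdep p ((hTr p).2 h3') fun h => h2 (hle₀.trans h)⟩ i hi

end Groth.Agent.S8795
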