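import Groth.Statements.S8797
import Groth.Agent.GrLib8.Bootstrap.Rows
-- import your own Groth.Agent.* helpers here

set_option autoImplicit false
universe u
open CategoryTheory
open Dual2

namespace Groth.Agent.S8797

/-- Let I ⊆ 𝔞 be ideals of a Noetherian ring A with a dualizing complex, d a natural with cd(A, I) ≤ d,
M a finite A-module and s a natural. Assume (c): for every prime p ∉ V(I) and every prime q ∈ V(p) ∩
V(𝔞), either depth(M_p) > s or depth(M_p) + dim((A/p)_q) > d + s. Then for every q ∈ V(𝔞), writing
A', I', M' for the I-adic completions of A_q, IA_q, M_q, one has depth(M'_{p'}) > s for every prime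
p' of A' not containing I' such that the only primes containing both p' and I' are maximal. (The
published statement concludes that all standing conditions of the setting hold; the others follow at
once from the hypotheses, and this row states only this depth condition on completions.) -/
theorem result (A : Type u) [CommRing A] [IsNoetherianRing A] (hdc : ∃ ω : Dual.D A, Dual.IsDualizing A ω) (I 𝔞 : Ideal A) (hI𝔞 : I ≤ 𝔞) (d : ℕ) (hcd : LocCoh.CdLE A I d) (M : Type u) [AddCommGroup M] [Module A M] [Module.Finite A M] (s : ℕ) (hc : ∀ p q : PrimeSpectrum A, p ≤ q → ¬ I ≤ p.asIdeal → 𝔞 ≤ q.asIdeal → (s : ℕ∞) < LocCoh.depth (Localization.AtPrime p.asIdeal) (LocalizedModule p.asIdeal.primeCompl M) ∨ (((d + s : ℕ) : ℕ∞) : WithBot ℕ∞) < ((LocCoh.depth (Localization.AtPrime p.asIdeal) (LocalizedModule p.asIdeal.primeCompl M) : ℕ∞) : WithBot ℕ∞) + Formal2.dimBetween A p.asIdeal q.asIdeal) (T : Set (PrimeSpectrum A)) (hT : T = PrimeSpectrum.zeroLocus ((𝔞 : Ideal A) : Set A)) : ∀ q : PrimeSpectrum A, q ∈ T → ∀ p' : PrimeSpectrum (AdicCompletion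 (I.map (algebraMap A (Localization.AtPrime q.asIdeal))) (Localization.AtPrime q.asIdeal)), ¬ (I.map (algebraMap A (AdicCompletion (I.map (algebraMap A (Localization.AtPrime q.asIdeal))) (Localization.AtPrime q.asIdeal)))) ≤ p'.asIdeal → (∀ q' : PrimeSpectrum (AdicCompletion (I.map (algebraMap A (Localization.AtPrime q.asIdeal))) (Localization.AtPrime q.asIdeal)), p' ≤ q' → (I.map (algebraMap A (AdicCompletion (I.map (algebraMap A (Localization.AtPrime q.asIdeal))) (Localization.AtPrime q.asIdeal)))) ≤ q'.asIdeal → q'.asIdeal.IsMaximal) → (s : ℕ∞) < LocCoh.depth (Localization.AtPrime p'.asIdeal) (LocalizedModule p'.asIdeal.primeCompl (AdicCompletion (I.map (algebraMap A (Localization.AtPrime q.asIdeal))) (LocalizedModule q.asIdeal.primeCompl M))) := by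
  subst hT
  obtain ⟨ω, hω⟩ := hdc
  intro q hq
  exact Groth.Agent.GrLib8.Bootstrap.h6_of_depth_bound I M hω d hcd s q (hI𝔞.trans hq) fun p hpq hp => hc p q hpq hp hq

end Groth.Agent.S8797
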