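import Groth.Statements.S8799
import Groth.Agent.GrLib8.ArtinSystem
import Groth.Agent.LC.TopDim
-- import your own Groth.Agent.* helpers here

set_option autoImplicit false
universe u
open CategoryTheory Opposite
open LocCoh

namespace Groth.Agent.S8799

/-- Let (A, m) be a Noetherian local ring, (M_n) an inverse system of finite A-modules, and M a finite
A-module with a compatible system of maps M → M_n. Suppose that for some i the induced map H^i_m(M)
→ lim H^i_m(M_n) on local cohomology is bijective, in the sense that an element of H^i_m(M)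
vanishing in every H^i_m(M_n) is zero and every compatible family in the H^i_m(M_n) comes from
H^i_m(M). We conclude that, taking the cone formed by the given maps, essential constancy holds for
the local cohomology system (H^i_m(M_n))_n, and the value it stabilizes at is H^i_m(M). -/
theorem result (A : Type u) [CommRing A] [IsNoetherianRing A] [IsLocalRing A] (Msys : ℕᵒᵖ ⥤ ModuleCat.{u} A) (hfin : ∀ n : ℕᵒᵖ, Module.Finite A (Msys.obj n)) (M : Type u) [AddCommGroup M] [Module A M] [Module.Finite A M] (c : (Functor.const ℕᵒᵖ).obj (ModuleCat.of A M) ⟶ Msys) (i : ℕ) (Hc : (Functor.const ℕᵒᵖ).obj ((localCohomology (IsLocalRing.maximalIdeal A) i).obj (ModuleCat.of A M)) ⟶ Msys ⋙ localCohomology (IsLocalRing.maximalIdeal A) i) (hHc : ∀ n : ℕᵒᵖ, Hc.app n = (localCohomology (IsLocalRing.maximalIdeal A) i).map (c.app n)) (hinj : ∀ x : (localCohomology (IsLocalRing.maximalIdeal A) i).obj (ModuleCat.of A M), (∀ n : ℕᵒᵖ, (Hc.app n) x = 0) → x = 0) (hsurj : ∀ y : (∀ n : ℕ, (localCohomology (IsLocalRing.maximalIdeal A) i).obj (Msys.obj (op n))), (∀ (n m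 : ℕ) (h : n ≤ m), ((localCohomology (IsLocalRing.maximalIdeal A) i).map (Msys.map (homOfLE h).op)) (y m) = y n) → ∃ x : (localCohomology (IsLocalRing.maximalIdeal A) i).obj (ModuleCat.of A M), ∀ n : ℕ, (Hc.app (op n)) x = y n) : DerCA.IsEssConstant (Msys ⋙ localCohomology (IsLocalRing.maximalIdeal A) i) ((localCohomology (IsLocalRing.maximalIdeal A) i).obj (ModuleCat.of A M)) Hc := by
  haveI := Groth.Agent.LC.isArtinian_H (R := A) i M
  haveI : ∀ n : ℕ, IsArtinian A ((Msys ⋙ localCohomology (IsLocalRing.maximalIdeal A) i).obj (op n)) := fun n => by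
    haveI := hfin (op n)
    exact Groth.Agent.LC.isArtinian_H (R := A) i (Msys.obj (op n))
  exact Groth.Agent.GrLib8.ArtinSystem.exists_ess_const _ _ Hc this
    (fun x h => hinj x fun n => h n.unop) hsurj

end Groth.Agent.S8799
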