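import Groth.Statements.S8803
import Groth.Agent.LC.TopDim
import Mathlib.Algebra.Category.ModuleCat.Subobject

set_option autoImplicit false
universe u
open CategoryTheory
open LocCoh

namespace Groth.Agent.S8803

/-- Let (A, m) be a Noetherian local ring and (M_n) an inverse system of finite A-modules. Then for
every i the inverse system H^i_m(M_n) of local cohomology modules satisfies the Mittag-Leffler
condition. -/
theorem result (A : Type u) [CommRing A] [IsNoetherianRing A] [IsLocalRing A] (Msys : ℕᵒᵖ ⥤ ModuleCat.{u} A) (hfin : ∀ n : ℕᵒᵖ, Module.Finite A (Msys.obj n)) (i : ℕ) : ARSys.IsML (Msys ⋙ localCohomology (IsLocalRing.maximalIdeal A) i) := by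
  open CategoryTheory CategoryTheory.Limits Opposite in
  intro n
  let X := Msys ⋙ localCohomology (IsLocalRing.maximalIdeal A) i
  let V := X.obj (op n)
  haveI : Module.Finite A (Msys.obj (op n)) := hfin (op n)
  haveI : IsArtinian A V := Groth.Agent.LC.isArtinian_H (R := A) i (Msys.obj (op n))
  let g : ℕ → Submodule A V := fun s => ModuleCat.subobjectModule V (imageSubobject (ARSys.shiftMap X s n))
  have hmono : ∀ r s : ℕ, r ≤ s → g s ≤ g r := fun r s h => by
    refine (ModuleCat.subobjectModule V).monotone ?_
    have e : ARSys.shiftMap X s n = ARSys.tr X (Nat.add_le_add_left h n) ≫ ARSys.shiftMap X r n := by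
      show X.map _ = X.map _ ≫ X.map _
      rw [← X.map_comp]
      rfl
    rw [e]
    exact imageSubobject_comp_le _ _
  obtain ⟨r, hr⟩ := IsArtinian.monotone_stabilizes (R := A) (M := V) ⟨fun s => OrderDual.toDual (g s), fun a b h => hmono a b h⟩
  exact ⟨r, fun s hs => (ModuleCat.subobjectModule V).injective (hr s hs).symm⟩

end Groth.Agent.S8803
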