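import Groth.Statements.S8805
import Groth.Agent.EtLift7.Induct
import Mathlib
-- import your own Groth.Agent.* helpers here

set_option autoImplicit false
universe u
open AdicRing

namespace Groth.Agent.S8805

/-- Let A be a Noetherian ring, I ⊆ A an ideal and J ⊆ A a nilpotent ideal. Let C be a finite type
A-algebra whose structure morphism Spec C → Spec A becomes etale once restricted to the complement
of V(I), meaning that C_a is etale over A for each a ∈ I. Let B₀ be an (A/J)-algebra of finite type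
such that Spec B₀ → Spec(A/J) is etale over the complement of V(I), together with an etale algebra
map B₀ → C/JC over A inducing a bijection B₀/IB₀ → (C/JC)/I(C/JC). Then there exist an A-algebra B
of finite type, an etale algebra structure B → C over A and a surjection B → B₀ over A with kernel
JB, such that the composite B → B₀ → C/JC agrees with B → C → C/JC and Spec B → Spec A is etale over
the complement of V(I). -/
theorem result (A : Type u) [CommRing A] [IsNoetherianRing A] (I J : Ideal A) (hJ : IsNilpotent J) (C : Type u) [CommRing C] [Algebra A C] [Algebra.FiniteType A C] (hC : ∀ a ∈ I, Algebra.Etale A (Localization.Away (algebraMap A C a))) (B₀ : Type u) [CommRing B₀] [Algebra A B₀] [Algebra (A ⧸ J) B₀] [IsScalarTower A (A ⧸ J) B₀] [Algebra.FiniteType (A ⧸ J) B₀] (hB₀ : ∀ a ∈ I, Algebra.Etale (A ⧸ J) (Localization.Away (algebraMap A B₀ a))) [Algebra B₀ (C ⧸ J.map (algebraMap A C))] [IsScalarTower A B₀ (C ⧸ J.map (algebraMap A C))] [Algebra.Etale B₀ (C ⧸ J.map (algebraMap A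 C))] (h3 : (∀ c : (C ⧸ J.map (algebraMap A C)), ∃ b : B₀, algebraMap B₀ (C ⧸ J.map (algebraMap A C)) b - c ∈ I.map (algebraMap A (C ⧸ J.map (algebraMap A C)))) ∧ ∀ b : B₀, algebraMap B₀ (C ⧸ J.map (algebraMap A C)) b ∈ I.map (algebraMap A (C ⧸ J.map (algebraMap A C))) → b ∈ I.map (algebraMap A B₀)) : ∃ (B : Type u) (_ : CommRing B) (_ : Algebra A B) (_ : Algebra B C) (_ : IsScalarTower A B C) (_ : Algebra B B₀) (_ : IsScalarTower A B B₀), Algebra.FiniteType A B ∧ Algebra.Etale B C ∧ (∀ a ∈ I, Algebra.Etale A (Localization.Away (algebraMap A B a))) ∧ Function.Surjective (algebraMap B B₀) ∧ RingHom.ker (algebraMap B B₀) = J.map (algebraMap A B) ∧ ∀ b : B, algebraMap B₀ (C ⧸ J.map (algebraMap A C)) (algebraMap B B₀ b) = Ideal.Quotient.mk (J.map (algebraMap A C)) (algebraMap B C b) := by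
  obtain ⟨m, hm⟩ := hJ
  have hJn : J ^ (2 ^ m) = ⊥ := by
    rw [← Ideal.zero_eq_bot]; exact pow_eq_zero_of_le m.lt_two_pow_self.le hm
  have hJR : ∀ j ∈ J, algebraMap A B₀ j = 0 := fun j hj => by
    rw [IsScalarTower.algebraMap_apply A (A ⧸ J) B₀, Ideal.Quotient.algebraMap_eq, Ideal.Quotient.eq_zero_iff_mem.2 hj, map_zero]
  have hC' : Groth.Agent.EtLift7.IsThick J (Ideal.Quotient.mkₐ A (J.map (algebraMap A C))) :=
    ⟨Ideal.Quotient.mk_surjective, Ideal.mk_ker⟩
  haveI : Algebra.FiniteType A (A ⧸ J) := Algebra.FiniteType.of_surjective (Algebra.ofId A _) Ideal.Quotient.mk_surjective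
  haveI : Algebra.FiniteType A B₀ := Algebra.FiniteType.trans ‹Algebra.FiniteType A (A ⧸ J)› ‹_›
  have hI : (I.map (algebraMap A B₀)).map (algebraMap B₀ (C ⧸ J.map (algebraMap A C))) =
      I.map (algebraMap A (C ⧸ J.map (algebraMap A C))) := by
    rw [Ideal.map_map, ← IsScalarTower.algebraMap_eq]
  have hiso : Groth.Agent.EtLift7.IsoMod (C ⧸ J.map (algebraMap A C)) (I.map (algebraMap A B₀)) := by
    refine ⟨fun c => ?_, fun b hb => h3.2 b (hI ▸ hb)⟩
    obtain ⟨b, hb⟩ := h3.1 c
    exact ⟨b, by rw [hI, ← neg_sub]; exact neg_mem hb⟩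
  have hlift : Groth.Agent.EtLift7.CanLift J I B₀ := fun a ha => by
    haveI := hB₀ a ha
    exact Groth.Agent.EtLift7.exists_thick_lift (J := J) (Localization.Away (algebraMap A B₀ a))
  obtain ⟨B, i1, i2, θ, hθ, ι, hι, hft, het, hB⟩ :=
    Groth.Agent.EtLift7.hasApprox m hJn I hiso _ hC' hJR hC hlift
  letI : Algebra B C := ι.toRingHom.toAlgebra
  letI : Algebra B B₀ := θ.toRingHom.toAlgebra
  exact ⟨B, i1, i2, ι.toRingHom.toAlgebra, IsScalarTower.of_algebraMap_eq fun x => (ι.commutes x).symm,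
    θ.toRingHom.toAlgebra, IsScalarTower.of_algebraMap_eq fun x => (θ.commutes x).symm, hft,
    (RingHom.etale_algebraMap).1 het, hB, hθ.surj, hθ.ker_eq, fun b => (hι b).symm⟩

end Groth.Agent.S8805
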