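import Groth.Statements.S8806
import Groth.Agent.Synt29.NLComp
import Mathlib.Algebra.Homology.DerivedCategory.Linear
import Mathlib.Algebra.Homology.DerivedCategory.Ext.EnoughProjectives

set_option autoImplicit false
universe u
open CategoryTheory
attribute [local instance] HasDerivedCategory.standard
open LCI

namespace Groth.Agent.S8806
open CategoryTheory Limits Groth.Agent.Synt29
attribute [local instance] HasDerivedCategory.standard

/-- `Ext¹` out of a projective module vanishes in the derived category. -/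
theorem hom_shift_one_eq_zero {B : Type u} [CommRing B] (P N : ModuleCat.{u} B) [Projective P]
    (φ : DerivedCategory.Q.obj ((HomologicalComplex.single (ModuleCat.{u} B) (ComplexShape.up ℤ) 0).obj P) ⟶
      ((DerivedCategory.singleFunctor (ModuleCat.{u} B) 0).obj N)⟦(1 : ℤ)⟧) : φ = 0 := by
  let e := ((SingleFunctors.evaluation _ _ (0 : ℤ)).mapIso
    (DerivedCategory.singleFunctorsPostcompQIso (ModuleCat.{u} B))).app P
  have h1 : ∀ ψ : (DerivedCategory.singleFunctor (ModuleCat.{u} B) 0).obj P ⟶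
      ((DerivedCategory.singleFunctor (ModuleCat.{u} B) 0).obj N)⟦(1 : ℤ)⟧, ψ = 0 := fun ψ => by
    obtain ⟨α, hα⟩ := (Abelian.Ext.homEquiv (X := P) (Y := N) (n := 1)).surjective ψ
    obtain ⟨β, hβ⟩ := (Abelian.Ext.homEquiv (X := P) (Y := N) (n := 1)).surjective 0
    rw [← hα]
    exact (congrArg _ ((Abelian.Ext.eq_zero_of_projective α).trans (Abelian.Ext.eq_zero_of_projective β).symm)).trans hβ
  exact (cancel_epi e.hom).1 ((h1 (e.hom ≫ φ)).trans comp_zero.symm)

/-- If `h ∘ d = g` on the degree `-1` term, then `g` kills all maps to `N[1]` from `M → P`, `P` projective,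
and the complex itself when also `d ∘ h = g`. -/
theorem twoTerm_smul {B : Type u} [CommRing B] {M P : Type u} [AddCommGroup M] [Module B M] [AddCommGroup P]
    [Module B P] [Module.Projective B P] (d : M →ₗ[B] P) (h : P →ₗ[B] M) (g : B) (hd : ∀ x, h (d x) = g • x)
    (K : DerivedCategory (ModuleCat.{u} B)) (e : DRing.toD (twoTerm d) ≅ K) :
    (∀ (N : ModuleCat.{u} B) (φ : K ⟶ ((DerivedCategory.singleFunctor (ModuleCat.{u} B) 0).obj N)⟦(1 : ℤ)⟧),
      g • φ = 0) ∧ ((∀ v, d (h v) = g • v) → g • 𝟙 K = 0) := by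
  let T := twoTerm d
  let e₁ := twoTermEquiv₁ d
  let e₀ := twoTermEquiv₀ d
  let H : T.X 0 ⟶ T.X (-1) := ModuleCat.ofHom ((e₁.symm.toLinearMap.comp h).comp e₀.toLinearMap)
  let hh : ∀ i j : ℤ, (ComplexShape.up ℤ).Rel j i → (T.X i ⟶ T.X j) := fun i j _ =>
    if c : i = 0 ∧ j = -1 then
      eqToHom (by rw [c.1]) ≫ H ≫ eqToHom (by rw [c.2])
    else 0
  let ψ₀ : T.X 0 ⟶ T.X 0 := g • 𝟙 _ - H ≫ T.d (-1) 0
  have hH : ∀ v, (T.d (-1) 0).hom (H.hom v) = e₀.symm (d (h (e₀ v))) := fun v => by
    apply e₀.injective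
    rw [twoTerm_d, LinearEquiv.apply_symm_apply]
    exact congrArg d (e₁.apply_symm_apply _)
  have hdH : T.d (-1) 0 ≫ H = g • 𝟙 _ := ModuleCat.hom_ext (LinearMap.ext fun x => by
    apply e₁.injective
    show e₁ (e₁.symm (h (e₀ ((T.d (-1) 0).hom x)))) = e₁ (g • x)
    rw [LinearEquiv.apply_symm_apply, twoTerm_d, hd, map_smul])
  have hψ : ∀ i, (ComplexShape.up ℤ).Rel i 0 → T.d i 0 ≫ ψ₀ = 0 := fun i hi => by
    obtain rfl : i = -1 := by simp at hi; omega
    simp only [ψ₀, Preadditive.comp_sub, Linear.comp_smul, Category.comp_id]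
    rw [← Category.assoc, hdH, Linear.smul_comp, Category.id_comp, sub_self]
  let a : T ⟶ (HomologicalComplex.single (ModuleCat.{u} B) (ComplexShape.up ℤ) 0).obj (T.X 0) :=
    HomologicalComplex.mkHomToSingle ψ₀ hψ
  let ι : (HomologicalComplex.single (ModuleCat.{u} B) (ComplexShape.up ℤ) 0).obj (T.X 0) ⟶ T :=
    HomologicalComplex.mkHomFromSingle (𝟙 _) fun k hk =>
      (isZero_twoTerm d k (Or.inr (by simp at hk; omega))).eq_of_tgt _ _
  have hnull : g • 𝟙 T - a ≫ ι = Homotopy.nullHomotopicMap' hh := by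
    refine HomologicalComplex.hom_ext _ _ fun i => ?_
    by_cases h₁ : i = -1
    · subst h₁
      rw [Homotopy.nullHomotopicMap'_f (show (ComplexShape.up ℤ).Rel (-2) (-1) by simp)
        (show (ComplexShape.up ℤ).Rel (-1) 0 by simp)]
      have hz : (a ≫ ι).f (-1) = 0 := by
        rw [HomologicalComplex.comp_f,
          (HomologicalComplex.isZero_single_obj_X (ComplexShape.up ℤ) 0 (T.X 0) (-1) (by omega)).eq_of_tgt (a.f (-1)) 0,
          zero_comp]
      simp [hh, hz, hdH]
    by_cases h₀ : i = 0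
    · subst h₀
      rw [Homotopy.nullHomotopicMap'_f (show (ComplexShape.up ℤ).Rel (-1) 0 by simp)
        (show (ComplexShape.up ℤ).Rel 0 1 by simp)]
      have hz : (a ≫ ι).f 0 = ψ₀ := by
        simp only [a, ι, HomologicalComplex.comp_f,
          HomologicalComplex.mkHomToSingle_f, HomologicalComplex.mkHomFromSingle_f]
        simp
      simp [hh, hz, ψ₀]
    exact (isZero_twoTerm d i (by omega)).eq_of_src _ _
  have hQ : g • 𝟙 (DerivedCategory.Q.obj T) = DerivedCategory.Q.map a ≫ DerivedCategory.Q.map ι := by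
    have := DerivedCategory.Q_map_eq_of_homotopy (C := ModuleCat.{u} B)
      (Homotopy.equivSubZero.symm ((Homotopy.ofEq hnull).trans (Homotopy.nullHomotopy' hh)))
    rwa [Functor.map_smul, CategoryTheory.Functor.map_id, Functor.map_comp] at this
  constructor
  · intro N φ
    haveI : Projective (ModuleCat.of B P) := (IsProjective.iff_projective (R := B) P).1 inferInstance
    haveI : Projective (T.X 0) := Projective.of_iso e₀.toModuleIso.symm inferInstance
    refine (cancel_epi e.hom).1 ?_
    calc e.hom ≫ (g • φ) = (g • 𝟙 (DerivedCategory.Q.obj T)) ≫ e.hom ≫ φ := by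
          rw [Linear.smul_comp, Category.id_comp, Linear.comp_smul]
      _ = DerivedCategory.Q.map a ≫ (DerivedCategory.Q.map ι ≫ e.hom ≫ φ) := by
          rw [hQ]; exact Category.assoc _ _ _
      _ = e.hom ≫ 0 := by rw [hom_shift_one_eq_zero _ _ (DerivedCategory.Q.map ι ≫ e.hom ≫ φ), comp_zero, comp_zero]
  · intro hv
    have hψ0 : ψ₀ = 0 := ModuleCat.hom_ext (LinearMap.ext fun v => by
      show g • v - (T.d (-1) 0).hom (H.hom v) = 0
      rw [hH, hv, map_smul, LinearEquiv.symm_apply_apply, sub_self])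
    have ha : a = 0 := by
      refine HomologicalComplex.to_single_hom_ext ?_
      simp [a, hψ0]
    have h0 : g • 𝟙 (DerivedCategory.Q.obj T) = 0 := by rw [hQ, ha, Functor.map_zero, zero_comp]
    refine (cancel_epi e.hom).1 ?_
    calc e.hom ≫ (g • 𝟙 K) = (g • 𝟙 (DerivedCategory.Q.obj T)) ≫ e.hom := by
          rw [Linear.smul_comp, Category.id_comp, Linear.comp_smul, Category.comp_id]
      _ = e.hom ≫ 0 := by rw [h0, zero_comp, comp_zero]


/-- Let A be a ring, m ≤ n, f_1, …, f_m ∈ A[x_1, …, x_n], B = A[x_1, …, x_n]/(f_1, …, f_m), and g ∈ B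
the image of the determinant of the m × m matrix of partial derivatives ∂f_j/∂x_i with i, j ≤ m (the
first m variables). Then: (1) for every B-module N, g annihilates Ext^1_B(NL_{B/A}, N), i.e. every
morphism NL_{B/A} → N[1] in D(B) is killed by g; (2) if n = m then multiplication by g on NL_{B/A}
is the zero endomorphism in D(B). -/
theorem result (A : Type u) [CommRing A] (n m : ℕ) (hmn : m ≤ n) (f : Fin m → MvPolynomial (Fin n) A) : (∀ (N : Type u) [AddCommGroup N] [Module (MvPolynomial (Fin n) A ⧸ Ideal.span (Set.range f)) N] (φ : LCI.NL A (MvPolynomial (Fin n) A ⧸ Ideal.span (Set.range f)) ⟶ (Dual.inD (MvPolynomial (Fin n) A ⧸ Ideal.span (Set.range f)) N)⟦(1 : ℤ)⟧), (Ideal.Quotient.mk (Ideal.span (Set.range f)) (Matrix.det (Matrix.of (fun i j : Fin m => MvPolynomial.pderiv (Fin.castLE hmn i) (f j))))) • φ = 0) ∧ (n = m → (Ideal.Quotient.mk (Ideal.span (Set.range f)) (Matrix.det (Matrix.of (fun i j : Fin m => MvPolynomial.pderiv (Fin.castLE hmn i) (f j))))) • 𝟙 (LCI.NL A (MvPolynomial (Fin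 n) A ⧸ Ideal.span (Set.range f))) = 0) := by
  classical
  let B := MvPolynomial (Fin n) A ⧸ Ideal.span (Set.range f)
  let R' := MvPolynomial (ULift.{u} (Fin n)) A
  let v : ULift.{u} (Fin n) → B := fun i => Ideal.Quotient.mk _ (MvPolynomial.X i.down)
  let ρ : R' ≃ₐ[A] MvPolynomial (Fin n) A := MvPolynomial.renameEquiv A Equiv.ulift
  have hv : MvPolynomial.aeval (R := A) v = (Ideal.Quotient.mkₐ A (Ideal.span (Set.range f))).comp ρ.toAlgHom :=
    MvPolynomial.algHom_ext fun i => by simp [v, ρ]
  let P : Algebra.Generators A B (ULift.{u} (Fin n)) := Algebra.Generators.ofSurjective v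
    (hv ▸ Ideal.Quotient.mk_surjective.comp ρ.surjective)
  let f' : Fin m → R' := fun j => MvPolynomial.rename (fun i => ULift.up i) (f j)
  have hf' : ∀ j, ρ (f' j) = f j := fun j => by
    show MvPolynomial.rename Equiv.ulift (MvPolynomial.rename (fun i => ULift.up i) (f j)) = f j
    rw [MvPolynomial.rename_rename]
    exact MvPolynomial.rename_id_apply (f j)
  have hker : ∀ x : R', x ∈ P.ker ↔ x ∈ Ideal.span (Set.range f') := fun x => by
    have h1 : x ∈ P.ker ↔ ρ x ∈ Ideal.span (Set.range f) := by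
      rw [P.ker_eq_ker_aeval_val, RingHom.mem_ker]
      show MvPolynomial.aeval v x = 0 ↔ _
      rw [hv]
      exact Ideal.Quotient.eq_zero_iff_mem
    rw [h1, show Ideal.span (Set.range f) = (Ideal.span (Set.range f')).map ρ.toRingEquiv from by
      rw [Ideal.map_span, ← Set.range_comp]; congr 2; funext j; exact (hf' j).symm]
    rw [← Ideal.comap_symm, Ideal.mem_comap]
    simp
  have hmem : ∀ j, f' j ∈ P.ker := fun j => (hker _).2 (Ideal.subset_span ⟨j, rfl⟩)
  let c : Fin m → P.toExtension.Cotangent := fun j => Algebra.Extension.Cotangent.mk ⟨f' j, hmem j⟩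
  have hgen : ∀ y : P.toExtension.Cotangent, y ∈ Submodule.span B (Set.range c) := by
    intro y
    obtain ⟨⟨x, hx⟩, rfl⟩ := Algebra.Extension.Cotangent.mk_surjective y
    obtain ⟨r, hr⟩ := (Ideal.mem_span_range_iff_exists_fun (x := x) (v := f')).1 ((hker x).1 hx)
    rw [show (⟨x, hx⟩ : P.toExtension.ker) = ∑ j, r j • ⟨f' j, hmem j⟩ from Subtype.ext (by
      simp [← hr]), map_sum]
    refine Submodule.sum_mem _ fun j _ => ?_
    rw [map_smul, ← algebraMap_smul B (r j)]
    exact Submodule.smul_mem _ _ (Submodule.subset_span ⟨j, rfl⟩)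
  let bs := P.cotangentSpaceBasis
  let Jm : Matrix (Fin m) (Fin m) B :=
    Matrix.of fun j i => Ideal.Quotient.mk _ (MvPolynomial.pderiv (Fin.castLE hmn i) (f j))
  have hdet : Ideal.Quotient.mk (Ideal.span (Set.range f))
      (Matrix.det (Matrix.of (fun i j : Fin m => MvPolynomial.pderiv (Fin.castLE hmn i) (f j)))) = Jm.det := by
    rw [RingHom.map_det, ← Matrix.det_transpose]
    rfl
  have hcoord : ∀ j (i : Fin n), bs.repr (P.toExtension.cotangentComplex (c j)) ⟨i⟩ =
      Ideal.Quotient.mk _ (MvPolynomial.pderiv i (f j)) := fun j i => by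
    show bs.repr (P.toExtension.cotangentComplex (Algebra.Extension.Cotangent.mk _)) _ = _
    rw [Algebra.Extension.cotangentComplex_mk, P.cotangentSpaceBasis_repr_one_tmul]
    show MvPolynomial.aeval v (MvPolynomial.pderiv (ULift.up i) (MvPolynomial.rename _ (f j))) = _
    rw [MvPolynomial.pderiv_rename (fun a b h => congrArg ULift.down h), MvPolynomial.aeval_rename]
    exact (DFunLike.congr_fun (MvPolynomial.aeval_unique (Ideal.Quotient.mkₐ A (Ideal.span (Set.range f)))).symm _)
  let proj : P.toExtension.CotangentSpace →ₗ[B] (Fin m → B) :=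
    LinearMap.pi fun i => (Finsupp.lapply (ULift.up (Fin.castLE hmn i))).comp bs.repr.toLinearMap
  let h : P.toExtension.CotangentSpace →ₗ[B] P.toExtension.Cotangent :=
    (Fintype.linearCombination B c).comp ((Matrix.vecMulLinear Jm.adjugate).comp proj)
  have hproj : ∀ j, proj (P.toExtension.cotangentComplex (c j)) = Jm j := fun j =>
    funext fun i => hcoord j _
  have hd : ∀ x, h (P.toExtension.cotangentComplex x) = Jm.det • x := by
    suffices h ∘ₗ P.toExtension.cotangentComplex = Jm.det • LinearMap.id from fun x => LinearMap.congr_fun this x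
    refine LinearMap.ext_on (top_unique fun y _ => hgen y) ?_
    rintro _ ⟨j, rfl⟩
    show Fintype.linearCombination B c (Matrix.vecMul (proj (P.toExtension.cotangentComplex (c j))) Jm.adjugate) = _
    rw [hproj, show Matrix.vecMul (Jm j) Jm.adjugate = (Jm * Jm.adjugate) j from
      funext fun i => by simp [Matrix.vecMul, Matrix.mul_apply, dotProduct], Matrix.mul_adjugate,
      show (Jm.det • (1 : Matrix (Fin m) (Fin m) B)) j = Pi.single j Jm.det from funext fun i => by
        simp [Matrix.one_apply, Pi.single_apply, eq_comm], Fintype.linearCombination_apply_single]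
    rfl
  haveI : Module.Projective B P.toExtension.CotangentSpace := Module.Projective.of_basis bs
  obtain ⟨e⟩ := Groth.Agent.Synt29.nl_iso_twoTerm A B P
  obtain ⟨h1, h2⟩ := twoTerm_smul P.toExtension.cotangentComplex h Jm.det hd _ e
  rw [hdet]
  refine ⟨fun N _ _ φ => h1 (ModuleCat.of B N) φ, fun hnm => h2 fun w => ?_⟩
  subst hnm
  apply bs.repr.injective
  ext ⟨i⟩
  show bs.repr (P.toExtension.cotangentComplex
    (Fintype.linearCombination B c (Matrix.vecMul (proj w) Jm.adjugate))) _ = _
  rw [Fintype.linearCombination_apply, map_sum, map_sum, Finsupp.finsetSum_apply]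
  simp only [map_smul, Finsupp.smul_apply, hcoord, smul_eq_mul]
  have := congrFun (Matrix.vecMul_vecMul (proj w) Jm.adjugate Jm) i
  rw [Matrix.adjugate_mul, Matrix.vecMul_smul, Matrix.vecMul_one] at this
  simpa [Matrix.vecMul, dotProduct, Jm, proj, Fin.castLE] using this


end Groth.Agent.S8806
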