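import Groth.Statements.S8808
import Groth.Agent.GrLib8.CplKill.General
import Groth.Agent.GrLib8.Bootstrap.Local
-- import your own Groth.Agent.* helpers here

set_option autoImplicit false
set_option linter.style.haveILetI false
universe u
open CategoryTheory
attribute [local instance] HasDerivedCategory.standard
open LocCoh

namespace Groth.Agent.S8808

/-- Let A be a Noetherian ring which is I-adically complete for an ideal I and has a dualizing complex;
let J be an ideal, M a finite A-module, s a natural, d a natural with cd(A, I) ≤ d, T the set of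
primes p with V(p) ∩ V(I) ⊆ V(J), and δ a dimension function on Spec A (δ(p) = δ(q) + 1 when q is an
immediate specialization of p). Assume: (4) every prime p ∉ V(I) not in T has depth(M_p) ≥ s or
depth(M_p) + dim((A/p)_q) > d + s for all q ∈ V(p) ∩ V(J) ∩ V(I); (5) every prime p ∉ V(I) not in T
with V(p) ∩ V(J) ∩ V(I) nonempty and depth(M_p) < s satisfies one of: (a) the support of M_p has
dimension < s + 2; (b) δ(p) > d + δ(q') − 1 for every q' ∈ V(J) ∩ V(I); (c) depth(M_p) +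
dim((A/p)_q) > d + s + (δ(q₁) − δ(q₂)) − 2 for all q ∈ V(p) ∩ V(J) ∩ V(I) and all q₁, q₂ ∈ V(J) ∩
V(I). Assume derived I-adic completion (left adjoint to the inclusion of derived complete objects)
exists on D(A). Then there is an ideal J₀ ⊆ J with V(J₀) ∩ V(I) = V(J) ∩ V(I) such that for every J'
⊆ J₀ with V(J') ∩ V(I) = V(J) ∩ V(I) whose total right derived functor RΓ_{J'} exists, the canonical
map from RΓ_{J'}(M) to its derived I-adic completion induces a bijection on cohomology in every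
degree i ≤ s. (The derived completions of RΓ_{J'}(M) and RΓ_J(M) agree canonically; that
identification is not part of this statement. The maximum and minimum of δ on V(J) ∩ V(I) in (b),
(c) are unfolded into quantifiers.) -/
theorem result (A : Type u) [CommRing A] [IsNoetherianRing A] (I : Ideal A) [IsAdicComplete I A] (hdc : ∃ ω : Dual.D A, Dual.IsDualizing A ω) [DRing.HasDerivedCompletion I] (J : Ideal A) (M : Type u) [AddCommGroup M] [Module A M] [Module.Finite A M] (s d : ℕ) (h3 : LocCoh.CdLE A I d) (T : Set (PrimeSpectrum A)) (hT : ∀ p : PrimeSpectrum A, p ∈ T ↔ ∀ q : PrimeSpectrum A, p ≤ q → I ≤ q.asIdeal → J ≤ q.asIdeal) (h4 : ∀ p : PrimeSpectrum A, ¬ I ≤ p.asIdeal → p ∉ T → ∀ q : PrimeSpectrum A, p ≤ q → J ≤ q.asIdeal → I ≤ q.asIdeal → (s : ℕ∞) ≤ LocCoh.depth (Localization.AtPrime p.asIdeal) (LocalizedModule p.asIdeal.primeCompl M) ∨ (((d + s : ℕ) : ℕ∞) : WithBot ℕ∞) < ((LocCoh.depth (Localization.AtPrime p.asIdeal) (LocalizedModule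 p.asIdeal.primeCompl M) : ℕ∞) : WithBot ℕ∞) + Formal2.dimBetween A p.asIdeal q.asIdeal) (δ : PrimeSpectrum A → ℤ) (hδ : ∀ p q : PrimeSpectrum A, p ⋖ q → δ p = δ q + 1) (h5 : ∀ p : PrimeSpectrum A, ¬ I ≤ p.asIdeal → p ∉ T → (∃ q : PrimeSpectrum A, p ≤ q ∧ J ≤ q.asIdeal ∧ I ≤ q.asIdeal) → LocCoh.depth (Localization.AtPrime p.asIdeal) (LocalizedModule p.asIdeal.primeCompl M) < (s : ℕ∞) → Module.supportDim (Localization.AtPrime p.asIdeal) (LocalizedModule p.asIdeal.primeCompl M) < ((s + 2 : ℕ) : WithBot ℕ∞) ∨ (∀ q' : PrimeSpectrum A, J ≤ q'.asIdeal → I ≤ q'.asIdeal → (d : ℤ) + δ q' - 1 < δ p) ∨ (∀ q : PrimeSpectrum A, p ≤ q → J ≤ q.asIdeal → I ≤ q.asIdeal → ∀ q₁ q₂ : PrimeSpectrum A, J ≤ q₁.asIdeal → I ≤ q₁.asIdeal → J ≤ q₂.asIdeal → I ≤ q₂.asIdeal → ∀ k : ℕ, (k : ℤ) = (d : ℤ) + s + (δ q₁ - δ q₂) - 2 → ((k : ℕ∞) : WithBot ℕ∞) < ((LocCoh.depth (Localization.AtPrime p.asIdeal) (LocalizedModule p.asIdeal.primeCompl M) : ℕ∞) : WithBot ℕ∞) + Formal2.dimBetween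 A p.asIdeal q.asIdeal)) : ∃ J₀ : Ideal A, J₀ ≤ J ∧ PrimeSpectrum.zeroLocus ((J₀ : Ideal A) : Set A) ∩ PrimeSpectrum.zeroLocus ((I : Ideal A) : Set A) = PrimeSpectrum.zeroLocus ((J : Ideal A) : Set A) ∩ PrimeSpectrum.zeroLocus ((I : Ideal A) : Set A) ∧ ∀ (J' : Ideal A) [DRing.HasRgammaI J'], J' ≤ J₀ → PrimeSpectrum.zeroLocus ((J' : Ideal A) : Set A) ∩ PrimeSpectrum.zeroLocus ((I : Ideal A) : Set A) = PrimeSpectrum.zeroLocus ((J : Ideal A) : Set A) ∩ PrimeSpectrum.zeroLocus ((I : Ideal A) : Set A) → ∀ i : ℤ, i ≤ s → Function.Bijective ((DerivedCategory.homologyFunctor (ModuleCat.{u} A) i).map (DRing.toDerivedCompletion I ((DRing.RgammaI J').obj (Dual.inD A M)))).hom := by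
  have h3' : Groth.Agent.GrLib8.AlgLC.H3 I J T d := by
    intro p _ hpT
    obtain ⟨m, hm, hPm⟩ := Ideal.exists_le_maximal p.asIdeal p.2.ne_top
    have hIm : I ≤ m := (IsAdicComplete.le_jacobson_bot I).trans (sInf_le ⟨bot_le, hm⟩)
    obtain ⟨r₀, hr₀, -⟩ := Ideal.exists_minimalPrimes_le (J := m) (sup_le hPm hIm : p.asIdeal ⊔ I ≤ m)
    haveI := hr₀.1.1
    have hpr : p.asIdeal ≤ r₀ := le_sup_left.trans hr₀.1.2
    have hIr : I ≤ r₀ := le_sup_right.trans hr₀.1.2
    refine ⟨⟨r₀, hr₀.1.1⟩, hpr, (hT p).1 hpT ⟨r₀, hr₀.1.1⟩ hpr hIr, hIr, ?_⟩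
    let R := Localization.AtPrime r₀
    haveI : IsNoetherianRing R := IsLocalization.isNoetherianRing r₀.primeCompl _ inferInstance
    have hdisj : Disjoint (r₀.primeCompl : Set A) (p.asIdeal : Set A) :=
      Set.disjoint_left.2 fun x hx hxy => hx (hpr hxy)
    haveI := IsLocalization.isPrime_of_isPrime_disjoint r₀.primeCompl R p.asIdeal inferInstance hdisj
    have hq : Groth.Agent.FormCat.qd R (p.asIdeal.map (algebraMap A R)) ≤ d :=
      Groth.Agent.GrLib8.Bootstrap.qd_le_of_cdLE (I.map (algebraMap A R)) _ d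
        ((Ideal.map_mono hIr).trans Localization.AtPrime.map_eq_maximalIdeal.le)
        (Groth.Agent.LC.cdLE_map (R := A) (I := I) R h3) fun Q hQ hPQ hIQ => by
          have h1 : Q.comap (algebraMap A R) = r₀ := by
            have hle : Q.comap (algebraMap A R) ≤ r₀ := (Ideal.comap_mono (IsLocalRing.le_maximalIdeal hQ.ne_top)).trans
              (le_of_eq (Localization.AtPrime.comap_maximalIdeal (I := r₀)))
            exact le_antisymm hle (hr₀.2 ⟨inferInstance, sup_le (Ideal.map_le_iff_le_comap.1 hPQ)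
              (Ideal.map_le_iff_le_comap.1 hIQ)⟩ hle)
          exact (IsLocalization.map_comap r₀.primeCompl R Q).symm.trans
            ((congrArg (Ideal.map (algebraMap A R)) h1).trans Localization.AtPrime.map_eq_maximalIdeal)
    show ringKrullDim (R ⧸ p.asIdeal.map (algebraMap A R)) ≤ _
    rw [Groth.Agent.FormCat.coe_qd R _ (Ideal.IsPrime.ne_top inferInstance)]
    exact_mod_cast hq
  obtain ⟨J₀, hJ₀le, hJ₀, hdep, -⟩ := Groth.Agent.GrLib8.AlgLC.exists_main (M := M) (s := s) (d := d) hdc hT h3' h4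
  refine ⟨J₀, hJ₀le, hJ₀, fun J' _ hle hJ' i hi => ?_⟩
  haveI := Groth.Agent.GrLib8.CplKill.hasRgammaI I
  have hV : ∀ q : PrimeSpectrum A, I ≤ q.asIdeal → (J' ≤ q.asIdeal ↔ J ≤ q.asIdeal) := fun q hI =>
    ⟨fun h => (hJ'.subset ⟨h, hI⟩).1, fun h => (hJ'.superset ⟨h, hI⟩).1⟩
  have hT' : Groth.Agent.GrLib8.AlgLC.IsTrace I J' T := fun p => (hT p).trans
    ⟨fun h q a b => (hV q b).2 (h q a b), fun h q a b => (hV q b).1 (h q a b)⟩
  exact Groth.Agent.GrLib8.CplKill.bijective_of_goodT hdc hT' h3 M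
    ⟨fun p a b q c e f => h4 p a b q c ((hV q f).1 e) f, fun p _ b c => hdep p c fun h => b (hle.trans h)⟩ i hi

end Groth.Agent.S8808
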