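import Groth.Statements.S8813
import Groth.Agent.Algz7.DeltaZ
import Mathlib.AlgebraicGeometry.Properties
import Mathlib.AlgebraicGeometry.Stalk

set_option autoImplicit false
universe u
open CategoryTheory AlgebraicGeometry
open Algz

namespace Groth.Agent.S8813

/-- Let Y be a Noetherian scheme, Z ⊆ Y a closed subset, y a point of Y and z a point of Z lying in the
closure of y. Then δ_Z(y) is at most the dimension of the local ring at z of the closure of y with
its reduced structure, that is, the Krull dimension of O_{Y,z}/𝔭 where 𝔭 is the prime ideal of the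
local ring O_{Y,z} given by the point of Spec O_{Y,z} that maps to y. -/
theorem result (Y : Scheme.{u}) [IsNoetherian Y] (Z : Set Y) (hZ : IsClosed Z) (y z : Y) (h : y ⤳ z) (hz : z ∈ Z) (P : PrimeSpectrum (Y.presheaf.stalk z)) (hP : (Y.fromSpecStalk z).base P = y) : ((Algz.deltaZ Z y : ℕ∞) : WithBot ℕ∞) ≤ ringKrullDim (↥(Y.presheaf.stalk z) ⧸ P.asIdeal) := by
  classical
  let S := Y.presheaf.stalk z
  let e : PrimeSpectrum S → Y := fun Q => (Y.fromSpecStalk z).base Q
  have hemb : Topology.IsEmbedding e := (Y.fromSpecStalk z).isEmbedding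
  have hrange : ∀ x : Y, x ⤳ z → ∃ Q, e Q = x := fun x hx => by
    have : x ∈ Set.range (Y.fromSpecStalk z).base := by
      rw [Scheme.range_fromSpecStalk]; exact hx
    exact this
  choose q hq using hrange
  refine le_trans (WithBot.coe_le_coe.mpr (Groth.Agent.Algz7.deltaZ_le_codimPt hz h)) ?_
  let g : Set.Ici (Specialization.toEquiv z) → (PrimeSpectrum S)ᵒᵈ := fun x =>
    OrderDual.toDual (q (Specialization.ofEquiv x.1) x.2)
  have hg : StrictMono g := by
    intro a b hab
    have hspec : ∀ a b : Set.Ici (Specialization.toEquiv z),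
        q (Specialization.ofEquiv b.1) b.2 ⤳ q (Specialization.ofEquiv a.1) a.2 ↔
          Specialization.ofEquiv b.1 ⤳ Specialization.ofEquiv a.1 := fun a b => by
      rw [← hemb.isInducing.specializes_iff, hq, hq]

    refine lt_of_le_not_ge ?_ ?_
    · exact (PrimeSpectrum.le_iff_specializes _ _).mpr ((hspec a b).mpr hab.le)
    · exact fun hle => hab.not_ge ((hspec b a).mp ((PrimeSpectrum.le_iff_specializes _ _).mp hle))
  have hP' : g ⟨Specialization.toEquiv y, h⟩ = OrderDual.toDual P :=
    congrArg OrderDual.toDual (hemb.injective ((hq _ _).trans hP.symm))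
  refine le_trans (WithBot.coe_le_coe.mpr (Groth.Agent.Algz7.codimPt_le_height h g hg)) ?_
  rw [hP', ringKrullDim_quotient]
  rw [show Order.height (OrderDual.toDual P) = Order.coheight P from rfl, Order.coheight_eq_krullDim_Ici]
  refine Order.krullDim_le_of_strictMono (fun Q => ⟨Q.1, (PrimeSpectrum.mem_zeroLocus _ _).mpr Q.2⟩) fun _ _ h => h


end Groth.Agent.S8813
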