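import Groth.Statements.S8815
import Groth.Agent.Algz7.DeltaZ
import Mathlib.AlgebraicGeometry.Properties

set_option autoImplicit false
universe u
open CategoryTheory AlgebraicGeometry
open Algz

namespace Groth.Agent.S8815

/-- Let A be a catenary Noetherian local ring, Y = Spec A and Z the closed point. Then δ_Z(y) equals the
dimension of the closure of y, i.e. dim(A/p_y), for every point y. -/
theorem result (A : Type u) [CommRing A] [IsNoetherianRing A] [IsLocalRing A] (hA : CAlg.IsCatenary A) (y : Spec (CommRingCat.of A)) : ((Algz.deltaZ ({IsLocalRing.closedPoint A} : Set (Spec (CommRingCat.of A))) y : ℕ∞) : WithBot ℕ∞) = ringKrullDim (A ⧸ y.asIdeal) := by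
  classical
  let P := PrimeSpectrum A
  let m : P := IsLocalRing.closedPoint A
  have htop : ∀ q : P, q ≤ m := fun q => IsLocalRing.le_maximalIdeal q.2.ne_top
  have hdimA : ringKrullDim A ≠ ⊤ := fun h => by
    have := (inferInstance : FiniteRingKrullDim A)
    exact (finiteRingKrullDim_iff_ne_bot_and_top.mp this).2 h
  have hfin : ∀ q : P, Order.coheight q ≠ ⊤ := fun q hq => by
    have h1 := Order.coheight_le_krullDim q
    rw [hq] at h1
    exact hdimA (top_le_iff.mp h1)
  let d : P → ℕ := fun q => (Order.coheight q).toNat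
  have hd : ∀ q : P, Order.coheight q = d q := fun q => (ENat.coe_toNat (hfin q)).symm
  have hsat : ∀ q : P, ∃ s : LTSeries P, s.head = q ∧ s.last = m ∧ s.length = d q ∧
      ∀ i : Fin s.length, s i.castSucc ⋖ s i.succ := by
    intro q
    obtain ⟨s, hs, hl⟩ := Order.exists_series_of_le_coheight q (n := d q) (hd q).ge
    have hmax : ∀ t : LTSeries P, t.head = q → t.length ≤ d q := fun t ht => by
      have := Order.length_le_coheight (p := t) (x := q) ht.ge
      rw [hd] at this
      exact_mod_cast this
    refine ⟨s, hs, ?_, hl, fun i => ⟨s.step i, fun c h1 h2 => ?_⟩⟩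
    · by_contra hne
      have := hmax (s.snoc m (lt_of_le_of_ne (htop _) hne)) (by rw [RelSeries.head_snoc, hs])
      rw [RelSeries.snoc_length] at this
      omega
    · have := hmax (s.insertNth i c h1 h2) (by
        rw [← hs]
        simp only [RelSeries.head, RelSeries.insertNth_toFun]
        show i.succ.castSucc.insertNth (α := fun _ => P) c s.toFun (0 : Fin (s.length + 1 + 1)) = s.toFun 0
        exact (congrArg (i.succ.castSucc.insertNth (α := fun _ => P) c s.toFun)
          (Fin.succAbove_ne_zero_zero (a := i.succ.castSucc)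
            (fun h => Fin.succ_ne_zero i (Fin.castSucc_eq_zero_iff.mp h))).symm).trans
          (Fin.insertNth_apply_succAbove _ _ _ _))
      rw [RelSeries.insertNth_length] at this
      omega
  have hcov : ∀ p q : P, p ⋖ q → d p = d q + 1 := by
    intro p q hpq
    obtain ⟨s, hs1, hs2, hs3, hs4⟩ := hsat p
    obtain ⟨t, ht1, ht2, ht3, ht4⟩ := hsat q
    let cf : Fin (t.length + 1 + 1) → P := Fin.cons p t.toFun
    have hc0 : cf 0 = p := Fin.cons_zero (α := fun _ => P) p t.toFun
    have hcs : ∀ j : Fin (t.length + 1), cf j.succ = t j := Fin.cons_succ (α := fun _ => P) p t.toFun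
    have hstep : ∀ i : Fin (t.length + 1), cf i.castSucc ⋖ cf i.succ := by
      refine Fin.cases ?_ (fun j => ?_)
      · rw [hcs, Fin.castSucc_zero, hc0]
        show p ⋖ t.head
        rw [ht1]; exact hpq
      · rw [← Fin.succ_castSucc, hcs, hcs]
        exact ht4 j
    let u : LTSeries P := ⟨t.length + 1, cf, fun i => (hstep i).lt⟩
    have := hA.2 s u (hs1.trans hc0.symm)
      (hs2.trans (ht2.symm.trans (by show t (Fin.last _) = cf (Fin.last _); rw [← Fin.succ_last, hcs]))) hs4 hstep
    rw [hs3, show u.length = t.length + 1 from rfl, ht3] at this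
    exact this
  let π : Spec (CommRingCat.of A) → P := fun x => x
  have hspec : ∀ x y : Spec (CommRingCat.of A), x ⤳ y ↔ π x ≤ π y := fun x y =>
    (PrimeSpectrum.le_iff_specializes (R := A) (π x) (π y)).symm
  let δ : Spec (CommRingCat.of A) → ℤ := fun q => d (π q)
  have h1 : ∀ x y : Spec (CommRingCat.of A), x ⤳ y → x ≠ y → δ y < δ x := fun x y h hne => by
    have := Order.coheight_add_one_le (lt_of_le_of_ne ((hspec x y).mp h) (fun e => hne e))
    rw [hd, hd] at this
    have : d (π y) + 1 ≤ d (π x) := by exact_mod_cast this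
    show ((d (π y) : ℕ) : ℤ) < (d (π x) : ℕ)
    omega
  have h2 : ∀ x y : Spec (CommRingCat.of A), x ⤳ y → x ≠ y → (∀ z, x ⤳ z → z ⤳ y → z = x ∨ z = y) → δ x = δ y + 1 :=
    fun x y h hne himm => by
      have := hcov (π x) (π y) ⟨lt_of_le_of_ne ((hspec x y).mp h) (fun e => hne e), fun c h1 h2 => by
        rcases himm c ((hspec x c).mpr h1.le) ((hspec c y).mpr h2.le) with e | e
        · exact h1.ne (congrArg π e).symm
        · exact h2.ne (congrArg π e)⟩
      show ((d (π x) : ℕ) : ℤ) = (d (π y) : ℕ) + 1
      exact_mod_cast this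
  have hym : y ⤳ (m : Spec (CommRingCat.of A)) := (hspec y m).mpr (htop (π y))
  have hdim : ringKrullDim (A ⧸ y.asIdeal) = ((d (π y) : ℕ∞) : WithBot ℕ∞) := by
    rw [ringKrullDim_quotient, ← hd, Order.coheight_eq_krullDim_Ici]
    refine Order.krullDim_eq_of_orderIso (OrderIso.setCongr _ _ ?_)
    ext q
    exact (PrimeSpectrum.mem_zeroLocus _ _).trans Iff.rfl
  rw [hdim, WithBot.coe_inj]
  have hm : d m = 0 := by
    have : Order.coheight m = 0 := Order.coheight_eq_zero.mpr fun q _ => htop q
    simp [d, this]
  refine le_antisymm ?_ ?_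
  · refine (Groth.Agent.Algz7.deltaZ_le_codimPt (Z := {(m : Spec (CommRingCat.of A))}) rfl hym).trans (le_of_eq ?_)
    refine (Groth.Agent.Algz7.codimPt_eq_of_dimFun (Y := Spec (CommRingCat.of A)) δ h1 h2 hym).trans ?_
    simp [δ, π, hm]
  · cases hn : Algz.deltaZ ({(m : Spec (CommRingCat.of A))} : Set (Spec (CommRingCat.of A))) y with
    | top => exact le_top
    | coe n =>
      obtain ⟨z, rfl, hz'⟩ := Groth.Agent.Algz7.exists_dimFun_le δ h1 h2 hn
      simp only [δ, π, hm] at hz'
      have : d (π y) ≤ n := by show d y ≤ n; omega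
      exact_mod_cast this


end Groth.Agent.S8815
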