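import Groth.Statements.S8820
import Groth.Agent.Algz7.DeltaFinType
-- import your own Groth.Agent.* helpers here

set_option autoImplicit false
universe u
open CategoryTheory AlgebraicGeometry Limits
open Algz

namespace Groth.Agent.S8820

/-- Let Y be a universally catenary Noetherian scheme (every local ring universally catenary), Z ⊆ Y a
closed subset, f : Y' → Y a morphism of finite type from a Noetherian scheme all of whose fibres
have dimension at most e, and Z' = f⁻¹(Z). Then for every point y' of Y' with image y, if the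
residue field extension κ(y')/κ(y) has transcendence degree t, one has δ_Z(y) + t ≤ δ_{Z'}(y') + e
(equivalently δ_Z(y) ≤ δ_{Z'}(y') + e − t; written without subtraction). -/
theorem result (Y Y' : Scheme.{u}) [IsNoetherian Y] [IsNoetherian Y'] (hY : ∀ y : Y, CAlg.IsUniversallyCatenary (Y.presheaf.stalk y)) (Z : Set Y) (hZ : IsClosed Z) (f : Y' ⟶ Y) [LocallyOfFiniteType f] (e : ℕ) (hfib : ∀ y : Y, topologicalKrullDim ↑(pullback f (Y.fromSpecResidueField y)) ≤ (e : WithBot ℕ∞)) (y' : Y') (t : ℕ) (ht : @Algebra.trdeg (Y.residueField (f.base y')) (Y'.residueField y') _ _ (f.residueFieldMap y').hom.toAlgebra = t) : Algz.deltaZ Z (f.base y') + t ≤ Algz.deltaZ (f.base ⁻¹' Z) y' + e := by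
  have h1 := Groth.Agent.Algz7.deltaZ_add_le_preimage_add hY f Z e
    (Groth.Agent.Algz7.rd_le_of_fibre_dim f e hfib) y'
  have h2 : (Groth.Agent.FibDim.rd f y' : Cardinal.{u}) = t := (Groth.Agent.FibDim.rd_eq_rdeg f y').trans ht
  rwa [Nat.cast_injective h2] at h1

end Groth.Agent.S8820
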