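import Groth.Statements.S8821
import Groth.Agent.FFun.Basic

set_option autoImplicit false
universe u
open CategoryTheory AlgebraicGeometry
open Formal2

namespace Groth.Agent.S8821
set_option backward.isDefEq.respectTransparency false
set_option backward.isDefEq.respectTransparency.types false
open CategoryTheory CategoryTheory.Limits AlgebraicGeometry
open Groth.Agent

theorem smul_π {A : Type u} [CommRing A] {X : Scheme.{u}} [X.Over (Spec (CommRingCat.of A))] (I : Ideal A)
    (m : ℕ) (F : X.Modules) {a : A} (ha : a ∈ I ^ m) :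
    Formal.smulMod A F a ≫ Formal.modPowπ I m F = 0 := by
  have h1 : Sigma.ι (fun _ : ↥(I ^ m) => F) ⟨a, ha⟩ ≫ Formal.smulFamily (I ^ m) F = Formal.smulMod A F a :=
    Sigma.ι_desc _ _
  rw [← h1, Category.assoc]
  exact (congrArg (_ ≫ ·) (cokernel.condition _)).trans comp_zero

theorem family_comp {A : Type u} [CommRing A] {X : Scheme.{u}} [X.Over (Spec (CommRingCat.of A))] (f : A) (m : ℕ)
    {F W : X.Modules} (φ : F ⟶ W) (h : Formal.smulMod A F (f ^ m) ≫ φ = 0) :
    Formal.smulFamily (Ideal.span {f} ^ m) F ≫ φ = 0 := by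
  refine Sigma.hom_ext _ _ fun a => ?_
  rw [comp_zero, ← Category.assoc, show Sigma.ι (fun _ : ↥(Ideal.span {f} ^ m) => F) a ≫
    Formal.smulFamily (Ideal.span {f} ^ m) F = Formal.smulMod A F a.1 from Sigma.ι_desc _ _]
  obtain ⟨x, hx⟩ := a
  have ha := hx
  rw [Ideal.span_singleton_pow] at ha
  obtain ⟨c, hc⟩ := Ideal.mem_span_singleton'.1 ha
  show Formal.smulMod A F x ≫ φ = 0
  rw [← hc, mul_comm, FFun.smulMod_mul, Category.assoc, h, comp_zero]


/-- Implication (4) ⇒ (2), for an O_X-module over a base ring A and f ∈ A. Let X be a scheme over Spec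
A, f ∈ A and F an O_X-module on which multiplication by f is a monomorphism. Then for every n ≥ 1
there is a monomorphism i : F/fF → F/f^{n+1}F through which multiplication by f^n on F/f^{n+1}F
factors (projection to F/fF followed by i), and F/fF → F/f^{n+1}F → F/f^nF, with second map the
transition map, is a short exact sequence. (Stated for schemes; the published statement is for
ringed spaces.) -/
theorem result (A : Type u) [CommRing A] (X : Scheme.{u}) [X.Over (Spec (CommRingCat.of A))] (f : A) (F : X.Modules) (hF : Mono (Formal.smulMod A F f)) (n : ℕ) (hn : 1 ≤ n) : ∃ i : Formal.modPow (Ideal.span ({f} : Set A)) 1 F ⟶ Formal.modPow (Ideal.span ({f} : Set A)) (n + 1) F, Mono i ∧ Formal2.modPowLE (Ideal.span ({f} : Set A)) (Nat.le_add_left 1 n) F ≫ i = Formal.smulMod A (Formal.modPow (Ideal.span ({f} : Set A)) (n + 1) F) (f ^ n) ∧ ∃ w : i ≫ Formal.modPowTrans (Ideal.span ({f} : Set A)) n F = 0, (ShortComplex.mk i (Formal.modPowTrans (Ideal.span ({f} : Set A)) n F) w).ShortExact :=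 by
  let I : Ideal A := Ideal.span {f}
  let μ : ℕ → (F ⟶ F) := fun m => Formal.smulMod A F (f ^ m)
  let π : ∀ m, F ⟶ Formal.modPow I m F := fun m => Formal.modPowπ I m F
  haveI hepi : ∀ m, Epi (π m) := fun m => inferInstanceAs (Epi (cokernel.π _))
  have hmem : ∀ m, f ^ m ∈ I ^ m := fun m => Ideal.pow_mem_pow (Ideal.mem_span_singleton_self f) m
  have hμ0 : ∀ m, μ m ≫ π m = 0 := fun m => smul_π I m F (hmem m)
  have hμc : ∀ a b, μ (a + b) = μ b ≫ μ a := fun a b => by
    show Formal.smulMod A F (f ^ (a + b)) = _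
    rw [pow_add, FFun.smulMod_mul]
  haveI hmono : ∀ m, Mono (μ m) := fun m => by
    induction m with
    | zero =>
      show Mono (Formal.smulMod A F (f ^ 0))
      rw [pow_zero, FFun.smulMod_one]; infer_instance
    | succ m ih =>
      haveI : Mono (μ 1) := by show Mono (Formal.smulMod A F (f ^ 1)); rwa [pow_one]
      rw [hμc]; exact mono_comp _ _
  have hdesc : ∀ (m : ℕ) {W : X.Modules} (φ : F ⟶ W), μ m ≫ φ = 0 → Formal.smulFamily (I ^ m) F ≫ φ = 0 :=
    fun m W φ h => family_comp f m φ h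
  have hex : ∀ m, (ShortComplex.mk (μ m) (π m) (hμ0 m)).Exact := fun m =>
    ShortComplex.exact_of_g_is_cokernel _ (CokernelCofork.IsColimit.ofπ _ _
      (fun φ h => cokernel.desc _ φ (hdesc m φ h)) (fun φ h => cokernel.π_desc _ _ _)
      (fun φ h b hb => by rw [← cancel_epi (π m)]; exact hb.trans (cokernel.π_desc _ _ _).symm))
  have hi0 : μ 1 ≫ μ n ≫ π (n + 1) = 0 := by rw [← Category.assoc, ← hμc, hμ0]
  let i : Formal.modPow I 1 F ⟶ Formal.modPow I (n + 1) F := cokernel.desc _ (μ n ≫ π (n + 1)) (hdesc 1 _ hi0)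
  have hπi : π 1 ≫ i = μ n ≫ π (n + 1) := cokernel.π_desc _ _ _
  haveI hi : Mono i := Preadditive.mono_of_cancel_zero _ fun {T} x hx => by
    obtain ⟨T', p, hp, y, hy⟩ := surjective_up_to_refinements_of_epi (π 1) x
    have h1 : (y ≫ μ n) ≫ π (n + 1) = 0 := by
      rw [Category.assoc, ← hπi, ← Category.assoc, ← hy, Category.assoc, hx, comp_zero]
    obtain ⟨T'', q, hq, z, hz⟩ := (hex (n + 1)).exact_up_to_refinements (y ≫ μ n) h1
    have h2 : q ≫ y = z ≫ μ 1 := by
      rw [← cancel_mono (μ n), Category.assoc, Category.assoc, ← hμc]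
      exact hz
    rw [← cancel_epi p, comp_zero, ← cancel_epi q, comp_zero, hy, ← Category.assoc, h2, Category.assoc,
      hμ0, comp_zero]
  have w : i ≫ Formal.modPowTrans I n F = 0 := by
    rw [← cancel_epi (π 1), ← Category.assoc, hπi, Category.assoc, comp_zero]
    show μ n ≫ Formal.modPowπ I (n + 1) F ≫ _ = 0
    rw [Formal.modPowπ_trans]
    exact hμ0 n
  haveI : Epi (Formal.modPowTrans I n F) := by
    haveI : Epi (π (n + 1) ≫ Formal.modPowTrans I n F) := by
      rw [show π (n + 1) ≫ Formal.modPowTrans I n F = π n from Formal.modPowπ_trans I n F]; exact hepi n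
    exact epi_of_epi (π (n + 1)) _
  refine ⟨i, hi, ?_, w, .mk' (ShortComplex.exact_of_g_is_cokernel _ (CokernelCofork.IsColimit.ofπ' _ _ fun {W} ψ hψ => ?_)) hi inferInstance⟩
  · rw [← cancel_epi (π (n + 1)), ← Category.assoc,
      show π (n + 1) ≫ Formal2.modPowLE I (Nat.le_add_left 1 n) F = π 1 from Formal2.modPowπ_modPowLE I _ F, hπi]
    exact FFun.smulMod_naturality (π (n + 1)) (f ^ n)
  · have h : μ n ≫ π (n + 1) ≫ ψ = 0 := by rw [← Category.assoc, ← hπi, Category.assoc, hψ, comp_zero]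
    refine ⟨cokernel.desc _ (π (n + 1) ≫ ψ) (hdesc n _ h), ?_⟩
    rw [← cancel_epi (π (n + 1)), ← Category.assoc, show π (n + 1) ≫ Formal.modPowTrans I n F = π n from Formal.modPowπ_trans I n F]
    exact cokernel.π_desc _ _ _

end Groth.Agent.S8821
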