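import Groth.Statements.S8823
import Groth.Agent.PopescuLib.PairPoint
import Groth.Agent.PopescuLib.GRingCompletion
import Groth.Agent.PopescuLib.Noetherian
import Groth.Agent.PopescuLib.Main
import Groth.Agent.CplFib6.GRingStable

set_option autoImplicit false
universe u
open AdicRing TensorProduct

namespace Groth.Agent.S8823

/-- Let A be a Noetherian G-ring and I an ideal of A. Let B and C be A-algebras of finite type, φ an
A-algebra map from the IB-adic completion of B to the IC-adic completion of C, and N ≥ 1. Then one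
can find an etale C-algebra C' for which the induced map C/IC → C'/IC' is a bijection, together with
a homomorphism of A-algebras ψ : B → C' that approximates φ to order N: given any b ∈ B, some c ∈ C
satisfies ψ(b) − c ∈ I^N C', while the image of φ(b) in C/I^N C (the N-th truncation of the
completion) coincides with the class of c. -/
theorem result (A : Type u) [CommRing A] (hA : CAlg.IsGRing A) (I : Ideal A) (B C : Type u) [CommRing B] [Algebra A B] [Algebra.FiniteType A B] [CommRing C] [Algebra A C] [Algebra.FiniteType A C] (φ : (AdicCompletion (I.map (algebraMap A B)) B) →ₐ[A] (AdicCompletion (I.map (algebraMap A C)) C)) (N : ℕ) (hN : 1 ≤ N) : ∃ (C' : Type u) (_ : CommRing C') (_ : Algebra C C') (_ : Algebra A C') (_ : IsScalarTower A C C') (_ : Algebra.Etale C C') (ψ : B →ₐ[A] C'), ((∀ c' : C', ∃ c : C, algebraMap C C' c - c' ∈ I.map (algebraMap A C')) ∧ ∀ c : C, algebraMap C C' c ∈ I.map (algebraMap A C') → c ∈ I.map (algebraMap A C)) ∧ ∀ b : B, ∃ c : C, ψ b - algebraMap C C' c ∈ (I.map (algebraMap A C')) ^ N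 ∧ AdicCompletion.eval (I.map (algebraMap A C)) C N (φ (AdicCompletion.of (I.map (algebraMap A B)) B b)) = Submodule.Quotient.mk c := by
  haveI : IsNoetherianRing A := hA.1
  have hC : CAlg.IsGRing C := Groth.Agent.CplFib6.isGRing_of_finiteType hA C
  haveI : IsNoetherianRing C := hC.1
  let J := I.map (algebraMap A C)
  let T := AdicCompletion J C
  haveI := Groth.Agent.PopescuLib.noetherian_completion J
  have hreg := Groth.Agent.PopescuLib.isRegularHom_adicCompletion C (fun m _ => hC.2 m) J
  haveI : Algebra.FinitePresentation A B := Algebra.FinitePresentation.of_finiteType.mp inferInstance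
  haveI : IsScalarTower A C T := inferInstance
  let f₀ : B →ₐ[A] T := φ.comp (IsScalarTower.toAlgHom A B (AdicCompletion (I.map (algebraMap A B)) B))
  let f : TensorProduct A C B →ₐ[C] T :=
    Algebra.TensorProduct.lift (Algebra.ofId C T) f₀ fun _ _ => Commute.all _ _
  obtain ⟨S, _, _, hS, g, h, hgh⟩ := Groth.Agent.PopescuLib.indSmooth_of_isRegularHom hreg _ inferInstance f
  haveI := hS
  obtain ⟨C', _, _, hC', hnb, ψ₀, hψ⟩ :=
    Groth.Agent.PopescuLib.exists_nbhd_point J N hN S ((AdicCompletion.evalₐ J N).comp h)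
  letI : Algebra A C' := ((algebraMap C C').comp (algebraMap A C)).toAlgebra
  haveI : IsScalarTower A C C' := IsScalarTower.of_algebraMap_eq' rfl
  have hI : I.map (algebraMap A C') = J.map (algebraMap C C') := by
    rw [Ideal.map_map]; rfl
  let ψ : B →ₐ[A] C' := ((ψ₀.comp g).restrictScalars A).comp Algebra.TensorProduct.includeRight
  refine ⟨C', inferInstance, inferInstance, inferInstance, inferInstance, hC', ψ, ⟨fun c' => ?_, fun c hc => ?_⟩, fun b => ?_⟩
  · obtain ⟨a, ha⟩ := hnb.2 (Ideal.Quotient.mk _ c')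
    obtain ⟨a, rfl⟩ := Ideal.Quotient.mk_surjective a
    rw [Ideal.quotientMap_mk, Ideal.Quotient.eq] at ha
    exact ⟨a, hI ▸ ha⟩
  · rw [hI] at hc
    have h1 := hnb.1 (a₁ := Ideal.Quotient.mk _ c) (a₂ := 0)
      (by rw [Ideal.quotientMap_mk, map_zero, Ideal.Quotient.eq_zero_iff_mem]; exact hc)
    exact Ideal.Quotient.eq_zero_iff_mem.1 h1
  · obtain ⟨c, hc, hmem⟩ := hψ (g ((1 : C) ⊗ₜ[A] b))
    refine ⟨c, hI ▸ hmem, ?_⟩
    have h1 : h (g ((1 : C) ⊗ₜ[A] b)) = φ (AdicCompletion.of (I.map (algebraMap A B)) B b) := by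
      rw [← AlgHom.comp_apply, hgh]
      show Algebra.TensorProduct.lift _ _ _ ((1 : C) ⊗ₜ[A] b) = _
      rw [Algebra.TensorProduct.lift_tmul, map_one, one_mul]
      rfl
    rw [AlgHom.comp_apply, h1] at hc
    have h2 := AdicCompletion.factor_evalₐ_eq_eval J (φ (AdicCompletion.of (I.map (algebraMap A B)) B b))
      (n := N) (by simp)
    rw [hc] at h2
    exact h2.symm

end Groth.Agent.S8823
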