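import Groth.Statements.S8825
import Groth.Agent.RigPt7.Regular
-- import your own Groth.Agent.* helpers here

set_option autoImplicit false
universe u
open AdicRing

namespace Groth.Agent.S8825

/-- Let A be a Noetherian ring which is complete for the adic topology of an ideal I, let p be a
rig-closed prime of A (I ⊄ p and p is maximal among the primes not containing I), and let n ≥ 1.
Then the ring map from A/p to the restricted power series ring (A/p){x_1, …, x_n}, i.e. the I-adic
completion of the polynomial ring (A/p)[x_1, …, x_n], is a regular ring map (flat, with Noetherian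
and geometrically regular fibres). (The consequence for the fibre over the fraction field is not
stated.) -/
theorem result (A : Type u) [CommRing A] [IsNoetherianRing A] (I : Ideal A) [IsAdicComplete I A] (p : PrimeSpectrum A) (hp : ¬ I ≤ p.asIdeal ∧ ∀ q : PrimeSpectrum A, p ≤ q → ¬ I ≤ q.asIdeal → q = p) (n : ℕ) (hn : 1 ≤ n) : CAlg.IsRegularHom (A ⧸ p.asIdeal) (AdicCompletion (I.map (algebraMap A (MvPolynomial (Fin n) (A ⧸ p.asIdeal)))) (MvPolynomial (Fin n) (A ⧸ p.asIdeal))) := by
  suffices key : ∀ L : Ideal (MvPolynomial (Fin n) (A ⧸ p.asIdeal)),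
      L = (I.map (algebraMap A (A ⧸ p.asIdeal))).map (algebraMap (A ⧸ p.asIdeal) _) →
      CAlg.IsRegularHom (A ⧸ p.asIdeal) (AdicCompletion L (MvPolynomial (Fin n) (A ⧸ p.asIdeal))) from
    key _ (by rw [Ideal.map_map, ← IsScalarTower.algebraMap_eq])
  rintro L rfl
  have h02 := (RigPt7.tfae_rig_closed I p).out 0 2 (by rfl) (by rfl)
  obtain ⟨hd, hmax, hc⟩ := h02.mp hp
  have : IsAdicComplete (I.map (algebraMap A (A ⧸ p.asIdeal))) (A ⧸ p.asIdeal) := by
    have : IsAdicComplete I (A ⧸ p.asIdeal) := Adic7.isAdicComplete_of_finite I _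
    exact (IsAdicComplete.map_algebraMap_iff (S := A ⧸ p.asIdeal) I _).mpr this
  have hJ : I.map (algebraMap A (A ⧸ p.asIdeal)) ≠ ⊥ := fun h => hp.1 (by
    rwa [Ideal.map_eq_bot_iff_le_ker, Ideal.Quotient.algebraMap_eq, Ideal.mk_ker] at h)
  have : Ring.KrullDimLE 1 (A ⧸ p.asIdeal) := Ring.krullDimLE_iff.mpr (by exact_mod_cast hd.le)
  obtain ⟨m₀, hm₀⟩ := Ideal.exists_maximal (A ⧸ p.asIdeal)
  have : IsLocalRing (A ⧸ p.asIdeal) :=
    IsLocalRing.of_unique_max_ideal ⟨m₀, hm₀, fun m hm => (hmax m hm).trans (hmax m₀ hm₀).symm⟩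
  have : IsAdicComplete (IsLocalRing.maximalIdeal (A ⧸ p.asIdeal)) (A ⧸ p.asIdeal) := by
    rw [hmax _ (IsLocalRing.maximalIdeal.isMaximal _)]
    exact hc
  exact RigPt7.isRegularHom_completion _ hJ n

end Groth.Agent.S8825
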