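import Groth.Statements.S8826
import Groth.Agent.RigEtale7.Henz
-- import your own Groth.Agent.* helpers here

set_option autoImplicit false
universe u
open AdicRing

namespace Groth.Agent.S8826

/-- Let A be a Noetherian ring and I an ideal. Let B be an A-algebra of finite type such that Spec B →
Spec A is etale over the complement of V(I) (B_a etale over A for every a ∈ I), let C be a
Noetherian A-algebra with a henselization Cʰ of the pair (C, IC), and let φ be an A-algebra map from
the IB-adic completion of B to the IC-adic completion of C. Then there is exactly one A-algebra map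
ψ : B → Cʰ which induces φ on completions, in the sense that for every n and every b ∈ B there is c
∈ C with ψ(b) − c ∈ I^n Cʰ and with the n-th truncation of φ(b) in C/I^n C equal to the class of c
(recall C/I^n C = Cʰ/I^n Cʰ). (The second assertion, that such maps factor through an etale
neighbourhood, is not stated.) -/
theorem result (A : Type u) [CommRing A] [IsNoetherianRing A] (I : Ideal A) (B : Type u) [CommRing B] [Algebra A B] [Algebra.FiniteType A B] (hB : ∀ a ∈ I, Algebra.Etale A (Localization.Away (algebraMap A B a))) (C : Type u) [CommRing C] [Algebra A C] [IsNoetherianRing C] (Ch : Type u) [CommRing Ch] [Algebra C Ch] [Algebra A Ch] [IsScalarTower A C Ch] (hCh : Hens2.IsPairHenselization C (I.map (algebraMap A C)) Ch) (φ : (AdicCompletion (I.map (algebraMap A B)) B) →ₐ[A] (AdicCompletion (I.map (algebraMap A C)) C)) : ∃! ψ : B →ₐ[A] Ch, ∀ (n : ℕ) (b : B), ∃ c : C, ψ b - algebraMap C Ch c ∈ (I.map (algebraMap A Ch)) ^ n ∧ AdicCompletion.eval (I.map (algebraMap A C)) C n (φ (AdicCompletion.of (I.map (algebraMap A B)) B b)) = Submodule.Quotient.mk c := by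
  exact Groth.Agent.RigEtale7.existsUnique_to_henselization A I B hB C Ch hCh φ

end Groth.Agent.S8826
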