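import Groth.Statements.S8829
import Groth.Agent.RigPt7.FinType
-- import your own Groth.Agent.* helpers here

set_option autoImplicit false
universe u
open AdicRing

namespace Groth.Agent.S8829

/-- In the case of adic Noetherian topological rings: let A be a Noetherian ring complete for the adic
topology of an ideal I, and B a Noetherian A-algebra complete for the IB-adic topology with B/IB of
finite type over A (so A → B is an adic morphism, topologically of finite type). Let q be a
rig-closed prime of B (IB ⊄ q and q maximal among the primes not containing IB) and p its inverse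
image in A. Three conditions turn out to be equivalent: (1) whenever m is a maximal ideal of B with
m ⊇ q, the quotient B/m is finite as an A-module (that is, residue fields of B/q are finite over A);
(2) p is rig-closed in A (I ⊄ p and p maximal among the primes not containing I); (3) B/q is a
finite A-module, i.e. A/p ⊆ B/q is a finite extension of rings. -/
theorem result (A : Type u) [CommRing A] [IsNoetherianRing A] (I : Ideal A) [IsAdicComplete I A] (B : Type u) [CommRing B] [Algebra A B] [IsNoetherianRing B] [IsAdicComplete (I.map (algebraMap A B)) B] (hft : Algebra.FiniteType A (B ⧸ (I.map (algebraMap A B)))) (q : PrimeSpectrum B) (hq : (¬ (I.map (algebraMap A B)) ≤ q.asIdeal ∧ ∀ y : PrimeSpectrum B, q ≤ y → ¬ (I.map (algebraMap A B)) ≤ y.asIdeal → y = q)) : List.TFAE [∀ m : Ideal B, m.IsMaximal → q.asIdeal ≤ m → Module.Finite A (B ⧸ m), (¬ I ≤ (PrimeSpectrum.comap (algebraMap A B) q).asIdeal ∧ ∀ y : PrimeSpectrum A, (PrimeSpectrum.comap (algebraMap A B) q) ≤ y → ¬ I ≤ y.asIdeal → y = (PrimeSpectrum.comap (algebraMap A B) q)), Module.Finite A (B ⧸ q.asIdeal)] := by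
  exact RigPt7.tfae_rig_closed_comap A I B hft q hq

end Groth.Agent.S8829
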