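import Groth.Statements.S8831
import Groth.Agent.GrLib8.PuncturedLC
-- import your own Groth.Agent.* helpers here

set_option autoImplicit false
universe u
open CategoryTheory AlgebraicGeometry Opposite
open LocCoh

namespace Groth.Agent.S8831

/-- Let (A, m) be a Noetherian local ring and U = Spec A ∖ {m} the punctured spectrum. Suppose we are
given a system (F_n), indexed inversely by n, of coherent modules on U. In each positive degree i,
the cohomology groups H^i(U, F_n) then form a Mittag-Leffler system; concretely, given any n one can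
find r ≥ n such that for all s ≥ r the image of H^i(U, F_s) → H^i(U, F_n) equals the image of H^i(U,
F_r) → H^i(U, F_n). -/
theorem result (A : Type u) [CommRing A] [IsNoetherianRing A] [IsLocalRing A] (G : ℕᵒᵖ ⥤ (↑(LocCoh.puncturedOpen A (IsLocalRing.maximalIdeal A)) : Scheme.{u}).Modules) (hG : ∀ n : ℕᵒᵖ, Coh.IsCoh (G.obj n)) (i : ℕ) (hi : 0 < i) (n : ℕ) : ∃ (r : ℕ) (hnr : n ≤ r), ∀ (s : ℕ) (hrs : r ≤ s), Set.range (Sheaf.H.map ((SheafOfModules.toSheaf _).map (G.map (homOfLE (hnr.trans hrs : n ≤ s)).op)) i) = Set.range (Sheaf.H.map ((SheafOfModules.toSheaf _).map (G.map (homOfLE (hnr : n ≤ r)).op)) i) := by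
  haveI := Groth.Agent.GrLib8.PuncturedLC.isArtinian_HH (G.obj (Opposite.op n)) (hG _) i hi
  let φ : ∀ k : ℕ, n ≤ k → _ := fun k h =>
    Groth.Agent.PnCoh.Finite.mapLin A (G.map (homOfLE h).op) i
  have hanti : ∀ (a b : ℕ) (ha : n ≤ a) (hab : a ≤ b), LinearMap.range (φ b (ha.trans hab)) ≤ LinearMap.range (φ a ha) := by
    rintro a b ha hab _ ⟨x, rfl⟩
    refine ⟨Groth.Agent.PnCoh.Finite.mapLin A (G.map (homOfLE hab).op) i x, ?_⟩
    refine (Groth.Agent.LocCohDepth.Punct.mapLin_comp _ _ i x).symm.trans ?_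
    rw [← Functor.map_comp]
    rfl
  obtain ⟨m, hm⟩ := IsArtinian.monotone_stabilizes
    (⟨fun k => OrderDual.toDual (LinearMap.range (φ (n + k) (Nat.le_add_right n k))),
      fun a b hab => hanti (n + a) (n + b) (Nat.le_add_right n a) (Nat.add_le_add_left hab n)⟩ :
      ℕ →o (Submodule A (Coh.HH (↑(LocCoh.puncturedOpen A (IsLocalRing.maximalIdeal A)) : Scheme.{u}) (G.obj (Opposite.op n)) i))ᵒᵈ)
  refine ⟨n + m, Nat.le_add_right n m, fun s hrs => ?_⟩
  obtain ⟨t, rfl⟩ := Nat.exists_eq_add_of_le ((Nat.le_add_right n m).trans hrs)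
  have h := hm t (Nat.le_of_add_le_add_left hrs)
  exact congrArg (fun p => SetLike.coe (OrderDual.ofDual p)) h.symm

end Groth.Agent.S8831
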