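import Groth.Statements.S8834
import Groth.Agent.Adic7.Misc
-- import your own Groth.Agent.* helpers here

set_option autoImplicit false
universe u
open AdicRing

namespace Groth.Agent.S8834

/-- Let A be a Noetherian ring complete for the adic topology of an ideal I and B a Noetherian ring
complete for the adic topology of an ideal J, with an algebra map A → B sending I into the radical
of J (a continuous homomorphism of adic Noetherian topological rings; the radicals of I and J are
the ideals of topologically nilpotent elements). Assume B/√J is of finite type over A, equivalently
over A/√I. Then B is topologically of finite type over A: there are b_1, …, b_s ∈ B such that the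
A-algebra map A[x_1, …, x_s] → B with x_i ↦ b_i has dense image for the J-adic topology, that is,
for every y ∈ B and every n there is a polynomial whose value at b differs from y by an element of
J^n. -/
theorem result (A : Type u) [CommRing A] [IsNoetherianRing A] (I : Ideal A) [IsAdicComplete I A] (B : Type u) [CommRing B] [Algebra A B] [IsNoetherianRing B] (J : Ideal B) [IsAdicComplete J B] (hIJ : I.map (algebraMap A B) ≤ J.radical) (hft : Algebra.FiniteType A (B ⧸ J.radical)) : ∃ s : ℕ, ∃ b : Fin s → B, ∀ (y : B) (n : ℕ), ∃ p : MvPolynomial (Fin s) A, y - MvPolynomial.aeval b p ∈ J ^ n := by
  exact Groth.Agent.Adic7.exists_dense_mvPolynomial A B J hft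

end Groth.Agent.S8834
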