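import Groth.Statements.S8836
import Groth.Agent.RigPt7.Basic
-- import your own Groth.Agent.* helpers here

set_option autoImplicit false
universe u
open AdicRing

namespace Groth.Agent.S8836

/-- Let A be a Noetherian ring complete for the adic topology of an ideal I, and B a Noetherian
A-algebra complete for the IB-adic topology, flat over A, with B/IB of finite type over A (a flat
adic morphism, topologically of finite type, of adic Noetherian topological rings). Let p be a prime
of A which is rig-closed (I ⊄ p and p maximal among the primes not containing I). The following are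
equivalent: (1) the maximal ideal of the local ring A/p lies in the image of Spec(B/√(IB)) →
Spec(A/√I), stated as: some prime Q of B containing IB lies over a maximal ideal of A containing p;
(2) there is a rig-closed prime q of B (IB ⊄ q, q maximal among the primes not containing IB) whose
inverse image in A is p. (The published statement adds that, when these hold, A/p ⊆ B/q is a finite
extension of rings and the residue field of the local ring B/q is finite over A/√I; this is not
restated here.) -/
theorem result (A : Type u) [CommRing A] [IsNoetherianRing A] (I : Ideal A) [IsAdicComplete I A] (B : Type u) [CommRing B] [Algebra A B] [IsNoetherianRing B] [IsAdicComplete (I.map (algebraMap A B)) B] (hft : Algebra.FiniteType A (B ⧸ (I.map (algebraMap A B)))) [Module.Flat A B] (p : PrimeSpectrum A) (hp : (¬ I ≤ p.asIdeal ∧ ∀ y : PrimeSpectrum A, p ≤ y → ¬ I ≤ y.asIdeal → y = p)) : (∃ Q : PrimeSpectrum B, (I.map (algebraMap A B)) ≤ Q.asIdeal ∧ p.asIdeal ≤ (PrimeSpectrum.comap (algebraMap A B) Q).asIdeal ∧ (PrimeSpectrum.comap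 (algebraMap A B) Q).asIdeal.IsMaximal) ↔ (∃ q : PrimeSpectrum B, (¬ (I.map (algebraMap A B)) ≤ q.asIdeal ∧ ∀ y : PrimeSpectrum B, q ≤ y → ¬ (I.map (algebraMap A B)) ≤ y.asIdeal → y = q) ∧ PrimeSpectrum.comap (algebraMap A B) q = p) := by
  constructor
  · rintro ⟨Q, -, hpQ, -⟩
    let n := Q.asIdeal.comap (algebraMap A B)
    have : Q.asIdeal.LiesOver n := ⟨rfl⟩
    obtain ⟨q₀, -, hq₀, hlo⟩ := Ideal.exists_ideal_le_liesOver_of_le (p := p.asIdeal) (q := n) Q.asIdeal hpQ
    let S : Set (Ideal B) := {J | J.IsPrime ∧ J.comap (algebraMap A B) = p.asIdeal}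
    obtain ⟨q, ⟨hqp, hqc⟩, hqmax⟩ := WellFounded.has_min (wellFounded_gt (α := Ideal B)) S ⟨q₀, hq₀, hlo.over.symm⟩
    refine ⟨⟨q, hqp⟩, ⟨fun h => hp.1 ((Ideal.map_le_iff_le_comap.mp h).trans hqc.le), fun y hy hyI => ?_⟩,
      PrimeSpectrum.ext hqc⟩
    have h1 : PrimeSpectrum.comap (algebraMap A B) y = p := hp.2 _
      (show p.asIdeal ≤ y.asIdeal.comap (algebraMap A B) from hqc.ge.trans (Ideal.comap_mono hy))
      fun h => hyI (Ideal.map_le_iff_le_comap.mpr h)
    refine PrimeSpectrum.ext ?_
    by_contra hne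
    exact hqmax y.asIdeal ⟨y.isPrime, congrArg PrimeSpectrum.asIdeal h1⟩ (lt_of_le_of_ne hy (Ne.symm hne))
  · rintro ⟨q, hq, rfl⟩
    obtain ⟨m, hm, hqm⟩ := Ideal.exists_le_maximal q.asIdeal q.isPrime.ne_top
    have hIm : I.map (algebraMap A B) ≤ m := (IsAdicComplete.le_jacobson_bot _).trans
      (by rw [Ideal.jacobson]; exact sInf_le ⟨bot_le, hm⟩)
    refine ⟨⟨m, hm.isPrime⟩, hIm, Ideal.comap_mono hqm, ?_⟩
    have hIn : I ≤ m.comap (algebraMap A B) := Ideal.map_le_iff_le_comap.mp hIm
    obtain ⟨n, hn, hmn⟩ := Ideal.exists_le_maximal (m.comap (algebraMap A B)) (hm.isPrime.comap _).ne_top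
    show (m.comap (algebraMap A B)).IsMaximal
    suffices m.comap (algebraMap A B) = n from this ▸ hn
    have h01 := (RigPt7.tfae_rig_closed I (PrimeSpectrum.comap (algebraMap A B) q)).out 0 1 (by rfl) (by rfl)
    obtain ⟨hd, -⟩ := h01.mp hp
    by_contra hne
    have : Ring.KrullDimLE 1 (A ⧸ (PrimeSpectrum.comap (algebraMap A B) q).asIdeal) :=
      Ring.krullDimLE_iff.mpr (by exact_mod_cast hd.le)
    have hk : RingHom.ker (Ideal.Quotient.mk (PrimeSpectrum.comap (algebraMap A B) q).asIdeal) ≤
        m.comap (algebraMap A B) := by rw [Ideal.mk_ker]; exact Ideal.comap_mono hqm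
    have := hm.isPrime.comap (algebraMap A B)
    have hP := Ideal.map_isPrime_of_surjective Ideal.Quotient.mk_surjective hk
    have hne0 : (m.comap (algebraMap A B)).map (Ideal.Quotient.mk (PrimeSpectrum.comap (algebraMap A B) q).asIdeal) ≠ ⊥ :=
      fun he => hp.1 (hIn.trans (by rwa [Ideal.map_eq_bot_iff_le_ker, Ideal.mk_ker] at he))
    have hmax := Ideal.comap_isMaximal_of_surjective
      (Ideal.Quotient.mk (PrimeSpectrum.comap (algebraMap A B) q).asIdeal) Ideal.Quotient.mk_surjective
      (H := hP.isMaximal_of_ne_bot hne0)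
    rw [Ideal.comap_map_of_surjective _ Ideal.Quotient.mk_surjective, ← RingHom.ker_eq_comap_bot,
      sup_eq_left.mpr hk] at hmax
    exact hne (hmax.eq_of_le hn.ne_top hmn)

end Groth.Agent.S8836
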