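import Groth.Statements.S8838
import Groth.Agent.RigPt7.EtaleRed
-- import your own Groth.Agent.* helpers here

set_option autoImplicit false
universe u
open AdicRing

namespace Groth.Agent.S8838

/-- Suppose A is a Noetherian ring that is I-adically complete for an ideal I, and B is a Noetherian
A-algebra that is complete with respect to the IB-adic topology, with B/IB of finite type over A (so
A → B is an adic morphism of adic Noetherian topological rings that is topologically of finite
type). Assume further that A → B is flat and that the induced map A/I → B/IB is étale (with I as the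
chosen ideal of definition). Consider a prime q of B that is rig-closed (q does not contain IB, and
q is maximal among primes of B not containing IB), and suppose its preimage p in A is rig-closed as
well (p does not contain I, and p is maximal among primes of A not containing I). Then the extension
of p to the localization B_q equals its maximal ideal, that is, p B_q = q B_q. -/
theorem result (A : Type u) [CommRing A] [IsNoetherianRing A] (I : Ideal A) [IsAdicComplete I A] (B : Type u) [CommRing B] [Algebra A B] [IsNoetherianRing B] [IsAdicComplete (I.map (algebraMap A B)) B] (hft : Algebra.FiniteType A (B ⧸ (I.map (algebraMap A B)))) [Module.Flat A B] [Algebra.Etale (A ⧸ I) (B ⧸ (I.map (algebraMap A B)))] (q : PrimeSpectrum B) (hq : (¬ (I.map (algebraMap A B)) ≤ q.asIdeal ∧ ∀ y : PrimeSpectrum B, q ≤ y → ¬ (I.map (algebraMap A B)) ≤ y.asIdeal → y = q)) (hp : (¬ I ≤ (PrimeSpectrum.comap (algebraMap A B) q).asIdeal ∧ ∀ y : PrimeSpectrum A, (PrimeSpectrum.comap (algebraMap A B) q) ≤ y → ¬ I ≤ y.asIdeal → y = (PrimeSpectrum.comap (algebraMap A B) q))) : ((PrimeSpectrum.comap (algebraMap A B) q).asIdeal.map (algebraMap A B)).map (algebraMap B (Localization.AtPrime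 q.asIdeal)) = IsLocalRing.maximalIdeal (Localization.AtPrime q.asIdeal) := by
  have : Algebra.FormallyUnramified A (B ⧸ I.map (algebraMap A B)) := Algebra.FormallyUnramified.comp A (A ⧸ I) _
  exact RigPt7.map_comap_eq_maximalIdeal I hft inferInstance (PrimeSpectrum.comap (algebraMap A B) q) hp q.asIdeal rfl

end Groth.Agent.S8838
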