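import Groth.Statements.S8839
import Groth.Agent.RigPt7.Restricted
-- import your own Groth.Agent.* helpers here

set_option autoImplicit false
universe u
open AdicRing

namespace Groth.Agent.S8839

/-- Let A be a Noetherian ring complete for the adic topology of an ideal I, n a natural number, and
A{x_1, …, x_n} the restricted power series ring, i.e. the I-adic completion of the polynomial ring
A[x_1, …, x_n]. Let q be a prime ideal of A{x_1, …, x_n}, q' its inverse image in A[x_1, …, x_n] and
p its inverse image in A. Assume q is rig-closed (the extension of I is not contained in q and q is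
maximal among such primes) and p is rig-closed in A (I ⊄ p, p maximal among the primes not
containing I). Then the local homomorphism A[x_1, …, x_n]_{q'} → A{x_1, …, x_n}_q induces an
isomorphism on completions with respect to the maximal ideals; stated as: for every m ≥ 1 the
induced map on quotients by the m-th powers of the maximal ideals is injective and surjective. -/
theorem result (A : Type u) [CommRing A] [IsNoetherianRing A] (I : Ideal A) [IsAdicComplete I A] (n : ℕ) (q : PrimeSpectrum (AdicCompletion (I.map (algebraMap A (MvPolynomial (Fin n) A))) (MvPolynomial (Fin n) A))) (hq : (¬ (I.map (algebraMap A (AdicCompletion (I.map (algebraMap A (MvPolynomial (Fin n) A))) (MvPolynomial (Fin n) A)))) ≤ q.asIdeal ∧ ∀ y : PrimeSpectrum (AdicCompletion (I.map (algebraMap A (MvPolynomial (Fin n) A))) (MvPolynomial (Fin n) A)), q ≤ y → ¬ (I.map (algebraMap A (AdicCompletion (I.map (algebraMap A (MvPolynomial (Fin n) A))) (MvPolynomial (Fin n) A)))) ≤ y.asIdeal → y = q)) (hp : (¬ I ≤ (PrimeSpectrum.comap (algebraMap A (AdicCompletion (I.map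 (algebraMap A (MvPolynomial (Fin n) A))) (MvPolynomial (Fin n) A))) q).asIdeal ∧ ∀ y : PrimeSpectrum A, (PrimeSpectrum.comap (algebraMap A (AdicCompletion (I.map (algebraMap A (MvPolynomial (Fin n) A))) (MvPolynomial (Fin n) A))) q) ≤ y → ¬ I ≤ y.asIdeal → y = (PrimeSpectrum.comap (algebraMap A (AdicCompletion (I.map (algebraMap A (MvPolynomial (Fin n) A))) (MvPolynomial (Fin n) A))) q))) (m : ℕ) (hm : 1 ≤ m) : (∀ x : (Localization.AtPrime (PrimeSpectrum.comap (algebraMap (MvPolynomial (Fin n) A) (AdicCompletion (I.map (algebraMap A (MvPolynomial (Fin n) A))) (MvPolynomial (Fin n) A))) q).asIdeal), (Localization.localRingHom (PrimeSpectrum.comap (algebraMap (MvPolynomial (Fin n) A) (AdicCompletion (I.map (algebraMap A (MvPolynomial (Fin n) A))) (MvPolynomial (Fin n) A))) q).asIdeal q.asIdeal (algebraMap (MvPolynomial (Fin n) A) (AdicCompletion (I.map (algebraMap A (MvPolynomial (Fin n) A))) (MvPolynomial (Fin n) A))) rfl) x ∈ (IsLocalRing.maximalIdeal (Localization.AtPrime q.asIdeal)) ^ m → x ∈ (IsLocalRing.maximalIdeal (Localization.AtPrime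 (PrimeSpectrum.comap (algebraMap (MvPolynomial (Fin n) A) (AdicCompletion (I.map (algebraMap A (MvPolynomial (Fin n) A))) (MvPolynomial (Fin n) A))) q).asIdeal)) ^ m) ∧ (∀ y : (Localization.AtPrime q.asIdeal), ∃ x : (Localization.AtPrime (PrimeSpectrum.comap (algebraMap (MvPolynomial (Fin n) A) (AdicCompletion (I.map (algebraMap A (MvPolynomial (Fin n) A))) (MvPolynomial (Fin n) A))) q).asIdeal), y - (Localization.localRingHom (PrimeSpectrum.comap (algebraMap (MvPolynomial (Fin n) A) (AdicCompletion (I.map (algebraMap A (MvPolynomial (Fin n) A))) (MvPolynomial (Fin n) A))) q).asIdeal q.asIdeal (algebraMap (MvPolynomial (Fin n) A) (AdicCompletion (I.map (algebraMap A (MvPolynomial (Fin n) A))) (MvPolynomial (Fin n) A))) rfl) x ∈ (IsLocalRing.maximalIdeal (Localization.AtPrime q.asIdeal)) ^ m) := by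
  let T := MvPolynomial (Fin n) A
  let J := I.map (algebraMap A T)
  let C := AdicCompletion J T
  have : IsNoetherianRing C := FComplLib.isNoetherianRing_adicCompletion _
  have hC0 := AdicCompletion.isAdicComplete_self J (IsNoetherian.noetherian _)
  have : IsAdicComplete (I.map (algebraMap A C)) C := by
    rwa [Ideal.map_map, ← IsScalarTower.algebraMap_eq] at hC0
  have hft : Algebra.FiniteType A (C ⧸ I.map (algebraMap A C)) := by
    refine (inferInstance : Algebra.FiniteType A T).of_surjective
      ((Ideal.Quotient.mkₐ A (I.map (algebraMap A C))).comp (IsScalarTower.toAlgHom A T C)) fun z => ?_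
    obtain ⟨c, rfl⟩ := Ideal.Quotient.mk_surjective z
    obtain ⟨t, ht⟩ := Ideal.Quotient.mk_surjective (AdicCompletion.evalₐ J 1 c)
    refine ⟨t, (Ideal.Quotient.eq.mpr ?_).symm⟩
    rw [IsScalarTower.algebraMap_eq A T C, ← Ideal.map_map]
    show c - algebraMap T C t ∈ _
    rw [← pow_one (I.map (algebraMap A T)),
      ← FComplLib.evalₐ_eq_zero_iff J (IsNoetherian.noetherian J), map_sub, FComplLib.evalₐ_algebraMap, ht, sub_self]
  have htf := (RigPt7.tfae_rig_closed_comap A I C hft q hq).out 1 2 (by rfl) (by rfl)
  have : Module.Finite A (C ⧸ q.asIdeal) := htf.mp hp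
  let q₀ := q.asIdeal.comap (algebraMap T C)
  have : Module.Finite A (T ⧸ q₀) := Module.Finite.of_injective
    (Ideal.quotientMapₐ (R₁ := A) q.asIdeal (IsScalarTower.toAlgHom A T C) le_rfl).toLinearMap
    Ideal.quotientMap_injective
  have hq0 : q₀.map (algebraMap T C) = q.asIdeal := by
    refine le_antisymm Ideal.map_comap_le fun c hc => ?_
    obtain ⟨t, ht⟩ := (RigPt7.bijective_quotient_compl I q₀).1 c
    have h1 := Ideal.sub_mem _ hc (Ideal.map_comap_le ht : c - algebraMap T C t ∈ q.asIdeal)
    rw [sub_sub_cancel] at h1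
    have h3 := Ideal.add_mem _ ht (Ideal.mem_map_of_mem (algebraMap T C) (show t ∈ q₀ from h1))
    rwa [sub_add_cancel] at h3
  have : Module.Finite A (T ⧸ q₀ ^ m) := Adic7.finite_quotient_pow A T q₀ m
  obtain ⟨h1, h2⟩ := RigPt7.bijective_quotient_compl (T := T) I (q₀ ^ m)
  exact RigPt7.localRingHom_bijective_mod_pow q.asIdeal m hm h1 h2 hq0

end Groth.Agent.S8839
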