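import Groth.Statements.S8840
import Groth.Agent.RigPt7.FinType
-- import your own Groth.Agent.* helpers here

set_option autoImplicit false
universe u
open AdicRing

namespace Groth.Agent.S8840

/-- Let A be a Noetherian ring complete for the adic topology of an ideal I, and B a Noetherian
A-algebra complete for the IB-adic topology with B/IB of finite type over A (an adic morphism,
topologically of finite type, of adic Noetherian topological rings). Let q be a prime of B which is
rig-closed (IB ⊄ q and q maximal among the primes not containing IB). Then there exists f ∈ A which
maps to a unit in B/q such that the following holds. Let A_{f} and B_{f} be the completed principal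
localizations (the I-adic completions of A_f and B_f) and ψ : A_{f} → B_{f} the canonical map,
characterised here as any ring map compatible with A_f → B_f (there is exactly one). Then the
inverse image p' under ψ of the ideal q' = q B_{f} is a rig-closed prime of A_{f}: p' is prime, I
A_{f} ⊄ p', and p' is maximal among the primes of A_{f} not containing I A_{f}. (That q B_{f} is
itself prime with quotient B/q holds because f is a unit modulo q; it is not restated.) -/
theorem result (A : Type u) [CommRing A] [IsNoetherianRing A] (I : Ideal A) [IsAdicComplete I A] (B : Type u) [CommRing B] [Algebra A B] [IsNoetherianRing B] [IsAdicComplete (I.map (algebraMap A B)) B] (hft : Algebra.FiniteType A (B ⧸ (I.map (algebraMap A B)))) (q : PrimeSpectrum B) (hq : (¬ (I.map (algebraMap A B)) ≤ q.asIdeal ∧ ∀ y : PrimeSpectrum B, q ≤ y → ¬ (I.map (algebraMap A B)) ≤ y.asIdeal → y = q)) : ∃ f : A, IsUnit (Ideal.Quotient.mk q.asIdeal (algebraMap A B f)) ∧ ∀ ψ : (AdicCompletion (I.map (algebraMap A (Localization.Away f))) (Localization.Away f)) →+* (AdicCompletion ((I.map (algebraMap A B)).map (algebraMap B (Localization.Away (algebraMap A B f)))) (Localization.Away (algebraMap A B f))),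 ψ.comp (algebraMap (Localization.Away f) (AdicCompletion (I.map (algebraMap A (Localization.Away f))) (Localization.Away f))) = (algebraMap (Localization.Away (algebraMap A B f)) (AdicCompletion ((I.map (algebraMap A B)).map (algebraMap B (Localization.Away (algebraMap A B f)))) (Localization.Away (algebraMap A B f)))).comp (Localization.awayMap (algebraMap A B) f) → (((q.asIdeal.map (algebraMap B (AdicCompletion ((I.map (algebraMap A B)).map (algebraMap B (Localization.Away (algebraMap A B f)))) (Localization.Away (algebraMap A B f))))).comap ψ).IsPrime ∧ ¬ (I.map (algebraMap A (AdicCompletion (I.map (algebraMap A (Localization.Away f))) (Localization.Away f)))) ≤ ((q.asIdeal.map (algebraMap B (AdicCompletion ((I.map (algebraMap A B)).map (algebraMap B (Localization.Away (algebraMap A B f)))) (Localization.Away (algebraMap A B f))))).comap ψ) ∧ ∀ y : PrimeSpectrum (AdicCompletion (I.map (algebraMap A (Localization.Away f))) (Localization.Away f)), ((q.asIdeal.map (algebraMap B (AdicCompletion ((I.map (algebraMap A B)).map (algebraMap B (Localization.Away (algebraMap A B f)))) (Localization.Away (algebraMap A B f))))).comap ψ) ≤ y.asIdeal → ¬ (I.map (algebraMap A (AdicCompletion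 (I.map (algebraMap A (Localization.Away f))) (Localization.Away f)))) ≤ y.asIdeal → y.asIdeal = ((q.asIdeal.map (algebraMap B (AdicCompletion ((I.map (algebraMap A B)).map (algebraMap B (Localization.Away (algebraMap A B f)))) (Localization.Away (algebraMap A B f))))).comap ψ)) := by
  obtain ⟨f, hf, h⟩ := RigPt7.exists_rig_closed_below A I B hft q hq
  refine ⟨f, hf, fun ψ hψ => h (Localization.Away f) (Localization.Away (algebraMap A B f)) ψ fun a => ?_⟩
  refine (congrArg ψ (IsScalarTower.algebraMap_apply A (Localization.Away f) _ a)).trans
    ((RingHom.congr_fun hψ (algebraMap A (Localization.Away f) a)).trans ?_)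
  refine Eq.trans ?_ (IsScalarTower.algebraMap_apply B (Localization.Away (algebraMap A B f)) _ (algebraMap A B a)).symm
  simp [Localization.awayMap, IsLocalization.Away.map, IsLocalization.map_eq]

end Groth.Agent.S8840
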