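import Groth.Statements.S8843
import Groth.Agent.RigPt7.Comp
-- import your own Groth.Agent.* helpers here

set_option autoImplicit false
universe u
open AdicRing

namespace Groth.Agent.S8843

/-- Let A be a Noetherian ring complete for the adic topology of an ideal I, B a Noetherian A-algebra
complete for the IB-adic topology with B/IB of finite type over A, and C a Noetherian B-algebra,
compatibly an A-algebra, complete for the IC-adic topology with C/IC of finite type over B (so A → B
→ C are adic morphisms of adic Noetherian topological rings, topologically of finite type). Assume A
→ B and B → C are rig-flat, in the following form: for every f ∈ A and the canonical map ψ : A_{f} →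
B_{f} of completed principal localizations (the I-adic completions of A_f → B_f; ψ is characterised
as any ring map compatible with A_f → B_f, and there is exactly one), the local ring (B_{f})_q is
flat over A_{f} via ψ for every rig-closed prime q of B_{f} (I B_{f} ⊄ q and q maximal among the
primes not containing I B_{f}); and likewise for B → C with g ∈ B and rig-closed primes of C_{g}.
Then A → C is rig-flat in the same form: for every f ∈ A, every ring map A_{f} → C_{f} compatible
with A_f → C_f, and every rig-closed prime q of C_{f}, the local ring (C_{f})_q is flat over A_{f}.
(That A → C is again adic and topologically of finite type is not restated.) -/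
theorem result (A : Type u) [CommRing A] [IsNoetherianRing A] (I : Ideal A) [IsAdicComplete I A] (B : Type u) [CommRing B] [Algebra A B] [IsNoetherianRing B] [IsAdicComplete (I.map (algebraMap A B)) B] (hftB : Algebra.FiniteType A (B ⧸ (I.map (algebraMap A B)))) (C : Type u) [CommRing C] [Algebra A C] [Algebra B C] [IsScalarTower A B C] [IsNoetherianRing C] [IsAdicComplete (I.map (algebraMap A C)) C] (hftC : Algebra.FiniteType B (C ⧸ (I.map (algebraMap A C)))) (hAB : (∀ f : A, ∀ ψf : (AdicCompletion (I.map (algebraMap A (Localization.Away f))) (Localization.Away f)) →+* (AdicCompletion ((I.map (algebraMap A B)).map (algebraMap B (Localization.Away (algebraMap A B f)))) (Localization.Away (algebraMap A B f))), ψf.comp (algebraMap (Localization.Away f) (AdicCompletion (I.map (algebraMap A (Localization.Away f))) (Localization.Away f))) = (algebraMap (Localization.Away (algebraMap A B f)) (AdicCompletion ((I.map (algebraMap A B)).map (algebraMap B (Localization.Away (algebraMap A B f)))) (Localization.Away (algebraMap A B f)))).comp (Localization.awayMap (algebraMap A B) f) → ∀ qf : PrimeSpectrum (AdicCompletion ((I.map (algebraMap A B)).map (algebraMap B (Localization.Away (algebraMap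 A B f)))) (Localization.Away (algebraMap A B f))), (¬ (((I.map (algebraMap A B)).map (algebraMap B (Localization.Away (algebraMap A B f)))).map (algebraMap (Localization.Away (algebraMap A B f)) (AdicCompletion ((I.map (algebraMap A B)).map (algebraMap B (Localization.Away (algebraMap A B f)))) (Localization.Away (algebraMap A B f))))) ≤ qf.asIdeal ∧ ∀ y : PrimeSpectrum (AdicCompletion ((I.map (algebraMap A B)).map (algebraMap B (Localization.Away (algebraMap A B f)))) (Localization.Away (algebraMap A B f))), qf ≤ y → ¬ (((I.map (algebraMap A B)).map (algebraMap B (Localization.Away (algebraMap A B f)))).map (algebraMap (Localization.Away (algebraMap A B f)) (AdicCompletion ((I.map (algebraMap A B)).map (algebraMap B (Localization.Away (algebraMap A B f)))) (Localization.Away (algebraMap A B f))))) ≤ y.asIdeal → y = qf) → ((algebraMap (AdicCompletion ((I.map (algebraMap A B)).map (algebraMap B (Localization.Away (algebraMap A B f)))) (Localization.Away (algebraMap A B f))) (Localization.AtPrime qf.asIdeal)).comp ψf).Flat)) (hBC : (∀ g : B, ∀ ψg : (AdicCompletion ((I.map (algebraMap A B)).map (algebraMap B (Localization.Away g))) (Localization.Away g)) →+* (AdicCompletion (((I.map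 (algebraMap A B)).map (algebraMap B C)).map (algebraMap C (Localization.Away (algebraMap B C g)))) (Localization.Away (algebraMap B C g))), ψg.comp (algebraMap (Localization.Away g) (AdicCompletion ((I.map (algebraMap A B)).map (algebraMap B (Localization.Away g))) (Localization.Away g))) = (algebraMap (Localization.Away (algebraMap B C g)) (AdicCompletion (((I.map (algebraMap A B)).map (algebraMap B C)).map (algebraMap C (Localization.Away (algebraMap B C g)))) (Localization.Away (algebraMap B C g)))).comp (Localization.awayMap (algebraMap B C) g) → ∀ qg : PrimeSpectrum (AdicCompletion (((I.map (algebraMap A B)).map (algebraMap B C)).map (algebraMap C (Localization.Away (algebraMap B C g)))) (Localization.Away (algebraMap B C g))), (¬ ((((I.map (algebraMap A B)).map (algebraMap B C)).map (algebraMap C (Localization.Away (algebraMap B C g)))).map (algebraMap (Localization.Away (algebraMap B C g)) (AdicCompletion (((I.map (algebraMap A B)).map (algebraMap B C)).map (algebraMap C (Localization.Away (algebraMap B C g)))) (Localization.Away (algebraMap B C g))))) ≤ qg.asIdeal ∧ ∀ y : PrimeSpectrum (AdicCompletion (((I.map (algebraMap A B)).map (algebraMap B C)).map (algebraMap C (Localization.Away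 (algebraMap B C g)))) (Localization.Away (algebraMap B C g))), qg ≤ y → ¬ ((((I.map (algebraMap A B)).map (algebraMap B C)).map (algebraMap C (Localization.Away (algebraMap B C g)))).map (algebraMap (Localization.Away (algebraMap B C g)) (AdicCompletion (((I.map (algebraMap A B)).map (algebraMap B C)).map (algebraMap C (Localization.Away (algebraMap B C g)))) (Localization.Away (algebraMap B C g))))) ≤ y.asIdeal → y = qg) → ((algebraMap (AdicCompletion (((I.map (algebraMap A B)).map (algebraMap B C)).map (algebraMap C (Localization.Away (algebraMap B C g)))) (Localization.Away (algebraMap B C g))) (Localization.AtPrime qg.asIdeal)).comp ψg).Flat)) : (∀ e : A, ∀ ψe : (AdicCompletion (I.map (algebraMap A (Localization.Away e))) (Localization.Away e)) →+* (AdicCompletion ((I.map (algebraMap A C)).map (algebraMap C (Localization.Away (algebraMap A C e)))) (Localization.Away (algebraMap A C e))), ψe.comp (algebraMap (Localization.Away e) (AdicCompletion (I.map (algebraMap A (Localization.Away e))) (Localization.Away e))) = (algebraMap (Localization.Away (algebraMap A C e)) (AdicCompletion ((I.map (algebraMap A C)).map (algebraMap C (Localization.Away (algebraMap A C e)))) (Localization.Away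 (algebraMap A C e)))).comp (Localization.awayMap (algebraMap A C) e) → ∀ qe : PrimeSpectrum (AdicCompletion ((I.map (algebraMap A C)).map (algebraMap C (Localization.Away (algebraMap A C e)))) (Localization.Away (algebraMap A C e))), (¬ (((I.map (algebraMap A C)).map (algebraMap C (Localization.Away (algebraMap A C e)))).map (algebraMap (Localization.Away (algebraMap A C e)) (AdicCompletion ((I.map (algebraMap A C)).map (algebraMap C (Localization.Away (algebraMap A C e)))) (Localization.Away (algebraMap A C e))))) ≤ qe.asIdeal ∧ ∀ y : PrimeSpectrum (AdicCompletion ((I.map (algebraMap A C)).map (algebraMap C (Localization.Away (algebraMap A C e)))) (Localization.Away (algebraMap A C e))), qe ≤ y → ¬ (((I.map (algebraMap A C)).map (algebraMap C (Localization.Away (algebraMap A C e)))).map (algebraMap (Localization.Away (algebraMap A C e)) (AdicCompletion ((I.map (algebraMap A C)).map (algebraMap C (Localization.Away (algebraMap A C e)))) (Localization.Away (algebraMap A C e))))) ≤ y.asIdeal → y = qe) → ((algebraMap (AdicCompletion ((I.map (algebraMap A C)).map (algebraMap C (Localization.Away (algebraMap A C e)))) (Localization.Away (algebraMap A C e))) (Localization.AtPrime qe.asIdeal)).comp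 ψe).Flat) := by
  suffices key : ∀ (e : A) (c : C) (K : Ideal C), c = algebraMap B C (algebraMap A B e) →
      K = (I.map (algebraMap A B)).map (algebraMap B C) →
      ∀ ψe : (AdicCompletion (I.map (algebraMap A (Localization.Away e))) (Localization.Away e)) →+*
        (AdicCompletion (K.map (algebraMap C (Localization.Away c))) (Localization.Away c)),
      (∀ a : A, ψe (algebraMap (Localization.Away e) _ (algebraMap A _ a)) =
        algebraMap (Localization.Away c) _ (algebraMap C _ (algebraMap A C a))) →
      ∀ qe : PrimeSpectrum (AdicCompletion (K.map (algebraMap C (Localization.Away c))) (Localization.Away c)),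
      (¬ ((K.map (algebraMap C (Localization.Away c))).map (algebraMap (Localization.Away c) (AdicCompletion (K.map (algebraMap C (Localization.Away c))) (Localization.Away c)))) ≤ qe.asIdeal ∧
        ∀ y : PrimeSpectrum (AdicCompletion (K.map (algebraMap C (Localization.Away c))) (Localization.Away c)), qe ≤ y →
          ¬ ((K.map (algebraMap C (Localization.Away c))).map (algebraMap (Localization.Away c) (AdicCompletion (K.map (algebraMap C (Localization.Away c))) (Localization.Away c)))) ≤ y.asIdeal → y = qe) →
      ((algebraMap _ (Localization.AtPrime qe.asIdeal)).comp ψe).Flat by
    intro e ψe hψe qe hqe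
    refine key e _ _ (IsScalarTower.algebraMap_apply A B C e)
      (by rw [Ideal.map_map, ← IsScalarTower.algebraMap_eq]) ψe (fun a => ?_) qe hqe
    refine (RingHom.congr_fun hψe (algebraMap A (Localization.Away e) a)).trans ?_
    simp [Localization.awayMap, IsLocalization.Away.map, IsLocalization.map_eq]
  rintro e c K rfl rfl ψe hψe qe hqe
  have : IsNoetherianRing (Localization.Away e) := IsLocalization.isNoetherianRing (Submonoid.powers e) _ inferInstance
  have : IsNoetherianRing (Localization.Away (algebraMap A B e)) :=
    IsLocalization.isNoetherianRing (Submonoid.powers (algebraMap A B e)) _ inferInstance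
  have : IsNoetherianRing (Localization.Away (algebraMap B C (algebraMap A B e))) :=
    IsLocalization.isNoetherianRing (Submonoid.powers (algebraMap B C (algebraMap A B e))) _ inferInstance
  refine RigPt7.flat_comp_completions _ _ _ (Localization.awayMap (algebraMap A B) e)
    (Localization.awayMap (algebraMap B C) (algebraMap A B e)) ?_ ?_ (hAB e) (hBC (algebraMap A B e)) ψe ?_ qe hqe
  · show _ = Ideal.map _ (I.map (algebraMap A B))
    rw [Ideal.map_map, Ideal.map_map]
    exact congrArg (fun φ => Ideal.map φ I) (IsLocalization.map_comp _)
  · generalize I.map (algebraMap A B) = J
    rw [Ideal.map_map, Ideal.map_map]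
    exact congrArg (fun φ => Ideal.map φ J) (IsLocalization.map_comp _)
  · refine IsLocalization.ringHom_ext (Submonoid.powers e) (RingHom.ext fun a => ?_)
    refine (hψe a).trans ?_
    simp [Localization.awayMap, IsLocalization.Away.map, IsLocalization.map_eq, IsScalarTower.algebraMap_apply A B C]

end Groth.Agent.S8843
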