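import Groth.Statements.S8844
import Groth.Agent.RigPt7.Descent
-- import your own Groth.Agent.* helpers here

set_option autoImplicit false
universe u
open AdicRing

namespace Groth.Agent.S8844

/-- Consider a commutative square of adic Noetherian topological rings with all maps adic and
topologically of finite type: A a Noetherian ring complete for the adic topology of an ideal I; B,
A' and B' Noetherian algebras complete for the IB-, IA'- and IB'-adic topologies, B' an algebra over
B and over A' compatibly with A, with B/IB and A'/IA' of finite type over A and B'/IB' of finite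
type over B and over A'. Assume A → A' is flat and B → B' is faithfully flat. If A' → B' is rig-flat
— for every f' ∈ A', every ring map A'_{f'} → B'_{f'} of completed principal localizations
compatible with the map of ordinary localizations A'[1/f'] → B'[1/f'] (there is exactly one), and
every rig-closed prime q of B'_{f'} (I B'_{f'} ⊄ q and q maximal among the primes not containing I
B'_{f'}), the local ring (B'_{f'})_q is flat over A'_{f'} — then A → B is rig-flat in the same form:
for every f ∈ A, every ring map A_{f} → B_{f} of completed principal localizations compatible with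
the map of ordinary localizations A[1/f] → B[1/f], and every rig-closed prime q of B_{f}, the local
ring (B_{f})_q is flat over A_{f}. -/
theorem result (A : Type u) [CommRing A] [IsNoetherianRing A] (I : Ideal A) [IsAdicComplete I A] (B : Type u) [CommRing B] [Algebra A B] [IsNoetherianRing B] [IsAdicComplete (I.map (algebraMap A B)) B] (hftB : Algebra.FiniteType A (B ⧸ (I.map (algebraMap A B)))) (A' : Type u) [CommRing A'] [Algebra A A'] [IsNoetherianRing A'] [IsAdicComplete (I.map (algebraMap A A')) A'] (hftA' : Algebra.FiniteType A (A' ⧸ (I.map (algebraMap A A')))) (B' : Type u) [CommRing B'] [Algebra A B'] [Algebra B B'] [Algebra A' B'] [IsScalarTower A B B'] [IsScalarTower A A' B'] [IsNoetherianRing B'] [IsAdicComplete (I.map (algebraMap A B')) B'] (hftB'B : Algebra.FiniteType B (B' ⧸ (I.map (algebraMap A B')))) (hftB'A' : Algebra.FiniteType A' (B' ⧸ (I.map (algebraMap A B')))) [Module.Flat A A'] [Module.FaithfullyFlat B B'] (hA'B' : (∀ f' : A', ∀ ψf' : (AdicCompletion ((I.map (algebraMap A A')).map (algebraMap A' (Localization.Away f'))) (Localization.Away f')) →+* (AdicCompletion (((I.map (algebraMap A A')).map (algebraMap A' B')).map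 (algebraMap B' (Localization.Away (algebraMap A' B' f')))) (Localization.Away (algebraMap A' B' f'))), ψf'.comp (algebraMap (Localization.Away f') (AdicCompletion ((I.map (algebraMap A A')).map (algebraMap A' (Localization.Away f'))) (Localization.Away f'))) = (algebraMap (Localization.Away (algebraMap A' B' f')) (AdicCompletion (((I.map (algebraMap A A')).map (algebraMap A' B')).map (algebraMap B' (Localization.Away (algebraMap A' B' f')))) (Localization.Away (algebraMap A' B' f')))).comp (Localization.awayMap (algebraMap A' B') f') → ∀ qf' : PrimeSpectrum (AdicCompletion (((I.map (algebraMap A A')).map (algebraMap A' B')).map (algebraMap B' (Localization.Away (algebraMap A' B' f')))) (Localization.Away (algebraMap A' B' f'))), (¬ ((((I.map (algebraMap A A')).map (algebraMap A' B')).map (algebraMap B' (Localization.Away (algebraMap A' B' f')))).map (algebraMap (Localization.Away (algebraMap A' B' f')) (AdicCompletion (((I.map (algebraMap A A')).map (algebraMap A' B')).map (algebraMap B' (Localization.Away (algebraMap A' B' f')))) (Localization.Away (algebraMap A' B' f'))))) ≤ qf'.asIdeal ∧ ∀ y : PrimeSpectrum (AdicCompletion (((I.map (algebraMap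 A A')).map (algebraMap A' B')).map (algebraMap B' (Localization.Away (algebraMap A' B' f')))) (Localization.Away (algebraMap A' B' f'))), qf' ≤ y → ¬ ((((I.map (algebraMap A A')).map (algebraMap A' B')).map (algebraMap B' (Localization.Away (algebraMap A' B' f')))).map (algebraMap (Localization.Away (algebraMap A' B' f')) (AdicCompletion (((I.map (algebraMap A A')).map (algebraMap A' B')).map (algebraMap B' (Localization.Away (algebraMap A' B' f')))) (Localization.Away (algebraMap A' B' f'))))) ≤ y.asIdeal → y = qf') → ((algebraMap (AdicCompletion (((I.map (algebraMap A A')).map (algebraMap A' B')).map (algebraMap B' (Localization.Away (algebraMap A' B' f')))) (Localization.Away (algebraMap A' B' f'))) (Localization.AtPrime qf'.asIdeal)).comp ψf').Flat)) : (∀ f : A, ∀ ψf : (AdicCompletion (I.map (algebraMap A (Localization.Away f))) (Localization.Away f)) →+* (AdicCompletion ((I.map (algebraMap A B)).map (algebraMap B (Localization.Away (algebraMap A B f)))) (Localization.Away (algebraMap A B f))), ψf.comp (algebraMap (Localization.Away f) (AdicCompletion (I.map (algebraMap A (Localization.Away f))) (Localization.Away f))) = (algebraMap (Localization.Away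 (algebraMap A B f)) (AdicCompletion ((I.map (algebraMap A B)).map (algebraMap B (Localization.Away (algebraMap A B f)))) (Localization.Away (algebraMap A B f)))).comp (Localization.awayMap (algebraMap A B) f) → ∀ qf : PrimeSpectrum (AdicCompletion ((I.map (algebraMap A B)).map (algebraMap B (Localization.Away (algebraMap A B f)))) (Localization.Away (algebraMap A B f))), (¬ (((I.map (algebraMap A B)).map (algebraMap B (Localization.Away (algebraMap A B f)))).map (algebraMap (Localization.Away (algebraMap A B f)) (AdicCompletion ((I.map (algebraMap A B)).map (algebraMap B (Localization.Away (algebraMap A B f)))) (Localization.Away (algebraMap A B f))))) ≤ qf.asIdeal ∧ ∀ y : PrimeSpectrum (AdicCompletion ((I.map (algebraMap A B)).map (algebraMap B (Localization.Away (algebraMap A B f)))) (Localization.Away (algebraMap A B f))), qf ≤ y → ¬ (((I.map (algebraMap A B)).map (algebraMap B (Localization.Away (algebraMap A B f)))).map (algebraMap (Localization.Away (algebraMap A B f)) (AdicCompletion ((I.map (algebraMap A B)).map (algebraMap B (Localization.Away (algebraMap A B f)))) (Localization.Away (algebraMap A B f))))) ≤ y.asIdeal → y = qf) → ((algebraMap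 (AdicCompletion ((I.map (algebraMap A B)).map (algebraMap B (Localization.Away (algebraMap A B f)))) (Localization.Away (algebraMap A B f))) (Localization.AtPrime qf.asIdeal)).comp ψf).Flat) := by
  intro f ψf hψf qf hqf
  let g := algebraMap A B f
  let f' := algebraMap A A' f
  suffices gen : ∀ (c : B') (K : Ideal B'), c = algebraMap B B' g → K = (I.map (algebraMap A B)).map (algebraMap B B') →
      ∀ (u' : Localization.Away f' →+* Localization.Away c),
      u'.comp (algebraMap A' _) = (algebraMap B' (Localization.Away c)).comp (algebraMap A' B') →
      (∀ ψ : AdicCompletion ((I.map (algebraMap A A')).map (algebraMap A' (Localization.Away f'))) (Localization.Away f') →+*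
          AdicCompletion (K.map (algebraMap B' (Localization.Away c))) (Localization.Away c),
        ψ.comp (algebraMap _ _) = (algebraMap (Localization.Away c) _).comp u' →
        ∀ q : PrimeSpectrum (AdicCompletion (K.map (algebraMap B' (Localization.Away c))) (Localization.Away c)),
        (¬ (K.map (algebraMap B' (Localization.Away c))).map (algebraMap (Localization.Away c) _) ≤ q.asIdeal ∧
          ∀ y, q ≤ y → ¬ (K.map (algebraMap B' (Localization.Away c))).map (algebraMap (Localization.Away c) _) ≤ y.asIdeal → y = q) →
        ((algebraMap _ (Localization.AtPrime q.asIdeal)).comp ψ).Flat) →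
      ((algebraMap _ (Localization.AtPrime qf.asIdeal)).comp ψf).Flat by
    refine gen (algebraMap A' B' f') _ ?_ ?_ (Localization.awayMap (algebraMap A' B') f')
      (IsLocalization.map_comp _) (hA'B' f')
    · rw [← IsScalarTower.algebraMap_apply A A' B', ← IsScalarTower.algebraMap_apply A B B']
    · rw [Ideal.map_map, ← IsScalarTower.algebraMap_eq, Ideal.map_map, ← IsScalarTower.algebraMap_eq]
  rintro c K rfl rfl u' hu' h'
  have : IsNoetherianRing (Localization.Away f) := IsLocalization.isNoetherianRing (Submonoid.powers f) _ inferInstance
  have : IsNoetherianRing (Localization.Away f') := IsLocalization.isNoetherianRing (Submonoid.powers f') _ inferInstance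
  have : IsNoetherianRing (Localization.Away g) := IsLocalization.isNoetherianRing (Submonoid.powers g) _ inferInstance
  have : IsNoetherianRing (Localization.Away (algebraMap B B' g)) :=
    IsLocalization.isNoetherianRing (Submonoid.powers (algebraMap B B' g)) _ inferInstance
  let a := Localization.awayMap (algebraMap A A') f
  let u := Localization.awayMap (algebraMap A B) f
  let b := Localization.awayMap (algebraMap B B') g
  have ha1 : a.comp (algebraMap A (Localization.Away f)) =
      (algebraMap A' (Localization.Away f')).comp (algebraMap A A') := IsLocalization.map_comp _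
  have hb1 : b.comp (algebraMap B (Localization.Away g)) =
      (algebraMap B' (Localization.Away (algebraMap B B' g))).comp (algebraMap B B') := IsLocalization.map_comp _
  have hu1 : u.comp (algebraMap A (Localization.Away f)) =
      (algebraMap B (Localization.Away g)).comp (algebraMap A B) := IsLocalization.map_comp _
  refine RigPt7.flat_descent_completions _ _ _ _ a u' u b ?_ ?_ ?_ ?_ ?_ ?_ ?_ h' ψf hψf qf hqf.1
  · refine RigPt7.flat_of_flat_comp_algebraMap (Submonoid.powers f) a ?_
    rw [ha1]
    exact RingHom.Flat.comp (RingHom.flat_algebraMap_iff.mpr inferInstance)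
      (RingHom.flat_algebraMap_iff.mpr (IsLocalization.flat _ (Submonoid.powers f')))
  · refine RigPt7.flat_of_flat_comp_algebraMap (Submonoid.powers g) b ?_
    rw [hb1]
    exact RingHom.Flat.comp (RingHom.flat_algebraMap_iff.mpr inferInstance)
      (RingHom.flat_algebraMap_iff.mpr (IsLocalization.flat _ (Submonoid.powers (algebraMap B B' g))))
  · intro n hn
    let P := n.comap (algebraMap B (Localization.Away g))
    have := hn.comap (algebraMap B (Localization.Away g))
    obtain ⟨P', hP', hlo⟩ := Ideal.exists_isPrime_liesOver_of_faithfullyFlat (B := B') P
    have hdis : Disjoint ((Submonoid.powers (algebraMap B B' g) : Submonoid B') : Set B') (P' : Set B') := by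
      refine Set.disjoint_left.mpr ?_
      rintro _ ⟨k, rfl⟩ hk
      have h1 : g ^ k ∈ P := by
        rw [hlo.over, Ideal.mem_comap, map_pow]
        exact hk
      exact hn.ne_top (Ideal.eq_top_of_isUnit_mem _ (show algebraMap B (Localization.Away g) (g ^ k) ∈ n from h1)
        (by rw [map_pow]; exact (IsLocalization.Away.algebraMap_isUnit g).pow k))
    refine ⟨P'.map (algebraMap B' _), IsLocalization.isPrime_of_isPrime_disjoint (Submonoid.powers (algebraMap B B' g)) _ _ hP' hdis, ?_⟩
    rw [← IsLocalization.map_under (Submonoid.powers g) (Localization.Away g) n, Ideal.map_map, hb1, ← Ideal.map_map]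
    refine Ideal.map_mono (Ideal.map_le_iff_le_comap.mpr ?_)
    exact hlo.over.le
  · refine IsLocalization.ringHom_ext (Submonoid.powers f) ?_
    rw [RingHom.comp_assoc, ha1, ← RingHom.comp_assoc, hu', RingHom.comp_assoc, RingHom.comp_assoc, hu1,
      ← RingHom.comp_assoc _ _ b, hb1, RingHom.comp_assoc, ← IsScalarTower.algebraMap_eq A A' B', ← IsScalarTower.algebraMap_eq A B B']
  · rw [Ideal.map_map, ha1, ← Ideal.map_map]
  · rw [Ideal.map_map, hb1, ← Ideal.map_map]
  · rw [Ideal.map_map, hu1, ← Ideal.map_map]

end Groth.Agent.S8844
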