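import Groth.Statements.S8845
import Groth.Agent.RigPt7.EtaleBC
-- import your own Groth.Agent.* helpers here

set_option autoImplicit false
universe u
open AdicRing

namespace Groth.Agent.S8845

/-- Consider a commutative square of adic Noetherian topological rings with all maps adic and
topologically of finite type: A a Noetherian ring complete for the adic topology of an ideal I (the
ideal of definition used below); B, A' and B' Noetherian algebras complete for the IB-, IA'- and
IB'-adic topologies, B' an algebra over B and over A' compatibly with A, with B/IB and A'/IA' of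
finite type over A and B'/IB' of finite type over B and over A'. Assume A → A' and B → B' are flat
and A/I → A'/IA' is étale. If A → B is rig-flat — for every f ∈ A, every ring map ψ : A_{f} → B_{f}
of completed principal localizations compatible with the map of ordinary localizations A[1/f] →
B[1/f] (there is exactly one), and every rig-closed prime q of B_{f} (I B_{f} ⊄ q and q maximal
among the primes not containing I B_{f}), the local ring (B_{f})_q is flat over A_{f} via ψ — then
A' → B' is rig-flat in the same form: for every f' ∈ A', every ring map A'_{f'} → B'_{f'} of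
completed principal localizations compatible with the map of ordinary localizations A'[1/f'] →
B'[1/f'], and every rig-closed prime q' of B'_{f'}, the local ring (B'_{f'})_{q'} is flat over
A'_{f'}. -/
theorem result (A : Type u) [CommRing A] [IsNoetherianRing A] (I : Ideal A) [IsAdicComplete I A] (B : Type u) [CommRing B] [Algebra A B] [IsNoetherianRing B] [IsAdicComplete (I.map (algebraMap A B)) B] (hftB : Algebra.FiniteType A (B ⧸ (I.map (algebraMap A B)))) (A' : Type u) [CommRing A'] [Algebra A A'] [IsNoetherianRing A'] [IsAdicComplete (I.map (algebraMap A A')) A'] (hftA' : Algebra.FiniteType A (A' ⧸ (I.map (algebraMap A A')))) (B' : Type u) [CommRing B'] [Algebra A B'] [Algebra B B'] [Algebra A' B'] [IsScalarTower A B B'] [IsScalarTower A A' B'] [IsNoetherianRing B'] [IsAdicComplete (I.map (algebraMap A B')) B'] (hftB'B : Algebra.FiniteType B (B' ⧸ (I.map (algebraMap A B')))) (hftB'A' : Algebra.FiniteType A' (B' ⧸ (I.map (algebraMap A B')))) [Module.Flat A A'] [Module.Flat B B'] [Algebra.Etale (A ⧸ I) (A' ⧸ (I.map (algebraMap A A')))] (hAB : (∀ f : A, ∀ ψf : (AdicCompletion (I.map (algebraMap A (Localization.Away f))) (Localization.Away f)) →+*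 (AdicCompletion ((I.map (algebraMap A B)).map (algebraMap B (Localization.Away (algebraMap A B f)))) (Localization.Away (algebraMap A B f))), ψf.comp (algebraMap (Localization.Away f) (AdicCompletion (I.map (algebraMap A (Localization.Away f))) (Localization.Away f))) = (algebraMap (Localization.Away (algebraMap A B f)) (AdicCompletion ((I.map (algebraMap A B)).map (algebraMap B (Localization.Away (algebraMap A B f)))) (Localization.Away (algebraMap A B f)))).comp (Localization.awayMap (algebraMap A B) f) → ∀ qf : PrimeSpectrum (AdicCompletion ((I.map (algebraMap A B)).map (algebraMap B (Localization.Away (algebraMap A B f)))) (Localization.Away (algebraMap A B f))), (¬ (((I.map (algebraMap A B)).map (algebraMap B (Localization.Away (algebraMap A B f)))).map (algebraMap (Localization.Away (algebraMap A B f)) (AdicCompletion ((I.map (algebraMap A B)).map (algebraMap B (Localization.Away (algebraMap A B f)))) (Localization.Away (algebraMap A B f))))) ≤ qf.asIdeal ∧ ∀ y : PrimeSpectrum (AdicCompletion ((I.map (algebraMap A B)).map (algebraMap B (Localization.Away (algebraMap A B f)))) (Localization.Away (algebraMap A B f))), qf ≤ y → ¬ (((I.map (algebraMap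 A B)).map (algebraMap B (Localization.Away (algebraMap A B f)))).map (algebraMap (Localization.Away (algebraMap A B f)) (AdicCompletion ((I.map (algebraMap A B)).map (algebraMap B (Localization.Away (algebraMap A B f)))) (Localization.Away (algebraMap A B f))))) ≤ y.asIdeal → y = qf) → ((algebraMap (AdicCompletion ((I.map (algebraMap A B)).map (algebraMap B (Localization.Away (algebraMap A B f)))) (Localization.Away (algebraMap A B f))) (Localization.AtPrime qf.asIdeal)).comp ψf).Flat)) : (∀ f' : A', ∀ ψf' : (AdicCompletion ((I.map (algebraMap A A')).map (algebraMap A' (Localization.Away f'))) (Localization.Away f')) →+* (AdicCompletion (((I.map (algebraMap A A')).map (algebraMap A' B')).map (algebraMap B' (Localization.Away (algebraMap A' B' f')))) (Localization.Away (algebraMap A' B' f'))), ψf'.comp (algebraMap (Localization.Away f') (AdicCompletion ((I.map (algebraMap A A')).map (algebraMap A' (Localization.Away f'))) (Localization.Away f'))) = (algebraMap (Localization.Away (algebraMap A' B' f')) (AdicCompletion (((I.map (algebraMap A A')).map (algebraMap A' B')).map (algebraMap B' (Localization.Away (algebraMap A' B' f')))) (Localization.Away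 (algebraMap A' B' f')))).comp (Localization.awayMap (algebraMap A' B') f') → ∀ qf' : PrimeSpectrum (AdicCompletion (((I.map (algebraMap A A')).map (algebraMap A' B')).map (algebraMap B' (Localization.Away (algebraMap A' B' f')))) (Localization.Away (algebraMap A' B' f'))), (¬ ((((I.map (algebraMap A A')).map (algebraMap A' B')).map (algebraMap B' (Localization.Away (algebraMap A' B' f')))).map (algebraMap (Localization.Away (algebraMap A' B' f')) (AdicCompletion (((I.map (algebraMap A A')).map (algebraMap A' B')).map (algebraMap B' (Localization.Away (algebraMap A' B' f')))) (Localization.Away (algebraMap A' B' f'))))) ≤ qf'.asIdeal ∧ ∀ y : PrimeSpectrum (AdicCompletion (((I.map (algebraMap A A')).map (algebraMap A' B')).map (algebraMap B' (Localization.Away (algebraMap A' B' f')))) (Localization.Away (algebraMap A' B' f'))), qf' ≤ y → ¬ ((((I.map (algebraMap A A')).map (algebraMap A' B')).map (algebraMap B' (Localization.Away (algebraMap A' B' f')))).map (algebraMap (Localization.Away (algebraMap A' B' f')) (AdicCompletion (((I.map (algebraMap A A')).map (algebraMap A' B')).map (algebraMap B' (Localization.Away (algebraMap A' B' f')))) (Localization.Away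 (algebraMap A' B' f'))))) ≤ y.asIdeal → y = qf') → ((algebraMap (AdicCompletion (((I.map (algebraMap A A')).map (algebraMap A' B')).map (algebraMap B' (Localization.Away (algebraMap A' B' f')))) (Localization.Away (algebraMap A' B' f'))) (Localization.AtPrime qf'.asIdeal)).comp ψf').Flat) := by
  intro f' ψf' hψ qf' hq
  have hu : Algebra.FormallyUnramified A (A' ⧸ I.map (algebraMap A A')) := Algebra.FormallyUnramified.comp A (A ⧸ I) _
  have hK : (I.map (algebraMap A A')).map (algebraMap A' B') = I.map (algebraMap A B') := RigPt7.map_algebraMap I
  refine RigPt7.rigFlat_of_etale_reduction A I B hftB A' hftA' hu B' hftB'B ?_ f' _ rfl _ hK _ rfl ψf' (fun a => ?_) qf'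
    ⟨fun h => hq.1 ((RigPt7.map_algebraMap _).le.trans h), fun y hy hy' => hq.2 y hy fun h => hy' ((RigPt7.map_algebraMap _).ge.trans h)⟩
  · intro f ψ hψA q _ hqI
    have : IsNoetherianRing (Localization.Away (algebraMap A B f)) :=
      IsLocalization.isNoetherianRing (Submonoid.powers (algebraMap A B f)) _ inferInstance
    have := FComplLib.isNoetherianRing_adicCompletion ((I.map (algebraMap A B)).map (algebraMap B (Localization.Away (algebraMap A B f))))
    refine RigPt7.flat_at_nonopen _ ψ (fun P hP => hAB f ψ ?_ P hP) q fun h => hqI ((RigPt7.map_algebraMap _).symm.le.trans h)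
    refine IsLocalization.ringHom_ext (Submonoid.powers f) (RingHom.ext fun a => ?_)
    refine (congrArg ψ (IsScalarTower.algebraMap_apply A (Localization.Away f) _ a).symm).trans ((hψA a).trans ?_)
    refine (IsScalarTower.algebraMap_apply B (Localization.Away (algebraMap A B f)) _ (algebraMap A B a)).trans ?_
    exact (congrArg (algebraMap (Localization.Away (algebraMap A B f)) _) (IsLocalization.map_eq _ a)).symm
  · refine (congrArg ψf' (IsScalarTower.algebraMap_apply A' (Localization.Away f') _ a)).trans
      ((RingHom.congr_fun hψ (algebraMap A' (Localization.Away f') a)).trans ?_)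
    refine Eq.trans ?_ (IsScalarTower.algebraMap_apply B' (Localization.Away (algebraMap A' B' f')) _ (algebraMap A' B' a)).symm
    exact congrArg (algebraMap (Localization.Away (algebraMap A' B' f')) _) (IsLocalization.map_eq _ a)

end Groth.Agent.S8845
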