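import Groth.Statements.S8846
import Groth.Agent.RigPt7.BaseChange
-- import your own Groth.Agent.* helpers here

set_option autoImplicit false
universe u
open scoped TensorProduct
open AdicRing

namespace Groth.Agent.S8846

/-- Let A be a Noetherian ring complete for the adic topology of an ideal I, and B a Noetherian
A-algebra complete for the IB-adic topology with B/IB of finite type over A (an adic morphism,
topologically of finite type, of adic Noetherian topological rings), and assume A → B is rig-flat in
the following form: for every f ∈ A, every ring map ψ : A_{f} → B_{f} of completed principal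
localizations compatible with A_f → B_f (there is exactly one), and every rig-closed prime q of
B_{f} (I B_{f} ⊄ q and q maximal among the primes not containing I B_{f}), the local ring (B_{f})_q
is flat over A_{f} via ψ. Let C be a Noetherian A-algebra complete for the IC-adic topology with
C/IC of finite type over A (A → C adic and topologically of finite type), and let D be the completed
tensor product B ⊗̂_A C, i.e. the I-adic completion of C ⊗_A B, viewed as a C-algebra. Then C → D is
rig-flat in the same form: for every h ∈ C, every ring map C_{h} → D_{h} compatible with C_h → D_h,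
and every rig-closed prime q of D_{h}, the local ring (D_{h})_q is flat over C_{h}. (That D is
Noetherian and C → D adic and topologically of finite type is not restated.) -/
theorem result (A : Type u) [CommRing A] [IsNoetherianRing A] (I : Ideal A) [IsAdicComplete I A] (B : Type u) [CommRing B] [Algebra A B] [IsNoetherianRing B] [IsAdicComplete (I.map (algebraMap A B)) B] (hft : Algebra.FiniteType A (B ⧸ (I.map (algebraMap A B)))) (hAB : (∀ f : A, ∀ ψf : (AdicCompletion (I.map (algebraMap A (Localization.Away f))) (Localization.Away f)) →+* (AdicCompletion ((I.map (algebraMap A B)).map (algebraMap B (Localization.Away (algebraMap A B f)))) (Localization.Away (algebraMap A B f))), ψf.comp (algebraMap (Localization.Away f) (AdicCompletion (I.map (algebraMap A (Localization.Away f))) (Localization.Away f))) = (algebraMap (Localization.Away (algebraMap A B f)) (AdicCompletion ((I.map (algebraMap A B)).map (algebraMap B (Localization.Away (algebraMap A B f)))) (Localization.Away (algebraMap A B f)))).comp (Localization.awayMap (algebraMap A B) f) → ∀ qf : PrimeSpectrum (AdicCompletion ((I.map (algebraMap A B)).map (algebraMap B (Localization.Away (algebraMap A B f)))) (Localization.Away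 (algebraMap A B f))), (¬ (((I.map (algebraMap A B)).map (algebraMap B (Localization.Away (algebraMap A B f)))).map (algebraMap (Localization.Away (algebraMap A B f)) (AdicCompletion ((I.map (algebraMap A B)).map (algebraMap B (Localization.Away (algebraMap A B f)))) (Localization.Away (algebraMap A B f))))) ≤ qf.asIdeal ∧ ∀ y : PrimeSpectrum (AdicCompletion ((I.map (algebraMap A B)).map (algebraMap B (Localization.Away (algebraMap A B f)))) (Localization.Away (algebraMap A B f))), qf ≤ y → ¬ (((I.map (algebraMap A B)).map (algebraMap B (Localization.Away (algebraMap A B f)))).map (algebraMap (Localization.Away (algebraMap A B f)) (AdicCompletion ((I.map (algebraMap A B)).map (algebraMap B (Localization.Away (algebraMap A B f)))) (Localization.Away (algebraMap A B f))))) ≤ y.asIdeal → y = qf) → ((algebraMap (AdicCompletion ((I.map (algebraMap A B)).map (algebraMap B (Localization.Away (algebraMap A B f)))) (Localization.Away (algebraMap A B f))) (Localization.AtPrime qf.asIdeal)).comp ψf).Flat)) (C : Type u) [CommRing C] [Algebra A C] [IsNoetherianRing C] [IsAdicComplete (I.map (algebraMap A C)) C] (hftC : Algebra.FiniteType A (C ⧸ (I.map (algebraMap A C)))) : (∀ h : C,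 ∀ ψh : (AdicCompletion ((I.map (algebraMap A C)).map (algebraMap C (Localization.Away h))) (Localization.Away h)) →+* (AdicCompletion (((I.map (algebraMap A C)).map (algebraMap C (AdicCompletion ((I.map (algebraMap A C)).map (algebraMap C (TensorProduct A C B))) (TensorProduct A C B)))).map (algebraMap (AdicCompletion ((I.map (algebraMap A C)).map (algebraMap C (TensorProduct A C B))) (TensorProduct A C B)) (Localization.Away (algebraMap C (AdicCompletion ((I.map (algebraMap A C)).map (algebraMap C (TensorProduct A C B))) (TensorProduct A C B)) h)))) (Localization.Away (algebraMap C (AdicCompletion ((I.map (algebraMap A C)).map (algebraMap C (TensorProduct A C B))) (TensorProduct A C B)) h))), ψh.comp (algebraMap (Localization.Away h) (AdicCompletion ((I.map (algebraMap A C)).map (algebraMap C (Localization.Away h))) (Localization.Away h))) = (algebraMap (Localization.Away (algebraMap C (AdicCompletion ((I.map (algebraMap A C)).map (algebraMap C (TensorProduct A C B))) (TensorProduct A C B)) h)) (AdicCompletion (((I.map (algebraMap A C)).map (algebraMap C (AdicCompletion ((I.map (algebraMap A C)).map (algebraMap C (TensorProduct A C B))) (TensorProduct A C B)))).map (algebraMap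 (AdicCompletion ((I.map (algebraMap A C)).map (algebraMap C (TensorProduct A C B))) (TensorProduct A C B)) (Localization.Away (algebraMap C (AdicCompletion ((I.map (algebraMap A C)).map (algebraMap C (TensorProduct A C B))) (TensorProduct A C B)) h)))) (Localization.Away (algebraMap C (AdicCompletion ((I.map (algebraMap A C)).map (algebraMap C (TensorProduct A C B))) (TensorProduct A C B)) h)))).comp (Localization.awayMap (algebraMap C (AdicCompletion ((I.map (algebraMap A C)).map (algebraMap C (TensorProduct A C B))) (TensorProduct A C B))) h) → ∀ qh : PrimeSpectrum (AdicCompletion (((I.map (algebraMap A C)).map (algebraMap C (AdicCompletion ((I.map (algebraMap A C)).map (algebraMap C (TensorProduct A C B))) (TensorProduct A C B)))).map (algebraMap (AdicCompletion ((I.map (algebraMap A C)).map (algebraMap C (TensorProduct A C B))) (TensorProduct A C B)) (Localization.Away (algebraMap C (AdicCompletion ((I.map (algebraMap A C)).map (algebraMap C (TensorProduct A C B))) (TensorProduct A C B)) h)))) (Localization.Away (algebraMap C (AdicCompletion ((I.map (algebraMap A C)).map (algebraMap C (TensorProduct A C B))) (TensorProduct A C B)) h))), (¬ ((((I.map (algebraMap A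 C)).map (algebraMap C (AdicCompletion ((I.map (algebraMap A C)).map (algebraMap C (TensorProduct A C B))) (TensorProduct A C B)))).map (algebraMap (AdicCompletion ((I.map (algebraMap A C)).map (algebraMap C (TensorProduct A C B))) (TensorProduct A C B)) (Localization.Away (algebraMap C (AdicCompletion ((I.map (algebraMap A C)).map (algebraMap C (TensorProduct A C B))) (TensorProduct A C B)) h)))).map (algebraMap (Localization.Away (algebraMap C (AdicCompletion ((I.map (algebraMap A C)).map (algebraMap C (TensorProduct A C B))) (TensorProduct A C B)) h)) (AdicCompletion (((I.map (algebraMap A C)).map (algebraMap C (AdicCompletion ((I.map (algebraMap A C)).map (algebraMap C (TensorProduct A C B))) (TensorProduct A C B)))).map (algebraMap (AdicCompletion ((I.map (algebraMap A C)).map (algebraMap C (TensorProduct A C B))) (TensorProduct A C B)) (Localization.Away (algebraMap C (AdicCompletion ((I.map (algebraMap A C)).map (algebraMap C (TensorProduct A C B))) (TensorProduct A C B)) h)))) (Localization.Away (algebraMap C (AdicCompletion ((I.map (algebraMap A C)).map (algebraMap C (TensorProduct A C B))) (TensorProduct A C B)) h))))) ≤ qh.asIdeal ∧ ∀ y : PrimeSpectrum (AdicCompletion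 (((I.map (algebraMap A C)).map (algebraMap C (AdicCompletion ((I.map (algebraMap A C)).map (algebraMap C (TensorProduct A C B))) (TensorProduct A C B)))).map (algebraMap (AdicCompletion ((I.map (algebraMap A C)).map (algebraMap C (TensorProduct A C B))) (TensorProduct A C B)) (Localization.Away (algebraMap C (AdicCompletion ((I.map (algebraMap A C)).map (algebraMap C (TensorProduct A C B))) (TensorProduct A C B)) h)))) (Localization.Away (algebraMap C (AdicCompletion ((I.map (algebraMap A C)).map (algebraMap C (TensorProduct A C B))) (TensorProduct A C B)) h))), qh ≤ y → ¬ ((((I.map (algebraMap A C)).map (algebraMap C (AdicCompletion ((I.map (algebraMap A C)).map (algebraMap C (TensorProduct A C B))) (TensorProduct A C B)))).map (algebraMap (AdicCompletion ((I.map (algebraMap A C)).map (algebraMap C (TensorProduct A C B))) (TensorProduct A C B)) (Localization.Away (algebraMap C (AdicCompletion ((I.map (algebraMap A C)).map (algebraMap C (TensorProduct A C B))) (TensorProduct A C B)) h)))).map (algebraMap (Localization.Away (algebraMap C (AdicCompletion ((I.map (algebraMap A C)).map (algebraMap C (TensorProduct A C B))) (TensorProduct A C B)) h)) (AdicCompletion (((I.map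 (algebraMap A C)).map (algebraMap C (AdicCompletion ((I.map (algebraMap A C)).map (algebraMap C (TensorProduct A C B))) (TensorProduct A C B)))).map (algebraMap (AdicCompletion ((I.map (algebraMap A C)).map (algebraMap C (TensorProduct A C B))) (TensorProduct A C B)) (Localization.Away (algebraMap C (AdicCompletion ((I.map (algebraMap A C)).map (algebraMap C (TensorProduct A C B))) (TensorProduct A C B)) h)))) (Localization.Away (algebraMap C (AdicCompletion ((I.map (algebraMap A C)).map (algebraMap C (TensorProduct A C B))) (TensorProduct A C B)) h))))) ≤ y.asIdeal → y = qh) → ((algebraMap (AdicCompletion (((I.map (algebraMap A C)).map (algebraMap C (AdicCompletion ((I.map (algebraMap A C)).map (algebraMap C (TensorProduct A C B))) (TensorProduct A C B)))).map (algebraMap (AdicCompletion ((I.map (algebraMap A C)).map (algebraMap C (TensorProduct A C B))) (TensorProduct A C B)) (Localization.Away (algebraMap C (AdicCompletion ((I.map (algebraMap A C)).map (algebraMap C (TensorProduct A C B))) (TensorProduct A C B)) h)))) (Localization.Away (algebraMap C (AdicCompletion ((I.map (algebraMap A C)).map (algebraMap C (TensorProduct A C B))) (TensorProduct A C B)) h))) (Localization.AtPrime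 qh.asIdeal)).comp ψh).Flat) := by
  intro h ψh hψ qh hq
  refine RigPt7.rigFlat_baseChange A I B hft ?_ C hftC h
    (AdicCompletion ((I.map (algebraMap A C)).map (algebraMap C (TensorProduct A C B))) (TensorProduct A C B))
    _ rfl (RingHom.id _) Function.bijective_id (fun _ => rfl) _ rfl _ rfl ψh (fun x => ?_) qh
    ⟨fun hle => hq.1 ((RigPt7.map_algebraMap _).le.trans hle),
      fun y hy hy' => hq.2 y hy fun hle => hy' ((RigPt7.map_algebraMap _).ge.trans hle)⟩
  · intro f ψ hψA q _ hqI
    have : IsNoetherianRing (Localization.Away (algebraMap A B f)) :=
      IsLocalization.isNoetherianRing (Submonoid.powers (algebraMap A B f)) _ inferInstance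
    have := FComplLib.isNoetherianRing_adicCompletion ((I.map (algebraMap A B)).map (algebraMap B (Localization.Away (algebraMap A B f))))
    refine RigPt7.flat_at_nonopen _ ψ (fun P hP => hAB f ψ ?_ P hP) q fun h => hqI ((RigPt7.map_algebraMap _).symm.le.trans h)
    refine IsLocalization.ringHom_ext (Submonoid.powers f) (RingHom.ext fun a => ?_)
    refine (congrArg ψ (IsScalarTower.algebraMap_apply A (Localization.Away f) _ a).symm).trans ((hψA a).trans ?_)
    refine (IsScalarTower.algebraMap_apply B (Localization.Away (algebraMap A B f)) _ (algebraMap A B a)).trans ?_
    exact (congrArg (algebraMap (Localization.Away (algebraMap A B f)) _) (IsLocalization.map_eq _ a)).symm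
  · refine (congrArg ψh (IsScalarTower.algebraMap_apply C (Localization.Away h) _ x)).trans
      ((RingHom.congr_fun hψ (algebraMap C (Localization.Away h) x)).trans ?_)
    refine Eq.trans ?_ (IsScalarTower.algebraMap_apply _ (Localization.Away (algebraMap C (AdicCompletion ((I.map (algebraMap A C)).map (algebraMap C (TensorProduct A C B))) (TensorProduct A C B)) h)) _ _).symm
    rw [RingHom.comp_apply]
    congr 1
    exact IsLocalization.map_eq _ x

end Groth.Agent.S8846
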