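import Groth.Statements.S8847
import Groth.Agent.MeroX.FibreCartier
-- import your own Groth.Agent.* helpers here

set_option autoImplicit false
universe u
open CategoryTheory CategoryTheory.Limits AlgebraicGeometry TopologicalSpace
open SDiv

namespace Groth.Agent.S8847

/-- Let φ : X ⟶ S be flat and locally of finite presentation and let 𝓘 be a quasi-coherent ideal sheaf
on X whose closed subscheme Z is flat and locally of finite presentation over S. If for every point
s of S the inverse image ideal of 𝓘 on the scheme-theoretic fibre X_s is the ideal sheaf of an
effective Cartier divisor of X_s, then 𝓘 is the ideal sheaf of an effective Cartier divisor of X;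
together with the flatness of Z over S this says Z is a relative effective Cartier divisor. -/
theorem result {X S : Scheme.{u}} (φ : X ⟶ S) [Flat φ] [LocallyOfFinitePresentation φ]
    (𝓘 : X.IdealSheafData) [Flat (𝓘.subschemeι ≫ φ)] [LocallyOfFinitePresentation (𝓘.subschemeι ≫ φ)]
    (hfib : ∀ s : ↥S, BlowUp.IsEffCartierIdeal (𝓘.comap (φ.fiberι s))) :
    BlowUp.IsEffCartierIdeal 𝓘 := by
  exact MeroX.isEffCartier_of_fibres hfib

end Groth.Agent.S8847
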