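import Groth.Statements.S8850
import Mathlib.AlgebraicGeometry.Morphisms.Immersion
import Mathlib.AlgebraicGeometry.Morphisms.Proper
import Mathlib.AlgebraicGeometry.Noetherian
import Mathlib.AlgebraicGeometry.ZariskisMainTheorem
-- import your own Groth.Agent.* helpers here

set_option autoImplicit false
set_option backward.isDefEq.respectTransparency false
set_option backward.isDefEq.respectTransparency.types false
universe u
open CategoryTheory CategoryTheory.Limits AlgebraicGeometry TopologicalSpace
open SDiv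
open CategoryTheory CategoryTheory.Limits AlgebraicGeometry TopologicalSpace

namespace Groth.Agent.S8850

/-- Let S be a scheme, X a Noetherian S-scheme, Y a proper S-scheme, U ⊆ X an open subscheme and f : U ⟶
Y a morphism compatible with the structure morphisms to S. Then there are a proper morphism p : X' ⟶
X restricting to an isomorphism over U and an S-morphism f' : X' ⟶ Y whose restriction to p⁻¹(U) is
f composed with p. The published statement takes U dense, so that f is an S-rational map; this row
allows any open U, which its proof does not need. -/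
theorem result {X Y S : Scheme.{u}} [IsNoetherian X] (a : X ⟶ S) (b : Y ⟶ S)
    [IsProper b] (U : X.Opens) (f : (U : Scheme.{u}) ⟶ Y) (hf : f ≫ b = U.ι ≫ a) :
    ∃ (X' : Scheme.{u}) (p : X' ⟶ X) (f' : X' ⟶ Y), IsProper p ∧ IsIso (p ∣_ U) ∧ f' ≫ b = p ≫ a ∧
      (p ⁻¹ᵁ U).ι ≫ f' = (p ∣_ U) ≫ f := by
  classical
  haveI : IsProper b := inferInstance
  let w : U.ι ≫ a = f ≫ b := hf.symm
  let h := pullback.lift U.ι f w
  have h1 : h ≫ pullback.fst a b = U.ι := pullback.lift_fst ..
  haveI : IsNoetherian (U : Scheme.{u}) :=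
    { toIsLocallyNoetherian := isLocallyNoetherian_of_isOpenImmersion U.ι
      toCompactSpace := isCompact_iff_compactSpace.1 (NoetherianSpace.isCompact (U : Set X)) }
  haveI : IsLocallyNoetherian (pullback a b) :=
    LocallyOfFiniteType.isLocallyNoetherian (pullback.fst a b)
  haveI : QuasiCompact h := inferInstance
  haveI : IsImmersion (h ≫ pullback.fst a b) := by rw [h1]; infer_instance
  haveI : IsImmersion h := IsImmersion.of_comp h (pullback.fst a b)
  let p := h.imageι ≫ pullback.fst a b
  have hp : h.toImage ≫ p = U.ι := by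
    show h.toImage ≫ h.imageι ≫ pullback.fst a b = U.ι
    rw [Scheme.Hom.toImage_imageι_assoc, h1]
  let O := pullback.fst a b ⁻¹ᵁ U
  let h' : (U : Scheme.{u}) ⟶ O.toScheme := IsOpenImmersion.lift O.ι h (by
    rw [Scheme.Opens.range_ι]
    rintro _ ⟨x, rfl⟩
    show (h ≫ pullback.fst a b) x ∈ U
    rw [h1]; exact x.2)
  have hh' : h' ≫ O.ι = h := IsOpenImmersion.lift_fac _ _ _
  have hsec : h' ≫ (pullback.fst a b ∣_ U) = 𝟙 _ := by
    rw [← cancel_mono U.ι, Category.assoc, morphismRestrict_ι, reassoc_of% hh', h1, Category.id_comp]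
  haveI : IsClosedImmersion (h' ≫ (pullback.fst a b ∣_ U)) := by rw [hsec]; infer_instance
  haveI : IsClosedImmersion h' := IsClosedImmersion.of_comp h' (pullback.fst a b ∣_ U)
  let t : (U : Scheme.{u}) ⟶ (p ⁻¹ᵁ U).toScheme := IsOpenImmersion.lift (p ⁻¹ᵁ U).ι h.toImage (by
    rw [Scheme.Opens.range_ι]
    rintro _ ⟨x, rfl⟩
    show (h.toImage ≫ p) x ∈ U
    rw [hp]; exact x.2)
  have ht : t ≫ (p ⁻¹ᵁ U).ι = h.toImage := IsOpenImmersion.lift_fac _ _ _
  haveI : IsOpenImmersion (t ≫ (p ⁻¹ᵁ U).ι) := by rw [ht]; infer_instance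
  haveI : IsOpenImmersion t := IsOpenImmersion.of_comp t (p ⁻¹ᵁ U).ι
  haveI : Surjective t := ⟨fun z => by
    have hz : h.imageι z.1 ∈ closure (Set.range h) := by
      rw [← h.support_ker, ← Scheme.IdealSheafData.range_subschemeι]
      exact ⟨z.1, rfl⟩
    have hzO : h.imageι z.1 ∈ O := z.2
    have : (⟨_, hzO⟩ : O.toScheme) ∈ closure (Set.range h') := by
      rw [O.ι.isEmbedding.isInducing.closure_eq_preimage_closure_image, ← Set.range_comp]
      show O.ι ⟨_, hzO⟩ ∈ closure (Set.range fun x => O.ι (h' x))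
      rw [show (fun x => O.ι (h' x)) = fun x => h x from funext fun x => by
        rw [← Scheme.Hom.comp_apply, hh']]
      exact hz
    rw [h'.isClosedEmbedding.isClosed_range.closure_eq] at this
    obtain ⟨u, hu⟩ := this
    refine ⟨u, Subtype.ext (h.imageι.isEmbedding.injective ?_)⟩
    show (t ≫ (p ⁻¹ᵁ U).ι ≫ h.imageι) u = _
    rw [reassoc_of% ht, Scheme.Hom.toImage_imageι]
    exact (congrArg (fun m : (U : Scheme.{u}) ⟶ pullback a b => m u) hh').symm.trans
      (congrArg (fun w => O.ι w) hu)⟩
  haveI : IsIso t := (isIso_iff_isOpenImmersion_and_surjective t).2 ⟨inferInstance, inferInstance⟩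
  have htp : t ≫ (p ∣_ U) = 𝟙 _ := by
    rw [← cancel_mono U.ι, Category.assoc, morphismRestrict_ι, reassoc_of% ht, hp, Category.id_comp]
  refine ⟨h.image, p, h.imageι ≫ pullback.snd a b, inferInstance, ?_, ?_, ?_⟩
  · rw [show p ∣_ U = inv t by rw [← cancel_epi t, htp, IsIso.hom_inv_id]]
    infer_instance
  · simp only [p, Category.assoc, pullback.condition]
  · rw [← cancel_epi t, reassoc_of% ht, reassoc_of% htp, Scheme.Hom.toImage_imageι_assoc]
    exact pullback.lift_snd ..

end Groth.Agent.S8850
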