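import Groth.Statements.S8854
import Mathlib.RingTheory.Finiteness.Nakayama
import Mathlib.RingTheory.Ideal.Height


set_option autoImplicit false
universe u
open SDiv

namespace Groth.Agent.S8854

/-- Let R be a Noetherian unique factorisation domain and I ⊆ R an ideal such that every associated
prime of R/I is minimal over I (R/I has no embedded primes) and every prime minimal over I has
height 1. Then I is principal: it is generated by one element. -/
theorem result (R : Type u) [CommRing R] [IsDomain R] [IsNoetherianRing R]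
    [UniqueFactorizationMonoid R] (I : Ideal R)
    (h1 : ∀ p : Ideal R, p ∈ associatedPrimes R (R ⧸ I) → p ∈ I.minimalPrimes)
    (h2 : ∀ p : Ideal R, p ∈ I.minimalPrimes → p.height = 1) :
    ∃ f : R, I = Ideal.span {f} := by
  by_cases hI : I = ⊥
  · exact ⟨0, by rw [hI, Ideal.span_singleton_eq_bot.2 rfl]⟩
  let S : Set (Ideal R) := {J | ∃ g : R, g ≠ 0 ∧ I = Ideal.span {g} * J}
  obtain ⟨J, ⟨g, hg, hIJ⟩, hmax⟩ :=
    wellFounded_gt.has_min S ⟨I, 1, one_ne_zero, by rw [Ideal.span_singleton_one, Ideal.top_mul]⟩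
  refine ⟨g, ?_⟩
  by_cases hJ : J = ⊤
  · rw [hIJ, hJ, Ideal.mul_top]
  exfalso
  have hJ0 : J ≠ ⊥ := fun h => hI (by rw [hIJ, h, Ideal.mul_bot])
  obtain ⟨x, hxJ⟩ : ∃ x, x ∉ J := by
    by_contra hc
    push Not at hc
    exact hJ (top_unique fun y _ => hc y)
  obtain ⟨q, hq, -⟩ := exists_le_isAssociatedPrime_of_isNoetherianRing R (Ideal.Quotient.mk J x)
    (by rwa [Ne, Ideal.Quotient.eq_zero_iff_mem])
  let φ : (R ⧸ J) →ₗ[R] (R ⧸ I) := Submodule.mapQ J I (LinearMap.mulLeft R g) fun y hy => by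
    rw [Submodule.mem_comap, LinearMap.mulLeft_apply, hIJ, Ideal.mem_span_singleton_mul]
    exact ⟨y, hy, rfl⟩
  have hφ : Function.Injective φ := by
    rw [← LinearMap.ker_eq_bot, eq_bot_iff]
    intro y hy
    obtain ⟨y, rfl⟩ := Submodule.Quotient.mk_surjective J y
    rw [LinearMap.mem_ker, Submodule.mapQ_apply, Submodule.Quotient.mk_eq_zero, LinearMap.mulLeft_apply,
      hIJ, Ideal.mem_span_singleton_mul] at hy
    obtain ⟨z, hz, hzy⟩ := hy
    rw [Submodule.mem_bot, Submodule.Quotient.mk_eq_zero]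
    exact mul_left_cancel₀ hg hzy ▸ hz
  haveI := hq.isPrime
  have hJq : J ≤ q := fun y hy => hq.annihilator_le
    (Submodule.mem_annihilator.2 fun z _ => by
      obtain ⟨z, rfl⟩ := Submodule.Quotient.mk_surjective J z
      rw [← Submodule.Quotient.mk_smul, Submodule.Quotient.mk_eq_zero]
      exact J.mul_mem_right z hy)
  have hmin := h1 q (hq.map_of_injective φ hφ)
  obtain ⟨y, hy, hy0⟩ := Submodule.exists_mem_ne_zero_of_ne_bot
    (fun h => hJ0 (le_bot_iff.1 (h ▸ hJq)) : q ≠ ⊥)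
  obtain ⟨π, hπq, hπ⟩ := Ideal.IsPrime.exists_mem_prime_of_ne_bot ‹q.IsPrime› (fun h => hy0 (by simpa [h] using hy))
  have hqπ : q = Ideal.span {π} := by
    refine le_antisymm ?_ ((Ideal.span_singleton_le_iff_mem _).2 hπq)
    by_contra hle
    haveI : (Ideal.span {π}).IsPrime := (Ideal.span_singleton_prime hπ.ne_zero).2 hπ
    have hlt : Ideal.span {π} < q := lt_of_le_not_ge ((Ideal.span_singleton_le_iff_mem _).2 hπq) hle
    haveI : q.FiniteHeight := ⟨Or.inr (by rw [h2 q hmin]; exact ENat.one_ne_top)⟩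
    have h4 := Ideal.height_strict_mono_of_isPrime_of_isPrime hlt
    rw [h2 q hmin, Order.lt_one_iff] at h4
    haveI : (⊥ : Ideal R).IsPrime := Ideal.isPrime_bot
    haveI : (Ideal.span {π}).FiniteHeight := ⟨Or.inr (by rw [h4]; exact ENat.zero_ne_top)⟩
    have h5 := Ideal.height_strict_mono_of_isPrime_of_isPrime
      (bot_lt_iff_ne_bot.2 (fun h => hπ.ne_zero (Ideal.span_singleton_eq_bot.1 h)) : (⊥ : Ideal R) < Ideal.span {π})
    rw [h4] at h5
    exact not_lt_zero h5
  let J' : Ideal R := J.colon {π}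
  have hJ'J : J = Ideal.span {π} * J' := by
    refine le_antisymm (fun z hz => ?_) (Ideal.mul_le.2 fun r hr s hs => ?_)
    · obtain ⟨w, rfl⟩ := Ideal.mem_span_singleton.1 (hqπ ▸ hJq hz)
      refine Ideal.mem_span_singleton_mul.2 ⟨w, ?_, rfl⟩
      rw [Submodule.mem_colon_singleton, smul_eq_mul, mul_comm]
      exact hz
    · obtain ⟨w, rfl⟩ := Ideal.mem_span_singleton.1 hr
      rw [show π * w * s = w * (s * π) by ring]
      exact J.mul_mem_left _ (by simpa [J', Submodule.mem_colon_singleton] using hs)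
  have hmem : J' ∈ S := ⟨g * π, mul_ne_zero hg hπ.ne_zero, by
    rw [hIJ, hJ'J, ← Ideal.span_singleton_mul_span_singleton, mul_assoc]⟩
  have hle : J ≤ J' := fun z hz => by
    rw [Submodule.mem_colon_singleton, smul_eq_mul]; exact J.mul_mem_right π hz
  rcases hle.eq_or_lt with he | hlt
  · have h5 : Ideal.span {π} * J' = (⊤ : Ideal R) * J' := by rw [← hJ'J, Ideal.top_mul, he]
    have h6 : J' ≤ Ideal.span {π} • J' := by rw [smul_eq_mul, h5, Ideal.top_mul]
    obtain ⟨r, hr, hr0⟩ := Submodule.exists_sub_one_mem_and_smul_eq_zero_of_fg_of_le_smul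
      (Ideal.span {π}) J' (IsNoetherian.noetherian J') h6
    obtain ⟨w, hw, hw0⟩ := Submodule.exists_mem_ne_zero_of_ne_bot (he ▸ hJ0 : J' ≠ ⊥)
    have h7 : r = 0 := (mul_eq_zero.1 (hr0 w hw)).resolve_right hw0
    rw [h7, zero_sub, Ideal.neg_mem_iff, Ideal.mem_span_singleton] at hr
    exact hπ.not_unit (isUnit_of_dvd_one hr)
  · exact hmax J' hmem hlt

end Groth.Agent.S8854
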