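import Groth.Statements.S8857
import Groth.Agent.BlowUpLib.Glue
import Groth.Agent.BlowSep17.Basic
import Groth.Agent.MorLib.IdealFG
import Groth.Agent.S9823

set_option backward.isDefEq.respectTransparency false
set_option backward.isDefEq.respectTransparency.types false
set_option linter.style.haveILetI false
-- import your own Groth.Agent.* helpers here

set_option autoImplicit false
universe u
open CategoryTheory CategoryTheory.Limits AlgebraicGeometry TopologicalSpace
open SDiv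

namespace Groth.Agent.S8857

/-- A sub ideal sheaf of finite type with support still avoiding a quasi-compact open. -/
theorem exists_fg_sub {X : Scheme.{u}} [CompactSpace X] [QuasiSeparatedSpace X] (J : X.IdealSheafData)
    (U : X.Opens) (hU : IsCompact (U : Set X)) (hJ : Disjoint (J.support : Set X) (U : Set X)) :
    ∃ I : X.IdealSheafData, BlowUp.IsFiniteTypeIdeal I ∧ I ≤ J ∧ Disjoint (I.support : Set X) (U : Set X) := by
  classical
  have hpt : ∀ x : U, ∃ (V : X.affineOpens) (s : Γ(X, V.1)), s ∈ J.ideal V ∧ (x : X) ∈ X.basicOpen s := by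
    intro x
    obtain ⟨V, hV, hxV, -⟩ := exists_isAffineOpen_mem_and_subset (X := X) (x := x.1) (U := ⊤) trivial
    by_contra hne
    refine Set.disjoint_left.1 hJ ((BlowSep17.mem_support_iff_forall J ⟨V, hV⟩ hxV).mpr ?_) x.2
    exact fun s hs hxs => hne ⟨⟨V, hV⟩, s, hs, hxs⟩
  choose V s hs hxs using hpt
  obtain ⟨t, ht⟩ := hU.elim_finite_subcover (fun x : U => (X.basicOpen (s x) : Set X))
    (fun x => (X.basicOpen (s x)).2) (fun x hx => Set.mem_iUnion.mpr ⟨⟨x, hx⟩, hxs ⟨x, hx⟩⟩)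
  choose K hK using fun x : U => Groth.Agent.MorLib.IdealFG.exists_sub_mem J (V x) (hs x)
  obtain ⟨M, hM⟩ := Finset.exists_le (α := Groth.Agent.MorLib.IdealFG.Sub J) (t.image K)
  refine ⟨M.1, M.2.2, M.2.1, Set.disjoint_left.2 fun x hx hxU => ?_⟩
  obtain ⟨y, hy, hxy⟩ := Set.mem_iUnion₂.mp (ht hxU)
  have hxV : x ∈ (V y).1 := X.basicOpen_le _ hxy
  exact (BlowSep17.mem_support_iff_forall M.1 (V y) hxV).mp hx (s y)
    (Scheme.IdealSheafData.ideal_mono ((hM (K y) (Finset.mem_image_of_mem K hy)) : (K y).1 ≤ M.1) (V y) (hK y)) hxy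

/-- Let X be a quasi-compact and quasi-separated scheme, U, V ⊆ X quasi-compact open subschemes and 𝓘 a
quasi-coherent ideal sheaf on V which is of finite type with support disjoint from U ∩ V (a blowing
up of V in 𝓘 is a (U ∩ V)-admissible blow-up). Then there is a quasi-coherent ideal sheaf 𝓙 on X, of
finite type with support disjoint from U, whose restriction to V is 𝓘; and every blowing up of X in
𝓙 restricts over V to a blowing up of V in 𝓘 (the U-admissible blow-up of X extends the given one of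
V). -/
theorem result (X : Scheme.{u}) [CompactSpace ↥X] [QuasiSeparatedSpace ↥X]
    (U V : X.Opens) (hU : IsCompact (U : Set ↥X)) (hV : IsCompact (V : Set ↥X))
    (𝓘 : (V : Scheme.{u}).IdealSheafData) (h𝓘 : BlowUp.IsAdmissibleFor (V.ι ⁻¹ᵁ U) 𝓘) :
    ∃ 𝓙 : X.IdealSheafData, BlowUp.IsAdmissibleFor U 𝓙 ∧ 𝓙.comap V.ι = 𝓘 ∧
      ∀ (X' : Scheme.{u}) (c : X' ⟶ X), BlowUp.IsBlowUp c 𝓙 → BlowUp.IsBlowUp (c ∣_ V) 𝓘 := by
  classical
  haveI : QuasiCompact V.ι := by
    haveI : CompactSpace V.toScheme := isCompact_iff_compactSpace.1 hV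
    exact quasiCompact_of_compactSpace V.ι
  let K := 𝓘.map V.ι
  have hK : K.comap V.ι = 𝓘 := MorLib.IdealFG.comap_map_self V.ι 𝓘
  have hKd : Disjoint (K.support : Set X) (U : Set X) := by
    rw [Scheme.IdealSheafData.support_map]
    refine Set.disjoint_left.2 fun x hx hxU => ?_
    obtain ⟨y, hyU, z, hz, hzy⟩ := mem_closure_iff.1 hx _ U.2 hxU
    subst hzy
    exact Set.disjoint_left.1 h𝓘.2 hz hyU
  have hVfg : ∀ W : X.affineOpens, W.1 ≤ V → (K.ideal W).FG := by
    intro W hW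
    let W' : V.toScheme.affineOpens := ⟨V.ι ⁻¹ᵁ W.1, W.2.preimage_of_isOpenImmersion V.ι (by rwa [Scheme.Opens.opensRange_ι])⟩
    have e : V.ι ''ᵁ W'.1 = W.1 := by
      rw [Scheme.Hom.image_preimage_eq_opensRange_inf, Scheme.Opens.opensRange_ι]
      exact inf_eq_right.2 hW
    have h := h𝓘.1 W'
    rw [← hK, Scheme.IdealSheafData.ideal_comap_of_isOpenImmersion] at h
    have h' := h.map (V.ι.appIso W'.1).inv.hom
    rw [Ideal.map_comap_of_surjective _ (ConcreteCategory.bijective_of_isIso (V.ι.appIso W'.1).inv).2] at h'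
    exact MorLib.IdealFG.fg_congr e h'
  obtain ⟨s, hs, hcov⟩ := isCompact_iff_finite_and_eq_biUnion_affineOpens.mp hV
  have hsV : ∀ W ∈ s, W.1 ≤ V := fun W hW x hx => hcov.ge (TopologicalSpace.Opens.mem_iSup.2 ⟨W, TopologicalSpace.Opens.mem_iSup.2 ⟨hW, hx⟩⟩)
  choose KW hKWle hKWfg hKW using fun W : s =>
    MorLib.IdealFG.exists_fg_le K W.1 (K.ideal W.1) (hVfg W.1 (hsV W.1 W.2)) le_rfl
  haveI := hs.fintype
  let K₁ := Finset.univ.sup KW
  have hK₁le : K₁ ≤ K := Finset.sup_le fun W _ => hKWle W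
  have hK₁fg : ∀ W, (K₁.ideal W).FG := by
    refine Finset.sup_induction (p := fun J : X.IdealSheafData => ∀ W, (J.ideal W).FG) (fun W => ?_) (fun J hJ J' hJ' W => ?_) fun W _ => hKWfg W
    · rw [Scheme.IdealSheafData.ideal_bot, Pi.bot_apply]; exact Submodule.fg_bot
    · rw [Scheme.IdealSheafData.ideal_sup, Pi.sup_apply]
      exact Submodule.FG.sup (hJ W) (hJ' W)
  have hK₁ : ∀ (W : X.affineOpens) (hW : W ∈ s), K.ideal W ≤ K₁.ideal W := fun W hW =>
    (hKW ⟨W, hW⟩).trans (Scheme.IdealSheafData.ideal_mono (Finset.le_sup (Finset.mem_univ (⟨W, hW⟩ : s))) W)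
  obtain ⟨K₂, hK₂fg, hK₂le, hK₂d⟩ := exists_fg_sub K U hU hKd
  have hcomap : (K₁ ⊔ K₂).comap V.ι = 𝓘 := by
    refine le_antisymm ((Scheme.IdealSheafData.comap_mono V.ι (sup_le hK₁le hK₂le)).trans hK.le) ?_
    refine le_trans ?_ (Scheme.IdealSheafData.comap_mono V.ι le_sup_left)
    rw [← hK]
    refine Scheme.IdealSheafData.le_of_iSup_eq_top (fun W : s => (⟨V.ι ⁻¹ᵁ W.1.1,
      W.1.2.preimage_of_isOpenImmersion V.ι (by rw [Scheme.Opens.opensRange_ι]; exact hsV W.1 W.2)⟩ : V.toScheme.affineOpens))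
      (top_unique fun y _ => ?_) fun W => ?_
    · obtain ⟨W, hW'⟩ := TopologicalSpace.Opens.mem_iSup.1 (hcov.le y.2)
      obtain ⟨hW, hyW⟩ := TopologicalSpace.Opens.mem_iSup.1 hW'
      exact TopologicalSpace.Opens.mem_iSup.2 ⟨⟨W, hW⟩, hyW⟩
    · rw [ModPairLib.ideal_comap K V.ι W.1 _ le_rfl, ModPairLib.ideal_comap K₁ V.ι W.1 _ le_rfl]
      exact Ideal.map_mono (hK₁ W.1 W.2)
  refine ⟨K₁ ⊔ K₂, ⟨fun W => ?_, ?_⟩, hcomap, fun X' c hc => ?_⟩
  · rw [Scheme.IdealSheafData.ideal_sup, Pi.sup_apply]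
    exact Submodule.FG.sup (hK₁fg W) (hK₂fg W)
  · rw [Scheme.IdealSheafData.support_sup]
    exact Set.disjoint_left.2 fun x hx hxU => Set.disjoint_left.1 hK₂d hx.2 hxU
  · rw [← hcomap]
    exact BlowUpLib.isBlowUp_of_isPullback (isPullback_morphismRestrict c V) hc

end Groth.Agent.S8857
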