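import Groth.Statements.S8858
import Groth.Agent.BlowUpLib.Glue
import Groth.Agent.MorLib.IdealFG
import Groth.Agent.S1683

set_option backward.isDefEq.respectTransparency false
set_option backward.isDefEq.respectTransparency.types false
set_option linter.style.haveILetI false
-- import your own Groth.Agent.* helpers here

set_option autoImplicit false
universe u
open CategoryTheory CategoryTheory.Limits AlgebraicGeometry TopologicalSpace
open SDiv

namespace Groth.Agent.S8858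

theorem isFT_comap {X Y : Scheme.{u}} (f : Y ⟶ X) {I : X.IdealSheafData} (h : BlowUp.IsFiniteTypeIdeal I) :
    BlowUp.IsFiniteTypeIdeal (I.comap f) := by
  intro W
  refine MorLib.IdealFG.fg_of_cover _ W fun y _ => ?_
  obtain ⟨V, hV, hyV, -⟩ := exists_isAffineOpen_mem_and_subset (X := X) (x := f y) (U := ⊤) trivial
  obtain ⟨W', hW', hyW', hle⟩ := exists_isAffineOpen_mem_and_subset (U := f ⁻¹ᵁ V) (x := y) hyV
  refine ⟨⟨W', hW'⟩, hyW', ?_⟩
  rw [ModPairLib.ideal_comap I f ⟨V, hV⟩ ⟨W', hW'⟩ hle]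
  exact (h ⟨V, hV⟩).map _

theorem isAdmissible_prod {X : Scheme.{u}} {U : X.Opens} {κ : Type*} (s : Finset κ) (𝓘 : κ → X.IdealSheafData)
    (h : ∀ i ∈ s, BlowUp.IsAdmissibleFor U (𝓘 i)) : BlowUp.IsAdmissibleFor U (∏ i ∈ s, 𝓘 i) := by
  refine Finset.prod_induction 𝓘 (BlowUp.IsAdmissibleFor U) (fun I J hI hJ => ⟨fun W => ?_, ?_⟩) ⟨fun W => ?_, ?_⟩ h
  · rw [Scheme.IdealSheafData.ideal_mul, Pi.mul_apply]
    exact (hI.1 W).mul (hJ.1 W)
  · rw [Scheme.IdealSheafData.support_mul]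
    exact Set.disjoint_union_left.2 ⟨hI.2, hJ.2⟩
  · rw [show (1 : X.IdealSheafData).ideal W = ⊤ by simp]
    exact ⟨{1}, by simp⟩
  · simp

/-- Let X be a quasi-compact and quasi-separated scheme, U ⊆ X a quasi-compact open subscheme, and b_i :
X_i ⟶ X, i < n, blowing ups of X in quasi-coherent ideal sheaves 𝓘_i of finite type with support
disjoint from U (U-admissible blow-ups). Then there is a U-admissible blow-up c : X' ⟶ X such that
(a) c factors as X' ⟶ X_i ⟶ X for every i, and (b) each factor X' ⟶ X_i is a blowing up of X_i in a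
quasi-coherent ideal sheaf of finite type whose support is disjoint from the inverse image of U. -/
theorem result (X : Scheme.{u}) [CompactSpace ↥X] [QuasiSeparatedSpace ↥X]
    (U : X.Opens) (hU : IsCompact (U : Set ↥X)) {n : ℕ} (Xi : Fin n → Scheme.{u}) (b : ∀ i, Xi i ⟶ X)
    (𝓘 : Fin n → X.IdealSheafData) (hb : ∀ i, BlowUp.IsBlowUp (b i) (𝓘 i)) (ha : ∀ i, BlowUp.IsAdmissibleFor U (𝓘 i)) :
    ∃ (𝓙 : X.IdealSheafData) (X' : Scheme.{u}) (c : X' ⟶ X), BlowUp.IsBlowUp c 𝓙 ∧ BlowUp.IsAdmissibleFor U 𝓙 ∧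
      ∀ i, ∃ (g : X' ⟶ Xi i) (𝓚 : (Xi i).IdealSheafData), g ≫ b i = c ∧ BlowUp.IsBlowUp g 𝓚 ∧
        BlowUp.IsAdmissibleFor ((b i) ⁻¹ᵁ U) 𝓚 := by
  classical
  obtain ⟨X', c, hc⟩ := BlowUpLib.exists_blowUp (C := ∏ i, 𝓘 i)
  refine ⟨_, X', c, hc, isAdmissible_prod _ _ fun i _ => ha i, fun i => ?_⟩
  let R := ∏ j ∈ Finset.univ.erase i, 𝓘 j
  have hR : BlowUp.IsAdmissibleFor U R := isAdmissible_prod _ _ fun j _ => ha j
  obtain ⟨Z, g, hg⟩ := BlowUpLib.exists_blowUp (C := R.comap (b i))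
  have h1 := Groth.Agent.S1683.result (𝓘 i) R (b i) (hb i) g hg
  rw [show 𝓘 i * R = ∏ j, 𝓘 j from Finset.mul_prod_erase _ _ (Finset.mem_univ i)] at h1
  obtain ⟨e, he⟩ := BlowUpLib.exists_iso hc h1
  refine ⟨e.hom ≫ g, R.comap (b i), (Category.assoc _ _ _).trans he, BlowUpLib.isBlowUp_iso_comp e.hom hg,
    isFT_comap _ hR.1, ?_⟩
  rw [Scheme.IdealSheafData.support_comap]
  exact Set.disjoint_left.2 fun y hy hyU => Set.disjoint_left.1 hR.2 hy hyU

end Groth.Agent.S8858
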