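import Groth.Statements.S8860
import Groth.Agent.S3577
import Groth.Agent.AssPtX.FlatDvr17
import Groth.Agent.S2337
import Groth.Agent.PicClLib.Basic
-- import your own Groth.Agent.* helpers here

set_option autoImplicit false
universe u
open CategoryTheory CategoryTheory.Limits AlgebraicGeometry TopologicalSpace
open SDiv

namespace Groth.Agent.S8860
open Groth.Agent

/-- Let π : X ⟶ Y be a finite surjective morphism of schemes with X quasi-affine. If either π is finite
locally free (finite, flat and locally of finite presentation), or Y is integral with all local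
rings integrally closed domains (normal), then Y is quasi-affine. -/
theorem result {X Y : Scheme.{u}} (π : X ⟶ Y) [IsFinite π] [Surjective π]
    (hX : X.IsQuasiAffine) (h : Mor2.IsFinLocFree π ∨ (IsIntegral Y ∧ Pi1.IsNormalScheme Y)) :
    Y.IsQuasiAffine := by
  haveI := hX
  haveI : CompactSpace Y := Function.Surjective.compactSpace (f := π.base) π.continuous π.surjective
  haveI : IsAffine (⊤_ Scheme.{u}) := inferInstance
  let f : Y ⟶ ⊤_ Scheme.{u} := terminal.from Y
  haveI : QuasiCompact f := (HasAffineProperty.iff_of_isAffine (P := @QuasiCompact)).2 inferInstance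
  have hO := InvX.isInvertible_structureModule (X := Y)
  have hamp : RelAmple.IsRelAmple (π ≫ f) ((Scheme.Modules.pullback π).obj (Coh.structureModule Y)) :=
    (AmpleX.isRelAmple_iff_isAmple _ _).2 (AmpleX.isAmple_of_isQuasiAffine (PicClLib.isInvertible_pullback π hO))
  refine AmpleX.isQuasiAffine_of_isAmple ((AmpleX.isRelAmple_iff_isAmple f _).1
    (NormAmpleX.isRelAmple_of_normData f π hO (fun V => ?_) hamp))
  rcases h with ⟨-, hfl, hfp⟩ | ⟨hint, hn⟩
  · exact NormAmpleX.nonempty_normData_of_locFree (AssPtX.isFinLocFree_push π) (f.isCompact_preimage V.2.isCompact)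
  · refine NormAmpleX.nonempty_normData_of_normal ?_ (fun y => Or.inl (hn y)) _
    rw [genericPoints_eq_singleton]
    exact Set.finite_singleton _

end Groth.Agent.S8860
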