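import Groth.Statements.S8861
import Groth.Agent.AssPtX.Basic
import Groth.Agent.ModPairLib.Basic
import Groth.Agent.QCoh.VanIdeal

set_option autoImplicit false
universe u
open CategoryTheory CategoryTheory.Limits AlgebraicGeometry TopologicalSpace
open SDiv

namespace Groth.Agent.S8861

/-- Let f : X ⟶ Y be a morphism of schemes and 𝓘 the ideal sheaf of an effective Cartier divisor D ⊆ Y.
If f x ∉ D for every weakly associated point x of X (weakly associated point of the structure
sheaf), then the inverse image ideal sheaf of 𝓘 on X is the ideal of an effective Cartier divisor,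
i.e. the pullback of D by f is defined. -/
theorem result {X Y : Scheme.{u}} (f : X ⟶ Y) (𝓘 : Y.IdealSheafData)
    (hD : BlowUp.IsEffCartierIdeal 𝓘)
    (h : ∀ x : ↥X, Curv2.IsWeakAssPoint (Coh.structureModule X) x → f x ∉ 𝓘.support) :
    BlowUp.IsEffCartierIdeal (𝓘.comap f) := by
  intro x
  obtain ⟨U, hxU, a, ha, hI⟩ := hD (f x)
  obtain ⟨W, hW, hxW, hWU⟩ := exists_isAffineOpen_mem_and_subset (x := x) (U := f ⁻¹ᵁ U.1) hxU
  refine ⟨⟨W, hW⟩, hxW, (f.appLE U.1 W hWU).hom a, ?_, ?_⟩
  · have hq : Coh.IsQCoh (Coh.structureModule X) := QCoh.isQCoh_structureModule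
    have key : IsSMulRegular Γ(Coh.structureModule X, W) ((f.appLE U.1 W hWU).hom a) := by
      by_contra hne
      have : (f.appLE U.1 W hWU).hom a ∈ ⋃ q ∈ FlatCA.weakAss Γ(X, W) Γ(Coh.structureModule X, W),
          (q : Set Γ(X, W)) := by
        rw [WeakAss.biUnion_weakAss]; exact hne
      obtain ⟨q, hq', haq⟩ := Set.mem_iUnion₂.1 this
      obtain ⟨y, hy, hyq, hya⟩ := AssPtX.exists_isWeakAssPoint hq hW hq'
      refine h y hya ?_
      have h1 : y ∉ X.basicOpen ((f.appLE U.1 W hWU).hom a) := fun hc =>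
        (QCoh.mem_basicOpen_iff_notMem hW hy _).1 hc (hyq ▸ haq)
      have hzero : f y ∈ Y.zeroLocus (U := U.1) (𝓘.ideal U : Set Γ(Y, U.1)) ∩ U.1 := by
        refine ⟨?_, hWU hy⟩
        rw [hI, Scheme.zeroLocus_span, Scheme.mem_zeroLocus_iff]
        intro g hg hc
        rw [Set.mem_singleton_iff] at hg
        subst hg
        refine h1 ?_
        rw [Scheme.basicOpen_appLE]
        exact ⟨hy, hc⟩
      exact ((Scheme.IdealSheafData.coe_support_inter 𝓘 U).ge hzero).1
    exact mem_nonZeroDivisors_iff_right.2 fun z hz => key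
      (show ((f.appLE U.1 W hWU).hom a) * z = ((f.appLE U.1 W hWU).hom a) * 0 by rw [mul_comm, hz, mul_zero])
  · rw [ModPairLib.ideal_comap 𝓘 f U ⟨W, hW⟩ hWU, hI, Ideal.map_span, Set.image_singleton]

end Groth.Agent.S8861
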