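import Groth.Statements.S8865
import Groth.Agent.MeroX.Kmod
-- import your own Groth.Agent.* helpers here

set_option autoImplicit false
universe u
open CategoryTheory CategoryTheory.Limits AlgebraicGeometry TopologicalSpace
open SDiv

namespace Groth.Agent.S8865

/-- Let X be a quasi-compact scheme, h a global section of O_X and f a global section of the sheaf of
meromorphic functions K_X whose restriction to the open X_h where h is invertible vanishes. Then h^n
f = 0 in K_X(X) for some natural number n. -/
theorem result (X : Scheme.{u}) [CompactSpace ↥X] (h : Γ(X, ⊤))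
    (f : Γ(Mero.kmod X, ⊤)) (hf : (Mero.kmod X).presheaf.map (homOfLE (le_top : X.basicOpen h ≤ ⊤)).op f = 0) :
    ∃ n : ℕ, Mero.toK X ⊤ h ^ n * f = 0 := by
  obtain ⟨n, hn⟩ := MeroX.pow_mul_eq_zero (U := (⊤ : X.Opens)) CompactSpace.isCompact_univ h f
    fun y hy => congrArg (fun t => t.1 ⟨y.1, hy⟩) hf
  exact ⟨n, hn⟩

end Groth.Agent.S8865
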