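import Groth.Statements.S8867
import Groth.Agent.MeroX.HasRegular
-- import your own Groth.Agent.* helpers here

set_option autoImplicit false
universe u
open CategoryTheory CategoryTheory.Limits AlgebraicGeometry TopologicalSpace
open SDiv

namespace Groth.Agent.S8867

/-- Let X be a locally Noetherian scheme with no embedded points, i.e. every associated point of O_X is
maximal among the associated points of O_X under specialization, and L an invertible O_X-module.
Then some meromorphic section of L is regular. -/
theorem result (X : Scheme.{u}) [IsLocallyNoetherian X]
    (hne : ∀ x : ↥X, Curv2.IsAssPoint (Coh.structureModule X) x →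
      ∀ y : ↥X, Curv2.IsAssPoint (Coh.structureModule X) y → y ⤳ x → y = x)
    (L : X.Modules) (hL : PicF.IsInvertible L) : Mero.HasRegularMero L := by
  exact MeroX.hasRegularMero_of_inc MeroX.finAss_of_isLocallyNoetherian
    (fun x y hx hy h => hne x (AssPtX.isAssPoint_iff.2 hx) y (AssPtX.isAssPoint_iff.2 hy) h) hL

end Groth.Agent.S8867
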