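import Groth.Statements.S8868
import Groth.Agent.AssPtX.Basic

set_option autoImplicit false
universe u
open CategoryTheory CategoryTheory.Limits AlgebraicGeometry TopologicalSpace
open SDiv

namespace Groth.Agent.S8868

/-- Let X be a scheme and F a quasi-coherent O_X-module. Then F is zero if and only if F has no weakly
associated point. -/
theorem result (X : Scheme.{u}) (F : X.Modules) (hF : Coh.IsQCoh F) :
    IsZero F ↔ ∀ x : ↥X, ¬ Curv2.IsWeakAssPoint F x := by
  exact AssPtX.isZero_iff hF

end Groth.Agent.S8868
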