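import Groth.Statements.S8869
import Groth.Agent.AssPtX.Basic
import Groth.Agent.QCoh.VanIdeal

set_option autoImplicit false
universe u
open CategoryTheory CategoryTheory.Limits AlgebraicGeometry TopologicalSpace
open SDiv

namespace Groth.Agent.S8869

/-- Assume X is a reduced scheme and x is a point of X. Then x is weakly associated to the structure
sheaf O_X exactly when every generization of x equals x itself; equivalently, x is a generic point
of some irreducible component of X. -/
theorem result (X : Scheme.{u}) [IsReduced X] (x : ↥X) :
    Curv2.IsWeakAssPoint (Coh.structureModule X) x ↔ ∀ y : ↥X, y ⤳ x → y = x := by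
  exact AssPtX.isWeakAssPoint_structureModule_iff QCoh.isQCoh_structureModule x

end Groth.Agent.S8869
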