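import Groth.Statements.S8871
import Groth.Agent.AssPtX.Noeth
import Groth.Agent.Alg6.AssDepth
-- import your own Groth.Agent.* helpers here

set_option autoImplicit false
universe u
open CategoryTheory CategoryTheory.Limits AlgebraicGeometry TopologicalSpace
open SDiv

open TopologicalSpace
namespace Groth.Agent.S8871

/-- Let X be a locally Noetherian scheme and F a coherent O_X-module. Then F has no embedded associated
points (every associated point of F is maximal among the associated points of F under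
specialization) if and only if F has property (S_1): for every point x, depth F_x ≥ min(1, dim Supp
F_x), where dim Supp F_x is the Krull dimension of the support of the O_{X,x}-module F_x (for F_x =
0 the depth is infinite and the support empty, so the condition holds). -/
theorem result (X : Scheme.{u}) [IsLocallyNoetherian X] (F : X.Modules) (hF : Coh.IsCoh F) :
    (∀ x : ↥X, Curv2.IsAssPoint F x → ∀ y : ↥X, Curv2.IsAssPoint F y → y ⤳ x → y = x) ↔
      ∀ x : ↥X, min (1 : WithBot ℕ∞) (Module.supportDim ↑(X.presheaf.stalk x) ↑(F.presheaf.stalk x)) ≤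
        ((LocCoh.depth (X.presheaf.stalk x) (F.presheaf.stalk x) : ℕ∞) : WithBot ℕ∞) := by
  haveI hN : ∀ x : X, IsNoetherianRing (X.presheaf.stalk x) := fun x => inferInstance
  haveI hFin : ∀ x : X, Module.Finite (X.presheaf.stalk x) (F.presheaf.stalk x) := fun x =>
    QCoh.finite_stalk_of_isFT hF.1 hF.2 x
  have key : ∀ x : X, (∃ y : X, y ≠ x ∧ y ⤳ x ∧ Curv2.IsAssPoint F y) ↔
      ∃ q : PrimeSpectrum (X.presheaf.stalk x), q ∈ Module.support (X.presheaf.stalk x) (F.presheaf.stalk x) ∧
        q.asIdeal ≠ IsLocalRing.maximalIdeal (X.presheaf.stalk x) := by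
    intro x
    obtain ⟨V, hV, hxV, -⟩ := exists_isAffineOpen_mem_and_subset (x := x) (U := ⊤) trivial
    letI := QCoh.stalkAlg (X := X) hxV
    letI := QCoh.stalkModule F hxV
    haveI := QCoh.isScalarTower_stalk F hxV
    haveI := QCoh.isLocalization_stalk' hV hxV
    haveI := QCoh.isLocalizedModule_germLin hF.1 hV hxV
    have hdisj : ∀ p : Ideal Γ(X, V), p ≤ (hV.primeIdealOf ⟨x, hxV⟩).asIdeal →
        Disjoint ((hV.primeIdealOf ⟨x, hxV⟩).asIdeal.primeCompl : Set Γ(X, V)) (p : Set Γ(X, V)) :=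
      fun p hp => Set.disjoint_left.2 fun _ h h' => h (hp h')
    constructor
    · rintro ⟨y, hne, hyx, hy⟩
      have hyV : y ∈ V := hyx.mem_open V.2 hxV
      have hle := (AssPtX.primeIdealOf_le_iff hV hyV hxV).2 hyx
      have h1 := (AssPtX.isWeakAssPoint_iff_sections hF.1 hV hyV).1 (AssPtX.isAssPoint_iff.1 hy)
      have h2 := (WeakAss.mem_weakAss_iff_map (hV.primeIdealOf ⟨x, hxV⟩).asIdeal.primeCompl
        (R' := X.presheaf.stalk x) (QCoh.germLin F hxV) (hdisj _ hle)).1 h1
      have hass := AssPtX.weakAss_subset_associatedPrimes h2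
      refine ⟨⟨_, IsAssociatedPrime.isPrime hass⟩, ?_, fun h => hne ?_⟩
      · obtain ⟨-, z, hz⟩ := Alg6.mem_ass_iff.1 hass
        rw [Module.support_eq_zeroLocus, PrimeSpectrum.mem_zeroLocus]
        exact fun a ha => (hz a).2 (Module.mem_annihilator.1 ha z)
      · have h3 : (hV.primeIdealOf ⟨y, hyV⟩).asIdeal = (hV.primeIdealOf ⟨x, hxV⟩).asIdeal := by
          have h4 := IsLocalization.comap_map_of_isPrime_disjoint (hV.primeIdealOf ⟨x, hxV⟩).asIdeal.primeCompl
            (X.presheaf.stalk x) (inferInstance : (hV.primeIdealOf ⟨y, hyV⟩).asIdeal.IsPrime) (hdisj _ hle)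
          rw [← h4]
          exact (congrArg (Ideal.comap (algebraMap Γ(X, V) (X.presheaf.stalk x))) h).trans
            (IsLocalization.AtPrime.comap_maximalIdeal (X.presheaf.stalk x) _)
        exact (hyx.antisymm ((AssPtX.primeIdealOf_le_iff hV hxV hyV).1 h3.ge)).eq
    · rintro ⟨q, hq, hne⟩
      rw [Module.support_eq_zeroLocus, PrimeSpectrum.mem_zeroLocus] at hq
      obtain ⟨q', hq', hle⟩ := Ideal.exists_minimalPrimes_le (show _ ≤ q.asIdeal from hq)
      haveI := hq'.1.1
      have hne' : q' ≠ IsLocalRing.maximalIdeal (X.presheaf.stalk x) := fun h =>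
        hne (le_antisymm (IsLocalRing.le_maximalIdeal q.isPrime.ne_top) (h ▸ hle))
      obtain ⟨-, m, hm⟩ := isAssociatedPrime_iff.1
        (Module.associatedPrimes.minimalPrimes_annihilator_subset_associatedPrimes _ _ hq')
      have hw : q' ∈ FlatCA.weakAss (X.presheaf.stalk x) (F.presheaf.stalk x) :=
        WeakAss.mem_weakAss_iff.2 ⟨m, by rw [← AssPtX.colon_bot_singleton]; exact ⟨⟨inferInstance, hm.ge⟩, fun r hr _ => hm.le.trans hr.2⟩⟩
      let p := q'.comap (algebraMap Γ(X, V) (X.presheaf.stalk x))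
      have hp : p ≤ (hV.primeIdealOf ⟨x, hxV⟩).asIdeal :=
        (Ideal.comap_mono (IsLocalRing.le_maximalIdeal (Ideal.IsPrime.ne_top inferInstance))).trans
          (IsLocalization.AtPrime.comap_maximalIdeal (X.presheaf.stalk x) _).le
      have hmap : p.map (algebraMap Γ(X, V) (X.presheaf.stalk x)) = q' :=
        IsLocalization.map_comap (hV.primeIdealOf ⟨x, hxV⟩).asIdeal.primeCompl _ q'
      have hp' := (WeakAss.mem_weakAss_iff_map (hV.primeIdealOf ⟨x, hxV⟩).asIdeal.primeCompl
        (R' := X.presheaf.stalk x) (QCoh.germLin F hxV) (hdisj _ hp)).2 (hmap.symm ▸ hw)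
      obtain ⟨y, hy, hyp, hya⟩ := AssPtX.exists_isWeakAssPoint hF.1 hV hp'
      refine ⟨y, fun h => hne' ?_, (AssPtX.primeIdealOf_le_iff hV hy hxV).1 (hyp ▸ hp), AssPtX.isAssPoint_iff.2 hya⟩
      subst h
      rw [← hmap, ← hyp]
      exact IsLocalization.AtPrime.map_eq_maximalIdeal _ _
  have hw1 : ∀ d : WithBot ℕ∞, (1 : WithBot ℕ∞) ≤ d ↔ 0 < d := fun d => by
    induction d using WithBot.recBotCoe with
    | bot => simp
    | coe a => exact WithBot.coe_le_coe.trans (Order.one_le_iff_pos.trans WithBot.coe_pos.symm)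
  have key2 : ∀ x : X, 1 ≤ Module.supportDim (X.presheaf.stalk x) (F.presheaf.stalk x) ↔
      ∃ y : X, y ≠ x ∧ y ⤳ x ∧ Curv2.IsAssPoint F y := by
    intro x
    rw [key x]
    rw [hw1]
    simp only [Module.supportDim, Order.krullDim_pos_iff, Subtype.exists, Subtype.mk_lt_mk]
    constructor
    · rintro ⟨p, hp, q, hq, hlt⟩
      refine ⟨p, hp, fun h => ?_⟩
      have h1 : (IsLocalRing.maximalIdeal _) < q.asIdeal := h ▸ hlt
      exact h1.not_ge (IsLocalRing.le_maximalIdeal q.isPrime.ne_top)
    · rintro ⟨q, hq, hne⟩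
      refine ⟨q, hq, IsLocalRing.closedPoint _, Module.mem_support_mono (IsLocalRing.le_maximalIdeal q.isPrime.ne_top) hq,
        lt_of_le_of_ne (IsLocalRing.le_maximalIdeal q.isPrime.ne_top) (fun h => hne (congrArg PrimeSpectrum.asIdeal h))⟩
  have hdepth : ∀ x : X, (1 : ℕ∞) ≤ LocCoh.depth (X.presheaf.stalk x) (F.presheaf.stalk x) ↔
      ¬ Curv2.IsAssPoint F x := fun x => Alg6.one_le_depth_iff
  constructor
  · intro h x
    by_cases hd : (1 : ℕ∞) ≤ LocCoh.depth (X.presheaf.stalk x) (F.presheaf.stalk x)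
    · exact min_le_of_left_le (by exact_mod_cast hd)
    · rw [hdepth, not_not] at hd
      refine min_le_of_right_le ?_
      by_contra hc
      rw [not_le] at hc
      have h0 : (0 : WithBot ℕ∞) < Module.supportDim (X.presheaf.stalk x) (F.presheaf.stalk x) :=
        lt_of_le_of_lt (by simp) hc
      have h1 : (1 : WithBot ℕ∞) ≤ Module.supportDim (X.presheaf.stalk x) (F.presheaf.stalk x) := (hw1 _).2 h0
      obtain ⟨y, hne, hyx, hy⟩ := (key2 x).1 h1
      exact hne (h x hd y hy hyx)
  · intro h x hx y hy hyx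
    by_contra hne
    have h1 := (key2 x).2 ⟨y, hne, hyx, hy⟩
    have h2 := h x
    rw [min_eq_left h1] at h2
    exact (hdepth x).1 (by exact_mod_cast h2) hx

end Groth.Agent.S8871
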