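import Groth.Statements.S8880
import Groth.Agent.NormAmpleX.Absolute
import Groth.Agent.S2337
import Groth.Agent.PicClLib.Basic
-- import your own Groth.Agent.* helpers here

set_option autoImplicit false
universe u
open CategoryTheory CategoryTheory.Limits AlgebraicGeometry TopologicalSpace
open SDiv

namespace Groth.Agent.S8880
open Groth.Agent

/-- Let π : X ⟶ Y be a finite morphism of schemes such that a norm of degree d exists for π, and assume
X is quasi-affine. Then Y is quasi-affine. -/
theorem result {X Y : Scheme.{u}} (π : X ⟶ Y) [IsFinite π] (d : ℕ) (hN : Nrm.HasNorm π d)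
    (hX : X.IsQuasiAffine) : Y.IsQuasiAffine := by
  obtain ⟨n⟩ := hN
  haveI := NormAmpleX.surjective_of_norm n
  haveI := hX
  haveI : CompactSpace Y := Function.Surjective.compactSpace (f := π.base) π.continuous π.surjective
  let f : Y ⟶ ⊤_ Scheme.{u} := terminal.from Y
  haveI : QuasiCompact f := (HasAffineProperty.iff_of_isAffine (P := @QuasiCompact)).2 inferInstance
  have hO := InvX.isInvertible_structureModule (X := Y)
  have hamp : RelAmple.IsRelAmple (π ≫ f) ((Scheme.Modules.pullback π).obj (Coh.structureModule Y)) :=
    (AmpleX.isRelAmple_iff_isAmple _ _).2 (AmpleX.isAmple_of_isQuasiAffine (PicClLib.isInvertible_pullback π hO))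
  refine AmpleX.isQuasiAffine_of_isAmple ((AmpleX.isRelAmple_iff_isAmple f _).1
    (NormAmpleX.isRelAmple_of_normData f π hO (fun V => ⟨?_⟩) hamp))
  exact
    { D := d
      D_pos := n.one_le
      ok := fun _ => True
      exists_ok := fun x W h _ => ⟨W, h, le_rfl, trivial⟩
      N := fun W _ => n.norm W
      res := fun W W' _ _ h a => n.norm_res (homOfLE h) a
      const := fun W _ c => n.norm_app W c
      vanish := fun W _ a y hy hv hyN => by
        obtain ⟨z, hz⟩ := π.surjective y
        subst hz
        exact n.norm_mem W a z hy (fun hu => hv z rfl ((X.mem_basicOpen a z hy).2 hu))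
          ((Y.mem_basicOpen (n.norm W a) (π z) hy).1 hyN) }

end Groth.Agent.S8880
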