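import Groth.Statements.S8885
import Groth.Agent.RelAss16.Basic
-- import your own Groth.Agent.* helpers here

set_option autoImplicit false
set_option backward.isDefEq.respectTransparency false
set_option backward.isDefEq.respectTransparency.types false
universe u
open CategoryTheory CategoryTheory.Limits AlgebraicGeometry TopologicalSpace
open SDiv

namespace Groth.Agent.S8885
open Groth.Agent

/-- Let f : X ⟶ S be locally of finite type, g : S' ⟶ S a morphism, X' = X ×_S S' with projections g' :
X' ⟶ X and f' : X' ⟶ S', F a quasi-coherent O_X-module and F' = g'^*F. For a point x' of X' with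
images x in X and s' in S': x' lies in the relative assassin Ass_{X'/S'}(F') (x' is an associated
point of the pullback of F' to the fibre X'_{s'}) if and only if x lies in Ass_{X/S}(F) and x' is
maximal under generization among the points of X' mapping to x and to s' (that is, x' is the generic
point of some irreducible component of Spec(κ(s') ⊗_{κ(s)} κ(x))). -/
theorem result {X S S' : Scheme.{u}} (f : X ⟶ S) [LocallyOfFiniteType f] (g : S' ⟶ S)
    (F : X.Modules) (hF : Coh.IsQCoh F) (x' : ↥(pullback f g)) :
    Curv2.IsAssPoint
        ((Scheme.Modules.pullback ((pullback.snd f g).fiberι ((pullback.snd f g) x'))).obj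
          ((Scheme.Modules.pullback (pullback.fst f g)).obj F))
        ((pullback.snd f g).asFiber x') ↔
      Curv2.IsAssPoint ((Scheme.Modules.pullback (f.fiberι (f ((pullback.fst f g) x')))).obj F)
          (f.asFiber ((pullback.fst f g) x')) ∧
        ∀ x'' : ↥(pullback f g), (pullback.snd f g) x'' = (pullback.snd f g) x' →
          (pullback.fst f g) x'' = (pullback.fst f g) x' → x'' ⤳ x' → x'' = x' := by
  rw [RelAss16.isAssPoint_fibre_iff f g F _ ((pullback.snd f g).asFiber x')]
  simp only [Scheme.Hom.fiberι_asFiber]
  suffices key : ∀ y, y = x' →
      ((Curv2.IsAssPoint ((Scheme.Modules.pullback (f.fiberι (f ((pullback.fst f g) y)))).obj F)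
          (f.asFiber ((pullback.fst f g) y))) ↔
        Curv2.IsAssPoint ((Scheme.Modules.pullback (f.fiberι (f ((pullback.fst f g) x')))).obj F)
          (f.asFiber ((pullback.fst f g) x'))) from
    and_congr (key _ ((pullback.snd f g).fiberι_asFiber x')) Iff.rfl
  rintro y rfl
  exact Iff.rfl

end Groth.Agent.S8885
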