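import Groth.Statements.S8886
import Mathlib
-- import your own Groth.Agent.* helpers here

set_option autoImplicit false
universe u
open CategoryTheory CategoryTheory.Limits AlgebraicGeometry TopologicalSpace
open SDiv
open CategoryTheory CategoryTheory.Limits AlgebraicGeometry TopologicalSpace

namespace Groth.Agent.S8886

/-- Let f : X ⟶ Y be a flat morphism of schemes with Y integral. If the scheme-theoretic fibre of f over
the generic point of Y is integral, then X is integral. -/
theorem result {X Y : Scheme.{u}} (f : X ⟶ Y) [Flat f] [IsIntegral Y]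
    (h : IsIntegral (f.fiber (genericPoint ↥Y))) : IsIntegral X := by
  haveI := h
  let η := genericPoint ↥Y
  haveI : Flat (Y.fromSpecResidueField η) := by
    have hres : IsIso (Y.residue η) := by
      refine (ConcreteCategory.isIso_iff_bijective _).2 ⟨?_, Y.residue_surjective η⟩
      have hf : IsField (Y.presheaf.stalk η) := Field.toIsField Y.functionField
      letI := hf.toField
      exact RingHom.injective (Y.residue η).hom
    haveI : Flat (Y.fromSpecStalk η) := by
      obtain ⟨U, hU, hxU, -⟩ := exists_isAffineOpen_mem_and_subset (x := η) (U := ⊤) trivial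
      rw [← hU.fromSpecStalk_eq_fromSpecStalk hxU]
      haveI : Flat (Spec.map (Y.presheaf.germ U η hxU)) := by
        rw [Flat.SpecMap_iff]
        letI := (Y.presheaf.germ U η hxU).hom.toAlgebra
        haveI : IsLocalization.AtPrime (Y.presheaf.stalk η) (hU.primeIdealOf ⟨η, hxU⟩).asIdeal :=
          hU.isLocalization_stalk ⟨η, hxU⟩
        exact IsLocalization.flat (Y.presheaf.stalk η) (hU.primeIdealOf ⟨η, hxU⟩).asIdeal.primeCompl
      exact inferInstanceAs (Flat (Spec.map (Y.presheaf.germ U η hxU) ≫ hU.fromSpec))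
    haveI : IsIso (Spec.map (Y.residue η)) := inferInstance
    exact inferInstanceAs (Flat (Spec.map (Y.residue η) ≫ Y.fromSpecStalk η))
  haveI : Flat (f.fiberι η) := MorphismProperty.pullback_fst (P := @Flat) _ _ inferInstance
  -- generalisations over the generic point
  have hgen : ∀ x : X, ∃ z : f.fiber η, f.fiberι η z ⤳ x := fun x => by
    obtain ⟨x', hx', hfx'⟩ := (Flat.generalizingMap f) (genericPoint_specializes (f x))
    obtain ⟨z, hz⟩ : x' ∈ Set.range (f.fiberι η) := by rw [f.range_fiberι]; exact hfx'
    exact ⟨z, hz ▸ hx'⟩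
  have hstalk : ∀ z : f.fiber η, _root_.IsReduced (X.presheaf.stalk (f.fiberι η z)) := fun z => by
    refine isReduced_of_injective ((f.fiberι η).stalkMap z).hom ?_
    letI := ((f.fiberι η).stalkMap z).hom.toAlgebra
    haveI : Module.Flat (X.presheaf.stalk (f.fiberι η z)) ((f.fiber η).presheaf.stalk z) :=
      Flat.stalkMap (f.fiberι η) z
    haveI : IsLocalHom (algebraMap (X.presheaf.stalk (f.fiberι η z)) ((f.fiber η).presheaf.stalk z)) :=
      inferInstanceAs (IsLocalHom ((f.fiberι η).stalkMap z).hom)
    haveI := Module.FaithfullyFlat.of_flat_of_isLocalHom (A := X.presheaf.stalk (f.fiberι η z))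
      (B := (f.fiber η).presheaf.stalk z)
    exact FaithfulSMul.algebraMap_injective (X.presheaf.stalk (f.fiberι η z)) ((f.fiber η).presheaf.stalk z)
  haveI : IrreducibleSpace X := by
    let ξ := f.fiberι η (genericPoint (f.fiber η))
    have hu : closure ({ξ} : Set X) = Set.univ := Set.eq_univ_of_forall fun x => by
      obtain ⟨z, hz⟩ := hgen x
      exact (((genericPoint_specializes z).map (f.fiberι η).continuous).trans hz).mem_closure
    haveI : Nonempty X := ⟨ξ⟩
    haveI : PreirreducibleSpace X := ⟨hu ▸ isIrreducible_singleton.closure.isPreirreducible⟩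
    exact { toNonempty := inferInstance }
  haveI : AlgebraicGeometry.IsReduced X := by
    haveI : ∀ x : X, _root_.IsReduced (X.presheaf.stalk x) := fun x => by
      obtain ⟨V, hV, hxV, -⟩ := exists_isAffineOpen_mem_and_subset (x := x) (U := ⊤) trivial
      obtain ⟨U, hU, hxU, -⟩ := exists_isAffineOpen_mem_and_subset (x := f x) (U := ⊤) trivial
      obtain ⟨_, ⟨V, hV, rfl⟩, hxV, hVU⟩ := X.isBasis_affineOpens.exists_subset_of_mem_open
        (show x ∈ (f ⁻¹ᵁ U : X.Opens) from hxU) (f ⁻¹ᵁ U).isOpen
      haveI : Nonempty U := ⟨⟨f x, hxU⟩⟩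
      haveI : IsDomain Γ(Y, U) := IsIntegral.component_integral U
      letI : Algebra Γ(Y, U) Γ(X, V) := (f.appLE U V hVU).hom.toAlgebra
      haveI : Module.Flat Γ(Y, U) Γ(X, V) := f.flat_appLE hU hV hVU
      haveI : _root_.IsReduced Γ(X, V) := ⟨fun b hb => by
        by_contra hb0
        let I : Ideal Γ(X, V) := (Submodule.span Γ(X, V) {b}).annihilator
        let S : Submonoid Γ(X, V) := (nonZeroDivisors Γ(Y, U)).map (algebraMap Γ(Y, U) Γ(X, V))
        have hdis : Disjoint (I : Set Γ(X, V)) (S : Set Γ(X, V)) := by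
          rw [Set.disjoint_left]
          rintro _ hI ⟨a, ha, rfl⟩
          have h0 : a • b = a • (0 : Γ(X, V)) := by
            rw [smul_zero, Algebra.smul_def]
            exact (Submodule.mem_annihilator_span_singleton b _).1 hI
          exact hb0 (Module.Flat.isSMulRegular_of_nonZeroDivisors ha h0)
        obtain ⟨q, hq, hIq, hqS⟩ := Ideal.exists_le_prime_disjoint I S hdis
        let x' : X := hV.fromSpec ⟨q, hq⟩
        have hx'V : x' ∈ V := hV.range_fromSpec.subset ⟨⟨q, hq⟩, rfl⟩
        have hq' : hV.primeIdealOf ⟨x', hx'V⟩ = ⟨q, hq⟩ :=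
          hV.fromSpec.isOpenEmbedding.injective (hV.fromSpec_primeIdealOf ⟨x', hx'V⟩)
        have hfx : f x' = η := by
          have hηU : η ∈ U := (genericPoint_specializes (f x)).mem_open U.2 hxU
          have h2 : hU.primeIdealOf ⟨f x', hVU hx'V⟩ = hU.primeIdealOf ⟨η, hηU⟩ := by
            rw [← IsAffineOpen.comap_primeIdealOf_appLE U hU V hV hVU hx'V, hq', hU.primeIdealOf_genericPoint,
              genericPoint_eq_bot_of_affine]
            refine PrimeSpectrum.ext (le_bot_iff.1 fun a ha => ?_)
            by_contra ha0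
            exact Set.disjoint_left.1 hqS ha ⟨a, mem_nonZeroDivisors_of_ne_zero ha0, rfl⟩
          have h3 := congrArg hU.fromSpec h2
          rwa [hU.fromSpec_primeIdealOf, hU.fromSpec_primeIdealOf] at h3
        obtain ⟨z, hz⟩ : x' ∈ Set.range (f.fiberι η) := by rw [f.range_fiberι]; exact hfx
        haveI : _root_.IsReduced (X.presheaf.stalk x') := hz ▸ hstalk z
        have h0 : X.presheaf.germ V x' hx'V b = 0 :=
          IsNilpotent.eq_zero (hb.map (X.presheaf.germ V x' hx'V).hom)
        letI := X.presheaf.algebra_section_stalk ⟨x', hx'V⟩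
        haveI := hV.isLocalization_stalk ⟨x', hx'V⟩
        obtain ⟨⟨s, hs⟩, hsb⟩ :=
          (IsLocalization.map_eq_zero_iff (hV.primeIdealOf ⟨x', hx'V⟩).asIdeal.primeCompl _ b).1 h0
        refine hs ?_
        rw [hq']
        exact hIq ((Submodule.mem_annihilator_span_singleton b s).2 hsb)⟩
      letI := X.presheaf.algebra_section_stalk ⟨x, hxV⟩
      haveI := hV.isLocalization_stalk ⟨x, hxV⟩
      exact isReduced_localizationPreserves (hV.primeIdealOf ⟨x, hxV⟩).asIdeal.primeCompl _ inferInstance
    exact isReduced_of_isReduced_stalk X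
  exact isIntegral_of_irreducibleSpace_of_isReduced X

end Groth.Agent.S8886
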