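import Groth.Statements.S8887
import Groth.Agent.QCoh.LocFree
-- import your own Groth.Agent.* helpers here

set_option autoImplicit false
universe u
open CategoryTheory CategoryTheory.Limits AlgebraicGeometry TopologicalSpace
open SDiv

namespace Groth.Agent.S8887

/-- Let X be an integral scheme and F a quasi-coherent O_X-module of finite type, of rank r (r being the
finite dimension of the generic stalk of F as a vector space over the function field of X). Then one
can find an open subset U of X, not empty, on which the restriction of F is isomorphic to the free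
module of rank r. -/
theorem result (X : Scheme.{u}) [IsIntegral X] (F : X.Modules) (hF : Coh.IsQCoh F)
    (hft : CohB1.IsFT F) :
    ∃ U : X.Opens, (U : Set ↥X).Nonempty ∧
      Nonempty (F.restrict U.ι ≅ FlatMod.freeMod (↑U)
        (Module.finrank ↑(X.presheaf.stalk (genericPoint ↥X)) ↑(F.presheaf.stalk (genericPoint ↥X)))) := by
  obtain ⟨_, ⟨U, hU, rfl⟩, hxU, -⟩ :=
    X.isBasis_affineOpens.exists_subset_of_mem_open (Set.mem_univ (genericPoint ↥X)) isOpen_univ
  replace hU : IsAffineOpen U := hU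
  replace hxU : genericPoint ↥X ∈ U := hxU
  haveI : Nonempty (U : X.Opens) := ⟨⟨_, hxU⟩⟩
  haveI : Module.Finite Γ(X, U) Γ(F, U) := QCoh.finite_of_isFT hF hft hU
  letI := QCoh.stalkAlg (X := X) hxU
  letI := QCoh.stalkModule F hxU
  haveI := QCoh.isScalarTower_stalk F hxU
  haveI := QCoh.isLocalization_stalk' hU hxU
  haveI := QCoh.isLocalizedModule_germLin hF hU hxU
  have hp : (hU.primeIdealOf ⟨genericPoint ↥X, hxU⟩).asIdeal.primeCompl ≤ nonZeroDivisors Γ(X, U) :=
    fun a ha => mem_nonZeroDivisors_of_ne_zero fun h => ha (h ▸ zero_mem _)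
  have hn : Module.finrank ↑(X.presheaf.stalk (genericPoint ↥X)) ↑(F.presheaf.stalk (genericPoint ↥X)) =
      Module.finrank Γ(X, U) Γ(F, U) :=
    (IsLocalization.finrank_eq (X.presheaf.stalk (genericPoint ↥X))
      (hU.primeIdealOf ⟨genericPoint ↥X, hxU⟩).asIdeal.primeCompl hp).trans
      (IsLocalizedModule.finrank_eq (hU.primeIdealOf ⟨genericPoint ↥X, hxU⟩).asIdeal.primeCompl
        (QCoh.germLin F hxU) hp)
  rw [hn]
  obtain ⟨v, hv⟩ := exists_linearIndependent_of_le_finrank (R := Γ(X, U)) (M := Γ(F, U)) le_rfl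
  have htor : ∀ m : Γ(F, U), ∃ a : Γ(X, U), a ≠ 0 ∧ a • m ∈ Submodule.span Γ(X, U) (Set.range v) := by
    intro m
    by_contra hc
    push Not at hc
    have h2 : LinearIndependent Γ(X, U) (Fin.cons m v) :=
      hv.finCons' m v fun c y hmem heq => by
        by_contra hc0
        exact hc c hc0 (eq_neg_of_add_eq_zero_left heq ▸ neg_mem hmem)
    have := h2.fintype_card_le_finrank
    simp at this
  obtain ⟨G, hG⟩ := Module.finite_def.1 ‹Module.Finite Γ(X, U) Γ(F, U)›
  choose a ha hav using htor
  let f : Γ(X, U) := ∏ m ∈ G, a m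
  have hf : f ≠ 0 := Finset.prod_ne_zero_iff.2 fun m _ => ha m
  have hspan : ∀ m : Γ(F, U), f • m ∈ Submodule.span Γ(X, U) (Set.range v) := by
    intro m
    have hm : m ∈ Submodule.span Γ(X, U) (G : Set Γ(F, U)) := hG ▸ Submodule.mem_top
    refine Submodule.span_induction (fun g hg => ?_) (by simp) (fun x y _ _ hx hy => by
      rw [smul_add]; exact add_mem hx hy) (fun c x _ hx => by
      rw [smul_comm]; exact Submodule.smul_mem _ c hx) hm
    obtain ⟨c, hc⟩ : a g ∣ f := Finset.dvd_prod_of_mem a hg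
    rw [hc, mul_comm, mul_smul]
    exact Submodule.smul_mem _ c (hav g)
  refine ⟨X.basicOpen f, ?_, ?_⟩
  · rw [Set.nonempty_iff_ne_empty]
    intro h
    exact hf (basicOpen_eq_bot_iff f |>.1 (TopologicalSpace.Opens.ext h))
  letI := QCoh.basicModule f F
  haveI := QCoh.isLocalizedModule_basicRes f hF hU
  haveI := hU.isLocalization_basicOpen f
  haveI : IsScalarTower Γ(X, U) Γ(X, X.basicOpen f) Γ(F, X.basicOpen f) :=
    IsScalarTower.of_algebraMap_smul fun _ _ => rfl
  have hv' : LinearIndependent Γ(X, X.basicOpen f) (QCoh.basicRes f F ∘ v) :=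
    hv.of_isLocalizedModule Γ(X, X.basicOpen f) (Submonoid.powers f) (QCoh.basicRes f F)
  have htop : ⊤ ≤ Submodule.span Γ(X, X.basicOpen f) (Set.range (QCoh.basicRes f F ∘ v)) := by
    intro y _
    obtain ⟨⟨m, s⟩, hs⟩ := IsLocalizedModule.surj (Submonoid.powers f) (QCoh.basicRes f F) y
    have h1 : QCoh.basicRes f F (f • m) ∈ Submodule.span Γ(X, X.basicOpen f) (Set.range (QCoh.basicRes f F ∘ v)) := by
      rw [Set.range_comp]
      refine Submodule.span_subset_span Γ(X, U) _ _ ?_
      rw [← Submodule.map_span]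
      exact Submodule.mem_map_of_mem (hspan m)
    have hu : IsUnit (algebraMap Γ(X, U) Γ(X, X.basicOpen f) (f * (s : Γ(X, U)))) :=
      IsLocalization.map_units _ (⟨f * (s : Γ(X, U)), mul_mem (Submonoid.mem_powers f) s.2⟩ : Submonoid.powers f)
    rw [map_smul, ← hs] at h1
    rw [show y = hu.unit⁻¹.val • (f • ((s : Γ(X, U)) • y)) by
      rw [← mul_smul f (s : Γ(X, U)) y, ← algebraMap_smul Γ(X, X.basicOpen f) (f * (s : Γ(X, U))) y, ← mul_smul,
        IsUnit.val_inv_mul, one_smul]]
    exact Submodule.smul_mem _ _ h1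
  exact QCoh.exists_free_restrict hF (hU.basicOpen f)
    ((Module.Basis.mk hv' htop).reindex Equiv.ulift.{u}.symm).repr

end Groth.Agent.S8887
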