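import Groth.Statements.S8888
import Groth.Agent.MiscSh16.GenRank

set_option autoImplicit false
universe u
open CategoryTheory CategoryTheory.Limits AlgebraicGeometry TopologicalSpace
open SDiv

namespace Groth.Agent.S8888

/-- Let f : X ⟶ Y be a dominant morphism of integral schemes and G a quasi-coherent O_Y-module. Then the
rank of f^*G on X, the dimension of its stalk at the generic point of X over the function field of
X, equals the rank of G on Y. -/
theorem result {X Y : Scheme.{u}} [IsIntegral X] [IsIntegral Y] (f : X ⟶ Y) [IsDominant f]
    (G : Y.Modules) (hG : Coh.IsQCoh G) :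
    Module.rank ↑(X.presheaf.stalk (genericPoint ↥X)) ↑(((Scheme.Modules.pullback f).obj G).presheaf.stalk (genericPoint ↥X)) =
      Module.rank ↑(Y.presheaf.stalk (genericPoint ↥Y)) ↑(G.presheaf.stalk (genericPoint ↥Y)) := by
  have h : f (genericPoint X) = genericPoint Y := by
    apply ((genericPoint_spec X).image f.continuous).eq
    rw [Set.image_univ, f.denseRange.closure_range]
    exact genericPoint_spec Y
  have hY : IsField (Y.presheaf.stalk (genericPoint Y)) := Semifield.toIsField Y.functionField
  have key : ∀ y, f (genericPoint X) = y → IsField (Y.presheaf.stalk y) →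
      Module.rank ↑(X.presheaf.stalk (genericPoint X)) ↑(((Scheme.Modules.pullback f).obj G).presheaf.stalk (genericPoint X)) =
        Module.rank ↑(Y.presheaf.stalk y) ↑(G.presheaf.stalk y) := by
    rintro y rfl hy
    exact Groth.Agent.MiscSh16.rank_stalk_pullback f G hG _ hy (Semifield.toIsField X.functionField)
  exact key _ h hY

end Groth.Agent.S8888
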