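import Groth.Statements.S8891
import Groth.Agent.LocCohDepth.IsoCrit
-- import your own Groth.Agent.* helpers here

set_option autoImplicit false
universe u
open CategoryTheory CategoryTheory.Limits AlgebraicGeometry TopologicalSpace
open SDiv

namespace Groth.Agent.S8891

/-- Let X be an integral locally Noetherian scheme and φ : F ⟶ G a morphism of quasi-coherent
O_X-modules with F coherent and G torsion free. Assume that for every point x either the stalk map
F_x → G_x is an isomorphism, or depth(F_x) ≥ 2 and x is not the generic point of X. Then φ is an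
isomorphism. (The published statement allows the second alternative at the generic point as well;
since the zero module has infinite depth, F = 0 and G = O_X then satisfy every hypothesis while 0 →
O_X is not an isomorphism. The general criterion this is a special case of requires x not to be
associated to G, which for torsion-free G ≠ 0 fails exactly at the generic point; so the generic
point is excluded from the second alternative here.) -/
theorem result (X : Scheme.{u}) [IsIntegral X] [IsLocallyNoetherian X] {F G : X.Modules}
    (φ : F ⟶ G) (hF : Coh.IsCoh F) (hG : Coh.IsQCoh G)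
    (htf : ∀ x : ↥X, NoZeroSMulDivisors ↑(X.presheaf.stalk x) ↑(G.presheaf.stalk x))
    (h : ∀ x : ↥X, Function.Bijective ((TopCat.Presheaf.stalkFunctor AddCommGrpCat.{u} x).map (Scheme.Modules.Hom.mapPresheaf φ)) ∨
      ((2 : ℕ∞) ≤ LocCoh.depth (X.presheaf.stalk x) (F.presheaf.stalk x) ∧ x ≠ genericPoint ↥X)) :
    IsIso φ := by
  refine Groth.Agent.LocCohDepth.isIso_of_depth_two φ hF hG fun x => (h x).imp_right fun hx => ⟨hx.1, ?_⟩
  rintro ⟨-, g, hg⟩
  by_cases hm : IsLocalRing.maximalIdeal (X.presheaf.stalk x) = ⊥
  · haveI : Subsingleton (Spec (X.presheaf.stalk x)) := ⟨fun a b => by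
      have key : ∀ c : PrimeSpectrum (X.presheaf.stalk x), c.asIdeal = ⊥ := fun c =>
        le_bot_iff.1 ((IsLocalRing.le_maximalIdeal c.isPrime.ne_top).trans hm.le)
      exact PrimeSpectrum.ext ((key a).trans (key b).symm)⟩
    obtain ⟨q, hq⟩ : genericPoint X ∈ Set.range (X.fromSpecStalk x) := by
      rw [Scheme.range_fromSpecStalk]; exact (genericPoint_spec X).specializes trivial
    refine hx.2 ?_
    rw [← hq, Subsingleton.elim q (IsLocalRing.closedPoint (X.presheaf.stalk x)), Scheme.fromSpecStalk_closedPoint]
  · obtain ⟨r, hr, hr0⟩ := Submodule.exists_mem_ne_zero_of_ne_bot hm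
    have hne : ((⊥ : Submodule (X.presheaf.stalk x) (G.presheaf.stalk x)).colon {g}).radical ≠ ⊤ := hg ▸ Ideal.IsPrime.ne_top inferInstance
    obtain ⟨n, hn⟩ : r ∈ ((⊥ : Submodule (X.presheaf.stalk x) (G.presheaf.stalk x)).colon {g}).radical := hg ▸ hr
    have h0 : r ^ n • g = 0 := (Submodule.mem_bot _).1 (Submodule.mem_colon_singleton.1 hn)
    haveI := htf x
    rcases smul_eq_zero.1 h0 with h1 | h1
    · exact hr0 (eq_zero_of_pow_eq_zero h1)
    · refine hne (Ideal.radical_eq_top.2 ((Ideal.eq_top_iff_one _).2 ?_))
      exact Submodule.mem_colon_singleton.2 (by rw [h1, smul_zero]; exact Submodule.zero_mem _)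

end Groth.Agent.S8891
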