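import Groth.Statements.S8893
import Groth.Agent.RelQR16.Stalk
-- import your own Groth.Agent.* helpers here

set_option autoImplicit false
universe u
open CategoryTheory CategoryTheory.Limits AlgebraicGeometry TopologicalSpace
open SDiv

namespace Groth.Agent.S8893

/-- Let f : X ⟶ S be a morphism of schemes and i : Z ⟶ X a relative quasi-regular immersion (a
quasi-regular immersion with Z flat over S). If z is a point of Z such that O_{X, i z} is
Noetherian, then f is flat at i z. -/
theorem result {Z X S : Scheme.{u}} (f : X ⟶ S) (i : Z ⟶ X)
    (hi : RegImm.IsRelRegularImmersion RegImm.Kind.quasi f i) (z : ↥Z) [IsNoetherianRing ↑(X.presheaf.stalk (i z))] :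
    (f.stalkMap (i z)).hom.Flat := by
  exact RelQR16.flat_stalkMap f i hi z

end Groth.Agent.S8893
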