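import Groth.Statements.S8899
import Groth.Agent.AssPtX.Basic
import Groth.Agent.KFlatLib.Scheme.Pullback
import Groth.Agent.AssFlat7.Alg
-- import your own Groth.Agent.* helpers here

set_option autoImplicit false
universe u
open CategoryTheory CategoryTheory.Limits AlgebraicGeometry TopologicalSpace
open SDiv
open scoped TensorProduct

namespace Groth.Agent.S8899

/-- Let f : X ⟶ S be a morphism of schemes, G a quasi-coherent O_S-module and x a point of X over s = f
x such that f is flat at x, no point of f⁻¹(s) other than x specialises to x (x is the generic point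
of some irreducible component of the fibre X_s), and s is weakly associated to G. Then x is weakly
associated to f^*G. -/
theorem result {X S : Scheme.{u}} (f : X ⟶ S) (G : S.Modules) (hG : Coh.IsQCoh G)
    (x : ↥X) (hfl : (f.stalkMap x).hom.Flat) (hgen : ∀ y : ↥X, f y = f x → y ⤳ x → y = x)
    (hs : Curv2.IsWeakAssPoint G (f x)) : Curv2.IsWeakAssPoint ((Scheme.Modules.pullback f).obj G) x := by
  obtain ⟨m, hm⟩ := hs
  let e := ((Groth.Agent.KFlatLib.stalkPullbackIso f x).app G).toLinearEquiv
  have hprime : ∀ P : PrimeSpectrum (X.presheaf.stalk x),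
      (IsLocalRing.maximalIdeal (S.presheaf.stalk (f x))).map (f.stalkMap x).hom ≤ P.asIdeal →
      P.asIdeal = IsLocalRing.maximalIdeal (X.presheaf.stalk x) := by
    intro P hP
    have hc : Spec.map (f.stalkMap x) P = IsLocalRing.closedPoint (S.presheaf.stalk (f x)) := by
      apply PrimeSpectrum.ext
      exact le_antisymm (IsLocalRing.le_maximalIdeal (Ideal.IsPrime.ne_top (PrimeSpectrum.isPrime _)))
        (Ideal.map_le_iff_le_comap.1 hP)
    have h1 : f (X.fromSpecStalk x P) = f x := by
      rw [← Scheme.Hom.comp_apply, ← Scheme.SpecMap_stalkMap_fromSpecStalk, Scheme.Hom.comp_apply, hc]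
      exact Scheme.fromSpecStalk_closedPoint
    have h2 : X.fromSpecStalk x P ⤳ x := by
      have h : X.fromSpecStalk x P ∈ Set.range (X.fromSpecStalk x) := ⟨P, rfl⟩
      rwa [Scheme.range_fromSpecStalk] at h
    have h3 := hgen _ h1 h2
    have : P = IsLocalRing.closedPoint (X.presheaf.stalk x) := (X.fromSpecStalk x).isEmbedding.injective
      (h3.trans Scheme.fromSpecStalk_closedPoint.symm)
    rw [this]
    rfl
  have hrad : ((IsLocalRing.maximalIdeal (S.presheaf.stalk (f x))).map (f.stalkMap x).hom).radical =
      IsLocalRing.maximalIdeal (X.presheaf.stalk x) := by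
    refine le_antisymm ?_ ?_
    · refine (Ideal.IsPrime.radical_le_iff inferInstance).2 ?_
      exact Ideal.map_le_iff_le_comap.2 fun r hr =>
        (IsLocalRing.mem_maximalIdeal _).2 fun h => hr ((isUnit_map_iff (f.stalkMap x).hom r).1 h)
    · rw [Ideal.radical_eq_sInf]
      exact le_sInf fun q hq => (hprime ⟨q, hq.2⟩ hq.1).ge
  letI := (f.stalkMap x).hom.toAlgebra
  haveI : Module.Flat (S.presheaf.stalk (f x)) (X.presheaf.stalk x) := hfl
  exact Groth.Agent.AssFlat7.exists_radical_eq (R := S.presheaf.stalk (f x)) (B := X.presheaf.stalk x)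
    (M := G.presheaf.stalk (f x)) e hrad m hm

end Groth.Agent.S8899
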