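import Groth.Statements.S9592
import Groth.Agent.ZClosLib.WeakAssTensor
import Mathlib.RingTheory.Ideal.GoingDown
import Mathlib.RingTheory.FiniteStability
import Mathlib.RingTheory.Flat.Localization
import Mathlib.RingTheory.IsTensorProduct

set_option autoImplicit false
universe u
open CAlg

namespace Groth.Agent.S9592

open TensorProduct

attribute [local instance] Algebra.TensorProduct.rightAlgebra

/-- An injective algebra over a domain inside a field is flat. -/
theorem flat_of_injective {C K : Type u} [CommRing C] [IsDomain C] [Field K] [Algebra C K]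
    (h : Function.Injective (algebraMap C K)) : Module.Flat C K := by
  haveI : FaithfulSMul C K := (faithfulSMul_iff_algebraMap_injective C K).2 h
  letI := FractionRing.liftAlgebra C K
  haveI : Module.Flat C (FractionRing C) := IsLocalization.flat _ (nonZeroDivisors C)
  exact Module.Flat.trans C (FractionRing C) K

/-- Weakly associated primes descend along flat base change to those at the stage of an element. -/
theorem comap_mem_of_flat {S T N NT : Type u} [CommRing S] [CommRing T] [Algebra S T] [Module.Flat S T]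
    [AddCommGroup N] [Module S N] [AddCommGroup NT] [Module T NT] [Module S NT] [IsScalarTower S T NT]
    (g : N →ₗ[S] NT) (hg : IsBaseChange T g) (z : N) {q : Ideal T} [q.IsPrime]
    (hq : q ∈ (WeakAss.annEl T (g z)).minimalPrimes) :
    q.comap (algebraMap S T) ∈ FlatCA.weakAss S N := by
  refine WeakAss.mem_weakAss_iff.2 ⟨z, ⟨⟨inferInstance, fun r hr => ?_⟩, ?_⟩⟩
  · refine hq.1.2 (WeakAss.mem_annEl.2 ?_)
    rw [algebraMap_smul, ← map_smul, WeakAss.mem_annEl.1 hr, map_zero]
  · rintro p' ⟨hp'prime, hp'⟩ hle
    by_contra hne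
    haveI := hp'prime
    haveI : q.LiesOver (q.comap (algebraMap S T)) := ⟨rfl⟩
    obtain ⟨P, hP, hPprime, hPover⟩ :=
      Ideal.exists_ideal_lt_liesOver_of_lt (S := T) q (lt_of_le_not_ge hle hne)
    refine hP.not_ge (hq.2 ⟨hPprime, fun t ht => ?_⟩ hP.le)
    -- the annihilator commutes with flat base change
    let μ : S →ₗ[S] N := LinearMap.toSpanSingleton S N z
    have hex := Module.Flat.lTensor_exact (R := S) T (LinearMap.exact_subtype_ker_map μ)
    have h0 : μ.lTensor T (t ⊗ₜ[S] (1 : S)) = 0 := by
      refine hg.equiv.injective ?_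
      rw [map_zero, LinearMap.lTensor_tmul, hg.equiv_tmul]
      show t • g (μ 1) = 0
      rw [show μ 1 = z from one_smul S z]
      exact WeakAss.mem_annEl.1 ht
    obtain ⟨w, hw⟩ := (hex _).1 h0
    have hmem : ∀ w : T ⊗[S] ↥(LinearMap.ker μ),
        TensorProduct.rid S T ((LinearMap.ker μ).subtype.lTensor T w) ∈ P := fun w => by
      induction w using TensorProduct.induction_on with
      | zero => simp
      | add a b ha hb => rw [map_add, map_add]; exact add_mem ha hb
      | tmul a b =>
        rw [LinearMap.lTensor_tmul, TensorProduct.rid_tmul, Algebra.smul_def]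
        refine Ideal.mul_mem_right _ _ ?_
        have : (b : S) ∈ p' := hp' (WeakAss.mem_annEl.2 b.2)
        exact (hPover.over ▸ this : (b : S) ∈ P.under S)
    have := hmem w
    rwa [hw, TensorProduct.rid_tmul, one_smul] at this

theorem exists_scalars {k K R : Type u} [Field k] [Field K] [Algebra k K] [CommRing R] [Algebra k R]
    (RK : Type u) [CommRing RK] [Algebra k RK] [Algebra K RK] [Algebra R RK] [IsScalarTower k K RK]
    [IsScalarTower k R RK] [Algebra.IsPushout k K R RK]
    (M : Type u) [AddCommGroup M] [Module R M] (MK : Type u) [AddCommGroup MK] [Module RK MK] [Module R MK]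
    [IsScalarTower R RK MK] (f : M →ₗ[R] MK) (hf : IsBaseChange RK f) (w : MK) :
    ∃ s : Finset K, ∀ C : Subalgebra k K, (s : Set K) ⊆ C →
      w ∈ AddSubgroup.closure {x : MK | ∃ c ∈ C, ∃ m : M, algebraMap K RK c • f m = x} := by
  classical
  induction w using hf.inductionOn with
  | zero => exact ⟨∅, fun C _ => zero_mem _⟩
  | tmul m =>
    exact ⟨∅, fun C _ => AddSubgroup.subset_closure ⟨1, one_mem C, m, by rw [map_one, one_smul]⟩⟩
  | add a b ha hb =>
    obtain ⟨s, hs⟩ := ha
    obtain ⟨t, ht⟩ := hb
    refine ⟨s ∪ t, fun C hC => add_mem (hs C fun x hx => hC ?_) (ht C fun x hx => hC ?_)⟩ <;> simp_all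
  | smul c w hw =>
    obtain ⟨s, hs⟩ := hw
    induction c using (Algebra.IsPushout.out (R := k) (S := K) (R' := R) (S' := RK)).inductionOn with
    | zero => exact ⟨∅, fun C _ => by rw [zero_smul]; exact zero_mem _⟩
    | tmul r =>
      refine ⟨s, fun C hC => ?_⟩
      have := hs C hC
      clear hs
      induction this using AddSubgroup.closure_induction with
      | mem x hx =>
        obtain ⟨c, hc, m, rfl⟩ := hx
        refine AddSubgroup.subset_closure ⟨c, hc, r • m, ?_⟩
        show algebraMap K RK c • f (r • m) = algebraMap R RK r • algebraMap K RK c • f m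
        rw [map_smul, ← algebraMap_smul RK r, smul_comm]
      | zero => rw [smul_zero]; exact zero_mem _
      | add a b _ _ ha hb => rw [smul_add]; exact add_mem ha hb
      | neg a _ ha => rw [smul_neg]; exact neg_mem ha
    | smul κ c hc =>
      obtain ⟨t, ht⟩ := hc
      refine ⟨insert κ (s ∪ t), fun C hC => ?_⟩
      have hκ : κ ∈ C := hC (by simp)
      have := ht C fun x hx => hC (by simp_all)
      rw [Algebra.smul_def, mul_smul]
      clear ht hs
      generalize c • w = y at this ⊢
      induction this using AddSubgroup.closure_induction with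
      | mem x hx =>
        obtain ⟨d, hd, m, rfl⟩ := hx
        exact AddSubgroup.subset_closure ⟨κ * d, mul_mem hκ hd, m, by rw [map_mul, mul_smul]⟩
      | zero => rw [smul_zero]; exact zero_mem _
      | add a b _ _ ha hb => rw [smul_add]; exact add_mem ha hb
      | neg a _ ha => rw [smul_neg]; exact neg_mem ha
    | add a b ha hb =>
      obtain ⟨t, ht⟩ := ha
      obtain ⟨t', ht'⟩ := hb
      refine ⟨t ∪ t', fun C hC => ?_⟩
      rw [add_smul]
      exact add_mem (ht C fun x hx => hC (by simp_all)) (ht' C fun x hx => hC (by simp_all))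

/-- Descent through a flat, finitely presented stage. -/
theorem descend_stage {R S RK : Type u} [CommRing R] [CommRing S] [CommRing RK] [Algebra R S] [Algebra S RK]
    [Algebra R RK] [IsScalarTower R S RK] [Algebra.FinitePresentation R S] [Module.Flat R S] [Module.Flat S RK]
    (M : Type u) [AddCommGroup M] [Module R M] (MK : Type u) [AddCommGroup MK] [Module RK MK] [Module R MK]
    [IsScalarTower R RK MK] (f : M →ₗ[R] MK) (hf : IsBaseChange RK f) (q : Ideal RK) [q.IsPrime] (z : MK)
    (hz : q ∈ (WeakAss.annEl RK z).minimalPrimes)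
    (hclos : z ∈ AddSubgroup.closure {x : MK | ∃ s : S, ∃ m : M, algebraMap S RK s • f m = x}) :
    q.comap (algebraMap R RK) ∈ FlatCA.weakAss R M := by
  letI : Module S MK := Module.compHom MK (algebraMap S RK)
  haveI : IsScalarTower S RK MK := IsScalarTower.of_algebraMap_smul fun _ _ => rfl
  haveI : IsScalarTower R S MK := IsScalarTower.of_algebraMap_smul fun r x => by
    show algebraMap S RK (algebraMap R S r) • x = r • x
    rw [← IsScalarTower.algebraMap_apply, algebraMap_smul]
  let g : S ⊗[R] M →ₗ[S] MK := LinearMap.liftBaseChange S f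
  have hg : IsBaseChange RK g := by
    refine IsBaseChange.of_comp (TensorProduct.isBaseChange R M S) ?_
    have e : (g.restrictScalars R).comp (TensorProduct.mk R S M 1) = f := LinearMap.ext fun m => by
      simp [g]
    rw [e]
    exact hf
  obtain ⟨z₀, hz₀⟩ : ∃ z₀, g z₀ = z := by
    clear hz
    induction hclos using AddSubgroup.closure_induction with
    | mem x hx =>
      obtain ⟨s, m, rfl⟩ := hx
      exact ⟨s ⊗ₜ[R] m, (LinearMap.liftBaseChange_tmul S f s m).trans (algebraMap_smul RK s (f m)).symm⟩
    | zero => exact ⟨0, map_zero g⟩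
    | add a b _ _ ha hb =>
      obtain ⟨a', rfl⟩ := ha; obtain ⟨b', rfl⟩ := hb
      exact ⟨a' + b', map_add g a' b'⟩
    | neg a _ ha =>
      obtain ⟨a', rfl⟩ := ha
      exact ⟨-a', map_neg g a'⟩
  subst hz₀
  have hS := comap_mem_of_flat g hg z₀ hz
  haveI : (q.comap (algebraMap S RK)).IsPrime := Ideal.IsPrime.comap _
  haveI : (q.comap (algebraMap S RK)).LiesOver (q.comap (algebraMap R RK)) := ⟨by
    rw [Ideal.under, Ideal.comap_comap, ← IsScalarTower.algebraMap_eq]⟩
  exact ZClosLib.WeakAssTensor.mem_weakAss_base (R := R) (S := S) S M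
    (q.comap (algebraMap R RK)) (q.comap (algebraMap S RK)) hS

theorem main_stage {k K R : Type u} [Field k] [Field K] [Algebra k K] [CommRing R] [Algebra k R]
    (RK : Type u) [CommRing RK] [Algebra k RK] [Algebra K RK] [Algebra R RK] [IsScalarTower k K RK]
    [IsScalarTower k R RK] [Algebra.IsPushout k K R RK]
    (M : Type u) [AddCommGroup M] [Module R M] (MK : Type u) [AddCommGroup MK] [Module RK MK] [Module R MK]
    [IsScalarTower R RK MK] (f : M →ₗ[R] MK) (hf : IsBaseChange RK f)
    (q : Ideal RK) [q.IsPrime] (z : MK) (hz : q ∈ (WeakAss.annEl RK z).minimalPrimes)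
    (C : Subalgebra k K) [Algebra.FinitePresentation k C]
    (hC : z ∈ AddSubgroup.closure {x : MK | ∃ c ∈ C, ∃ m : M, algebraMap K RK c • f m = x}) :
    q.comap (algebraMap R RK) ∈ FlatCA.weakAss R M := by
  haveI hflatK : Module.Flat C K := flat_of_injective Subtype.val_injective
  let toRK : R ⊗[k] C →ₐ[k] RK :=
    Algebra.TensorProduct.lift (IsScalarTower.toAlgHom k R RK) ((IsScalarTower.toAlgHom k K RK).comp C.val)
      fun _ _ => Commute.all _ _
  letI : Algebra (R ⊗[k] C) RK := toRK.toRingHom.toAlgebra
  haveI : IsScalarTower R (R ⊗[k] C) RK := IsScalarTower.of_algebraMap_eq fun r => by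
    show algebraMap R RK r = toRK (r ⊗ₜ[k] 1); simp [toRK]
  haveI : IsScalarTower C (R ⊗[k] C) RK := IsScalarTower.of_algebraMap_eq fun (c : ↥C) => by
    show algebraMap K RK (c : K) = toRK (1 ⊗ₜ[k] c); simp [toRK]
  haveI : IsScalarTower C K RK := IsScalarTower.of_algebraMap_eq fun _ => rfl
  haveI : IsScalarTower k (R ⊗[k] C) RK := IsScalarTower.of_algebraMap_eq fun x => (toRK.commutes x).symm
  haveI : Algebra.IsPushout k C R (R ⊗[k] C) := Algebra.IsPushout.symm inferInstance
  haveI hpo : Algebra.IsPushout C K (R ⊗[k] C) RK :=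
    (Algebra.IsPushout.comp_iff k C R (R ⊗[k] C) (T := K) (T' := RK)).1 inferInstance
  haveI hflat : Module.Flat (R ⊗[k] C) RK :=
    Module.Flat.isBaseChange (R := C) (M := K) (S := R ⊗[k] C) RK hpo.symm.out
  refine descend_stage (S := R ⊗[k] C) M MK f hf q z hz (AddSubgroup.closure_mono ?_ hC)
  rintro x ⟨c, hc, m, rfl⟩
  refine ⟨(1 : R) ⊗ₜ[k] (⟨c, hc⟩ : C), m, ?_⟩
  show toRK ((1 : R) ⊗ₜ[k] (⟨c, hc⟩ : C)) • f m = _
  simp [toRK]

theorem main {k K R : Type u} [Field k] [Field K] [Algebra k K] [CommRing R] [Algebra k R]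
    (RK : Type u) [CommRing RK] [Algebra k RK] [Algebra K RK] [Algebra R RK] [IsScalarTower k K RK]
    [IsScalarTower k R RK] [Algebra.IsPushout k K R RK]
    (M : Type u) [AddCommGroup M] [Module R M] (MK : Type u) [AddCommGroup MK] [Module RK MK] [Module R MK]
    [IsScalarTower R RK MK] (f : M →ₗ[R] MK) (hf : IsBaseChange RK f)
    (q : Ideal RK) [q.IsPrime] (hq : q ∈ FlatCA.weakAss RK MK) :
    q.comap (algebraMap R RK) ∈ FlatCA.weakAss R M := by
  obtain ⟨z, hz⟩ := WeakAss.mem_weakAss_iff.1 hq
  obtain ⟨s, hs⟩ := exists_scalars (k := k) (K := K) RK M MK f hf z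
  haveI : Algebra.FiniteType k (Algebra.adjoin k (s : Set K)) :=
    (Subalgebra.fg_iff_finiteType _).1 (Subalgebra.fg_adjoin_finset s)
  haveI : Algebra.FinitePresentation k (Algebra.adjoin k (s : Set K)) :=
    Algebra.FinitePresentation.of_finiteType.1 inferInstance
  exact main_stage RK M MK f hf q z hz _ (hs _ Algebra.subset_adjoin)

/-- Let K/k be a field extension, R a k-algebra and M an R-module; let R_K = R ⊗_k K (any pushout of k →
K along k → R) and let M_K be the base change of M to R_K. If a prime q of R_K is weakly associated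
to M_K, then its inverse image in R is weakly associated to M. -/
theorem result {k K R : Type u} [Field k] [Field K] [Algebra k K] [CommRing R] [Algebra k R] (RK : Type u) [CommRing RK] [Algebra k RK] [Algebra K RK] [Algebra R RK] [IsScalarTower k K RK] [IsScalarTower k R RK] [Algebra.IsPushout k K R RK] (M : Type u) [AddCommGroup M] [Module R M] (MK : Type u) [AddCommGroup MK] [Module RK MK] [Module R MK] [IsScalarTower R RK MK] (f : M →ₗ[R] MK) (hf : IsBaseChange RK f) (q : Ideal RK) [q.IsPrime] (hq : q ∈ FlatCA.weakAss RK MK) :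
    q.comap (algebraMap R RK) ∈ FlatCA.weakAss R M :=
  main (k := k) (K := K) RK M MK f hf q hq

end Groth.Agent.S9592
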