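import Groth.Statements.S8900
import Groth.Agent.AssPtX.Pushforward
import Groth.Agent.QCoh.PullbackBC
import Groth.Agent.S9592
-- import your own Groth.Agent.* helpers here

set_option autoImplicit false
set_option backward.isDefEq.respectTransparency false
set_option backward.isDefEq.respectTransparency.types false
universe u
open CategoryTheory CategoryTheory.Limits AlgebraicGeometry TopologicalSpace
open SDiv

namespace Groth.Agent.S8900
open Groth.Agent

/-- Let K/k be an extension of fields, X a scheme over k, F a quasi-coherent O_X-module, and y a point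
of X_K = X ×_k Spec K with image x in X. If y is weakly associated to the pullback of F to X_K, then
x is weakly associated to F. -/
theorem result (k : Type u) [Field k] (K : Type u) [Field K] [Algebra k K] (X : Scheme.{u})
    [X.Over (Spec (CommRingCat.of k))] (F : X.Modules) (hF : Coh.IsQCoh F) (y : ↥(Curv2.bc k X K))
    (hy : Curv2.IsWeakAssPoint ((Scheme.Modules.pullback (Curv2.bcFst k X K)).obj F) y) :
    Curv2.IsWeakAssPoint F (Curv2.bcFst k X K y) := by
  obtain ⟨_, ⟨U, hU, rfl⟩, hxU, -⟩ :=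
    X.isBasis_affineOpens.exists_subset_of_mem_open (Set.mem_univ (Curv2.bcFst k X K y)) isOpen_univ
  let q := Spec.map (CommRingCat.ofHom (algebraMap k K))
  let iX := X ↘ Spec (CommRingCat.of k)
  have hq : IsAffineHom q := inferInstance
  let π : pullback iX q ⟶ X := pullback.fst iX q
  have hπa : IsAffineHom π := MorphismProperty.pullback_fst iX q hq
  let W := π ⁻¹ᵁ U
  have hW : IsAffineOpen W := hU.preimage π
  have hy' : y ∈ W := hxU
  rw [AssPtX.isWeakAssPoint_iff_sections (QCoh.isQCoh_pullback π hF) hW hy'] at hy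
  rw [AssPtX.isWeakAssPoint_iff_sections hF hU hxU]
  have hUY : W = π ⁻¹ᵁ U ⊓ pullback.snd iX q ⁻¹ᵁ ⊤ := by simp [W]
  have hST : (⊤ : (Spec (CommRingCat.of K)).Opens) ≤ q ⁻¹ᵁ ⊤ := fun _ _ => trivial
  have hSX : U ≤ iX ⁻¹ᵁ ⊤ := fun _ _ => trivial
  have H : IsPullback π (pullback.snd iX q) iX q := IsPullback.of_hasPullback iX q
  have hpo := (isIso_pushoutSection_iff H hST hSX hUY).1
    (isIso_pushoutSection_of_isAffineOpen H hST hSX hUY (isAffineOpen_top _) (isAffineOpen_top _) hU)
  let a : CommRingCat.of k ⟶ Γ(X, U) := (Scheme.ΓSpecIso (CommRingCat.of k)).inv ≫ iX.appLE ⊤ U hSX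
  let b : CommRingCat.of K ⟶ Γ(pullback iX q, W) :=
    (Scheme.ΓSpecIso (CommRingCat.of K)).inv ≫ (pullback.snd iX q).appLE ⊤ W (fun _ _ => trivial)
  let c : Γ(X, U) ⟶ Γ(pullback iX q, W) := π.appLE U W le_rfl
  have hpo' : IsPushout (CommRingCat.ofHom (algebraMap k K)) a b c := by
    refine IsPushout.of_iso hpo.flip (Scheme.ΓSpecIso (CommRingCat.of k)) (Scheme.ΓSpecIso (CommRingCat.of K))
      (Iso.refl _) (Iso.refl _) ?_ ?_ ?_ ?_
    · have : q.appLE ⊤ ⊤ hST = q.appTop := Scheme.Hom.appLE_eq_app _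
      rw [this]
      exact Scheme.ΓSpecIso_naturality _
    · simp [a]
    · simp [b]
    · exact (Category.comp_id _).trans (Category.id_comp _).symm
  let _ : Algebra k Γ(X, U) := a.hom.toAlgebra
  let _ : Algebra K Γ(pullback iX q, W) := b.hom.toAlgebra
  let _ : Algebra Γ(X, U) Γ(pullback iX q, W) := c.hom.toAlgebra
  let _ : Algebra k Γ(pullback iX q, W) := (b.hom.comp (algebraMap k K)).toAlgebra
  have : IsScalarTower k K Γ(pullback iX q, W) := .of_algebraMap_eq' rfl
  have : IsScalarTower k Γ(X, U) Γ(pullback iX q, W) :=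
    .of_algebraMap_eq' (congrArg CommRingCat.Hom.hom hpo'.w)
  have : Algebra.IsPushout k K Γ(X, U) Γ(pullback iX q, W) := CommRingCat.isPushout_iff_isPushout.mp hpo'
  let P := (Scheme.Modules.pullback π).obj F
  let _ : Module Γ(X, U) Γ(P, W) := Module.compHom _ c.hom
  have : IsScalarTower Γ(X, U) Γ(pullback iX q, W) Γ(P, W) := .of_algebraMap_smul fun _ _ => rfl
  let l : Γ(F, U) →ₗ[Γ(X, U)] Γ(P, W) :=
    { toFun := QCoh.pullSec π F le_rfl
      map_add' := QCoh.pullSec_add π F le_rfl
      map_smul' := QCoh.pullSec_smul π F le_rfl }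
  have hbc := QCoh.isBaseChange_pullback hU π hW hF le_rfl (fun _ => rfl) l fun _ => rfl
  have key := S9592.result (k := k) (K := K) (R := Γ(X, U)) Γ(pullback iX q, W) Γ(F, U) Γ(P, W) l hbc
    (hW.primeIdealOf ⟨y, hy'⟩).asIdeal hy
  rw [RingHom.algebraMap_toAlgebra, show c.hom = (π.app U).hom by rw [Scheme.Hom.app_eq_appLE],
    AssPtX.comap_primeIdealOf_app π hU hy'] at key
  exact key

end Groth.Agent.S8900
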