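import Groth.Statements.S8906
import Groth.Agent.KindDescent.Scheme
-- import your own Groth.Agent.* helpers here

set_option autoImplicit false
universe u
open CategoryTheory CategoryTheory.Limits AlgebraicGeometry TopologicalSpace
open SDiv

namespace Groth.Agent.S8906

/-- Let i : Z ⟶ X be an immersion which is regular of one of the four kinds (regular, Koszul-regular,
H_1-regular or quasi-regular) and g : X' ⟶ X a flat morphism. Then the base change Z ×_X X' ⟶ X' of
i is a regular immersion of the same kind. -/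
theorem result {Z X X' : Scheme.{u}} (i : Z ⟶ X) (k : RegImm.Kind)
    (hi : RegImm.IsRegularImmersion k i) (g : X' ⟶ X) [Flat g] :
    RegImm.IsRegularImmersion k (pullback.snd i g) := by
  refine ⟨MorphismProperty.of_isPullback (P := @IsImmersion) (IsPullback.of_hasPullback i g) hi.1, fun z' => ?_⟩
  obtain ⟨U, hzU, hci, rs, hrs, hker⟩ := hi.2 (pullback.fst i g z')
  have hsq := IsPullback.of_hasPullback i g
  have hx : g (pullback.snd i g z') ∈ U.1 := by
    have h1 : g (pullback.snd i g z') = i (pullback.fst i g z') :=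
      (congrArg (fun φ : pullback i g ⟶ X => φ z') hsq.w).symm
    rw [h1]
    exact hzU
  obtain ⟨U', hU', hzU', hle⟩ := exists_isAffineOpen_mem_and_subset (U := g ⁻¹ᵁ U.1) (x := pullback.snd i g z') hx
  obtain ⟨hUY, hUs⟩ := Synt29.surjective_app_of_isClosedImmersion_restrict i U.1 U.2
  have hUY' : pullback.snd i g ⁻¹ᵁ U' = pullback.fst i g ⁻¹ᵁ (i ⁻¹ᵁ U.1) ⊓ pullback.snd i g ⁻¹ᵁ U' := by
    refine (inf_eq_right.2 fun y hy => ?_).symm
    show i (pullback.fst i g y) ∈ U.1
    have h1 : i (pullback.fst i g y) = g (pullback.snd i g y) :=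
      congrArg (fun φ : pullback i g ⟶ X => φ y) hsq.w
    rw [h1]
    exact hle hy
  have hpo := (isIso_pushoutSection_iff hsq hle le_rfl hUY').1
    (isIso_pushoutSection_of_isAffineOpen hsq hle le_rfl hUY' U.2 hU' hUY)
  have hs : Function.Surjective (i.appLE U.1 (i ⁻¹ᵁ U.1) le_rfl) := by
    rw [← Scheme.Hom.app_eq_appLE]
    exact hUs
  have hk := RegImmLib.ker_of_isPushout hpo hs
  rw [← Scheme.Hom.app_eq_appLE, ← Scheme.Hom.app_eq_appLE] at hk
  letI : Algebra Γ(X, U.1) Γ(X', U') := (g.appLE U.1 U' hle).hom.toAlgebra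
  haveI : Module.Flat Γ(X, U.1) Γ(X', U') := g.flat_appLE U.2 hU' hle
  have hker' : RingHom.ker ((pullback.snd i g).app U').hom = Ideal.ofList (rs.map (algebraMap Γ(X, U.1) Γ(X', U'))) := by
    rw [← Ideal.map_ofList]
    exact hk.trans (by rw [hker]; rfl)
  refine ⟨⟨U', hU'⟩, hzU', ?_, rs.map (algebraMap Γ(X, U.1) Γ(X', U')), ?_, hker'⟩
  · have h2 := Scheme.Hom.isPullback_resLE hsq hle le_rfl hUY'
    have h3 : IsClosedImmersion (i.resLE U.1 (i ⁻¹ᵁ U.1) le_rfl) := by
      rw [Scheme.Hom.resLE_eq_morphismRestrict]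
      exact hci
    rw [← Scheme.Hom.resLE_eq_morphismRestrict]
    exact MorphismProperty.of_isPullback (P := @IsClosedImmersion) h2 h3
  have hlist : List.ofFn (fun j => algebraMap Γ(X, U.1) Γ(X', U') (rs.get j)) =
      rs.map (algebraMap Γ(X, U.1) Γ(X', U')) := by
    rw [show (fun j => algebraMap Γ(X, U.1) Γ(X', U') (rs.get j)) = algebraMap Γ(X, U.1) Γ(X', U') ∘ rs.get from rfl,
      ← List.map_ofFn, List.ofFn_get]
  cases k with
  | regular =>
    refine ⟨RingTheory.Sequence.IsWeaklyRegular.of_flat hrs.1, ?_⟩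
    rw [Ideal.smul_eq_mul, Ideal.mul_top, ← hker']
    intro htop
    have h10 : (pullback.snd i g).app U' 1 = 0 := RingHom.mem_ker.1 (htop.le (Submodule.mem_top (x := 1)))
    rw [map_one] at h10
    have h11 := congrArg ((pullback i g).presheaf.germ (pullback.snd i g ⁻¹ᵁ U') z' hzU') h10
    rw [map_one, map_zero] at h11
    exact one_ne_zero h11
  | koszul =>
    exact hlist ▸ KoszulFlatLib.isKoszulRegularSeq_of_isExact
      (WiebeLib.isExact_map (WiebeLib.isExact_of_isKoszulRegularSeq _ (by rw [List.ofFn_get]; exact hrs)))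
  | h1 => exact hlist ▸ RegConormal.seq_of_seqP _ (KindDescent.seqP_flat (RegConormal.seqP_of_seq (Or.inl rfl) rs hrs))
  | quasi => exact hlist ▸ RegConormal.seq_of_seqP _ (KindDescent.seqP_flat (RegConormal.seqP_of_seq (Or.inr rfl) rs hrs))

end Groth.Agent.S8906
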