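import Groth.Statements.S8908
import Groth.Agent.MaxND16.Main
-- import your own Groth.Agent.* helpers here

set_option autoImplicit false
universe u
open CategoryTheory CategoryTheory.Limits AlgebraicGeometry TopologicalSpace
open SDiv

namespace Groth.Agent.S8908
open Groth.Agent

/-- Let X be a locally Noetherian scheme and F a coherent O_X-module. The coherent subsheaves K ⊆ F
whose support is nowhere dense in Supp(F) have a largest element K. Setting F' = F/K: (1) Supp(F') =
Supp(F); (2) F' has no embedded associated points; (3) there is a dense open U ⊆ X with U ∩ Supp(F)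
dense in Supp(F) over which the quotient map F → F' restricts to an isomorphism. -/
theorem result (X : Scheme.{u}) [IsLocallyNoetherian X] (F : X.Modules)
    (hF : Coh.IsCoh F) :
    ∃ K : Subobject F, Coh.IsCoh (K : X.Modules) ∧
      (∀ U : X.Opens, (U : Set ↥X) ∩ CohB1.support F ⊆ CohB1.support (K : X.Modules) → (U : Set ↥X) ∩ CohB1.support F = ∅) ∧
      (∀ K' : Subobject F, Coh.IsCoh (K' : X.Modules) →
        (∀ U : X.Opens, (U : Set ↥X) ∩ CohB1.support F ⊆ CohB1.support (K' : X.Modules) → (U : Set ↥X) ∩ CohB1.support F = ∅) →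
        K' ≤ K) ∧
      CohB1.support (cokernel K.arrow) = CohB1.support F ∧
      (∀ x : ↥X, Curv2.IsAssPoint (cokernel K.arrow) x → ∀ y : ↥X, Curv2.IsAssPoint (cokernel K.arrow) y → y ⤳ x → y = x) ∧
      ∃ U : X.Opens, Dense (U : Set ↥X) ∧ CohB1.support F ⊆ closure ((U : Set ↥X) ∩ CohB1.support F) ∧
        IsIso ((Scheme.Modules.restrictFunctor U.ι).map (cokernel.π K.arrow)) := by
  exact MaxND16.exists_max hF

end Groth.Agent.S8908
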