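import Groth.Statements.S8911
import Groth.Agent.StrictTr16.Basic
-- import your own Groth.Agent.* helpers here

set_option autoImplicit false
set_option backward.isDefEq.respectTransparency false
set_option backward.isDefEq.respectTransparency.types false
universe u
open CategoryTheory CategoryTheory.Limits AlgebraicGeometry TopologicalSpace
open SDiv

namespace Groth.Agent.S8911
open Groth.Agent

/-- Let S be a scheme, F a quasi-coherent O_S-module of finite type, k ≥ 0, b : S' ⟶ S a blowing up of S
in the closed subscheme Z_k cut out by Fit_k(F), and π : b^*F ⟶ G the strict transform of F along b.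
Then G can locally be generated by at most k sections. -/
theorem result (S : Scheme.{u}) (F : S.Modules) (hF : Coh.IsQCoh F) (hft : CohB1.IsFT F)
    (k : ℕ) {S' : Scheme.{u}} (b : S' ⟶ S) (hb : BlowUp.IsBlowUp b (Fitt.sheafIdeal F k)) (G : S'.Modules)
    (π : (Scheme.Modules.pullback b).obj F ⟶ G) (hG : BlowUp.IsStrictTransform b (Fitt.sheafIdeal F k) F G π) (s' : ↥S') :
    ∃ U : S'.Opens, s' ∈ U ∧ ∃ q : FlatMod.freeMod (↑U) k ⟶ G.restrict U.ι, Epi q := by
  have hb1 := hb.1
  have hP := QCoh.isQCoh_pullback b hF
  have hPft := FittX.isFT_pullback b hF hft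
  have hπ : StrictTr16.IsTorsionQuot ((Fitt.sheafIdeal F k).comap b) π := hG
  refine (FittX.generated_iff (StrictTr16.isQCoh_of_torsionQuot hb1 hP hπ)
    (StrictTr16.isFT_of_torsionQuot hb1 hP hPft hπ) s' k).2 ?_
  rw [StrictTr16.sheafIdeal_ge_eq_top hb1 hP hPft hπ (FittX.sheafIdeal_comap b hF hft k).symm le_rfl,
    Scheme.IdealSheafData.support_top]
  exact fun h => h

end Groth.Agent.S8911
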