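import Groth.Statements.S8912
import Groth.Agent.StrictTr16.Basic
-- import your own Groth.Agent.* helpers here

set_option autoImplicit false
set_option backward.isDefEq.respectTransparency false
set_option backward.isDefEq.respectTransparency.types false
universe u
open CategoryTheory CategoryTheory.Limits AlgebraicGeometry TopologicalSpace
open SDiv

namespace Groth.Agent.S8912
open Groth.Agent

/-- Let S be a scheme, F a quasi-coherent O_S-module of finite type and k ≥ 0 such that F is locally
free of rank k on the complement of the closed subscheme Z_k cut out by Fit_k(F). Let b : S' ⟶ S be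
a blowing up of S in Z_k and π : b^*F ⟶ G the strict transform of F. Then G is finite locally free
of rank k. -/
theorem result (S : Scheme.{u}) (F : S.Modules) (hF : Coh.IsQCoh F) (hft : CohB1.IsFT F)
    (k : ℕ) (hfree : FlatMod.IsFinLocFreeOfRank k (F.restrict (Scheme.Opens.ι (Fitt.sheafIdeal F k).support.compl)))
    {S' : Scheme.{u}} (b : S' ⟶ S) (hb : BlowUp.IsBlowUp b (Fitt.sheafIdeal F k)) (G : S'.Modules)
    (π : (Scheme.Modules.pullback b).obj F ⟶ G) (hG : BlowUp.IsStrictTransform b (Fitt.sheafIdeal F k) F G π) :
    FlatMod.IsFinLocFreeOfRank k G := by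
  refine StrictTr16.isFinLocFreeOfRank_strictTransform hF hft hb.1 hG fun j hj W hW => ?_
  exact StrictTr16.ideal_comap_eq_bot ((StrictTr16.sheafIdeal_comap_ι hF hft _ hfree).1 j hj) W
    (StrictTr16.le_preimage_of_disjoint rfl W.1 hW)

end Groth.Agent.S8912
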