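import Groth.Statements.S8913
import Groth.Agent.StrictTr16.Basic
-- import your own Groth.Agent.* helpers here

set_option autoImplicit false
set_option backward.isDefEq.respectTransparency false
set_option backward.isDefEq.respectTransparency.types false
universe u
open CategoryTheory CategoryTheory.Limits AlgebraicGeometry TopologicalSpace
open SDiv

namespace Groth.Agent.S8913
open Groth.Agent

/-- Let X be a scheme, F a finitely presented O_X-module and U ⊆ X an open subscheme which is
scheme-theoretically dense and over which F is locally free of constant finite rank r. Then: (1)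
Fit_r(F) is of finite type with support disjoint from U, so a blowing up b : X' ⟶ X of X in Fit_r(F)
is U-admissible; (2) the strict transform G of F along such b is locally free of rank r; (3) the
kernel of the surjection b^*F ⟶ G is finitely presented and restricts to zero over b⁻¹U. This row
does not assert that b^*F and the kernel are perfect of tor dimension at most one. -/
theorem result (X : Scheme.{u}) (F : X.Modules) (hF : CohB1.IsFP F)
    (U : X.Opens) (hU : CInt.IsSchematicallyDense U) (r : ℕ) (hfree : FlatMod.IsFinLocFreeOfRank r (F.restrict U.ι)) :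
    BlowUp.IsAdmissibleFor U (Fitt.sheafIdeal F r) ∧
      ∀ (X' : Scheme.{u}) (b : X' ⟶ X), BlowUp.IsBlowUp b (Fitt.sheafIdeal F r) →
        ∀ (G : X'.Modules) (π : (Scheme.Modules.pullback b).obj F ⟶ G), BlowUp.IsStrictTransform b (Fitt.sheafIdeal F r) F G π →
          FlatMod.IsFinLocFreeOfRank r G ∧ CohB1.IsFP (kernel π) ∧ IsZero ((kernel π).restrict (b ⁻¹ᵁ U).ι) := by
  have hq := QCoh.isQCoh_of_isFP hF
  have hft := QCoh.isFT_of_isFP hF
  obtain ⟨hlow, hhigh⟩ := StrictTr16.sheafIdeal_comap_ι hq hft U hfree
  have hdisj := StrictTr16.disjoint_of_comap_ι (hhigh r le_rfl)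
  refine ⟨⟨FittX.isFiniteTypeIdeal hF r, hdisj⟩, fun X' b hb G π hG => ?_⟩
  have hfr : FlatMod.IsFinLocFreeOfRank r G := by
    refine StrictTr16.isFinLocFreeOfRank_strictTransform hq hft hb.1 hG fun j hj W _ => ?_
    rw [StrictTr16.eq_bot_of_dense hU (hlow j hj), Scheme.IdealSheafData.comap_bot,
      Scheme.IdealSheafData.ideal_bot]
    rfl
  have hπ : StrictTr16.IsTorsionQuot ((Fitt.sheafIdeal F r).comap b) π := hG
  have hP := QCoh.isQCoh_pullback b hq
  haveI := hG.1
  refine ⟨hfr, StrictTr16.isFP_kernel_of_finLocFree (LimModLib.isFP_pullback b hq hF)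
    (StrictTr16.isQCoh_kernel_of_torsionQuot hb.1 hP hπ) (fun x => ?_),
    StrictTr16.isZero_kernel_restrict hπ (b ⁻¹ᵁ U) ?_⟩
  · obtain ⟨V, hx, he⟩ := hfr x
    exact ⟨V, r, hx, he⟩
  · rw [Scheme.IdealSheafData.support_comap]
    exact hdisj.preimage b

end Groth.Agent.S8913
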