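import Groth.Statements.S8917
import Groth.Agent.S9370
import Groth.Agent.S9386
import Groth.Agent.FittX.Sheaf
import Groth.Agent.OmegaUniv.Unram
-- import your own Groth.Agent.* helpers here

set_option autoImplicit false
set_option backward.isDefEq.respectTransparency false
set_option backward.isDefEq.respectTransparency.types false
universe u
open CategoryTheory CategoryTheory.Limits AlgebraicGeometry TopologicalSpace
open SDiv

namespace Groth.Agent.S8917
open Groth.Agent

/-- Let f : X ⟶ S be locally of finite type and quasi-separated and let g : S' ⟶ S be a morphism, X' = X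
×_S S' with projections g' : X' ⟶ X and f' : X' ⟶ S'. Then for every i the inverse image ideal sheaf
under g' of the i-th Fitting ideal of Ω_{X/S} is the i-th Fitting ideal of Ω_{X'/S'}: the Fitting
subschemes of Ω are compatible with base change. The published statement does not assume f
quasi-separated; this row does, because the module Ω_{X/S} used here is defined for quasi-separated
f. -/
theorem result {X S S' : Scheme.{u}} (f : X ⟶ S) [LocallyOfFiniteType f] [QuasiSeparated f] (g : S' ⟶ S)
    (i : ℕ) :
    (Fitt.sheafIdeal (Omega.sheaf f) i).comap (pullback.fst f g) = Fitt.sheafIdeal (Omega.sheaf (pullback.snd f g)) i := by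
  have hsq : IsPullback (pullback.fst f g) (pullback.snd f g) f g := IsPullback.of_hasPullback f g
  obtain ⟨c, hc, -⟩ := S9370.result f (pullback.snd f g) (pullback.fst f g) g hsq.w.symm
    (Omega.sheaf f) (OmegaSh.dOmega f) (OmegaUniv.isUniversal_dOmega f)
    (Omega.sheaf (pullback.snd f g)) (OmegaSh.dOmega (pullback.snd f g))
    (OmegaUniv.isUniversal_dOmega (pullback.snd f g))
  have := S9386.result f g (pullback.fst f g) (pullback.snd f g) hsq _ _ (OmegaUniv.isUniversal_dOmega f)
    _ _ (OmegaUniv.isUniversal_dOmega (pullback.snd f g)) c hc
  have hM := OmegaUniv.isQCoh_omega f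
  have hft := OmegaUniv.isFT_omega f
  rw [FittX.sheafIdeal_comap (pullback.fst f g) hM hft i]
  have hM' := QCoh.isQCoh_pullback (pullback.fst f g) hM
  have hft' := FittX.isFT_pullback (pullback.fst f g) hM hft
  unfold Fitt.sheafIdeal
  congr 1
  funext U
  have := QCoh.finite_of_isFT hM' hft' U.2
  exact FittX.ideal_congr (LinearEquiv.ofBijective
    ({ toFun := c.app U.1
       map_add' := map_add (c.app U.1).hom
       map_smul' := fun r m => Scheme.Modules.Hom.app_smul c r m } :
      Γ((Scheme.Modules.pullback (pullback.fst f g)).obj (Omega.sheaf f), U.1) →ₗ[Γ(pullback f g, U.1)]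
        Γ(Omega.sheaf (pullback.snd f g), U.1))
    (ConcreteCategory.bijective_of_isIso (c.app U.1))) i

end Groth.Agent.S8917
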