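import Groth.Statements.S8916
import Groth.Agent.S5022
import Groth.Agent.S2156
import Groth.Agent.S2063
import Groth.Agent.S8917
import Groth.Agent.SmoothDimLib.Criterion
import Groth.Agent.H23.TopDim
import Groth.Agent.VarDim.Top
import Groth.Agent.OmegaUniv.Unram
import Groth.Agent.FittX.Sheaf
import Groth.Agent.Synt29.OmegaAffine
-- import your own Groth.Agent.* helpers here

set_option autoImplicit false
set_option backward.isDefEq.respectTransparency false
set_option backward.isDefEq.respectTransparency.types false
universe u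
open CategoryTheory CategoryTheory.Limits AlgebraicGeometry TopologicalSpace
open SDiv

namespace Groth.Agent.S8916
open Groth.Agent

/-- Let f : X ⟶ S be flat, locally of finite presentation and quasi-separated, and d ≥ 0 such that all
irreducible components of each nonempty fibre of f have dimension d. Then the closed subset of X
defined by the Fitting ideal Fit_d(Ω_{X/S}) is exactly the set of points at which f is not smooth,
i.e. which have no open neighbourhood on which f is smooth. The published statement does not assume
f quasi-separated; this row does, because the module Ω_{X/S} used here is defined for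
quasi-separated f. -/
theorem result {X S : Scheme.{u}} (f : X ⟶ S) [Flat f] [LocallyOfFinitePresentation f] [QuasiSeparated f]
    (d : ℕ) (hdim : ∀ s : ↥S, ∀ T ∈ irreducibleComponents ↥(f.fiber s), topologicalKrullDim ↥T = d) (x : ↥X) :
    x ∈ (Fitt.sheafIdeal (Omega.sheaf f) d).support ↔ ¬ ∃ U : X.Opens, x ∈ U ∧ Smooth (U.ι ≫ f) := by
  have hM := OmegaUniv.isQCoh_omega f
  have hft := OmegaUniv.isFT_omega f
  have key : ∀ (s : S) (y : ↥(f.fiber s)),
      FlatMor.localDim ↥(f.fiber s) y = ((d : ℕ∞) : WithBot ℕ∞) := by
    intro s y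
    refine le_antisymm ((H23.TopDim.localDim_le_dim y).trans ?_) (le_iInf fun U => ?_)
    · rw [H23.TopDim.dim_eq_iSup_irreducibleComponents]
      exact iSup₂_le fun T hT => (hdim s T hT).le
    · have hT := irreducibleComponent_mem_irreducibleComponents y
      have hcl : IsClosed (irreducibleComponent y) := isClosed_irreducibleComponent
      let η := (isIrreducible_irreducibleComponent (x := y)).genericPoint
      have hη : closure {η} = irreducibleComponent y := by
        exact (isIrreducible_irreducibleComponent (x := y)).closure_genericPoint hcl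
      have h1 := hdim s _ hT
      rw [← hη, VarDim.topologicalKrullDim_closure_singleton (f.fiberToSpecResidueField s)] at h1
      have hyη : η ⤳ y := specializes_iff_mem_closure.2 (hη ▸ mem_irreducibleComponent)
      rw [VarDim.topologicalKrullDim_opens_eq_iSup_deg (f.fiberToSpecResidueField s) U.1]
      refine le_iSup_of_le ⟨η, hyη.mem_open U.1.2 U.2⟩ ?_
      exact h1.ge
  have hsm : (∃ U : X.Opens, x ∈ U ∧ Smooth (U.ι ≫ f)) ↔ x ∈ f.smoothLocus := by
    constructor
    · rintro ⟨U, hxU, hU⟩
      have := hU
      have h := Scheme.Hom.smoothLocus_eq_top (U.ι ≫ f)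
      rw [← Scheme.Hom.preimage_smoothLocus_eq] at h
      exact (h.ge (show (⟨x, hxU⟩ : U.toScheme) ∈ (⊤ : U.toScheme.Opens) from trivial) :
        (⟨x, hxU⟩ : U.toScheme) ∈ U.ι ⁻¹ᵁ f.smoothLocus)
    · refine fun hx => ⟨f.smoothLocus, hx, ?_⟩
      rw [← Scheme.Hom.smoothLocus_eq_top_iff, ← Scheme.Hom.preimage_smoothLocus_eq]
      exact Scheme.Opens.ι_preimage_self f.smoothLocus
  rw [hsm]
  constructor
  · intro hx hs
    obtain ⟨-, U, n, hxU, ⟨e⟩, hn⟩ :=
      (S5022.result f _ _ (OmegaUniv.isUniversal_dOmega f) x).1 hs
    have hnd : n = d := by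
      have h := (key (f.base x) (f.asFiber x)).symm.trans hn
      exact (by exact_mod_cast h : d = n).symm
    subst hnd
    exact (FittX.generated_iff hM hft x n).1 ⟨U, hxU, e.inv, inferInstance⟩ hx
  · intro hs
    by_contra hx
    apply hs
    set s := f.base x
    let g := f.fiberToSpecResidueField s
    let z := f.asFiber x
    rw [S2156.result f x]
    refine ⟨Flat.stalkMap f x, ?_⟩
    change z ∈ g.smoothLocus
    have : QuasiSeparated g := MorphismProperty.pullback_snd f (S.fromSpecResidueField s) ‹QuasiSeparated f›
    have hMz := OmegaUniv.isQCoh_omega g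
    have hftz := OmegaUniv.isFT_omega g
    have hz : z ∉ (Fitt.sheafIdeal (Omega.sheaf g) d).support := by
      have h := S8917.result f (S.fromSpecResidueField s) d
      intro hz'
      apply hx
      have hz'' : z ∈ ((Fitt.sheafIdeal (Omega.sheaf f) d).comap (f.fiberι s)).support := by
        erw [h]; exact hz'
      rw [Scheme.IdealSheafData.support_comap] at hz''
      have := f.fiberι_asFiber x
      exact this ▸ hz''
    obtain ⟨_, ⟨U, hU, rfl⟩, hzU, -⟩ :=
      (f.fiber s).isBasis_affineOpens.exists_subset_of_mem_open (Set.mem_univ z) isOpen_univ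
    have hU : IsAffineOpen U := hU
    have hV : IsAffineOpen (⊤ : (Spec (S.residueField s)).Opens) := isAffineOpen_top _
    have e : U ≤ g ⁻¹ᵁ ⊤ := le_top
    rw [FittX.mem_support_sheafIdeal hMz hftz d hU hzU] at hz
    have := QCoh.finite_of_isFT hMz hftz hU
    rw [Scheme.Hom.mem_smoothLocus, formallySmooth_stalkMap_iff _ hV _ hU e hzU]
    let _ : Algebra Γ(Spec (S.residueField s), ⊤) Γ(f.fiber s, U) := (g.appLE ⊤ U e).hom.toAlgebra
    let _ : Field Γ(Spec (S.residueField s), ⊤) :=
      ((Scheme.ΓSpecIso (S.residueField s)).commRingCatIsoToRingEquiv.toMulEquiv.isField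
        (Field.toIsField _)).toField
    have hfin : Algebra.FiniteType Γ(Spec (S.residueField s), ⊤) Γ(f.fiber s, U) :=
      g.finiteType_appLE hV hU e
    obtain ⟨l⟩ := Synt29.OmegaStalk.exists_linearEquiv_sections
      (OmegaUniv.isUniversal_dOmega g) hU hV e
    set q := hU.primeIdealOf ⟨z, hzU⟩ with hq
    change Algebra.IsSmoothAt Γ(Spec (S.residueField s), ⊤) q.asIdeal
    rw [S2063.result q.asIdeal]
    have hloc : FlatMor.localDim (PrimeSpectrum Γ(f.fiber s, U)) q = ((d : ℕ∞) : WithBot ℕ∞) := by
      exact (SmoothDimLib.localDim_openEmbedding hU.fromSpec.isOpenEmbedding q).trans (key s _)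
    refine le_trans ?_ hloc.ge
    have h := (FittX.not_le_iff_fiber _ _ _).1 hz
    rw [(LinearEquiv.baseChange Γ(f.fiber s, U) q.asIdeal.ResidueField _ _ l).finrank_eq] at h
    exact_mod_cast h

end Groth.Agent.S8916
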