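import Groth.Statements.S8922
import Groth.Agent.StrictPush16.Main
-- import your own Groth.Agent.* helpers here

set_option autoImplicit false
set_option backward.isDefEq.respectTransparency false
set_option backward.isDefEq.respectTransparency.types false
universe u
open CategoryTheory CategoryTheory.Limits AlgebraicGeometry TopologicalSpace
open SDiv

namespace Groth.Agent.S8922
open Groth.Agent

/-- Let S be a scheme, 𝓘 a quasi-coherent ideal sheaf on S with closed subscheme Z, b : S' ⟶ S a blowing
up of S in Z, g : X ⟶ Y an affine morphism of schemes over S, F a quasi-coherent O_X-module, and π :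
pr_X^*F ⟶ F' a strict transform of F along b (on X ×_S S'). Write g' : X ×_S S' ⟶ Y ×_S S' for the
base change of g. Then g'_*F' is a strict transform of g_*F along b: there is an epimorphism
pr_Y^*(g_*F) ⟶ g'_*F' whose kernel consists, affine-locally, exactly of the sections annihilated by
a power of the inverse image of 𝓘. The published statement identifies g'_*F' with the strict
transform through the canonical base-change isomorphism; this row asserts only that some epimorphism
from pr_Y^*(g_*F) onto g'_*F' has the strict-transform property. -/
theorem result {X Y S S' : Scheme.{u}} (hX : X ⟶ S) (hY : Y ⟶ S) (g : X ⟶ Y) [IsAffineHom g]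
    (h : g ≫ hY = hX) (𝓘 : S.IdealSheafData) (b : S' ⟶ S) (hb : BlowUp.IsBlowUp b 𝓘) (F : X.Modules) (hF : Coh.IsQCoh F)
    (F' : (pullback hX b).Modules) (π : (Scheme.Modules.pullback (pullback.fst hX b)).obj F ⟶ F')
    (hπ : BlowUp.IsStrictTransform (pullback.fst hX b) (𝓘.comap hX) F F' π) :
    ∃ π' : (Scheme.Modules.pullback (pullback.fst hY b)).obj ((Scheme.Modules.pushforward g).obj F) ⟶
        (Scheme.Modules.pushforward (pullback.map hX b hY b g (𝟙 S') (𝟙 S)
          ((Category.comp_id hX).trans h.symm) ((Category.comp_id b).trans (Category.id_comp b).symm))).obj F',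
      BlowUp.IsStrictTransform (pullback.fst hY b) (𝓘.comap hY) ((Scheme.Modules.pushforward g).obj F)
        ((Scheme.Modules.pushforward (pullback.map hX b hY b g (𝟙 S') (𝟙 S)
          ((Category.comp_id hX).trans h.symm) ((Category.comp_id b).trans (Category.id_comp b).symm))).obj F') π' := by
  let h' := pullback.map hX b hY b g (𝟙 S') (𝟙 S) ((Category.comp_id hX).trans h.symm) ((Category.comp_id b).trans (Category.id_comp b).symm)
  have sq : IsPullback (pullback.fst hX b) h' g (pullback.fst hY b) := by
    refine IsPullback.of_bot ?_ (pullback.lift_fst _ _ _).symm (IsPullback.of_hasPullback hY b)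
    rw [show h' ≫ pullback.snd hY b = pullback.snd hX b by simp [h'], h]
    exact IsPullback.of_hasPullback hX b
  haveI : IsAffineHom h' := MorphismProperty.of_isPullback sq inferInstance
  haveI := hF
  haveI hβ := S12131.result g (pullback.fst hY b) (pullback.fst hX b) h' sq F
  let β := ((Scheme.Modules.pullbackPushforwardAdjunction (pullback.fst hY b)).homEquiv ((Scheme.Modules.pushforward g).obj F)
        ((Scheme.Modules.pushforward h').obj ((Scheme.Modules.pullback (pullback.fst hX b)).obj F))).symm
      ((Scheme.Modules.pushforward g).map ((Scheme.Modules.pullbackPushforwardAdjunction (pullback.fst hX b)).unit.app F) ≫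
        (Scheme.Modules.pushforwardComp (pullback.fst hX b) g).hom.app ((Scheme.Modules.pullback (pullback.fst hX b)).obj F) ≫
        (Scheme.Modules.pushforwardCongr sq.w).hom.app ((Scheme.Modules.pullback (pullback.fst hX b)).obj F) ≫
        (Scheme.Modules.pushforwardComp h' (pullback.fst hY b)).inv.app ((Scheme.Modules.pullback (pullback.fst hX b)).obj F))
  haveI : IsIso β := hβ
  have hE : ((𝓘.comap hY).comap (pullback.fst hY b)).comap h' = (𝓘.comap hX).comap (pullback.fst hX b) := by
    rw [← Scheme.IdealSheafData.comap_comp, ← Scheme.IdealSheafData.comap_comp, ← Scheme.IdealSheafData.comap_comp]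
    congr 1
    rw [← sq.w, Category.assoc, h]
  have hJ : ModPairLib.IsLocPrincipal ((𝓘.comap hY).comap (pullback.fst hY b)) := by
    rw [← Scheme.IdealSheafData.comap_comp, pullback.condition, Scheme.IdealSheafData.comap_comp]
    exact (ModPairLib.isLocPrincipal_of_isEffCartier hb.1).comap _
  have hπ' : StrictTr16.IsTorsionQuot (((𝓘.comap hY).comap (pullback.fst hY b)).comap h') π := by
    rw [hE]; exact hπ
  exact ⟨β ≫ (Scheme.Modules.pushforward h').map π,
    StrictPush16.torsionQuot_pushforward h' _ (QCoh.isQCoh_pullback _ hF) hJ hπ' β⟩

end Groth.Agent.S8922
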