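import Groth.Statements.S8923
import Groth.Agent.RefX.Frames

set_option autoImplicit false
universe u
open CategoryTheory CategoryTheory.Limits AlgebraicGeometry TopologicalSpace
open SDiv

namespace Groth.Agent.S8923

/-- Let X be an integral scheme that is locally Noetherian, L an invertible O_X-module and s a nonzero
rational (regular meromorphic) section of L, viewed as a nonzero element of the stalk of L at the
generic point. Then the collection of prime divisors Z ⊆ X with ord_{Z,L}(s) ≠ 0, i.e. the closures
of the codimension-1 points x (dim O_{X,x} = 1) along which s has nonzero order, is locally finite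
in X. -/
theorem result (X : Scheme.{u}) [IsIntegral X] [IsLocallyNoetherian X] (L : X.Modules)
    (hL : PicF.IsInvertible L) (s : Cyc.secFibre L (genericPoint ↥X)) (hs : s ≠ 0) :
    LocallyFinite (fun x : {x : ↥X // ringKrullDim ↑(X.presheaf.stalk x) = 1 ∧
        Cyc.secOrdAt L (genericPoint ↥X) x ((genericPoint_spec ↥X).specializes (Set.mem_univ x)) s ≠ 0} => closure ({x.1} : Set ↥X)) := by
  obtain ⟨v, rfl⟩ := Groth.Agent.RefX.clsη_surjective s
  have hv : v ≠ 0 := fun h => hs (Groth.Agent.RefX.clsη_eq_zero.2 h)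
  intro z
  obtain ⟨_, ⟨V, hV, rfl⟩, hzV, -⟩ := X.isBasis_affineOpens.exists_subset_of_mem_open (Set.mem_univ z) isOpen_univ
  refine ⟨V, V.2.mem_nhds hzV, Set.Finite.of_finite_image (f := fun i => i.1)
    ((Groth.Agent.RefX.finite_secOrd (Groth.Agent.RefX.hasFrames_of_invertible hL) hv hV).subset ?_)
    Subtype.val_injective.injOn⟩
  rintro _ ⟨⟨x, hx1, hx2⟩, ⟨y, hy, hyV⟩, rfl⟩
  have hxy : x ⤳ y := specializes_iff_mem_closure.2 hy
  refine ⟨hxy.mem_open V.2 hyV, ?_, hx2⟩
  rw [ringKrullDim_stalk_eq_coheight] at hx1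
  exact WithBot.coe_injective hx1

end Groth.Agent.S8923
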