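import Groth.Statements.S8925
import Groth.Agent.LC.InjNoeth

set_option autoImplicit false
universe u
open InjHull

namespace Groth.Agent.S8925

/-- If S is a flat R-algebra and E is an injective S-module, then E, viewed as an R-module by
restriction of scalars, is an injective R-module. -/
theorem result (R S : Type u) [CommRing R] [CommRing S] [Algebra R S] [Module.Flat R S] (E : Type u) [AddCommGroup E] [Module S E] [Module R E] [IsScalarTower R S E] [Module.Injective S E] : Module.Injective R E := by
  exact Groth.Agent.LC.injective_restrict_of_flat R (S := S) E

end Groth.Agent.S8925
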