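import Groth.Statements.S8926
import Groth.Agent.LC.InjNoeth

set_option autoImplicit false
universe u
open InjHull

namespace Groth.Agent.S8926

/-- Suppose R → S is an epimorphism of rings and E is an S-module whose underlying R-module (via
restriction of scalars) is injective; then E is injective as an S-module as well. -/
theorem result (R S : Type u) [CommRing R] [CommRing S] [Algebra R S] [Algebra.IsEpi R S] (E : Type u) [AddCommGroup E] [Module S E] [Module R E] [IsScalarTower R S E] [Module.Injective R E] : Module.Injective S E := by
  exact Groth.Agent.LC.injective_of_isEpi R (S := S) E

end Groth.Agent.S8926
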