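import Groth.Statements.S8927
import Groth.Agent.Alg6.AssDepth
import Mathlib.RingTheory.Flat.TorsionFree
import Mathlib.RingTheory.Localization.AtPrime.Basic

set_option autoImplicit false
universe u
open Disc

namespace Groth.Agent.S8927

/-- For a map A → B of Noetherian rings such that the localization B_q is flat over A for every
associated prime q of B, every nonzerodivisor of A maps to a nonzerodivisor of B. -/
theorem result (A B : Type u) [CommRing A] [CommRing B] [IsNoetherianRing A] [IsNoetherianRing B] [Algebra A B] (h3 : ∀ (q : Ideal B) [q.IsPrime], IsAssociatedPrime q B → Module.Flat A (Localization.AtPrime q)) : nonZeroDivisors A ≤ (nonZeroDivisors B).comap (algebraMap A B) := by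
  intro a ha
  rw [Submonoid.mem_comap, mem_nonZeroDivisors_iff_right]
  intro b hb
  by_contra hb0
  obtain ⟨q, hq, hann⟩ := Alg6.exists_ass_ge (R := B) (M := B) hb0
  haveI : q.IsPrime := IsAssociatedPrime.isPrime hq
  haveI := h3 q hq
  have hreg : IsSMulRegular (Localization.AtPrime q) a :=
    Module.Flat.isSMulRegular_of_nonZeroDivisors ha
  have h0 : algebraMap B (Localization.AtPrime q) b = 0 := by
    apply hreg
    show a • algebraMap B (Localization.AtPrime q) b = a • (0 : Localization.AtPrime q)
    rw [smul_zero, Algebra.smul_def, IsScalarTower.algebraMap_apply A B (Localization.AtPrime q), ← map_mul,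
      mul_comm, hb, map_zero]
  rw [IsLocalization.map_eq_zero_iff q.primeCompl] at h0
  obtain ⟨⟨t, ht⟩, htb⟩ := h0
  exact ht (hann t htb)

end Groth.Agent.S8927
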