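import Groth.Statements.S8928
import Mathlib.RingTheory.Localization.LocalizationLocalization
import Mathlib.RingTheory.Flat.Localization
import Mathlib.RingTheory.Localization.BaseChange
import Mathlib.RingTheory.Ideal.AssociatedPrime.Finiteness
-- import your own Groth.Agent.* helpers here

set_option autoImplicit false
universe u
open scoped TensorProduct
open Disc

namespace Groth.Agent.S8928

/-- Let A → B be a map of Noetherian rings such that nonzerodivisors of A map to nonzerodivisors of B
and Q(A) ⊗_A B is flat over the total ring of fractions Q(A). Then B_q is flat over A for every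
associated prime q of B and for every prime q of B lying over an associated prime of A. -/
theorem result (A B : Type u) [CommRing A] [CommRing B] [IsNoetherianRing A] [IsNoetherianRing B] [Algebra A B] (h1 : nonZeroDivisors A ≤ (nonZeroDivisors B).comap (algebraMap A B)) (h2 : Module.Flat (FractionRing A) (FractionRing A ⊗[A] B)) : (∀ (q : Ideal B) [q.IsPrime], IsAssociatedPrime q B → Module.Flat A (Localization.AtPrime q)) ∧ (∀ (q : Ideal B) [q.IsPrime], IsAssociatedPrime (q.comap (algebraMap A B)) A → Module.Flat A (Localization.AtPrime q)) := by
  classical
  have hAflat : Module.Flat A (FractionRing A ⊗[A] B) :=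
    (Module.flat_iff_of_isLocalization (FractionRing A) (nonZeroDivisors A) _).1 h2
  have hflat : Module.Flat A (B ⊗[A] FractionRing A) := Module.Flat.of_linearEquiv (TensorProduct.comm A B (FractionRing A))
  have key : ∀ (q : Ideal B) [q.IsPrime], (∀ a ∈ nonZeroDivisors A, algebraMap A B a ∉ q) →
      Module.Flat A (Localization.AtPrime q) := by
    intro q _ hq
    have hle : Algebra.algebraMapSubmonoid B (nonZeroDivisors A) ≤ q.primeCompl := by
      rintro _ ⟨a, ha, rfl⟩
      exact hq a ha
    letI : Algebra (B ⊗[A] FractionRing A) (Localization.AtPrime q) :=
      IsLocalization.localizationAlgebraOfSubmonoidLe _ _ (Algebra.algebraMapSubmonoid B (nonZeroDivisors A)) q.primeCompl hle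
    haveI : IsScalarTower B (B ⊗[A] FractionRing A) (Localization.AtPrime q) :=
      IsLocalization.localization_isScalarTower_of_submonoid_le (B ⊗[A] FractionRing A) (Localization.AtPrime q) (Algebra.algebraMapSubmonoid B (nonZeroDivisors A)) q.primeCompl hle
    haveI := IsLocalization.isLocalization_of_submonoid_le (B ⊗[A] FractionRing A) (Localization.AtPrime q)
      (Algebra.algebraMapSubmonoid B (nonZeroDivisors A)) q.primeCompl hle
    haveI : IsScalarTower A (B ⊗[A] FractionRing A) (Localization.AtPrime q) := IsScalarTower.of_algebraMap_eq fun a =>
      ((congrArg (algebraMap (B ⊗[A] FractionRing A) (Localization.AtPrime q))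
          (IsScalarTower.algebraMap_apply A B (B ⊗[A] FractionRing A) a)).trans
        ((IsScalarTower.algebraMap_apply B (B ⊗[A] FractionRing A) (Localization.AtPrime q) _).symm.trans
          (IsScalarTower.algebraMap_apply A B (Localization.AtPrime q) a).symm)).symm
    haveI : Module.Flat (B ⊗[A] FractionRing A) (Localization.AtPrime q) :=
      IsLocalization.flat _ (q.primeCompl.map (algebraMap B (B ⊗[A] FractionRing A)))
    haveI := hflat
    exact Module.Flat.trans A (B ⊗[A] FractionRing A) _
  constructor
  · intro q _ hass
    refine key q fun a ha haq => ?_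
    have h := Set.mem_biUnion (t := fun p : Ideal B => (p : Set B)) (s := associatedPrimes B B) hass haq
    rw [biUnion_associatedPrimes_eq_compl_nonZeroDivisors] at h
    exact h (h1 ha)
  · intro q _ hass
    refine key q fun a ha haq => ?_
    have h := Set.mem_biUnion (t := fun p : Ideal A => (p : Set A)) (s := associatedPrimes A A) hass
      (show a ∈ q.comap (algebraMap A B) from haq)
    rw [biUnion_associatedPrimes_eq_compl_nonZeroDivisors] at h
    exact h ha

end Groth.Agent.S8928
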