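import Groth.Statements.S8929
import Mathlib.RingTheory.Localization.LocalizationLocalization
import Mathlib.RingTheory.Flat.Localization
import Mathlib.RingTheory.Localization.BaseChange
import Mathlib.RingTheory.Ideal.AssociatedPrime.Finiteness
import Mathlib.RingTheory.Ideal.HasGoingUp
-- import your own Groth.Agent.* helpers here

set_option autoImplicit false
universe u
open scoped TensorProduct
open Disc

namespace Groth.Agent.S8929

/-- Let A → B be a map of Noetherian rings with the going-up property. If B_q is flat over A for every
associated prime q of B and for every prime q of B lying over an associated prime of A, then Q(A)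
⊗_A B is flat over the total ring of fractions Q(A). -/
theorem result (A B : Type u) [CommRing A] [CommRing B] [IsNoetherianRing A] [IsNoetherianRing B] [Algebra A B] [Algebra.HasGoingUp A B] (h3 : ∀ (q : Ideal B) [q.IsPrime], IsAssociatedPrime q B → Module.Flat A (Localization.AtPrime q)) (h4 : ∀ (q : Ideal B) [q.IsPrime], IsAssociatedPrime (q.comap (algebraMap A B)) A → Module.Flat A (Localization.AtPrime q)) : Module.Flat (FractionRing A) (FractionRing A ⊗[A] B) := by
  classical
  let T := B ⊗[A] FractionRing A
  suffices hT : Module.Flat A T by
    haveI := hT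
    haveI : Module.Flat A (FractionRing A ⊗[A] B) :=
      Module.Flat.of_linearEquiv (TensorProduct.comm A (FractionRing A) B)
    exact (Module.flat_iff_of_isLocalization (FractionRing A) (nonZeroDivisors A) _).2 inferInstance
  refine Module.flat_of_isLocalized_maximal (R := A) T T (fun m _ => Localization.AtPrime m)
    (fun m _ => Algebra.linearMap T (Localization.AtPrime m)) fun m _ => ?_
  let q : Ideal B := m.comap (algebraMap B T)
  haveI : IsLocalization.AtPrime (Localization.AtPrime m) q :=
    IsLocalization.isLocalization_isLocalization_atPrime_isLocalization (Algebra.algebraMapSubmonoid B (nonZeroDivisors A)) _ m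
  -- `q` meets `A` in zero divisors
  have hzd : ∀ a : A, algebraMap A B a ∈ q → a ∉ nonZeroDivisors A := fun a ha hnzd =>
    (inferInstance : m.IsMaximal).ne_top (m.eq_top_of_isUnit_mem ha
      (IsLocalization.map_units T (⟨_, a, hnzd, rfl⟩ : Algebra.algebraMapSubmonoid B (nonZeroDivisors A))))
  obtain ⟨P, hP, hle⟩ : ∃ P ∈ associatedPrimes A A, q.comap (algebraMap A B) ≤ P := by
    have hsub : ((q.comap (algebraMap A B) : Ideal A) : Set A) ⊆ ⋃ P ∈ associatedPrimes A A, (P : Set A) := by
      rw [biUnion_associatedPrimes_eq_compl_nonZeroDivisors]
      exact fun a ha => hzd a ha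
    exact (Ideal.subset_union_prime_finite (f := fun P : Ideal A => P) (associatedPrimes.finite A A) ⊥ ⊥
      (fun P hP _ _ => IsAssociatedPrime.isPrime hP)).1 hsub
  haveI : P.IsPrime := IsAssociatedPrime.isPrime hP
  haveI : q.LiesOver (q.comap (algebraMap A B)) := ⟨rfl⟩
  obtain ⟨q', hqq', hq', hover⟩ := Ideal.exists_ideal_ge_liesOver_of_le (p := q.comap (algebraMap A B)) q hle
  have hover' : q'.comap (algebraMap A B) = P := hover.over.symm
  haveI : Module.Flat A (Localization.AtPrime q') := h4 q' (hover'.symm ▸ hP)
  have hle' : q'.primeCompl ≤ q.primeCompl := fun x hx hxq => hx (hqq' hxq)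
  letI : Algebra (Localization.AtPrime q') (Localization.AtPrime m) :=
    IsLocalization.localizationAlgebraOfSubmonoidLe _ _ q'.primeCompl q.primeCompl hle'
  haveI : IsScalarTower B (Localization.AtPrime q') (Localization.AtPrime m) :=
    IsLocalization.localization_isScalarTower_of_submonoid_le _ _ q'.primeCompl q.primeCompl hle'
  haveI := IsLocalization.isLocalization_of_submonoid_le (Localization.AtPrime q') (Localization.AtPrime m)
    q'.primeCompl q.primeCompl hle'
  haveI : IsScalarTower A (Localization.AtPrime q') (Localization.AtPrime m) := IsScalarTower.of_algebraMap_eq fun a => by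
    rw [IsScalarTower.algebraMap_apply A B (Localization.AtPrime q'),
      ← IsScalarTower.algebraMap_apply B (Localization.AtPrime q') (Localization.AtPrime m),
      IsScalarTower.algebraMap_apply A T (Localization.AtPrime m), IsScalarTower.algebraMap_apply A B T,
      ← IsScalarTower.algebraMap_apply B T (Localization.AtPrime m)]
  haveI : Module.Flat (Localization.AtPrime q') (Localization.AtPrime m) :=
    IsLocalization.flat _ (q.primeCompl.map (algebraMap B (Localization.AtPrime q')))
  exact Module.Flat.trans A (Localization.AtPrime q') _

end Groth.Agent.S8929
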