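import Groth.Statements.S8930
import Mathlib.AlgebraicGeometry.Morphisms.OpenImmersion
import Mathlib.RingTheory.TensorProduct.Finite
import Mathlib.AlgebraicGeometry.Cover.Open
-- import your own Groth.Agent.* helpers here

set_option autoImplicit false
universe u
open AlgebraicGeometry
open Disc

open CategoryTheory

namespace Groth.Agent.S8930

/-- Given two factorizations A → B' → B and A → B'' → B of a ring map with A → B' and A → B'' finite and
Spec(B) → Spec(B'), Spec(B) → Spec(B'') open immersions, there is an A-subalgebra C of B which is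
finite over A, contains the images of B' and B'', and is such that Spec(B) → Spec(C) is an open
immersion. (Such an A → B is quasi-finite; that hypothesis of the published statement is implied by
the factorizations and is not repeated.) -/
theorem result (A B B' B'' : Type u) [CommRing A] [CommRing B] [CommRing B'] [CommRing B''] [Algebra A B] [Algebra A B'] [Algebra A B''] [Algebra B' B] [Algebra B'' B] [IsScalarTower A B' B] [IsScalarTower A B'' B] [Module.Finite A B'] [Module.Finite A B''] (h' : IsOpenImmersion (Spec.map (CommRingCat.ofHom (algebraMap B' B)))) (h'' : IsOpenImmersion (Spec.map (CommRingCat.ofHom (algebraMap B'' B)))) : ∃ C : Subalgebra A B, Module.Finite A C ∧ Set.range (algebraMap B' B) ⊆ (C : Set B) ∧ Set.range (algebraMap B'' B) ⊆ (C : Set B) ∧ IsOpenImmersion (Spec.map (CommRingCat.ofHom C.val.toRingHom)) := by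
  classical
  let f' : B' →ₐ[A] B := IsScalarTower.toAlgHom A B' B
  let f'' : B'' →ₐ[A] B := IsScalarTower.toAlgHom A B'' B
  let C : Subalgebra A B := (Algebra.TensorProduct.productMap f' f'').range
  have hC : C = f'.range ⊔ f''.range := Algebra.TensorProduct.productMap_range f' f''
  have hB' : Set.range (algebraMap B' B) ⊆ (C : Set B) := fun x hx => by
    rw [hC]; exact SetLike.le_def.1 le_sup_left hx
  haveI : Module.Finite A (TensorProduct A B' B'') := Module.Finite.trans B' _
  refine ⟨C, Module.Finite.of_surjective (Algebra.TensorProduct.productMap f' f'').rangeRestrict.toLinearMap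
      (AlgHom.rangeRestrict_surjective _), hB', fun x hx => by
      rw [hC]; exact SetLike.le_def.1 le_sup_right hx, ?_⟩
  let h := Spec.map (CommRingCat.ofHom (algebraMap B' B))
  haveI : IsOpenImmersion h := h'
  let π : B' →+* C := (algebraMap B' B).codRestrict C fun x => hB' ⟨x, rfl⟩
  let i : CommRingCat.of C ⟶ CommRingCat.of B := CommRingCat.ofHom C.val.toRingHom
  -- around every point the map is a localization at one element of `C`
  have key : ∀ q : PrimeSpectrum B, ∃ c : C, (c : B) ∉ q.asIdeal ∧
      IsOpenImmersion (Spec.map (CommRingCat.ofHom ((algebraMap B (Localization.Away (c : B))).comp C.val.toRingHom))) := by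
    intro q
    obtain ⟨_, ⟨_, ⟨b, rfl⟩, rfl⟩, hqb, hbV⟩ :=
      PrimeSpectrum.isBasis_basic_opens.exists_subset_of_mem_open (show h.base q ∈ Set.range h.base from ⟨q, rfl⟩)
        h.isOpenEmbedding.isOpen_range
    refine ⟨π b, hqb, ?_⟩
    let ι := Spec.map (CommRingCat.ofHom (algebraMap B' (Localization.Away b)))
    have hι : Set.range ι.base ⊆ Set.range h.base := by
      refine le_trans ?_ hbV
      exact (PrimeSpectrum.localization_away_comap_range (Localization.Away b) b).le
    obtain ⟨ψ, hψ⟩ : ∃ ψ, Spec.map ψ = IsOpenImmersion.lift h ι hι := ⟨_, Spec.map_preimage _⟩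
    have hψB : ∀ x : B', ψ (algebraMap B' B x) = algebraMap B' (Localization.Away b) x := by
      have h1 : Spec.map ψ ≫ h = ι := by rw [hψ]; exact IsOpenImmersion.lift_fac h ι hι
      rw [← Spec.map_comp] at h1
      exact fun x => congrArg (fun φ : CommRingCat.of B' ⟶ _ => φ x) (Spec.map_injective h1)
    let cB : B := algebraMap B' B b
    -- the natural map `B'_b → B_b`
    let ν : Localization.Away b →+* Localization.Away cB :=
      IsLocalization.Away.map (Localization.Away b) (Localization.Away cB) (algebraMap B' B) b
    have hν : ν.comp ψ.hom = algebraMap B (Localization.Away cB) := by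
      have e : Spec.map (CommRingCat.ofHom ν) ≫ Spec.map ψ =
          Spec.map (CommRingCat.ofHom (algebraMap B (Localization.Away cB))) := by
        rw [← cancel_mono h, Category.assoc, ← Spec.map_comp, ← Spec.map_comp, ← Spec.map_comp]
        congr 1
        ext x
        show ν (ψ (algebraMap B' B x)) = _
        rw [hψB]
        exact IsLocalization.map_eq _ x
      rw [← Spec.map_comp] at e
      exact congrArg CommRingCat.Hom.hom (Spec.map_injective e)
    have hnum : ∀ x : B, ∃ (n : ℕ) (x' : B'), cB ^ n * x = algebraMap B' B x' := by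
      intro x
      obtain ⟨⟨x', _, n, rfl⟩, hx⟩ := IsLocalization.surj (Submonoid.powers b) (ψ x)
      have h1 := congrArg ν hx
      rw [map_mul] at h1
      simp only [ν, IsLocalization.Away.map, IsLocalization.map_eq] at h1
      have h2 : ν (ψ x) = algebraMap B (Localization.Away cB) x := RingHom.congr_fun hν x
      simp only [ν, IsLocalization.Away.map] at h2
      rw [h2, ← map_mul, IsLocalization.eq_iff_exists (Submonoid.powers cB)] at h1
      obtain ⟨⟨_, m, rfl⟩, hm⟩ := h1
      refine ⟨m + n, b ^ m * x', ?_⟩
      rw [map_mul, map_pow, ← hm, map_pow, pow_add]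
      ring
    let c : C := π b
    letI : Algebra C (Localization.Away cB) := ((algebraMap B (Localization.Away cB)).comp C.val.toRingHom).toAlgebra
    have hmap : ∀ x : C, algebraMap C (Localization.Away cB) x = algebraMap B (Localization.Away cB) (x : B) :=
      fun _ => rfl
    haveI : IsLocalization.Away c (Localization.Away cB) := by
      constructor
      refine ⟨?_, ?_, ?_⟩
      · rintro ⟨_, n, rfl⟩
        rw [hmap, SubmonoidClass.coe_pow, map_pow]
        exact (IsLocalization.Away.algebraMap_isUnit (S := Localization.Away cB) cB).pow n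
      · intro z
        obtain ⟨⟨x, _, n, rfl⟩, hx⟩ := IsLocalization.surj (Submonoid.powers cB) z
        obtain ⟨m, x', hx'⟩ := hnum x
        refine ⟨⟨π x', ⟨c ^ (m + n), m + n, rfl⟩⟩, ?_⟩
        show z * algebraMap C (Localization.Away cB) (c ^ (m + n)) = algebraMap C (Localization.Away cB) (π x')
        rw [hmap, hmap, show ((c ^ (m + n) : C) : B) = cB ^ m * cB ^ n from by simp [c, π, pow_add, cB],
          show ((π x' : C) : B) = algebraMap B' B x' from rfl, ← hx', map_mul, map_mul, mul_left_comm]
        exact congrArg _ hx
      · intro x y hxy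
        obtain ⟨⟨_, n, rfl⟩, hn⟩ := (IsLocalization.eq_iff_exists (Submonoid.powers cB) (Localization.Away cB)).1 hxy
        exact ⟨⟨c ^ n, n, rfl⟩, Subtype.ext hn⟩
    exact (IsOpenImmersion.of_isLocalization (S := Localization.Away cB) c :)
  choose c hcq hc using key
  have hspan : Ideal.span (Set.range fun q : PrimeSpectrum B => (c q : B)) = ⊤ := by
    by_contra hne
    obtain ⟨m, hm, hle⟩ := Ideal.exists_le_maximal _ hne
    exact hcq ⟨m, hm.isPrime⟩ (hle (Ideal.subset_span ⟨_, rfl⟩))
  refine IsOpenImmersion.of_openCover_source _ (Scheme.affineOpenCoverOfSpanRangeEqTop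
    (R := CommRingCat.of B) (fun q : PrimeSpectrum B => (c q : B)) hspan).openCover ?_ fun q => ?_
  · have e : Spec.map i ≫ Spec.map (CommRingCat.ofHom π) = h := by
      rw [← Spec.map_comp]; rfl
    intro x y hxy
    apply h.isOpenEmbedding.injective
    rw [← e]
    show (Spec.map (CommRingCat.ofHom π)).base _ = (Spec.map (CommRingCat.ofHom π)).base _
    exact congrArg _ hxy
  · show IsOpenImmersion (Spec.map (CommRingCat.ofHom (algebraMap B (Localization.Away (c q : B)))) ≫ Spec.map i)
    rw [← Spec.map_comp]
    exact hc q

end Groth.Agent.S8930
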