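import Groth.Statements.S8932
import Groth.Agent.KFlatLib.Ring.DualizingFibreRows
-- import your own Groth.Agent.* helpers here

set_option autoImplicit false
universe u
open CategoryTheory
open scoped TensorProduct
attribute [local instance] HasDerivedCategory.standard
open Dual

namespace Groth.Agent.S8932

/-- For a field extension K/k, a finite type k-algebra A and a dualizing complex ω for A, the derived
base change of ω along A → K ⊗_k A is a dualizing complex for K ⊗_k A (the derived base change
functor being assumed to exist). -/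
theorem result (k K : Type u) [Field k] [Field K] [Algebra k K] (A : Type u) [CommRing A] [Algebra k A] [Algebra.FiniteType k A] [DRing.HasLBaseChange (Algebra.TensorProduct.includeRight : A →ₐ[k] K ⊗[k] A).toRingHom] (ω : Dual.D A) (hω : Dual.IsDualizing A ω) : Dual.IsDualizing (K ⊗[k] A) ((DRing.LBaseChange (Algebra.TensorProduct.includeRight : A →ₐ[k] K ⊗[k] A).toRingHom).obj ω) := by
  letI : Algebra A (K ⊗[k] A) := (Algebra.TensorProduct.includeRight : A →ₐ[k] K ⊗[k] A).toRingHom.toAlgebra
  haveI : IsScalarTower k A (K ⊗[k] A) := IsScalarTower.of_algebraMap_eq fun x => (((Algebra.TensorProduct.includeRight : A →ₐ[k] K ⊗[k] A)).commutes x).symm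
  let e₀ : K ⊗[k] A ≃ₐ[A] A ⊗[k] K := AlgEquiv.ofRingEquiv (f := (Algebra.TensorProduct.comm k K A).toRingEquiv) fun a => by
    rw [RingHom.algebraMap_toAlgebra]; simp
  haveI : Module.Flat A (K ⊗[k] A) := Module.Flat.of_linearEquiv e₀.toLinearEquiv
  haveI : IsNoetherianRing A := Algebra.FiniteType.isNoetherianRing k A
  haveI : IsNoetherianRing (K ⊗[k] A) := Algebra.FiniteType.isNoetherianRing K _
  have hdim : ringKrullDim (K ⊗[k] A) < ⊤ := Groth.Agent.KFlatLib.ringKrullDim_lt_top_of_finiteType (A := K)
    (by rw [ringKrullDim_eq_zero_of_field]; exact WithBot.coe_lt_coe.2 (WithTop.coe_lt_top 0))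
  refine Groth.Agent.KFlatLib.isDualizing_LBaseChange_of_gorenstein_fibers (A := A) (B := K ⊗[k] A) hω hdim fun p _ => ?_
  haveI : Algebra.EssFiniteType k p.ResidueField := Algebra.EssFiniteType.comp k A p.ResidueField
  haveI := Groth.Agent.LC.gorensteinRing_of_isRegularRing K
  let e₁ : p.Fiber (K ⊗[k] A) ≃+* p.ResidueField ⊗[k] K :=
    (Algebra.TensorProduct.congr (AlgEquiv.refl (R := A) (A₁ := p.ResidueField)) e₀).toRingEquiv.trans
      (Algebra.TensorProduct.cancelBaseChange k A p.ResidueField p.ResidueField K).toRingEquiv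
  exact Groth.Agent.LC.gorensteinRing_of_ringEquiv e₁.symm
    (Groth.Agent.LC.gorensteinRing_field_tensor (k := k) (R := K) p.ResidueField)

end Groth.Agent.S8932
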