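import Groth.Statements.S8933
import Groth.Agent.KFlatLib.Ring.RgammaHDI
import Groth.Agent.KFlatLib.Ring.EvalPseudoCoherent
-- import your own Groth.Agent.* helpers here

set_option autoImplicit false
universe u
open CategoryTheory CategoryTheory.Limits
attribute [local instance] HasDerivedCategory.standard
open LocCoh

namespace Groth.Agent.S8933

/-- For a ring A, a finitely generated ideal I and a complex K of A-modules such that multiplication by
some f ∈ I is bijective on every term of K, the object RΓ_I(K) of D(A) is zero; here RΓ_I is the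
right derived functor of the I-power torsion functor, assumed to exist. -/
theorem result (A : Type u) [CommRing A] (I : Ideal A) (hI : I.FG) [DRing.HasRgammaI I] (K : CochainComplex (ModuleCat.{u} A) ℤ) (f : A) (hf : f ∈ I) (hK : ∀ n : ℤ, Function.Bijective (fun x : K.X n => f • x)) : IsZero ((DRing.RgammaI I).obj (DerivedCategory.Q.obj K)) := by
  have hK' : ∀ n : ℤ, IsIso ((f • 𝟙 K : K ⟶ K).f n) := fun n =>
    (ConcreteCategory.isIso_iff_bijective _).2 (hK n)
  haveI : IsIso (f • 𝟙 K : K ⟶ K) := HomologicalComplex.Hom.isIso_of_components _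
  refine Groth.Agent.KFlatLib.isZero_of_forall_hd _ fun q => ?_
  obtain ⟨e⟩ := Groth.Agent.KFlatLib.RgammaHDI.nonempty_hd_equiv I (DerivedCategory.Q.obj K) q
  have hs : Subsingleton (Dual2.HDI A I (DerivedCategory.Q.obj K) q) := subsingleton_of_forall_eq 0 fun w => by
    obtain ⟨n, u, rfl⟩ := Groth.Agent.KFlatLib.RgammaHDI.exists_inc I ((DerivedCategory.Q.obj K)⟦q⟧) w
    haveI : IsIso (f • 𝟙 ((DerivedCategory.Q.obj K)⟦q⟧)) := by
      have h : (shiftFunctor (Dual.D A) q).map (DerivedCategory.Q.map (f • 𝟙 K)) =
          f • 𝟙 ((DerivedCategory.Q.obj K)⟦q⟧) := by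
        rw [Functor.map_smul, Functor.map_smul, CategoryTheory.Functor.map_id, CategoryTheory.Functor.map_id]
      rw [← h]
      infer_instance
    have hpow : ∀ k : ℕ, ∀ v : (DerivedCategory.singleFunctor (ModuleCat.{u} A) 0).obj
        (Groth.Agent.KFlatLib.RgammaHDI.qp I n) ⟶ (DerivedCategory.Q.obj K)⟦q⟧, f ^ k • v = 0 → v = 0 := by
      intro k
      induction k with
      | zero => intro v h; rwa [pow_zero, one_smul] at h
      | succ k ih =>
        intro v h
        rw [pow_succ, mul_smul] at h
        have h1 := ih _ h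
        rw [← cancel_mono (f • 𝟙 ((DerivedCategory.Q.obj K)⟦q⟧)), zero_comp, Linear.comp_smul, Category.comp_id]
        exact h1
    have h0 : (f ^ n) • 𝟙 (Groth.Agent.KFlatLib.RgammaHDI.qp I n) = 0 :=
      ModuleCat.hom_ext (Submodule.linearMap_qext _ (LinearMap.ext_ring
        ((Submodule.Quotient.mk_eq_zero _).2 (by simpa using Ideal.pow_mem_pow hf n))))
    rw [hpow n u ?_, map_zero]
    calc f ^ n • u = (DerivedCategory.singleFunctor (ModuleCat.{u} A) 0).map
          ((f ^ n) • 𝟙 (Groth.Agent.KFlatLib.RgammaHDI.qp I n)) ≫ u := by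
            rw [Functor.map_smul, CategoryTheory.Functor.map_id, Linear.smul_comp, Category.id_comp]
      _ = 0 := by rw [h0, Functor.map_zero, zero_comp]
  haveI : Subsingleton (Dual.HD A ((DRing.RgammaI I).obj (DerivedCategory.Q.obj K)) q) := e.toEquiv.subsingleton
  exact ModuleCat.isZero_of_subsingleton _

end Groth.Agent.S8933
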