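import Groth.Statements.S8936
import Groth.Agent.LC.InjNoeth

set_option autoImplicit false
universe u v
open InjHull

namespace Groth.Agent.S8936

/-- For a directed system (E_i) of R-modules over a nonempty directed preorder and a compatible family
of essential injections M → E_i, the induced map from M to the direct limit of the E_i is an
essential injection. -/
theorem result (R : Type u) [CommRing R] (ι : Type v) [Preorder ι] [IsDirectedOrder ι] [DecidableEq ι] (i₀ : ι) (E : ι → Type v) [∀ i, AddCommGroup (E i)] [∀ i, Module R (E i)] (f : ∀ i j, i ≤ j → E i →ₗ[R] E j) [DirectedSystem E fun i j h => f i j h] (M : Type v) [AddCommGroup M] [Module R M] (g : ∀ i, M →ₗ[R] E i) (hg : ∀ i j (h : i ≤ j), f i j h ∘ₗ g i = g j) (he : ∀ i, InjHull.IsEssentialInj (g i)) : InjHull.IsEssentialInj (Module.DirectLimit.of R ι E f i₀ ∘ₗ g i₀) := by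
  exact Groth.Agent.LC.isEssentialInj_directLimit i₀ f g hg he

end Groth.Agent.S8936
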