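import Groth.Statements.S8937
import Groth.Agent.GrLib8.PuncturedLC
import Groth.Agent.H28.BlowHH
import Groth.Agent.RelPC17.HighVanish
import Groth.Agent.Lib.BlowUpInt
import Groth.Agent.BlowUpX.Basic
import Groth.Agent.BlowSep17.Basic
import Groth.Agent.CartExt.Cartier

set_option autoImplicit false
universe u
open CategoryTheory AlgebraicGeometry
attribute [local instance] HasDerivedCategory.standard
open LocCoh
set_option backward.isDefEq.respectTransparency false
set_option backward.isDefEq.respectTransparency.types false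

namespace Groth.Agent.S8937

/-- Let A be a Noetherian ring, I an ideal and b : X → Spec A a blowing up of Spec A in I. If the fibres
of b have dimension at most d, then cd(A, I) ≤ d + 1, i.e. H^i_I(M) = 0 for all A-modules M and all
i > d + 1. -/
theorem result (A : Type u) [CommRing A] [IsNoetherianRing A] (I : Ideal A) (X : Scheme.{u}) (b : X ⟶ Spec (CommRingCat.of A)) (hb : BlowUp.IsBlowUp b (Curv2.idealSheaf A I)) (d : ℕ) (hd : Dual3.FibreDimLE b d) : LocCoh.CdLE A I (d + 1) := by
  let C := Curv2.idealSheaf A I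
  have hU : LocCoh.puncturedOpen A I = C.support.compl := by
    refine TopologicalSpace.Opens.ext (congrArg (fun s => sᶜ) ?_)
    show PrimeSpectrum.zeroLocus (R := A) (I : Set A) = (C.support : Set (Spec (CommRingCat.of A)))
    rw [show (C.support : Set ↥(Spec (CommRingCat.of A))) = _ from Scheme.IdealSheafData.coe_support_ofIdealTop _,
      Spec_zeroLocus]
    ext x
    refine ⟨fun h a ha => ?_, fun h a ha => ?_⟩
    · obtain ⟨b, hb, hbr⟩ := (Ideal.mem_map_iff_of_surjective _
        (Scheme.ΓSpecIso (CommRingCat.of A)).symm.commRingCatIsoToRingEquiv.surjective).1 ha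
      exact (Scheme.ΓSpecIso (CommRingCat.of A)).symm.commRingCatIsoToRingEquiv.injective hbr ▸ h hb
    · exact h (show (Scheme.ΓSpecIso (CommRingCat.of A)).inv.hom a ∈ _ from Ideal.mem_map_of_mem _ ha)
  have hCft : BlowUp.IsFiniteTypeIdeal C := fun V => by
    haveI : IsNoetherianRing Γ(Spec (CommRingCat.of A), V.1) :=
      IsLocallyNoetherian.component_noetherian V
    exact IsNoetherian.noetherian _
  haveI := Groth.Agent.BlowUpLib.isProper_of_isBlowUp (C := C) hb hCft
  haveI : IsIso (b ∣_ C.support.compl) := Groth.Agent.BlowUpX.isIso_restrict hb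
  haveI : IsAffineHom (b ⁻¹ᵁ C.support.compl).ι :=
    Groth.Agent.CartExt.isAffineHom_compl (I := C.comap b) hb.1
      (TopologicalSpace.Opens.ext (Set.ext fun z => (Groth.Agent.BlowSep17.mem_support_comap C b z).not.symm))
  intro M _ _ i hi
  obtain ⟨j, rfl⟩ : ∃ j, i = j + 2 := ⟨i - 2, by omega⟩
  obtain ⟨e⟩ := Groth.Agent.GrLib8.PuncturedLC.nonempty_HH_succ I j (ModuleCat.of A M)
  suffices h : Subsingleton (Coh.HH ((LocCoh.puncturedOpen A I : (Spec (CommRingCat.of A)).Opens) : Scheme.{u})
      ((Groth.Agent.LocCohDepth.Punct.G (LocCoh.puncturedOpen A I)).obj (ModuleCat.of A M)) (j + 1)) from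
    e.symm.toEquiv.subsingleton
  show Subsingleton (Coh.HH _ ((tilde (R := CommRingCat.of A) (ModuleCat.of A M)).restrict
    (LocCoh.puncturedOpen A I).ι) (j + 1))
  let U : (Spec (CommRingCat.of A)).Opens := C.support.compl
  rw [show LocCoh.puncturedOpen A I = U from hU]
  have hM : Coh.IsQCoh ((tilde (R := CommRingCat.of A) (ModuleCat.of A M)).restrict U.ι) :=
    Groth.Agent.QCoh.isQCoh_restrict _ (inferInstanceAs ((tilde (R := CommRingCat.of A) (ModuleCat.of A M)).IsQuasicoherent))
  refine Groth.Agent.H28.BlowHH.hh_iso (b ∣_ C.support.compl) hM (j + 1) ?_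
  have hK := Groth.Agent.QCoh.isQCoh_pullback (b ∣_ C.support.compl) hM
  obtain ⟨e'⟩ := Groth.Agent.QCoh.HH_push_of_isAffineHom (b ⁻¹ᵁ C.support.compl).ι hK (j + 1)
  haveI : Subsingleton (Coh.HH X _ (j + 1)) := Groth.Agent.RelPC17.HighVanish.subsingleton_HH_of_fibre_dim b d hd
    (Groth.Agent.QCoh.isQCoh_pushforward (b ⁻¹ᵁ C.support.compl).ι hK) (j + 1) (by omega)
  exact e'.toEquiv.subsingleton

end Groth.Agent.S8937
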