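import Groth.Statements.S8941
import Groth.Agent.KFlatLib.Ring.DualizingPrincipal
-- import your own Groth.Agent.* helpers here

set_option autoImplicit false
universe u
open CategoryTheory CategoryTheory.Pretriangulated
attribute [local instance] HasDerivedCategory.standard
open Dual

namespace Groth.Agent.S8941

/-- Let A be a Noetherian local ring with normalized dualizing complex ω, f a nonzerodivisor in the
maximal ideal and B = A/(f); with R right adjoint to restriction of scalars D(B) → D(A) (so that
R(ω) is RHom_A(B, ω), a normalized dualizing complex for B), there is a distinguished triangle in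
D(A) with vertices R(ω) viewed over A, ω, ω, whose middle morphism ω → ω is multiplication by f. -/
theorem result (A : Type u) [CommRing A] [IsLocalRing A] [IsNoetherianRing A] (ω : Dual.D A) (hω : Dual.IsDualizing A ω) (hn : Dual.IsNormalized A ω) (f : A) (hf : f ∈ IsLocalRing.maximalIdeal A) (hf' : f ∈ nonZeroDivisors A) (R : Dual.D A ⥤ Dual.D (A ⧸ Ideal.span {f})) (adj : DRing.restrictD (Ideal.Quotient.mk (Ideal.span {f})) ⊣ R) : ∃ (u : (DRing.restrictD (Ideal.Quotient.mk (Ideal.span {f}))).obj (R.obj ω) ⟶ ω) (w : ω ⟶ ((DRing.restrictD (Ideal.Quotient.mk (Ideal.span {f}))).obj (R.obj ω))⟦(1 : ℤ)⟧), Triangle.mk u (f • 𝟙 ω) w ∈ distinguishedTriangles := by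
  exact KFlatLib.exists_principal_triangle hω f hf' R adj

end Groth.Agent.S8941
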