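import Groth.Statements.S8943
import Groth.Agent.KFlatLib.Ring.BaseChangeShriekVia
import Mathlib.Algebra.Category.Ring.Epi
import Mathlib.AlgebraicGeometry.Morphisms.Flat
-- import your own Groth.Agent.* helpers here

set_option autoImplicit false
universe u
open CategoryTheory AlgebraicGeometry
attribute [local instance] HasDerivedCategory.standard
open Dual2

namespace Groth.Agent.S8943

/-- Let R → R′ be a homomorphism of Noetherian rings such that Spec(R′) → Spec(R) is an open immersion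
(e.g. R′ = R_f). With φ^!(K) = RHom_P(R′, K ⊗^L_R P)[n] formed from a presentation ψ : P = R[x_1, …,
x_n] → R′ (derived base change functors assumed to exist, RHom_P(R′, −) a right adjoint of
restriction of scalars), φ^!(K) is isomorphic to K ⊗^L_R R′ for every K in D(R) (existence of an
isomorphism). -/
theorem result (R R' : Type u) [CommRing R] [CommRing R'] [IsNoetherianRing R] [IsNoetherianRing R'] [Algebra R R'] (hopen : IsOpenImmersion (Spec.map (CommRingCat.ofHom (algebraMap R R')))) (n : ℕ) (ψ : MvPolynomial (Fin n) R →ₐ[R] R') (hψ : Function.Surjective ψ) [DRing.HasLBaseChange (algebraMap R (MvPolynomial (Fin n) R))] (Rψ : Dual.D (MvPolynomial (Fin n) R) ⥤ Dual.D R') (adj : DRing.restrictD ψ.toRingHom ⊣ Rψ) [DRing.HasLBaseChange (algebraMap R R')] (K : Dual.D R) : Nonempty (Dual2.shriekVia n Rψ K ≅ (DRing.LBaseChange (algebraMap R R')).obj K) := by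
  haveI := hopen
  have hflat : Module.Flat R R' := RingHom.flat_algebraMap_iff.1
    ((HasRingHomProperty.Spec_iff (P := @Flat) (φ := CommRingCat.ofHom (algebraMap R R'))).1 inferInstance)
  haveI := hflat
  haveI : Mono (Scheme.Spec.map (CommRingCat.ofHom (algebraMap R R')).op) :=
    inferInstanceAs (Mono (Spec.map (CommRingCat.ofHom (algebraMap R R'))))
  haveI : Mono (CommRingCat.ofHom (algebraMap R R')).op := Scheme.Spec.mono_of_mono_map inferInstance
  haveI : Epi (CommRingCat.ofHom (algebraMap R R')) := unop_epi_of_mono (CommRingCat.ofHom (algebraMap R R')).op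
  have hepi := (Algebra.isEpi_iff_forall_one_tmul_eq R R').1 (CommRingCat.epi_iff_epi.1 inferInstance)
  let T := TensorProduct R R' R'
  let μ : T →+* R' := (Algebra.TensorProduct.lmul' R (S := R')).toRingHom
  let inc := Groth.Agent.KFlatLib.incRight R R' R'
  let left := algebraMap R' T
  have h₁ : μ.comp inc = RingHom.id R' := RingHom.ext fun x =>
    show (Algebra.TensorProduct.lmul' R (S := R')) ((1 : R') ⊗ₜ[R] x) = x by rw [Algebra.TensorProduct.lmul'_apply_tmul, one_mul]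
  have h₂ : μ.comp left = RingHom.id R' := RingHom.ext fun x =>
    show (Algebra.TensorProduct.lmul' R (S := R')) (x ⊗ₜ[R] (1 : R')) = x by rw [Algebra.TensorProduct.lmul'_apply_tmul, mul_one]
  have h₃ : left.comp μ = RingHom.id T := RingHom.ext fun z => by
    induction z using TensorProduct.induction_on with
    | zero => simp
    | add x y hx hy => rw [map_add, hx, hy, map_add]
    | tmul x y =>
      show (Algebra.TensorProduct.lmul' R (S := R') (x ⊗ₜ[R] y)) ⊗ₜ[R] (1 : R') = x ⊗ₜ[R] y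
      rw [Algebra.TensorProduct.lmul'_apply_tmul]
      calc (x * y) ⊗ₜ[R] (1 : R') = (x ⊗ₜ[R] (1 : R')) * (y ⊗ₜ[R] (1 : R')) := by simp
        _ = (x ⊗ₜ[R] (1 : R')) * ((1 : R') ⊗ₜ[R] y) := by rw [hepi y]
        _ = x ⊗ₜ[R] y := by simp
  haveI : Module.Finite R' T := Module.Finite.of_surjective (Algebra.linearMap R' T)
    fun z => ⟨μ z, RingHom.congr_fun h₃ z⟩
  let P := MvPolynomial (Fin n) R
  haveI := Groth.Agent.KFlatLib.hasLBase (algebraMap R P)
  haveI := Groth.Agent.KFlatLib.hasLBase (algebraMap R R')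
  haveI := Groth.Agent.KFlatLib.hasLBase (algebraMap R' (MvPolynomial (Fin n) R'))
  haveI := Groth.Agent.KFlatLib.hasLBase inc
  haveI := Groth.Agent.KFlatLib.hasLBase left
  haveI := Groth.Agent.KFlatLib.hasLBase μ
  haveI := Groth.Agent.KFlatLib.hasLBase (μ.comp inc)
  haveI := Groth.Agent.KFlatLib.hasLBase (μ.comp left)
  obtain ⟨e₁⟩ := Groth.Agent.KFlatLib.nonempty_LBaseChange_iso (algebraMap R P)
  obtain ⟨e₂⟩ := Groth.Agent.KFlatLib.nonempty_LBaseChange_iso (algebraMap R R')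
  have hR : ψ.toRingHom.comp MvPolynomial.C = algebraMap R R' := RingHom.ext fun r => ψ.commutes r
  obtain ⟨R₁, ⟨a₁⟩⟩ := Groth.Agent.KFlatLib.exists_shriek (Groth.Agent.KFlatLib.presBC R' ψ.toRingHom)
  obtain ⟨R₂, ⟨a₂⟩⟩ := Groth.Agent.KFlatLib.exists_shriek left
  obtain ⟨t⟩ := Groth.Agent.KFlatLib.nonempty_shriek_baseChange_of_flat_left (R' := R') ψ.toRingHom hψ hR
    (algebraMap R P) rfl adj (Groth.Agent.KFlatLib.presBC R' ψ.toRingHom)
    (Groth.Agent.KFlatLib.surjective_presBC ψ.toRingHom hψ hR) (Groth.Agent.KFlatLib.presBC_C ψ.toRingHom)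
    (algebraMap R' (MvPolynomial (Fin n) R')) rfl a₁ K
  obtain ⟨f⟩ := Groth.Agent.KFlatLib.nonempty_shriek_finite n (Groth.Agent.KFlatLib.presBC R' ψ.toRingHom)
    (Groth.Agent.KFlatLib.surjective_presBC ψ.toRingHom hψ hR) (algebraMap R' (MvPolynomial (Fin n) R')) rfl
    (Groth.Agent.KFlatLib.presBC_C ψ.toRingHom) a₁ a₂
  obtain ⟨g⟩ := Groth.Agent.KFlatLib.nonempty_iso_of_inverse left μ h₂ h₃ a₂
  obtain ⟨j₁⟩ := Groth.Agent.KFlatLib.nonempty_LBase_comp inc μ _ rfl
  obtain ⟨j₂⟩ := Groth.Agent.KFlatLib.nonempty_LBase_comp left μ _ rfl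
  obtain ⟨k₁⟩ := Groth.Agent.KFlatLib.nonempty_LBase_id (μ.comp inc) h₁
  obtain ⟨k₂⟩ := Groth.Agent.KFlatLib.nonempty_LBase_id (μ.comp left) h₂
  exact ⟨(shiftFunctor _ (n : ℤ)).mapIso (Rψ.mapIso (e₁.app K)) ≪≫ ((j₁ ≪≫ k₁).app _).symm ≪≫
    (DTen.LBase μ).mapIso (t ≪≫ f.app _ ≪≫ g.app _) ≪≫ (j₂ ≪≫ k₂).app _ ≪≫ (e₂.app K).symm⟩


end Groth.Agent.S8943
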