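import Groth.Statements.S8944
import Groth.Agent.QFD.FibreFlat
import Groth.Agent.QFD.Ass
-- import your own Groth.Agent.* helpers here

set_option autoImplicit false
universe u
open AlgebraicGeometry
open scoped TensorProduct
open Disc

namespace Groth.Agent.S8944

/-- Let A → B be a flat homomorphism of Noetherian rings, and suppose it factors through a ring B′ as A
→ B′ → B, where B′ is finite over A and the induced map of spectra Spec(B) → Spec(B′) is an open
immersion, so that the relative dualizing module is ω_{B/A} = Hom_A(B′, A) ⊗_{B′} B (B′ acting on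
Hom_A(B′, A) through the argument). Then ω_{B/A} is a flat A-module. -/
theorem result (A B B' : Type u) [CommRing A] [CommRing B] [CommRing B'] [IsNoetherianRing A] [IsNoetherianRing B] [Algebra A B] [Module.Flat A B] [Algebra A B'] [Algebra B' B] [IsScalarTower A B' B] [Module.Finite A B'] (hopen : IsOpenImmersion (Spec.map (CommRingCat.ofHom (algebraMap B' B)))) : Module.Flat A (B ⊗[B'] Disc.Omega A B') := by
  classical
  haveI hf : QFDual.IsQFFactor A B' B := ⟨inferInstance, hopen⟩
  let f : ∀ (P : Ideal B) [P.IsMaximal], (B ⊗[B'] Disc.Omega A B') →ₗ[B] Localization.AtPrime P ⊗[B'] Disc.Omega A B' :=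
    fun P _ => TensorProduct.AlgebraTensorModule.map (Algebra.linearMap B (Localization.AtPrime P)) LinearMap.id
  haveI : ∀ (P : Ideal B) [P.IsMaximal], IsLocalizedModule P.primeCompl (f P) := fun P _ => by
    refine (isLocalizedModule_iff_isBaseChange _ (Localization.AtPrime P) _).mpr
      (IsBaseChange.of_comp (TensorProduct.isBaseChange B' (Disc.Omega A B') B) ?_)
    convert TensorProduct.isBaseChange B' (Disc.Omega A B') (Localization.AtPrime P) using 1
    ext φ
    simp [f]
  refine Module.flat_of_isLocalized_maximal B (B ⊗[B'] Disc.Omega A B')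
    (fun P _ => LocalizedModule P.primeCompl (B ⊗[B'] Disc.Omega A B'))
    (fun P _ => LocalizedModule.mkLinearMap P.primeCompl (B ⊗[B'] Disc.Omega A B')) (fun P _ => ?_)
  haveI := this P
  haveI : Module.Flat A (Localization.AtPrime P ⊗[B'] Disc.Omega A B') := QFD.flat_omega_atPrime hf P
  exact Module.Flat.of_linearEquiv ((IsLocalizedModule.iso P.primeCompl (f P)).restrictScalars A)

end Groth.Agent.S8944
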