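import Groth.Statements.S8945
import Groth.Agent.KFlatLib.Ring.DualizingQuotTriangle
-- import your own Groth.Agent.* helpers here

set_option autoImplicit false
universe u
open CategoryTheory CategoryTheory.Pretriangulated
attribute [local instance] HasDerivedCategory.standard
open Dual

namespace Groth.Agent.S8945

/-- Suppose A is a Noetherian local ring with maximal ideal m and residue field κ, and that ω is a
normalized dualizing complex on A; take an ideal I ⊆ m of finite length, set B = A/I, and let E be
an injective hull of κ; with R right adjoint to restriction of scalars D(B) → D(A) (so that R(ω) =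
RHom_A(B, ω) is a normalized dualizing complex for B), there is a distinguished triangle in D(A)
with vertices R(ω) viewed over A, ω, and the module Hom_A(I, E) placed in degree 0. -/
theorem result (A : Type u) [CommRing A] [IsLocalRing A] [IsNoetherianRing A] (ω : Dual.D A) (hω : Dual.IsDualizing A ω) (hn : Dual.IsNormalized A ω) (I : Ideal A) (hI : I ≤ IsLocalRing.maximalIdeal A) (hIl : IsFiniteLength A I) (E : Type u) [AddCommGroup E] [Module A E] (e : IsLocalRing.ResidueField A →ₗ[A] E) (he : InjHull.IsInjectiveHull e) (R : Dual.D A ⥤ Dual.D (A ⧸ I)) (adj : DRing.restrictD (Ideal.Quotient.mk I) ⊣ R) : ∃ (u : (DRing.restrictD (Ideal.Quotient.mk I)).obj (R.obj ω) ⟶ ω) (v : ω ⟶ Dual.inD A (I →ₗ[A] E)) (w : Dual.inD A (I →ₗ[A] E) ⟶ ((DRing.restrictD (Ideal.Quotient.mk I)).obj (R.obj ω))⟦(1 : ℤ)⟧), Triangle.mk u v w ∈ distinguishedTriangles := by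
  exact KFlatLib.exists_quot_triangle hω hn he I hIl R adj

end Groth.Agent.S8945
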