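import Groth.Statements.S8946
import Groth.Agent.GrLib8.PointT.Rows
-- import your own Groth.Agent.* helpers here

set_option autoImplicit false
universe u
open CategoryTheory
open LocCoh

namespace Groth.Agent.S8946

/-- Let A be a Noetherian ring of finite dimension, T ⊆ Spec A a specialization-stable subset, (M_n) an
inverse system of A-modules and i ≥ 0. Suppose m′(m) ≥ m is such that for every p ∈ T: the maps
H^{i-1}_{pA_p}(M_{k,p}) → H^{i-1}_{pA_p}(M_{m,p}) vanish for k ≥ m′(m) (no condition when i = 0),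
and the maps H^i_{pA_p}(M_{k,p}) → H^i_{pA_p}(M_{m,p}) have the same image for all k ≥ m′(m), this
image mapping injectively into H^i_{pA_p}(M_{0,p}). Then there is m₀ such that for every m ≥ m₀
there is m″ ≥ m such that for k ≥ m″ the image of H^i_T(M_k) → H^i_T(M_m) maps injectively into
H^i_T(M_{m₀}). -/
theorem result (A : Type u) [CommRing A] [IsNoetherianRing A] (hA : ringKrullDim A < ⊤) (T : Set (PrimeSpectrum A)) (hT : StableUnderSpecialization T) (M : ℕ → Type u) [∀ n, AddCommGroup (M n)] [∀ n, Module A (M n)] (φ : ∀ k m : ℕ, m ≤ k → (M k →ₗ[A] M m)) (hφ : ∀ (k l m : ℕ) (h₁ : m ≤ l) (h₂ : l ≤ k), φ k m (h₁.trans h₂) = φ l m h₁ ∘ₗ φ k l h₂) (i : ℕ) (m' : ℕ → ℕ) (hm' : ∀ m, m ≤ m' m) (h1 : 0 < i → ∀ (p : PrimeSpectrum A), p ∈ T → ∀ (m k : ℕ) (h : m ≤ k), m' m ≤ k → (localCohomology (IsLocalRing.maximalIdeal (Localization.AtPrime p.asIdeal)) (i - 1)).map (ModuleCat.ofHom (LocalizedModule.map p.asIdeal.primeCompl (φ k m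 h))) = 0) (h2 : ∀ (p : PrimeSpectrum A), p ∈ T → ∀ (m k : ℕ) (h : m ≤ k), m' m ≤ k → LinearMap.range ((localCohomology (IsLocalRing.maximalIdeal (Localization.AtPrime p.asIdeal)) i).map (ModuleCat.ofHom (LocalizedModule.map p.asIdeal.primeCompl (φ k m h)))).hom = LinearMap.range ((localCohomology (IsLocalRing.maximalIdeal (Localization.AtPrime p.asIdeal)) i).map (ModuleCat.ofHom (LocalizedModule.map p.asIdeal.primeCompl (φ (m' m) m (hm' m))))).hom) (h3 : ∀ (p : PrimeSpectrum A), p ∈ T → ∀ (m : ℕ) (x : ↑((localCohomology (IsLocalRing.maximalIdeal (Localization.AtPrime p.asIdeal)) i).obj (ModuleCat.of (Localization.AtPrime p.asIdeal) (LocalizedModule p.asIdeal.primeCompl (M m))))), x ∈ LinearMap.range ((localCohomology (IsLocalRing.maximalIdeal (Localization.AtPrime p.asIdeal)) i).map (ModuleCat.ofHom (LocalizedModule.map p.asIdeal.primeCompl (φ (m' m) m (hm' m))))).hom → ((localCohomology (IsLocalRing.maximalIdeal (Localization.AtPrime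 p.asIdeal)) i).map (ModuleCat.ofHom (LocalizedModule.map p.asIdeal.primeCompl (φ m 0 (Nat.zero_le m))))).hom x = 0 → x = 0) : ∃ m₀ : ℕ, ∀ m : ℕ, ∀ (hm : m₀ ≤ m), ∃ m'' : ℕ, m ≤ m'' ∧ ∀ (k : ℕ) (h : m ≤ k), m'' ≤ k → ∀ x : ↑((localCohomology.ofDiagram (Dual2.idealsInDiagram T) i).obj (ModuleCat.of A (M m))), x ∈ LinearMap.range ((localCohomology.ofDiagram (Dual2.idealsInDiagram T) i).map (ModuleCat.ofHom (φ k m h))).hom → ((localCohomology.ofDiagram (Dual2.idealsInDiagram T) i).map (ModuleCat.ofHom (φ m m₀ hm))).hom x = 0 → x = 0 := by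
  let g : ∀ k m : ℕ, m ≤ k → (ModuleCat.of A (M k) ⟶ ModuleCat.of A (M m)) := fun k m h => ModuleCat.ofHom (φ k m h)
  have hg : ∀ (k l m : ℕ) (h₁ : m ≤ l) (h₂ : l ≤ k), g k m (h₁.trans h₂) = g k l h₂ ≫ g l m h₁ := fun k l m h₁ h₂ =>
    ModuleCat.hom_ext (hφ k l m h₁ h₂)
  obtain ⟨e, he⟩ := Groth.Agent.GrLib8.PointT.exists_bd hA T
  obtain ⟨m₀, hm₀⟩ := Groth.Agent.GrLib8.PointT.inject (fun n => ModuleCat.of A (M n)) g i m' hg hm' e T hT he
    (fun j hj p hp m k h hk => by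
      obtain rfl : j = i - 1 := by omega
      exact h1 (by omega) p hp m k h hk)
    (fun p hp m k h hk z hz => h3 p hp m _ ((h2 p hp m k h hk).le ⟨z, rfl⟩) hz)
  refine ⟨m₀, fun m hm => ?_⟩
  obtain ⟨m'', hmm, H⟩ := hm₀ m hm
  refine ⟨m'', hmm, fun k h hk x hx hx0 => ?_⟩
  obtain ⟨w, rfl⟩ := hx
  obtain ⟨K, y, rfl⟩ := Groth.Agent.GrLib8.HTLib.exists_tH i w
  have e1 := Groth.Agent.GrLib8.HTLib.tH_natural i (g k m h) y
  refine e1.trans (H k h hk K y ?_)
  have e2 := Groth.Agent.GrLib8.HTLib.tH_natural i (g m m₀ hm) (y.comp (Abelian.Ext.mk₀ (g k m h)) (add_zero i))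
  have e3 := (congrArg ((localCohomology.ofDiagram (Dual2.idealsInDiagram T) i).map (g m m₀ hm)).hom e1).symm.trans hx0
  exact ((congrArg _ (Groth.Agent.GrLib8.PointT.comp_g (fun n => ModuleCat.of A (M n)) g i hg hm h y)).symm.trans e2.symm).trans e3

end Groth.Agent.S8946
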