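import Groth.Statements.S8952
import Groth.Agent.KExact.FieldShriek
-- import your own Groth.Agent.* helpers here

set_option autoImplicit false
set_option linter.style.haveILetI false
set_option backward.isDefEq.respectTransparency false
set_option backward.isDefEq.respectTransparency.types false

universe u
open CategoryTheory CategoryTheory.Limits AlgebraicGeometry
attribute [local instance] HasDerivedCategory.standard
open Dual3

namespace Groth.Agent.S8952

open Groth.Agent.KExact Groth.Agent.KFlatLib


/-- Let X be proper over a field k with structure morphism f factoring as f′ : X → Spec(k′) followed by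
Spec(k′) → Spec(k) for a field extension k′ of k. With a and a′ right adjoints of Rf_* and Rf′_* on
D_QCoh (assumed to exist and to preserve quasi-coherent cohomology) and O, O′ the structure sheaves
of Spec(k), Spec(k′) placed in degree 0, the objects a(O) and a′(O′) of D(O_X) are isomorphic: the
dualizing complex of X computed over k agrees with the one computed over k′. -/
theorem result (k k' : Type u) [Field k] [Field k'] [Algebra k k'] (X : Scheme.{u}) (f : X ⟶ Spec (CommRingCat.of k)) [IsProper f] (f' : X ⟶ Spec (CommRingCat.of k')) (hff' : f' ≫ Spec.map (CommRingCat.ofHom (algebraMap k k')) = f) [DCoh.HasRpush f] (hf : DCoh.RpushPreservesQCoh f) (a : DCoh.DQCoh (Spec (CommRingCat.of k)) ⥤ DCoh.DQCoh X) (adj : DCoh.RpushQ f hf ⊣ a) [DCoh.HasRpush f'] (hf' : DCoh.RpushPreservesQCoh f') (a' : DCoh.DQCoh (Spec (CommRingCat.of k')) ⥤ DCoh.DQCoh X) (adj' : DCoh.RpushQ f' hf' ⊣ a') (O : DCoh.DQCoh (Spec (CommRingCat.of k))) (hO : Nonempty (O.obj ≅ DCoh.inD (Spec (CommRingCat.of k)) (Coh.structureModule (Spec (CommRingCat.of k))))) (O' : DCoh.DQCoh (Spec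 (CommRingCat.of k'))) (hO' : Nonempty (O'.obj ≅ DCoh.inD (Spec (CommRingCat.of k')) (Coh.structureModule (Spec (CommRingCat.of k'))))) : Nonempty ((a.obj O).obj ≅ (a'.obj O').obj) := by
  haveI : ∀ (U V : Scheme.{u}) (j : U ⟶ V) [IsOpenImmersion j],
      PreservesFiniteLimits (Scheme.Modules.restrictFunctor j) := fun U V j _ => inferInstance
  haveI : ∀ (R : CommRingCat.{u}), PreservesFiniteLimits (tilde.functor R) := fun R => QCoh.tilde_preservesFiniteLimits
  cases isEmpty_or_nonempty X with
  | inl h => exact ⟨(FieldShriek.isZero_of_isEmpty _).iso (FieldShriek.isZero_of_isEmpty _)⟩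
  | inr h =>
    obtain ⟨eO⟩ := hO
    obtain ⟨eO'⟩ := hO'
    exact FieldShriek.nonempty_iso f f' hff' adj adj' O eO O' eO'
end Groth.Agent.S8952
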