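import Groth.Statements.S8962
import Groth.Agent.QFD.Dedekind

set_option autoImplicit false
universe u
open QFDual

namespace Groth.Agent.S8962

/-- If the Dedekind different of A → B is defined (A Noetherian, B a finite A-algebra, nonzerodivisors
of A nonzerodivisors on B, K = Q(A) → L = B ⊗_A K étale, here with L finite free over K), then x ↦
(b ↦ Trace_{L/K}(x b)) is a B-linear isomorphism from the Dedekind complementary module 𝓛_{B/A} onto
ω_{B/A} = Hom_A(B, A), the latter with B acting through the argument. Stated as the existence of a
B-linear equivalence e with algebraMap (e(x)(b)) = Trace_{L/K}(x b) in K for all x and b, which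
determines e since A → K is injective. -/
theorem result (A K B L : Type u) [CommRing A] [CommRing K] [CommRing B] [CommRing L] [Algebra A K] [Algebra A B] [Algebra B L] [Algebra K L] [Algebra A L] [IsScalarTower A K L] [IsScalarTower A B L] (h : QFDual.IsDedekindDefined A K B L) : ∃ e : QFDual.complementary A K B L ≃ₗ[B] Disc.Omega A B, ∀ (x : QFDual.complementary A K B L) (b : B), algebraMap A K ((e x).toLinearMap b) = Algebra.trace K L ((x : L) * algebraMap B L b) := by
    exact Groth.Agent.QFD.exists_complementary_equiv h

end Groth.Agent.S8962
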