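import Groth.Statements.S8963
import Groth.Agent.QFD.FibreFlat

set_option autoImplicit false
universe u
open TensorProduct
open QFDual

namespace Groth.Agent.S8963

/-- Invertibility of the relative dualizing module is a fibrewise condition. Let A → B be a flat
homomorphism of Noetherian rings with a factorization A → B' → B, A → B' finite and Spec B → Spec B'
an open immersion, so that A → B is quasi-finite and ω_{B/A} = B ⊗_{B'} Hom_A(B', A). The B-module
ω_{B/A} is invertible exactly when, for every prime p of A and every presentation of the fibre rings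
B'_p = B' ⊗_A κ(p), B_p = B ⊗_A κ(p) as cocartesian squares over the residue field κ(p) (compatibly
with B' → B), the module ω_{B_p/κ(p)} = B_p ⊗_{B'_p} Hom_{κ(p)}(B'_p, κ(p)) is an invertible
B_p-module. -/
theorem result (A B' B : Type u) [CommRing A] [CommRing B'] [CommRing B] [IsNoetherianRing A] [IsNoetherianRing B] [Algebra A B'] [Algebra B' B] [Algebra A B] [IsScalarTower A B' B] [Module.Flat A B] (hf : QFDual.IsQFFactor A B' B) : Module.Invertible B (QFDual.omega A B' B) ↔ ∀ (p : Ideal A) [p.IsPrime] (B'₁ B₁ : Type u) [CommRing B'₁] [CommRing B₁] [Algebra B' B'₁] [Algebra p.ResidueField B'₁] [Algebra A B'₁] [IsScalarTower A p.ResidueField B'₁] [IsScalarTower A B' B'₁] [Algebra B B₁] [Algebra p.ResidueField B₁] [Algebra A B₁] [IsScalarTower A p.ResidueField B₁] [IsScalarTower A B B₁] [Algebra B'₁ B₁] [Algebra B' B₁] [IsScalarTower B' B'₁ B₁] [IsScalarTower B' B B₁] [IsScalarTower p.ResidueField B'₁ B₁], Algebra.IsPushout A p.ResidueField B' B'₁ → Algebra.IsPushout A p.ResidueField B B₁ → Module.Invertible B₁ (QFDual.omega p.ResidueField B'₁ B₁) :=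 by
    constructor
    · intro hinv p _ B'₁ B₁ _ _ _ _ _ _ _ _ _ _ _ _ _ _ _ _ _ h hB
      exact Groth.Agent.QFD.invertible_omega_fibre hf h
    · intro H
      exact Groth.Agent.QFD.invertible_omega_of_fibres hf H

end Groth.Agent.S8963
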