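import Groth.Statements.S8964
import Groth.Agent.QFD.FibreFlat

set_option autoImplicit false
universe u
open TensorProduct
open QFDual

namespace Groth.Agent.S8964

/-- A quasi-finite syntomic map has an invertible relative dualizing module. Let A be a Noetherian ring
and A → B a syntomic ring map (flat, of finite presentation, with fibres local complete
intersections), and suppose it factors through an intermediate ring B', with A → B' a finite map and
the induced morphism Spec B → Spec B' an open immersion, so that A → B is quasi-finite and ω_{B/A} =
B ⊗_{B'} Hom_A(B', A). Then ω_{B/A} is an invertible B-module. (The published statement is for a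
locally quasi-finite syntomic morphism of locally Noetherian schemes and the sheaf ω_{Y/X}; this row
is its form over a pair of affine opens.) -/
theorem result (A B' B : Type u) [CommRing A] [CommRing B'] [CommRing B] [IsNoetherianRing A] [Algebra A B'] [Algebra B' B] [Algebra A B] [IsScalarTower A B' B] (hf : QFDual.IsQFFactor A B' B) (hs : Synt.IsSyntomic A B) : Module.Invertible B (QFDual.omega A B' B) := by
    exact Groth.Agent.QFD.invertible_omega_of_syntomic hf hs

end Groth.Agent.S8964
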