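import Groth.Statements.S8966
import Groth.Agent.QFD.Different

set_option autoImplicit false
universe u
open QFDual

namespace Groth.Agent.S8966

/-- First assertion, affine finite free case. Let A and A' be Noetherian rings, B an A-algebra which is
finite free as an A-module, A → A' a ring map and B' a ring making A → A', B → B' cocartesian (B' =
B ⊗_A A', again finite free over A'). Write 𝔇 ⊆ B and 𝔇' ⊆ B' for the differents: the ideals of
elements b with b · Hom_A(B, A) ⊆ B · Trace_{B/A}, respectively b' · Hom_{A'}(B', A') ⊆ B' ·
Trace_{B'/A'}. Then 𝔇B' ⊆ 𝔇' and these two ideals of B' have the same radical. (The published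
statement is for the different of a flat quasi-finite morphism of Noetherian schemes under base
change, phrased with the closed subschemes the differents cut out; this row is the affine finite
free case, where the relative dualizing module is Hom_A(B, A) and the trace element is the trace.) -/
theorem result (A B A' B' : Type u) [CommRing A] [CommRing B] [CommRing A'] [CommRing B'] [IsNoetherianRing A] [IsNoetherianRing A'] [Algebra A B] [Module.Finite A B] [Module.Free A B] [Algebra A A'] [Algebra B B'] [Algebra A' B'] [Algebra A B'] [IsScalarTower A A' B'] [IsScalarTower A B B'] (hB : Algebra.IsPushout A A' B B') [Module.Finite A' B'] [Module.Free A' B'] : Ideal.map (algebraMap B B') (QFDual.different B (Disc.Omega.trace A B)) ≤ QFDual.different B' (Disc.Omega.trace A' B') ∧ (Ideal.map (algebraMap B B') (QFDual.different B (Disc.Omega.trace A B))).radical = (QFDual.different B' (Disc.Omega.trace A' B')).radical := by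
    obtain ⟨e, he⟩ := Groth.Agent.QFD.exists_omega_equiv hB
    haveI : Module.Finite B (Disc.Omega A B) := Groth.Agent.QFD.finite_omega
    rw [← he]
    exact ⟨Groth.Agent.QFD.different_map_le e _, Groth.Agent.QFD.different_radical_eq e _⟩

end Groth.Agent.S8966
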