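import Groth.Statements.S8970
import Groth.Agent.KFlatLib.Ring.DualizingShriek
import Mathlib.RingTheory.Localization.BaseChange
-- import your own Groth.Agent.* helpers here

set_option autoImplicit false
universe u
open CategoryTheory
attribute [local instance] HasDerivedCategory.standard
open Dual

namespace Groth.Agent.S8970

/-- For a Noetherian ring A with a dualizing complex ω, δ(p) denotes the integer such that the
localization at p of Hom(A/p, ω[i]) is nonzero exactly for i = −δ(p); this δ is the dimension
function of ω. Suppose A is a Noetherian ring equipped with a dualizing complex ω, fix a surjective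
ring homomorphism A → B, and take R : D(A) → D(B) to be the right adjoint of restriction of scalars;
then ω_B = R(ω) = RHom_A(B, ω) is a dualizing complex for B. Then δ_{ω_B} is the restriction of δ_ω
to Spec B: for every prime q of B, with p its preimage in A, and every integer i, the localization
at q of the B-module of maps B/q → ω_B[i] in D(B) is nonzero if and only if the localization at p of
the A-module of maps A/p → ω[i] in D(A) is nonzero. -/
theorem result (A B : Type u) [CommRing A] [CommRing B] [IsNoetherianRing A] [IsNoetherianRing B] [Algebra A B] (hs : Function.Surjective (algebraMap A B)) (R : Dual.D A ⥤ Dual.D B) (adj : DRing.restrictD (algebraMap A B) ⊣ R) (ω : Dual.D A) (hω : Dual.IsDualizing A ω) (q : PrimeSpectrum B) (i : ℤ) : Nontrivial (LocalizedModule q.asIdeal.primeCompl (Dual.inD B (B ⧸ q.asIdeal) ⟶ (R.obj ω)⟦i⟧)) ↔ Nontrivial (LocalizedModule (q.asIdeal.comap (algebraMap A B)).primeCompl (Dual.inD A (A ⧸ q.asIdeal.comap (algebraMap A B)) ⟶ ω⟦i⟧)) := by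
  let p := q.asIdeal.comap (algebraMap A B)
  obtain ⟨e, hadd, hsmul⟩ := Groth.Agent.KFlatLib.exists_shriekHomEquiv (algebraMap A B) R adj (Dual.inD B (B ⧸ q.asIdeal)) ω i
  let g : (A ⧸ p) →ₗ[A] (ModuleCat.restrictScalars (algebraMap A B)).obj (ModuleCat.of B (B ⧸ q.asIdeal)) :=
    Submodule.liftQ p
      { toFun := fun a => Ideal.Quotient.mk q.asIdeal (algebraMap A B a)
        map_add' := fun a b => by rw [map_add, map_add]; rfl
        map_smul' := fun a b => by
           rw [smul_eq_mul, map_mul, map_mul]
           rfl }
      (fun a ha => Ideal.Quotient.eq_zero_iff_mem.2 ha)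
  have hg : Function.Bijective g := by
    constructor
    · rw [← LinearMap.ker_eq_bot, LinearMap.ker_eq_bot']
      intro x
      obtain ⟨a, rfl⟩ := Submodule.Quotient.mk_surjective _ x
      exact fun h => (Submodule.Quotient.mk_eq_zero _).2 (Ideal.mem_comap.2 ((Ideal.Quotient.eq_zero_iff_mem (I := q.asIdeal)).1 h))
    · intro y
      obtain ⟨b, rfl⟩ := Ideal.Quotient.mk_surjective (I := q.asIdeal) y
      obtain ⟨a, rfl⟩ := hs b
      exact ⟨Submodule.Quotient.mk a, rfl⟩
  let eQ := Groth.Agent.H9Misc.DRingRestrict.restrictInDIso (algebraMap A B) (ModuleCat.of B (B ⧸ q.asIdeal)) ≪≫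
    (DerivedCategory.singleFunctor (ModuleCat.{u} A) 0).mapIso (LinearEquiv.ofBijective g hg).toModuleIso.symm
  let c := CategoryTheory.Linear.homCongr A eQ (CategoryTheory.Iso.refl (ω⟦i⟧))
  rw [← not_subsingleton_iff_nontrivial, ← not_subsingleton_iff_nontrivial]
  refine not_congr ?_
  rw [LocalizedModule.subsingleton_iff, LocalizedModule.subsingleton_iff]
  constructor
  · intro h f
    obtain ⟨b, hb, hbf⟩ := h (e.symm (c.symm f))
    obtain ⟨a, rfl⟩ := hs b
    refine ⟨a, hb, c.symm.injective ?_⟩
    have h0 : e 0 = 0 := by simpa using hadd 0 0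
    rw [map_smul, map_zero, ← e.apply_symm_apply (c.symm f), ← hsmul, hbf, h0]
  · intro h f
    obtain ⟨a, ha, haf⟩ := h (c (e f))
    refine ⟨algebraMap A B a, ha, e.injective ?_⟩
    have h0 : e 0 = 0 := by simpa using hadd 0 0
    refine c.injective ?_
    rw [hsmul, map_smul, haf, h0, map_zero]

end Groth.Agent.S8970
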