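import Groth.Statements.S8974
import Groth.Agent.SmallFlat.Alg

set_option autoImplicit false
universe u
open Synt

namespace Groth.Agent.S8974

/-- Let R be a ring, n, d ≥ 1 and g_1, …, g_n ∈ R[y_1, …, y_n] of total degree at most d. Then there is
a ring map φ : A = ℤ[a_{i,E}] → R (E running over exponent vectors with |E| ≤ d) such that applying
φ to the coefficients of the universal polynomial f_i = Σ_E a_{i,E} x^E gives g_i for each i. (The
published statement is for a locally quasi-finite syntomic morphism of schemes and asserts, locally,
a cartesian square with the universal family; this row is its affine core: the coefficient map.) -/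
theorem result (R : Type u) [CommRing R] (n d : ℕ) (hn : 1 ≤ n) (hd : 1 ≤ d) (g : Fin n → MvPolynomial (Fin n) R) (hg : ∀ i, (g i).totalDegree ≤ d) : ∃ φ : Synt.UnivBase n d →+* R, ∀ i, MvPolynomial.map φ (Synt.univPoly n d i) = g i := by
  exact Groth.Agent.SmallFlat.exists_map_univPoly_eq R n d g hg

end Groth.Agent.S8974
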