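import Groth.Statements.S8978
import Groth.Agent.HTopCov.ValPh

set_option autoImplicit false
universe w u
open HTop

namespace Groth.Agent.S8978

open CategoryTheory CategoryTheory.Limits AlgebraicGeometry in
/-- Given an h covering of an affine scheme X, one can find a proper surjective Y → X that is of finite
presentation, together with finitely many affine opens covering Y, such that each of these opens,
composed into X, factors through some member of the given family. -/
theorem result {X : Scheme.{u}} [IsAffine X] (E : PreZeroHypercover.{w} X) (hE : HTop.IsHCover E) : ∃ (Y : Scheme.{u}) (g : Y ⟶ X) (n : ℕ) (V : Fin n → Y.Opens), IsProper g ∧ Surjective g ∧ LocallyOfFinitePresentation g ∧ (∀ j, IsAffineOpen (V j)) ∧ ⨆ j, V j = ⊤ ∧ ∀ j, ∃ (i : E.I₀) (h : ((V j : Y.Opens) : Scheme.{u}) ⟶ E.X i), h ≫ E.f i = (V j).ι ≫ g := by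
  exact Groth.Agent.HTopCov.exists_proper_fp_affineCover E hE.1 hE.2

end Groth.Agent.S8978
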