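import Groth.Statements.S8993
import Groth.Agent.HTopAwn.Props
import Mathlib.Algebra.Field.ZMod


set_option autoImplicit false
universe u
open HTop

namespace Groth.Agent.S8993

open Groth.Agent.HTopAwn Groth.Agent.MorLib.RUH

/-- For a ring A of prime characteristic p, the map from A to the direct limit of A along Frobenius (the
perfect closure) is an absolute weak normalization of A. (The published statement also identifies,
over a base of characteristic p, the h sheafification of the structure sheaf on quasi-compact
quasi-separated objects with this colimit; that part is not stated here.) -/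
theorem result (p : ℕ) [Fact p.Prime] (A : Type u) [CommRing A] [CharP A p] : HTop.IsRingAWN (PerfectClosure.of A p) := by
  have hp : p.Prime := Fact.out
  let φ := PerfectClosure.of A p
  have key : ∀ x : PerfectClosure A p, ∃ (n : ℕ) (a : A), x ^ p ^ n = φ a := by
    intro x
    induction x using PerfectClosure.induction_on with
    | _ x =>
      refine ⟨x.1, x.2, ?_⟩
      rw [← iterate_frobenius, PerfectClosure.iterate_frobenius_mk]
  have hi : φ.IsIntegral := fun x => by
    obtain ⟨n, a, ha⟩ := key x
    letI := φ.toAlgebra
    exact IsIntegral.of_pow (pow_pos hp.pos n) (ha ▸ isIntegral_algebraMap : _root_.IsIntegral A (x ^ p ^ n))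
  refine isRingAWN_of_awn φ ((isUnivHomeo_SpecMap_iff φ).mpr ⟨hi, fun K _ f g h => RingHom.ext fun x => ?_, fun P => ?_⟩)
    (isAWNRing_of_perfect p)
  · obtain ⟨n, a, ha⟩ := key x
    haveI : CharP K p := (CharP.charP_iff_prime_eq_zero hp).mpr (by
      rw [← map_natCast (f.comp φ), CharP.cast_eq_zero, map_zero])
    haveI : ExpChar K p := ExpChar.prime hp
    apply iterateFrobenius_inj K p n
    simp only [iterateFrobenius_def, ← map_pow, ha]
    exact RingHom.congr_fun h a
  · letI := φ.toAlgebra
    haveI : Algebra.IsIntegral A (PerfectClosure A p) := ⟨hi⟩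
    obtain ⟨Q, -, hQ, hQP⟩ := Ideal.exists_ideal_over_prime_of_isIntegral P.asIdeal (⊥ : Ideal (PerfectClosure A p))
      (fun a ha => by
        have h0 : PerfectClosure.mk A p (0, a) = PerfectClosure.mk A p (0, 0) :=
          (Ideal.mem_bot.mp ha).trans (map_zero φ).symm
        obtain ⟨z, hz⟩ := (PerfectClosure.mk_eq_iff A p _ _).mp h0
        simp only [zero_add, iterate_map_zero] at hz
        rw [iterate_frobenius] at hz
        exact P.2.mem_of_pow_mem _ (hz ▸ zero_mem _))
    exact ⟨⟨Q, hQ⟩, PrimeSpectrum.ext hQP⟩

end Groth.Agent.S8993
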