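import Groth.Statements.S9000
import Groth.Agent.ZClosLib.PurityDescent
import Groth.Agent.Hensel.HenselizationProps
import Groth.Agent.Hensel.Pair

set_option autoImplicit false
set_option linter.style.haveILetI false
universe u
open FlatMor

namespace Groth.Agent.S9000

open TensorProduct Groth.Agent.ZClosLib

attribute [local instance] Algebra.TensorProduct.rightAlgebra

/-- An impurity propagates along a flat algebra, stated for given base change data. -/
theorem push_core {A B : Type u} [CommRing A] [CommRing B] [Algebra A B] [Algebra.FiniteType A B]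
    {N : Type u} [AddCommGroup N] [Module B N] {p : Ideal A} [p.IsPrime]
    {A₁ B₁ N₁ : Type u} [CommRing A₁] [CommRing B₁] [Algebra A A₁] [Algebra B B₁] [Algebra A₁ B₁]
    [Algebra A B₁] [IsScalarTower A B B₁] [IsScalarTower A A₁ B₁] [AddCommGroup N₁] [Module B₁ N₁]
    [Module B N₁] [IsScalarTower B B₁ N₁] [Module A₁ N₁] [IsScalarTower A₁ B₁ N₁]
    {f₁ : N →ₗ[B] N₁} {t' t : Ideal A₁} [t'.IsPrime] [t.IsPrime] {P : Ideal B₁} [P.IsPrime]
    (himp : FlatCA.IsImpurity A B N p A₁ B₁ N₁ f₁ t' t P)
    (S B₂ N₂ : Type u) [CommRing S] [Algebra A S] [Algebra A₁ S] [IsScalarTower A A₁ S] [Module.Flat A₁ S]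
    [CommRing B₂] [Algebra B B₂] [Algebra S B₂] [Algebra A B₂] [IsScalarTower A B B₂] [IsScalarTower A S B₂]
    [hpush : Algebra.IsPushout A B S B₂]
    [AddCommGroup N₂] [Module B₂ N₂] [Module B N₂] [IsScalarTower B B₂ N₂] [Module S N₂] [IsScalarTower S B₂ N₂]
    (g : N →ₗ[B] N₂) (hg : IsBaseChange B₂ g)
    (t₂ : Ideal S) [ht₂ : t₂.IsPrime] [t₂.LiesOver t]
    (Q : ∀ (C : Type u) [CommRing C] [Algebra A C], Ideal C → Prop) (hQ : Q S t₂) :
    FlatCA.HasImpurity A B N p Q := by
  obtain ⟨t₂', hle, ht₂', h'⟩ := Ideal.exists_ideal_le_liesOver_of_le (p := t') (q := t) t₂ himp.2.2.1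
  obtain ⟨P₂, hP₂, h⟩ := ZClosLib.PurityBC.IsImpurity.propagate himp S B₂ N₂ g hg t₂' t₂ hle
  exact ⟨S, B₂, N₂, inferInstance, inferInstance, inferInstance, inferInstance, inferInstance, inferInstance,
    inferInstance, inferInstance, inferInstance, inferInstance, inferInstance, inferInstance, inferInstance,
    inferInstance, g, t₂', t₂, ht₂', ht₂, P₂, hP₂, h, hQ⟩

/-- An impurity propagates along a flat algebra. -/
theorem push {A B : Type u} [CommRing A] [CommRing B] [Algebra A B] [Algebra.FiniteType A B]
    {N : Type u} [AddCommGroup N] [Module B N] {p : Ideal A} [p.IsPrime]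
    {A₁ B₁ N₁ : Type u} [CommRing A₁] [CommRing B₁] [Algebra A A₁] [Algebra B B₁] [Algebra A₁ B₁]
    [Algebra A B₁] [IsScalarTower A B B₁] [IsScalarTower A A₁ B₁] [AddCommGroup N₁] [Module B₁ N₁]
    [Module B N₁] [IsScalarTower B B₁ N₁] [Module A₁ N₁] [IsScalarTower A₁ B₁ N₁]
    {f₁ : N →ₗ[B] N₁} {t' t : Ideal A₁} [t'.IsPrime] [t.IsPrime] {P : Ideal B₁} [P.IsPrime]
    (himp : FlatCA.IsImpurity A B N p A₁ B₁ N₁ f₁ t' t P)
    (S : Type u) [CommRing S] [Algebra A S] [Algebra A₁ S] [IsScalarTower A A₁ S] [Module.Flat A₁ S]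
    (t₂ : Ideal S) [t₂.IsPrime] [t₂.LiesOver t]
    (Q : ∀ (C : Type u) [CommRing C] [Algebra A C], Ideal C → Prop) (hQ : Q S t₂) :
    FlatCA.HasImpurity A B N p Q :=
  push_core himp S (S ⊗[A] B) ((S ⊗[A] B) ⊗[B] N) (hpush := Algebra.IsPushout.symm inferInstance)
    (TensorProduct.mk B (S ⊗[A] B) N 1) (TensorProduct.isBaseChange B N _) t₂ Q hQ

open IsLocalRing in
/-- For Spec B → Spec A of finite type, a finite B-module N and a prime p of A, an impurity of N above p
over an elementary etale neighbourhood of (A, p) yields an impurity of N above p over the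
henselization of the local ring of A at p, based at its closed point. (The other implications of the
published equivalence are separate results: from the henselization to an elementary etale
neighbourhood, and between elementary etale neighbourhoods and base rings quasi-finite at the
point.) -/
theorem result {A B : Type u} [CommRing A] [CommRing B] [Algebra A B] [Algebra.FiniteType A B] (N : Type u) [AddCommGroup N] [Module B N] [Module.Finite B N] (p : Ideal A) [p.IsPrime] (h : FlatCA.HasImpurity A B N p (fun A' _ _ t => ∃ _ : t.IsPrime, FlatCA.IsEtaleNhd A A' p t)) : FlatCA.HasImpurity A B N p (fun A' _ _ t => ∃ (_ : IsLocalRing A') (_ : Algebra (Localization.AtPrime p) A') (_ : IsScalarTower A (Localization.AtPrime p) A') (_ : IsLocalHom (algebraMap (Localization.AtPrime p) A')), Hensel.IsHenselization (Localization.AtPrime p) A' ∧ t = maximalIdeal A') := by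
  obtain ⟨A₁, B₁, N₁, _, _, _, _, _, _, _, _, _, _, _, _, _, _, f₁, t', t, _, _, P, _, himp, htp, hA₁, ht, hbij⟩ := h
  let S := Groth.Agent.Hensel.LocalHenz (Localization.AtPrime p)
  letI : Algebra A S := ((algebraMap (Localization.AtPrime p) S).comp (algebraMap A _)).toAlgebra
  haveI : IsScalarTower A (Localization.AtPrime p) S := IsScalarTower.of_algebraMap_eq fun _ => rfl
  haveI : Module.FaithfullyFlat (Localization.AtPrime p) S :=
    Groth.Agent.Hensel.faithfullyFlat_of_isHenselization (R := Localization.AtPrime p) (S := S)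
  haveI : Module.Flat A S := Module.Flat.trans A (Localization.AtPrime p) S
  let e := AlgEquiv.ofBijective (Ideal.ResidueField.mapₐ p t (Algebra.ofId A A₁) ht.over) hbij
  let j : p.ResidueField →ₐ[A] S ⧸ maximalIdeal S :=
    { ResidueField.map (algebraMap (Localization.AtPrime p) S) with
      commutes' := fun a => by
        show ResidueField.map (algebraMap (Localization.AtPrime p) S) (algebraMap A p.ResidueField a) = _
        rw [IsScalarTower.algebraMap_apply A (Localization.AtPrime p) p.ResidueField, IsLocalRing.ResidueField.algebraMap_eq,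
          ResidueField.map_residue]
        rfl }
  let σ : A₁ →ₐ[A] S ⧸ maximalIdeal S := j.comp (e.symm.toAlgHom.comp (IsScalarTower.toAlgHom A A₁ t.ResidueField))
  haveI : HenselianLocalRing S := Hensel.IsHenselization.henselian (Localization.AtPrime p)
  obtain ⟨τ, hτ, -⟩ := Groth.Agent.Hensel.existsUnique_etale_lift_of_algebra (maximalIdeal S) σ
  letI : Algebra A₁ S := τ.toRingHom.toAlgebra
  haveI : IsScalarTower A A₁ S := IsScalarTower.of_algebraMap_eq fun a => (τ.commutes a).symm
  haveI : Module.Flat A₁ S := Groth.Agent.ZClosLib.PurityBC.flat_of_formallyUnramified A A₁ S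
  haveI : (maximalIdeal S).LiesOver t := ⟨by
    ext x
    rw [Ideal.mem_comap, ← Ideal.Quotient.eq_zero_iff_mem (I := maximalIdeal S)]
    show x ∈ t ↔ Ideal.Quotient.mkₐ A (maximalIdeal S) (τ x) = 0
    rw [show Ideal.Quotient.mkₐ A (maximalIdeal S) (τ x) = σ x from by rw [← hτ]; rfl]
    show _ ↔ j (e.symm (algebraMap A₁ t.ResidueField x)) = 0
    rw [map_eq_zero_iff j (RingHom.injective j.toRingHom), map_eq_zero_iff _ e.symm.injective,
      Ideal.algebraMap_residueField_eq_zero]⟩
  exact push himp S (maximalIdeal S) _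
    ⟨inferInstance, inferInstance, inferInstance, inferInstance, inferInstance, rfl⟩

end Groth.Agent.S9000
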