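import Groth.Statements.S9001
import Groth.Agent.S0589

set_option autoImplicit false
universe u
open FlatMor

namespace Groth.Agent.S9001

open TensorProduct IsLocalRing

theorem exists_finite_summand {R N : Type u} [CommRing R] [AddCommGroup N] [Module R N] {ι : Type u} [DecidableEq ι]
    {W : ι → Submodule R N} (hW : DirectSum.IsInternal W) (hfp : ∀ i, Module.FinitePresentation R (W i)) (T : Finset N) :
    ∃ (P : Submodule R N) (π : N →ₗ[R] P), Module.Finite R P ∧ (↑T : Set N) ⊆ P ∧ ∀ x : P, π x = x := by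
  classical
  rw [DirectSum.isInternal_submodule_iff_iSupIndep_and_iSup_eq_top] at hW
  obtain ⟨hind, htop⟩ := hW
  have h : ∀ n : N, ∃ s : Finset ι, n ∈ ⨆ i ∈ s, W i := fun n =>
    Submodule.exists_finset_of_mem_iSup W (show n ∈ ⨆ i, W i by rw [htop]; trivial)
  choose s hs using h
  let s₀ : Finset ι := T.biUnion s
  let P : Submodule R N := ⨆ i ∈ s₀, W i
  let Q : Submodule R N := ⨆ i ∈ ((↑s₀ : Set ι)ᶜ), W i
  have hPQ : IsCompl P Q := by
    refine ⟨hind.disjoint_biSup_biSup (s := (↑s₀ : Set ι)) (t := (↑s₀ : Set ι)ᶜ) disjoint_compl_right, ?_⟩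
    rw [codisjoint_iff, eq_top_iff, ← htop]
    refine iSup_le fun i => ?_
    by_cases hi : i ∈ s₀
    · exact le_sup_of_le_left (le_biSup W hi)
    · exact le_sup_of_le_right (le_biSup W (show i ∈ ((↑s₀ : Set ι)ᶜ) from hi))
  refine ⟨P, P.projectionOnto Q hPQ, Module.Finite.iff_fg.2 (Submodule.fg_biSup s₀ W fun i _ => ?_), fun n hn => ?_,
    fun x => Submodule.projectionOnto_apply_left hPQ x⟩
  · haveI := hfp i
    exact Module.Finite.iff_fg.1 inferInstance
  · exact (biSup_mono fun i hi => Finset.mem_biUnion.2 ⟨n, hn, hi⟩ : (⨆ i ∈ s n, W i) ≤ P) (hs n)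


open IsLocalRing TensorProduct in
/-- Over a henselian local ring R with maximal ideal m, for an R-algebra S and an S-module N which is
countably generated and Mittag-Leffler as an R-module, every associated prime q of the S-module N
⊗_R M (M any R-module) satisfies q + mS ≠ S. (Associated primes are taken here in the sense of
primes equal to the radical of the annihilator of some element, a larger set than the annihilators
of elements used in the published statement; the published argument goes through once the chosen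
element of q is replaced by a suitable power of it, so the row states this slightly stronger form.) -/
theorem result {R S : Type u} [CommRing R] [HenselianLocalRing R] [CommRing S] [Algebra R S] (N : Type u) [AddCommGroup N] [Module S N] [Module R N] [IsScalarTower R S N] (hcg : CAlg.IsCountablyGenerated R N) (hML : CAlg.IsMittagLeffler R N) (M : Type u) [AddCommGroup M] [Module R M] (q : Ideal S) [q.IsPrime] (hq : q ∈ associatedPrimes S (N ⊗[R] M)) : q ⊔ (maximalIdeal R).map (algebraMap R S) ≠ ⊤ := by
  classical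
  intro hsup
  obtain ⟨hqp, z, hz⟩ := hq
  obtain ⟨a, ha, b, hb, hab⟩ := Submodule.mem_sup.1 (hsup.ge (Submodule.mem_top (x := (1 : S))))
  obtain ⟨k, hk⟩ : ∃ k : ℕ, a ^ k • z = 0 := by
    rw [hz] at ha
    obtain ⟨k, hk⟩ := ha
    exact ⟨k, Submodule.mem_bot (R := S) |>.1 (Submodule.mem_colon_singleton.1 hk)⟩
  let J := (maximalIdeal R).map (algebraMap R S)
  have hc : a ^ k - 1 ∈ J := by
    have h1 : a - 1 ∈ J := by
      rw [← hab, sub_add_cancel_left]
      exact J.neg_mem hb
    simpa using J.mem_of_dvd (sub_dvd_pow_sub_pow a 1 k) h1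
  have hsmul : ∀ c ∈ J, ∀ n : N, c • n ∈ maximalIdeal R • (⊤ : Submodule R N) := by
    intro c hc
    refine Submodule.span_induction (fun x hx n => ?_) (fun n => by rw [zero_smul]; exact zero_mem _)
      (fun x y _ _ hx hy n => by rw [add_smul]; exact add_mem (hx n) (hy n)) (fun t x _ hx n => ?_) hc
    · obtain ⟨r, hr, rfl⟩ := hx
      rw [algebraMap_smul]
      exact Submodule.smul_mem_smul hr Submodule.mem_top
    · rw [smul_eq_mul, mul_comm, mul_smul]
      exact hx (t • n)
  obtain ⟨ι, W, hW, hfp⟩ := S0589.result R N hcg hML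
  obtain ⟨T, hT⟩ : ∃ T : Finset N, ∀ (P : Submodule R N), (↑T : Set N) ⊆ P →
      z ∈ LinearMap.range (P.subtype.rTensor M) := by
    clear hz hk
    induction z using TensorProduct.induction_on with
    | zero => exact ⟨∅, fun P _ => zero_mem _⟩
    | tmul n m => exact ⟨{n}, fun P hP => ⟨⟨n, hP (by simp)⟩ ⊗ₜ m, rfl⟩⟩
    | add x y hx hy =>
      obtain ⟨T₁, h₁⟩ := hx
      obtain ⟨T₂, h₂⟩ := hy
      exact ⟨T₁ ∪ T₂, fun P hP => add_mem (h₁ P fun n hn => hP (by simp [Finset.mem_coe.1 hn]))
        (h₂ P fun n hn => hP (by simp [Finset.mem_coe.1 hn]))⟩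
  obtain ⟨P, π, hPfin, hTP, hπ⟩ := exists_finite_summand hW hfp T
  obtain ⟨w, hw⟩ := hT P hTP
  let G : N →ₗ[R] N := (LinearMap.lsmul S N (a ^ k)).restrictScalars R
  let φ : P →ₗ[R] P := π ∘ₗ G ∘ₗ P.subtype
  have hsurj : Function.Surjective φ := by
    rw [← LinearMap.range_eq_top, eq_top_iff]
    refine Submodule.le_of_le_smul_of_le_jacobson_bot (Module.Finite.fg_top (R := R) (M := P))
      (maximalIdeal_le_jacobson ⊥) fun x _ => ?_
    refine Submodule.mem_sup.2 ⟨φ x, ⟨x, rfl⟩, π ((1 - a ^ k) • (x : N)), ?_, ?_⟩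
    · have h := Submodule.mem_map_of_mem (f := π) (hsmul (1 - a ^ k) (by rw [← neg_sub]; exact J.neg_mem hc) x)
      rw [Submodule.map_smul''] at h
      exact Submodule.smul_mono le_rfl le_top h
    · show π (a ^ k • (x : N)) + π ((1 - a ^ k) • (x : N)) = x
      rw [← map_add, ← add_smul, add_sub_cancel, one_smul, hπ]
  have hinj : Function.Injective φ := OrzechProperty.injective_of_surjective_endomorphism φ hsurj
  let e := (LinearEquiv.ofBijective φ ⟨hinj, hsurj⟩).rTensor M
  have hG : ∀ u : N ⊗[R] M, G.rTensor M u = a ^ k • u := fun u => by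
    induction u using TensorProduct.induction_on with
    | zero => rw [map_zero, smul_zero]
    | add x y hx hy => rw [map_add, smul_add, hx, hy]
    | tmul n m => rfl
  have hw0 : w = 0 := by
    apply e.injective
    rw [map_zero]
    show φ.rTensor M w = 0
    rw [LinearMap.rTensor_comp, LinearMap.rTensor_comp, LinearMap.comp_apply, LinearMap.comp_apply, hw, hG, hk, map_zero]
  refine hqp.ne_top (Ideal.eq_top_iff_one _ |>.2 ?_)
  rw [hz, ← hw, hw0, map_zero]
  exact ⟨1, by simp [Submodule.mem_colon_singleton]⟩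

end Groth.Agent.S9001
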