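import Groth.Statements.S9004
import Groth.Agent.RelPC17.TruncFree

set_option autoImplicit false
set_option backward.isDefEq.respectTransparency false
set_option backward.isDefEq.respectTransparency.types false
set_option linter.style.haveILetI false
universe u
open FlatMor

namespace Groth.Agent.S9004

open CategoryTheory CategoryTheory.Limits AlgebraicGeometry in
/-- For a proper morphism X → Spec R with geometrically connected fibres over a discrete valuation ring
R with uniformizer ϖ, there is an n such that a finite locally free module on X is free as soon as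
its restrictions to the generic fibre and to the closed subscheme cut out by ϖ^n are free.
(Geometrically connected is Mathlib's notion, which asks the geometric fibres to be nonempty and
connected.) -/
theorem result {R : Type u} [CommRing R] [IsDomain R] [IsDiscreteValuationRing R] (ϖ : R) (hϖ : Irreducible ϖ) {X : Scheme.{u}} (f : X ⟶ Spec (CommRingCat.of R)) [IsProper f] [GeometricallyConnected f] : ∃ n : ℕ, ∀ (E : X.Modules), FlatMod.IsFinLocFree E → (∃ r : ℕ, Nonempty ((Scheme.Modules.pullback (pullback.fst f (Spec.map (CommRingCat.ofHom (algebraMap R (FractionRing R)))))).obj E ≅ FlatMod.freeMod _ r)) → (∃ r : ℕ, Nonempty ((Scheme.Modules.pullback (pullback.fst f (Spec.map (CommRingCat.ofHom (Ideal.Quotient.mk (Ideal.span {ϖ ^ n})))))).obj E ≅ FlatMod.freeMod _ r)) → ∃ r : ℕ, Nonempty (E ≅ FlatMod.freeMod X r) := by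
  open Groth.Agent Groth.Agent.RelPC17 RelPC17.CechBound RelPC17.TruncLift RelPC17.TruncFree in
  classical
  haveI : CompactSpace X := QuasiCompact.compactSpace_of_compactSpace f
  haveI : IsLocallyNoetherian X := LocallyOfFiniteType.isLocallyNoetherian f
  haveI : X.IsSeparated := ⟨by
    rw [← terminal.comp_from f]
    infer_instance⟩
  obtain ⟨t, ht⟩ := exists_torBound (gl f ϖ)
  obtain ⟨ι, _, U, hcov, hU⟩ := QCoh.exists_affine_cover (X := X)
  obtain ⟨c₀, happ⟩ := exists_approx f ϖ U hcov hU t ht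
  refine ⟨t + (t + 1) + c₀, fun E hE hgen htr => ?_⟩
  obtain ⟨r, ⟨e₁⟩⟩ := hgen
  obtain ⟨r', ⟨e₂⟩⟩ := htr
  have hEq : Coh.IsQCoh E := QCoh.isQCoh_of_isFinLocFree hE
  -- the generic fibre
  haveI := isAway_fractionRing hϖ
  haveI : IsOpenImmersion (Spec.map (CommRingCat.ofHom (algebraMap R (FractionRing R)))) :=
    IsOpenImmersion.of_isLocalization ϖ
  obtain ⟨σ₀, hσ₀⟩ := exists_frame_of_openImmersion _ (opensRange_generic hϖ f) e₁
  -- the truncation
  let n := t + (t + 1) + c₀
  haveI : IsClosedImmersion (Spec.map (CommRingCat.ofHom (Ideal.Quotient.mk (Ideal.span {ϖ ^ n})))) :=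
    IsClosedImmersion.spec_of_surjective _ Ideal.Quotient.mk_surjective
  let g := pullback.fst f (Spec.map (CommRingCat.ofHom (Ideal.Quotient.mk (Ideal.span {ϖ ^ n}))))
  have hker : ∀ V : X.affineOpens, RingHom.ker (g.app V.1).hom = Ideal.span {cr (gl f ϖ) V.1 ^ n} := by
    intro V
    letI : X.Over (Spec (CommRingCat.of R)) := ⟨f⟩
    rw [← FComplLib.ideal_ker g V]
    refine (AmpleVan.ker_ideal_of_isPullback (A := R) (IsPullback.of_hasPullback f
      (Spec.map (CommRingCat.ofHom (Ideal.Quotient.mk (Ideal.span {ϖ ^ n}))))) V).trans ?_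
    rw [Ideal.map_span, Set.image_singleton, map_pow]
    rfl
  obtain ⟨σ, hσ⟩ := exists_frame_top e₂
  have hUi : ∀ i, IsAffineOpen (U i) := fun i => by
    have := hU (p := 0) fun _ => i
    rwa [iInf_const] at this
  choose e he using fun i => exists_lift g hEq (σ := σ) (hUi i)
  -- every point specialises to a good point of the closed fibre
  have key : ∀ x₀ : X, f x₀ = IsLocalRing.closedPoint R → ∀ i, x₀ ∈ U i →
      ∃ (W : X.Opens) (hW : W ≤ U i) (m : ℕ) (s : Fin m → Γ(E, W)),
        x₀ ∈ W ∧ H23.Frame.IsFrame E s ∧ r' = m ∧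
          ModFrame (gl f ϖ) E 1 W fun l => res hW (e i l) := by
    intro x₀ h₀ i hi
    obtain ⟨U₀, m, hU₀, ⟨e₀⟩⟩ := hE x₀
    obtain ⟨s₀, hs₀⟩ := H23.Frame.exists_frame e₀
    obtain ⟨_, ⟨W, hWa, rfl⟩, hxW, hWle⟩ := X.isBasis_affineOpens.exists_subset_of_mem_open
      (show x₀ ∈ U i ⊓ U₀ from ⟨hi, hU₀⟩) (U i ⊓ U₀).2
    have hW : W ≤ U i := fun x hx => (hWle hx).1
    have hW₀ : W ≤ U₀ := fun x hx => (hWle hx).2
    have hmf := modFrame g hker hEq hσ hWa ((he i).res g hW)
    have hmf1 : ModFrame (gl f ϖ) E 1 W fun l => res hW (e i l) :=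
      ⟨fun x => (hmf.span x).imp fun a h => h.mono (by omega),
        fun a h l => hmf.indep_le (by omega) a h l⟩
    haveI : Nontrivial (Γ(X, W) ⧸ Ideal.span {cr (gl f ϖ) W}) := by
      refine Ideal.Quotient.nontrivial_iff.2 fun htop => ?_
      rw [Ideal.span_singleton_eq_top] at htop
      refine closedPoint_not_mem hϖ f h₀ ((Scheme.mem_basicOpen X (gl f ϖ) x₀ trivial).2 ?_)
      have hu := htop.map (X.presheaf.germ W x₀ hxW).hom
      rwa [TopCat.Presheaf.germ_res_apply] at hu
    exact ⟨W, hW, m, _, hxW, hs₀.res hW₀, modFrame_card_eq (hs₀.res hW₀) hmf1, hmf1⟩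
  have hmem : ∀ x : X, ∃ i, x ∈ U i := fun x => TopologicalSpace.Opens.mem_iSup.1 (hcov.ge (trivial : x ∈ (⊤ : X.Opens)))
  -- the ranks agree
  obtain rfl : r' = r := by
    obtain ⟨x, hx⟩ := f.surjective (⊥ : PrimeSpectrum R)
    obtain ⟨x₀, hsp, h₀⟩ := exists_specializes f x
    obtain ⟨i, hi⟩ := hmem x₀
    obtain ⟨W, hW, m, s, hxW, hs, rfl, -⟩ := key x₀ h₀ i hi
    refine frame_card_eq hs hσ₀ (hsp.mem_open W.2 hxW) (x := x) ?_
    have h : X.basicOpen (gl f ϖ) = f ⁻¹ᵁ (PrimeSpectrum.basicOpen ϖ) := by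
      refine Eq.trans ?_ (congrArg (f ⁻¹ᵁ ·) (basicOpen_eq_of_affine (R := CommRingCat.of R) ϖ))
      exact (Scheme.preimage_basicOpen_top f _).symm
    rw [h]
    show f x ∈ PrimeSpectrum.basicOpen ϖ
    rw [hx, PrimeSpectrum.mem_basicOpen]
    exact fun hm => hϖ.ne_zero ((Submodule.mem_bot R).1 hm)
  -- global sections lifting the frames
  obtain ⟨s, hs⟩ := exists_global_sections hϖ f ht hcov happ hE σ₀ hσ₀ e
    (fun i => modFrame g hker hEq hσ (hUi i) (he i))
    (fun i k => modFrame g hker hEq hσ ((hUi i).inf (hUi k)) ((he i).res g inf_le_left))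
    (fun i k l => compat g hker hEq ((hUi i).inf (hUi k)) inf_le_left inf_le_right (he i) (he k) l)
  have good : ∀ x₀ : X, f x₀ = IsLocalRing.closedPoint R →
      ∃ D : X.Opens, x₀ ∈ D ∧ H23.Frame.IsFrame E fun l => res (le_top : D ≤ ⊤) (s l) := by
    intro x₀ h₀
    obtain ⟨i, hi⟩ := hmem x₀
    obtain ⟨W, hW, m, sf, hxW, hsf, rfl, hmf⟩ := key x₀ h₀ i hi
    have hd : ∀ l, Div (gl f ϖ) E 1 W (res le_top (s l) - res hW (e i l)) := fun l => by
      have h := (hs i l).res hW
      rwa [show ∀ a b : Γ(E, U i), res hW (a - b) = res hW a - res hW b from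
        map_sub (E.presheaf.map (homOfLE hW).op).hom, res_res] at h
    have hmf' : ModFrame (gl f ϖ) E 1 W fun l => res (le_top : W ≤ ⊤) (s l) := by
      refine ⟨fun x => ?_, fun a ha => hmf.indep a ?_⟩
      · obtain ⟨a, ha⟩ := hmf.span x
        refine ⟨a, ?_⟩
        have h := Div.sum Finset.univ fun l _ => (hd l).smul (a l)
        convert ha.sub h using 1
        simp only [smul_sub, Finset.sum_sub_distrib]
        abel
      · have h := Div.sum Finset.univ fun l _ => (hd l).smul (a l)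
        convert ha.sub h using 1
        simp only [smul_sub, Finset.sum_sub_distrib]
        abel
    obtain ⟨D, hD, hxD, hfr⟩ := exists_frame_nhd hsf hmf' hxW (closedPoint_not_mem hϖ f h₀)
    exact ⟨D, hxD, by simpa only [res_res] using hfr⟩
  choose D hxD hDf using fun x₀ : {x₀ : X // f x₀ = IsLocalRing.closedPoint R} => good x₀.1 x₀.2
  refine ⟨r', nonempty_iso_of_frame s (isFrame_of_cover s D (fun x => ?_) hDf)⟩
  obtain ⟨x₀, hsp, h₀⟩ := exists_specializes f x
  exact ⟨⟨x₀, h₀⟩, hsp.mem_open (D ⟨x₀, h₀⟩).2 (hxD ⟨x₀, h₀⟩)⟩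

end Groth.Agent.S9004
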