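import Groth.Statements.S9005
import Groth.Agent.ZClosLib.PurityBC

set_option autoImplicit false
set_option linter.style.haveILetI false
universe u
open FlatMor

namespace Groth.Agent.S9005

open TensorProduct Groth.Agent.ZClosLib

attribute [local instance] Algebra.TensorProduct.rightAlgebra

/-- A module which is projective over the base has no impurity between two given points. -/
theorem not_impure {R S : Type u} [CommRing R] [CommRing S] [Algebra R S] (M : Type u) [AddCommGroup M]
    [Module S M] [Module R M] [IsScalarTower R S M] [Module.Projective R M]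
    (t' t : Ideal R) [t'.IsPrime] [t.IsPrime] (htt : t' ≤ t) (P : Ideal S) [P.IsPrime]
    (hass : FlatCA.fiberIdeal t' P ∈ associatedPrimes (t'.Fiber S) (FlatCA.fiberMod t' S M))
    (hno : ∀ (P' : Ideal S) [P'.IsPrime], P ≤ P' → ¬ P'.LiesOver t) : False := by
  classical
  -- an element of `P` congruent to a unit of `R` at `t`
  obtain ⟨a, ha, hamem⟩ : ∃ a ∉ t, algebraMap R S a ∈ P ⊔ t.map (algebraMap R S) := by
    by_contra hcon
    push Not at hcon
    have hd : Disjoint ((P ⊔ t.map (algebraMap R S) : Ideal S) : Set S) (Algebra.algebraMapSubmonoid S t.primeCompl) := by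
      rw [Set.disjoint_left]
      rintro _ hx ⟨a, ha, rfl⟩
      exact hcon a ha hx
    obtain ⟨Q, hQ, hle, hQd⟩ := Ideal.exists_le_prime_disjoint _ _ hd
    refine hno Q (le_sup_left.trans hle) ⟨le_antisymm (fun x hx => hle (Ideal.mem_sup_right (Ideal.mem_map_of_mem _ hx)))
      fun x hx => by_contra fun hxt => ?_⟩
    exact Set.disjoint_left.1 hQd hx ⟨x, hxt, rfl⟩
  obtain ⟨e, he, u, hu, heu⟩ := Submodule.mem_sup.1 hamem
  obtain ⟨hp, x, hx⟩ := hass
  have hloc := AssFiber.isLocalizedModule_quotToFiber t' (S := S) M
  obtain ⟨⟨nb, s⟩, hs⟩ := IsLocalizedModule.surj (Algebra.algebraMapSubmonoid S t'.primeCompl) (AssFiber.quotToFiber t' (S := S) M) x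
  obtain ⟨n, rfl⟩ := Submodule.Quotient.mk_surjective _ nb
  obtain ⟨r₀, hr₀, hr₀s⟩ := s.2
  replace hs : algebraMap R S r₀ • x = FlatCA.toFiberMod t' (S := S) M n := by rw [hr₀s]; exact hs
  have hx0 : x ≠ 0 := by
    rintro rfl
    refine hp.ne_top ?_
    rw [hx]
    simp
  have hn0 : FlatCA.toFiberMod t' (S := S) M n ≠ 0 := fun h0 => hx0 <| by
    rw [← hs, ← AssFiber.algebraMap_smul_fiberMod] at h0
    exact (PurityBC.isUnit_algebraMap_fiber t' hr₀).smul_left_cancel.1 (h0.trans (smul_zero _).symm)
  obtain ⟨k, hk⟩ : ∃ k : ℕ, FlatCA.toFiberMod t' (S := S) M (e ^ k • n) = 0 := by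
    have h1 : algebraMap S (t'.Fiber S) e ∈ FlatCA.fiberIdeal t' P := Ideal.mem_map_of_mem _ he
    rw [hx] at h1
    obtain ⟨k, hk⟩ := h1
    refine ⟨k, ?_⟩
    rw [Submodule.mem_colon_singleton, Submodule.mem_bot, ← map_pow, AssFiber.algebraMap_smul_fiberMod] at hk
    rw [map_smul, ← hs, smul_comm, hk, smul_zero]
  obtain ⟨r, hr, hrmem⟩ := (PurityBC.toFiberMod_eq_zero_iff t' M _).1 hk
  let m := r • n
  have hm : m ∉ t' • (⊤ : Submodule R M) := fun h0 =>
    hn0 ((PurityBC.toFiberMod_eq_zero_iff t' M n).2 ⟨r, hr, h0⟩)
  have hpow : algebraMap R S (a ^ k) - e ^ k ∈ t.map (algebraMap R S) := by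
    rw [← Ideal.Quotient.eq, map_pow, map_pow, map_pow, show Ideal.Quotient.mk _ (algebraMap R S a) = Ideal.Quotient.mk _ e from
      Ideal.Quotient.eq.2 (by rw [← heu, add_sub_cancel_left]; exact hu)]
  obtain ⟨i, hi⟩ := Module.projective_def.1 ‹Module.Projective R M›
  let J : Ideal R := Ideal.span (Set.range (i m))
  have hJ : J.FG := ⟨((i m).support.image (i m)) ∪ {0}, by
    refine le_antisymm (Ideal.span_le.2 fun c hc => ?_) (Ideal.span_le.2 fun c hc => ?_)
    · simp only [Finset.coe_union, Finset.coe_image, Finset.coe_singleton, Set.mem_union, Set.mem_image,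
        Set.mem_singleton_iff] at hc
      rcases hc with ⟨j, -, rfl⟩ | rfl
      · exact Ideal.subset_span ⟨j, rfl⟩
      · exact zero_mem _
    · obtain ⟨j, rfl⟩ := hc
      by_cases hj : j ∈ (i m).support
      · exact Ideal.subset_span (by simp only [Finset.coe_union, Finset.coe_image]; exact Or.inl ⟨j, hj, rfl⟩)
      · rw [Finsupp.notMem_support_iff.1 hj]; exact zero_mem _⟩
  have hrec : ∀ (I : Ideal R), (∀ j, i m j ∈ I) → m ∈ I • (⊤ : Submodule R M) := fun I h => by
    rw [← hi m, Finsupp.linearCombination_apply]
    exact Submodule.sum_mem _ fun j _ => Submodule.smul_mem_smul (h j) Submodule.mem_top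
  have hcoord : ∀ (I : Ideal R) (z : M), z ∈ I • (⊤ : Submodule R M) → ∀ j, i z j ∈ I := fun I z hz j => by
    refine Submodule.smul_induction_on hz (fun c hc y _ => ?_) (fun c d hc hd => ?_)
    · rw [map_smul, Finsupp.smul_apply, smul_eq_mul]; exact I.mul_mem_right _ hc
    · rw [map_add, Finsupp.add_apply]; exact I.add_mem hc hd
  have hbase : m ∈ J • (⊤ : Submodule R M) := hrec J fun j => Ideal.subset_span ⟨j, rfl⟩
  have key : a ^ k • m ∈ (t' ⊔ t * J) • (⊤ : Submodule R M) := by
    have h1 : a ^ k • m = e ^ k • m + (algebraMap R S (a ^ k) - e ^ k) • m := by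
      rw [← add_smul, add_sub_cancel, algebraMap_smul]
    rw [h1]
    refine add_mem (Submodule.smul_mono_left le_sup_left ?_) (Submodule.smul_mono_left le_sup_right ?_)
    · rw [show e ^ k • m = r • (e ^ k • n) from smul_comm _ _ _]
      exact hrmem
    · rw [Submodule.mul_smul]
      generalize algebraMap R S (a ^ k) - e ^ k = v at hpow
      have hv : v ∈ Submodule.span S (algebraMap R S '' (t : Set R)) := hpow
      have : ∀ z ∈ J • (⊤ : Submodule R M), v • z ∈ t • (J • (⊤ : Submodule R M)) := by
        induction hv using Submodule.span_induction with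
        | mem w hw =>
          obtain ⟨c, hc, rfl⟩ := hw
          intro z hz
          rw [algebraMap_smul]
          exact Submodule.smul_mem_smul hc hz
        | zero => intro z _; rw [zero_smul]; exact zero_mem _
        | add v w _ _ hv hw => intro z hz; rw [add_smul]; exact add_mem (hv (by assumption) z hz) (hw (by assumption) z hz)
        | smul c v hmem hv =>
          intro z hz
          rw [smul_eq_mul, mul_comm, mul_smul]
          refine hv hmem _ ?_
          refine Submodule.smul_induction_on hz (fun d hd y _ => ?_) (fun d f hd hf => ?_)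
          · rw [smul_comm]; exact Submodule.smul_mem_smul hd Submodule.mem_top
          · rw [smul_add]; exact add_mem hd hf
      exact this m hbase
  have hle : J.map (algebraMap R (Localization.AtPrime t)) ≤
      t'.map (algebraMap R (Localization.AtPrime t)) ⊔
        IsLocalRing.maximalIdeal (Localization.AtPrime t) • J.map (algebraMap R (Localization.AtPrime t)) := by
    rw [Ideal.map_le_iff_le_comap, Ideal.span_le]
    rintro _ ⟨j, rfl⟩
    have h1 := Ideal.mem_map_of_mem (algebraMap R (Localization.AtPrime t)) (hcoord _ _ key j)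
    rw [map_smul, Finsupp.smul_apply, smul_eq_mul, map_mul, Ideal.unit_mul_mem_iff_mem _
      (IsLocalization.map_units _ (⟨a ^ k, fun h0 => ha (Ideal.IsPrime.mem_of_pow_mem ‹_› _ h0)⟩ : t.primeCompl)),
      Ideal.map_sup, Ideal.map_mul, Localization.AtPrime.map_eq_maximalIdeal] at h1
    exact h1
  have hJt : J.map (algebraMap R (Localization.AtPrime t)) ≤ t'.map (algebraMap R (Localization.AtPrime t)) :=
    Submodule.le_of_le_smul_of_le_jacobson_bot (hJ.map _) (IsLocalRing.maximalIdeal_le_jacobson _) hle
  refine hm (hrec t' fun j => ?_)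
  have h1 := hJt (Ideal.mem_map_of_mem _ (Ideal.subset_span ⟨j, rfl⟩ : i m j ∈ J))
  rw [← Ideal.mem_comap, ← Ideal.under_def] at h1
  rwa [IsLocalization.under_map_of_isPrime_disjoint t.primeCompl (Localization.AtPrime t) ‹_›
    (Set.disjoint_left.2 fun y hy hy' => hy (htt hy'))] at h1

/-- For an affine finite type morphism Spec B → Spec A: a finite B-module which is projective as an
A-module is universally pure over Spec A. (The published statement allows any base scheme S and asks
the direct image to be locally projective; over an affine base a projective module gives such a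
direct image, so this row is that case.) -/
theorem result {A B : Type u} [CommRing A] [CommRing B] [Algebra A B] [Algebra.FiniteType A B] (N : Type u) [AddCommGroup N] [Module B N] [Module A N] [IsScalarTower A B N] [Module.Finite B N] [Module.Projective A N] : FlatCA.IsUnivPure A B N := by
  intro p _ A' B' N' _ _ _ _ _ _ _ _ _ _ _ _ _ _ f t' t _ _ P _ himp
  obtain ⟨hpush, hf, htt, -, -, hass, hno⟩ := himp
  haveI : Algebra.IsPushout A A' B B' := hpush.symm
  letI : Module A N' := Module.compHom N' (algebraMap A A')
  haveI : IsScalarTower A A' N' := IsScalarTower.of_algebraMap_smul fun _ _ => rfl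
  haveI : IsScalarTower A B N' := IsScalarTower.of_algebraMap_smul fun c z => by
    rw [← algebraMap_smul B' (algebraMap A B c) z, ← IsScalarTower.algebraMap_apply,
      IsScalarTower.algebraMap_apply A A' B', algebraMap_smul]
    rfl
  haveI : Module.Projective A' N' :=
    Module.Projective.of_equiv (Groth.Agent.QCart13.isBaseChange_of_pushout (A := A) (B := B) (C := A') (D := B') f hf).equiv
  exact not_impure N' t' t htt P hass hno

end Groth.Agent.S9005
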