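import Groth.Statements.S9006
import Groth.Agent.HTopCov.StdHDescend

set_option autoImplicit false
universe w u
open HTop

namespace Groth.Agent.S9006

open CategoryTheory CategoryTheory.Limits AlgebraicGeometry in
/-- A standard h covering of an affine scheme written as a cofiltered limit of affine schemes is, up to
isomorphism of families over the limit, the base change of a standard h covering of one of the
schemes in the system. (The further parts of the published statement, on descending morphisms of
such coverings and equalities between them, are not stated here.) -/
theorem result {I : Type u} [SmallCategory I] [IsCofiltered I] (D : I ⥤ Scheme.{u}) [∀ i, IsAffine (D.obj i)] (c : Cone D) (hc : IsLimit c) [IsAffine c.pt] (V : PreZeroHypercover.{w} c.pt) (hV : HTop.IsStandardH V) : ∃ (i : I) (W : PreZeroHypercover.{w} (D.obj i)), HTop.IsStandardH W ∧ ∃ (σ : V.I₀ ≃ W.I₀) (e : ∀ j, V.X j ≅ pullback (c.π.app i) (W.f (σ j))), ∀ j, (e j).hom ≫ pullback.fst (c.π.app i) (W.f (σ j)) = V.f j := by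
  exact Groth.Agent.HTopCov.exists_standardH_descends hc V hV

end Groth.Agent.S9006
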