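import Groth.Statements.S9007
import Mathlib

set_option autoImplicit false
universe u
open FlatMor

namespace Groth.Agent.S9007

open CategoryTheory CategoryTheory.Limits AlgebraicGeometry in
/-- For a morphism f of compactifications of X over a quasi-compact quasi-separated S whose source
contains X as a dense open, the preimage under f of the image of X in the target is the image of X
in the source. -/
theorem result {X S : Scheme.{u}} [CompactSpace S] [QuasiSeparatedSpace S] (p : X ⟶ S) [IsSeparated p] [QuasiCompact p] [LocallyOfFiniteType p] {Y Y' : Scheme.{u}} (j : X ⟶ Y) (q : Y ⟶ S) [IsOpenImmersion j] [IsProper q] (h : j ≫ q = p) (j' : X ⟶ Y') (q' : Y' ⟶ S) [IsOpenImmersion j'] [IsProper q'] (h' : j' ≫ q' = p) (f : Y' ⟶ Y) (hf : f ≫ q = q') (hfj : j' ≫ f = j) (hd : Dense (Set.range j'.base)) : f ⁻¹ᵁ j.opensRange = j'.opensRange := by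
  refine le_antisymm ?_ ?_
  · intro z hz
    haveI : IsSeparated (f ≫ q) := hf ▸ inferInstance
    haveI : IsSeparated f := IsSeparated.of_comp f q
    let P := f ⁻¹ᵁ j.opensRange
    have hle : Set.range j'.base ⊆ (P : Set Y') := by
      rintro _ ⟨x, rfl⟩
      change f.base (j'.base x) ∈ Set.range j.base
      exact ⟨x, by rw [← hfj]; rfl⟩
    let l : X ⟶ P.toScheme := IsOpenImmersion.lift P.ι j' (by rw [Scheme.Opens.range_ι]; exact hle)
    have hl : l ≫ P.ι = j' := IsOpenImmersion.lift_fac _ _ _
    have hc : l ≫ (f ∣_ j.opensRange) = j.isoOpensRange.hom := by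
      rw [← cancel_mono j.opensRange.ι, Category.assoc, morphismRestrict_ι, ← Category.assoc, hl, hfj]
      simp
    haveI : IsClosedImmersion (l ≫ (f ∣_ j.opensRange)) := hc ▸ inferInstance
    haveI : IsClosedImmersion l := IsClosedImmersion.of_comp l (f ∣_ j.opensRange)
    have hrange : Subtype.val '' Set.range l.base = Set.range j'.base := by
      ext y; constructor
      · rintro ⟨_, ⟨x, rfl⟩, rfl⟩
        exact ⟨x, by rw [← hl]; rfl⟩
      · rintro ⟨x, rfl⟩
        exact ⟨l.base x, ⟨x, rfl⟩, by rw [← hl]; rfl⟩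
    have hzc : (⟨z, hz⟩ : P) ∈ Set.range l.base := by
      rw [← l.isClosedEmbedding.isClosed_range.closure_eq]
      refine closure_subtype.mpr ?_
      refine hrange.symm ▸ ?_
      rw [hd.closure_eq]; trivial
    obtain ⟨x, hx⟩ := hzc
    exact ⟨x, by rw [← hl]; exact congrArg Subtype.val hx⟩
  · rintro _ ⟨x, rfl⟩
    change f.base (j'.base x) ∈ Set.range j.base
    exact ⟨x, by rw [← hfj]; rfl⟩

end Groth.Agent.S9007
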