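import Groth.Statements.S9008
import Groth.Agent.ZClosLib.PurityBC

set_option autoImplicit false
set_option linter.style.haveILetI false
universe u
open FlatMor

namespace Groth.Agent.S9008

/-- For Spec B → Spec A affine of finite type: a finite B-module is universally pure along the fibre
over a prime p of A exactly when every base change of it along a ring map A → A' is pure along the
fibre over every prime of A' above p. -/
theorem result {A B : Type u} [CommRing A] [CommRing B] [Algebra A B] [Algebra.FiniteType A B] (N : Type u) [AddCommGroup N] [Module B N] [Module.Finite B N] (p : Ideal A) [p.IsPrime] : FlatCA.IsUnivPureAlong A B N p ↔ ∀ (A' B' N' : Type u) [CommRing A'] [CommRing B'] [Algebra A A'] [Algebra B B'] [Algebra A' B'] [Algebra A B'] [IsScalarTower A B B'] [IsScalarTower A A' B'] [Algebra.IsPushout A B A' B'] [AddCommGroup N'] [Module B' N'] [Module B N'] [IsScalarTower B B' N'] (g : N →ₗ[B] N'), IsBaseChange B' g → ∀ (p' : Ideal A') [p'.IsPrime], p'.LiesOver p → FlatCA.IsPureAlong A' B' N' p' := by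
  constructor
  · intro h A' B' N' _ _ _ _ _ _ _ _ hpush _ _ _ _ g hg p' _ hp'
    intro A'' B'' N'' _ _ _ _ _ _ _ _ _ _ _ _ _ _ f t' t _ _ P _ _ himp
    obtain ⟨hpush', hf, htt, htp, hP, hass, hno⟩ := himp
    haveI := htp
    letI : Algebra A A'' := ((algebraMap A' A'').comp (algebraMap A A')).toAlgebra
    letI : Algebra B B'' := ((algebraMap B' B'').comp (algebraMap B B')).toAlgebra
    letI : Algebra A B'' := ((algebraMap A'' B'').comp (algebraMap A A'')).toAlgebra
    haveI : IsScalarTower A A' A'' := IsScalarTower.of_algebraMap_eq fun _ => rfl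
    haveI : IsScalarTower B B' B'' := IsScalarTower.of_algebraMap_eq fun _ => rfl
    haveI : IsScalarTower A A'' B'' := IsScalarTower.of_algebraMap_eq fun _ => rfl
    haveI : IsScalarTower A B B'' := IsScalarTower.of_algebraMap_eq fun x => by
      show algebraMap A'' B'' (algebraMap A' A'' (algebraMap A A' x)) = algebraMap B' B'' (algebraMap B B' (algebraMap A B x))
      rw [← IsScalarTower.algebraMap_apply A B B', IsScalarTower.algebraMap_apply A A' B',
        ← IsScalarTower.algebraMap_apply A' A'' B'', ← IsScalarTower.algebraMap_apply A' B' B'']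
    letI : Module B N'' := Module.compHom N'' (algebraMap B B')
    haveI : IsScalarTower B B' N'' := IsScalarTower.of_algebraMap_smul fun _ _ => rfl
    haveI : IsScalarTower B B'' N'' := IsScalarTower.of_algebraMap_smul fun b z =>
      (algebraMap_smul B'' (algebraMap B B' b) z)
    exact h A'' B'' N'' (f.restrictScalars B ∘ₗ g) t' t P
      ⟨Groth.Agent.ZClosLib.PurityBC.isPushout_comp A B A' B' A'' B'' hpush hpush', hg.comp hf, htt,
        Ideal.LiesOver.trans t p' p, hP, hass, hno⟩
  · intro h A' B' N' _ _ _ _ _ _ _ _ _ _ _ _ _ _ f t' t _ _ P _ himp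
    obtain ⟨hpush, hf, htt, htp, hP, hass, hno⟩ := himp
    haveI := hpush
    refine h A' B' N' f hf t htp A' B' N' LinearMap.id t' t P
      ⟨inferInstance, ⟨by simp [Ideal.under_def]⟩, ?_⟩ ⟨⟨IsBaseChange.linearMap A' B'⟩, IsBaseChange.ofEquiv (LinearEquiv.refl B' N'), htt,
        ⟨by simp [Ideal.under_def]⟩, hP, hass, hno⟩
    have e : ∀ z, Ideal.ResidueField.mapₐ t t (Algebra.ofId A' A') (by simp) z = z := fun z => by
      obtain ⟨a, b, -, rfl⟩ := IsFractionRing.div_surjective (A' ⧸ t) z
      obtain ⟨a, rfl⟩ := Ideal.Quotient.mk_surjective a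
      obtain ⟨b, rfl⟩ := Ideal.Quotient.mk_surjective b
      simp only [Ideal.algebraMap_quotient_residueField_mk, map_div₀, AlgHom.commutes]
    exact ⟨fun x y hxy => by rwa [e, e] at hxy, fun z => ⟨z, e z⟩⟩

end Groth.Agent.S9008
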