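import Groth.Statements.S9009
import Groth.Agent.FlatAssoc.Basic
import Groth.Agent.Approx.DimBound
import Groth.Agent.FibDim.Basic

set_option autoImplicit false
universe u
open FlatMor

namespace Groth.Agent.S9009

open CategoryTheory CategoryTheory.Limits AlgebraicGeometry in
/-- For f : X → S locally of finite type and a finite type quasi-coherent O_X-module F, the non-flat
locus of F in every fibre has dimension less than n if and only if every point where F is not flat
over S has residue field of transcendence degree less than n over the residue field of its image.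
(The non-flat locus of the fibre over s is taken with the subspace topology from X, which is that of
the fibre. The published statement adds that when these conditions hold they continue to hold after
any base change S' → S; this row states only the equivalence.) -/
theorem result {X S : Scheme.{u}} (f : X ⟶ S) [LocallyOfFiniteType f] (F : X.Modules) [Coh.IsQCoh F] (hF : CohB1.IsFT F) (n : ℕ) : (∀ s : S, topologicalKrullDim {x : X // f.base x = s ∧ ¬ FlatMod.IsFlatOverAt f F x} < n) ↔ ∀ x : X, ¬ FlatMod.IsFlatOverAt f F x → ∀ [Algebra (S.residueField (f.base x)) (X.residueField x)], algebraMap (S.residueField (f.base x)) (X.residueField x) = (f.residueFieldMap x).hom → Algebra.trdeg (S.residueField (f.base x)) (X.residueField x) < n := by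
  classical
  have hdim : ∀ s : S, topologicalKrullDim {x : X // f.base x = s ∧ ¬ FlatMod.IsFlatOverAt f F x} =
      ⨆ z : {x : X // f.base x = s ∧ ¬ FlatMod.IsFlatOverAt f F x}, ((FibDim.rd f z.1 : ℕ∞) : WithBot ℕ∞) := by
    intro s
    let T : Set X := {x | f.base x = s ∧ ¬ FlatMod.IsFlatOverAt f F x}
    have hT : closure T ∩ f ⁻¹' {s} = T := by
      refine Set.Subset.antisymm ?_ fun x hx => ⟨subset_closure hx, hx.1⟩
      rintro x ⟨hx, hxs⟩
      refine ⟨hxs, fun hflat => ?_⟩
      obtain ⟨W, hW, hxW, hWflat⟩ :=
        Groth.Agent.FlatAssoc.exists_open_flat_in_fibre f ‹Coh.IsQCoh F› hF x hflat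
      obtain ⟨w, hwW, hwT⟩ := mem_closure_iff.1 hx W hW hxW
      exact hwT.2 (hWflat w hwW (hwT.1.trans hxs.symm))
    have h := FibDim.dim_closed_inter_eq_iSup f s (Z := closure T) isClosed_closure
    rw [hT] at h
    exact h
  have hlt : ∀ {ι : Type u} (g : ι → ℕ),
      (⨆ i, ((g i : ℕ∞) : WithBot ℕ∞)) < (n : WithBot ℕ∞) ↔ ∀ i, g i < n := by
    intro ι g
    refine ⟨fun h i => by exact_mod_cast (le_iSup (fun i => ((g i : ℕ∞) : WithBot ℕ∞)) i).trans_lt h, fun h => ?_⟩
    rcases n with _ | m
    · haveI : IsEmpty ι := ⟨fun i => Nat.not_lt_zero _ (h i)⟩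
      rw [iSup_of_empty]
      exact WithBot.bot_lt_coe _
    · refine lt_of_le_of_lt (iSup_le fun i => ?_) (by exact_mod_cast m.lt_succ_self :
        ((m : ℕ∞) : WithBot ℕ∞) < ((m + 1 : ℕ) : WithBot ℕ∞))
      exact_mod_cast Nat.lt_succ_iff.1 (h i)
  simp only [hdim, hlt]
  constructor
  · intro h x hx _ halg
    have he : ‹Algebra (S.residueField (f.base x)) (X.residueField x)› = (f.residueFieldMap x).hom.toAlgebra :=
      Algebra.algebra_ext _ _ fun r => RingHom.congr_fun halg r
    subst he
    show VarDim.rdeg f x < n
    rw [← FibDim.rd_eq_rdeg f x]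
    exact_mod_cast h (f.base x) ⟨x, rfl, hx⟩
  · rintro h s ⟨x, hxs, hx⟩
    have h1 : VarDim.rdeg f x < n :=
      @h x hx (f.residueFieldMap x).hom.toAlgebra rfl
    rw [← FibDim.rd_eq_rdeg f x] at h1
    exact_mod_cast h1

end Groth.Agent.S9009
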