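import Groth.Statements.S9011
import Groth.Agent.S0448
import Groth.Agent.AssFiber.Basic
import Mathlib.RingTheory.TensorProduct.Maps
import Mathlib.RingTheory.IsTensorProduct

set_option autoImplicit false
set_option backward.isDefEq.respectTransparency false
set_option backward.isDefEq.respectTransparency.types false
universe u
open FlatMor

namespace Groth.Agent.S9011

open IsLocalRing in
/-- For a local ring R with maximal ideal m, an R-algebra S with S/mS Noetherian and an S-module N with
N/mN finite over S/mS which is projective as an R-module, every element of S that is a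
nonzerodivisor on N/mN acts R-universally injectively on N, and the map from N to its localization
at all such elements is R-universally injective. -/
theorem result {R S : Type u} [CommRing R] [IsLocalRing R] [CommRing S] [Algebra R S] (N : Type u) [AddCommGroup N] [Module S N] [Module R N] [IsScalarTower R S N] [IsNoetherianRing ((maximalIdeal R).Fiber S)] [Module.Finite ((maximalIdeal R).Fiber S) (FlatCA.fiberMod (maximalIdeal R) S N)] [Module.Projective R N] : (∀ s ∈ FlatCA.nzdFiber R S N, FlatCA.UnivInj R ((LinearMap.lsmul S N s).restrictScalars R)) ∧ FlatCA.UnivInj R ((LocalizedModule.mkLinearMap (FlatCA.nzdFiber R S N) N).restrictScalars R) := by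
  have hzero : ∀ n : N, FlatCA.toFiberMod (maximalIdeal R) (S := S) N n = 0 →
      n ∈ maximalIdeal R • (⊤ : Submodule R N) := by
    intro n hn
    obtain ⟨r, hr, hrn⟩ := Groth.Agent.AssFiber.exists_smul_mem_of_toFiberMod_eq_zero (maximalIdeal R) N hn
    obtain ⟨u, rfl⟩ := notMem_maximalIdeal.1 hr
    have h := Groth.Agent.AssFiber.mem_smul_top_of_mem_pN (maximalIdeal R) N hrn
    rw [algebraMap_smul] at h
    simpa [smul_smul] using Submodule.smul_mem _ ((u⁻¹ : Rˣ) : R) h
  have h1 : ∀ s ∈ FlatCA.nzdFiber R S N,
      FlatCA.UnivInj R ((LinearMap.lsmul S N s).restrictScalars R) := by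
    intro s hs
    have hinj : Function.Injective (LinearMap.lTensor (IsLocalRing.ResidueField R)
        ((LinearMap.lsmul S N s).restrictScalars R)) := by
      rw [injective_iff_map_eq_zero]
      intro x hx
      obtain ⟨y, rfl⟩ := (TensorProduct.quotTensorEquivQuotSMul N (maximalIdeal R)).symm.surjective x
      obtain ⟨n, rfl⟩ := Submodule.Quotient.mk_surjective _ y
      rw [TensorProduct.quotTensorEquivQuotSMul_symm_mk] at hx
      have hsn : s • n ∈ maximalIdeal R • (⊤ : Submodule R N) := by
        have := congrArg (TensorProduct.quotTensorEquivQuotSMul N (maximalIdeal R)) hx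
        rw [map_zero, LinearMap.lTensor_tmul] at this
        erw [TensorProduct.quotTensorEquivQuotSMul_mk_tmul] at this
        rw [one_smul] at this
        exact (Submodule.Quotient.mk_eq_zero _).1 this
      have h0 : FlatCA.toFiberMod (maximalIdeal R) (S := S) N (s • n) = 0 :=
        Groth.Agent.AssFiber.toFiberMod_eq_zero_of_mem _ N (Groth.Agent.AssFiber.smul_mem_pN _ N hsn)
      rw [map_smul] at h0
      rw [(Submodule.Quotient.mk_eq_zero (maximalIdeal R • (⊤ : Submodule R N))).2 (hzero n (hs _ h0)), map_zero]
    intro Q _ _
    have h := Groth.Agent.S0448.result ((LinearMap.lsmul S N s).restrictScalars R) hinj Q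
    intro a b hab
    refine (TensorProduct.comm R Q N).injective (h ?_)
    have e : ∀ z, LinearMap.rTensor Q ((LinearMap.lsmul S N s).restrictScalars R) (TensorProduct.comm R Q N z) =
        TensorProduct.comm R Q N (LinearMap.lTensor Q ((LinearMap.lsmul S N s).restrictScalars R) z) := fun z => by
      induction z using TensorProduct.induction_on with
      | zero => simp
      | tmul q m => simp
      | add x y hx hy => simp only [map_add, hx, hy]
    rw [e, e, hab]
  refine ⟨h1, fun Q _ _ => ?_⟩
  set T := FlatCA.nzdFiber R S N
  rw [injective_iff_map_eq_zero]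
  intro z hz
  let k : S →ₗ[R] (TensorProduct R Q N →ₗ[R] TensorProduct R Q N) :=
    { toFun := fun s => LinearMap.lTensor Q ((LinearMap.lsmul S N s).restrictScalars R)
      map_add' := fun a b => by
        rw [← LinearMap.lTensor_add]; congr 1; ext n; simp [add_smul]
      map_smul' := fun r a => by
        rw [RingHom.id_apply, ← LinearMap.lTensor_smul]; congr 1; ext n; simp }
  obtain ⟨t, ht, htz⟩ : ∃ t ∈ T, k t z = 0 := by
    let e : TensorProduct R Q N ≃ₗ[R] TensorProduct R N Q := TensorProduct.comm R Q N
    let lN : TensorProduct R N Q →ₗ[S] TensorProduct R (LocalizedModule T N) Q :=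
      TensorProduct.AlgebraTensorModule.rTensor R Q (LocalizedModule.mkLinearMap T N)
    haveI : IsLocalizedModule T lN := inferInstance
    have h0 : lN (e z) = 0 := by
      have key : ∀ w, lN (e w) = TensorProduct.comm R Q (LocalizedModule T N)
          (LinearMap.lTensor Q ((LocalizedModule.mkLinearMap T N).restrictScalars R) w) := fun w => by
        induction w using TensorProduct.induction_on with
        | zero => simp
        | tmul q m => simp [e, lN]
        | add x y hx hy => simp only [map_add, hx, hy]
      rw [key, hz, map_zero]
    obtain ⟨c, hc⟩ := (IsLocalizedModule.eq_zero_iff T lN).1 h0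
    refine ⟨c, c.2, e.injective ?_⟩
    have key : ∀ w, e (k c w) = (c : S) • e w := fun w => by
      induction w using TensorProduct.induction_on with
      | zero => simp
      | tmul q m => simp [e, k, TensorProduct.smul_tmul']
      | add x y hx hy => simp only [map_add, smul_add, hx, hy]
    rw [key, map_zero]
    exact hc
  exact (injective_iff_map_eq_zero _).1 (h1 t ht Q) z htz

end Groth.Agent.S9011
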