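import Groth.Statements.S9012
import Groth.Agent.LimModLib.FpqcSheaf
import Groth.Agent.FlatBC5.Basic
import Groth.Agent.GrFlat5.FlatAtIso

set_option autoImplicit false
universe u
open FlatMor

namespace Groth.Agent.S9012

open CategoryTheory CategoryTheory.Limits AlgebraicGeometry Opposite in
/-- For f : X → S and a quasi-coherent O_X-module F, the functor F_flat on schemes over S (one point on
T when the base change F_T on X_T = X ×_S T is flat over T, empty otherwise; written as the
subfunctor of the final functor generated by that condition, which agrees with it because flatness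
is preserved by base change) satisfies the sheaf condition for the fpqc topology. -/
theorem result {X S : Scheme.{u}} (f : X ⟶ S) (F : X.Modules) [Coh.IsQCoh F] :
    Presheaf.IsSheaf (QuotSh.J Scheme.fpqcPrecoverage S)
      (FlatFun.genPSp S (fun T => FlatMod.IsFlatOver (PicF.XTproj f T) (FGA.ET f F T))) := by
  refine Groth.Agent.LimModLib.isSheaf_genPSp _ (fun T T₀ g h x'' =>
    Groth.Agent.GrFlat5.isFlatOverAt_baseChange_comp f T₀.hom T.hom g.left (Over.w g) F _ _ x'' rfl rfl
      fun x' _ _ => h x') ?_
  intro T ι Ti g hfl hsurj hP x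
  obtain ⟨k, t, ht⟩ := hsurj (pullback.snd f T.hom x)
  let a : pullback f (Ti k).hom ⟶ pullback f T.hom :=
    pullback.map f (Ti k).hom f T.hom (𝟙 X) (g k).left (𝟙 S) (by simp) (by rw [Category.comp_id]; exact (Over.w (g k)).symm)
  have hk : a ≫ pullback.fst f T.hom = pullback.fst f (Ti k).hom :=
    (pullback.lift_fst _ _ _).trans (Category.comp_id _)
  have hc : IsPullback a (pullback.snd f (Ti k).hom) (pullback.snd f T.hom) (g k).left := by
    refine IsPullback.of_right ?_ (pullback.lift_snd _ _ _) (IsPullback.of_hasPullback f T.hom)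
    rw [hk, Over.w]
    exact IsPullback.of_hasPullback f (Ti k).hom
  haveI := hfl k
  refine Groth.Agent.FlatBC5.isFlatOverAt_of_faithful hc
    (Groth.Agent.QCoh.isQCoh_pullback _ ‹Coh.IsQCoh F›) x t ht.symm (Flat.stalkMap (g k).left t) fun x' => ?_
  exact Groth.Agent.GrFlat5.isFlatOverAt_of_iso _
    ((Scheme.Modules.pullbackComp a (pullback.fst f T.hom)).app F ≪≫ (Scheme.Modules.pullbackCongr hk).app F).symm x'
    (hP k x')

end Groth.Agent.S9012
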