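import Groth.Statements.S9013
import Groth.Agent.LimModLib.FlatStage
import Groth.Agent.LimModLib.FP
import Groth.Agent.LimModLib.Functor

set_option autoImplicit false
universe u
open FlatMor

namespace Groth.Agent.S9013

open CategoryTheory CategoryTheory.Limits AlgebraicGeometry Opposite in
/-- For f : X → S quasi-compact and locally of finite presentation and F a quasi-coherent O_X-module of
finite presentation, the functor F_flat on schemes over S (one point on T when F_T is flat over T,
empty otherwise; the subfunctor of the final functor generated by that condition) is limit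
preserving: its value on a directed limit of affine schemes over S is the colimit of its values. -/
theorem result {X S : Scheme.{u}} (f : X ⟶ S) [QuasiCompact f] [LocallyOfFinitePresentation f]
    (F : X.Modules) [Coh.IsQCoh F] (hF : CohB1.IsFP F) :
    AlgSp.IsLimitPreserving
      (FlatFun.genPSp S (fun T => FlatMod.IsFlatOver (PicF.XTproj f T) (FGA.ET f F T))) := by
  refine Groth.Agent.LimModLib.isLimitPreserving_genPSp _ (fun T T₀ g h x'' =>
    Groth.Agent.GrFlat5.isFlatOverAt_baseChange_comp f T₀.hom T.hom g.left (Over.w g) F _ _ x'' rfl rfl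
      fun x' _ _ => h x') ?_
  intro I _ _ D c hc hD hT h
  obtain ⟨i₀⟩ := IsCofiltered.nonempty (C := I)
  let D' : I ⥤ Scheme.{u} := D ⋙ Over.forget S
  haveI : ∀ i, IsAffine (D'.obj i) := hD
  haveI : ∀ {i j : I} (g : i ⟶ j), IsAffineHom (D'.map g) := fun g => inferInstance
  let a : pullback f (D.obj i₀).hom ⟶ (D.obj i₀).left := pullback.snd f (D.obj i₀).hom
  haveI : CompactSpace ↥(pullback f (D.obj i₀).hom) :=
    haveI := hD i₀
    QuasiCompact.compactSpace_of_compactSpace (pullback.snd f (D.obj i₀).hom)
  haveI : @LocallyOfFinitePresentation _ (D'.obj i₀) a :=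
    inferInstanceAs (LocallyOfFinitePresentation (pullback.snd f (D.obj i₀).hom))
  let F₀ := (Scheme.Modules.pullback (pullback.fst f (D.obj i₀).hom)).obj F
  have hF₀ : Coh.IsQCoh F₀ := Groth.Agent.QCoh.isQCoh_pullback _ ‹Coh.IsQCoh F›
  -- base changes of `a` are base changes of `f`
  have hpb : ∀ (T : Over S) (p : T ⟶ D.obj i₀),
      IsPullback (pullback.map f T.hom f (D.obj i₀).hom (𝟙 X) p.left (𝟙 S) (by simp)
        (by rw [Category.comp_id]; exact (Over.w p).symm)) (pullback.snd f T.hom) a p.left := by
    intro T p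
    refine IsPullback.of_right ?_ (pullback.lift_snd _ _ _) (IsPullback.of_hasPullback f (D.obj i₀).hom)
    rw [pullback.lift_fst, Category.comp_id, Over.w p]
    exact IsPullback.of_hasPullback f T.hom
  have hiso : ∀ (T : Over S) (p : T ⟶ D.obj i₀), Nonempty ((Scheme.Modules.pullback
      (pullback.map f T.hom f (D.obj i₀).hom (𝟙 X) p.left (𝟙 S) (by simp)
        (by rw [Category.comp_id]; exact (Over.w p).symm))).obj F₀ ≅
      (Scheme.Modules.pullback (pullback.fst f T.hom)).obj F) := fun T p =>
    ⟨(Scheme.Modules.pullbackComp _ _).app F ≪≫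
      (Scheme.Modules.pullbackCongr ((pullback.lift_fst _ _ _).trans (Category.comp_id _))).app F⟩
  obtain ⟨e⟩ := hiso c.pt (c.π.app i₀)
  obtain ⟨j, φ, hj⟩ := (Groth.Agent.LimModLib.isFlatOver_iff_eventually (D := D') (c := (Over.forget S).mapCone c)
    hc a hF₀ (Groth.Agent.LimModLib.isFP_pullback _ ‹Coh.IsQCoh F› hF) (hpb c.pt (c.π.app i₀))).1
      (Groth.Agent.LimModLib.isFlatOver_of_iso _ e.symm h)
  obtain ⟨e'⟩ := hiso (D.obj j) (D.map φ)
  exact ⟨j, Groth.Agent.LimModLib.isFlatOver_of_iso _ e' (Groth.Agent.LimModLib.isFlatOver_of_stage (D := D') a hF₀ φ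
    (𝟙 (D'.obj j)) (Category.id_comp _) (hpb (D.obj j) (D.map φ)) hj)⟩

end Groth.Agent.S9013
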