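import Groth.Statements.S9017
import Groth.Agent.LimModLib.FpqcSheaf

set_option autoImplicit false
universe u
open FlatMor

namespace Groth.Agent.S9017

open CategoryTheory CategoryTheory.Limits AlgebraicGeometry Opposite in
/-- For f : X → S, a homomorphism u : F → G of quasi-coherent O_X-modules, a scheme T over S and an fpqc
covering family of S-morphisms T_i → T, the base change u_T on X_T = X ×_S T is injective (a
monomorphism in the abelian category of O-modules) if and only if u_{T_i} is injective for every i.
(Injectivity of u_T is not preserved by arbitrary base change, so this variant is a sheaf condition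
on coverings rather than a subfunctor of the final functor.) -/
theorem result {X S : Scheme.{u}} (f : X ⟶ S) {F G : X.Modules} [Coh.IsQCoh F] [Coh.IsQCoh G] (u : F ⟶ G)
    (T : Over S) {ι : Type u} (Ti : ι → Over S) (g : ∀ i, Ti i ⟶ T)
    (hcov : Presieve.ofArrows (fun i => (Ti i).left) (fun i => (g i).left) ∈ Scheme.fpqcPrecoverage T.left) :
    Mono ((Scheme.Modules.pullback (pullback.fst f T.hom)).map u) ↔
      ∀ i, Mono ((Scheme.Modules.pullback (pullback.fst f (Ti i).hom)).map u) := by
  obtain ⟨hsurj, hfl⟩ := (Scheme.ofArrows_mem_precoverage_iff _).1 hcov.2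
  let a : ∀ k, pullback f (Ti k).hom ⟶ pullback f T.hom := fun k =>
    pullback.map f (Ti k).hom f T.hom (𝟙 X) (g k).left (𝟙 S) (by simp) (by rw [Category.comp_id]; exact (Over.w (g k)).symm)
  have hpb : ∀ k, IsPullback (a k) (pullback.snd f (Ti k).hom) (pullback.snd f T.hom) (g k).left := fun k => by
    refine IsPullback.of_right ?_ (pullback.lift_snd _ _ _) (IsPullback.of_hasPullback f T.hom)
    rw [pullback.lift_fst, Category.comp_id, Over.w]
    exact IsPullback.of_hasPullback f (Ti k).hom
  haveI : ∀ k, Flat (a k) := fun k => MorphismProperty.of_isPullback (hpb k).flip (hfl k)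
  have hkey : ∀ k, Mono ((Scheme.Modules.pullback (a k)).map ((Scheme.Modules.pullback (pullback.fst f T.hom)).map u)) ↔
      Mono ((Scheme.Modules.pullback (pullback.fst f (Ti k).hom)).map u) := fun k => by
    have hk : a k ≫ pullback.fst f T.hom = pullback.fst f (Ti k).hom :=
      (pullback.lift_fst _ _ _).trans (Category.comp_id _)
    rw [← hk]
    exact (MorphismProperty.monomorphisms _).arrow_mk_iso_iff
      (Arrow.isoMk ((Scheme.Modules.pullbackComp (a k) (pullback.fst f T.hom)).app F)
        ((Scheme.Modules.pullbackComp (a k) (pullback.fst f T.hom)).app G)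
        ((Scheme.Modules.pullbackComp (a k) (pullback.fst f T.hom)).hom.naturality u).symm)
  have hF := Groth.Agent.QCoh.isQCoh_pullback (pullback.fst f T.hom) ‹Coh.IsQCoh F›
  have hG := Groth.Agent.QCoh.isQCoh_pullback (pullback.fst f T.hom) ‹Coh.IsQCoh G›
  refine ⟨fun h k => (hkey k).1 (Groth.Agent.LimModLib.mono_pullback_of_flat (a k) hF hG _), fun h => ?_⟩
  refine Groth.Agent.LimModLib.mono_of_flat_cover a (fun y => ?_) hF hG _ fun k => (hkey k).2 (h k)
  obtain ⟨k, z, hz⟩ := hsurj (pullback.snd f T.hom y)
  obtain ⟨w, hw, -⟩ := Scheme.exists_preimage_of_isPullback (hpb k) y z hz.symm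
  exact ⟨k, w, hw⟩

end Groth.Agent.S9017
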