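import Groth.Statements.S9021
import Groth.Agent.FreeGen.Functor
import Groth.Agent.LimModLib.FpqcSheaf

set_option autoImplicit false
universe u
open FlatMor

namespace Groth.Agent.S9021

open CategoryTheory CategoryTheory.Limits AlgebraicGeometry Opposite in
/-- For f : X → S smooth with geometrically irreducible fibres, F a quasi-coherent O_X-module of finite
type and an integer p ≥ 0, the functor H_p on schemes over S (one point on T when, for every point t
of T, the base change F_T is free of rank p on some neighbourhood of the generic point of the fibre
of X_T = X ×_S T over t; empty otherwise; written as the subfunctor of the final functor generated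
by that condition) satisfies the sheaf condition for the fpqc topology. -/
theorem result {X S : Scheme.{u}} (f : X ⟶ S) [Smooth f] [GeometricallyIrreducible f] (F : X.Modules) [Coh.IsQCoh F]
    (hF : CohB1.IsFT F) (p : ℕ) :
    Presheaf.IsSheaf (QuotSh.J Scheme.fpqcPrecoverage S) (FlatFun.genPSp S (fun T => FlatFun.FreeAtGenericPts (PicF.XTproj f T) (FGA.ET f F T) p))  :=
  Groth.Agent.LimModLib.isSheaf_genPSp _ (Groth.Agent.FreeGen.cond_stable f ‹Coh.IsQCoh F› hF p)
    fun Ti g hfl hsurj hP => Groth.Agent.FreeGen.cond_descends f ‹Coh.IsQCoh F› hF p Ti g hfl hsurj hP

end Groth.Agent.S9021
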