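import Groth.Statements.S9022
import Groth.Agent.FreeGen.Limit
import Groth.Agent.LimModLib.Functor

set_option autoImplicit false
universe u
open FlatMor

namespace Groth.Agent.S9022

open CategoryTheory CategoryTheory.Limits AlgebraicGeometry Opposite in
/-- For f : X → S smooth with geometrically irreducible fibres, F a quasi-coherent O_X-module of finite
presentation and p ≥ 0, the functor H_p on schemes over S (one point on T when F_T is free of rank p
near the generic point of every fibre of X ×_S T → T, empty otherwise; the subfunctor of the final
functor generated by that condition) is limit preserving. -/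
theorem result {X S : Scheme.{u}} (f : X ⟶ S) [Smooth f] [GeometricallyIrreducible f] (F : X.Modules) [Coh.IsQCoh F]
    (hF : CohB1.IsFP F) (p : ℕ) :
    AlgSp.IsLimitPreserving (FlatFun.genPSp S (fun T => FlatFun.FreeAtGenericPts (PicF.XTproj f T) (FGA.ET f F T) p)) :=
  Groth.Agent.LimModLib.isLimitPreserving_genPSp _
    (Groth.Agent.FreeGen.cond_stable f ‹Coh.IsQCoh F› (Groth.Agent.QCoh.isFT_of_isFP hF) p)
    fun I _ _ D c hc hD hT h => haveI := hD; haveI := hT
      Groth.Agent.FreeGen.cond_limit f ‹Coh.IsQCoh F› hF p D c hc h

end Groth.Agent.S9022
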