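import Groth.Statements.S9023
import Groth.Agent.LimModLib.FpqcSheaf
import Groth.Agent.FibDim.BaseChange
import Groth.Agent.FibDim.Minimal
import Groth.Agent.GrFlat5.FlatAtIso
import Groth.Agent.S9350

set_option autoImplicit false
universe u
open FlatMor

namespace Groth.Agent.S9023

open CategoryTheory CategoryTheory.Limits AlgebraicGeometry in
theorem isFlatOverAt_comp {X Y Z : Scheme.{u}} (q : X ⟶ Y) (g : Y ⟶ Z) (M : X.Modules) (x : X)
    (hg : (g.stalkMap (q x)).hom.Flat) (h : FlatMod.IsFlatOverAt q M x) : FlatMod.IsFlatOverAt (q ≫ g) M x := by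
  let C := Z.presheaf.stalk (g (q x))
  let A := Y.presheaf.stalk (q x)
  letI : Algebra C A := (g.stalkMap (q x)).hom.toAlgebra
  letI : Module A (M.presheaf.stalk x) := FlatMod.moduleStalkOver q M x
  letI : Module C (M.presheaf.stalk x) := FlatMod.moduleStalkOver (q ≫ g) M x
  haveI : IsScalarTower C A (M.presheaf.stalk x) := IsScalarTower.of_algebraMap_smul fun c m => by
    show q.stalkMap x (g.stalkMap (q x) c) • m = (q ≫ g).stalkMap x c • m
    rw [Scheme.Hom.stalkMap_comp]
    rfl
  haveI : Module.Flat C A := hg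
  haveI : Module.Flat A (M.presheaf.stalk x) := h
  exact Module.Flat.trans C A (M.presheaf.stalk x)

open CategoryTheory CategoryTheory.Limits AlgebraicGeometry in
theorem dimFibresLT_iff {X T : Scheme.{u}} (q : X ⟶ T) [LocallyOfFiniteType q] (Z : Set X) (n : ℕ) :
    FlatFun.DimFibresLT n q Z ↔ ∀ x ∈ Z, FibDim.rd q x < n := by
  refine forall₂_congr fun x _ => ?_
  show VarDim.rdeg q x < (n : Cardinal) ↔ _
  rw [← FibDim.rd_eq_rdeg, Nat.cast_lt]

open CategoryTheory CategoryTheory.Limits AlgebraicGeometry Opposite in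
/-- For f : X → S locally of finite type, F a quasi-coherent O_X-module of finite type and n ≥ 0, the
functor F_n on schemes over S (one point on T when the base change F_T on X_T = X ×_S T is flat over
T in dimensions ≥ n, that is every point of X_T at which F_T is not flat over T has residue field of
transcendence degree less than n over the residue field of its image in T; empty otherwise; written
as the subfunctor of the final functor generated by that condition) satisfies the sheaf condition
for the fpqc topology. -/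
theorem result {X S : Scheme.{u}} (f : X ⟶ S) [LocallyOfFiniteType f] (F : X.Modules) [Coh.IsQCoh F] (hF : CohB1.IsFT F)
    (n : ℕ) :
    Presheaf.IsSheaf (QuotSh.J Scheme.fpqcPrecoverage S)
      (FlatFun.genPSp S (fun T => FlatFun.DimFibresLT n (PicF.XTproj f T)
        {x | ¬ FlatMod.IsFlatOverAt (PicF.XTproj f T) (FGA.ET f F T) x})) := by
  haveI : ∀ T : Over S, LocallyOfFiniteType (PicF.XTproj f T) := fun T =>
    MorphismProperty.pullback_snd f T.hom inferInstance
  let q : ∀ {T T₀ : Over S}, (T ⟶ T₀) → (pullback f T.hom ⟶ pullback f T₀.hom) := fun {T T₀} g =>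
    pullback.lift (pullback.fst f T.hom) (pullback.snd f T.hom ≫ g.left)
      (by rw [Category.assoc, Over.w, pullback.condition])
  have hq : ∀ {T T₀ : Over S} (g : T ⟶ T₀), IsPullback (q g) (pullback.snd f T.hom) (pullback.snd f T₀.hom) g.left :=
    fun {T T₀} g => IsPullback.of_right (by rw [pullback.lift_fst, Over.w]; exact IsPullback.of_hasPullback f T.hom)
      (pullback.lift_snd _ _ _) (IsPullback.of_hasPullback f T₀.hom)
  let e : ∀ {T T₀ : Over S} (g : T ⟶ T₀),
      (Scheme.Modules.pullback (q g)).obj (FGA.ET f F T₀) ≅ FGA.ET f F T := fun {T T₀} g =>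
    (Scheme.Modules.pullbackComp (q g) (pullback.fst f T₀.hom)).app F ≪≫
      (Scheme.Modules.pullbackCongr (pullback.lift_fst _ _ _)).app F
  refine LimModLib.isSheaf_genPSp _ (fun T T₀ g h => ?_) ?_
  · rw [dimFibresLT_iff] at h ⊢
    intro x hx
    have h1 : FibDim.rd (pullback.snd f T.hom) x ≤ FibDim.rd (pullback.snd f T₀.hom) (q g x) :=
      haveI := (inferInstance : LocallyOfFiniteType (PicF.XTproj f T))
      haveI := (inferInstance : LocallyOfFiniteType (PicF.XTproj f T₀))
      FibDim.rd_baseChange_le (hq g) x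
    refine lt_of_le_of_lt h1 (h _ fun hfl => hx ?_)
    exact GrFlat5.isFlatOverAt_of_iso _ (e g) x (MorLib.FlatBC.isFlatOverAt_baseChange _ _ (q g) g.left (hq g) _ x hfl)
  · intro T ι Ti g hfl hsurj hP
    rw [dimFibresLT_iff]
    intro x hx
    obtain ⟨k, t, ht⟩ := hsurj (pullback.snd f T.hom x)
    haveI : LocallyOfFiniteType (pullback.snd f T.hom) := inferInstanceAs (LocallyOfFiniteType (PicF.XTproj f T))
    haveI : LocallyOfFiniteType (pullback.snd f (Ti k).hom) := inferInstanceAs (LocallyOfFiniteType (PicF.XTproj f (Ti k)))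
    obtain ⟨x', rfl, hx't, hrd⟩ := FibDim.exists_rd_baseChange_eq (hq (g k)) x t ht.symm
    haveI := hfl k
    haveI : Flat (q (g k)) := MorphismProperty.of_isPullback (hq (g k)).flip (hfl k)
    rw [show FibDim.rd (PicF.XTproj f T) (q (g k) x') = FibDim.rd (pullback.snd f (Ti k).hom) x' from hrd.symm]
    refine (dimFibresLT_iff _ _ n).1 (hP k) x' fun hflat => hx ?_
    have h2 := isFlatOverAt_comp (PicF.XTproj f (Ti k)) (g k).left (FGA.ET f F (Ti k)) x'
      (Flat.stalkMap (g k).left _) hflat
    have h3 := GrFlat5.isFlatOverAt_of_iso _ (e (g k)).symm x' h2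
    refine (S9350.flatOverAt_pullback_iff (q (g k)) (pullback.snd f T.hom) _ x' (Flat.stalkMap (q (g k)) x')).2 ?_
    rw [show q (g k) ≫ pullback.snd f T.hom = PicF.XTproj f (Ti k) ≫ (g k).left from pullback.lift_snd _ _ _]
    exact h3

end Groth.Agent.S9023
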