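import Groth.Statements.S9024
import Groth.Agent.FlatDim.Limit
import Groth.Agent.LimModLib.Functor
import Groth.Agent.GrFlat5.FlatAtIso

set_option autoImplicit false
set_option backward.isDefEq.respectTransparency false
set_option backward.isDefEq.respectTransparency.types false
universe u
open FlatMor

namespace Groth.Agent.S9024

open CategoryTheory CategoryTheory.Limits AlgebraicGeometry in
theorem dimFibresLT_iff {X T : Scheme.{u}} (q : X ⟶ T) [LocallyOfFiniteType q] (Z : Set X) (n : ℕ) :
    FlatFun.DimFibresLT n q Z ↔ ∀ x ∈ Z, FibDim.rd q x < n := by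
  refine forall₂_congr fun x _ => ?_
  show VarDim.rdeg q x < (n : Cardinal) ↔ _
  rw [← FibDim.rd_eq_rdeg, Nat.cast_lt]

open CategoryTheory CategoryTheory.Limits AlgebraicGeometry Opposite in
/-- Given a quasi-compact morphism f : X → S that is locally finitely presented, a finitely presented
quasi-coherent O_X-module F, and an integer n ≥ 0, the functor F_n on schemes over S (one point on T
when F_T is flat over T in dimensions ≥ n, in the transcendence-degree form: every point of X ×_S T
where F_T is not flat over T has residue field of transcendence degree less than n over that of its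
image; empty otherwise; the subfunctor of the final functor generated by that condition) is limit
preserving. -/
theorem result {X S : Scheme.{u}} (f : X ⟶ S) [QuasiCompact f] [LocallyOfFinitePresentation f] (F : X.Modules) [Coh.IsQCoh F]
    (hF : CohB1.IsFP F) (n : ℕ) :
    AlgSp.IsLimitPreserving (FlatFun.genPSp S (fun T => FlatFun.DimFibresLT n (PicF.XTproj f T)
        {x | ¬ FlatMod.IsFlatOverAt (PicF.XTproj f T) (FGA.ET f F T) x})) := by
  haveI : ∀ T : Over S, LocallyOfFiniteType (PicF.XTproj f T) := fun T =>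
    MorphismProperty.pullback_snd f T.hom inferInstance
  have hq : ∀ {T T₀ : Over S} (g : T ⟶ T₀),
      IsPullback (PicF.XTmap f g) (PicF.XTproj f T) (PicF.XTproj f T₀) g.left := fun {T T₀} g => by
    refine IsPullback.of_right ?_ (pullback.lift_snd _ _ _) (IsPullback.of_hasPullback f T₀.hom)
    rw [PicF.XTmap, pullback.map, pullback.lift_fst, Category.comp_id, Over.w]
    exact IsPullback.of_hasPullback f T.hom
  refine LimModLib.isLimitPreserving_genPSp _ (fun T T₀ g h => ?_) ?_
  · rw [dimFibresLT_iff] at h ⊢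
    intro x hx
    refine lt_of_le_of_lt (FibDim.rd_baseChange_le (hq g) x) (h _ fun hfl => hx ?_)
    exact GrFlat5.isFlatOverAt_of_iso _ (FGA.ETiso f F g) x
      (MorLib.FlatBC.isFlatOverAt_baseChange _ _ _ g.left (hq g) _ x hfl)
  intro I _ _ D c hc hD hT h
  obtain ⟨i₀⟩ := IsCofiltered.nonempty (C := I)
  let D' : I ⥤ Scheme.{u} := D ⋙ Over.forget S
  let c' : Cone D' := (Over.forget S).mapCone c
  haveI : ∀ i, IsAffine (D'.obj i) := hD
  haveI : IsAffine c'.pt := hT
  haveI : ∀ {i j : I} (g : i ⟶ j), IsAffineHom (D'.map g) := fun g => inferInstance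
  let g₀ : c.pt ⟶ D.obj i₀ := c.π.app i₀
  let a : PicF.XT f (D.obj i₀) ⟶ D'.obj i₀ := PicF.XTproj f (D.obj i₀)
  haveI : LocallyOfFinitePresentation a :=
    inferInstanceAs (LocallyOfFinitePresentation (pullback.snd f (D.obj i₀).hom))
  haveI : CompactSpace ↥(PicF.XT f (D.obj i₀)) :=
    haveI := hD i₀
    QuasiCompact.compactSpace_of_compactSpace (pullback.snd f (D.obj i₀).hom)
  haveI : CompactSpace ↥(PicF.XT f c.pt) :=
    QuasiCompact.compactSpace_of_compactSpace (pullback.snd f c.pt.hom)
  let fp : PicF.XT f c.pt ⟶ c'.pt := PicF.XTproj f c.pt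
  haveI : QuasiCompact fp := inferInstanceAs (QuasiCompact (pullback.snd f c.pt.hom))
  have hsq : IsPullback (PicF.XTmap f g₀) fp a (c'.π.app i₀) := hq g₀
  rw [dimFibresLT_iff] at h
  obtain ⟨k, hk⟩ := FlatDim.flatDimGE_stage (D := D') (c := c') hc hsq
    (QCoh.isQCoh_pullback _ ‹Coh.IsQCoh F›) (LimModLib.isFP_pullback _ ‹Coh.IsQCoh F› hF) n
    fun x hx => h x fun hfl => hx (GrFlat5.isFlatOverAt_of_iso _ (FGA.ETiso f F g₀).symm x hfl)
  refine ⟨k.left, (dimFibresLT_iff _ _ n).2 fun y hy => ?_⟩
  let φ : D.obj k.left ⟶ D.obj i₀ := D.map k.hom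
  have hw : PicF.XTmap f φ ≫ a = PicF.XTproj f (D.obj k.left) ≫ D'.map k.hom := (hq φ).w
  let E : PicF.XT f (D.obj k.left) ⟶ pullback a (D'.map k.hom) :=
    pullback.lift (PicF.XTmap f φ) (PicF.XTproj f (D.obj k.left)) hw
  have hE : IsPullback E (PicF.XTproj f (D.obj k.left)) (pullback.snd a (D'.map k.hom)) (𝟙 _) := by
    refine IsPullback.of_right ?_ ((pullback.lift_snd _ _ _).trans (Category.comp_id _).symm)
      (IsPullback.of_hasPullback a (D'.map k.hom))
    rw [pullback.lift_fst, Category.id_comp]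
    exact hq φ
  haveI : LocallyOfFiniteType (pullback.snd a (D'.map k.hom)) := MorphismProperty.pullback_snd _ _ inferInstance
  refine lt_of_le_of_lt (FibDim.rd_baseChange_le hE y) (hk (E y) fun hfl => hy ?_)
  exact GrFlat5.isFlatOverAt_of_iso _ ((Scheme.Modules.pullbackComp E (pullback.fst a (D'.map k.hom))).app
      ((Scheme.Modules.pullback (pullback.fst f (D.obj i₀).hom)).obj F) ≪≫
    (Scheme.Modules.pullbackCongr (pullback.lift_fst _ _ _)).app _ ≪≫ FGA.ETiso f F φ) y
      (MorLib.FlatBC.isFlatOverAt_baseChange _ _ _ _ hE _ y hfl)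

end Groth.Agent.S9024
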