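import Groth.Statements.S9025
import Groth.Agent.S1219
import Groth.Agent.WeilClosed.Basic

set_option autoImplicit false
universe u
open FlatMor

namespace Groth.Agent.S9025

open CategoryTheory CategoryTheory.Limits AlgebraicGeometry Opposite in
/-- For X = Spec B and S = Spec A affine (purity of a morphism is available here only in ring form), let
A → B be a flat ring map of finite presentation such that the structure sheaf of X = Spec B is pure
relative to S = Spec A, and let i : Y → Spec B be a closed immersion (a closed subscheme Y of X).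
Then the Weil restriction functor of Y along X → S, the functor on schemes over S with one point on
T when the base change Y_T → X_T of i is an isomorphism and empty otherwise (the subfunctor of the
final functor generated by that condition), is representable by a scheme Z over S whose structure
morphism Z → S is a closed immersion. If moreover Y → S is locally of finite presentation (hence of
finite presentation) then Z → S is locally of finite presentation. -/
theorem result {A B : Type u} [CommRing A] [CommRing B] [Algebra A B] [Algebra.FinitePresentation A B] [Module.Flat A B]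
    (hpure : FlatCA.IsPure A B B) {Y : Scheme.{u}} (i : Y ⟶ Spec (CommRingCat.of B)) [IsClosedImmersion i] :
    ∃ Z : Over (Spec (CommRingCat.of A)), IsClosedImmersion Z.hom ∧
      Nonempty ((FlatFun.genPSp (Spec (CommRingCat.of A)) (fun T =>
        IsIso (pullback.snd i (pullback.fst (Spec.map (CommRingCat.ofHom (algebraMap A B))) T.hom)))).RepresentableBy Z) ∧
      (LocallyOfFinitePresentation (i ≫ Spec.map (CommRingCat.ofHom (algebraMap A B))) →
        LocallyOfFinitePresentation Z.hom) := by
  classical
  haveI : Module.Projective A B := (Groth.Agent.S1219.result B).2 hpure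
  obtain ⟨J, e, he⟩ := (IsClosedImmersion.Spec_iff (f := i)).1 ‹IsClosedImmersion i›
  obtain ⟨I, hI, hfg⟩ := Groth.Agent.WeilClosed.exists_content (A := A) J
  let ζ : Spec (CommRingCat.of (A ⧸ I)) ⟶ Spec (CommRingCat.of A) := Spec.map (CommRingCat.ofHom (Ideal.Quotient.mk I))
  haveI hζ : IsClosedImmersion ζ := IsClosedImmersion.spec_of_surjective _ Ideal.Quotient.mk_surjective
  have hP : ∀ T : Over (Spec (CommRingCat.of A)),
      IsIso (pullback.snd i (pullback.fst (Spec.map (CommRingCat.ofHom (algebraMap A B))) T.hom)) ↔
        ∃ l, l ≫ ζ = T.hom := by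
    intro T
    rw [Groth.Agent.WeilClosed.isIso_snd_iff, Groth.Agent.WeilClosed.factor_iff_of_content J I hI]
    refine ⟨fun ⟨l, hl⟩ => ⟨l ≫ e.hom, ?_⟩, fun ⟨l, hl⟩ => ⟨l ≫ e.inv, ?_⟩⟩
    · rw [Category.assoc, ← he, hl]
    · rw [Category.assoc, he, Iso.inv_hom_id_assoc]
      exact hl
  have hmem : ∀ T : Over (Spec (CommRingCat.of A)),
      Nonempty ((FlatFun.genPSp (Spec (CommRingCat.of A)) (fun T =>
        IsIso (pullback.snd i (pullback.fst (Spec.map (CommRingCat.ofHom (algebraMap A B))) T.hom)))).obj (op T)) ↔
        ∃ l, l ≫ ζ = T.hom := by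
    intro T
    rw [FlatFun.genPSp_nonempty_iff_of_stable _ (fun T T₀ k hk => ?_) T, hP]
    obtain ⟨l, hl⟩ := (hP T₀).1 hk
    exact (hP T).2 ⟨k.left ≫ l, by rw [Category.assoc, hl, Over.w k]⟩
  refine ⟨Over.mk ζ, hζ, ⟨⟨fun {T} => ?_, ?_⟩⟩, fun hfp => ?_⟩
  · refine
      { toFun := fun k => Classical.choice ((hmem T).2 ⟨k.left, Over.w k⟩)
        invFun := fun x => Over.homMk ((hmem T).1 ⟨x⟩).choose ((hmem T).1 ⟨x⟩).choose_spec
        left_inv := fun k => ?_
        right_inv := fun x => ?_ }
    · refine Over.OverMorphism.ext ((cancel_mono ζ).1 ?_)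
      exact (((hmem T).1 ⟨Classical.choice ((hmem T).2 ⟨k.left, Over.w k⟩)⟩).choose_spec).trans (Over.w k).symm
    · exact @Subsingleton.elim _ ⟨fun a b => ULift.ext _ _ (Subsingleton.elim _ _)⟩ _ _
  · intro T T' k g
    exact @Subsingleton.elim _ ⟨fun a b => ULift.ext _ _ (Subsingleton.elim _ _)⟩ _ _
  · subst he
    rw [Category.assoc, MorphismProperty.cancel_left_of_respectsIso (P := @LocallyOfFinitePresentation),
      ← Spec.map_comp, HasRingHomProperty.Spec_iff (P := @LocallyOfFinitePresentation)] at hfp
    haveI : Algebra.FinitePresentation A (B ⧸ J) := RingHom.finitePresentation_algebraMap.1 hfp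
    have hJ : J.FG := by
      have h1 := Algebra.FinitePresentation.ker_fG_of_surjective (Ideal.Quotient.mkₐ A J) Ideal.Quotient.mk_surjective
      rwa [show RingHom.ker (Ideal.Quotient.mkₐ A J).toRingHom = J from Ideal.mk_ker] at h1
    show LocallyOfFinitePresentation ζ
    rw [HasRingHomProperty.Spec_iff (P := @LocallyOfFinitePresentation)]
    exact RingHom.FinitePresentation.of_surjective _ Ideal.Quotient.mk_surjective (by
      show (RingHom.ker (Ideal.Quotient.mk I)).FG
      rw [Ideal.mk_ker]
      exact hfg hJ)

end Groth.Agent.S9025
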