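import Groth.Statements.S9028
import Groth.Agent.FlatAssoc.Descend
import Groth.Agent.QCoh.RpushStalk
import Groth.Agent.GrFlat5.FlatAtIso
import Groth.Agent.RelAssBC.Basic
import Groth.Agent.FibDim.AffineSpaceFibre

set_option autoImplicit false
universe u
open FlatMor

namespace Groth.Agent.S9028

open CategoryTheory CategoryTheory.Limits AlgebraicGeometry Opposite in
/-- For f : X → S locally of finite type, F a quasi-coherent O_X-module of finite type, an etale
morphism h : X' → X whose image contains every point of the relative assassin of F over S, and n ≥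
0, the functors F_n of F and of h^*F agree: for every scheme T over S, if the base change of h^*F on
X' ×_S T is flat over T in dimensions ≥ n then so is the base change F_T on X ×_S T (the other
implication holds without the hypothesis on the image). -/
theorem result {X X' S : Scheme.{u}} (f : X ⟶ S) [LocallyOfFiniteType f] (F : X.Modules) [Coh.IsQCoh F] (hF : CohB1.IsFT F)
    (h : X' ⟶ X) [Etale h] (hAss : MoreMor.relAss f F ⊆ Set.range h.base) (n : ℕ) (T : Over S)
    (hT : FlatFun.DimFibresLT n (PicF.XTproj (h ≫ f) T)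
        {x | ¬ FlatMod.IsFlatOverAt (PicF.XTproj (h ≫ f) T) (FGA.ET (h ≫ f) ((Scheme.Modules.pullback h).obj F) T) x}) :
    FlatFun.DimFibresLT n (PicF.XTproj f T)
        {x | ¬ FlatMod.IsFlatOverAt (PicF.XTproj f T) (FGA.ET f F T) x} := by
  classical
  intro x hx
  let Q := pullback f T.hom
  let Q' := pullback (h ≫ f) T.hom
  let m : Q' ⟶ Q := pullback.lift (pullback.fst (h ≫ f) T.hom ≫ h) (pullback.snd (h ≫ f) T.hom)
    (by rw [Category.assoc]; exact pullback.condition)
  have hm₁ : m ≫ pullback.fst f T.hom = pullback.fst (h ≫ f) T.hom ≫ h := pullback.lift_fst _ _ _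
  have hm₂ : m ≫ pullback.snd f T.hom = pullback.snd (h ≫ f) T.hom := pullback.lift_snd _ _ _
  have hsq : IsPullback m (pullback.fst (h ≫ f) T.hom) (pullback.fst f T.hom) h :=
    IsPullback.of_right (by rw [hm₂]; exact (IsPullback.of_hasPullback (h ≫ f) T.hom).flip) hm₁
      (IsPullback.of_hasPullback f T.hom).flip
  haveI : Etale m := MorphismProperty.of_isPullback hsq.flip ‹Etale h›
  let G := FGA.ET f F T
  have hG : Coh.IsQCoh G := QCoh.isQCoh_pullback _ ‹Coh.IsQCoh F›
  have hGft : CohB1.IsFT G := QCoh.isFT_pullback _ ‹Coh.IsQCoh F› hF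
  obtain ⟨z, hz, hzx, hzs, hzflat⟩ : ∃ z, z ∈ MoreMor.relAss (pullback.snd f T.hom) G ∧ z ⤳ x ∧
      pullback.snd f T.hom z = pullback.snd f T.hom x ∧ ¬ FlatMod.IsFlatOverAt (pullback.snd f T.hom) G z := by
    by_contra hc
    push Not at hc
    exact hx (FlatAssoc.isFlatOverAt_of_relAss (pullback.snd f T.hom) hG hGft x hc)
  obtain ⟨x', hx'⟩ := hAss ((RelAssBC.mem_relAss_baseChange_iff (IsPullback.of_hasPullback f T.hom) F z).1 hz).1
  obtain ⟨w, hw, -⟩ := Scheme.Pullback.exists_preimage_pullback (f := pullback.fst f T.hom) (g := h) z x' hx'.symm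
  let z' := hsq.isoPullback.inv w
  have hz' : m z' = z := by
    rw [show m z' = (hsq.isoPullback.inv ≫ m) w from rfl, hsq.isoPullback_inv_fst]
    exact hw
  let e : (Scheme.Modules.pullback (pullback.fst (h ≫ f) T.hom)).obj ((Scheme.Modules.pullback h).obj F) ≅
      (Scheme.Modules.pullback m).obj G :=
    (Scheme.Modules.pullbackComp _ h).app F ≪≫ (Scheme.Modules.pullbackCongr hm₁.symm).app F ≪≫
      ((Scheme.Modules.pullbackComp m (pullback.fst f T.hom)).app F).symm
  have hbad : ¬ FlatMod.IsFlatOverAt (pullback.snd (h ≫ f) T.hom)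
      (FGA.ET (h ≫ f) ((Scheme.Modules.pullback h).obj F) T) z' := fun hfl => by
    have h1 := GrFlat5.isFlatOverAt_of_iso (pullback.snd (h ≫ f) T.hom) e z' hfl
    rw [← hm₂] at h1
    have h2 := FlatAssoc.isFlatOverAt_of_pullback m (pullback.snd f T.hom) hG z' h1
    rw [hz'] at h2
    exact hzflat h2
  have h1 : (FibDim.rd (pullback.snd (h ≫ f) T.hom) z' : Cardinal.{u}) < n :=
    (FibDim.rd_eq_rdeg _ z').trans_lt (hT z' hbad)
  have h2 : FibDim.rd (pullback.snd (h ≫ f) T.hom) z' = FibDim.rd (pullback.snd f T.hom) z := by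
    have h3 := FibDim.rd_comp m (pullback.snd f T.hom) z'
    rw [FibDim.rd_eq_zero_of_quasiFinite m z', add_zero, hz'] at h3
    simp only [hm₂] at h3
    exact h3
  show VarDim.rdeg (pullback.snd f T.hom) x < n
  rw [← FibDim.rd_eq_rdeg]
  refine lt_of_le_of_lt ?_ h1
  exact_mod_cast (FibDim.rd_le_of_specializes _ hzx hzs).trans h2.ge

end Groth.Agent.S9028
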