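import Groth.Statements.S9030
import Groth.Agent.DevFlat.Induction

set_option autoImplicit false
set_option linter.style.haveILetI false
set_option backward.isDefEq.respectTransparency false
universe u
open FlatMor

namespace Groth.Agent.S9030

open scoped TensorProduct

attribute [local instance] Algebra.TensorProduct.rightAlgebra

open CategoryTheory CategoryTheory.Limits AlgebraicGeometry Opposite in
/-- In this form S = Spec A and X = Spec B are affine, as the existence of a complete dévissage forces,
and the test schemes are affine as well, which suffices. Let B be a finitely presented A-algebra, N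
a finitely presented B-module, s a prime of A and d ≥ 0. Assume given a complete dévissage (A_i,
B_i, M_i, α_i) of N over B over A over s (the ring-level structure) in which, for every step i, the
smooth A-algebra B_i has relative dimension equal to the Krull dimension of the support of the fibre
module M_i ⊗ κ(s) over B_i ⊗ κ(s) — together this is the complete dévissage of the module over the
scheme Spec B over Spec A over the point s — and assume that N is flat over A in dimensions ≥ d + 1.
Then, over some principal open neighbourhood D(g) of s, the functor F_d is representable by a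
monomorphism of finite presentation: there are g ∈ A not in s and a monomorphism of schemes Z → Spec
A which is locally of finite presentation, quasi-compact and quasi-separated, such that for every
A-algebra A' in which g is invertible, with base changes B' of B and N' of N (any models), N' is
flat over A' in dimensions ≥ d if and only if Spec A' → Spec A factors through Z. -/
theorem result {A B : Type u} [CommRing A] [CommRing B] [Algebra A B] [Algebra.FinitePresentation A B]
    (N : Type u) [AddCommGroup N] [Module B N] [Module A N] [IsScalarTower A B N] [Module.FinitePresentation B N]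
    (s : Ideal A) [s.IsPrime] (D : FlatCA.CompleteDevissage A B N s)
    (hdim : ∀ i, i < D.n → ∃ e : ℕ, FlatCA.SmoothRelDim e A (D.B i) ∧
      Module.supportDim (s.Fiber (D.B i)) (FlatCA.fiberMod s (D.B i) (D.M i)) = e)
    (d : ℕ) (hflat : FlatCA.FlatInDimGE (d + 1) A B N) :
    ∃ g : A, g ∉ s ∧ ∃ (Z : Scheme.{u}) (i : Z ⟶ Spec (CommRingCat.of A)),
      Mono i ∧ LocallyOfFinitePresentation i ∧ QuasiCompact i ∧ QuasiSeparated i ∧
      ∀ (A' B' N' : Type u) [CommRing A'] [CommRing B'] [Algebra A A'] [Algebra B B'] [Algebra A' B'] [Algebra A B']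
        [IsScalarTower A B B'] [IsScalarTower A A' B'] [Algebra.IsPushout A B A' B']
        [AddCommGroup N'] [Module B' N'] [Module B N'] [IsScalarTower B B' N'] [Module A' N'] [IsScalarTower A' B' N']
        (φ : N →ₗ[B] N'), IsBaseChange B' φ → IsUnit (algebraMap A A' g) →
        (FlatCA.FlatInDimGE d A' B' N' ↔
          ∃ k : Spec (CommRingCat.of A') ⟶ Z, k ≫ i = Spec.map (CommRingCat.ofHom (algebraMap A A'))) := by
  open Groth.Agent.DevFlat in
  haveI := D.smooth 0 D.pos
  haveI hA0 := (finitePresentation_step D 0 D.pos).1
  haveI := D.finiteBA 0 D.pos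
  haveI : Module.Finite B (D.A 0) := Module.Finite.of_surjective (Algebra.linearMap B (D.A 0)) D.surjSA
  haveI := isScalarTower_AM D 0
  haveI : IsScalarTower A B (D.M 0) := IsScalarTower.of_algebraMap_smul fun a m => by
    rw [← algebraMap_smul (D.A 0) (algebraMap A B a) m, ← IsScalarTower.algebraMap_apply A B (D.A 0), algebraMap_smul]
  have h0 : FlatGE (d + 1) (1 : A) (D.B 0) (D.M 0) :=
    (flatGE_finite (C := D.B 0) (C' := D.A 0) _ _ _).2 ((flatGE_finite (C := B) (C' := D.A 0) _ _ _).1
      (((flatInDimGE_iff N (d + 1) isUnit_one).1 hflat).congr _ D.isoN))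
  obtain ⟨g, hg, -, Z, i, h1, h2, h3, h4, hZ⟩ := exists_rep D d (fun i hi => ⟨_, (hdim i hi).choose_spec.1⟩)
    (D.n - 1) 0 D.pos (by have := D.pos; omega) 1 (fun h => Ideal.IsPrime.ne_top ‹_› ((Ideal.eq_top_iff_one s).2 h)) h0
  refine ⟨g, hg, Z, i, h1, h2, h3, h4, fun A' B' N' _ _ _ _ _ _ _ _ _ _ _ _ _ _ _ φ hφ hu => ?_⟩
  letI : Module A N' := Module.compHom N' (algebraMap A A')
  haveI : IsScalarTower A A' N' := IsScalarTower.of_algebraMap_smul fun _ _ => rfl
  haveI : IsScalarTower A B N' := IsScalarTower.of_algebraMap_smul fun a x => by
    show algebraMap A B a • x = algebraMap A A' a • x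
    rw [← algebraMap_smul B' (algebraMap A B a) x, ← algebraMap_smul B' (algebraMap A A' a) x,
      ← IsScalarTower.algebraMap_apply A B B', ← IsScalarTower.algebraMap_apply A A' B']
  haveI : Algebra.FiniteType A' B' := by
    haveI : Algebra.IsPushout A A' B B' := Algebra.IsPushout.symm inferInstance
    exact Algebra.FiniteType.equiv inferInstance (Algebra.IsPushout.equiv A A' B B')
  haveI : Algebra.IsPushout A A' B B' := Algebra.IsPushout.symm inferInstance
  let ψ : D.M 0 →ₗ[B] N' := φ.comp D.isoN.symm.toLinearMap
  have hψ : IsBaseChange B' ψ := IsBaseChange.comp_equiv D.isoN.symm φ hφ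
  rw [flatInDimGE_iff N' d isUnit_one, ← hZ A' hu,
    flatGE_tensor_finite (C := D.B 0) (C₁ := D.A 0) (D.M 0) A']
  exact flatGE_transfer (A := A) ψ hψ (TensorProduct.mk (D.A 0) (A' ⊗[A] D.A 0) (D.M 0) 1)
    (TensorProduct.isBaseChange (D.A 0) (D.M 0) _) d (1 : A')

end Groth.Agent.S9030
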