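import Groth.Statements.S9037
import Groth.Agent.SiteBase.FreeCompact
import Groth.Agent.S0905

set_option autoImplicit false
universe u
open CategoryTheory CategoryTheory.Limits Opposite
open ModSite

namespace Groth.Agent.S9037

/-- On a ringed site (C, O), if U is a quasi-compact object (h_U^# is a quasi-compact object of the
topos, which is equivalent to the site-level notion) which is weakly contractible, then j_{U!} O_U,
placed in degree zero, is a compact object of the derived category D(O). The derived category of
O-modules and direct sums in it are instance hypotheses. -/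
theorem result
    {C : Type u} [SmallCategory C] {J : GrothendieckTopology C} (O : Sheaf J CommRingCat.{u})
    [HasDerivedCategory.{u} (ModSite.Mod O)] [HasCoproducts.{u} (DerivedCategory (ModSite.Mod O))]
    (U : C) (hqc : CohCx.IsQcObject ((presheafToSheaf J (Type u)).obj (yoneda.obj U)))
    (hwc : CohSite.IsWeaklyContractible J U) :
    CohDer.IsCompactObject ((DerivedCategory.singleFunctor (ModSite.Mod O) 0).obj (ModSite.freeOn O U)) := by
  have := Limits.HasFiniteBiproducts.of_hasFiniteProducts (C := ModSite.Mod O)
  have : AB4OfSize.{u} (ModSite.Mod O) := AB4.of_AB5 _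
  have := (S0905.result J U hwc).1
  have hP := Groth.Agent.QcSum.projective_freeOn O U inferInstance
  intro ι M
  exact Groth.Agent.CompactDevissage.bijective_of_fin _ M
    (Groth.Agent.CompactDevissage.fin_of_bound (Groth.Agent.FreeCompact.sumGen_freeOn O U hqc hP ι)
      (-((0 : ℕ) : ℤ) - 2) (fun N hN φ => Groth.Agent.CompactDevissage.eq_zero_of_isLE 0 (fun F i hi => by
        obtain ⟨i, rfl⟩ : ∃ j, i = j + 1 := ⟨i - 1, by omega⟩
        exact subsingleton_of_forall_eq 0 fun x => CategoryTheory.Abelian.Ext.eq_zero_of_projective x) N hN φ) M)


end Groth.Agent.S9037
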