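import Groth.Statements.S9038


set_option autoImplicit false
universe u
open Topology
open CohTop

namespace Groth.Agent.S9038

/-- In the category of Hausdorff locally quasi-compact spaces, call a family of continuous maps f_i :
X_i → X a qc covering when every point of X has a neighbourhood of the form ⋃_{i ∈ t} f_i(E_i) with
t a finite set of indices and E_i ⊆ X_i quasi-compact. If (f_i : X_i → X) is a qc covering and for
each i the family (g_{ij} : X_{ij} → X_i)_j is a qc covering, then the family of composites X_{ij} →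
X, indexed by the pairs (i, j), is a qc covering. -/
theorem result
    {B : Type u} [TopologicalSpace B] [T2Space B] [LocallyCompactSpace B]
    {ι : Type u} {X : ι → Type u} [∀ i, TopologicalSpace (X i)] [∀ i, T2Space (X i)]
    [∀ i, LocallyCompactSpace (X i)]
    (f : ∀ i, X i → B) (hf : ∀ i, Continuous (f i))
    (hcov : ∀ x : B, ∃ (t : Finset ι) (E : ∀ i, Set (X i)),
      (∀ i ∈ t, IsCompact (E i)) ∧ (⋃ i ∈ t, f i '' E i) ∈ 𝓝 x)
    {κ : ι → Type u} {Y : ∀ i, κ i → Type u} [∀ i j, TopologicalSpace (Y i j)] [∀ i j, T2Space (Y i j)]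
    [∀ i j, LocallyCompactSpace (Y i j)]
    (g : ∀ i j, Y i j → X i) (hg : ∀ i j, Continuous (g i j))
    (hcov' : ∀ (i : ι) (x : X i), ∃ (t : Finset (κ i)) (E : ∀ j, Set (Y i j)),
      (∀ j ∈ t, IsCompact (E j)) ∧ (⋃ j ∈ t, g i j '' E j) ∈ 𝓝 x) :
    ∀ x : B, ∃ (t : Finset (Σ i, κ i)) (E : ∀ p : (Σ i, κ i), Set (Y p.1 p.2)),
      (∀ p ∈ t, IsCompact (E p)) ∧ (⋃ p ∈ t, f p.1 '' (g p.1 p.2 '' E p)) ∈ 𝓝 x := by
  classical
  intro x
  obtain ⟨t, E, hE, hx⟩ := hcov x
  have : ∀ i ∈ t, ∃ (s : Finset (κ i)) (F : ∀ j, Set (Y i j)), (∀ j, IsCompact (F j)) ∧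
      E i ⊆ ⋃ j ∈ s, g i j '' F j := by
    intro i hi
    choose s F hF hs using hcov' i
    obtain ⟨P, hPsub, hPcov⟩ := (hE i hi).elim_nhds_subcover (fun z => ⋃ j ∈ s z, g i j '' F z j) (fun z _ => hs z)
    refine ⟨P.biUnion s, fun j => ⋃ z ∈ P.filter (fun z => j ∈ s z), F z j,
      fun j => Finset.isCompact_biUnion _ fun z hz => hF z j (Finset.mem_filter.1 hz).2,
      hPcov.trans (Set.iUnion₂_subset fun z hz => Set.iUnion₂_subset fun j hj => ?_)⟩
    exact (Set.image_mono (Set.subset_biUnion_of_mem (u := fun z => F z j)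
      (Finset.mem_filter.2 ⟨hz, hj⟩ : z ∈ P.filter (fun z => j ∈ s z)))).trans
      (Set.subset_biUnion_of_mem (u := fun j => g i j '' ⋃ z ∈ P.filter (fun z => j ∈ s z), F z j)
        (Finset.mem_biUnion.2 ⟨z, hz, hj⟩ : j ∈ P.biUnion s))
  choose! s F hF hs using this
  refine ⟨t.sigma s, fun p => F p.1 p.2, fun p hp => hF p.1 (Finset.mem_sigma.1 hp).1 p.2,
    Filter.mem_of_superset hx (Set.iUnion₂_subset fun i hi => ?_)⟩
  refine (Set.image_mono (hs i hi)).trans ?_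
  rintro _ ⟨y, hy, rfl⟩
  simp only [Set.mem_iUnion] at hy ⊢
  obtain ⟨j, hj, hy⟩ := hy
  exact ⟨⟨i, j⟩, Finset.mem_sigma.2 ⟨hi, hj⟩, y, hy, rfl⟩

end Groth.Agent.S9038
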