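import Groth.Statements.S9042
import Groth.Agent.SiteBase.DLimA.ModData

set_option autoImplicit false
universe u
open CategoryTheory CategoryTheory.Limits Opposite
open ModSite

namespace Groth.Agent.S9042

/-- Let (C, O) be a ringed site, E an object of D(O), B a class of objects such that every object has a
covering by members of B, and p : ℤ → ℤ a function such that H^k(V, H^{m-k}(E)) = 0 for every V in
B, every m and every k > p(m). Then the canonical map from E to the derived limit of its truncations
τ_{≥ -n} E is an isomorphism, i.e. E is a derived limit of that tower through the canonical maps.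
The derived category of O-modules and the product of the truncations are instance hypotheses; H^k(V,
-) of an O-module is the cohomology of its underlying abelian sheaf. -/
theorem result
    {C : Type u} [SmallCategory C] {J : GrothendieckTopology C} (O : Sheaf J CommRingCat.{u})
    [HasDerivedCategory.{u} (ModSite.Mod O)] (E : DerivedCategory (ModSite.Mod O))
    [HasProduct (CohCx.truncTower E)] (B : Set C)
    (hB : ∀ U : C, ∃ (ι : Type u) (Y : ι → C) (f : ∀ i, Y i ⟶ U), Sieve.ofArrows Y f ∈ J U ∧ ∀ i, Y i ∈ B)
    (p : ℤ → ℤ)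
    (h : ∀ V ∈ B, ∀ (m : ℤ) (k : ℕ), p m < k →
      Subsingleton (ModSite.HU O ((DerivedCategory.homologyFunctor (ModSite.Mod O) (m - k)).obj E) k V)) :
    CohCx.IsRlimVia (CohCx.truncTower E) (CohCx.truncTowerMap E) E (CohCx.toTruncTower E) := by
  refine (DLimA.modData O).isRlimVia_trunc E hB fun V hV m =>
    ⟨(max (max (p (m - 1)) (p m)) (p (m + 1)) - m + 1).toNat, fun T hT => ?_⟩
  obtain ⟨ι, Y, f, hf, hcov, hY⟩ := DLim.IsCoveredBy.refine_cover hB V hT
  refine ⟨ι, Y, f, hf, hcov, fun i n k hn h₁ h₂ => DLimA.vanish_of_subsingleton_HU O _ k _ ?_⟩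
  rcases (show -((n + 1 : ℕ) : ℤ) + k = m - 1 ∨ -((n + 1 : ℕ) : ℤ) + k = m ∨
      -((n + 1 : ℕ) : ℤ) + k = m + 1 by omega) with e | e | e <;>
  · have := h _ (hY i) (-((n + 1 : ℕ) : ℤ) + k) k (by rw [e]; omega)
    rwa [add_sub_cancel_right] at this


end Groth.Agent.S9042
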