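import Groth.Statements.S9045
import Groth.Agent.SiteBase.PullQc

set_option autoImplicit false
universe u
open CategoryTheory CategoryTheory.Limits Opposite
open ModSite

namespace Groth.Agent.S9045

/-- Let f be a morphism of ringed sites from (C, O_C) to (D, O_D) and E a strictly perfect complex of
O_D-modules (bounded, with each term a direct summand of a finite free module). Then f^* E, the
module pullback applied termwise, is a strictly perfect complex of O_C-modules. Stated for morphisms
of ringed sites; the published statement is for morphisms of ringed topoi. -/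
theorem result
    {C : Type u} [SmallCategory C] {J : GrothendieckTopology C} {O_C : Sheaf J CommRingCat.{u}}
    {D : Type u} [SmallCategory D] {K : GrothendieckTopology D} {O_D : Sheaf K CommRingCat.{u}}
    (f : ModSite.RMor O_C O_D) (E : CochainComplex (ModSite.Mod O_D) ℤ)
    (hE : DCoh.IsStrictlyPerfectMod (ModSite.ringSh O_D) E) :
    DCoh.IsStrictlyPerfectMod (ModSite.ringSh O_C) ((f.pull.mapHomologicalComplex (ComplexShape.up ℤ)).obj E) := by
  obtain ⟨⟨a, b, hab⟩, hX⟩ := hE
  haveI := Groth.Agent.ModPull.additive_pull f
  exact ⟨⟨a, b, fun i hi => Functor.map_isZero f.pull (hab i hi)⟩,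
    fun i => Groth.Agent.PullQc.isFinFreeSummand_pull f (hX i)⟩

end Groth.Agent.S9045
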