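import Groth.Statements.S9047
import Groth.Agent.SiteBase.CollectionCompact

set_option autoImplicit false
universe u
open CategoryTheory CategoryTheory.Limits Opposite
open ModSite

namespace Groth.Agent.S9047

/-- Let (C, O) be a ringed site with fibre products, B a class of objects and Cov a class of finite
covering families such that (1) for a family in Cov over U, U and all iterated fibre products of its
members lie in B, and (2) every covering sieve of a member of B contains a family from Cov. Then for
U in B the module j_{U!} O_U behaves as a compact object of D^+(O), meaning: for every family (M_i)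
of objects of D(O) which is uniformly bounded below and whose direct sum exists, ⊕_i Hom(j_{U!} O_U,
M_i) → Hom(j_{U!} O_U, ⊕_i M_i) is bijective. The derived category of O-modules is an instance
hypothesis. -/
theorem result
    {C : Type u} [SmallCategory C] [HasPullbacks C] {J : GrothendieckTopology C} (O : Sheaf J CommRingCat.{u})
    (B : Set C) (Cov : ∀ (U : C) (ι : Type u), (ι → Over U) → Prop)
    (h1 : ∀ (U : C) (ι : Type u) (Y : ι → Over U), Cov U ι Y → Finite ι ∧ U ∈ B ∧
      Sieve.ofArrows (fun i => (Y i).left) (fun i => (Y i).hom) ∈ J U ∧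
      ∀ (p : ℕ) (a : Fin (p + 1) → ι), (∏ᶜ fun k => Y (a k)).left ∈ B)
    (h2 : ∀ U ∈ B, ∀ T ∈ J U, ∃ (ι : Type u) (Y : ι → Over U), Cov U ι Y ∧ ∀ i, T.arrows (Y i).hom)
    [HasDerivedCategory.{u} (ModSite.Mod O)]
    (U : C) (hU : U ∈ B) {I : Type u} (M : I → DerivedCategory (ModSite.Mod O)) [HasCoproduct M]
    (a : ℤ) (hM : ∀ i, (M i).IsGE a) :
    Function.Bijective (CohDer.homSumToHomCoprod
      ((DerivedCategory.singleFunctor (ModSite.Mod O) 0).obj (ModSite.freeOn O U)) M) := by
  have := Limits.HasFiniteBiproducts.of_hasFiniteProducts (C := ModSite.Mod O)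
  have : AB4OfSize.{u} (ModSite.Mod O) := AB4.of_AB5 _
  exact Groth.Agent.CompactDevissage.bijective_of_fin _ M
    (Groth.Agent.CompactDevissage.fin_of_isGE (Groth.Agent.CollectionCompact.sumGen_freeOn O B Cov h1 h2 hU I) a M hM)


end Groth.Agent.S9047
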