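import Groth.Statements.S9051
import Groth.Agent.ModTensor.KFlat

set_option autoImplicit false
universe u
open CategoryTheory CategoryTheory.Limits Opposite
open ModSite

namespace Groth.Agent.S9051

/-- On a ringed site (C, O), suppose P and Q are K-flat complexes of O-modules and α : P → Q is a
quasi-isomorphism. Then tensoring with any complex F of O-modules preserves this: the induced
Tot(id_F ⊗ α), from Tot(F ⊗_O P) to Tot(F ⊗_O Q), is again a quasi-isomorphism. Here a complex K of
O-modules is called K-flat when for every acyclic complex L of O-modules the total complex Tot(L ⊗_O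
K) is acyclic; this property enters only as a hypothesis. The instance binders saying that the
tensor bifunctor preserves zero morphisms always hold and are needed only to form total complexes. -/
theorem result
    {C : Type u} [SmallCategory C] {J : GrothendieckTopology C} (O : Sheaf J CommRingCat.{u})
    [(ModSite.tensorBi O).PreservesZeroMorphisms] [∀ X : ModSite.Mod O, ((ModSite.tensorBi O).obj X).PreservesZeroMorphisms]
    (P Q : CochainComplex (ModSite.Mod O) ℤ)
    (hP : ∀ L : CochainComplex (ModSite.Mod O) ℤ, L.Acyclic →
      (HomologicalComplex.mapBifunctor L P (ModSite.tensorBi O) (ComplexShape.up ℤ)).Acyclic)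
    (hQ : ∀ L : CochainComplex (ModSite.Mod O) ℤ, L.Acyclic →
      (HomologicalComplex.mapBifunctor L Q (ModSite.tensorBi O) (ComplexShape.up ℤ)).Acyclic)
    (α : P ⟶ Q) [QuasiIso α] (F : CochainComplex (ModSite.Mod O) ℤ) :
    QuasiIso (HomologicalComplex.mapBifunctorMap (𝟙 F) α (ModSite.tensorBi O) (ComplexShape.up ℤ)) := by
  exact Groth.Agent.ModTensor.quasiIso_tensor α
    (Groth.Agent.ModTensor.kFlat_iff_isKFlat.1 (Groth.Agent.ModTensor.kFlat_of_forall_acyclic hP))
    (Groth.Agent.ModTensor.kFlat_iff_isKFlat.1 (Groth.Agent.ModTensor.kFlat_of_forall_acyclic hQ)) F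


end Groth.Agent.S9051
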