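import Groth.Statements.S9054
import Groth.Agent.ModTensor.RestrKFlat

set_option autoImplicit false
universe u
open CategoryTheory CategoryTheory.Limits Opposite
attribute [local instance] HasDerivedCategory.standard
open ModSite

namespace Groth.Agent.S9054

/-- On a ringed site (C, O), if U is an object of C and K is a K-flat complex of O-modules, then the
restriction K|_U to the localised ringed site (C/U, O_U) is a K-flat complex of O_U-modules. -/
theorem result
    {C : Type u} [SmallCategory C] {J : GrothendieckTopology C} (O : Sheaf J CommRingCat.{u})
    (U : C) (K : CochainComplex (ModSite.Mod O) ℤ) (hK : ModSite.IsKFlat K) :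
    ModSite.IsKFlat (((ModSite.restr O U).mapHomologicalComplex (ComplexShape.up ℤ)).obj K) := by
  exact ModTensor.isKFlat_restr hK U

end Groth.Agent.S9054
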