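import Groth.Statements.S9060
import Groth.Agent.ModTensor.KFlat

set_option autoImplicit false
universe u
open CategoryTheory CategoryTheory.Limits Opposite
attribute [local instance] HasDerivedCategory.standard
open ModSite

namespace Groth.Agent.S9060

/-- On a ringed site (C, O), for every complex G of O-modules there are a K-flat complex K with flat
terms and a quasi-isomorphism K → G which is surjective in every degree. -/
theorem result
    {C : Type u} [SmallCategory C] {J : GrothendieckTopology C} (O : Sheaf J CommRingCat.{u})
    (G : CochainComplex (ModSite.Mod O) ℤ) :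
    ∃ (K : CochainComplex (ModSite.Mod O) ℤ) (q : K ⟶ G), ModSite.IsKFlat K ∧
      (∀ n : ℤ, ModSite.IsFlat (K.X n)) ∧ QuasiIso q ∧ ∀ n : ℤ, Epi (q.f n) := by
  exact Groth.Agent.ModTensor.exists_resolution G


end Groth.Agent.S9060
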