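import Groth.Statements.S9071
import Groth.Agent.SiteBase.DLimA.Eps
import Groth.Agent.SiteBase.DLimA.EpsFF
import Groth.Agent.SiteBase.DLimA.PushData

set_option autoImplicit false
universe u
open CategoryTheory CategoryTheory.Limits Opposite
attribute [local instance] HasDerivedCategory.standard
open SiteCmp

namespace Groth.Agent.S9071

/-- Let τ' be a coarser topology than τ on a category C, O a τ-sheaf of rings and ε the comparison
morphism from (C_τ, O) to (C_τ', O). Let B be a set of objects and A a full subcategory of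
presheaves of O-modules such that (1) every object of A is a τ-sheaf, (2) A forms a weak Serre
subcategory inside Mod(O_τ), (3) each object of C admits a τ'-covering by members of B, and (4)
H^p_τ(U, F) = 0 for U ∈ B, F ∈ A, p > 0. Then the essential image of A under ε_* forms a weak Serre
subcategory inside Mod(O_τ') and ε^*, Rε_* are quasi-inverse equivalences between D_A(O_τ') and
D_A(O_τ): on objects with cohomology sheaves in the respective subcategory, ε^* and Rε_* preserve
that condition and the unit and counit are isomorphisms. In the order of topologies used here the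
finer topology τ is the larger one, J, and τ' is J' ≤ J; A is given as a property of τ-sheaves of
modules (condition (1) built in); flatness of ε, existence of the unbounded Rε_* and an adjunction
ε^* ⊣ Rε_* are hypotheses. -/
theorem result
    {C : Type u} [SmallCategory C] {J J' : GrothendieckTopology C} (h : J' ≤ J) (O : Sheaf J CommRingCat.{u})
    [PreservesFiniteLimits (SiteCmp.eps h O).pull] [SiteCmp.HasRpushD (SiteCmp.eps h O)]
    (adj : SiteCmp.pullD (SiteCmp.eps h O) ⊣ SiteCmp.RpushD (SiteCmp.eps h O))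
    (A : ObjectProperty (ModSite.Mod O)) [WSerre.IsWeakSerre A] (B : Set C)
    (h3 : ∀ U : C, ∃ (ι : Type u) (Y : ι → C) (g : ∀ i, Y i ⟶ U), Sieve.ofArrows Y g ∈ J' U ∧ ∀ i, Y i ∈ B)
    (h4 : ∀ U ∈ B, ∀ F : ModSite.Mod O, A F → ∀ p : ℕ, 0 < p → Subsingleton (ModSite.HU O F p U)) :
    WSerre.IsWeakSerre (A.map (SiteCmp.eps h O).push) ∧
    (∀ Y : DerivedCategory (ModSite.Mod (SiteCmp.epsRing h O)), WSerre.cohIn (A.map (SiteCmp.eps h O).push) Y →
      WSerre.cohIn A ((SiteCmp.pullD (SiteCmp.eps h O)).obj Y) ∧ IsIso (adj.unit.app Y)) ∧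
    (∀ X : DerivedCategory (ModSite.Mod O), WSerre.cohIn A X →
      WSerre.cohIn (A.map (SiteCmp.eps h O).push) ((SiteCmp.RpushD (SiteCmp.eps h O)).obj X) ∧
      IsIso (adj.counit.app X)) := by
  let f := SiteCmp.eps h O
  have hB' : DLim.IsCoveredBy J' B := h3
  have hBJ : DLim.IsCoveredBy J B := fun U => by
    obtain ⟨ι, Y, g, hg, hY⟩ := h3 U
    exact ⟨ι, Y, g, h U hg, hY⟩
  have hv : ∀ Y ∈ B, ∀ M : ModSite.Mod O, A M → ∀ k : ℕ, 0 < k →
      (DLimA.modData O).Vanish (f.fn.obj Y) M k := fun Y hY M hM k hk =>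
    DLimA.vanish_of_subsingleton_HU O M k _ (h4 Y hY M hM k hk)
  have : (DLimA.modData (SiteCmp.epsRing h O)).G.Faithful :=
    inferInstanceAs (SheafOfModules.toSheaf (ModSite.ringSh (SiteCmp.epsRing h O))).Faithful
  exact DLimA.equivalence_of_fullyFaithful (A := ModSite.Mod O)
    (B := ModSite.Mod (SiteCmp.epsRing h O)) (DLimA.modData O)
    (DLimA.modData (SiteCmp.epsRing h O)) (G := f.push) (F := f.pull) f.adj f.fn.obj
    (DLimA.nonempty_pull_freeAt_iso f) hB' hv adj (H9Misc.RpushLeftAdj.exists_good f)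
    (DLimA.good_freeAt f) hBJ (fun V _ => ⟨0, fun T hT => by
      obtain ⟨ι, Y, g, hg, hcov, hY⟩ := hBJ.refine_cover V hT
      exact ⟨ι, Y, g, hg, hcov, fun i M hM k hk => hv _ (hY i) M hM k hk⟩⟩)


end Groth.Agent.S9071
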