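import Groth.Statements.S9075
import Groth.Agent.SiteBase.CompareSit.Killing

set_option autoImplicit false
universe u
open CategoryTheory CategoryTheory.Limits Opposite
open SiteCmp

namespace Groth.Agent.S9075

/-- Setting (two topologies τ' coarser than τ on a category C, rendered as J' ≤ J with J the finer one;
for each object X the comparison morphism ε_X between the localised sites C_τ/X and C_τ'/X, whose
direct image ε_{X,*} regards a τ-sheaf as a τ'-sheaf): P is a class of arrows of C and for every X a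
weak Serre subcategory A'_X of the abelian τ'-sheaves on C/X is given, such that (1) arrows of P
admit all base changes and these stay in P; (2) restriction along any f : X → Y sends A'_Y into
A'_X; (3) members of A'_X satisfy the sheaf condition for τ; (4) for f : X → Y in P the higher
direct images R^i f_{τ',*} (right derived functors of the relocalisation pushforward on τ'-sheaves)
send A'_X into A'_Y for all i ≥ 0; (5) every τ-covering of any U is refined by a family obtained
from a τ'-covering {V_j → U}, single arrows W_j → V_j in P that are τ-coverings, and τ'-coverings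
{W_jk → W_j}. Write A_X for the abelian τ-sheaves F on C/X with ε_{X,*}F in A'_X. Let f : X → Y be
in P such that {X → Y} is a τ-covering, F' in A'_Y, n ≥ 0, and θ ∈ H^{n+1}_{τ'}(X, F') a class whose
two restrictions to X ×_Y X coincide. Then there is a τ'-covering {Y_i → Y} such that θ restricts to
zero in H^{n+1}_{τ'}(Y_i ×_Y X, F') for every i. Cohomology over an object Z → Y of C/Y is that of
the τ'-sheaf F' on the localised site at that object; fibre products are expressed through pullback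
squares. -/
theorem result
    {C : Type u} [SmallCategory C] {J J' : GrothendieckTopology C} (h : J' ≤ J)
    (P : MorphismProperty C)
    (A' : ∀ X : C, ObjectProperty (Sheaf (J'.over X) AddCommGrpCat.{u})) [∀ X : C, WSerre.IsWeakSerre (A' X)]
    (h1 : ∀ ⦃X Y : C⦄ (f : X ⟶ Y), P f → ∀ ⦃Y' : C⦄ (g : Y' ⟶ Y),
      ∃ (W : C) (p : W ⟶ Y') (q : W ⟶ X), IsPullback p q g f ∧ P p)
    (h2 : ∀ ⦃X Y : C⦄ (f : X ⟶ Y) (F' : Sheaf (J'.over Y) AddCommGrpCat.{u}), A' Y F' →
      A' X ((CohSite.push (J'.over Y) (J'.over X) (Over.map f)).obj F'))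
    (h3 : ∀ (X : C) (F' : Sheaf (J'.over X) AddCommGrpCat.{u}), A' X F' → Presheaf.IsSheaf (J.over X) F'.obj)
    (h4 : ∀ ⦃X Y : C⦄ (f : X ⟶ Y)
      [((Over.map f).sheafPushforwardCocontinuous AddCommGrpCat.{u} (J'.over X) (J'.over Y)).Additive],
      P f → ∀ (F' : Sheaf (J'.over X) AddCommGrpCat.{u}), A' X F' → ∀ i : ℕ,
        A' Y ((((Over.map f).sheafPushforwardCocontinuous AddCommGrpCat.{u} (J'.over X) (J'.over Y)).rightDerived i).obj F'))
    (h5 : ∀ (U : C) (S : Sieve U), S ∈ J U → ∃ (ι : Type u) (V : ι → C) (v : ∀ j, V j ⟶ U),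
      Sieve.ofArrows V v ∈ J' U ∧ ∀ j, ∃ (W : C) (w : W ⟶ V j), P w ∧
        Sieve.ofArrows (fun _ : PUnit.{u + 1} => W) (fun _ => w) ∈ J (V j) ∧
        ∃ (κ : Type u) (Wk : κ → C) (wk : ∀ k, Wk k ⟶ W), Sieve.ofArrows Wk wk ∈ J' W ∧
          ∀ k, S.arrows (wk k ≫ w ≫ v j))
    {X Y : C} (f : X ⟶ Y) (hf : P f) (hcov : Sieve.ofArrows (fun _ : PUnit.{u + 1} => X) (fun _ => f) ∈ J Y)
    (F' : Sheaf (J'.over Y) AddCommGrpCat.{u}) (hF' : A' Y F') (n : ℕ)
    (θ : CohSite.HU F' (n + 1) (Over.mk f))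
    (hθ : ∀ (W : C) (p q : W ⟶ X) (hW : IsPullback p q f f),
      CohSite.res F' (n + 1) (Over.homMk p rfl : Over.mk (p ≫ f) ⟶ Over.mk f) θ =
        CohSite.res F' (n + 1) (Over.homMk q hW.w.symm : Over.mk (p ≫ f) ⟶ Over.mk f) θ) :
    ∃ (ι : Type u) (Z : ι → C) (g : ∀ i, Z i ⟶ Y), Sieve.ofArrows Z g ∈ J' Y ∧
      ∀ (i : ι) (W : C) (p : W ⟶ Z i) (q : W ⟶ X), IsPullback p q (g i) f →
        CohSite.res F' (n + 1) (Over.homMk q rfl : Over.mk (q ≫ f) ⟶ Over.mk f) θ = 0 := by
  have d : CompareSit.Sit J J' P A' := ⟨h, h1, h2, h3, h4, h5⟩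
  exact d.killing f hf hcov F' hF' n θ hθ


end Groth.Agent.S9075
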