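import Groth.Statements.S9089
import Mathlib


set_option autoImplicit false
universe u
open CategoryTheory Opposite
open ModSite

namespace Groth.Agent.S9089

/-- Part (1): ⇔ (2), for a ringed site (C, O) with C small and O a sheaf of commutative rings: the
following are equivalent. (1) For every object U and every section f of O over U there is a covering
sieve on U on each of whose arrows either f or 1 - f restricts to a unit. (2) For every object U,
every n ≥ 1 and all sections f₁, …, fₙ of O over U generating the unit ideal of O(U), there is a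
covering sieve on U on each of whose arrows some fᵢ restricts to a unit. -/
theorem result {C : Type u} [SmallCategory C] (J : GrothendieckTopology C)
    (O : Sheaf J CommRingCat.{u}) :
    (∀ (U : C) (f : O.obj.obj (op U)), ∃ S ∈ J U, ∀ ⦃V : C⦄ (g : V ⟶ U), S g →
        IsUnit ((O.obj.map g.op).hom f) ∨ IsUnit ((O.obj.map g.op).hom (1 - f))) ↔
    (∀ (U : C) (n : ℕ) (f : Fin n → O.obj.obj (op U)), 1 ≤ n → Ideal.span (Set.range f) = ⊤ →
        ∃ S ∈ J U, ∀ ⦃V : C⦄ (g : V ⟶ U), S g → ∃ i, IsUnit ((O.obj.map g.op).hom (f i))) := by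
  classical
  constructor
  · intro h
    suffices key : ∀ (n : ℕ) (U : C) (c : Fin n → O.obj.obj (op U)), IsUnit (∑ i, c i) →
        ∃ S ∈ J U, ∀ ⦃V : C⦄ (g : V ⟶ U), S g →
          (∃ i, IsUnit ((O.obj.map g.op).hom (c i))) ∨ (0 : O.obj.obj (op V)) = 1 by
      intro U n f hn hf
      obtain ⟨a, ha⟩ := Ideal.mem_span_range_iff_exists_fun.1 ((Ideal.eq_top_iff_one _).1 hf)
      obtain ⟨S, hS, hS'⟩ := key n U (fun i => a i * f i) (by rw [ha]; exact isUnit_one)
      refine ⟨S, hS, fun V g hg => ?_⟩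
      rcases hS' g hg with ⟨i, hi⟩ | h01
      · rw [map_mul] at hi
        exact ⟨i, isUnit_of_mul_isUnit_right hi⟩
      · exact ⟨⟨0, hn⟩, @isUnit_of_subsingleton _ _ (subsingleton_of_zero_eq_one h01) _⟩
    intro n
    induction n with
    | zero =>
      intro U c hc
      refine ⟨⊤, J.top_mem U, fun V g _ => Or.inr ?_⟩
      simp only [Finset.univ_eq_empty, Finset.sum_empty] at hc
      have := congrArg (O.obj.map g.op).hom (isUnit_zero_iff.1 hc)
      simpa using this
    | succ n ih =>
      intro U c hc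
      rw [Fin.sum_univ_succ] at hc
      obtain ⟨v, hv⟩ := hc
      obtain ⟨S, hS, hS'⟩ := h U (c 0 * (↑v⁻¹ : O.obj.obj (op U)))
      have hsub : (1 : O.obj.obj (op U)) - c 0 * ↑v⁻¹ = (∑ i : Fin n, c i.succ) * ↑v⁻¹ := by
        rw [eq_sub_of_add_eq' hv.symm, sub_mul, Units.mul_inv]
      have hcover : ∀ ⦃V : C⦄ (g : V ⟶ U), S g → ∃ R ∈ J V, ∀ ⦃W : C⦄ (k : W ⟶ V), R k →
          (∃ i, IsUnit ((O.obj.map (k ≫ g).op).hom (c i))) ∨ (0 : O.obj.obj (op W)) = 1 := by
        intro V g hg
        rcases hS' g hg with hu | hu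
        · refine ⟨⊤, J.top_mem V, fun W k _ => Or.inl ⟨0, ?_⟩⟩
          rw [map_mul] at hu
          rw [op_comp, Functor.map_comp]
          exact (isUnit_of_mul_isUnit_left hu).map (O.obj.map k.op).hom
        · rw [hsub, map_mul, map_sum] at hu
          obtain ⟨R, hR, hR'⟩ := ih V _ (isUnit_of_mul_isUnit_left hu)
          refine ⟨R, hR, fun W k hk => (hR' k hk).imp (fun ⟨i, hi⟩ => ⟨i.succ, ?_⟩) id⟩
          rw [op_comp, Functor.map_comp]
          exact hi
      choose R hR hR' using hcover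
      refine ⟨Sieve.bind S.arrows R, J.bind_covering hS fun V g hg => hR g hg, ?_⟩
      rintro V g ⟨W, k, l, hl, hk, rfl⟩
      exact hR' l hl k hk
  · intro h U f
    obtain ⟨S, hS, hS'⟩ := h U 2 ![f, 1 - f] (by norm_num) ((Ideal.eq_top_iff_one _).2 (by
      have := Ideal.add_mem (Ideal.span (Set.range ![f, 1 - f])) (Ideal.subset_span ⟨0, rfl⟩) (Ideal.subset_span ⟨1, rfl⟩)
      simpa using this))
    refine ⟨S, hS, fun V g hg => ?_⟩
    obtain ⟨i, hi⟩ := hS' g hg
    fin_cases i
    · exact Or.inl hi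
    · exact Or.inr hi


end Groth.Agent.S9089
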