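import Groth.Statements.S9090
import Mathlib


set_option autoImplicit false
universe u
open CategoryTheory Opposite
open ModSite

namespace Groth.Agent.S9090

/-- Part (1): ⇒ (2), for a ringed site (C, O) with C small and O a sheaf of commutative rings: if for
every object U and every section f of O over U there is a covering sieve on U on each of whose
arrows either f or 1 - f restricts to a unit, then at every point p of the site the stalk O_p is the
zero ring or is local. -/
theorem result {C : Type u} [SmallCategory C] {J : GrothendieckTopology C}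
    (O : Sheaf J CommRingCat.{u})
    (h : ∀ (U : C) (f : O.obj.obj (op U)), ∃ S ∈ J U, ∀ ⦃V : C⦄ (g : V ⟶ U), S g →
        IsUnit ((O.obj.map g.op).hom f) ∨ IsUnit ((O.obj.map g.op).hom (1 - f)))
    (p : GrothendieckTopology.Point.{u} J) :
    Subsingleton (ModSite.stalkRing p O) ∨ IsLocalRing (ModSite.stalkRing p O) := by
  rcases subsingleton_or_nontrivial (ModSite.stalkRing p O) with hs | hs
  · exact Or.inl hs
  refine Or.inr (IsLocalRing.of_isUnit_or_isUnit_one_sub_self fun a => ?_)
  obtain ⟨X, x, f, rfl⟩ := p.toPresheafFiber_jointly_surjective (P := O.obj) a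
  obtain ⟨S, hS, hf⟩ := h X f
  obtain ⟨Y, g, hg, y, rfl⟩ := p.jointly_surjective S hS x
  have e : (p.toPresheafFiber X (p.fiber.map g y) O.obj).hom f =
      (p.toPresheafFiber Y y O.obj).hom ((O.obj.map g.op).hom f) :=
    (p.toPresheafFiber_w_apply g y O.obj f).symm
  rcases hf g hg with hu | hu
  · left
    exact e ▸ hu.map (p.toPresheafFiber Y y O.obj).hom
  · right
    have := hu.map (p.toPresheafFiber Y y O.obj).hom
    rw [map_sub, map_sub, map_one, map_one] at this
    exact e ▸ this


end Groth.Agent.S9090
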