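import Groth.Statements.S9091
import Mathlib


set_option autoImplicit false
universe u
open CategoryTheory Opposite
open ModSite

namespace Groth.Agent.S9091

/-- Part (2): ⇒ (1) when the site has enough points, for a ringed site (C, O) with C small and O a sheaf
of commutative rings: if at every point p of the site the stalk O_p is the zero ring or is local,
then for every object U and every section f of O over U there is a covering sieve on U on each of
whose arrows either f or 1 - f restricts to a unit. -/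
theorem result {C : Type u} [SmallCategory C] {J : GrothendieckTopology C}
    (O : Sheaf J CommRingCat.{u}) [GrothendieckTopology.HasEnoughPoints.{u} J]
    (h : ∀ p : GrothendieckTopology.Point.{u} J, Subsingleton (ModSite.stalkRing p O) ∨ IsLocalRing (ModSite.stalkRing p O))
    (U : C) (f : O.obj.obj (op U)) :
    ∃ S ∈ J U, ∀ ⦃V : C⦄ (g : V ⟶ U), S g →
        IsUnit ((O.obj.map g.op).hom f) ∨ IsUnit ((O.obj.map g.op).hom (1 - f)) := by
  obtain ⟨P, hPs, hP⟩ := GrothendieckTopology.HasEnoughPoints.exists_objectProperty.{u} J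
  let S : Sieve U :=
    { arrows := fun V g => IsUnit ((O.obj.map g.op).hom f) ∨ IsUnit ((O.obj.map g.op).hom (1 - f))
      downward_closed := fun {V W} g hg k => by
        simp only [op_comp, Functor.map_comp, CommRingCat.comp_apply]
        exact hg.imp (fun h => h.map (O.obj.map k.op).hom) (fun h => h.map (O.obj.map k.op).hom) }
  let ι := Σ V : C, {g : V ⟶ U // S g}
  refine ⟨S, J.superset_covering (S := Sieve.ofArrows (fun i : ι => i.1) (fun i => i.2.1)) ?_ ?_, fun V g hg => hg⟩
  · rw [Sieve.generate_le_iff, Presieve.ofArrows_le_iff]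
    exact fun i => i.2.2
  rw [hP.jointly_reflect_ofArrows_mem]
  intro Φ x
  have lift : ∀ a : O.obj.obj (op U), IsUnit ((Φ.obj.toPresheafFiber U x O.obj).hom a) →
      ∃ (W : C) (g : W ⟶ U) (w : Φ.obj.fiber.obj W), Φ.obj.fiber.map g w = x ∧ IsUnit ((O.obj.map g.op).hom a) := by
    intro a ha
    obtain ⟨c, hc⟩ := isUnit_iff_exists_inv.1 ha
    obtain ⟨X, y, z, rfl⟩ := Φ.obj.toPresheafFiber_jointly_surjective (P := O.obj) c
    let e₁ := Functor.elementsMk Φ.obj.fiber U x
    let e₂ := Functor.elementsMk Φ.obj.fiber X y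
    let W := IsCofiltered.min e₁ e₂
    let gU := IsCofiltered.minToLeft e₁ e₂
    let gX := IsCofiltered.minToRight e₁ e₂
    have hU : (Φ.obj.toPresheafFiber U x O.obj).hom a =
        (Φ.obj.toPresheafFiber W.1 W.2 O.obj).hom ((O.obj.map gU.1.op).hom a) :=
      ((congrArg (fun t => (Φ.obj.toPresheafFiber U t O.obj).hom a) gU.2).symm).trans
        (Φ.obj.toPresheafFiber_w_apply gU.1 W.2 O.obj a).symm
    have hX : (Φ.obj.toPresheafFiber X y O.obj).hom z =
        (Φ.obj.toPresheafFiber W.1 W.2 O.obj).hom ((O.obj.map gX.1.op).hom z) :=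
      ((congrArg (fun t => (Φ.obj.toPresheafFiber X t O.obj).hom z) gX.2).symm).trans
        (Φ.obj.toPresheafFiber_w_apply gX.1 W.2 O.obj z).symm
    have h1 : (Φ.obj.toPresheafFiber W.1 W.2 O.obj).hom ((O.obj.map gU.1.op).hom a * (O.obj.map gX.1.op).hom z) =
        (Φ.obj.toPresheafFiber W.1 W.2 O.obj).hom 1 := by
      rw [map_mul, map_one, ← hU, ← hX]
      exact hc
    obtain ⟨Y, k, v, hv, hk⟩ := (Φ.obj.toPresheafFiber_eq_iff' W.1 W.2 _ _).1 h1
    refine ⟨Y, k ≫ gU.1, v, ?_, IsUnit.of_mul_eq_one ((O.obj.map k.op).hom ((O.obj.map gX.1.op).hom z)) ?_⟩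
    · rw [Functor.map_comp_apply, hv]; exact gU.2
    · have hk' : (O.obj.map k.op).hom ((O.obj.map gU.1.op).hom a * (O.obj.map gX.1.op).hom z) =
          (O.obj.map k.op).hom 1 := hk
      rw [map_mul, map_one] at hk'
      rw [op_comp, Functor.map_comp]
      exact hk'
  have hu : IsUnit ((Φ.obj.toPresheafFiber U x O.obj).hom f) ∨
      IsUnit ((Φ.obj.toPresheafFiber U x O.obj).hom (1 - f)) := by
    rw [map_sub, map_one]
    rcases h Φ.obj with hs | hl
    · exact Or.inl (@isUnit_of_subsingleton (ModSite.stalkRing Φ.obj O) _ hs _)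
    · exact @IsLocalRing.isUnit_or_isUnit_one_sub_self (ModSite.stalkRing Φ.obj O) _ hl _
  rcases hu with hu | hu
  · obtain ⟨W, g, w, hw, hg⟩ := lift f hu
    exact ⟨⟨W, g, Or.inl hg⟩, w, hw⟩
  · obtain ⟨W, g, w, hw, hg⟩ := lift (1 - f) hu
    exact ⟨⟨W, g, Or.inr hg⟩, w, hw⟩


end Groth.Agent.S9091
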