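import Groth.Statements.S9096
import Groth.Agent.SiteBase.HHomColim

set_option autoImplicit false
universe u
open CategoryTheory
open ModSite

namespace Groth.Agent.S9096

open CategoryTheory.Limits in
/-- On a small ringed site (C, O) with O commutative: let F be an O-module of finite presentation, with
internal hom functor Hom_O(F, -) (the right adjoint of - ⊗_O F, available under the binder). Then
Hom_O(F, -) commutes with filtered colimits: for every small filtered diagram of O-modules the
canonical comparison map from the colimit of the internal homs to the internal hom into the colimit
is an isomorphism. -/
theorem result {C : Type u} [SmallCategory C] {J : GrothendieckTopology C}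
    (O : Sheaf J CommRingCat.{u}) (F : ModSite.Mod O) [ModSite.HasSheafHom F]
    [SheafOfModules.IsFinitePresentation (R := ModSite.ringSh O) F] {Λ : Type u} [SmallCategory Λ] [IsFiltered Λ] (D : Λ ⥤ ModSite.Mod O) :
    PreservesColimit D (ModSite.sheafHom F) := by
  exact HHomColim.preservesColimit_sheafHom F D


end Groth.Agent.S9096
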