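import Groth.Statements.S9097
import Groth.Agent.SiteBase.ConstExact

set_option autoImplicit false
universe u
open CategoryTheory Opposite
open CohSite

namespace Groth.Agent.S9097

open CategoryTheory.Limits in
/-- If 0 → A → B → C → 0 is short exact in the category of abelian groups then, for every object U, the
sequence 0 → A̲(U) → B̲(U) → C̲(U) → 0 of sections of the constant abelian sheaves is short exact;
in other words the sequence of constant sheaves is exact even as a sequence of abelian presheaves.
The instance binder on the sections-of-constant-sheaf functor (it preserves zero morphisms) always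
holds and is only needed to form the complex. -/
theorem result {C : Type u} [SmallCategory C] (J : GrothendieckTopology C)
    (S : ShortComplex AddCommGrpCat.{u}) (hS : S.ShortExact) (U : C)
    [(constantSheaf J AddCommGrpCat.{u} ⋙ (sheafSections J AddCommGrpCat.{u}).obj (op U)).PreservesZeroMorphisms] :
    (S.map (constantSheaf J AddCommGrpCat.{u} ⋙ (sheafSections J AddCommGrpCat.{u}).obj (op U))).ShortExact := by
  let F := constantSheaf J AddCommGrpCat.{u}
  have : PreservesFiniteLimits F := comp_preservesFiniteLimits _ _
  have : F.PreservesZeroMorphisms := by
    exact ⟨fun X Y => by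
      have := Functor.preservesZeroMorphisms_of_preserves_terminal_object (F := F)
      exact Functor.map_zero F X Y⟩
  have h := Groth.Agent.SiteBase.shortExact_constantSheaf J hS
  have := h.mono_f
  let G := (sheafSections J AddCommGrpCat.{u}).obj (op U)
  have : PreservesFiniteLimits G := inferInstanceAs (PreservesFiniteLimits
    (sheafToPresheaf J AddCommGrpCat.{u} ⋙ (evaluation Cᵒᵖ AddCommGrpCat.{u}).obj (op U)))
  have : G.PreservesZeroMorphisms := Functor.preservesZeroMorphisms_of_preserves_terminal_object
  exact ShortComplex.ShortExact.mk' (h.exact.map_of_mono_of_preservesKernel G inferInstance inferInstance)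
    (G.map_mono (S.map F).f)
    ((AddCommGrpCat.epi_iff_surjective _).2 (Groth.Agent.SiteBase.sections_surjective_constantSheaf J S.g
      ((AddCommGrpCat.epi_iff_surjective _).1 hS.epi_g) U))

end Groth.Agent.S9097
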