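import Groth.Statements.S9104
import Groth.Agent.SiteBase.RelLiftFlat

set_option autoImplicit false
universe u
open CategoryTheory
open ModSite

namespace Groth.Agent.S9104

/-- Part (1): for a morphism of ringed sites f : (C, O_C) → (D, O_D) between small sites with
commutative structure sheaves (only the underlying morphism of topoi is used): if (D, O_D) is a
locally ringed site then C equipped with the pulled-back sheaf of rings f⁻¹O_D is a locally ringed
site. -/
theorem result {C D : Type u} [SmallCategory C] [SmallCategory D] {J : GrothendieckTopology C}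
    {K : GrothendieckTopology D} {O_C : Sheaf J CommRingCat.{u}} {O_D : Sheaf K CommRingCat.{u}}
    (f : ModSite.RMor O_C O_D) (hD : ModSite.IsLocallyRinged K O_D) : ModSite.IsLocallyRinged J f.invRing := by
  refine ⟨fun W r => ?_, fun W h01 => ?_⟩
  · exact (SiteBase.locally_exists_repR f r).bind (Q := fun V g => IsUnit ((f.invRing.obj.map g.op).hom r) ∨
        IsUnit ((f.invRing.obj.map g.op).hom (1 - r))) fun W₁ g ⟨V, h, x, hx⟩ => by
      obtain ⟨S, hS, hu⟩ := hD.1 V x
      refine ⟨_, ModPull.imgSieve_mem (J := J) f.fn hS h, fun W₂ g' ⟨V', a, h', ha, e⟩ => ?_⟩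
      have key : (f.invRing.obj.map (g' ≫ g).op).hom r = SiteBase.repR f h' ((O_D.obj.map a.op).hom x) := by
        rw [← SiteBase.ringMap_comp g g' r, hx, SiteBase.map_repR]
        exact SiteBase.repR_map f a _ h' e x
      rcases hu a ha with hl | hr
      · left
        rw [key]
        exact hl.map (SiteBase.repR f h')
      · right
        rw [map_sub, map_one, key, ← map_one (SiteBase.repR f h'), ← map_sub]
        rw [map_sub, map_one] at hr
        exact hr.map (SiteBase.repR f h')
  · refine J.transitive (ModPull.someSieve_mem (K := K) f.fn W) ⊥ fun W₁ g ⟨V, ⟨h⟩⟩ => ?_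
    have e0 : SiteBase.repR f h (0 : O_D.obj.obj (Opposite.op V)) = SiteBase.repR f h 1 := by
      rw [map_zero, map_one]
      exact (map_zero (f.invRing.obj.map g.op).hom).symm.trans
        ((congrArg (f.invRing.obj.map g.op).hom h01).trans (map_one _))
    obtain ⟨T, hT, hV⟩ := SiteBase.locally_eq_of_repR_eq f h 0 1 e0
    refine J.transitive hT _ fun W₂ g₂ hg₂ => ?_
    obtain ⟨V', a, h', -, e⟩ := hV g₂ hg₂
    rw [map_zero, map_one] at e
    refine J.superset_covering ?_ (ModPull.imgSieve_mem (J := J) f.fn (hD.2 V' e) h')
    rintro Z t ⟨V'', b, h'', hb, -⟩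
    exact hb.elim


end Groth.Agent.S9104
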