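import Groth.Statements.S9105


set_option autoImplicit false
universe u
open CategoryTheory
open ModSite

namespace Groth.Agent.S9105

/-- If (C, O) is a locally ringed site (C small, O a sheaf of commutative rings) and U is an object of
C, then the localised ringed site (C/U, O_U) is again locally ringed. -/
theorem result {C : Type u} [SmallCategory C] {J : GrothendieckTopology C} (O : Sheaf J CommRingCat.{u})
    (hO : ModSite.IsLocallyRinged J O) (U : C) : ModSite.IsLocallyRinged (J.over U) (O.over U) := by
  refine ⟨fun V f => ?_, fun V h => ?_⟩
  · obtain ⟨S, hS, h⟩ := hO.1 V.left f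
    refine ⟨(Sieve.overEquiv V).symm S, by rw [GrothendieckTopology.mem_over_iff]; exact ((Sieve.overEquiv V).apply_symm_apply S).symm ▸ hS,
      fun W g hg => h g.left ?_⟩
    exact (Sieve.overEquiv_symm_iff S g).1 hg
  · rw [GrothendieckTopology.mem_over_iff]
    refine J.superset_covering (S := (⊥ : Sieve V.left)) bot_le ?_
    exact hO.2 V.left h

end Groth.Agent.S9105
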