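import Groth.Statements.S9109
import Groth.Agent.SiteBase.RightExact
import Mathlib.CategoryTheory.Sites.EpiMono
import Mathlib.Algebra.Homology.DerivedCategory.Ext.EnoughProjectives

set_option autoImplicit false
universe u
open CategoryTheory CategoryTheory.Limits
open CohSite

namespace Groth.Agent.S9109

/-- Part (1): on a small site (C, J) with a point p: the skyscraper functor p_* from abelian groups to
abelian sheaves on C (right adjoint to the stalk functor at p; its value on A is the sheaf U ↦ ∏_{x
∈ p⁻¹U} A) is exact. As a right adjoint it preserves limits; the statement here is that it also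
preserves finite colimits. -/
theorem result {C : Type u} [SmallCategory C] {J : GrothendieckTopology C}
    (p : GrothendieckTopology.Point.{u} J) :
    PreservesFiniteColimits (p.skyscraperSheafFunctor (A := AddCommGrpCat.{u})) := by
  let F := p.skyscraperSheafFunctor (A := AddCommGrpCat.{u})
  have : PreservesLimitsOfSize.{0, 0} F := p.skyscraperSheafAdjunction.rightAdjoint_preservesLimits
  have : F.Additive := Functor.additive_of_preserves_binary_products F
  have : F.PreservesEpimorphisms := ⟨fun {X Y} g hg => by
    refine (Sheaf.isLocallySurjective_iff_epi' _ _).1 (Presheaf.isLocallySurjective_of_surjective J (F.map g).hom fun V => ?_)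
    refine (AddCommGrpCat.epi_iff_surjective _).1 ?_
    show Epi (Limits.Pi.map fun _ : p.fiber.obj V.unop => g)
    refine (AddCommGrpCat.epi_iff_surjective _).2 fun y => ?_
    choose x hx using fun i : p.fiber.obj V.unop =>
      (AddCommGrpCat.epi_iff_surjective g).1 hg (Limits.Pi.π (fun _ : p.fiber.obj V.unop => Y) i y)
    refine ⟨(Concrete.productEquiv fun _ : p.fiber.obj V.unop => X).symm x,
      (Concrete.productEquiv fun _ : p.fiber.obj V.unop => Y).injective (funext fun i => ?_)⟩
    rw [Concrete.productEquiv_apply_apply, Concrete.productEquiv_apply_apply]
    rw [← ConcreteCategory.comp_apply, Limits.Pi.map_π, ConcreteCategory.comp_apply,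
      Concrete.productEquiv_symm_apply_π, hx i]⟩
  exact Groth.Agent.SiteBase.preservesFiniteColimits_of_preservesEpis F

end Groth.Agent.S9109
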