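import Groth.Statements.S9116
import Groth.Agent.SiteBase.FreeOnColim

set_option autoImplicit false
universe u
open CategoryTheory CategoryTheory.Limits Opposite
open ModSite

namespace Groth.Agent.S9116

/-- Let (C, O) be a small ringed site with O commutative and B a set of objects of C such that every
object has a covering family by members of B, each member of B is quasi-compact (its sheaf h_U^# is
a quasi-compact object of the topos), C has fibre products, and U₁ ×_U U₂ is quasi-compact for all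
U, U₁, U₂ in B and maps U₁ → U, U₂ → U. If 0 → F₁ → F₂ → F₃ → 0 is a short exact sequence of
O-modules whose outer terms are of the form Coker(⊕_{j≤m} j_{V_j!}O_{V_j} → ⊕_{i≤n} j_{U_i!}O_{U_i})
with finitely many Uᵢ, Vⱼ in B, then the middle term is of that form too. (The published setting
involves only the fibre products U₁ ×_U U₂ of two members of a covering family of U, which exist in
its notion of site; this row assumes that C has all fibre products and asks quasi-compactness of U₁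
×_U U₂ for all maps U₁ → U, U₂ → U between members of B.) -/
theorem result {C : Type u} [SmallCategory C] {J : GrothendieckTopology C}
    (O : Sheaf J CommRingCat.{u}) (B : Set C)
    (hB₁ : ∀ X : C, ∃ (κ : Type u) (Y : κ → C) (g : ∀ k, Y k ⟶ X), Sieve.ofArrows Y g ∈ J X ∧ ∀ k, Y k ∈ B)
    (hB₂ : ∀ U ∈ B, CohCx.IsQcObject ((presheafToSheaf J (Type u)).obj (yoneda.obj U)))
    [HasPullbacks C]
    (hB₃ : ∀ (U U₁ U₂ : C) (f₁ : U₁ ⟶ U) (f₂ : U₂ ⟶ U), U ∈ B → U₁ ∈ B → U₂ ∈ B →
      CohCx.IsQcObject ((presheafToSheaf J (Type u)).obj (yoneda.obj (pullback f₁ f₂))))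
    (S : ShortComplex (ModSite.Mod O)) (hS : S.ShortExact)
    (h₁ : (∃ (m' n' : ℕ) (V' : Fin m' → C) (U' : Fin n' → C)
        (ψ : (∐ fun j => ModSite.freeOn O (V' j)) ⟶ ∐ fun i => ModSite.freeOn O (U' i)),
        (∀ j, V' j ∈ B) ∧ (∀ i, U' i ∈ B) ∧ Nonempty (S.X₁ ≅ cokernel ψ)))
    (h₃ : (∃ (m' n' : ℕ) (V' : Fin m' → C) (U' : Fin n' → C)
        (ψ : (∐ fun j => ModSite.freeOn O (V' j)) ⟶ ∐ fun i => ModSite.freeOn O (U' i)),
        (∀ j, V' j ∈ B) ∧ (∀ i, U' i ∈ B) ∧ Nonempty (S.X₃ ≅ cokernel ψ))) :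
    (∃ (m' n' : ℕ) (V' : Fin m' → C) (U' : Fin n' → C)
        (ψ : (∐ fun j => ModSite.freeOn O (V' j)) ⟶ ∐ fun i => ModSite.freeOn O (U' i)),
        (∀ j, V' j ∈ B) ∧ (∀ i, U' i ∈ B) ∧ Nonempty (S.X₂ ≅ cokernel ψ)) := by
  exact FreeOnColim.pres'_of_fp (FreePres.fp_extension (FreeOnPres.sgen (O := O) B hB₁ hB₂ hB₃) S hS
    (FreeOnColim.fp_of_pres' h₁) (FreeOnColim.fp_of_pres' h₃))


end Groth.Agent.S9116
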