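import Groth.Statements.S9121
import Groth.Agent.SiteBase.RightExact
import Mathlib.CategoryTheory.Sites.EpiMono
import Mathlib.Algebra.Homology.DerivedCategory.Ext.EnoughProjectives

set_option autoImplicit false
universe u
open CategoryTheory CategoryTheory.Limits
open CohSite

namespace Groth.Agent.S9121

/-- Part (1): for the morphism of topoi f : Sh(C) → Sh(D) attached to a continuous functor u : D ⥤ C
between small sites whose induced pullback of sheaves of sets is exact (f_* is restriction along u):
if f_* transforms epimorphisms of sheaves of sets into epimorphisms, then f_* on abelian sheaves is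
exact; being a right adjoint it preserves finite limits, and the statement is that it also preserves
finite colimits. -/
theorem result {C D : Type u} [SmallCategory C] [SmallCategory D]
    (J : GrothendieckTopology C) (K : GrothendieckTopology D) (u : D ⥤ C) [u.IsContinuous K J]
    [PreservesFiniteLimits (u.sheafPullback (Type u) K J)]
    [(u.sheafPushforwardContinuous (Type u) K J).PreservesEpimorphisms] :
    PreservesFiniteColimits (u.sheafPushforwardContinuous AddCommGrpCat.{u} K J) := by
  let F := u.sheafPushforwardContinuous AddCommGrpCat.{u} K J
  have : F.PreservesEpimorphisms := ⟨fun {X Y} φ _ => by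
    have h := (Sheaf.isLocallySurjective_iff_epi' _ φ).2 inferInstance
    let ψ := (sheafCompose J (forget AddCommGrpCat.{u})).map φ
    have : Sheaf.IsLocallySurjective ψ :=
      (Presheaf.isLocallySurjective_iff_whisker_forget J φ.hom).1 h
    have := Sheaf.epi_of_isLocallySurjective ψ
    have h2 : Sheaf.IsLocallySurjective ((u.sheafPushforwardContinuous (Type u) K J).map ψ) :=
      (Sheaf.isLocallySurjective_iff_epi _).2 inferInstance
    exact (Sheaf.isLocallySurjective_iff_epi' _ _).1
      ((Presheaf.isLocallySurjective_iff_whisker_forget K (F.map φ).hom).2 h2)⟩
  have : PreservesFiniteLimits F := inferInstance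
  exact Groth.Agent.SiteBase.preservesFiniteColimits_of_preservesEpis F

end Groth.Agent.S9121
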