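import Groth.Statements.S9125
import Mathlib
import Groth.Agent.DimFormula.Catenary

set_option autoImplicit false
universe u
open CAlg

namespace Groth.Agent.S9125

/-- A quotient of a catenary ring is catenary. -/
theorem result (A : Type u) [CommRing A] (I : Ideal A)
    (hA : CAlg.IsCatenary A) : CAlg.IsCatenary (A ⧸ I) := by
  refine Groth.Agent.DimFormula.isCatenary_of_embedding hA (PrimeSpectrum.comap (Ideal.Quotient.mk I)) (fun a b => ?_) (fun a b x hax _ => ?_)
  · exact Ideal.comap_le_comap_iff_of_surjective _ Ideal.Quotient.mk_surjective _ _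
  · rw [_root_.range_comap_of_surjective _ _ Ideal.Quotient.mk_surjective]
    exact (Ideal.ker_le_comap _).trans hax


end Groth.Agent.S9125
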