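import Groth.Statements.S9126
import Mathlib
import Groth.Agent.DimFormula.Catenary

set_option autoImplicit false
universe u
open CAlg

namespace Groth.Agent.S9126

/-- An algebra essentially of finite type over a Noetherian universally catenary ring is universally
catenary. -/
theorem result (A : Type u) [CommRing A] (B : Type u) [CommRing B]
    [Algebra A B] [Algebra.EssFiniteType A B]
    (hA : CAlg.IsUniversallyCatenary A) : CAlg.IsUniversallyCatenary B := by
  haveI := hA.1
  obtain ⟨s, hs⟩ := (Algebra.essFiniteType_iff A B).1 inferInstance
  have hloc := (Algebra.essFiniteType_cond_iff (R := A) (S := B) s).2 hs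
  let B₀ := Algebra.adjoin A (s : Set B)
  haveI hft : Algebra.FiniteType A B₀ := (Subalgebra.fg_iff_finiteType _).1 (Subalgebra.fg_adjoin_finset s)
  have h0 : CAlg.IsUniversallyCatenary B₀ := by
    refine ⟨Algebra.FiniteType.isNoetherianRing A B₀, fun S _ _ hS => ?_⟩
    letI : Algebra A S := ((algebraMap B₀ S).comp (algebraMap A B₀)).toAlgebra
    haveI : IsScalarTower A B₀ S := IsScalarTower.of_algebraMap_eq' rfl
    exact hA.2 S (Algebra.FiniteType.trans hft hS)
  haveI := hloc
  exact Groth.Agent.DimFormula.isUniversallyCatenary_localization h0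
    ((IsUnit.submonoid B).comap (algebraMap B₀ B)) B


end Groth.Agent.S9126
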