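import Groth.Statements.S9127
import Mathlib
import Groth.Agent.Cat15.Order

set_option autoImplicit false
universe u
open CAlg

namespace Groth.Agent.S9127

/-- A Noetherian ring is catenary if and only if its quotient by every minimal prime is catenary. -/
theorem result (R : Type u) [CommRing R] [IsNoetherianRing R] :
    CAlg.IsCatenary R ↔ ∀ p ∈ minimalPrimes R, CAlg.IsCatenary (R ⧸ p) := by
  classical
  have hmono : ∀ p : Ideal R, ∀ a b : PrimeSpectrum (R ⧸ p),
      PrimeSpectrum.comap (Ideal.Quotient.mk p) a ≤ PrimeSpectrum.comap (Ideal.Quotient.mk p) b ↔ a ≤ b := fun p a b =>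
    Ideal.comap_le_comap_iff_of_surjective _ Ideal.Quotient.mk_surjective _ _
  have hup : ∀ p : Ideal R, ∀ (a : PrimeSpectrum (R ⧸ p)) (z : PrimeSpectrum R),
      PrimeSpectrum.comap (Ideal.Quotient.mk p) a ≤ z → z ∈ Set.range (PrimeSpectrum.comap (Ideal.Quotient.mk p)) := fun p a z hz => by
    rw [_root_.range_comap_of_surjective _ _ Ideal.Quotient.mk_surjective]
    exact (Ideal.ker_le_comap _).trans hz
  constructor
  · intro h p _
    exact Groth.Agent.Cat15.pcat_of_embedding
      (OrderEmbedding.ofMapLEIff (PrimeSpectrum.comap (Ideal.Quotient.mk p)) (hmono p)) (fun a z => hup p a z) h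
  · intro h
    refine Groth.Agent.Cat15.pcat_of_cover (ι := {p : Ideal R // p ∈ minimalPrimes R})
      (γ := fun p => PrimeSpectrum (R ⧸ p.1))
      (fun p => OrderEmbedding.ofMapLEIff (PrimeSpectrum.comap (Ideal.Quotient.mk p.1)) (hmono p.1))
      (fun p a z => hup p.1 a z) (fun b => ?_) (fun p => h p.1 p.2)
    obtain ⟨p, hp, hpb⟩ := Ideal.exists_minimalPrimes_le (bot_le : (⊥ : Ideal R) ≤ b.asIdeal)
    refine ⟨⟨p, hp⟩, ?_⟩
    show b ∈ Set.range (PrimeSpectrum.comap (Ideal.Quotient.mk p))
    rw [_root_.range_comap_of_surjective _ _ Ideal.Quotient.mk_surjective, Ideal.mk_ker]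
    exact hpb


end Groth.Agent.S9127
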