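import Groth.Statements.S9133
import Mathlib
import Groth.Agent.KrullAkiExt.Basic

set_option autoImplicit false
universe u
open CAlg

namespace Groth.Agent.S9133

/-- Let R → S be a homomorphism of domains compatible with field maps K → L of their fraction fields (so
R → S is injective), where R is Noetherian local of dimension one and L is finite over K. Then each
prime n of S whose contraction to R is the maximal ideal of R is a maximal ideal of S, only finitely
many such n exist, and each quotient S/n is a finite R-module (its residue field is a finite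
extension of that of R). -/
theorem result (R S K L : Type u)
    [CommRing R] [IsDomain R] [IsNoetherianRing R] [IsLocalRing R] (hdim : ringKrullDim R = 1)
    [CommRing S] [IsDomain S] [Algebra R S] [Field K] [Field L] [Algebra R K] [IsFractionRing R K]
    [Algebra S L] [IsFractionRing S L] [Algebra K L] [Algebra R L] [IsScalarTower R K L]
    [IsScalarTower R S L] [FiniteDimensional K L] :
    (∀ n ∈ (IsLocalRing.maximalIdeal R).primesOver S, n.IsMaximal) ∧
      ((IsLocalRing.maximalIdeal R).primesOver S).Finite ∧
      ∀ n ∈ (IsLocalRing.maximalIdeal R).primesOver S, Module.Finite R (S ⧸ n) := by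
  haveI : Ring.KrullDimLE 1 R := Ring.krullDimLE_iff.2 (le_of_eq hdim)
  have hm : IsLocalRing.maximalIdeal R ≠ ⊥ := by
    intro h
    have hF : IsField R := IsLocalRing.isField_iff_maximalIdeal_eq.2 h
    have := ringKrullDim_eq_zero_of_isField hF
    rw [hdim] at this
    exact one_ne_zero this
  obtain ⟨a, ham, ha⟩ := Submodule.exists_mem_ne_zero_of_ne_bot hm
  have hA : Function.Injective (algebraMap S L) := IsFractionRing.injective S L
  have hmem : ∀ n ∈ (IsLocalRing.maximalIdeal R).primesOver S, algebraMap R S a ∈ n := fun n hn => by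
    have h := hn.2.over
    rw [h] at ham
    exact ham
  have hlen : ∀ J : Ideal S, algebraMap R S a ∈ J → IsFiniteLength R (S ⧸ J) := fun J hJ =>
    Groth.Agent.KrullAkiExt.isArtinian_quotient (K := K) L S hA ha hJ
  refine ⟨fun n hn => ?_, ?_, fun n hn => ?_⟩
  · haveI := hn.1
    obtain ⟨_, _⟩ := isFiniteLength_iff_isNoetherian_isArtinian.1 (hlen n (hmem n hn))
    haveI : IsArtinianRing (S ⧸ n) := isArtinian_of_tower R inferInstance
    exact Ideal.Quotient.maximal_of_isField n (IsArtinianRing.isField_of_isDomain (S ⧸ n))
  · let J : Ideal S := Ideal.span {algebraMap R S a}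
    obtain ⟨_, _⟩ := isFiniteLength_iff_isNoetherian_isArtinian.1 (hlen J (Ideal.subset_span rfl))
    haveI : IsArtinianRing (S ⧸ J) := isArtinian_of_tower R inferInstance
    refine Set.Finite.subset
      (Set.finite_range fun P : PrimeSpectrum (S ⧸ J) => P.asIdeal.comap (Ideal.Quotient.mk J)) ?_
    intro n hn
    haveI := hn.1
    have hle : J ≤ n := (Ideal.span_singleton_le_iff_mem n).2 (hmem n hn)
    have hker : RingHom.ker (Ideal.Quotient.mk J) ≤ n := by rw [Ideal.mk_ker]; exact hle
    refine ⟨⟨n.map (Ideal.Quotient.mk J),
      Ideal.map_isPrime_of_surjective Ideal.Quotient.mk_surjective hker⟩, ?_⟩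
    change (n.map (Ideal.Quotient.mk J)).comap (Ideal.Quotient.mk J) = n
    rw [Ideal.comap_map_of_surjective _ Ideal.Quotient.mk_surjective, ← RingHom.ker_eq_comap_bot]
    exact sup_eq_left.2 hker
  · obtain ⟨_, _⟩ := isFiniteLength_iff_isNoetherian_isArtinian.1 (hlen n (hmem n hn))
    exact ⟨IsNoetherian.noetherian ⊤⟩


end Groth.Agent.S9133
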