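import Groth.Statements.S9130
import Mathlib
import Groth.Agent.S9133

set_option autoImplicit false
universe u
open CAlg

namespace Groth.Agent.S9130
open scoped nonZeroDivisors


/-- Let A ⊆ B be domains with B of finite type over A and A Noetherian, and assume every element of B is
algebraic over A. For a height-one prime p of A, only finitely many primes of B lie over p and each
of them has height one. (The published statement assumes that Frac(B) is finite over Frac(A); this
row assumes B algebraic over A, which is equivalent for a finite type extension of domains.) -/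
theorem result (A B : Type u) [CommRing A] [IsDomain A]
    [IsNoetherianRing A] [CommRing B] [IsDomain B] [Algebra A B] [FaithfulSMul A B]
    [Algebra.FiniteType A B] [Algebra.IsAlgebraic A B] (p : Ideal A) [p.IsPrime]
    (hp : p.height = 1) :
    (p.primesOver B).Finite ∧ ∀ q ∈ p.primesOver B, q.height = 1 := by
  have hinjAB : Function.Injective (algebraMap A B) := FaithfulSMul.algebraMap_injective A B
  let K := FractionRing A
  let L := FractionRing B
  haveI : FaithfulSMul A L := (faithfulSMul_iff_algebraMap_injective A L).2 (by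
    rw [IsScalarTower.algebraMap_eq A B L]
    exact (IsFractionRing.injective B L).comp hinjAB)
  letI : Algebra K L := FractionRing.liftAlgebra A L
  haveI : IsScalarTower A K L := FractionRing.isScalarTower_liftAlgebra A L
  haveI : Algebra.IsAlgebraic B L := IsLocalization.isAlgebraic L B⁰
  haveI : Algebra.IsAlgebraic A L := Algebra.IsAlgebraic.trans A B L
  haveI : Algebra.IsAlgebraic K L := Algebra.IsAlgebraic.extendScalars (IsFractionRing.injective A K)
  haveI : Algebra.EssFiniteType A L :=
    haveI := Algebra.EssFiniteType.of_isLocalization (R := B) L B⁰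
    Algebra.EssFiniteType.comp A B L
  haveI : Algebra.EssFiniteType K L := Algebra.EssFiniteType.of_comp A _ L
  haveI : FiniteDimensional K L := Algebra.finite_of_essFiniteType_of_isAlgebraic
  let S := p.primeCompl
  have hS : S ≤ A⁰ := p.primeCompl_le_nonZeroDivisors
  let Aₛ := Localization.AtPrime p
  let Bₛ := Localization (Algebra.algebraMapSubmonoid B S)
  have hK : ∀ s : S, IsUnit (algebraMap A K (s : A)) := fun s =>
    IsLocalization.map_units K (⟨s, hS s.2⟩ : A⁰)
  let gK : Aₛ →+* K := IsLocalization.lift hK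
  letI : Algebra Aₛ K := gK.toAlgebra
  haveI : IsScalarTower A Aₛ K := IsScalarTower.of_algebraMap_eq fun a => (IsLocalization.lift_eq hK a).symm
  have hSB : Algebra.algebraMapSubmonoid B S ≤ B⁰ := by
    rintro _ ⟨s, hs, rfl⟩
    refine mem_nonZeroDivisors_of_ne_zero fun h => ?_
    exact nonZeroDivisors.ne_zero (hS hs) (hinjAB (h.trans (map_zero _).symm))
  have hL : ∀ s : Algebra.algebraMapSubmonoid B S, IsUnit (algebraMap B L (s : B)) := fun s =>
    IsLocalization.map_units L (⟨s, hSB s.2⟩ : B⁰)
  let gL : Bₛ →+* L := IsLocalization.lift hL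
  letI : Algebra Bₛ L := gL.toAlgebra
  haveI : IsScalarTower B Bₛ L := IsScalarTower.of_algebraMap_eq fun b => (IsLocalization.lift_eq hL b).symm
  letI : Algebra Aₛ L := ((algebraMap Bₛ L).comp (algebraMap Aₛ Bₛ)).toAlgebra
  haveI : IsScalarTower Aₛ Bₛ L := IsScalarTower.of_algebraMap_eq fun _ => rfl
  haveI : IsScalarTower A Aₛ L := IsScalarTower.of_algebraMap_eq fun a => by
    rw [IsScalarTower.algebraMap_apply Aₛ Bₛ L, ← IsScalarTower.algebraMap_apply A Aₛ Bₛ,
      IsScalarTower.algebraMap_apply A B Bₛ, ← IsScalarTower.algebraMap_apply B Bₛ L,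
      ← IsScalarTower.algebraMap_apply A B L]
  haveI : IsScalarTower Aₛ K L := by
    refine IsScalarTower.of_algebraMap_eq' (IsLocalization.ringHom_ext S ?_)
    ext a
    simp only [RingHom.comp_apply, ← IsScalarTower.algebraMap_apply]
  haveI : IsFractionRing Aₛ K := IsFractionRing.isFractionRing_of_isDomain_of_isLocalization S Aₛ K
  haveI : IsFractionRing Bₛ L :=
    IsFractionRing.isFractionRing_of_isDomain_of_isLocalization (Algebra.algebraMapSubmonoid B S) Bₛ L
  haveI : IsDomain Bₛ := IsLocalization.isDomain_of_le_nonZeroDivisors Bₛ hSB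
  have hdim : ringKrullDim Aₛ = 1 := by
    rw [IsLocalization.AtPrime.ringKrullDim_eq_height p, hp]; rfl
  obtain ⟨h1, h2, -⟩ := Groth.Agent.S9133.result Aₛ Bₛ K L hdim
  have hd : ∀ q ∈ p.primesOver B, Disjoint ((Algebra.algebraMapSubmonoid B S : Set B)) (q : Set B) := by
    intro q hq
    rw [Set.disjoint_left]
    rintro _ ⟨s, hs, rfl⟩ h
    refine hs ?_
    rw [hq.2.over]
    exact h
  have hq' : ∀ q ∈ p.primesOver B, q.map (algebraMap B Bₛ) ∈ (IsLocalRing.maximalIdeal Aₛ).primesOver Bₛ := by
    intro q hq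
    haveI hP : (q.map (algebraMap B Bₛ)).IsPrime :=
      IsLocalization.isPrime_of_isPrime_disjoint _ Bₛ q hq.1 (hd q hq)
    refine ⟨hP, ⟨?_⟩⟩
    have hcc : (q.map (algebraMap B Bₛ)).comap (algebraMap B Bₛ) = q :=
      IsLocalization.under_map_of_isPrime_disjoint _ _ hq.1 (hd q hq)
    have h3 : ((q.map (algebraMap B Bₛ)).comap (algebraMap Aₛ Bₛ)).comap (algebraMap A Aₛ) = p := by
      rw [Ideal.comap_comap, ← IsScalarTower.algebraMap_eq, IsScalarTower.algebraMap_eq A B Bₛ,
        ← Ideal.comap_comap, hcc]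
      exact hq.2.over.symm
    haveI : ((q.map (algebraMap B Bₛ)).comap (algebraMap Aₛ Bₛ)).IsPrime := inferInstance
    have h4 := IsLocalization.map_comap S Aₛ ((q.map (algebraMap B Bₛ)).comap (algebraMap Aₛ Bₛ))
    rw [Ideal.under_def, h3] at h4
    rw [← IsLocalization.AtPrime.map_eq_maximalIdeal p Aₛ, h4]
  refine ⟨(h2.image fun P => P.comap (algebraMap B Bₛ)).subset fun q hq => ⟨_, hq' q hq, ?_⟩, fun q hq => ?_⟩
  · exact IsLocalization.under_map_of_isPrime_disjoint _ _ hq.1 (hd q hq)
  haveI := hq.1
  have hp0 : p ≠ ⊥ := by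
    rintro rfl
    rw [Ideal.height_bot] at hp
    exact zero_ne_one hp
  have hq0 : q ≠ ⊥ := by
    rintro rfl
    refine hp0 ?_
    rw [hq.2.over]
    exact Ideal.comap_bot_of_injective _ hinjAB
  refine le_antisymm ?_ (ENat.one_le_iff_ne_zero.2 ?_)
  · rw [← Nat.cast_one (R := ℕ∞), Ideal.height_le_iff]
    intro r hr hrq
    by_cases hr0 : r = ⊥
    · rw [hr0, Ideal.height_bot]; exact zero_lt_one
    exfalso
    have hrp : r.comap (algebraMap A B) = p := by
      have hle : r.comap (algebraMap A B) ≤ p := by
        rw [hq.2.over]; exact Ideal.comap_mono hrq.le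
      refine eq_of_le_of_not_lt hle fun hlt => ?_
      have h0 : r.comap (algebraMap A B) ≠ ⊥ := by
        obtain ⟨x, hx, hx0⟩ := Submodule.exists_mem_ne_zero_of_ne_bot hr0
        obtain ⟨a, ha, c, hc⟩ := (Algebra.IsAlgebraic.isAlgebraic (R := A) x).exists_nonzero_dvd
          (mem_nonZeroDivisors_of_ne_zero hx0)
        intro h
        refine ha ?_
        have : a ∈ r.comap (algebraMap A B) := by
          rw [Ideal.mem_comap, hc]; exact r.mul_mem_right c hx
        rwa [h, Ideal.mem_bot] at this
      haveI : (r.comap (algebraMap A B)).IsPrime := inferInstance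
      have h2' := Ideal.height_le_iff.1 (le_of_eq (hp.trans Nat.cast_one.symm)) _ inferInstance hlt
      rw [Nat.cast_one, ENat.lt_one_iff_eq_zero, Ideal.height_eq_zero_iff] at h2'
      exact h0 (eq_bot_iff.2 (h2'.2 ⟨Ideal.isPrime_bot, bot_le⟩ bot_le))
    have hrm : r ∈ p.primesOver B := ⟨hr, ⟨hrp.symm⟩⟩
    have hM := h1 _ (hq' r hrm)
    have heq := hM.eq_of_le (hq' q hq).1.ne_top (Ideal.map_mono hrq.le)
    refine hrq.ne ?_
    rw [← IsLocalization.under_map_of_isPrime_disjoint (Algebra.algebraMapSubmonoid B S) Bₛ hr (hd r hrm),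
      ← IsLocalization.under_map_of_isPrime_disjoint (Algebra.algebraMapSubmonoid B S) Bₛ hq.1 (hd q hq), heq]
  · intro h
    rw [Ideal.height_eq_zero_iff, IsDomain.minimalPrimes_eq_singleton_bot] at h
    exact hq0 h


end Groth.Agent.S9130
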