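import Groth.Statements.S9131
import Groth.Agent.ZClosLib.AdicML
import Groth.Agent.W4Lib.Flat
import Groth.Agent.S0393

set_option autoImplicit false
universe u
open CAlg

namespace Groth.Agent.S9131
open Groth.Agent.ZClosLib.AdicML


/-- Let R be a ring, I an ideal, and 0 → K → P → M → 0 a short exact sequence of R-modules with M flat
over R and M/IM projective over R/I. Then the induced sequence of I-adic completions is split short
exact: the map on completions of K → P is injective, the sequence is exact in the middle, and the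
map on completions of P → M has a section linear over the completion of R (so it is surjective). -/
theorem result (R : Type u) [CommRing R] (I : Ideal R)
    (K P M : Type u) [AddCommGroup K] [Module R K] [AddCommGroup P] [Module R P]
    [AddCommGroup M] [Module R M] (f : K →ₗ[R] P) (g : P →ₗ[R] M)
    (hf : Function.Injective f) (hg : Function.Surjective g) (hfg : Function.Exact f g)
    [Module.Flat R M] [Module.Projective (R ⧸ I) (M ⧸ (I • ⊤ : Submodule R M))] :
    Function.Injective (AdicCompletion.map I f) ∧
      Function.Exact (AdicCompletion.map I f) (AdicCompletion.map I g) ∧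
      ∃ s : AdicCompletion I M →ₗ[AdicCompletion I R] AdicCompletion I P,
        AdicCompletion.map I g ∘ₗ s = LinearMap.id := by
  have hinj : ∀ n, Function.Injective (f.reduceModIdeal (I ^ n)) := by
    intro n
    refine (injective_iff_map_eq_zero _).2 fun x hx => ?_
    obtain ⟨k, rfl⟩ := Submodule.Quotient.mk_surjective _ x
    rw [Submodule.Quotient.mk_eq_zero, ← S0393.one_tmul_eq_zero_iff]
    refine W4Lib.lTensor_injective_of_flat_quotient hf hfg hg (R ⧸ I ^ n) ?_
    rw [LinearMap.lTensor_tmul, map_zero, S0393.one_tmul_eq_zero_iff, ← Submodule.Quotient.mk_eq_zero]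
    exact hx
  refine ⟨fun a b h => AdicCompletion.ext fun n => hinj n (congrArg (fun z : AdicCompletion I P => z.val n) h),
    LinearMap.exact_iff.2 (le_antisymm (fun z hz => ?_) ?_), ?_⟩
  · have hlev : ∀ n, ∃ x, f.reduceModIdeal (I ^ n) x = z.val n := by
      intro n
      obtain ⟨p, hp⟩ := Submodule.Quotient.mk_surjective _ (z.val n)
      have h1 : g p ∈ (I ^ n • ⊤ : Submodule R M) := by
        rw [← Submodule.Quotient.mk_eq_zero]
        have := congrArg (fun w : AdicCompletion I M => w.val n) (LinearMap.mem_ker.1 hz)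
        simp only [AdicCompletion.map_val_apply, ← hp] at this
        exact this
      have h2 : g p ∈ (I ^ n • ⊤ : Submodule R P).map g := by
        rwa [Submodule.map_smul'', Submodule.map_top, LinearMap.range_eq_top.2 hg]
      obtain ⟨p', hp', hgp⟩ := h2
      obtain ⟨k, hk⟩ := (hfg (p - p')).1 (by rw [map_sub, hgp, sub_self])
      refine ⟨Submodule.Quotient.mk k, ?_⟩
      rw [← hp]
      show Submodule.Quotient.mk (f k) = _
      rw [hk, Submodule.Quotient.eq, sub_sub_cancel_left]
      exact neg_mem hp'
    choose x hx using hlev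
    refine ⟨⟨x, fun {m n} hmn => hinj m ?_⟩, AdicCompletion.ext hx⟩
    rw [hx, ← z.property hmn, ← hx n]
    obtain ⟨k, hk⟩ := Submodule.Quotient.mk_surjective _ (x n)
    rw [← hk]
    rfl
  · rintro _ ⟨x, rfl⟩
    rw [LinearMap.mem_ker, ← LinearMap.comp_apply, AdicCompletion.map_comp, hfg.linearMap_comp_eq_zero,
      AdicCompletion.map_zero, LinearMap.zero_apply]
  -- a compatible system of sections modulo the powers of `I`
  choose next hnext using fun n s => exists_lift_step I g hg n s
  have h0 : (I ^ 0 • ⊤ : Submodule R M) = ⊤ := by rw [pow_zero, Ideal.one_eq_top, Submodule.top_smul]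
  let s₀ : Sec I M g 0 := ⟨0, by simp, LinearMap.ext fun m => by
    rw [LinearMap.comp_apply, LinearMap.zero_apply, map_zero]
    exact ((Submodule.Quotient.mk_eq_zero _).2 (by rw [h0]; trivial)).symm⟩
  let s : ∀ n, Sec I M g n := fun n => Nat.rec s₀ (fun k t => next k t) n
  have hcompat : ∀ {m n : ℕ} (hle : m ≤ n), AdicCompletion.transitionMap I P hle ∘ₗ (s n).1 = (s m).1 := by
    intro m n hle
    induction hle with
    | refl =>
      refine LinearMap.ext fun x => ?_
      obtain ⟨p, hp⟩ := Submodule.Quotient.mk_surjective _ ((s m).1 x)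
      rw [LinearMap.comp_apply, ← hp]
      rfl
    | @step k hle ih =>
      rw [← ih, show (s k).1 = AdicCompletion.transitionMap I P k.le_succ ∘ₗ (s (k + 1)).1 from (hnext k (s k)).symm]
      refine LinearMap.ext fun x => ?_
      obtain ⟨p, hp⟩ := Submodule.Quotient.mk_surjective _ ((s (k + 1)).1 x)
      simp only [LinearMap.comp_apply]
      rw [← hp]
      rfl
  let t : ∀ n, (M ⧸ (I ^ n • ⊤ : Submodule R M)) →ₗ[R] P ⧸ (I ^ n • ⊤ : Submodule R P) :=
    fun n => Submodule.liftQ _ (s n).1 (s n).2.1
  have ht : ∀ {m n : ℕ} (hle : m ≤ n), AdicCompletion.transitionMap I P hle ∘ₗ t n =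
      t m ∘ₗ AdicCompletion.transitionMap I M hle :=
    fun hle => Submodule.linearMap_qext _ (LinearMap.ext fun x => LinearMap.congr_fun (hcompat hle) x)
  let σ : AdicCompletion I M →ₗ[AdicCompletion I R] AdicCompletion I P :=
    { AdicCompletion.lift I (fun n => t n ∘ₗ AdicCompletion.eval I M n) fun {m n} hmn => by
        rw [← LinearMap.comp_assoc, ht, LinearMap.comp_assoc, AdicCompletion.transitionMap_comp_eval] with
      map_smul' := fun r x => by
        ext n
        dsimp
        rw [AdicCompletion.val_smul_eq_evalₐ_smul, AdicCompletion.val_smul_eq_evalₐ_smul]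
        obtain ⟨c, hc⟩ := Ideal.Quotient.mk_surjective (AdicCompletion.evalₐ I n r)
        rw [← hc]
        exact map_smul (t n) c _ }
  refine ⟨σ, LinearMap.ext fun z => AdicCompletion.ext fun n => ?_⟩
  obtain ⟨m, hm⟩ := Submodule.Quotient.mk_surjective _ (z.val n)
  show g.reduceModIdeal (I ^ n) (t n (z.val n)) = z.val n
  rw [← hm]
  obtain ⟨p, hp⟩ := Submodule.Quotient.mk_surjective _ ((s n).1 m)
  have hsec := LinearMap.congr_fun (s n).2.2 m
  rw [LinearMap.comp_apply, ← hp] at hsec
  show g.reduceModIdeal (I ^ n) ((s n).1 m) = _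
  rw [← hp]
  exact hsec


end Groth.Agent.S9131
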