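import Groth.Statements.S9132
import Mathlib

set_option autoImplicit false
universe u
open CAlg

namespace Groth.Agent.S9132

/-- A Noetherian local domain R that is not a field is dominated by a Noetherian local ring R' of
dimension one lying between R and its fraction field, with R' essentially of finite type over R. -/
theorem result (R : Type u) [CommRing R] [IsDomain R]
    [IsNoetherianRing R] [IsLocalRing R] (hR : ¬ IsField R) :
    ∃ R' : Subalgebra R (FractionRing R), ∃ _ : IsLocalRing R',
      IsNoetherianRing R' ∧ ringKrullDim R' = 1 ∧ IsLocalHom (algebraMap R R') ∧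
        Algebra.EssFiniteType R R' := by
  classical
  let K := FractionRing R
  let ι := algebraMap R K
  have hinj : Function.Injective ι := IsFractionRing.injective R K
  obtain ⟨G, hG⟩ := IsNoetherian.noetherian (IsLocalRing.maximalIdeal R)
  obtain ⟨V, hV⟩ := (LocalSubring.range ι).exists_le_valuationSubring
  obtain ⟨hsub, hloc⟩ := LocalSubring.le_def.mp hV
  have hiV : ∀ r, ι r ∈ V := fun r => hsub ⟨r, rfl⟩
  obtain ⟨g0, hg0, hg00⟩ : ∃ g ∈ G, g ≠ 0 := by
    by_contra h
    push Not at h
    apply hR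
    rw [IsLocalRing.isField_iff_maximalIdeal_eq, ← hG, Submodule.span_eq_bot]
    exact h
  obtain ⟨x, hxG, hxmax⟩ := G.exists_max_image (fun g => V.valuation (ι g)) ⟨g0, hg0⟩
  have hx0 : x ≠ 0 := by
    intro h
    have := hxmax g0 hg0
    rw [h, map_zero, map_zero, le_zero_iff, Valuation.zero_iff] at this
    exact hg00 (hinj (this.trans (map_zero ι).symm))
  have hxK : ι x ≠ 0 := fun h => hx0 (hinj (h.trans (map_zero ι).symm))
  have hxm : x ∈ IsLocalRing.maximalIdeal R := hG ▸ Ideal.subset_span hxG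
  let T : Set K := (fun g => ι g / ι x) '' (G : Set R)
  let A : Subalgebra R K := Algebra.adjoin R T
  have : Algebra.FiniteType R A :=
    ⟨(Subalgebra.fg_top A).mpr ⟨G.image fun g => ι g / ι x, by simp [A, T]⟩⟩
  have : IsNoetherianRing A := Algebra.FiniteType.isNoetherianRing R A
  have hAV : ∀ z ∈ A, z ∈ V := by
    intro z hz
    refine Algebra.adjoin_induction (p := fun z _ => z ∈ V) ?_ hiV
      (fun _ _ _ _ => add_mem) (fun _ _ _ _ => mul_mem) hz
    rintro _ ⟨g, hg, rfl⟩
    rw [← V.valuation_le_one_iff, map_div₀]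
    exact (div_le_one₀ (zero_lt_iff.mpr ((Valuation.ne_zero_iff _).mpr hxK))).mpr (hxmax g hg)
  let xA : A := algebraMap R A x
  have hxA : ¬ IsUnit xA := by
    intro h
    let j : A →+* V := A.val.toRingHom.codRestrict V.toSubring fun a => hAV a a.2
    have h1 : IsUnit (⟨ι x, hiV x⟩ : V) := h.map j
    obtain ⟨⟨_, b, rfl⟩, hb⟩ := isUnit_iff_exists_inv.mp
      (hloc.map_nonunit (⟨ι x, x, rfl⟩ : ι.range) h1)
    have hb' := congrArg Subtype.val hb
    change ι x * ι b = 1 at hb'
    exact hxm (IsUnit.of_mul_eq_one b (hinj (by rw [map_mul, hb', map_one])))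
  obtain ⟨p, hp⟩ := Ideal.nonempty_minimalPrimes
    (Ideal.span_singleton_eq_top.not.mpr hxA)
  have hpp : p.IsPrime := hp.isPrime
  have hxp : xA ∈ p := hp.le (Ideal.mem_span_singleton_self xA)
  have hval : ∀ b : A, b ∉ p → (b : K) ≠ 0 := fun b hb h =>
    hb ((Subtype.ext h : b = 0) ▸ zero_mem p)
  let R' : Subalgebra R K :=
    { carrier := {z | ∃ a b : A, b ∉ p ∧ z * b = a}
      mul_mem' := by
        rintro z w ⟨a, b, hb, h⟩ ⟨c, d, hd, h'⟩
        refine ⟨a * c, b * d, hpp.mul_notMem hb hd, ?_⟩
        push_cast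
        rw [mul_mul_mul_comm, h, h']
      add_mem' := by
        rintro z w ⟨a, b, hb, h⟩ ⟨c, d, hd, h'⟩
        refine ⟨a * d + c * b, b * d, hpp.mul_notMem hb hd, ?_⟩
        push_cast
        rw [← h, ← h']; ring
      algebraMap_mem' := fun r =>
        ⟨algebraMap R A r, 1, fun h => hpp.ne_top ((Ideal.eq_top_iff_one p).mpr h), by
          rw [OneMemClass.coe_one, mul_one]; rfl⟩ }
  have hAR' : A ≤ R' := fun z hz =>
    ⟨⟨z, hz⟩, 1, fun h => hpp.ne_top ((Ideal.eq_top_iff_one p).mpr h), by simp⟩
  letI : Algebra A R' := (Subalgebra.inclusion hAR').toRingHom.toAlgebra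
  haveI : IsScalarTower R A R' :=
    IsScalarTower.of_algebraMap_eq fun r => ((Subalgebra.inclusion hAR').commutes r).symm
  haveI hloc' : IsLocalization p.primeCompl R' := by
    constructor; constructor
    · rintro ⟨b, hb⟩
      refine IsUnit.of_mul_eq_one ⟨(b : K)⁻¹, 1, b, hb, ?_⟩ (Subtype.ext ?_)
      · rw [inv_mul_cancel₀ (hval b hb), OneMemClass.coe_one]
      · exact mul_inv_cancel₀ (hval b hb)
    · rintro ⟨z, a, b, hb, h⟩
      exact ⟨⟨a, ⟨b, hb⟩⟩, Subtype.ext h⟩
    · intro a b h
      have h2 := congrArg Subtype.val h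
      exact ⟨1, by rw [show a = b from Subtype.ext h2]⟩
  have : IsLocalRing R' := IsLocalization.AtPrime.isLocalRing R' p
  have hnoeth : IsNoetherianRing R' := IsLocalization.isNoetherianRing p.primeCompl R' inferInstance
  refine ⟨R', this, hnoeth, ?_, ?_, ?_⟩
  · rw [IsLocalization.AtPrime.ringKrullDim_eq_height p R']
    have h1 : p.height ≤ 1 := Ideal.height_le_one_of_isPrincipal_of_mem_minimalPrimes _ p hp
    have h2 : p.height ≠ 0 := by
      rw [ne_eq, Ideal.height_eq_zero_iff_eq_bot]
      intro h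
      rw [h, Ideal.mem_bot] at hxp
      exact hxK (congrArg Subtype.val hxp)
    rw [le_antisymm h1 (Order.one_le_iff_ne_zero.mpr h2)]
    rfl
  · constructor
    intro r hr
    by_contra hru
    have hrm : r ∈ Ideal.span (G : Set R) := by
      rw [show Ideal.span (G : Set R) = IsLocalRing.maximalIdeal R from hG]; exact hru
    have hrp : algebraMap R A r ∈ p := by
      refine (Ideal.span_le (I := p.comap (algebraMap R A))).mpr (fun g hg => ?_) hrm
      have hg' : ι g / ι x ∈ A := Algebra.subset_adjoin ⟨g, hg, rfl⟩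
      have : algebraMap R A g = xA * ⟨_, hg'⟩ :=
        Subtype.ext (mul_div_cancel₀ (ι g) hxK).symm
      change algebraMap R A g ∈ p
      rw [this]
      exact Ideal.mul_mem_right _ _ hxp
    rw [IsScalarTower.algebraMap_apply R A R'] at hr
    exact (IsLocalization.AtPrime.isUnit_to_map_iff R' p _).mp hr hrp
  · haveI : Algebra.EssFiniteType A R' := Algebra.EssFiniteType.of_isLocalization R' p.primeCompl
    exact Algebra.EssFiniteType.comp R A R'


end Groth.Agent.S9132
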