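import Groth.Statements.S9134
import Mathlib
import Groth.Agent.KrullAki.Basic

set_option autoImplicit false
universe u
open CAlg

namespace Groth.Agent.S9134
open Pointwise in
theorem length_pi_le {R : Type u} [CommRing R] [IsDomain R] [IsNoetherianRing R] [Ring.KrullDimLE 1 R]
    {K : Type u} [Field K] [Algebra R K] [IsFractionRing R K] {x : R} (hx : x ≠ 0) :
    ∀ (r : ℕ) (M : Type u) [AddCommGroup M] [Module R M] (f : M →ₗ[R] (Fin r → K)),
      Function.Injective f →
      Module.length R (M ⧸ (x • (⊤ : Submodule R M))) ≤ r * Module.length R (R ⧸ Ideal.span ({x} : Set R)) := by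
  intro r
  induction r with
  | zero =>
    intro M _ _ f hf
    haveI : Subsingleton M := hf.subsingleton
    rw [Module.length_eq_zero]
    exact zero_le
  | succ r ih =>
    intro M _ _ f hf
    let p : M →ₗ[R] K := (LinearMap.proj 0).comp f
    let N := LinearMap.ker p
    let f' : N →ₗ[R] (Fin r → K) := (LinearMap.funLeft R K Fin.succ).comp (f.comp N.subtype)
    have hf' : Function.Injective f' := by
      rintro ⟨a, ha⟩ ⟨b, hb⟩ h
      refine Subtype.ext (hf (funext fun i => ?_))
      refine Fin.cases ?_ (fun j => congrFun h j) i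
      exact ha.trans hb.symm
    let Q := LinearMap.range p
    let i1 : (N ⧸ (x • (⊤ : Submodule R N))) →ₗ[R] (M ⧸ (x • (⊤ : Submodule R M))) :=
      Submodule.mapQ _ _ N.subtype fun y hy => by
        obtain ⟨z, _, rfl⟩ := (Submodule.mem_smul_pointwise_iff_exists _ _ _).1 hy
        exact (Submodule.mem_smul_pointwise_iff_exists _ _ _).2 ⟨N.subtype z, trivial, (map_smul N.subtype x z).symm⟩
    let p1 : (M ⧸ (x • (⊤ : Submodule R M))) →ₗ[R] (Q ⧸ (x • (⊤ : Submodule R Q))) :=
      Submodule.mapQ _ _ p.rangeRestrict fun y hy => by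
        obtain ⟨z, _, rfl⟩ := (Submodule.mem_smul_pointwise_iff_exists _ _ _).1 hy
        exact (Submodule.mem_smul_pointwise_iff_exists _ _ _).2 ⟨p.rangeRestrict z, trivial, (map_smul p.rangeRestrict x z).symm⟩
    have hle : LinearMap.ker p1 ≤ LinearMap.range i1 := by
      intro y hy
      obtain ⟨y, rfl⟩ := Submodule.Quotient.mk_surjective _ y
      rw [LinearMap.mem_ker, Submodule.mapQ_apply, Submodule.Quotient.mk_eq_zero] at hy
      obtain ⟨⟨_, z, rfl⟩, _, hz⟩ := (Submodule.mem_smul_pointwise_iff_exists _ _ _).1 hy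
      have hn : y - x • z ∈ N := by
        have : x • p z = p y := congrArg Subtype.val hz
        rw [LinearMap.mem_ker, map_sub, map_smul, this, sub_self]
      refine ⟨Submodule.Quotient.mk ⟨_, hn⟩, ?_⟩
      rw [Submodule.mapQ_apply]
      refine (Submodule.Quotient.eq _).2 ((Submodule.mem_smul_pointwise_iff_exists _ _ _).2 ⟨-z, trivial, ?_⟩)
      simp
    have h1 := Module.length_eq_add_of_exact (LinearMap.ker p1).subtype p1 Subtype.val_injective
      (fun y => by
        obtain ⟨⟨_, z, rfl⟩, rfl⟩ := Submodule.Quotient.mk_surjective _ y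
        exact ⟨Submodule.Quotient.mk z, rfl⟩)
      (LinearMap.exact_subtype_ker_map p1)
    rw [h1, Nat.cast_succ, add_mul, one_mul]
    refine add_le_add ?_ (Groth.Agent.KrullAki.length_quotient_le hx Q.subtype Subtype.val_injective)
    refine le_trans ?_ (ih N f' hf')
    exact (Module.length_le_of_injective (Submodule.inclusion hle) (Submodule.inclusion_injective hle)).trans
      (Module.length_le_of_surjective i1.rangeRestrict i1.surjective_rangeRestrict)


/-- Let R be a Noetherian domain of dimension one with fraction field K, M an R-submodule of K^r, and x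
a nonzero element of R. Then M/xM has finite length over R. -/
theorem result (R : Type u) [CommRing R] [IsDomain R]
    [IsNoetherianRing R] (hdim : ringKrullDim R = 1) (K : Type u) [Field K] [Algebra R K]
    [IsFractionRing R K] (r : ℕ) (M : Submodule R (Fin r → K)) (x : R) (hx : x ≠ 0) :
    Module.length R (M ⧸ (Ideal.span ({x} : Set R) • (⊤ : Submodule R M))) ≠ ⊤ := by
  open Pointwise in
  haveI : Ring.KrullDimLE 1 R := Ring.krullDimLE_iff.2 hdim.le
  rw [show (Ideal.span ({x} : Set R) • (⊤ : Submodule R M)) = x • (⊤ : Submodule R M) from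
    Submodule.ideal_span_singleton_smul x ⊤]
  refine ne_top_of_le_ne_top ?_ (length_pi_le hx r M M.subtype Subtype.val_injective)
  refine WithTop.mul_ne_top (ENat.natCast_ne_top r) ?_
  exact Module.length_ne_top_iff.2 (isFiniteLength_quotient_span_singleton R (mem_nonZeroDivisors_of_ne_zero hx))


end Groth.Agent.S9134
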