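import Groth.Statements.S9135
import Mathlib

set_option autoImplicit false
universe u
open CAlg

namespace Groth.Agent.S9135
open TensorProduct

theorem exists_poly (R S : Type u) [CommRing R] [CommRing S]
    [Algebra R S] [Algebra.FiniteType R S] (p : Ideal R) (hp : p ∈ minimalPrimes R)
    (hfin : (p.primesOver S).Finite) (x : S) :
    ∃ Q : Polynomial R, Q.leadingCoeff ∉ p ∧ Polynomial.aeval x Q = 0 := by
  haveI : p.IsPrime := hp.1.1
  haveI : Finite (p.primesOver S) := hfin
  haveI : Finite (PrimeSpectrum (p.Fiber S)) :=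
    Finite.of_equiv _ (PrimeSpectrum.primesOverOrderIsoFiber R S p).toEquiv
  haveI : Algebra.QuasiFinite p.ResidueField (p.Fiber S) := by
    rw [Algebra.QuasiFinite.iff_finite_primesOver]
    intro I _
    have h1 : (Set.range (PrimeSpectrum.asIdeal : PrimeSpectrum (p.Fiber S) → Ideal (p.Fiber S))).Finite :=
      Set.finite_range _
    exact h1.subset fun J hJ => ⟨⟨J, hJ.1⟩, rfl⟩
  haveI : Module.Finite p.ResidueField (p.Fiber S) := Module.Finite.of_quasiFinite
  obtain ⟨f, hf, hf0⟩ :=
    Algebra.IsIntegral.isIntegral (R := p.ResidueField) ((1 : p.ResidueField) ⊗ₜ[R] x : p.Fiber S)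
  obtain ⟨b, hbm, hb⟩ := IsLocalization.integerNormalization_spec (nonZeroDivisors (R ⧸ p)) f
  let P0 := IsLocalization.integerNormalization (nonZeroDivisors (R ⧸ p)) f
  obtain ⟨P, hP, hPdeg⟩ := Polynomial.mem_lifts_and_degree_eq
    ((Polynomial.lifts_iff_coeff_lifts P0).2 fun n => Ideal.Quotient.mk_surjective (P0.coeff n) :
      P0 ∈ Polynomial.lifts (Ideal.Quotient.mk p))
  have hcomp : P.map (algebraMap R p.ResidueField) = algebraMap (R ⧸ p) p.ResidueField b • f := by
    rw [IsScalarTower.algebraMap_eq R (R ⧸ p) p.ResidueField, ← Polynomial.map_map,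
      show algebraMap R (R ⧸ p) = Ideal.Quotient.mk p from rfl, hP, hb, algebraMap_smul]
  have hbne : algebraMap (R ⧸ p) p.ResidueField b ≠ 0 := fun h => nonZeroDivisors.ne_zero hbm
    (IsFractionRing.injective (R ⧸ p) p.ResidueField (h.trans (map_zero _).symm))
  have hlead : P.leadingCoeff ∉ p := by
    intro h
    have h1 : P0.coeff P.natDegree = 0 := by
      rw [← hP, Polynomial.coeff_map, Ideal.Quotient.eq_zero_iff_mem]
      exact h
    have h3 : P0.natDegree = P.natDegree := (Polynomial.natDegree_eq_of_degree_eq hPdeg).symm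
    rw [← h3] at h1
    have h4 : P0 = 0 := Polynomial.leadingCoeff_eq_zero.1 h1
    have h5 : algebraMap (R ⧸ p) p.ResidueField b • f = 0 := by
      rw [← hcomp, IsScalarTower.algebraMap_eq R (R ⧸ p) p.ResidueField, ← Polynomial.map_map,
        show algebraMap R (R ⧸ p) = Ideal.Quotient.mk p from rfl, hP, h4, Polynomial.map_zero]
    exact hf.ne_zero ((smul_eq_zero.1 h5).resolve_left hbne)
  have hzero : (1 : p.ResidueField) ⊗ₜ[R] Polynomial.aeval x P = (0 : p.Fiber S) := by
    have h1 : Algebra.TensorProduct.includeRight (Polynomial.aeval x P) =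
        Polynomial.aeval ((1 : p.ResidueField) ⊗ₜ[R] x : p.Fiber S) P :=
      (Polynomial.aeval_algHom_apply (Algebra.TensorProduct.includeRight : S →ₐ[R] p.Fiber S) x P).symm
    refine h1.trans ?_
    rw [← Polynomial.aeval_map_algebraMap p.ResidueField, hcomp, map_smul]
    rw [show Polynomial.aeval ((1 : p.ResidueField) ⊗ₜ[R] x : p.Fiber S) f = 0 from hf0, smul_zero]
  have hmem : ∀ q : Ideal S, q.IsPrime → q.comap (algebraMap R S) = p → Polynomial.aeval x P ∈ q := by
    intro q hq hqp
    haveI : q.LiesOver p := ⟨hqp.symm⟩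
    let J := PrimeSpectrum.primesOverOrderIsoFiber R S p ⟨q, hq, inferInstance⟩
    have hJ : q = J.asIdeal.comap (Algebra.TensorProduct.includeRight : S →ₐ[R] p.Fiber S).toRingHom :=
      congr($((PrimeSpectrum.primesOverOrderIsoFiber R S p).symm_apply_apply ⟨q, hq, inferInstance⟩).1).symm
    rw [hJ, Ideal.mem_comap]
    change (1 : p.ResidueField) ⊗ₜ[R] Polynomial.aeval x P ∈ J.asIdeal
    rw [hzero]
    exact J.asIdeal.zero_mem
  let T : Submonoid S := p.primeCompl.map (algebraMap R S) ⊔ Submonoid.powers (Polynomial.aeval x P)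
  have h0 : (0 : S) ∈ T := by
    by_contra h0
    have hd : Disjoint ((⊥ : Ideal S) : Set S) (T : Set S) := by
      rw [Set.disjoint_left]
      intro y hy hyT
      rw [SetLike.mem_coe, Ideal.mem_bot] at hy
      exact h0 (hy ▸ hyT)
    obtain ⟨q, hq, -, hqd⟩ := Ideal.exists_le_prime_disjoint ⊥ T hd
    have hle : q.comap (algebraMap R S) ≤ p := fun r hr => by
      by_contra hrp
      exact Set.disjoint_left.1 hqd hr (Submonoid.mem_sup_left ⟨r, hrp, rfl⟩)
    have heq : q.comap (algebraMap R S) = p := le_antisymm hle (hp.2 ⟨inferInstance, bot_le⟩ hle)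
    exact Set.disjoint_left.1 hqd (hmem q hq heq) (Submonoid.mem_sup_right (Submonoid.mem_powers _))
  obtain ⟨_, ⟨t, ht, rfl⟩, _, ⟨N, rfl⟩, htN⟩ := Submonoid.mem_sup.1 h0
  refine ⟨Polynomial.C t * P ^ N, ?_, ?_⟩
  · have h1 : t * P.leadingCoeff ^ N ∉ p := fun h => by
      rcases Ideal.IsPrime.mem_or_mem inferInstance h with h | h
      · exact ht h
      · exact hlead (Ideal.IsPrime.mem_of_pow_mem inferInstance N h)
    have h2 : (P ^ N).leadingCoeff = P.leadingCoeff ^ N :=
      Polynomial.leadingCoeff_pow' fun h => h1 (by rw [h, mul_zero]; exact zero_mem p)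
    rw [Polynomial.leadingCoeff_mul', Polynomial.leadingCoeff_C, h2]
    · exact h1
    · rw [Polynomial.leadingCoeff_C, h2]
      exact fun h => h1 (by rw [h]; exact zero_mem p)
  · rw [map_mul, Polynomial.aeval_C, map_pow]
    exact htN



/-- Let R → S be of finite type and p a minimal prime of R over which only finitely many primes of S
lie. Then for some g ∈ R outside p the localized map R_g → S_g is finite. -/
theorem result (R S : Type u) [CommRing R] [CommRing S]
    [Algebra R S] [Algebra.FiniteType R S] (p : Ideal R) (hp : p ∈ minimalPrimes R)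
    (hfin : (p.primesOver S).Finite) :
    ∃ g : R, g ∉ p ∧ (Localization.awayMap (algebraMap R S) g).Finite := by
  haveI : p.IsPrime := hp.1.1
  obtain ⟨F, hF⟩ := (Algebra.FiniteType.out : (⊤ : Subalgebra R S).FG)
  choose Q hQ hQ0 using exists_poly R S p hp hfin
  classical
  let g : R := ∏ x ∈ F, (Q x).leadingCoeff
  refine ⟨g, fun h => ?_, ?_⟩
  · obtain ⟨x, -, hx⟩ := (Ideal.IsPrime.prod_mem_iff).1 h
    exact hQ x hx
  let Rg := Localization.Away g
  let Sg := Localization.Away (algebraMap R S g)
  letI : Algebra Rg Sg := (Localization.awayMap (algebraMap R S) g).toAlgebra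
  haveI : IsScalarTower R Rg Sg := IsScalarTower.of_algebraMap_eq fun r => by
    rw [RingHom.algebraMap_toAlgebra, Localization.awayMap, IsLocalization.Away.map, IsLocalization.map_eq,
      ← IsScalarTower.algebraMap_apply]
  change Module.Finite Rg Sg
  let T : Set Sg := algebraMap S Sg '' (F : Set S)
  have hint : ∀ y ∈ T, IsIntegral Rg y := by
    rintro _ ⟨x, hx, rfl⟩
    have hu : IsUnit (algebraMap R Rg (Q x).leadingCoeff) :=
      isUnit_of_dvd_unit
        (map_dvd (algebraMap R Rg) (Finset.dvd_prod_of_mem (fun x => (Q x).leadingCoeff) hx : (Q x).leadingCoeff ∣ g))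
        (IsLocalization.Away.algebraMap_isUnit g)
    have h0 : Polynomial.aeval (algebraMap S Sg x) ((Q x).map (algebraMap R Rg)) = 0 := by
      rw [Polynomial.aeval_map_algebraMap, Polynomial.aeval_algebraMap_apply, hQ0, map_zero]
    refine ⟨Polynomial.C (↑hu.unit⁻¹ : Rg) * (Q x).map (algebraMap R Rg), ?_, ?_⟩
    · rcases subsingleton_or_nontrivial Rg with hs | hs
      · exact Subsingleton.elim _ _
      · refine Polynomial.monic_C_mul_of_mul_leadingCoeff_eq_one ?_
        rw [Polynomial.leadingCoeff_map_of_leadingCoeff_ne_zero _ hu.ne_zero]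
        exact hu.val_inv_mul
    · rw [← Polynomial.aeval_def, map_mul, h0, mul_zero]
  have hT : Algebra.adjoin Rg T = ⊤ := by
    refine top_le_iff.1 fun y _ => ?_
    obtain ⟨s, ⟨_, n, rfl⟩, rfl⟩ := IsLocalization.exists_mk'_eq (Submonoid.powers (algebraMap R S g)) y
    have hle : (Algebra.adjoin R (F : Set S)).map (IsScalarTower.toAlgHom R S Sg) ≤
        (Algebra.adjoin Rg T).restrictScalars R := by
      rw [AlgHom.map_adjoin, Algebra.adjoin_le_iff]
      exact Algebra.subset_adjoin
    have hs : algebraMap S Sg s ∈ Algebra.adjoin Rg T := hle ⟨s, hF ▸ Algebra.mem_top, rfl⟩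
    have hu : IsUnit (algebraMap R Rg (g ^ n)) := by
      rw [map_pow]; exact (IsLocalization.Away.algebraMap_isUnit g).pow n
    have : IsLocalization.mk' Sg s (⟨_, n, rfl⟩ : Submonoid.powers (algebraMap R S g)) =
        (↑hu.unit⁻¹ : Rg) • algebraMap S Sg s := by
      rw [IsLocalization.mk'_eq_iff_eq_mul]
      rw [Algebra.smul_def, mul_comm (algebraMap Rg Sg _) _, mul_assoc]
      change _ = _ * (_ * algebraMap S Sg (algebraMap R S g ^ n))
      rw [← map_pow (algebraMap R S), ← IsScalarTower.algebraMap_apply R S Sg,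
        IsScalarTower.algebraMap_apply R Rg Sg, ← map_mul, IsUnit.val_inv_mul, map_one, mul_one]
    rw [this]
    exact Subalgebra.smul_mem _ hs _
  refine ⟨?_⟩
  have := fg_adjoin_of_finite ((F.finite_toSet).image (algebraMap S Sg)) hint
  rwa [hT, Algebra.top_toSubmodule] at this


end Groth.Agent.S9135
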