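import Groth.Statements.S9136
import Groth.Agent.KrullAkiExt.Basic
import Groth.Agent.CycLib.SemiLen
import Mathlib

set_option autoImplicit false
universe u
open CAlg

namespace Groth.Agent.S9136
open IsLocalRing
open scoped Pointwise

theorem length_quot_two_step {A M : Type*} [CommRing A] [AddCommGroup M] [Module A M] {G H : Submodule A M}
    (h : G ≤ H) : Module.length A (M ⧸ G) = Module.length A (H ⧸ G.comap H.subtype) + Module.length A (M ⧸ H) := by
  refine Module.length_eq_add_of_exact (Submodule.mapQ _ _ H.subtype le_rfl) (Submodule.factor h) ?_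
    (Submodule.factor_surjective h) ?_
  · rw [← LinearMap.ker_eq_bot, eq_bot_iff]
    intro y hy
    obtain ⟨y, rfl⟩ := Submodule.Quotient.mk_surjective _ y
    rw [LinearMap.mem_ker, Submodule.mapQ_apply, Submodule.Quotient.mk_eq_zero] at hy
    rw [Submodule.mem_bot, Submodule.Quotient.mk_eq_zero]
    exact hy
  · intro y
    obtain ⟨y, rfl⟩ := Submodule.Quotient.mk_surjective _ y
    constructor
    · intro hy
      exact ⟨Submodule.Quotient.mk ⟨y, (Submodule.Quotient.mk_eq_zero H).1 hy⟩, rfl⟩
    · rintro ⟨z, hz⟩
      obtain ⟨z, rfl⟩ := Submodule.Quotient.mk_surjective _ z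
      rw [← hz]
      exact (Submodule.Quotient.mk_eq_zero H).2 z.2

theorem length_quot_eq {A M : Type*} [CommRing A] [AddCommGroup M] [Module A M] (F : Submodule A M) (x : A)
    (hx : Function.Injective (LinearMap.lsmul A M x)) (hfin : Module.length A (M ⧸ F) ≠ ⊤) :
    Module.length A (M ⧸ LinearMap.range (LinearMap.lsmul A M x)) =
      Module.length A (F ⧸ LinearMap.range (LinearMap.lsmul A F x)) := by
  let G := F.map (LinearMap.lsmul A M x)
  let H := LinearMap.range (LinearMap.lsmul A M x)
  have hGF : G ≤ F := by rintro _ ⟨y, hy, rfl⟩; exact F.smul_mem x hy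
  have hGH : G ≤ H := by rintro _ ⟨y, _, rfl⟩; exact ⟨y, rfl⟩
  have e1 : G.comap F.subtype = LinearMap.range (LinearMap.lsmul A F x) := by
    ext y
    constructor
    · rintro ⟨z, hz, e⟩; exact ⟨⟨z, hz⟩, Subtype.ext e⟩
    · rintro ⟨z, rfl⟩; exact ⟨z, z.2, rfl⟩
  let g : M →ₗ[A] H ⧸ G.comap H.subtype := (G.comap H.subtype).mkQ.comp (LinearMap.lsmul A M x).rangeRestrict
  have hg : Function.Surjective g :=
    (Submodule.mkQ_surjective _).comp (LinearMap.surjective_rangeRestrict _)
  have hker : LinearMap.ker g = F := by
    ext y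
    simp only [g, LinearMap.mem_ker, LinearMap.comp_apply, Submodule.mkQ_apply, Submodule.Quotient.mk_eq_zero,
      Submodule.mem_comap]
    constructor
    · rintro ⟨z, hz, e⟩; exact hx e ▸ hz
    · exact fun hy => ⟨y, hy, rfl⟩
  have e2 : Module.length A (H ⧸ G.comap H.subtype) = Module.length A (M ⧸ F) :=
    (((Submodule.quotEquivOfEq _ _ hker.symm).trans (g.quotKerEquivOfSurjective hg)).length_eq).symm
  have := (length_quot_two_step hGF).symm.trans (length_quot_two_step hGH)
  rw [e2, (Submodule.quotEquivOfEq _ _ e1).length_eq, add_comm] at this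
  exact ((ENat.addLECancellable_of_ne_top hfin).inj.1 this).symm

theorem length_quot_free {A M : Type*} [CommRing A] [AddCommGroup M] [Module A M] {ι : Type*} [Fintype ι]
    (b : Module.Basis ι A M) (x : A) :
    Module.length A (M ⧸ LinearMap.range (LinearMap.lsmul A M x)) =
      (Fintype.card ι : ℕ∞) * Module.length A (A ⧸ Ideal.span ({x} : Set A)) := by
  let g : M →ₗ[A] ι → A ⧸ Ideal.span ({x} : Set A) :=
    ((Ideal.span ({x} : Set A)).mkQ.compLeft ι).comp b.equivFun.toLinearMap
  have hg : Function.Surjective g := fun z => by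
    choose w hw using fun i => Submodule.mkQ_surjective (Ideal.span ({x} : Set A)) (z i)
    refine ⟨b.equivFun.symm w, funext fun i => ?_⟩
    show Submodule.Quotient.mk (b.equivFun (b.equivFun.symm w) i) = z i
    rw [LinearEquiv.apply_symm_apply]
    exact hw i
  have hker : LinearMap.ker g = LinearMap.range (LinearMap.lsmul A M x) := by
    ext y
    constructor
    · intro hy
      have : ∀ i, ∃ c, x * c = b.equivFun y i := fun i => by
        have h := congrFun (LinearMap.mem_ker.1 hy) i
        obtain ⟨c, hc⟩ := Ideal.mem_span_singleton'.1 ((Submodule.Quotient.mk_eq_zero _).1 h)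
        exact ⟨c, by rw [mul_comm]; exact hc⟩
      choose c hc using this
      refine ⟨b.equivFun.symm c, b.equivFun.injective (funext fun i => ?_)⟩
      rw [LinearMap.lsmul_apply, map_smul, LinearEquiv.apply_symm_apply, Pi.smul_apply, smul_eq_mul, hc]
    · rintro ⟨z, rfl⟩
      refine LinearMap.mem_ker.2 (funext fun i => (Submodule.Quotient.mk_eq_zero _).2 ?_)
      refine Ideal.mem_span_singleton'.2 ⟨b.equivFun z i, ?_⟩
      simp [mul_comm]
  rw [((Submodule.quotEquivOfEq _ _ hker.symm).trans (g.quotKerEquivOfSurjective hg)).length_eq,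
    Module.length_pi_of_fintype, Finset.sum_const, Finset.card_univ, nsmul_eq_mul]

theorem length_quot_lattice {A K L : Type u} [CommRing A] [IsDomain A] [IsNoetherianRing A]
    [Ring.KrullDimLE 1 A] [Field K] [Algebra A K] [IsFractionRing A K] [AddCommGroup L] [Module K L]
    [Module A L] [IsScalarTower A K L] [FiniteDimensional K L] (M : Type u) [AddCommGroup M] [Module A M]
    [Module.Finite A M] (f : M →ₗ[A] L) (hf : Function.Injective f)
    (hspan : Submodule.span K (Set.range f) = ⊤) (x : A) (hx : x ≠ 0) :
    Module.length A (M ⧸ LinearMap.range (LinearMap.lsmul A M x)) =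
      (Module.finrank K L : ℕ∞) * Module.length A (A ⧸ Ideal.span ({x} : Set A)) := by
  classical
  obtain ⟨t, hts, htspan, hli⟩ := exists_linearIndependent K (Set.range f)
  haveI : Fintype t := hli.setFinite.fintype
  choose v hv using fun i : t => hts i.2
  let bK : Module.Basis t K L := Module.Basis.mk hli (by rw [Subtype.range_coe, htspan, hspan])
  have hliM : LinearIndependent A v := by
    refine LinearIndependent.of_comp f ?_
    rw [show (f ∘ v) = fun i : t => (i : L) from funext hv]
    exact (LinearIndependent.iff_fractionRing A K).2 hli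
  let F := Submodule.span A (Set.range v)
  have hker : ∀ c : A, c ≠ 0 → Function.Injective (LinearMap.lsmul A M c) := fun c hc a b h => hf (by
    have := congrArg f h
    simp only [LinearMap.lsmul_apply, map_smul, ← algebraMap_smul K c] at this
    exact smul_right_injective L ((map_ne_zero_iff _ (IsFractionRing.injective A K)).2 hc) this)
  have hden : ∀ m : M, ∃ c : A, c ≠ 0 ∧ c • m ∈ F := fun m => by
    obtain ⟨c, hc⟩ := IsLocalization.exist_integer_multiples (nonZeroDivisors A) (Finset.univ : Finset t)
      (fun i => bK.repr (f m) i)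
    refine ⟨c, nonZeroDivisors.ne_zero c.2, ?_⟩
    choose a ha using fun i : t => hc i (Finset.mem_univ i)
    have : (c : A) • m = ∑ i, a i • v i := hf (by
      rw [map_smul, map_sum]
      conv_lhs => rw [← bK.sum_repr (f m), Finset.smul_sum]
      refine Finset.sum_congr rfl fun i _ => ?_
      rw [map_smul, hv, ← algebraMap_smul K (a i), ha, smul_assoc, Module.Basis.mk_apply])
    rw [this]
    exact Submodule.sum_mem _ fun i _ => Submodule.smul_mem _ _ (Submodule.subset_span ⟨i, rfl⟩)
  obtain ⟨s, hs⟩ := Module.Finite.fg_top (R := A) (M := M)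
  choose c hc0 hc using hden
  let d := ∏ m ∈ s, c m
  have hd : d ≠ 0 := Finset.prod_ne_zero_iff.2 fun m _ => hc0 m
  have hdF : ∀ m : M, d • m ∈ F := by
    have : Submodule.span A (s : Set M) ≤ F.comap (LinearMap.lsmul A M d) := Submodule.span_le.2 fun m hm => by
      show d • m ∈ F
      simp only [d]
      rw [← Finset.prod_erase_mul _ _ (Finset.mem_coe.1 hm), mul_smul]
      exact F.smul_mem _ (hc m)
    rw [hs] at this
    exact fun m => this Submodule.mem_top
  have hfin : Module.length A (M ⧸ F) ≠ ⊤ := by
    have h1 := Module.length_ne_top_iff.2 (Groth.Agent.KrullAkiExt.isFiniteLength_quotient_smul (R := A) (K := K)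
      _ L le_rfl M f hf d hd)
    have hle : d • (⊤ : Submodule A M) ≤ F := fun y hy => by
      obtain ⟨z, -, rfl⟩ := (Submodule.mem_smul_pointwise_iff_exists _ _ _).1 hy
      exact hdF z
    exact ne_top_of_le_ne_top h1
      (Module.length_le_of_surjective (Submodule.factor hle) (Submodule.factor_surjective hle))
  rw [length_quot_eq F x (hker x hx) hfin, length_quot_free (Module.Basis.span hliM) x,
    Module.finrank_eq_card_basis bK]


/-- Let A ⊆ B be a finite type extension of domains, A Noetherian local of dimension one, with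
compatible fraction fields K ⊆ L and L finite over K. Then B has finitely many maximal ideals, and
for a nonzero x in the maximal ideal of A the sum over the maximal ideals m of B of (length of B/m
over A, i.e. the residue degree) times (length of B_m / x B_m over B_m) is at most the degree of L
over K times the length of A/xA; equality holds exactly when B is a finite A-module. -/
theorem result (A B K L : Type u)
    [CommRing A] [IsDomain A] [IsNoetherianRing A] [IsLocalRing A] (hdim : ringKrullDim A = 1)
    [CommRing B] [IsDomain B] [Algebra A B] [FaithfulSMul A B] [Algebra.FiniteType A B]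
    [Field K] [Field L] [Algebra A K] [IsFractionRing A K] [Algebra B L] [IsFractionRing B L]
    [Algebra K L] [Algebra A L] [IsScalarTower A K L] [IsScalarTower A B L] [FiniteDimensional K L]
    (x : A) (hx : x ∈ IsLocalRing.maximalIdeal A) (hx0 : x ≠ 0) :
    Finite (MaximalSpectrum B) ∧
      (∑ᶠ m : MaximalSpectrum B,
          Module.length A (B ⧸ m.asIdeal) *
            Module.length (Localization.AtPrime m.asIdeal)
              (Localization.AtPrime m.asIdeal ⧸
                Ideal.span ({algebraMap A (Localization.AtPrime m.asIdeal) x} : Set _)) ≤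
        (Module.finrank K L : ℕ∞) * Module.length A (A ⧸ Ideal.span ({x} : Set A))) ∧
      ((∑ᶠ m : MaximalSpectrum B,
          Module.length A (B ⧸ m.asIdeal) *
            Module.length (Localization.AtPrime m.asIdeal)
              (Localization.AtPrime m.asIdeal ⧸
                Ideal.span ({algebraMap A (Localization.AtPrime m.asIdeal) x} : Set _)) =
        (Module.finrank K L : ℕ∞) * Module.length A (A ⧸ Ideal.span ({x} : Set A))) ↔ Module.Finite A B) := by
  classical
  haveI : Ring.KrullDimLE 1 A := Ring.krullDimLE_iff.2 (by rw [hdim]; norm_num)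
  have hBL : Function.Injective (algebraMap B L) := IsFractionRing.injective B L
  have hAB : Function.Injective (algebraMap A B) := FaithfulSMul.algebraMap_injective A B
  have hnotfield : ¬ IsUnit x := (IsLocalRing.mem_maximalIdeal x).1 hx
  let Q := B ⧸ Ideal.span ({algebraMap A B x} : Set B)
  have hspanA : (x • (⊤ : Submodule A B)) = (Ideal.span ({algebraMap A B x} : Set B)).restrictScalars A := by
    ext y
    rw [Submodule.mem_smul_pointwise_iff_exists, Submodule.restrictScalars_mem, Ideal.mem_span_singleton']
    exact ⟨fun ⟨b, _, hb⟩ => ⟨b, by rw [← hb, Algebra.smul_def, mul_comm]⟩,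
      fun ⟨b, hb⟩ => ⟨b, trivial, by rw [← hb, Algebra.smul_def, mul_comm]⟩⟩
  have hQlen : IsFiniteLength A Q := by
    have h := Groth.Agent.KrullAkiExt.isFiniteLength_quotient_map (R := A) (K := K) L B hBL hx0
    exact ((Submodule.quotEquivOfEq _ _ hspanA).trans (Submodule.Quotient.restrictScalarsEquiv A _)).isFiniteLength h
  haveI : IsArtinian A Q := (isFiniteLength_iff_isNoetherian_isArtinian.1 hQlen).2
  haveI : IsNoetherian A Q := (isFiniteLength_iff_isNoetherian_isArtinian.1 hQlen).1
  have hbot : ∀ M : Ideal B, M.IsMaximal → algebraMap A B x ∉ M → M = ⊥ := fun M hM hxM => by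
    by_contra hne
    obtain ⟨a, ha, haM⟩ := Groth.Agent.KrullAkiExt.exists_ne_zero_mem (R := A) (K := K) L B hBL hne
    haveI := hM.isPrime
    have hmax : (M.comap (algebraMap A B)).IsMaximal :=
      Groth.Agent.KrullAki.isMaximal_of_ne_bot fun h => ha (by rw [← Ideal.mem_bot, ← h]; exact haM)
    exact hxM (show x ∈ M.comap (algebraMap A B) by rw [IsLocalRing.eq_maximalIdeal hmax]; exact hx)
  have hall : ¬ IsUnit (algebraMap A B x) → ∀ M : Ideal B, M.IsMaximal → algebraMap A B x ∈ M := by
    intro hu M hM
    by_contra hxM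
    have hM0 := hbot M hM hxM
    subst hM0
    refine hu (by_contra fun h => ?_)
    obtain ⟨M', hM', hxM'⟩ := exists_max_ideal_of_mem_nonunits h
    have hx0B : algebraMap A B x ≠ 0 := (map_ne_zero_iff _ hAB).2 hx0
    exact hxM ((hM.eq_of_le hM'.ne_top bot_le).symm ▸ hxM')
  haveI hfinMax : Finite (MaximalSpectrum B) := by
    by_cases hu : IsUnit (algebraMap A B x)
    · have : ∀ M : MaximalSpectrum B, M.asIdeal = ⊥ := fun M =>
        hbot _ M.isMaximal fun h => M.isMaximal.ne_top (Ideal.eq_top_of_isUnit_mem _ h hu)
      haveI : Subsingleton (MaximalSpectrum B) := ⟨fun a b => MaximalSpectrum.ext ((this a).trans (this b).symm)⟩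
      infer_instance
    · haveI : IsArtinianRing Q := isArtinian_of_tower A inferInstance
      let toQ : MaximalSpectrum B → MaximalSpectrum Q := fun M =>
        haveI := M.isMaximal
        ⟨M.asIdeal.map (Ideal.Quotient.mk _), Ideal.IsMaximal.map_of_surjective_of_ker_le
          Ideal.Quotient.mk_surjective (by
            rw [Ideal.mk_ker, Ideal.span_singleton_le_iff_mem]; exact hall hu _ M.isMaximal)⟩
      refine Finite.of_injective toQ fun a b h => MaximalSpectrum.ext ?_
      have := congrArg (fun M : MaximalSpectrum Q => M.asIdeal.comap (Ideal.Quotient.mk _)) h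
      simp only [toQ, Ideal.comap_map_of_surjective _ Ideal.Quotient.mk_surjective, ← RingHom.ker_eq_comap_bot,
        Ideal.mk_ker] at this
      rwa [sup_eq_left.2 ((Ideal.span_singleton_le_iff_mem _).2 (hall hu _ a.isMaximal)),
        sup_eq_left.2 ((Ideal.span_singleton_le_iff_mem _).2 (hall hu _ b.isMaximal))] at this
  refine ⟨inferInstance, ?_⟩
  have hsum : (∑ᶠ m : MaximalSpectrum B,
      Module.length A (B ⧸ m.asIdeal) *
        Module.length (Localization.AtPrime m.asIdeal)
          (Localization.AtPrime m.asIdeal ⧸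
            Ideal.span ({algebraMap A (Localization.AtPrime m.asIdeal) x} : Set _))) = Module.length A Q := by
    by_cases hu : IsUnit (algebraMap A B x)
    · have hQ : Subsingleton Q := Ideal.Quotient.subsingleton_iff.2 (Ideal.span_singleton_eq_top.2 hu)
      rw [Module.length_eq_zero_iff.2 hQ]
      refine finsum_eq_zero_of_forall_eq_zero fun m => ?_
      have : Subsingleton (Localization.AtPrime m.asIdeal ⧸
          Ideal.span ({algebraMap A (Localization.AtPrime m.asIdeal) x} : Set _)) := by
        refine Ideal.Quotient.subsingleton_iff.2 (Ideal.span_singleton_eq_top.2 ?_)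
        rw [IsScalarTower.algebraMap_apply A B (Localization.AtPrime m.asIdeal)]
        exact hu.map _
      rw [Module.length_eq_zero_iff.2 this, mul_zero]
    · haveI := Fintype.ofFinite (MaximalSpectrum B)
      haveI hloc : ∀ m : MaximalSpectrum B, IsLocalHom (algebraMap A (Localization.AtPrime m.asIdeal)) := fun m => by
        refine ⟨fun a ha => ?_⟩
        by_contra hau
        rw [IsScalarTower.algebraMap_apply A B (Localization.AtPrime m.asIdeal)] at ha
        have hnm := (IsLocalization.AtPrime.isUnit_to_map_iff (Localization.AtPrime m.asIdeal) m.asIdeal _).1 ha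
        haveI : (m.asIdeal.comap (algebraMap A B)).IsPrime := Ideal.comap_isPrime _ _
        have hne : m.asIdeal.comap (algebraMap A B) ≠ ⊥ := fun h0 => hx0 (by
          rw [← Ideal.mem_bot, ← h0]; exact hall hu _ m.isMaximal)
        apply hnm
        show a ∈ m.asIdeal.comap (algebraMap A B)
        rw [IsLocalRing.eq_maximalIdeal (Groth.Agent.KrullAki.isMaximal_of_ne_bot hne), IsLocalRing.mem_maximalIdeal]
        exact hau
      have hlen : ∀ m : MaximalSpectrum B, Module.length A (B ⧸ m.asIdeal) =
          Module.length (ResidueField A) (ResidueField (Localization.AtPrime m.asIdeal)) := fun m => by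
        let e0 := IsLocalization.AtPrime.equivQuotMaximalIdeal m.asIdeal (Localization.AtPrime m.asIdeal)
        let e : (B ⧸ m.asIdeal) ≃ₗ[A] ResidueField (Localization.AtPrime m.asIdeal) :=
          { e0.toAddEquiv with
            map_smul' := fun r y => by
              obtain ⟨y, rfl⟩ := Ideal.Quotient.mk_surjective y
              show e0 (Ideal.Quotient.mk _ (r • y)) = r • e0 (Ideal.Quotient.mk _ y)
              rw [IsLocalization.AtPrime.equivQuotMaximalIdeal_apply_mk,
                IsLocalization.AtPrime.equivQuotMaximalIdeal_apply_mk, Algebra.smul_def, map_mul, map_mul,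
                ← IsScalarTower.algebraMap_apply, Algebra.smul_def]
              rfl }
        rw [e.length_eq, Module.length_eq_of_surjective (residue_surjective (R := A))]
      have hord : ∀ m : MaximalSpectrum B, Ring.ord (Localization.AtPrime m.asIdeal)
          (algebraMap B (Localization.AtPrime m.asIdeal) (algebraMap A B x)) ≠ ⊤ := fun m => by
        rw [← IsScalarTower.algebraMap_apply]
        let L' := Localization.AtPrime m.asIdeal
        let φ : B →+* L := algebraMap B L
        have hunit : ∀ y : m.asIdeal.primeCompl, IsUnit (algebraMap B L y) := fun y =>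
          IsUnit.mk0 _ ((map_ne_zero_iff _ hBL).2 fun h0 => y.2 (by rw [h0]; exact zero_mem _))
        letI : Algebra L' L := (IsLocalization.lift (M := m.asIdeal.primeCompl) hunit).toAlgebra
        haveI : IsScalarTower B L' L := IsScalarTower.of_algebraMap_eq fun b =>
          (IsLocalization.lift_eq (M := m.asIdeal.primeCompl) hunit b).symm
        haveI : IsScalarTower A L' L := IsScalarTower.of_algebraMap_eq fun a => by
          rw [IsScalarTower.algebraMap_apply A B L', ← IsScalarTower.algebraMap_apply B L' L,
            ← IsScalarTower.algebraMap_apply A B L]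
        haveI := IsFractionRing.isFractionRing_of_isDomain_of_isLocalization m.asIdeal.primeCompl L' L
        have h := Groth.Agent.KrullAkiExt.isArtinian_quotient (R := A) (K := K) L L' (IsFractionRing.injective L' L)
          (J := Ideal.span ({algebraMap A L' x} : Set L')) hx0 (Ideal.mem_span_singleton_self _)
        obtain ⟨hN, hA'⟩ := isFiniteLength_iff_isNoetherian_isArtinian.1 h
        exact Module.length_ne_top_iff.2 (isFiniteLength_iff_isNoetherian_isArtinian.2
          ⟨isNoetherian_of_tower A hN, isArtinian_of_tower A hA'⟩)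
      haveI : ∀ m : MaximalSpectrum B, m.asIdeal.IsMaximal := fun m => m.isMaximal
      rw [finsum_eq_sum_of_fintype]
      refine Eq.trans ?_ (Groth.Agent.CycLib.length_quotient_eq_sum (A := A)
        (fun m : MaximalSpectrum B => Localization.AtPrime m.asIdeal) (fun m => m.asIdeal)
        (fun a b h => MaximalSpectrum.ext h) (fun M hM => ⟨⟨M, hM⟩, rfl⟩) (algebraMap A B x) hord).symm
      refine Finset.sum_congr rfl fun m _ => ?_
      rw [hlen m, mul_comm, ← IsScalarTower.algebraMap_apply]
      rfl
  rw [hsum]
  let f : B →ₗ[A] L := (IsScalarTower.toAlgHom A B L).toLinearMap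
  have hden : ∀ z : L, ∃ a : A, a ≠ 0 ∧ ∃ b : B, a • z = f b := fun z => by
    obtain ⟨b, s, hs, rfl⟩ := IsFractionRing.div_surjective (A := B) z
    have hs0 : s ≠ 0 := nonZeroDivisors.ne_zero hs
    obtain ⟨a, ha, haM⟩ := Groth.Agent.KrullAkiExt.exists_ne_zero_mem (R := A) (K := K) L B hBL
      (J := Ideal.span {s}) (by simpa [Ideal.span_singleton_eq_bot] using hs0)
    obtain ⟨c, hc⟩ := Ideal.mem_span_singleton'.1 haM
    refine ⟨a, ha, b * c, ?_⟩
    show a • _ = algebraMap B L (b * c)
    rw [Algebra.smul_def, IsScalarTower.algebraMap_apply A B L, ← hc, map_mul, map_mul, mul_assoc,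
      mul_div_cancel₀ _ ((map_ne_zero_iff _ hBL).2 hs0), mul_comm]
  have hBspan : Submodule.span K (Set.range f) = ⊤ := eq_top_iff.2 fun z _ => by
    obtain ⟨a, ha, b, hb⟩ := hden z
    have : z = (algebraMap A K a)⁻¹ • f b := by
      rw [← hb, ← algebraMap_smul K a z, inv_smul_smul₀ ((map_ne_zero_iff _ (IsFractionRing.injective A K)).2 ha)]
    rw [this]; exact Submodule.smul_mem _ _ (Submodule.subset_span ⟨b, rfl⟩)
  -- a lattice inside `B` mapping onto `B / xB`
  obtain ⟨t, hts, htspan, hli⟩ := exists_linearIndependent K (Set.range f)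
  haveI : Fintype t := hli.setFinite.fintype
  choose v hv using fun i : t => hts i.2
  obtain ⟨s, hs⟩ := Module.Finite.fg_top (R := A) (M := Q)
  choose w hw using fun q : Q => Ideal.Quotient.mk_surjective (I := Ideal.span ({algebraMap A B x} : Set B)) q
  let N := Submodule.span A (Set.range v ∪ w '' s)
  haveI : Module.Finite A N := Module.Finite.iff_fg.2
    (Submodule.fg_def.2 ⟨_, (Set.finite_range v).union (s.finite_toSet.image w), rfl⟩)
  have hNspan : Submodule.span K (Set.range (f.comp N.subtype)) = ⊤ := by
    rw [eq_top_iff, ← hBspan, ← htspan, Submodule.span_le]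
    intro z hz
    exact Submodule.subset_span ⟨⟨v ⟨z, hz⟩, Submodule.subset_span (Or.inl ⟨_, rfl⟩)⟩, hv ⟨z, hz⟩⟩
  have hNlen := length_quot_lattice (K := K) N (f.comp N.subtype) (hBL.comp Subtype.val_injective) hNspan x hx0
  let πB : B →ₗ[A] Q := (Ideal.Quotient.mkₐ A _).toLinearMap
  let g : (N ⧸ LinearMap.range (LinearMap.lsmul A N x)) →ₗ[A] Q :=
    Submodule.liftQ _ (πB.comp N.subtype) (by
      rintro _ ⟨y, rfl⟩
      rw [LinearMap.mem_ker]
      show Ideal.Quotient.mk _ (x • (y : B)) = 0
      rw [Ideal.Quotient.eq_zero_iff_mem, Algebra.smul_def]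
      exact Ideal.mul_mem_right _ _ (Ideal.mem_span_singleton_self _))
  have hg : Function.Surjective g := by
    rw [← LinearMap.range_eq_top, eq_top_iff, ← hs, Submodule.span_le]
    intro q hq
    exact ⟨Submodule.Quotient.mk ⟨w q, Submodule.subset_span (Or.inr ⟨q, hq, rfl⟩)⟩, hw q⟩
  refine ⟨(Module.length_le_of_surjective g hg).trans hNlen.le, fun heq => ?_, fun hfin => ?_⟩
  · -- equality: the lattice is everything
    have hadd := Module.length_eq_add_of_exact (LinearMap.ker g).subtype g Subtype.val_injective hg
      (LinearMap.exact_subtype_ker_map g)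
    rw [hNlen, ← heq] at hadd
    have hker : Module.length A (LinearMap.ker g) = 0 := by
      have h2 : Module.length A Q ≠ ⊤ := Module.length_ne_top_iff.2 hQlen
      exact (ENat.addLECancellable_of_ne_top h2).inj.1 (show Module.length A Q + _ = Module.length A Q + 0 by
        rw [add_zero, add_comm]; exact hadd.symm)
    haveI := Module.length_eq_zero_iff.1 hker
    have hdesc : ∀ b : B, x • b ∈ N → b ∈ N := fun b hb => by
      have h0 : (⟨Submodule.Quotient.mk ⟨x • b, hb⟩, by
          rw [LinearMap.mem_ker]
          show Ideal.Quotient.mk _ (x • b) = 0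
          rw [Ideal.Quotient.eq_zero_iff_mem, Algebra.smul_def]
          exact Ideal.mul_mem_right _ _ (Ideal.mem_span_singleton_self _)⟩ : LinearMap.ker g) = 0 :=
        Subsingleton.elim _ _
      obtain ⟨y, hy⟩ := (Submodule.Quotient.mk_eq_zero _).1 (congrArg Subtype.val h0)
      have hy' : x • (y : B) = x • b := congrArg Subtype.val hy
      rw [Algebra.smul_def, Algebra.smul_def] at hy'
      rw [← mul_left_cancel₀ ((map_ne_zero_iff _ hAB).2 hx0) hy']
      exact y.2
    have hN : N = ⊤ := eq_top_iff.2 fun b _ => by
      have hb : f b ∈ Submodule.span K (Set.range (f.comp N.subtype)) := hNspan ▸ Submodule.mem_top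
      obtain ⟨c, hc0, hc⟩ : ∃ c : A, c ≠ 0 ∧ c • b ∈ N := by
        refine Submodule.span_induction (p := fun z _ => ∃ c : A, c ≠ 0 ∧ ∃ n ∈ N, c • z = f n) ?_ ?_ ?_ ?_ hb
          |>.imp fun c ⟨hc, n, hn, e⟩ => ⟨hc, by rw [show c • b = n from hBL (by
            have := (map_smul f c b).trans e; exact this)]; exact hn⟩
        · rintro _ ⟨n, rfl⟩; exact ⟨1, one_ne_zero, n, n.2, one_smul _ _⟩
        · exact ⟨1, one_ne_zero, 0, zero_mem _, by rw [map_zero, smul_zero]⟩
        · rintro y z _ _ ⟨c, hc, n, hn, e⟩ ⟨c', hc', n', hn', e'⟩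
          exact ⟨c * c', mul_ne_zero hc hc', c' • n + c • n', add_mem (N.smul_mem _ hn) (N.smul_mem _ hn'), by
            rw [map_add, map_smul, map_smul, ← e, ← e', smul_add, smul_smul, smul_smul, mul_comm c c']⟩
        · rintro k y _ ⟨c, hc, n, hn, e⟩
          obtain ⟨p, q, hq, rfl⟩ := IsFractionRing.div_surjective (A := A) k
          refine ⟨c * q, mul_ne_zero hc (nonZeroDivisors.ne_zero hq), p • n, N.smul_mem _ hn, ?_⟩
          rw [map_smul, ← e, ← algebraMap_smul K (c * q), ← algebraMap_smul K p, ← algebraMap_smul K c,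
            smul_smul, smul_smul, map_mul]
          congr 1
          rw [mul_assoc, mul_div_cancel₀ _ ((map_ne_zero_iff _ (IsFractionRing.injective A K)).2
            (nonZeroDivisors.ne_zero hq)), mul_comm]
      obtain ⟨k, hk⟩ : x ∈ (Ideal.span ({c} : Set A)).radical := by
        rw [Ideal.radical_eq_sInf, Submodule.mem_sInf]
        rintro P ⟨hcP, hP⟩
        haveI := hP
        rw [IsLocalRing.eq_maximalIdeal (Groth.Agent.KrullAki.isMaximal_of_ne_bot (P := P) fun h0 => hc0 (by
          rw [← Ideal.mem_bot, ← h0]; exact hcP (Ideal.mem_span_singleton_self c)))]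
        exact hx
      obtain ⟨a, ha⟩ := Ideal.mem_span_singleton'.1 hk
      have hk' : (x ^ k) • b ∈ N := by rw [← ha, mul_smul]; exact N.smul_mem _ hc
      clear ha hk
      induction k with
      | zero => simpa using hk'
      | succ k ih => exact ih (hdesc _ (by rwa [smul_smul, ← pow_succ']))
    exact Module.Finite.of_fg_top (hN ▸ Module.Finite.iff_fg.1 (inferInstance : Module.Finite A N))
  · have h := length_quot_lattice (K := K) B f hBL hBspan x hx0
    rw [← h]
    refine LinearEquiv.length_eq (((Submodule.quotEquivOfEq _ _ ?_).trans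
      (Submodule.Quotient.restrictScalarsEquiv A _)).symm)
    ext y
    rw [Submodule.restrictScalars_mem, Ideal.mem_span_singleton']
    exact ⟨fun ⟨b, hb⟩ => ⟨b, by rw [← hb, LinearMap.lsmul_apply, Algebra.smul_def, mul_comm]⟩,
      fun ⟨b, hb⟩ => ⟨b, by rw [← hb, LinearMap.lsmul_apply, Algebra.smul_def, mul_comm]⟩⟩


end Groth.Agent.S9136
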