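import Groth.Statements.S9137
import Mathlib

set_option autoImplicit false
universe u
open CAlg

namespace Groth.Agent.S9137

/-- Let R → S be a local ring homomorphism between local rings, essentially of finite type, such that
the residue field of S is finite over that of R and S/m_R S has dimension zero. Then S is, as an
R-algebra, the localization of a finite R-algebra at a prime. -/
theorem result (R S : Type u) [CommRing R] [CommRing S]
    [IsLocalRing R] [IsLocalRing S] [Algebra R S] [IsLocalHom (algebraMap R S)]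
    [Algebra.EssFiniteType R S]
    (hres : Module.Finite (IsLocalRing.ResidueField R) (IsLocalRing.ResidueField S))
    (hdim : ringKrullDim (S ⧸ (IsLocalRing.maximalIdeal R).map (algebraMap R S)) = 0) :
    ∃ (S' : Type u) (_ : CommRing S') (_ : Algebra R S') (_ : Algebra S' S) (_ : IsScalarTower R S' S)
      (q : Ideal S') (_ : q.IsPrime), Module.Finite R S' ∧ IsLocalization.AtPrime S q := by
  classical
  set m : Ideal R := IsLocalRing.maximalIdeal R with hm
  let I : Ideal S := m.map (algebraMap R S)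
  have hc : (IsLocalRing.maximalIdeal S).comap (algebraMap R S) = IsLocalRing.maximalIdeal R := by
    ext x
    simp [IsLocalRing.mem_maximalIdeal, mem_nonunits_iff, isUnit_map_iff]
  have hI : I ≤ IsLocalRing.maximalIdeal S := by
    rw [Ideal.map_le_iff_le_comap, hc]
  have hne : I ≠ ⊤ := fun h => IsLocalRing.maximalIdeal.isMaximal S |>.ne_top (top_le_iff.1 (h ▸ hI))
  haveI : Nontrivial (S ⧸ I) := Ideal.Quotient.nontrivial_iff.mpr hne
  haveI hloc : IsLocalRing (S ⧸ I) :=
    IsLocalRing.of_surjective' (Ideal.Quotient.mk I) Ideal.Quotient.mk_surjective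
  haveI : IsNoetherianRing (S ⧸ I) := by
    letI : Field (R ⧸ m) := Ideal.Quotient.field m
    haveI : Algebra.EssFiniteType (R ⧸ m) (S ⧸ I) := inferInstanceAs
      (Algebra.EssFiniteType (R ⧸ m) (S ⧸ m.map (algebraMap R S)))
    exact Algebra.EssFiniteType.isNoetherianRing (R ⧸ m) (S ⧸ I)
  haveI : Ring.KrullDimLE 0 (S ⧸ I) := Ring.krullDimLE_iff.mpr (by rw [hdim]; rfl)
  let f : (S ⧸ I) →ₐ[R] IsLocalRing.ResidueField S :=
    Ideal.Quotient.liftₐ I (IsScalarTower.toAlgHom R S (IsLocalRing.ResidueField S)) (by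
      intro a ha
      exact Ideal.Quotient.eq_zero_iff_mem.mpr (hI ha))
  have hf : Function.Surjective f := by
    intro y
    obtain ⟨y, rfl⟩ := IsLocalRing.residue_surjective y
    exact ⟨Ideal.Quotient.mk I y, rfl⟩
  haveI : Module.Finite R (IsLocalRing.ResidueField R) :=
    .of_surjective (Algebra.linearMap R (IsLocalRing.ResidueField R)) IsLocalRing.residue_surjective
  haveI : Module.Finite R (IsLocalRing.ResidueField S) :=
    .trans (IsLocalRing.ResidueField R) _
  haveI : Module.Finite R (S ⧸ I) := by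
    refine Module.finite_of_surjective_of_ker_le_nilradical f hf ?_ (IsNoetherian.noetherian _)
    rw [Ring.KrullDimLE.nilradical_eq_maximalIdeal]
    exact IsLocalRing.le_maximalIdeal (RingHom.ker_ne_top _)
  let S₀ := Algebra.EssFiniteType.subalgebra R S
  let q₀ : Ideal S₀ := (IsLocalRing.maximalIdeal S).comap (algebraMap S₀ S)
  haveI hq₀ : q₀.IsPrime := Ideal.comap_isPrime _ _
  have hsub : Algebra.EssFiniteType.submonoid R S = q₀.primeCompl := by
    ext x
    simp [Algebra.EssFiniteType.submonoid, q₀, Ideal.primeCompl, IsUnit.mem_submonoid_iff]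
  haveI hS₀ : IsLocalization.AtPrime S q₀ := by
    show IsLocalization q₀.primeCompl S
    rw [← hsub]; infer_instance
  have hu : q₀.under R = m := by
    rw [Ideal.under, Ideal.comap_comap, ← IsScalarTower.algebraMap_eq]
    exact hc
  let e : Localization.AtPrime q₀ ≃ₐ[R] S :=
    (IsLocalization.algEquiv q₀.primeCompl (Localization.AtPrime q₀) S).restrictScalars R
  haveI : Algebra.WeaklyQuasiFiniteAt R q₀ := by
    rw [Algebra.weaklyQuasiFiniteAt_iff, hu]
    refine (Algebra.QuasiFinite.iff_of_algEquiv (Ideal.quotientEquivAlg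
      (m.map (algebraMap R (Localization.AtPrime q₀))) I e ?_)).mpr inferInstance
    rw [Ideal.map_map]
    show Ideal.map _ m = Ideal.map _ m
    congr 1
    exact RingHom.ext fun r => (e.commutes r).symm
  obtain ⟨S', hS', r, hr, hbij⟩ :=
    Algebra.QuasiFiniteAt.exists_fg_and_exists_notMem_and_awayMap_bijective (R := R) q₀
  haveI : Module.Finite R S' := ⟨(Submodule.fg_top _).mpr hS'⟩
  let q : Ideal S' := q₀.comap S'.val.toRingHom
  haveI hq : q.IsPrime := Ideal.comap_isPrime _ _
  letI aS : Algebra S' S := ((algebraMap S₀ S).comp S'.val.toRingHom).toAlgebra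
  have tS : @IsScalarTower R S' S Algebra.toSMul aS.toSMul Algebra.toSMul :=
    IsScalarTower.of_algebraMap_eq fun x => rfl
  refine ⟨S', inferInstance, inferInstance, aS, tS, q, hq, inferInstance, ⟨?_⟩⟩
  constructor
  · rintro ⟨y, hy⟩
    exact IsLocalization.map_units S (⟨S'.val y, hy⟩ : q₀.primeCompl)
  · intro s
    obtain ⟨x, ⟨t, ht⟩, rfl⟩ := IsLocalization.exists_mk'_eq q₀.primeCompl s
    have key : ∀ z : S₀, ∃ (n : ℕ) (w : S'), S'.val w = (r : S₀) ^ n * z := by
      intro z
      obtain ⟨u, hu⟩ := hbij.2 (algebraMap _ _ z)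
      obtain ⟨w, ⟨_, n, rfl⟩, rfl⟩ := IsLocalization.exists_mk'_eq (Submonoid.powers r) u
      simp only [Localization.awayMap, IsLocalization.Away.map, IsLocalization.map_mk'] at hu
      rw [IsLocalization.mk'_eq_iff_eq_mul, ← map_mul, IsLocalization.eq_iff_exists
        (Submonoid.powers (S'.val.toRingHom r))] at hu
      obtain ⟨⟨_, k, rfl⟩, hk⟩ := hu
      refine ⟨n + k, r ^ k * w, ?_⟩
      simp only [AlgHom.toRingHom_eq_coe, RingHom.coe_coe, Subalgebra.coe_val] at hk
      simp only [map_mul, map_pow, Subalgebra.coe_val, SubmonoidClass.coe_pow]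
      rw [hk]; push_cast; ring
    obtain ⟨n, a, ha⟩ := key x
    obtain ⟨k, b, hb⟩ := key t
    have hbq : r ^ n * b ∈ q.primeCompl := by
      intro h
      have : (r : S₀) ^ n * ((r : S₀) ^ k * t) ∈ q₀ := by
        rw [← hb]; simpa [q] using h
      rcases hq₀.mem_or_mem this with h | h
      · exact hr (hq₀.mem_of_pow_mem _ h)
      rcases hq₀.mem_or_mem h with h | h
      · exact hr (hq₀.mem_of_pow_mem _ h)
      · exact ht h
    refine ⟨⟨r ^ k * a, ⟨_, hbq⟩⟩, ?_⟩
    show IsLocalization.mk' S x ⟨t, ht⟩ * algebraMap S₀ S (S'.val (r ^ n * b)) =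
      algebraMap S₀ S (S'.val (r ^ k * a))
    have h1 : IsLocalization.mk' S x (⟨t, ht⟩ : q₀.primeCompl) * algebraMap S₀ S t =
        algebraMap S₀ S x := IsLocalization.mk'_spec _ _ _
    simp only [map_mul, map_pow, ha, hb, Subalgebra.coe_val]
    rw [← h1]; ring
  · intro a b hab
    obtain ⟨⟨c, hc⟩, hc'⟩ := (IsLocalization.eq_iff_exists q₀.primeCompl S).mp
      (show algebraMap S₀ S (S'.val a) = algebraMap S₀ S (S'.val b) from hab)
    obtain ⟨u, hu⟩ := hbij.2 (algebraMap _ _ c)
    obtain ⟨w, ⟨_, n, rfl⟩, rfl⟩ := IsLocalization.exists_mk'_eq (Submonoid.powers r) u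
    simp only [Localization.awayMap, IsLocalization.Away.map, IsLocalization.map_mk'] at hu
    rw [IsLocalization.mk'_eq_iff_eq_mul, ← map_mul, IsLocalization.eq_iff_exists
      (Submonoid.powers (S'.val.toRingHom r))] at hu
    obtain ⟨⟨_, k, rfl⟩, hk⟩ := hu
    simp only [AlgHom.toRingHom_eq_coe, RingHom.coe_coe, Subalgebra.coe_val] at hk
    refine ⟨⟨r ^ k * w, ?_⟩, ?_⟩
    · intro h
      have : (r : S₀) ^ k * (c * (r : S₀) ^ n) ∈ q₀ := by
        simp only [SubmonoidClass.coe_pow] at hk
        rw [← hk]; simpa [q] using h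
      rcases hq₀.mem_or_mem this with h | h
      · exact hr (hq₀.mem_of_pow_mem _ h)
      rcases hq₀.mem_or_mem h with h | h
      · exact hc h
      · exact hr (hq₀.mem_of_pow_mem _ h)
    · apply Subtype.ext
      simp only [SubmonoidClass.coe_pow] at hk
      simp only [Subalgebra.coe_mul, SubmonoidClass.coe_pow]
      rw [hk]
      simp only [Subalgebra.coe_val] at hc'
      linear_combination ((r : S₀) ^ k * (r : S₀) ^ n) * hc'


end Groth.Agent.S9137
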