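import Groth.Statements.S9138
import Mathlib
import Groth.Agent.FComplLib.AdicUnit

set_option autoImplicit false
universe u
open CAlg

namespace Groth.Agent.S9138
open AdicCompletion Groth.Agent.FComplLib TensorProduct

theorem cauchy_mem {A : Type u} [CommRing A] {I : Ideal A} {y : AdicCauchySequence I A} {m n : ℕ} (h : m ≤ n) :
    (y : ℕ → A) m - (y : ℕ → A) n ∈ I ^ m := by
  simpa [SModEq.sub_mem, Ideal.mul_top] using y.2 h

theorem bijective_complMap_id {A : Type u} [CommRing A] (J n : Ideal A) (N : ℕ) (hN : 1 ≤ N) (hle : n ^ N ≤ J)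
    (h : J.map (RingHom.id A) ≤ n) : Function.Bijective (FSch.complMap J n (RingHom.id A) h) := by
  constructor
  · rw [injective_iff_map_eq_zero]
    intro x hx
    refine AdicCompletion.ext_evalₐ fun k => ?_
    obtain ⟨y, rfl⟩ := AdicCompletion.mk_surjective J A x
    have h1 := congrArg (evalₐ n (N * k)) hx
    rw [evalₐ_complMap, evalₐ_mk, Ideal.quotientMap_mk, _root_.map_zero, RingHom.id_apply,
      Ideal.Quotient.eq_zero_iff_mem, pow_mul] at h1
    rw [evalₐ_mk, _root_.map_zero, Ideal.Quotient.eq_zero_iff_mem]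
    have h2 := Ideal.pow_right_mono hle k h1
    have h3 := cauchy_mem (y := y) (Nat.le_mul_of_pos_left k hN : k ≤ N * k)
    have := add_mem h3 h2
    rwa [sub_add_cancel] at this
  · intro z
    obtain ⟨y, rfl⟩ := AdicCompletion.mk_surjective n A z
    have hc : AdicCompletion.IsAdicCauchy J A (fun k => (y : ℕ → A) (N * k)) := by
      intro a b hab
      rw [SModEq.sub_mem, smul_eq_mul, Ideal.mul_top]
      have h3 := cauchy_mem (y := y) (Nat.mul_le_mul_left N hab)
      rw [pow_mul] at h3
      exact Ideal.pow_right_mono hle a h3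
    refine ⟨AdicCompletion.mk J A ⟨_, hc⟩, AdicCompletion.ext_evalₐ fun k => ?_⟩
    rw [evalₐ_complMap, evalₐ_mk, evalₐ_mk, Ideal.quotientMap_mk, RingHom.id_apply, Ideal.Quotient.eq]
    change (y : ℕ → A) (N * k) - (y : ℕ → A) k ∈ n ^ k
    rw [← neg_sub]
    exact neg_mem (cauchy_mem (y := y) (Nat.le_mul_of_pos_left k hN : k ≤ N * k))

theorem finite_complMap {R S : Type u} [CommRing R] [CommRing S] [Algebra R S] (m : Ideal R)
    (hfin : Module.Finite R (S ⧸ m.map (algebraMap R S)))
    (h : m.map (algebraMap R S) ≤ m.map (algebraMap R S)) :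
    (FSch.complMap m (m.map (algebraMap R S)) (algebraMap R S) h).Finite := by
  classical
  let J := m.map (algebraMap R S)
  obtain ⟨r, π, hπ⟩ := Module.Finite.exists_fin' R (S ⧸ J)
  choose w hw using fun i => Ideal.Quotient.mk_surjective (π (Pi.single i 1))
  have hdec0 : ∀ s : S, ∃ c : Fin r → R, s - ∑ i, c i • w i ∈ J := by
    intro s
    obtain ⟨c, hc⟩ := hπ (Ideal.Quotient.mk J s)
    refine ⟨c, ?_⟩
    rw [← Ideal.Quotient.eq, ← hc, map_sum]
    conv_lhs => rw [pi_eq_sum_univ' c, map_sum]
    refine Finset.sum_congr rfl fun i _ => ?_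
    rw [map_smul, ← hw i]
    rfl
  have hdec : ∀ k : ℕ, ∀ s ∈ J ^ k, ∃ d : Fin r → R, (∀ i, d i ∈ m ^ k) ∧ s - ∑ i, d i • w i ∈ J ^ (k + 1) := by
    intro k s hs
    change s ∈ m.map (algebraMap R S) ^ k at hs
    rw [← Ideal.map_pow] at hs
    induction hs using Submodule.span_induction with
    | mem s hs =>
      obtain ⟨a, ha, rfl⟩ := hs
      obtain ⟨c, hc⟩ := hdec0 1
      refine ⟨fun i => a * c i, fun i => Ideal.mul_mem_right _ _ ha, ?_⟩
      have e : algebraMap R S a - ∑ i, (a * c i) • w i = algebraMap R S a * (1 - ∑ i, c i • w i) := by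
        rw [mul_sub, mul_one, Finset.mul_sum]
        simp only [Algebra.smul_def, map_mul, mul_assoc]
      rw [e, pow_succ]
      refine Ideal.mul_mem_mul ?_ hc
      change algebraMap R S a ∈ m.map (algebraMap R S) ^ k
      rw [← Ideal.map_pow]
      exact Ideal.mem_map_of_mem _ ha
    | zero => exact ⟨0, fun _ => zero_mem _, by simp⟩
    | add x y _ _ hx hy =>
      obtain ⟨d1, hd1, h1⟩ := hx
      obtain ⟨d2, hd2, h2⟩ := hy
      refine ⟨d1 + d2, fun i => add_mem (hd1 i) (hd2 i), ?_⟩
      have e : x + y - ∑ i, (d1 + d2) i • w i = (x - ∑ i, d1 i • w i) + (y - ∑ i, d2 i • w i) := by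
        simp only [Pi.add_apply, add_smul, Finset.sum_add_distrib]; abel
      rw [e]
      exact add_mem h1 h2
    | smul t x _ hx =>
      obtain ⟨d, hd, hx⟩ := hx
      -- `t * w i` is again a combination of the `w` modulo `J`
      choose c hc using fun i => hdec0 (t * w i)
      refine ⟨fun j => ∑ i, d i * c i j, fun j => sum_mem fun i _ => Ideal.mul_mem_right _ _ (hd i), ?_⟩
      have e : t • x - ∑ j, (∑ i, d i * c i j) • w j =
          t * (x - ∑ i, d i • w i) + ∑ i, algebraMap R S (d i) * (t * w i - ∑ j, c i j • w j) := by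
        simp only [smul_eq_mul, mul_sub, Finset.mul_sum, Finset.sum_sub_distrib, Finset.sum_smul, Algebra.smul_def,
          map_mul, map_sum, Finset.sum_mul]
        rw [Finset.sum_comm (f := fun j i => algebraMap R S (d i) * algebraMap R S (c i j) * w j)]
        simp only [mul_assoc, mul_left_comm t]
        abel
      rw [e]
      refine add_mem (Ideal.mul_mem_left _ _ hx) (sum_mem fun i _ => ?_)
      rw [pow_succ]
      refine Ideal.mul_mem_mul ?_ (hc i)
      change algebraMap R S (d i) ∈ m.map (algebraMap R S) ^ k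
      rw [← Ideal.map_pow]
      exact Ideal.mem_map_of_mem _ (hd i)
  let φ := FSch.complMap m J (algebraMap R S) h
  letI : Algebra (AdicCompletion m R) (AdicCompletion J S) := φ.toAlgebra
  refine ⟨⟨Finset.univ.image fun i => algebraMap S (AdicCompletion J S) (w i), top_le_iff.1 fun z _ => ?_⟩⟩
  obtain ⟨y, rfl⟩ := AdicCompletion.mk_surjective J S z
  have hseq : ∀ k (c : Fin r → R), (y : ℕ → S) k - ∑ i, c i • w i ∈ J ^ k →
      ∃ c' : Fin r → R, (∀ i, c' i - c i ∈ m ^ k) ∧ (y : ℕ → S) (k + 1) - ∑ i, c' i • w i ∈ J ^ (k + 1) := by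
    intro k c hk
    have hk1 : (y : ℕ → S) (k + 1) - ∑ i, c i • w i ∈ J ^ k := by
      have h3 := cauchy_mem (y := y) (Nat.le_succ k)
      have e : (y : ℕ → S) (k + 1) - ∑ i, c i • w i =
          ((y : ℕ → S) k - ∑ i, c i • w i) - ((y : ℕ → S) k - (y : ℕ → S) (k + 1)) := by ring
      rw [e]; exact sub_mem hk h3
    obtain ⟨d, hd, hd'⟩ := hdec k _ hk1
    refine ⟨c + d, fun i => by simpa using hd i, ?_⟩
    convert hd' using 1
    simp only [Pi.add_apply, add_smul, Finset.sum_add_distrib]; abel
  let C : ℕ → Fin r → R := fun k => Nat.rec 0 (fun k c => if hk : (y : ℕ → S) k - ∑ i, c i • w i ∈ J ^ k then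
    (hseq k c hk).choose else c) k
  have hC : ∀ k, (y : ℕ → S) k - ∑ i, C k i • w i ∈ J ^ k := by
    intro k
    induction k with
    | zero => rw [pow_zero, Ideal.one_eq_top]; trivial
    | succ k ih =>
      have : C (k + 1) = (hseq k (C k) ih).choose := dif_pos ih
      rw [this]; exact (hseq k (C k) ih).choose_spec.2
  have hC' : ∀ k i, C (k + 1) i - C k i ∈ m ^ k := fun k i => by
    have : C (k + 1) = (hseq k (C k) (hC k)).choose := dif_pos (hC k)
    rw [this]; exact (hseq k (C k) (hC k)).choose_spec.1 i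
  have hCc : ∀ i, AdicCompletion.IsAdicCauchy m R (fun k => C k i) := by
    intro i a b hab
    rw [SModEq.sub_mem, smul_eq_mul, Ideal.mul_top]
    induction b, hab using Nat.le_induction with
    | base => rw [sub_self]; exact zero_mem _
    | succ b hab ih =>
      have e : C a i - C (b + 1) i = (C a i - C b i) - (C (b + 1) i - C b i) := by ring
      rw [e]; exact sub_mem ih (Ideal.pow_le_pow_right hab (hC' b i))
  have hz : AdicCompletion.mk J S y =
      ∑ i, φ (AdicCompletion.mk m R ⟨_, hCc i⟩) * algebraMap S (AdicCompletion J S) (w i) := by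
    refine AdicCompletion.ext_evalₐ fun k => ?_
    rw [map_sum, evalₐ_mk]
    simp only [map_mul, φ, evalₐ_complMap, evalₐ_mk, Ideal.quotientMap_mk, evalₐ_algebraMap]
    simp only [← map_mul, ← map_sum, Ideal.Quotient.eq]
    have := hC k
    simp only [Algebra.smul_def] at this
    exact this
  rw [hz]
  refine sum_mem fun i _ => ?_
  exact Submodule.smul_mem _ (AdicCompletion.mk m R ⟨_, hCc i⟩)
    (Submodule.subset_span (Finset.mem_coe.2 (Finset.mem_image_of_mem _ (Finset.mem_univ i))))



/-- Let R → S be a local ring homomorphism between local rings with finitely generated maximal ideals m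
and n, such that S/mS is a finite-dimensional κ(m)-vector space. Then (1) the canonical ring map
from the mS-adic completion of S to the n-adic completion of S is bijective, and (2) the induced
ring map from the m-adic completion of R to the n-adic completion of S is finite. (The hypotheses h
and h' record the inclusion mS ⊆ n, which holds for any local homomorphism; they are the arguments
the completion maps take.) -/
theorem result (R S : Type u) [CommRing R] [CommRing S]
    [IsLocalRing R] [IsLocalRing S] [Algebra R S] [IsLocalHom (algebraMap R S)]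
    (hm : (IsLocalRing.maximalIdeal R).FG) (hn : (IsLocalRing.maximalIdeal S).FG)
    (hfib : Module.Finite (IsLocalRing.maximalIdeal R).ResidueField ((IsLocalRing.maximalIdeal R).Fiber S))
    (h : (IsLocalRing.maximalIdeal R).map (algebraMap R S) ≤ IsLocalRing.maximalIdeal S)
    (h' : ((IsLocalRing.maximalIdeal R).map (algebraMap R S)).map (RingHom.id S) ≤ IsLocalRing.maximalIdeal S) :
    Function.Bijective (FSch.complMap ((IsLocalRing.maximalIdeal R).map (algebraMap R S))
        (IsLocalRing.maximalIdeal S) (RingHom.id S) h') ∧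
      (FSch.complMap (IsLocalRing.maximalIdeal R) (IsLocalRing.maximalIdeal S) (algebraMap R S) h).Finite := by
  let m := IsLocalRing.maximalIdeal R
  let J := m.map (algebraMap R S)
  haveI : Module.Finite R (S ⧸ J) := by
    haveI : Module.Finite R m.ResidueField :=
      Module.Finite.of_surjective (Algebra.linearMap R m.ResidueField) (Ideal.algebraMap_residueField_surjective m)
    haveI : Module.Finite R (m.Fiber S) := Module.Finite.trans m.ResidueField _
    letI : Algebra (R ⧸ m) m.ResidueField := inferInstance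
    let q : m.Fiber S →ₐ[R] S ⧸ J := Algebra.TensorProduct.lift
      (AlgHom.comp (Ideal.quotientMapₐ J (Algebra.ofId R S) Ideal.le_comap_map)
        (AlgEquiv.ofBijective (IsScalarTower.toAlgHom R (R ⧸ m) m.ResidueField)
          (Ideal.bijective_algebraMap_quotient_residueField m)).symm.toAlgHom)
      (Ideal.Quotient.mkₐ R J) fun _ _ => .all _ _
    refine Module.Finite.of_surjective q.toLinearMap fun z => ?_
    obtain ⟨z, rfl⟩ := Ideal.Quotient.mk_surjective z
    exact ⟨1 ⊗ₜ z, by simp [q]⟩
  obtain ⟨N, hN1, hN⟩ : ∃ N, 1 ≤ N ∧ IsLocalRing.maximalIdeal S ^ N ≤ J := by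
    haveI : IsArtinianRing (R ⧸ m) :=
      haveI : m.IsMaximal := IsLocalRing.maximalIdeal.isMaximal R
      letI := Ideal.Quotient.field m
      inferInstance
    letI : Algebra (R ⧸ m) (S ⧸ J) := (Ideal.quotientMap J (algebraMap R S) Ideal.le_comap_map).toAlgebra
    haveI : IsScalarTower R (R ⧸ m) (S ⧸ J) := IsScalarTower.of_algebraMap_eq fun _ => rfl
    haveI : Module.Finite (R ⧸ m) (S ⧸ J) := Module.Finite.of_restrictScalars_finite R _ _
    haveI : IsArtinianRing (S ⧸ J) := IsArtinianRing.of_finite (R ⧸ m) (S ⧸ J)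
    haveI : Nontrivial (S ⧸ J) := Ideal.Quotient.nontrivial_iff.2 (fun hJ =>
      (IsLocalRing.maximalIdeal.isMaximal S).ne_top (top_le_iff.1 (hJ.ge.trans h)))
    haveI : IsLocalRing (S ⧸ J) := IsLocalRing.of_surjective' _ Ideal.Quotient.mk_surjective
    obtain ⟨N, hN⟩ := IsArtinianRing.isNilpotent_jacobson_bot (R := S ⧸ J)
    rw [IsLocalRing.jacobson_eq_maximalIdeal _ bot_ne_top] at hN
    refine ⟨N + 1, Nat.le_add_left 1 N, fun x hx => Ideal.Quotient.eq_zero_iff_mem.1 ?_⟩
    have hmap : (IsLocalRing.maximalIdeal S).map (Ideal.Quotient.mk J) ≤ IsLocalRing.maximalIdeal (S ⧸ J) :=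
      Ideal.map_le_iff_le_comap.2 fun x hx hu => by
        obtain ⟨u, hu'⟩ := hu.exists_right_inv
        obtain ⟨u, rfl⟩ := Ideal.Quotient.mk_surjective u
        rw [← map_mul, ← map_one (Ideal.Quotient.mk J), Ideal.Quotient.eq] at hu'
        refine (IsLocalRing.maximalIdeal.isMaximal S).ne_top ((Ideal.eq_top_iff_one _).2 ?_)
        have := sub_mem (Ideal.mul_mem_right u _ hx) (h hu')
        rwa [sub_sub_cancel] at this
    have h1 := Ideal.mem_map_of_mem (Ideal.Quotient.mk J) (Ideal.pow_le_pow_right (Nat.le_succ N) hx)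
    rw [Ideal.map_pow] at h1
    have h2 := Ideal.pow_right_mono hmap N h1
    rw [hN] at h2
    exact h2
  have hb := bijective_complMap_id J (IsLocalRing.maximalIdeal S) N hN1 hN h'
  refine ⟨hb, ?_⟩
  rw [← complMap_comp m J (IsLocalRing.maximalIdeal S) (algebraMap R S) (RingHom.id S) (algebraMap R S)
    (RingHom.id_comp _) le_rfl h' h]
  exact RingHom.Finite.comp (RingHom.Finite.of_surjective _ hb.2) (finite_complMap m ‹_› le_rfl)


end Groth.Agent.S9138
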