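import Groth.Statements.S9139
import Mathlib

set_option autoImplicit false
universe u
open CAlg

namespace Groth.Agent.S9139

/-- Let I be a locally nilpotent ideal of a ring R (every element of I is nilpotent) and S → S' a map of
R-algebras with S' of finite type over R. If S → S'/IS' is surjective then so is S → S'. -/
theorem result (R S S' : Type u) [CommRing R] [CommRing S]
    [CommRing S'] [Algebra R S] [Algebra R S'] [Algebra.FiniteType R S'] (I : Ideal R)
    (hI : ∀ x ∈ I, IsNilpotent x) (f : S →ₐ[R] S')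
    (hf : Function.Surjective ((Ideal.Quotient.mk (I.map (algebraMap R S'))).comp f.toRingHom)) :
    Function.Surjective f := by
  classical
  obtain ⟨G, hG⟩ := (Algebra.FiniteType.out : (⊤ : Subalgebra R S').FG)
  have h1 : ∀ x : S', ∃ T : Finset R, (↑T : Set R) ⊆ I ∧ ∃ s, x - f s ∈ (Ideal.span (T : Set R)).map (algebraMap R S') := by
    intro x
    obtain ⟨s, hs⟩ := hf (Ideal.Quotient.mk _ x)
    simp only [RingHom.comp_apply, Ideal.Quotient.eq] at hs
    obtain ⟨T, hT, hT'⟩ := Submodule.mem_span_finite_of_mem_span (show f s - x ∈ Ideal.span (algebraMap R S' '' (I : Set R)) from hs)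
    obtain ⟨T', hT'I, rfl⟩ := Finset.subset_set_image_iff.1 hT
    refine ⟨T', hT'I, s, ?_⟩
    rw [Finset.coe_image] at hT'
    rw [Ideal.map_span, ← neg_mem_iff, neg_sub]
    exact hT'
  choose T hTI s hs using h1
  let I₀ : Ideal R := Ideal.span ((G.biUnion T : Finset R) : Set R)
  obtain ⟨n, hn⟩ : IsNilpotent I₀ := by
    refine (Ideal.FG.isNilpotent_iff_le_nilradical (Submodule.fg_span (Finset.finite_toSet _))).2 ?_
    rw [Ideal.span_le]
    intro x hx
    obtain ⟨g, -, hg⟩ := Finset.mem_biUnion.1 hx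
    exact mem_nilradical.2 (hI x (hTI g hg))
  let J := I₀.map (algebraMap R S')
  have hall : ∀ x : S', ∃ a, x - f a ∈ J := by
    intro x
    have hx : x ∈ Algebra.adjoin R (G : Set S') := hG ▸ trivial
    induction hx using Algebra.adjoin_induction with
    | mem g hg =>
      refine ⟨s g, Ideal.map_mono (Ideal.span_mono ?_) (hs g)⟩
      intro z hz; exact Finset.mem_biUnion.2 ⟨g, hg, hz⟩
    | algebraMap r => exact ⟨algebraMap R S r, by simp⟩
    | add x y _ _ hx hy =>
      obtain ⟨a, ha⟩ := hx
      obtain ⟨b, hb⟩ := hy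
      exact ⟨a + b, by rw [map_add, add_sub_add_comm]; exact add_mem ha hb⟩
    | mul x y _ _ hx hy =>
      obtain ⟨a, ha⟩ := hx
      obtain ⟨b, hb⟩ := hy
      refine ⟨a * b, ?_⟩
      rw [map_mul, show x * y - f a * f b = (x - f a) * y + f a * (y - f b) by ring]
      exact add_mem (J.mul_mem_right _ ha) (J.mul_mem_left _ hb)
  have hiter : ∀ m (x : S'), ∃ a, x - f a ∈ J ^ m := by
    intro m
    induction m with
    | zero => exact fun x => ⟨0, by simp⟩
    | succ m ih =>
      intro x
      obtain ⟨a, ha⟩ := ih x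
      have h2 : ∀ z ∈ J ^ m, ∃ b, z - f b ∈ J ^ (m + 1) := by
        intro z hz
        rw [← Ideal.map_pow] at hz
        refine Submodule.span_induction ?_ ⟨0, by simp⟩ ?_ ?_ hz
        · rintro _ ⟨r, hr, rfl⟩
          exact ⟨algebraMap R S r, by simp⟩
        · rintro z w _ _ ⟨b, hb⟩ ⟨c, hc⟩
          exact ⟨b + c, by rw [map_add, add_sub_add_comm]; exact add_mem hb hc⟩
        · rintro c z hz' ⟨b, hb⟩
          obtain ⟨c', hc'⟩ := hall c
          refine ⟨c' * b, ?_⟩
          have hzm : z ∈ J ^ m := by rw [← Ideal.map_pow]; exact hz'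
          rw [smul_eq_mul, map_mul, show c * z - f c' * f b = (c - f c') * z + f c' * (z - f b) by ring]
          refine add_mem ?_ ((J ^ (m + 1)).mul_mem_left _ hb)
          rw [pow_succ']
          exact Ideal.mul_mem_mul hc' hzm
      obtain ⟨b, hb⟩ := h2 _ ha
      exact ⟨a + b, by rw [map_add, ← sub_sub]; exact hb⟩
  intro x
  obtain ⟨a, ha⟩ := hiter n x
  rw [← Ideal.map_pow, hn] at ha
  exact ⟨a, (sub_eq_zero.1 (by simpa using ha)).symm⟩


end Groth.Agent.S9139
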