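import Groth.Statements.S9140
import Mathlib

set_option autoImplicit false
universe u
open CAlg

namespace Groth.Agent.S9140

/-- Let I be a locally nilpotent ideal of a ring R and S → S' a map of R-algebras with S of finite type
over R and S' of finite presentation and flat over R. If the induced map S/IS → S'/IS' is bijective
(stated as: S → S'/IS' is surjective with kernel IS), then S → S' is bijective. -/
theorem result (R S S' : Type u)
    [CommRing R] [CommRing S] [CommRing S'] [Algebra R S] [Algebra R S'] [Algebra.FiniteType R S]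
    [Algebra.FinitePresentation R S'] [Module.Flat R S'] (I : Ideal R) (hI : ∀ x ∈ I, IsNilpotent x)
    (f : S →ₐ[R] S')
    (hsurj : Function.Surjective ((Ideal.Quotient.mk (I.map (algebraMap R S'))).comp f.toRingHom))
    (hker : ∀ s : S, f s ∈ I.map (algebraMap R S') → s ∈ I.map (algebraMap R S)) :
    Function.Bijective f := by
  classical
  have hJ : ∀ z ∈ I.map (algebraMap R S'), ∃ J : Ideal R, J.FG ∧ J ≤ I ∧
      z ∈ J.map (algebraMap R S') := by
    intro z hz
    refine Submodule.span_induction (p := fun z _ => ∃ J : Ideal R, J.FG ∧ J ≤ I ∧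
      z ∈ J.map (algebraMap R S')) ?_ ?_ ?_ ?_ hz
    · rintro _ ⟨a, ha, rfl⟩
      exact ⟨Ideal.span {a}, Submodule.fg_span_singleton a,
        (Ideal.span_singleton_le_iff_mem I).mpr ha,
        Ideal.mem_map_of_mem _ (Ideal.mem_span_singleton_self a)⟩
    · exact ⟨⊥, Submodule.fg_bot, bot_le, zero_mem _⟩
    · rintro x y - - ⟨J, h1, h2, h3⟩ ⟨J', h1', h2', h3'⟩
      exact ⟨J ⊔ J', Submodule.FG.sup h1 h1', sup_le h2 h2',
        add_mem (Ideal.map_mono le_sup_left h3) (Ideal.map_mono le_sup_right h3')⟩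
    · rintro c x - ⟨J, h1, h2, h3⟩
      exact ⟨J, h1, h2, Ideal.mul_mem_left _ c h3⟩
  have happrox : ∀ y : S', ∃ s : S, ∃ J : Ideal R, J.FG ∧ J ≤ I ∧
      y - f s ∈ J.map (algebraMap R S') := by
    intro y
    obtain ⟨s, hs⟩ := hsurj (Ideal.Quotient.mk _ y)
    refine ⟨s, hJ _ ?_⟩
    exact Ideal.Quotient.eq.mp hs.symm
  obtain ⟨t, ht⟩ := (Algebra.FiniteType.out : (⊤ : Subalgebra R S').FG)
  choose s0 J0 hJ0 hJ0I hs0 using happrox
  let J : Ideal R := t.sup J0
  have hJfg : J.FG := Finset.sup_induction Submodule.fg_bot (fun a ha b hb => Submodule.FG.sup ha hb)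
    fun y _ => hJ0 y
  have hJI : J ≤ I := Finset.sup_le fun y _ => hJ0I y
  obtain ⟨N, hN⟩ : IsNilpotent J :=
    (Ideal.FG.isNilpotent_iff_le_nilradical hJfg).mpr fun a ha => hI a (hJI ha)
  have hstep1 : ∀ y : S', ∃ s, y - f s ∈ J.map (algebraMap R S') := by
    intro y
    have htop : ((Ideal.Quotient.mkₐ R (J.map (algebraMap R S'))).comp f).range = ⊤ →
        ∃ s, y - f s ∈ J.map (algebraMap R S') := by
      intro h
      obtain ⟨s, hs⟩ : Ideal.Quotient.mkₐ R (J.map (algebraMap R S')) y ∈
        ((Ideal.Quotient.mkₐ R (J.map (algebraMap R S'))).comp f).range := h ▸ Algebra.mem_top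
      exact ⟨s, Ideal.Quotient.eq.mp hs.symm⟩
    apply htop
    rw [eq_top_iff, ← AlgHom.range_eq_top (Ideal.Quotient.mkₐ R (J.map (algebraMap R S'))) |>.mpr
      (Ideal.Quotient.mkₐ_surjective R _), ← Algebra.map_top, ← ht, AlgHom.map_adjoin,
      Algebra.adjoin_le_iff]
    rintro _ ⟨z, hz, rfl⟩
    exact ⟨s0 z, (Ideal.Quotient.eq.mpr
      (Ideal.map_mono (Finset.le_sup (f := J0) hz) (hs0 z))).symm⟩
  have hiter : ∀ n (y : S'), ∃ s, y - f s ∈ (J ^ n).map (algebraMap R S') := by
    intro n
    induction n with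
    | zero => intro y; exact ⟨0, by simp [Ideal.map_top]⟩
    | succ n ih =>
      have hmul : ∀ z ∈ (J ^ n).map (algebraMap R S'), ∀ c : S',
          ∃ s, c * z - f s ∈ (J ^ (n + 1)).map (algebraMap R S') := by
        intro z hz
        refine Submodule.span_induction (p := fun z _ => ∀ c : S',
          ∃ s, c * z - f s ∈ (J ^ (n + 1)).map (algebraMap R S')) ?_ ?_ ?_ ?_ hz
        · rintro _ ⟨a, ha, rfl⟩ c
          obtain ⟨s, hs⟩ := hstep1 c
          refine ⟨a • s, ?_⟩
          rw [map_smul, Algebra.smul_def, mul_comm c, ← mul_sub, pow_succ, Ideal.map_mul]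
          exact Ideal.mul_mem_mul (Ideal.mem_map_of_mem _ ha) hs
        · intro c; exact ⟨0, by simp⟩
        · intro x y _ _ hx hy c
          obtain ⟨s, hs⟩ := hx c
          obtain ⟨s', hs'⟩ := hy c
          refine ⟨s + s', ?_⟩
          rw [map_add, mul_add, add_sub_add_comm]
          exact add_mem hs hs'
        · intro d x _ hx c
          obtain ⟨s, hs⟩ := hx (c * d)
          exact ⟨s, by rwa [smul_eq_mul, ← mul_assoc]⟩
      intro y
      obtain ⟨s, hs⟩ := ih y
      obtain ⟨s', hs'⟩ := hmul _ hs 1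
      refine ⟨s + s', ?_⟩
      rwa [map_add, ← sub_sub, ← one_mul (y - f s)]
  have hf : Function.Surjective f := fun y => by
    obtain ⟨s, hs⟩ := hiter N y
    rw [hN, Ideal.zero_eq_bot, Ideal.map_bot, Ideal.mem_bot, sub_eq_zero] at hs
    exact ⟨s, hs.symm⟩
  refine ⟨?_, hf⟩
  have hfp : f.toRingHom.FinitePresentation := by
    refine RingHom.FinitePresentation.of_comp_finiteType (algebraMap R S) ?_ ?_
    · rw [AlgHom.toRingHom_eq_coe, AlgHom.comp_algebraMap]
      exact RingHom.finitePresentation_algebraMap.mpr ‹_›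
    · exact RingHom.finiteType_algebraMap.mpr ‹_›
  have hfg : (RingHom.ker f.toRingHom).FG := by
    letI := f.toRingHom.toAlgebra
    have : Algebra.FinitePresentation S S' := hfp
    have h := Algebra.FinitePresentation.ker_fG_of_surjective (R := S) (Algebra.ofId S S') hf
    exact h
  have hIS : I.map (algebraMap R S) ≤ Ideal.jacobson ⊥ := by
    refine le_trans ?_ Ideal.radical_le_jacobson
    rw [Ideal.map_le_iff_le_comap]
    exact fun a ha => (hI a ha).map (algebraMap R S)
  have hle : RingHom.ker f.toRingHom ≤ I.map (algebraMap R S) • RingHom.ker f.toRingHom := by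
    intro k hk
    have hk0 : f k = 0 := hk
    obtain ⟨n, c, g, hg⟩ := Submodule.mem_span_set'.mp (hker k (hk0 ▸ zero_mem _))
    choose a ha hag using fun i => (g i).2
    have hsum : ∑ i, a i • f (c i) = 0 := by
      rw [← hk0, ← hg, map_sum]
      refine Finset.sum_congr rfl fun i _ => ?_
      rw [← hag i, smul_eq_mul, map_mul, AlgHom.commutes, mul_comm, Algebra.smul_def]
    obtain ⟨m, b, y, h1, h2⟩ := Module.Flat.isTrivialRelation_of_sum_smul_eq_zero (R := R) (M := S') (f := a)
      (x := fun i => f (c i)) hsum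
    choose t' ht' using fun j => hf (y j)
    have hd : ∀ i, c i - ∑ j, b i j • t' j ∈ RingHom.ker f.toRingHom := by
      intro i
      change f (c i - ∑ j, b i j • t' j) = 0
      simp [map_sum, ht', ← h1]
    have hkk : k = ∑ i, algebraMap R S (a i) * (c i - ∑ j, b i j • t' j) := by
      rw [← hg]
      simp only [mul_sub, Finset.sum_sub_distrib, Finset.mul_sum]
      rw [Finset.sum_comm (f := fun i j => algebraMap R S (a i) * (b i j • t' j))]
      have : ∀ j, ∑ i, algebraMap R S (a i) * (b i j • t' j) = 0 := fun j => by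
        simp only [Algebra.smul_def, ← mul_assoc, ← map_mul, ← Finset.sum_mul, ← map_sum, h2 j,
          map_zero, zero_mul]
      simp only [this, Finset.sum_const_zero, sub_zero]
      exact Finset.sum_congr rfl fun i _ => by rw [← hag i, smul_eq_mul, mul_comm]
    rw [hkk]
    exact sum_mem fun i _ => Submodule.smul_mem_smul (Ideal.mem_map_of_mem _ (ha i)) (hd i)
  have := Submodule.eq_bot_of_le_smul_of_le_jacobson_bot _ _ hfg hle hIS
  exact (RingHom.injective_iff_ker_eq_bot f.toRingHom).mpr this


end Groth.Agent.S9140
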