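import Groth.Statements.S9143
import Mathlib
import Groth.Agent.Synt29.CIPoints

set_option autoImplicit false
universe u
open Synt

namespace Groth.Agent.S9143

/-- For a local k-algebra S which is essentially of finite type over a field k, being a complete
intersection over k is equivalent to each of: (2) whenever a regular local ring R, essentially of
finite type over k, maps onto S by a surjective k-algebra map, the kernel is generated by a regular
sequence; (3) some regular local ring R, essentially of finite type over k, maps onto S by a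
surjective k-algebra map whose kernel is generated by a list of dim R − dim S elements (stated as
dim R = dim S + the length of the list); (4) S is isomorphic over k to a localization at a prime of
a global complete intersection over k; (5) the same with a local complete intersection over k. -/
theorem result (k S : Type u) [Field k] [CommRing S]
    [IsLocalRing S] [Algebra k S] [Algebra.EssFiniteType k S] :
    (Synt.IsCIOver k S ↔
        ∀ (R : Type u) [CommRing R] [IsRegularLocalRing R] [Algebra k R], Algebra.EssFiniteType k R →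
          ∀ π : R →ₐ[k] S, Function.Surjective π →
            ∃ rs : List R, RingTheory.Sequence.IsRegular R rs ∧ RingHom.ker π.toRingHom = Ideal.ofList rs) ∧
      (Synt.IsCIOver k S ↔
        ∃ (R : Type u) (_ : CommRing R) (_ : IsRegularLocalRing R) (_ : Algebra k R),
          Algebra.EssFiniteType k R ∧ ∃ π : R →ₐ[k] S, Function.Surjective π ∧
            ∃ rs : List R, RingHom.ker π.toRingHom = Ideal.ofList rs ∧
              ringKrullDim R = ringKrullDim S + (rs.length : WithBot ℕ∞)) ∧
      (Synt.IsCIOver k S ↔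
        ∃ (A : Type u) (_ : CommRing A) (_ : Algebra k A) (a : Ideal A) (_ : a.IsPrime),
          Algebra.FiniteType k A ∧ Synt.IsGlobalCI k A ∧ Nonempty (S ≃ₐ[k] Localization.AtPrime a)) ∧
      (Synt.IsCIOver k S ↔
        ∃ (A : Type u) (_ : CommRing A) (_ : Algebra k A) (a : Ideal A) (_ : a.IsPrime),
          Synt.IsLCIOver k A ∧ Nonempty (S ≃ₐ[k] Localization.AtPrime a)) := by
  obtain ⟨R₀, _, _, _, _, π₀, hπ₀⟩ := Synt29.exists_regular_presentation (k := k) S
  refine ⟨⟨?_, ?_⟩, ⟨?_, ?_⟩, ⟨?_, ?_⟩, ⟨?_, ?_⟩⟩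
  · intro h R _ _ _ _ π hπ
    exact (Synt29.ciKer_iff_regular π.toRingHom hπ).1 ((Synt29.isCIOver_iff_ciKer π hπ).1 h)
  · intro h
    exact Synt29.isCIOver_of_ciKer π₀ hπ₀ ((Synt29.ciKer_iff_regular π₀.toRingHom hπ₀).2 (h R₀ inferInstance π₀ hπ₀))
  · intro h
    obtain ⟨r, x, hx, hd⟩ := (Synt29.isCIOver_iff_ciKer π₀ hπ₀).1 h
    refine ⟨R₀, inferInstance, inferInstance, inferInstance, inferInstance, π₀, hπ₀, List.ofFn x, ?_, ?_⟩
    · rw [Synt29.ofList_ofFn, hx]
    · rw [List.length_ofFn]; exact hd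
  · rintro ⟨R, _, _, _, _, π, hπ, rs, hker, hd⟩
    refine Synt29.isCIOver_of_ciKer π hπ ⟨rs.length, rs.get, ?_, hd⟩
    rw [← Synt29.ofList_ofFn, List.ofFn_get, hker]
  · intro h
    obtain ⟨A, _, _, a, _, hA, ⟨e⟩⟩ := Synt29.exists_atPrime_model (k := k) S
    obtain ⟨g, hg, hCI⟩ := Synt29.exists_isGlobalCI_away_of_isCIOver a (Synt29.isCIOver_of_algEquiv e h)
    obtain ⟨b, hb, ⟨e'⟩⟩ := Synt29.atPrime_away_equiv (k := k) g a hg
    exact ⟨_, inferInstance, inferInstance, b, hb, (Synt29.isLCIOver_of_isGlobalCI hCI).1, hCI, ⟨e.trans e'.symm⟩⟩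
  · rintro ⟨A, _, _, a, _, -, hA, ⟨e⟩⟩
    exact Synt29.isCIOver_of_algEquiv e.symm (Synt29.isCIOver_atPrime_of_isGlobalCI hA a)
  · intro h
    obtain ⟨A, _, _, a, _, hA, ⟨e⟩⟩ := Synt29.exists_atPrime_model (k := k) S
    obtain ⟨g, hg, hCI⟩ := Synt29.exists_isGlobalCI_away_of_isCIOver a (Synt29.isCIOver_of_algEquiv e h)
    obtain ⟨b, hb, ⟨e'⟩⟩ := Synt29.atPrime_away_equiv (k := k) g a hg
    exact ⟨_, inferInstance, inferInstance, b, hb, Synt29.isLCIOver_of_isGlobalCI hCI, ⟨e.trans e'.symm⟩⟩
  · rintro ⟨A, _, _, a, _, hA, ⟨e⟩⟩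
    exact Synt29.isCIOver_of_algEquiv e.symm (Synt29.isCIOver_atPrime_of_isLCIOver hA a)

end Groth.Agent.S9143
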