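import Groth.Statements.S9148
import Mathlib
import Groth.Agent.Synt29.Descent

set_option autoImplicit false
universe u
open Synt

namespace Groth.Agent.S9148

/-- A relative global complete intersection over a ring R descends to a relative global complete
intersection over a finite type ℤ-subalgebra of R containing the coefficients. -/
theorem result (R : Type u) [CommRing R] (n c : ℕ)
    (F : Fin c → MvPolynomial (Fin n) R) (h : Synt.IsRelGCI R n c F) :
    ∃ (R₀ : Subalgebra ℤ R) (F₀ : Fin c → MvPolynomial (Fin n) R₀), Algebra.FiniteType ℤ R₀ ∧
      (∀ i, MvPolynomial.map (algebraMap R₀ R) (F₀ i) = F i) ∧ Synt.IsRelGCI R₀ n c F₀ := by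
  exact Groth.Agent.Synt29.exists_descent h

end Groth.Agent.S9148
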