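import Groth.Statements.S9150
import Mathlib
import Groth.Agent.Synt29.LocalRelGCI

set_option autoImplicit false
universe u
open Synt

namespace Groth.Agent.S9150

open Groth.Agent Groth.Agent.Synt29 TensorProduct

set_option linter.style.haveILetI false

theorem exists_lift_nhd {R : Type u} [CommRing R] (I : Ideal R) {Sb : Type u} [CommRing Sb]
    [Algebra R Sb] [Algebra (R ⧸ I) Sb] [IsScalarTower R (R ⧸ I) Sb] (h : Synt.IsSyntomic (R ⧸ I) Sb)
    (q : PrimeSpectrum Sb) :
    ∃ g ∉ q.asIdeal, ∃ (n c : ℕ) (F : Fin c → MvPolynomial (Fin n) R), Synt.IsRelGCI R n c F ∧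
        Nonempty (Localization.Away g ≃ₐ[R]
          (Synt.RelGCIRing R n c F ⧸ I.map (algebraMap R (Synt.RelGCIRing R n c F)))) := by
  haveI := h.1
  haveI := h.2.1
  obtain ⟨g₀, hg₀, N, M, Fb, hFb, ⟨e⟩⟩ := exists_isStd_away q _ rfl (h.2.2 _)
  let Tb := Localization.Away g₀
  obtain ⟨qT, hqT⟩ : q ∈ Set.range (PrimeSpectrum.comap (algebraMap Sb Tb)) := by
    rw [PrimeSpectrum.localization_away_comap_range Tb g₀]; exact hg₀
  have hmap : Function.Surjective (MvPolynomial.map (σ := Fin N) (algebraMap R (R ⧸ I))) :=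
    MvPolynomial.map_surjective _ Ideal.Quotient.mk_surjective
  choose F hF using fun i => hmap (Fb i)
  let S := Synt.RelGCIRing R N M F
  let μ : MvPolynomial (Fin N) R →ₐ[R] Tb :=
    ((e.toAlgHom.restrictScalars R).comp ((Ideal.Quotient.mkₐ (R ⧸ I) _).restrictScalars R)).comp
      (MvPolynomial.mapAlgHom (Algebra.ofId R (R ⧸ I)))
  have hμ0 : ∀ x, μ x = e (Ideal.Quotient.mk _ (MvPolynomial.map (algebraMap R (R ⧸ I)) x)) := fun x => rfl
  let π : S →ₐ[R] Tb := Ideal.Quotient.liftₐ _ μ (fun a ha => by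
    refine (Ideal.span_le (I := RingHom.ker μ.toRingHom)).2 ?_ ha
    rintro _ ⟨i, rfl⟩
    show μ (F i) = 0
    rw [hμ0, hF, Ideal.Quotient.eq_zero_iff_mem.2 (Ideal.subset_span (Set.mem_range_self i)), map_zero])
  have hπ0 : ∀ x, π (Ideal.Quotient.mk _ x) = μ x := fun x => rfl
  have hπ : Function.Surjective π := fun y => by
    obtain ⟨z, hz⟩ := Ideal.Quotient.mk_surjective (e.symm y)
    obtain ⟨x, rfl⟩ := hmap z
    exact ⟨Ideal.Quotient.mk _ x, by rw [hπ0, hμ0, hz, AlgEquiv.apply_symm_apply]⟩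
  have hker : RingHom.ker π.toRingHom = I.map (algebraMap R S) := by
    refine le_antisymm ?_ ?_
    · intro y hy
      obtain ⟨x, rfl⟩ := Ideal.Quotient.mk_surjective y
      have h1 : Ideal.Quotient.mk _ (MvPolynomial.map (algebraMap R (R ⧸ I)) x) = 0 :=
        e.injective ((hμ0 x).symm.trans (((hπ0 x).symm.trans hy).trans (map_zero e).symm))
      rw [Ideal.Quotient.eq_zero_iff_mem] at h1
      have h2 : x ∈ Ideal.span (Set.range F) ⊔ RingHom.ker (MvPolynomial.map (σ := Fin N) (algebraMap R (R ⧸ I))) := by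
        have hr : Set.range Fb = (MvPolynomial.map (algebraMap R (R ⧸ I))) '' Set.range F := by
          rw [← Set.range_comp]; exact congrArg Set.range (funext fun i => (hF i).symm)
        rw [hr, ← Ideal.map_span, ← Ideal.mem_comap, Ideal.comap_map_of_surjective _ hmap,
          ← RingHom.ker_eq_comap_bot] at h1
        exact h1
      rw [MvPolynomial.ker_map, Ideal.Quotient.algebraMap_eq, Ideal.mk_ker] at h2
      have h3 := Ideal.mem_map_of_mem (Ideal.Quotient.mk (Ideal.span (Set.range F))) h2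
      rw [Ideal.map_sup, Ideal.map_quotient_self, bot_sup_eq, Ideal.map_map] at h3
      exact h3
    · rw [Ideal.map_le_iff_le_comap]
      intro a ha
      show π (algebraMap R S a) = 0
      rw [π.commutes, IsScalarTower.algebraMap_apply R (R ⧸ I) Tb, Ideal.Quotient.algebraMap_eq,
        Ideal.Quotient.eq_zero_iff_mem.2 ha, map_zero]
  let q' : PrimeSpectrum S := PrimeSpectrum.comap π.toRingHom qT
  let p : PrimeSpectrum R := PrimeSpectrum.comap (algebraMap R S) q'
  let pb : PrimeSpectrum (R ⧸ I) := PrimeSpectrum.comap (algebraMap (R ⧸ I) Tb) qT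
  have hpp : p.asIdeal = pb.asIdeal.comap (algebraMap R (R ⧸ I)) := by
    show (qT.asIdeal.comap π.toRingHom).comap (algebraMap R S) = (qT.asIdeal.comap (algebraMap (R ⧸ I) Tb)).comap _
    rw [Ideal.comap_comap, Ideal.comap_comap, ← IsScalarTower.algebraMap_eq]
    congr 1
    exact π.comp_algebraMap
  have hd : M ≤ N ∧ ringKrullDim (p.asIdeal.Fiber S) ≤ ((N - M : ℕ) : WithBot ℕ∞) := by
    let k := p.asIdeal.ResidueField
    let K := pb.asIdeal.ResidueField
    letI : Algebra k K := (Ideal.ResidueField.map p.asIdeal pb.asIdeal (algebraMap R (R ⧸ I)) hpp).toAlgebra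
    haveI : IsScalarTower R k K := IsScalarTower.of_algebraMap_eq fun a => by
      rw [IsScalarTower.algebraMap_apply R (R ⧸ I) K]
      exact (Ideal.ResidueField.map_algebraMap _ _ _ hpp a).symm
    have hK : mapPoly (R ⧸ I) Fb K = mapPoly R F K := funext fun i => by
      show MvPolynomial.map _ (Fb i) = MvPolynomial.map _ (F i)
      rw [← hF i, MvPolynomial.map_map, ← IsScalarTower.algebraMap_eq]
    have hn : Nontrivial (pb.asIdeal.Fiber (Synt.RelGCIRing (R ⧸ I) N M Fb)) := by
      let q2 : PrimeSpectrum (Synt.RelGCIRing (R ⧸ I) N M Fb) := PrimeSpectrum.comap e.toAlgHom.toRingHom qT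
      obtain ⟨Q, -⟩ := FlatLoc6.exists_fiber_prime pb.asIdeal q2.asIdeal (by
        show (qT.asIdeal.comap e.toAlgHom.toRingHom).comap (algebraMap (R ⧸ I) _) = qT.asIdeal.comap (algebraMap (R ⧸ I) Tb)
        rw [Ideal.comap_comap]
        congr 1
        exact e.toAlgHom.comp_algebraMap)
      exact PrimeSpectrum.nonempty_iff_nontrivial.1 ⟨Q⟩
    haveI : Nontrivial (Synt.RelGCIRing K N M (mapPoly R F K)) := by
      rw [← hK]
      haveI := hn
      exact (baseChangeEquiv (R ⧸ I) Fb K).symm.toEquiv.nontrivial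
    haveI := nontrivial_mapPoly F k K
    have h4 := (isRelGCI_iff (R ⧸ I) Fb).1 hFb pb (by rw [hK]; infer_instance)
    rw [hK] at h4
    refine ⟨h4.1, ?_⟩
    rw [ringKrullDim_eq_of_ringEquiv (R := p.asIdeal.Fiber S) (baseChangeEquiv R F k).toRingEquiv,
      ← ringKrullDim_mapPoly F k K]
    exact h4.2
  obtain ⟨g, hg, hstd⟩ := exists_isStd_nhd F hd.1 q' hd.2
  let T := Localization.Away g
  haveI : IsLocalization.Away (g * 1) T := by rw [mul_one]; infer_instance
  obtain ⟨n, c, G, hG, ⟨eG⟩⟩ := hstd 1 T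
  obtain ⟨m, b, hb⟩ := IsLocalization.Away.surj g₀ (π g)
  have hgb : Associated (π g) (algebraMap Sb Tb b) :=
    ⟨((IsLocalization.Away.algebraMap_isUnit g₀).pow m).unit, hb⟩
  let V := Localization.Away (π g)
  haveI : IsLocalization.Away (algebraMap Sb Tb b) V := IsLocalization.Away.of_associated hgb
  haveI : IsLocalization.Away (g₀ * b) V := IsLocalization.Away.mul' Tb V g₀ b
  have hu : IsUnit ((IsScalarTower.toAlgHom R Tb V).comp π g) := IsLocalization.Away.algebraMap_isUnit (π g)
  let ψ : T →ₐ[R] V := IsLocalization.Away.liftAlgHom g (f := (IsScalarTower.toAlgHom R Tb V).comp π) hu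
  have hψ0 : ∀ y, ψ (algebraMap S T y) = algebraMap Tb V (π y) := fun y =>
    IsLocalization.Away.lift_eq g hu y
  have hψ : Function.Surjective ψ := fun v => by
    obtain ⟨k, w, hw⟩ := IsLocalization.Away.surj (π g) v
    obtain ⟨y, rfl⟩ := hπ w
    have hgu : IsUnit (algebraMap S T g ^ k) := (IsLocalization.Away.algebraMap_isUnit g).pow k
    obtain ⟨u, hu'⟩ := hgu
    refine ⟨algebraMap S T y * u⁻¹.1, ?_⟩
    refine ((IsLocalization.Away.algebraMap_isUnit (π g)).pow k).mul_left_injective ?_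
    show ψ _ * algebraMap Tb V (π g) ^ k = v * algebraMap Tb V (π g) ^ k
    rw [hw, ← hψ0 g, ← map_pow, ← hu', ← map_mul, mul_assoc, Units.inv_mul, mul_one, hψ0]
  have hkerψ : RingHom.ker ψ.toRingHom = I.map (algebraMap R T) := by
    refine le_antisymm ?_ ?_
    · intro t ht
      obtain ⟨k, y, hy⟩ := IsLocalization.Away.surj g t
      have h1 : algebraMap Tb V (π y) = algebraMap Tb V 0 := by
        rw [← hψ0, ← hy, map_mul, show ψ t = 0 from ht, zero_mul, map_zero]
      obtain ⟨j, hj⟩ := IsLocalization.Away.exists_of_eq (π g) h1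
      rw [mul_zero, ← map_pow, ← map_mul] at hj
      have h2 : g ^ j * y ∈ I.map (algebraMap R S) := hker ▸ hj
      have h3 := Ideal.mem_map_of_mem (algebraMap S T) h2
      rw [Ideal.map_map, ← IsScalarTower.algebraMap_eq, map_mul, ← hy, ← mul_assoc, map_pow] at h3
      rw [mul_right_comm] at h3
      exact (Ideal.unit_mul_mem_iff_mem _ (((IsLocalization.Away.algebraMap_isUnit g).pow j).mul
        ((IsLocalization.Away.algebraMap_isUnit g).pow k))).1 h3
    · rw [Ideal.map_le_iff_le_comap]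
      intro a ha
      show ψ (algebraMap R T a) = 0
      rw [ψ.commutes, IsScalarTower.algebraMap_apply R Tb V, IsScalarTower.algebraMap_apply R (R ⧸ I) Tb,
        Ideal.Quotient.algebraMap_eq, Ideal.Quotient.eq_zero_iff_mem.2 ha, map_zero, map_zero]
  refine ⟨g₀ * b, fun hmem => ?_, n, c, G, hG, ⟨?_⟩⟩
  · refine (Ideal.IsPrime.mem_or_mem q.2 hmem).elim hg₀ fun hbq => hg ?_
    rw [← hqT] at hbq
    exact Ideal.mem_of_dvd qT.asIdeal hgb.symm.dvd hbq
  · let e1 : Localization.Away (g₀ * b) ≃ₐ[R] V :=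
      (IsLocalization.algEquiv (Submonoid.powers (g₀ * b)) (Localization.Away (g₀ * b)) V).restrictScalars R
    let e2 : (T ⧸ I.map (algebraMap R T)) ≃ₐ[R] V :=
      (Ideal.quotientEquivAlgOfEq R hkerψ.symm).trans (Ideal.quotientKerAlgEquivOfSurjective (R₁ := R) hψ)
    refine e1.trans (e2.symm.trans (Ideal.quotientEquivAlg _ _ eG.symm ?_))
    show _ = Ideal.map eG.symm.toAlgHom.toRingHom (I.map (algebraMap R T))
    rw [Ideal.map_map]
    congr 1
    exact eG.symm.toAlgHom.comp_algebraMap.symm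

/-- Let I be an ideal of a ring R and S̄ an R-algebra killed by I which is syntomic over R/I. Then S̄ is
covered by finitely many basic opens S̄_g each isomorphic, as an R-algebra, to S/IS for some
relative global complete intersection S over R. -/
theorem result (R : Type u) [CommRing R] (I : Ideal R) (Sb : Type u) [CommRing Sb]
    [Algebra R Sb] [Algebra (R ⧸ I) Sb] [IsScalarTower R (R ⧸ I) Sb] (h : Synt.IsSyntomic (R ⧸ I) Sb) :
    ∃ s : Finset Sb, Ideal.span (s : Set Sb) = ⊤ ∧ ∀ g ∈ s,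
      ∃ (n c : ℕ) (F : Fin c → MvPolynomial (Fin n) R), Synt.IsRelGCI R n c F ∧
        Nonempty (Localization.Away g ≃ₐ[R]
          (Synt.RelGCIRing R n c F ⧸ I.map (algebraMap R (Synt.RelGCIRing R n c F)))) := by
  classical
  choose g hg hdata using exists_lift_nhd I h
  have hspan : Ideal.span (Set.range g) = ⊤ := by
    by_contra hne
    obtain ⟨m, hm, hle⟩ := Ideal.exists_le_maximal _ hne
    exact hg ⟨m, hm.isPrime⟩ (hle (Ideal.subset_span (Set.mem_range_self _)))
  obtain ⟨t, ht, hts⟩ := (Ideal.span_eq_top_iff_finite _).1 hspan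
  refine ⟨t, hts, fun a ha => ?_⟩
  obtain ⟨q, rfl⟩ := ht ha
  exact hdata q

end Groth.Agent.S9150
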