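import Groth.Statements.S9151
import Mathlib
import Groth.Agent.Synt29.ConormalProj

set_option backward.isDefEq.respectTransparency.types false

set_option autoImplicit false
universe u
open Synt

namespace Groth.Agent.S9151

/-- Let S = R[x_1, …, x_n]/I with I finitely generated and let g ∈ S be such that S_g is syntomic over
R. Then the localization (I/I²)_g of the conormal module is a finite projective S_g-module. -/
theorem result (R : Type u) [CommRing R] (n : ℕ)
    (I : Ideal (MvPolynomial (Fin n) R)) (hI : I.FG) (g : MvPolynomial (Fin n) R ⧸ I)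
    (hg : Synt.IsSyntomic R (Localization.Away g)) :
    Module.Finite (Localization.Away g) (LocalizedModule (Submonoid.powers g) I.Cotangent) ∧
      Module.Projective (Localization.Away g) (LocalizedModule (Submonoid.powers g) I.Cotangent) := by
  let T := Localization.Away g
  let P : Algebra.Generators R (MvPolynomial (Fin n) R ⧸ I) (Fin n) := Algebra.Generators.naive
  let Q := (Algebra.Generators.localizationAway T g).comp P
  haveI := Synt29.projective_cotangent_of_isSyntomic Q hg
  haveI := Synt29.projective_cotangent_away P g T
  have key : ∀ J : Ideal (MvPolynomial (Fin n) R), J = I →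
      Nonempty (J.Cotangent ≃ₗ[MvPolynomial (Fin n) R] I.Cotangent) := by rintro J rfl; exact ⟨LinearEquiv.refl _ _⟩
  obtain ⟨e₀⟩ := key P.toExtension.ker (Algebra.Generators.ker_naive _ _)
  let e₁ : P.toExtension.Cotangent ≃ₗ[MvPolynomial (Fin n) R] I.Cotangent :=
    { toFun := fun x => e₀ x.val
      map_add' := fun x y => e₀.map_add x.val y.val
      map_smul' := fun r x =>
        (congrArg e₀ (Algebra.Extension.Cotangent.val_smul' (P := P.toExtension) r x)).trans (e₀.map_smul r x.val)
      invFun := fun y => Algebra.Extension.Cotangent.of (e₀.symm y)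
      left_inv := fun x => congrArg Algebra.Extension.Cotangent.of (e₀.symm_apply_apply x.val)
      right_inv := fun y => e₀.apply_symm_apply y }
  haveI : IsScalarTower (MvPolynomial (Fin n) R) (MvPolynomial (Fin n) R ⧸ I) P.toExtension.Cotangent :=
    inferInstanceAs (IsScalarTower P.toExtension.Ring (MvPolynomial (Fin n) R ⧸ I) P.toExtension.Cotangent)
  let e₂ : P.toExtension.Cotangent ≃ₗ[MvPolynomial (Fin n) R ⧸ I] I.Cotangent :=
    e₁.extendScalarsOfSurjective Ideal.Quotient.mk_surjective
  haveI : Module.Finite (MvPolynomial (Fin n) R) I.Cotangent :=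
    haveI : Module.Finite (MvPolynomial (Fin n) R) I := Module.Finite.iff_fg.2 hI
    Module.Finite.of_surjective I.toCotangent I.toCotangent_surjective
  haveI : Module.Finite (MvPolynomial (Fin n) R ⧸ I) I.Cotangent := Module.Finite.of_restrictScalars_finite (MvPolynomial (Fin n) R) _ _
  refine ⟨Module.Finite.of_isLocalizedModule (Submonoid.powers g) (LocalizedModule.mkLinearMap (Submonoid.powers g) I.Cotangent), ?_⟩
  exact Module.Projective.of_equiv
    ((LinearEquiv.baseChange (MvPolynomial (Fin n) R ⧸ I) T _ _ e₂).trans (LocalizedModule.equivTensorProduct (Submonoid.powers g) I.Cotangent).symm)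

end Groth.Agent.S9151
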