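import Groth.Statements.S9153
import Groth.Agent.DimFormula.Order
import Groth.Agent.DimFormula.Scheme

set_option autoImplicit false
universe u
open CAlg

namespace Groth.Agent.S9153

/-- In a polynomial ring in finitely many variables over a field, every saturated chain of primes
between two primes p ⊆ q has length equal to the difference of their heights (stated additively:
length + height p = height q). -/
theorem result (k : Type u) [Field k] (n : ℕ)
    (s : LTSeries (PrimeSpectrum (MvPolynomial (Fin n) k)))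
    (hsat : ∀ i : Fin s.length, s (Fin.castSucc i) ⋖ s (Fin.succ i)) :
    (s.length : ℕ∞) + s.head.asIdeal.height = s.last.asIdeal.height := by
  let A := MvPolynomial (Fin n) k
  have hcat := ((DimFormula.isUniversallyCatenary_field k).2 A inferInstance).2
  have hfin : ∀ p : PrimeSpectrum A, ∃ m : ℕ, Order.height p = m := fun p => by
    obtain ⟨m, hm⟩ := ENat.ne_top_iff_exists.mp (Ideal.height_ne_top_of_isPrime (I := p.asIdeal))
    exact ⟨m, by rw [← p.height_eq_orderHeight, ← hm]⟩
  obtain ⟨a, ha⟩ := hfin s.head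
  obtain ⟨b, hb⟩ := hfin s.last
  rw [s.head.height_eq_orderHeight, s.last.height_eq_orderHeight, ha, hb]
  obtain ⟨l₁, hl₁, hn₁, hs₁, hh₁⟩ := DimFormula.exists_saturated_series ha
  obtain ⟨l₃, hl₃, hn₃, hs₃, hh₃⟩ := DimFormula.exists_saturated_series hb
  have hbot : ∀ p : PrimeSpectrum A, Order.height p = 0 → p = ⟨⊥, Ideal.isPrime_bot⟩ := fun p hp =>
    le_antisymm (Order.height_eq_zero.1 hp (show (⟨⊥, Ideal.isPrime_bot⟩ : PrimeSpectrum A) ≤ p from bot_le (a := p.asIdeal))) (bot_le (a := p.asIdeal))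
  have hlen := hcat (l₁.smash s hl₁) l₃
    (by rw [RelSeries.head_smash, hbot _ hh₁, hbot _ hh₃])
    (by rw [RelSeries.last_smash, hl₃]) ?_ hs₃
  · rw [← hn₁, ← hn₃, ← hlen, ← Nat.cast_add, Nat.cast_inj, add_comm]
    rfl
  intro i
  refine Fin.addCases (fun j => ?_) (fun j => ?_) i
  · exact (congrArg₂ (· ⋖ ·) (RelSeries.smash_castAdd hl₁ j) (RelSeries.smash_succ_castAdd hl₁ j)).mpr (hs₁ j)
  · exact (congrArg₂ (· ⋖ ·) (RelSeries.smash_natAdd hl₁ j) (RelSeries.smash_succ_natAdd hl₁ j)).mpr (hsat j)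


end Groth.Agent.S9153
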