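import Groth.Statements.S9154
import Groth.Agent.CMEquidim.Basic
import Groth.Agent.Lib.CISeq

set_option autoImplicit false
universe u
open CAlg

namespace Groth.Agent.S9154

/-- Let S be a Cohen–Macaulay finite type algebra over a field k, equidimensional of dimension d, and
f_1, …, f_i elements (i ≤ d) generating a proper ideal whose zero locus has dimension at most d − i.
Then that dimension equals d − i and the f_j form a regular sequence in S_q for every prime q
containing them. (The published statement also allows the f_j to generate the unit ideal, where the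
zero locus is empty and the equality fails, e.g. f_1 = 1 in k[x]; this row assumes the ideal is
proper.) -/
theorem result (k S : Type u) [Field k] [CommRing S] [Algebra k S]
    [Algebra.FiniteType k S] [LocCoh.IsCohenMacaulayRing S] (d : ℕ)
    (heq : ∀ p ∈ minimalPrimes S, ringKrullDim (S ⧸ p) = d) (f : List S) (hi : f.length ≤ d)
    (hne : Ideal.ofList f ≠ ⊤)
    (hle : ringKrullDim (S ⧸ Ideal.ofList f) ≤ ((d - f.length : ℕ) : WithBot ℕ∞)) :
    ringKrullDim (S ⧸ Ideal.ofList f) = ((d - f.length : ℕ) : WithBot ℕ∞) ∧
      ∀ (q : Ideal S) [q.IsPrime], Ideal.ofList f ≤ q →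
        RingTheory.Sequence.IsRegular (Localization.AtPrime q)
          (f.map (algebraMap S (Localization.AtPrime q))) := by
  classical
  haveI : IsNoetherianRing S := Algebra.FiniteType.isNoetherianRing k S
  let I := Ideal.ofList f
  have hht : ∀ m : PrimeSpectrum S, m.asIdeal.IsMaximal → m.asIdeal.height = (d : ℕ∞) := fun m hm => by
    obtain ⟨P, hP, hPm⟩ := Ideal.exists_minimalPrimes_le (I := ⊥) (J := m.asIdeal) bot_le
    haveI : P.IsPrime := hP.1.1
    haveI := LocCoh.IsCohenMacaulayRing.isCohenMacaulayLocalRing_localization (R := S) m.asIdeal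
    rw [← CMEquidim.coheight_eq_height k (P := ⟨P, inferInstance⟩) hP hPm hm]
    have := (CMEquidim.coheight_bot_quotient (⟨P, inferInstance⟩ : PrimeSpectrum S)).symm.trans (heq P hP)
    exact_mod_cast this
  have hlow : ∀ m : PrimeSpectrum S, m.asIdeal.IsMaximal → I ≤ m.asIdeal →
      (d : WithBot ℕ∞) ≤ ringKrullDim (S ⧸ I) + (f.length : WithBot ℕ∞) := fun m hm hIm => by
    have h := Ideal.height_le_ringKrullDim_quotient_add_encard (p := m.asIdeal) {a | a ∈ f}
      (fun a ha => hIm (Ideal.subset_span ha))
    rw [hht m hm] at h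
    refine h.trans (add_le_add le_rfl ?_)
    have : ({a | a ∈ f} : Set S).encard ≤ f.length := by
      rw [show {a | a ∈ f} = (f.toFinset : Set S) by ext; simp, Set.encard_coe_eq_coe_finsetCard]
      exact_mod_cast f.toFinset_card_le
    exact_mod_cast this
  obtain ⟨m₀, hm₀, hIm₀⟩ := Ideal.exists_le_maximal I hne
  haveI : Nontrivial (S ⧸ I) := Ideal.Quotient.nontrivial_iff.2 hne
  refine ⟨?_, fun q _ hq => ?_⟩
  · obtain ⟨n, hn⟩ : ∃ n : ℕ, ringKrullDim (S ⧸ I) = (n : WithBot ℕ∞) := by
      have h0 : (0 : WithBot ℕ∞) ≤ ringKrullDim (S ⧸ I) := ringKrullDim_nonneg_of_nontrivial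
      generalize hD : ringKrullDim (S ⧸ I) = D at h0
      have hD' : D ≤ ((d - f.length : ℕ) : WithBot ℕ∞) := hD ▸ hle
      cases D with
      | bot => exact absurd h0 (by simp)
      | coe D =>
        obtain ⟨n, hn⟩ := ENat.ne_top_iff_exists.1 (fun h : D = ⊤ => by
          subst h
          exact absurd (WithBot.coe_le_coe.1 hD' : (⊤ : ℕ∞) ≤ ((d - f.length : ℕ) : ℕ∞)) (by simp))
        exact ⟨n, by rw [← hn]; rfl⟩
    have h1 := hlow ⟨m₀, hm₀.isPrime⟩ hm₀ hIm₀
    show ringKrullDim (S ⧸ I) = _
    have h2 : ringKrullDim (S ⧸ I) ≤ ((d - f.length : ℕ) : WithBot ℕ∞) := hle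
    rw [hn] at h1 h2 ⊢
    norm_cast at h1 h2 ⊢
    omega
  · obtain ⟨m, hm, hqm⟩ := Ideal.exists_le_maximal q (Ideal.IsPrime.ne_top ‹_›)
    haveI := hm.isPrime
    let A := Localization.AtPrime m
    haveI : LocCoh.IsCohenMacaulayLocalRing A :=
      LocCoh.IsCohenMacaulayRing.isCohenMacaulayLocalRing_localization (R := S) m
    let x : Fin f.length → A := fun i => algebraMap S A f[i]
    have hx : List.ofFn x = f.map (algebraMap S A) := by
      refine List.ext_getElem (by simp) fun i h1 h2 => ?_
      simp [x]
    have hmem : ∀ i, x i ∈ IsLocalRing.maximalIdeal A := fun i =>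
      (IsLocalization.AtPrime.to_map_mem_maximal_iff A m _).2 (hqm (hq (Ideal.subset_span (f.getElem_mem i.2))))
    have hIA : Ideal.span (Set.range x) = I.map (algebraMap S A) := by
      rw [Ideal.map_ofList, ← hx, Ideal.ofList]
      simp [List.mem_ofFn, Set.range]
    have hdA : ringKrullDim A = (d : WithBot ℕ∞) := by
      rw [IsLocalization.AtPrime.ringKrullDim_eq_height m A, hht ⟨m, hm.isPrime⟩ hm]
      rfl
    let ψ : S →+* A ⧸ Ideal.span (Set.range x) := (Ideal.Quotient.mk _).comp (algebraMap S A)
    have hup : ringKrullDim (A ⧸ Ideal.span (Set.range x)) ≤ ringKrullDim (S ⧸ I) := by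
      rw [ringKrullDim, ringKrullDim,
        Order.krullDim_eq_of_orderIso (Ideal.primeSpectrumQuotientOrderIsoZeroLocus I)]
      refine Order.krullDim_le_of_strictMono (fun p => ⟨PrimeSpectrum.comap ψ p, fun a ha => ?_⟩) ?_
      · show ψ a ∈ p.asIdeal
        rw [show ψ a = 0 from Ideal.Quotient.eq_zero_iff_mem.2 (hIA ▸ Ideal.mem_map_of_mem _ ha)]
        exact zero_mem _
      · have hinj : Function.Injective (PrimeSpectrum.comap ψ) := by
          rw [PrimeSpectrum.comap_comp]
          exact (PrimeSpectrum.localization_comap_injective A m.primeCompl).comp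
            (PrimeSpectrum.comap_injective_of_surjective _ Ideal.Quotient.mk_surjective)
        exact Monotone.strictMono_of_injective (fun a b hab => Ideal.comap_mono hab)
          fun a b hab => hinj (congrArg Subtype.val hab)
    have hdim : ringKrullDim (A ⧸ Ideal.span (Set.range x)) = ((d - f.length : ℕ) : WithBot ℕ∞) := by
      refine le_antisymm (hup.trans hle) ?_
      have h := Ideal.height_le_ringKrullDim_quotient_add_encard (p := IsLocalRing.maximalIdeal A) (Set.range x)
        (by rintro _ ⟨i, rfl⟩; exact hmem i)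
      rw [IsLocalRing.maximalIdeal_height_eq_ringKrullDim, hdA] at h
      have hc : (Set.range x).encard ≤ f.length := by
        rw [← Set.image_univ]
        exact (Set.encard_image_le _ _).trans (by simp [Set.encard_univ])
      generalize ringKrullDim (A ⧸ Ideal.span (Set.range x)) = D at h ⊢
      cases D with
      | bot => simp at h
      | coe D =>
        have h' : (d : ℕ∞) ≤ D + f.length := le_trans (by exact_mod_cast h) (add_le_add le_rfl hc)
        cases D with
        | top => exact le_top
        | coe D =>
          have h'' : d ≤ D + f.length := by exact_mod_cast h'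
          exact WithBot.coe_le_coe.2 (Nat.cast_le.2 (show d - f.length ≤ D by omega))
    have hreg := CISeq.isWeaklyRegular_of_dim d f.length hdA x hmem hi hdim
    rw [hx] at hreg
    letI : Algebra A (Localization.AtPrime q) :=
      IsLocalization.localizationAlgebraOfSubmonoidLe A (Localization.AtPrime q) m.primeCompl q.primeCompl
        (fun a ha h => ha (hqm h))
    haveI : IsScalarTower S A (Localization.AtPrime q) :=
      IsLocalization.localization_isScalarTower_of_submonoid_le A (Localization.AtPrime q) m.primeCompl q.primeCompl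
        (fun a ha h => ha (hqm h))
    haveI : IsLocalization (q.primeCompl.map (algebraMap S A)) (Localization.AtPrime q) :=
      IsLocalization.isLocalization_of_submonoid_le A (Localization.AtPrime q) m.primeCompl q.primeCompl
        (fun a ha h => ha (hqm h))
    have h2 := hreg.of_isLocalization (Localization.AtPrime q) (q.primeCompl.map (algebraMap S A))
    rw [List.map_map, ← RingHom.coe_comp, ← IsScalarTower.algebraMap_eq] at h2
    refine (IsLocalRing.isRegular_iff_isWeaklyRegular_of_subset_maximalIdeal fun r hr => ?_).2 h2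
    obtain ⟨a, ha, rfl⟩ := List.mem_map.1 hr
    exact (IsLocalization.AtPrime.to_map_mem_maximal_iff _ q a).2 (hq (Ideal.subset_span ha))


end Groth.Agent.S9154
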