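import Groth.Statements.S9156
import Groth.Agent.CMEquidim.Basic

set_option autoImplicit false
universe u
open CAlg

namespace Groth.Agent.S9156

/-- A Cohen–Macaulay finite type algebra S over a field k decomposes as a finite product of k-algebras
S_0 × ⋯ × S_N in which every maximal ideal of the factor S_d has height d (so Spec S is a finite
disjoint union of equidimensional open and closed pieces). -/
theorem result (k S : Type u) [Field k] [CommRing S]
    [Algebra k S] [Algebra.FiniteType k S] [LocCoh.IsCohenMacaulayRing S] :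
    ∃ (N : ℕ) (T : Fin (N + 1) → Type u) (_ : ∀ d, CommRing (T d)) (_ : ∀ d, Algebra k (T d)),
      Nonempty (S ≃ₐ[k] ((d : Fin (N + 1)) → T d)) ∧
        ∀ (d : Fin (N + 1)) (m : Ideal (T d)), m.IsMaximal → m.height = (d : ℕ) := by
  classical
  have hnat : ∀ q : PrimeSpectrum S, ∃ n : ℕ, FlatMor.localDim (PrimeSpectrum S) q = (n : WithBot ℕ∞) := fun q => by
    obtain ⟨m, hm, hle⟩ := Ideal.exists_le_maximal q.asIdeal q.isPrime.ne_top
    haveI := hm.isPrime
    haveI : IsNoetherianRing S := Algebra.FiniteType.isNoetherianRing k S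
    rw [CMEquidim.localDim_eq_height k (m := ⟨m, hm.isPrime⟩) hle hm]
    obtain ⟨n, hn⟩ := ENat.ne_top_iff_exists.1 (Ideal.height_ne_top_of_isPrime (I := m))
    exact ⟨n, by rw [← hn]; rfl⟩
  choose g hg using hnat
  have hgl : IsLocallyConstant g := IsLocallyConstant.desc g (fun n : ℕ => (n : WithBot ℕ∞))
    (by
      have := CMEquidim.isLocallyConstant_localDim k (S := S)
      simp only [hg] at this
      exact this)
    (fun a b h => Nat.cast_injective h)
  let N : ℕ := hgl.range_finite.toFinset.sup id
  have hN : ∀ q, g q < N + 1 := fun q => Nat.lt_succ_of_le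
    (Finset.le_sup (f := id) (hgl.range_finite.mem_toFinset.2 ⟨q, rfl⟩))
  let f : PrimeSpectrum S → Fin (N + 1) := fun q => ⟨g q, hN q⟩
  have hf : IsLocallyConstant f := IsLocallyConstant.desc f Fin.val hgl Fin.val_injective
  obtain ⟨a, -, ha, hbij⟩ := CMEquidim.exists_pi_of_isLocallyConstant f hf
  refine ⟨N, fun d => S ⧸ Ideal.span {a d}, fun d => inferInstance, fun d => inferInstance,
    ⟨AlgEquiv.ofBijective (Pi.algHom k (fun d => S ⧸ Ideal.span {a d}) fun d => Ideal.Quotient.mkₐ k _) hbij⟩,
    fun d m hm => ?_⟩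
  let M : PrimeSpectrum S := ⟨m.comap (Ideal.Quotient.mk _), hm.isPrime.comap _⟩
  have haM : a d ∈ M.asIdeal := by
    show Ideal.Quotient.mk _ (a d) ∈ m
    rw [Ideal.Quotient.eq_zero_iff_mem.2 (Ideal.mem_span_singleton_self _)]
    exact zero_mem _
  have hMmax : M.asIdeal.IsMaximal := by
    haveI := hm
    exact Ideal.comap_isMaximal_of_surjective _ Ideal.Quotient.mk_surjective
  have hd : g M = d := congrArg Fin.val ((ha d M).1 haM)
  have hh := (CMEquidim.localDim_eq_height k (q := M) (m := M) le_rfl hMmax).symm.trans (hg M)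
  rw [CMEquidim.height_quotient_of_lower _ ⟨m, hm.isPrime⟩ fun x hx => ?_, ← hd]
  · exact WithBot.coe_injective hh
  · rw [Ideal.span_singleton_le_iff_mem, ha]
    refine Fin.ext ?_
    show g x = d
    rw [← hd]
    have := (hg x).symm.trans ((CMEquidim.localDim_eq_of_le k (q := x) (q' := M) hx).trans (hg M))
    exact_mod_cast this


end Groth.Agent.S9156
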