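import Groth.Statements.S9157
import Groth.Agent.FPDescent.Basic

set_option autoImplicit false
universe u
open CAlg

namespace Groth.Agent.S9157

/-- If the localization S⁻¹M of an R-module M is finitely presented over S⁻¹R, then some finitely
presented R-module M' maps to M inducing an isomorphism S⁻¹M' → S⁻¹M. -/
theorem result (R : Type u) [CommRing R] (S : Submonoid R)
    (M : Type u) [AddCommGroup M] [Module R M]
    [Module.FinitePresentation (Localization S) (LocalizedModule S M)] :
    ∃ (M' : Type u) (_ : AddCommGroup M') (_ : Module R M') (φ : M' →ₗ[R] M),
      Module.FinitePresentation R M' ∧ Function.Bijective (LocalizedModule.map S φ) := by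
  obtain ⟨n, N, φ, hN, hb⟩ := Groth.Agent.FPDescent.exists_fp_descent S M
  exact ⟨_, inferInstance, inferInstance, φ,
    Module.finitePresentation_of_surjective N.mkQ N.mkQ_surjective (by rwa [Submodule.ker_mkQ]), hb⟩


end Groth.Agent.S9157
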