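import Groth.Statements.S9158
import Groth.Agent.GenFreeRed.Main

set_option autoImplicit false
universe u
open CAlg

namespace Groth.Agent.S9158

/-- Generic freeness over a reduced ring: let R → S be of finite type with R reduced and M a finite
S-module. There is a dense open subset U of Spec R such that each point of U lies in a basic open
D(f) ⊆ U with M_f and S_f free over R_f, S_f of finite presentation over R_f, and M_f of finite
presentation over S_f. -/
theorem result (R S : Type u) [CommRing R] [IsReduced R] [CommRing S]
    [Algebra R S] [Algebra.FiniteType R S] (M : Type u) [AddCommGroup M] [Module S M] [Module R M]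
    [IsScalarTower R S M] [Module.Finite S M] :
    ∃ U : Set (PrimeSpectrum R), IsOpen U ∧ Dense U ∧ ∀ u ∈ U, ∃ f : R, f ∉ u.asIdeal ∧
      (PrimeSpectrum.basicOpen f : Set (PrimeSpectrum R)) ⊆ U ∧
      Module.Free (Localization.Away f) (LocalizedModule (Submonoid.powers f) M) ∧
      Module.Free (Localization.Away f) (LocalizedModule (Submonoid.powers f) S) ∧
      (Localization.awayMap (algebraMap R S) f).FinitePresentation ∧
      Module.FinitePresentation (Localization.Away (algebraMap R S f))
        (LocalizedModule (Submonoid.powers (algebraMap R S f)) M) := by
  exact GenFreeRed.exists_dense_open R S M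


end Groth.Agent.S9158
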