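import Groth.Statements.S9161
import Mathlib

set_option autoImplicit false
universe u
open CAlg

namespace Groth.Agent.S9161

/-- If two two-term complexes of R-modules A₁ → A₀ and B₁ → B₀ are homotopy equivalent (maps of
complexes both ways whose composites are homotopic to the identity maps), then A₁ ⊕ B₀ and B₁ ⊕ A₀
are isomorphic R-modules. -/
theorem result (R : Type u) [CommRing R]
    (A₁ A₀ B₁ B₀ : Type u) [AddCommGroup A₁] [Module R A₁] [AddCommGroup A₀] [Module R A₀]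
    [AddCommGroup B₁] [Module R B₁] [AddCommGroup B₀] [Module R B₀]
    (dA : A₁ →ₗ[R] A₀) (dB : B₁ →ₗ[R] B₀) (φ₁ : A₁ →ₗ[R] B₁) (φ₀ : A₀ →ₗ[R] B₀)
    (ψ₁ : B₁ →ₗ[R] A₁) (ψ₀ : B₀ →ₗ[R] A₀) (hφ : dB ∘ₗ φ₁ = φ₀ ∘ₗ dA) (hψ : dA ∘ₗ ψ₁ = ψ₀ ∘ₗ dB)
    (h : A₀ →ₗ[R] A₁) (hh₁ : LinearMap.id - ψ₁ ∘ₗ φ₁ = h ∘ₗ dA) (hh₀ : LinearMap.id - ψ₀ ∘ₗ φ₀ = dA ∘ₗ h)
    (h' : B₀ →ₗ[R] B₁) (hh'₁ : LinearMap.id - φ₁ ∘ₗ ψ₁ = h' ∘ₗ dB)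
    (hh'₀ : LinearMap.id - φ₀ ∘ₗ ψ₀ = dB ∘ₗ h') :
    Nonempty ((A₁ × B₀) ≃ₗ[R] (B₁ × A₀)) := by
  have e1 : ∀ x, ψ₁ (φ₁ x) = x - h (dA x) := fun x => by
    have := LinearMap.congr_fun hh₁ x; simp at this; rw [← this]; abel
  have e0 : ∀ x, ψ₀ (φ₀ x) = x - dA (h x) := fun x => by
    have := LinearMap.congr_fun hh₀ x; simp at this; rw [← this]; abel
  have e1' : ∀ x, φ₁ (ψ₁ x) = x - h' (dB x) := fun x => by
    have := LinearMap.congr_fun hh'₁ x; simp at this; rw [← this]; abel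
  have e0' : ∀ x, φ₀ (ψ₀ x) = x - dB (h' x) := fun x => by
    have := LinearMap.congr_fun hh'₀ x; simp at this; rw [← this]; abel
  have c1 : ∀ x, dB (φ₁ x) = φ₀ (dA x) := fun x => LinearMap.congr_fun hφ x
  have c2 : ∀ x, dA (ψ₁ x) = ψ₀ (dB x) := fun x => LinearMap.congr_fun hψ x
  let F : A₁ × B₀ →ₗ[R] B₁ × A₀ :=
    LinearMap.prod (φ₁ ∘ₗ LinearMap.fst R A₁ B₀ + h' ∘ₗ LinearMap.snd R A₁ B₀)
      (-(dA ∘ₗ LinearMap.fst R A₁ B₀) + ψ₀ ∘ₗ LinearMap.snd R A₁ B₀)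
  let G : B₁ × A₀ →ₗ[R] A₁ × B₀ :=
    LinearMap.prod (ψ₁ ∘ₗ LinearMap.fst R B₁ A₀ - h ∘ₗ LinearMap.snd R B₁ A₀)
      (dB ∘ₗ LinearMap.fst R B₁ A₀ + φ₀ ∘ₗ LinearMap.snd R B₁ A₀)
  have hFG : ∀ p, F (G p) = p + ((h' (φ₀ p.2) - φ₁ (h p.2)), (0 : A₀)) := by
    rintro ⟨b, a⟩
    refine Prod.ext ?_ ?_
    · show φ₁ (ψ₁ b - h a) + h' (dB b + φ₀ a) = b + (h' (φ₀ a) - φ₁ (h a))
      rw [map_sub, map_add, e1']; abel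
    · show -(dA (ψ₁ b - h a)) + ψ₀ (dB b + φ₀ a) = a + 0
      rw [map_sub, map_add, c2, e0]; abel
  have hGF : ∀ p, G (F p) = p + ((ψ₁ (h' p.2) - h (ψ₀ p.2)), (0 : B₀)) := by
    rintro ⟨a, b⟩
    refine Prod.ext ?_ ?_
    · show ψ₁ (φ₁ a + h' b) - h (-(dA a) + ψ₀ b) = a + (ψ₁ (h' b) - h (ψ₀ b))
      rw [map_add, map_add, map_neg, e1]; abel
    · show dB (φ₁ a + h' b) + φ₀ (-(dA a) + ψ₀ b) = b + 0
      rw [map_add, map_add, map_neg, c1, e0']; abel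
  refine ⟨LinearEquiv.ofBijective F ⟨?_, ?_⟩⟩
  · rw [injective_iff_map_eq_zero]
    rintro ⟨a, b⟩ hp
    have h1 := hGF (a, b)
    rw [hp, map_zero] at h1
    have hb : b = 0 := by simpa using (congrArg Prod.snd h1).symm
    subst hb
    simpa using h1.symm
  · intro p
    obtain ⟨b, a⟩ := p
    refine ⟨G (b - (h' (φ₀ a) - φ₁ (h a)), a), ?_⟩
    rw [hFG]
    simp


end Groth.Agent.S9161
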