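import Groth.Statements.S9162
import Groth.Agent.CotHtpy.Basic

set_option autoImplicit false
universe u
open CAlg

namespace Groth.Agent.S9162

/-- Let S be an R-algebra and α : R[x_1, …, x_n] → S, β : R[y_1, …, y_m] → S surjective R-algebra maps
(presentations by polynomial rings in finitely many variables; the kernels I and J need not be
finitely generated). Then I/I² ⊕ S^m and J/J² ⊕ S^n are isomorphic S-modules. -/
theorem result (R S : Type u) [CommRing R] [CommRing S]
    [Algebra R S] (n m : ℕ) (α : MvPolynomial (Fin n) R →ₐ[R] S) (hα : Function.Surjective α)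
    (β : MvPolynomial (Fin m) R →ₐ[R] S) (hβ : Function.Surjective β) :
    Nonempty (((Algebra.Extension.ofSurjective α hα).Cotangent × (Fin m → S)) ≃ₗ[S]
      ((Algebra.Extension.ofSurjective β hβ).Cotangent × (Fin n → S))) := by
  obtain ⟨s, hs⟩ := Groth.Agent.CotHtpy.nonempty_hom α hα β hβ
  obtain ⟨t, ht⟩ := Groth.Agent.CotHtpy.nonempty_hom β hβ α hα
  let f : (Algebra.Extension.ofSurjective α hα).Hom (Algebra.Extension.ofSurjective β hβ) :=
    ⟨s.toRingHom, fun r => s.commutes r, fun x => AlgHom.congr_fun hs x⟩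
  let g : (Algebra.Extension.ofSurjective β hβ).Hom (Algebra.Extension.ofSurjective α hα) :=
    ⟨t.toRingHom, fun r => t.commutes r, fun x => AlgHom.congr_fun ht x⟩
  obtain ⟨e⟩ := Groth.Agent.CotHtpy.nonempty_prod_equiv f g
  obtain ⟨eα⟩ := Groth.Agent.CotHtpy.nonempty_cotangentSpace_equiv α hα
  obtain ⟨eβ⟩ := Groth.Agent.CotHtpy.nonempty_cotangentSpace_equiv β hβ
  exact ⟨((LinearEquiv.refl S _).prodCongr eβ.symm).trans (e.trans ((LinearEquiv.refl S _).prodCongr eα))⟩


end Groth.Agent.S9162
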