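import Groth.Statements.S9163
import Mathlib

set_option autoImplicit false
universe u
open CAlg

namespace Groth.Agent.S9163

/-- If S is integral over R, then any finitely many elements of R and of S lie in a pair R₀ ⊆ R, S₀ ⊆ S
with R₀ a finite type ℤ-subalgebra, S₀ an R₀-subalgebra of S, and S₀ finite as an R₀-module; so R →
S is the directed colimit of finite maps between finite type ℤ-algebras. -/
theorem result (R S : Type u) [CommRing R] [CommRing S] [Algebra R S]
    [Algebra.IsIntegral R S] (E : Finset R) (F : Finset S) :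
    ∃ (R₀ : Subalgebra ℤ R) (S₀ : Subalgebra R₀ S), Algebra.FiniteType ℤ R₀ ∧ (E : Set R) ⊆ R₀ ∧
      (F : Set S) ⊆ S₀ ∧ Module.Finite R₀ S₀ := by
  classical
  have hint : ∀ x : S, ∃ p : Polynomial R, p.Monic ∧ Polynomial.eval₂ (algebraMap R S) x p = 0 :=
    fun x => Algebra.IsIntegral.isIntegral x
  choose p hp hp0 using hint
  let G : Finset R := E ∪ F.biUnion fun x => (p x).coeffs
  let R₀ : Subalgebra ℤ R := Algebra.adjoin ℤ (G : Set R)
  have hft : Algebra.FiniteType ℤ R₀ := (Subalgebra.fg_iff_finiteType R₀).1 (Subalgebra.fg_adjoin_finset G)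
  refine ⟨R₀, Algebra.adjoin R₀ (F : Set S), hft, fun x hx => Algebra.subset_adjoin (Finset.mem_union_left _ hx),
    fun x hx => Algebra.subset_adjoin hx, ?_⟩
  refine Module.Finite.iff_fg.2 ((fg_adjoin_of_finite F.finite_toSet fun x hx => ?_) : (Subalgebra.toSubmodule (Algebra.adjoin R₀ (F : Set S))).FG)
  have hco : (↑(p x).coeffs : Set R) ⊆ R₀.toSubring := fun c hc =>
    Algebra.subset_adjoin (Finset.mem_union_right _ (Finset.mem_biUnion.2 ⟨x, hx, hc⟩))
  refine ⟨(p x).toSubring _ hco, ((p x).monic_toSubring _ hco).2 (hp x), ?_⟩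
  have e := (p x).map_toSubring _ hco
  rw [← hp0 x]
  conv_rhs => rw [← e, Polynomial.eval₂_map]
  rfl


end Groth.Agent.S9163
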