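import Groth.Statements.S9164
import Mathlib

set_option autoImplicit false
universe u
open CAlg

namespace Groth.Agent.S9164
lemma span_eq_top_iff' {R K V : Type*} [CommRing R] [IsDomain R] [Field K] [Algebra R K]
    [IsFractionRing R K] [AddCommGroup V] [Module K V] [Module R V] [IsScalarTower R K V]
    (N : Submodule R V) :
    Submodule.span K (N : Set V) = ⊤ ↔ ∀ v : V, ∃ r : R, r ≠ 0 ∧ r • v ∈ N := by
  constructor
  · intro h v
    have hv : v ∈ Submodule.span K (N : Set V) := h ▸ Submodule.mem_top
    refine Submodule.span_induction (p := fun v _ => ∃ r : R, r ≠ 0 ∧ r • v ∈ N) ?_ ?_ ?_ ?_ hv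
    · exact fun x hx => ⟨1, one_ne_zero, by rw [one_smul]; exact hx⟩
    · exact ⟨1, one_ne_zero, by simp⟩
    · rintro x y - - ⟨r, hr, hx⟩ ⟨r', hr', hy⟩
      refine ⟨r * r', mul_ne_zero hr hr', ?_⟩
      rw [smul_add, mul_smul, mul_smul]
      refine add_mem ?_ (N.smul_mem _ hy)
      rw [smul_comm]
      exact N.smul_mem _ hx
    · rintro c x - ⟨r, hr, hx⟩
      obtain ⟨a, b, hb, hc⟩ := IsFractionRing.div_surjective (A := R) c
      have hb0 : b ≠ 0 := nonZeroDivisors.ne_zero hb
      refine ⟨r * b, mul_ne_zero hr hb0, ?_⟩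
      have he : b • (c • x) = a • x := by
        rw [← hc, ← algebraMap_smul K b, smul_smul, mul_div_cancel₀ _
          (by simpa using hb0), algebraMap_smul]
      rw [mul_smul, he, smul_comm]
      exact N.smul_mem _ hx
  · intro h
    rw [eq_top_iff]
    intro v _
    obtain ⟨r, hr, hv⟩ := h v
    have : v = (algebraMap R K r)⁻¹ • (r • v) := by
      rw [← algebraMap_smul K r v, inv_smul_smul₀ (by simpa using hr)]
    rw [this]
    exact Submodule.smul_mem _ _ (Submodule.subset_span hv)

lemma isFiniteLength_of_fg_torsion {R Q : Type*} [CommRing R] [IsDomain R] [IsNoetherianRing R]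
    [Ring.KrullDimLE 1 R] [AddCommGroup Q] [Module R Q] [Module.Finite R Q]
    (h : ∀ q : Q, ∃ r : R, r ≠ 0 ∧ r • q = 0) : IsFiniteLength R Q := by
  obtain ⟨n, q, hq⟩ := Module.Finite.exists_fin (R := R) (M := Q)
  choose r hr hrq using fun i => h (q i)
  rw [isFiniteLength_iff_isNoetherian_isArtinian]
  refine ⟨inferInstance, ?_⟩
  have : ∀ i, IsArtinian R (R ⧸ Ideal.span {r i}) := fun i =>
    ((isFiniteLength_iff_isNoetherian_isArtinian).mp
      (isFiniteLength_quotient_span_singleton R (mem_nonZeroDivisors_of_ne_zero (hr i)))).2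
  let ψ : ∀ i, (R ⧸ Ideal.span {r i}) →ₗ[R] Q := fun i =>
    Submodule.liftQ _ (LinearMap.toSpanSingleton R Q (q i)) (by
      rw [Submodule.span_le, Set.singleton_subset_iff]
      exact hrq i)
  let Ψ : (∀ i, R ⧸ Ideal.span {r i}) →ₗ[R] Q :=
    ∑ i, ψ i ∘ₗ LinearMap.proj i
  refine isArtinian_of_surjective _ Ψ ?_
  intro z
  have hz : z ∈ Submodule.span R (Set.range q) := hq ▸ Submodule.mem_top
  obtain ⟨c, hc⟩ := (Submodule.mem_span_range_iff_exists_fun R).mp hz
  refine ⟨fun i => Submodule.Quotient.mk (c i), ?_⟩
  rw [← hc]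
  simp only [Ψ, ψ, LinearMap.sum_apply, LinearMap.comp_apply, LinearMap.proj_apply]
  exact Finset.sum_congr rfl fun i _ => by
    rw [Submodule.liftQ_apply, LinearMap.toSpanSingleton_apply]

lemma torsion_of_isFiniteLength {R Q : Type*} [CommRing R] [IsDomain R]
    (hR : ¬ IsArtinianRing R) [AddCommGroup Q] [Module R Q] (h : IsFiniteLength R Q) (q : Q) :
    ∃ r : R, r ≠ 0 ∧ r • q = 0 := by
  by_contra hq
  push Not at hq
  obtain ⟨-, hA⟩ := isFiniteLength_iff_isNoetherian_isArtinian.mp h
  exact hR (isArtinian_of_injective (LinearMap.toSpanSingleton R Q q) (LinearMap.ker_eq_bot.mp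
    ((Submodule.eq_bot_iff _).mpr fun x hx => by_contra fun h0 => hq x h0 hx)))


/-- Let R be a one-dimensional Noetherian local domain with fraction field K and V a finite-dimensional
K-vector space; a lattice is a finitely generated R-submodule of V spanning V over K. (1) For a
lattice M and an R-submodule M' ⊇ M: M' is a lattice iff M'/M has finite length over R iff M' is
finitely generated. (2) For a lattice M and M' ⊆ M: M' is a lattice iff M/M' has finite length. (3)
The intersection of two lattices is a lattice. (The published statement also asserts that the sum M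
+ M' of two lattices is a lattice and two identities between lengths of quotients of nested
lattices; this row states (1), (2) and the intersection half of (3).) -/
theorem result (R K V : Type u) [CommRing R] [IsDomain R]
    [IsNoetherianRing R] [IsLocalRing R] (hdim : ringKrullDim R = 1) [Field K] [Algebra R K]
    [IsFractionRing R K] [AddCommGroup V] [Module K V] [Module R V] [IsScalarTower R K V]
    [FiniteDimensional K V] (M : Submodule R V) [Submodule.IsLattice K M] :
    (∀ M' : Submodule R V, M ≤ M' →
        (Submodule.IsLattice K M' ↔ Module.length R (M' ⧸ Submodule.comap M'.subtype M) ≠ ⊤) ∧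
          (Submodule.IsLattice K M' ↔ M'.FG)) ∧
      (∀ M' : Submodule R V, M' ≤ M →
        (Submodule.IsLattice K M' ↔ Module.length R (M ⧸ Submodule.comap M.subtype M') ≠ ⊤)) ∧
      ∀ M' : Submodule R V, Submodule.IsLattice K M' → Submodule.IsLattice K (M ⊓ M') := by
  have : Ring.KrullDimLE 1 R := Ring.krullDimLE_iff.mpr (by rw [hdim]; norm_num)
  have hR : ¬ IsArtinianRing R := by
    intro h
    have : Ring.KrullDimLE 0 R := inferInstance
    have h0 := Ring.krullDimLE_iff.mp this
    rw [hdim] at h0
    norm_num at h0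
  have hMfg : M.FG := Submodule.IsLattice.fg (A := K)
  have hMspan := (span_eq_top_iff' (K := K) M).mp (Submodule.IsLattice.span_eq_top)
  refine ⟨fun M' hle => ?_, fun M' hle => ?_, fun M' hM' => ?_⟩
  · have hspan : Submodule.span K (M' : Set V) = ⊤ := (span_eq_top_iff' M').mpr fun v =>
      let ⟨r, hr, hv⟩ := hMspan v
      ⟨r, hr, hle hv⟩
    have h1 : Submodule.IsLattice K M' ↔ M'.FG := ⟨fun h => h.fg, fun h => ⟨h, hspan⟩⟩
    refine ⟨?_, h1⟩
    rw [h1, Module.length_ne_top_iff]
    constructor
    · intro h
      have : Module.Finite R M' := Module.Finite.iff_fg.mpr h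
      refine isFiniteLength_of_fg_torsion fun q => ?_
      obtain ⟨x, rfl⟩ := Submodule.Quotient.mk_surjective _ q
      obtain ⟨r, hr, hx⟩ := hMspan x.1
      exact ⟨r, hr, by rw [← Submodule.Quotient.mk_smul, Submodule.Quotient.mk_eq_zero]; exact hx⟩
    · intro h
      obtain ⟨hN, -⟩ := isFiniteLength_iff_isNoetherian_isArtinian.mp h
      have hc : (Submodule.comap M'.subtype M).FG := by
        apply Submodule.fg_of_fg_map_injective M'.subtype M'.injective_subtype
        rw [Submodule.map_comap_subtype, inf_eq_right.mpr hle]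
        exact hMfg
      have : (⊤ : Submodule R M').FG :=
        Submodule.fg_of_fg_map_of_fg_inf_ker (Submodule.comap M'.subtype M).mkQ
          (IsNoetherian.noetherian _) (by rwa [Submodule.ker_mkQ, top_inf_eq])
      exact (Submodule.fg_top M').mp this
  · have : Module.Finite R M := Module.Finite.iff_fg.mpr hMfg
    rw [Module.length_ne_top_iff]
    constructor
    · intro h
      have h2 := (span_eq_top_iff' (K := K) M').mp h.span_eq_top
      refine isFiniteLength_of_fg_torsion fun q => ?_
      obtain ⟨x, rfl⟩ := Submodule.Quotient.mk_surjective _ q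
      obtain ⟨r, hr, hx⟩ := h2 x.1
      exact ⟨r, hr, by rw [← Submodule.Quotient.mk_smul, Submodule.Quotient.mk_eq_zero]; exact hx⟩
    · intro h
      refine ⟨?_, (span_eq_top_iff' M').mpr fun v => ?_⟩
      · have hc : (Submodule.comap M.subtype M').FG := IsNoetherian.noetherian _
        have := hc.map M.subtype
        rwa [Submodule.map_comap_subtype, inf_eq_right.mpr hle] at this
      · obtain ⟨r, hr, hv⟩ := hMspan v
        obtain ⟨r', hr', hq⟩ := torsion_of_isFiniteLength hR h
          (Submodule.Quotient.mk (⟨r • v, hv⟩ : M))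
        rw [← Submodule.Quotient.mk_smul, Submodule.Quotient.mk_eq_zero] at hq
        exact ⟨r' * r, mul_ne_zero hr' hr, by rw [mul_smul]; exact hq⟩
  · have : Module.Finite R M := Module.Finite.iff_fg.mpr hMfg
    have h2 := (span_eq_top_iff' (K := K) M').mp hM'.span_eq_top
    refine ⟨?_, (span_eq_top_iff' _).mpr fun v => ?_⟩
    · have hc : (Submodule.comap M.subtype M').FG := IsNoetherian.noetherian _
      have := hc.map M.subtype
      rwa [Submodule.map_comap_subtype] at this
    · obtain ⟨r, hr, hv⟩ := hMspan v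
      obtain ⟨r', hr', hv'⟩ := h2 v
      refine ⟨r * r', mul_ne_zero hr hr', ?_, ?_⟩
      · rw [mul_comm, mul_smul]; exact M.smul_mem _ hv
      · rw [mul_smul]; exact M'.smul_mem _ hv'


end Groth.Agent.S9164
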