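import Groth.Statements.S9165
import Groth.Agent.CMEquidim.Relative

set_option autoImplicit false
universe u
open CAlg

namespace Groth.Agent.S9165

/-- A flat, finitely presented ring map R → S whose fibre rings κ(p) ⊗ S are Cohen–Macaulay decomposes S
as a finite product of R-algebras S_d (d = 0, …, N), each again flat, finitely presented with
Cohen–Macaulay fibres, and with every irreducible component of every fibre of S_d of dimension d. -/
theorem result (R S : Type u) [CommRing R]
    [CommRing S] [Algebra R S] [Module.Flat R S] [Algebra.FinitePresentation R S]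
    (hCM : ∀ p : PrimeSpectrum R, LocCoh.IsCohenMacaulayRing (p.asIdeal.Fiber S)) :
    ∃ (N : ℕ) (T : Fin (N + 1) → Type u) (_ : ∀ d, CommRing (T d)) (_ : ∀ d, Algebra R (T d)),
      Nonempty (S ≃ₐ[R] ((d : Fin (N + 1)) → T d)) ∧
        ∀ d : Fin (N + 1), Module.Flat R (T d) ∧ Algebra.FinitePresentation R (T d) ∧
          (∀ p : PrimeSpectrum R, LocCoh.IsCohenMacaulayRing (p.asIdeal.Fiber (T d))) ∧
          ∀ (p : PrimeSpectrum R), ∀ P ∈ minimalPrimes (p.asIdeal.Fiber (T d)),
            ringKrullDim (p.asIdeal.Fiber (T d) ⧸ P) = ((d : ℕ) : WithBot ℕ∞) := by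
  classical
  choose g hg using fun q : PrimeSpectrum S => CMEquidim.exists_fibreDim hCM q
  have hgl : IsLocallyConstant g := IsLocallyConstant.desc g (fun n : ℕ => (n : WithBot ℕ∞))
    (by
      have := CMEquidim.isLocallyConstant_fibreDimAt hCM (S := S)
      simp only [hg] at this
      exact this)
    (fun a b h => Nat.cast_injective h)
  let N : ℕ := hgl.range_finite.toFinset.sup id
  have hN : ∀ q, g q < N + 1 := fun q => Nat.lt_succ_of_le
    (Finset.le_sup (f := id) (hgl.range_finite.mem_toFinset.2 ⟨q, rfl⟩))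
  let f : PrimeSpectrum S → Fin (N + 1) := fun q => ⟨g q, hN q⟩
  have hf : IsLocallyConstant f := IsLocallyConstant.desc f Fin.val hgl Fin.val_injective
  obtain ⟨a, ha, hmem, hbij⟩ := CMEquidim.exists_pi_of_isLocallyConstant f hf
  have hiso : ∀ d, ∃ ε : (S ⧸ Ideal.span {a d}) ≃ₐ[R] Localization.Away (1 - a d), True := fun d => by
    haveI : IsLocalization.Away (1 - a d) (S ⧸ Ideal.span {a d}) :=
      IsLocalization.away_of_isIdempotentElem (ha d).one_sub (by rw [sub_sub_cancel]; exact Ideal.mk_ker)
        Ideal.Quotient.mk_surjective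
    exact ⟨(IsLocalization.algEquiv (Submonoid.powers (1 - a d)) _ _).restrictScalars R, trivial⟩
  choose ε hε using hiso
  refine ⟨N, fun d => Localization.Away (1 - a d), fun d => inferInstance, fun d => inferInstance,
    ⟨(AlgEquiv.ofBijective (Pi.algHom R (fun d => S ⧸ Ideal.span {a d}) fun d => Ideal.Quotient.mkₐ R _) hbij).trans
      (AlgEquiv.piCongrRight ε)⟩, fun d => ?_⟩
  haveI : Algebra.FinitePresentation S (Localization.Away (1 - a d)) := IsLocalization.Away.finitePresentation (1 - a d)
  haveI : Algebra.FinitePresentation R (Localization.Away (1 - a d)) :=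
    Algebra.FinitePresentation.trans R S (Localization.Away (1 - a d))
  haveI : Module.Flat S (Localization.Away (1 - a d)) := IsLocalization.flat _ (Submonoid.powers (1 - a d))
  have hT : Module.Flat R (Localization.Away (1 - a d)) := Module.Flat.trans R S _
  haveI : ∀ p : PrimeSpectrum R, IsNoetherianRing (p.asIdeal.Fiber (Localization.Away (1 - a d))) := fun p =>
    Algebra.FiniteType.isNoetherianRing p.asIdeal.ResidueField _
  refine ⟨hT, inferInstance, fun p => ⟨fun P hP => ?_⟩, fun p P hP => ?_⟩
  · obtain ⟨Q', -, -, h⟩ := CMEquidim.fibre_away p.asIdeal (1 - a d) ⟨P, hP⟩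
    exact h ((hCM p).isCohenMacaulayLocalRing_localization Q'.asIdeal)
  · haveI : P.IsPrime := hP.1.1
    let PP : PrimeSpectrum (p.asIdeal.Fiber (Localization.Away (1 - a d))) := ⟨P, inferInstance⟩
    obtain ⟨q, hqP, hq⟩ := CAlgOdd.LocalDimSpec.exists_coheight_eq p.asIdeal.ResidueField PP
    obtain rfl : q = PP := le_antisymm hqP (hP.2 ⟨q.isPrime, bot_le⟩ hqP)
    rw [show P = PP.asIdeal from rfl, CMEquidim.coheight_bot_quotient PP, ← hq]
    obtain ⟨Q', hQ', hdim, -⟩ := CMEquidim.fibre_away p.asIdeal (1 - a d) PP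
    let x : PrimeSpectrum S := ⟨Q'.asIdeal.comap Algebra.TensorProduct.includeRight, inferInstance⟩
    rw [hdim, CMEquidim.localDim_fiber_eq p.asIdeal x Q' rfl, hg]
    have hx : f x = d := by
      refine (hmem d x).1 ?_
      have h1 : (1 - a d) ∉ x.asIdeal := by
        show (1 - a d) ∉ Q'.asIdeal.comap Algebra.TensorProduct.includeRight
        rw [hQ']
        intro hc
        exact (Ideal.IsPrime.ne_top inferInstance) (Ideal.eq_top_of_isUnit_mem _ (Ideal.mem_comap.1 hc)
          (IsLocalization.Away.algebraMap_isUnit (S := Localization.Away (1 - a d)) (1 - a d)))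
      refine (x.isPrime.mem_or_mem ?_).resolve_right h1
      rw [mul_sub, mul_one, (ha d).eq, sub_self]
      exact zero_mem _
    rw [show g x = d from congrArg Fin.val hx]


end Groth.Agent.S9165
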