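import Groth.Statements.S9166
import Mathlib
import Groth.Agent.FlatModel.Local

set_option autoImplicit false
universe u
open CAlg

namespace Groth.Agent.S9166

/-- Let I be an ideal of a ring R, S → S' a surjective homomorphism of R-algebras with S of finite type
and S' of finite presentation over R, and q a prime of S containing IS. Assume S'_q is flat over R
and that S_q/IS_q → S'_q/IS'_q is an isomorphism, which for a surjection says: every element of the
kernel of S → S' maps into I·S_q. Then for some g ∉ q the localized map S_g → S'_g is bijective. -/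
theorem result (R S S' : Type u) [CommRing R] [CommRing S]
    [CommRing S'] [Algebra R S] [Algebra R S'] [Algebra.FiniteType R S] [Algebra.FinitePresentation R S']
    (I : Ideal R) (f : S →ₐ[R] S') (hf : Function.Surjective f) (q : Ideal S) [q.IsPrime]
    (hq : I.map (algebraMap R S) ≤ q)
    (hker : ∀ j : S, f j = 0 →
      algebraMap S (Localization.AtPrime q) j ∈ I.map (algebraMap R (Localization.AtPrime q)))
    (hflat : letI : Module S S' := f.toRingHom.toModule
      Module.Flat R (LocalizedModule q.primeCompl S')) :
    ∃ g : S, g ∉ q ∧ Function.Bijective (Localization.awayMap f.toRingHom g) := by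
  classical
  let : Module S S' := f.toRingHom.toModule
  have hsmul : ∀ (s : S) (x : S'), s • x = f s * x := fun s x => rfl
  have : IsScalarTower R S S' := ⟨fun r s x => by
    rw [hsmul, hsmul, map_smul, smul_mul_assoc]⟩
  have hcrit := (FlatModel.flat_localized_iff (R := R) q.primeCompl (LocalizedModule.mkLinearMap q.primeCompl S')).1 hflat I
  let J : Ideal S := RingHom.ker f.toRingHom
  have hJfg : J.FG := by
    obtain ⟨n, p, hp⟩ := Algebra.FiniteType.iff_quotient_mvPolynomial''.1 (‹Algebra.FiniteType R S›)
    have h := (Algebra.FinitePresentation.ker_fG_of_surjective (f.comp p) (hf.comp hp)).map p.toRingHom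
    have e : (RingHom.ker (f.comp p).toRingHom).map p.toRingHom = J := by
      rw [show RingHom.ker (f.comp p).toRingHom = J.comap p.toRingHom from rfl, Ideal.map_comap_of_surjective p.toRingHom hp]
    rwa [e] at h
  -- `J` is `IJ` at `q`
  have hJ : ∀ j ∈ J, ∃ u ∈ q.primeCompl, u * j ∈ I.map (algebraMap R S) * J := by
    intro j hj
    have h1 : algebraMap S (Localization.AtPrime q) j ∈ (I.map (algebraMap R S)).map (algebraMap S (Localization.AtPrime q)) := by
      rw [Ideal.map_map, ← IsScalarTower.algebraMap_eq]; exact hker j hj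
    rw [IsLocalization.algebraMap_mem_map_algebraMap_iff q.primeCompl] at h1
    obtain ⟨u, hu, hu'⟩ := h1
    obtain ⟨y, hy⟩ : ∃ y : TensorProduct R S I, TensorProduct.rid R S (I.subtype.lTensor S y) = u * j := by
      generalize u * j = x at hu'
      induction hu' using Submodule.span_induction with
      | mem x hx =>
        obtain ⟨r, hr, rfl⟩ := hx
        exact ⟨1 ⊗ₜ[R] (⟨r, hr⟩ : I), by simp [Algebra.smul_def]⟩
      | zero => exact ⟨0, by simp⟩
      | add x z _ _ hx hz =>
        obtain ⟨y₁, rfl⟩ := hx; obtain ⟨y₂, rfl⟩ := hz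
        exact ⟨y₁ + y₂, by simp⟩
      | smul c x _ hx =>
        obtain ⟨y₁, rfl⟩ := hx
        refine ⟨c • y₁, ?_⟩
        clear * -
        induction y₁ using TensorProduct.induction_on with
        | zero => simp
        | tmul a b => simp [TensorProduct.smul_tmul', mul_smul_comm]
        | add a b ha hb => simp only [smul_add, map_add, ha, hb]
    let fl : S →ₗ[R] S' := f.toLinearMap
    have hnat : ∀ y : TensorProduct R S I, TensorProduct.rid R S' (I.subtype.lTensor S' (fl.rTensor I y)) =
        f (TensorProduct.rid R S (I.subtype.lTensor S y)) := by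
      intro y
      induction y using TensorProduct.induction_on with
      | zero => simp
      | tmul a b => simp [fl]
      | add a b ha hb => simp only [map_add, ha, hb]
    have h0 : I.subtype.lTensor S' (fl.rTensor I y) = 0 := by
      apply (TensorProduct.rid R S').injective
      rw [hnat, hy, map_mul, show f j = 0 from hj, mul_zero, map_zero]
    obtain ⟨s, hs, hsy⟩ := hcrit _ h0
    have hsm : ∀ y : TensorProduct R S I, fl.rTensor I (s • y) = s • fl.rTensor I y := by
      intro y
      induction y using TensorProduct.induction_on with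
      | zero => simp
      | tmul a b => simp [fl, TensorProduct.smul_tmul', hsmul]
      | add a b ha hb => simp only [smul_add, map_add, ha, hb]
    rw [← hsm] at hsy
    let i : J.restrictScalars R →ₗ[R] S := (J.restrictScalars R).subtype
    have hex : Function.Exact i fl := fun x => ⟨fun h => ⟨⟨x, h⟩, rfl⟩, by rintro ⟨⟨z, hz⟩, rfl⟩; exact hz⟩
    obtain ⟨z, hz⟩ := (rTensor_exact I hex hf _).1 hsy
    refine ⟨s * u, mul_mem hs hu, ?_⟩
    have e : TensorProduct.rid R S (I.subtype.lTensor S (s • y)) = s * u * j := by
      rw [mul_assoc, ← hy]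
      generalize y = w
      induction w using TensorProduct.induction_on with
      | zero => simp
      | tmul a b => simp [TensorProduct.smul_tmul', mul_smul_comm]
      | add a b ha hb => simp only [smul_add, map_add, mul_add, ha, hb]
    rw [← e, ← hz]
    clear e hz
    induction z using TensorProduct.induction_on with
    | zero => simp
    | tmul a b =>
      simp only [i, LinearMap.rTensor_tmul, LinearMap.lTensor_tmul, TensorProduct.rid_tmul, Submodule.subtype_apply, Algebra.smul_def]
      exact Ideal.mul_mem_mul (Ideal.mem_map_of_mem _ b.2) a.2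
    | add a b ha hb => simp only [map_add]; exact add_mem ha hb
  -- Nakayama at `q`
  let B := Localization.AtPrime q
  have hJB : J.map (algebraMap S B) = ⊥ := by
    apply Submodule.eq_bot_of_le_smul_of_le_jacobson_bot (q.map (algebraMap S B))
    · exact hJfg.map _
    · rw [smul_eq_mul, Ideal.map_le_iff_le_comap]
      intro j hj
      obtain ⟨u, hu, huj⟩ := hJ j hj
      rw [Ideal.mem_comap, ← Ideal.map_mul, IsLocalization.algebraMap_mem_map_algebraMap_iff q.primeCompl]
      exact ⟨u, hu, Ideal.mul_mono_left hq huj⟩
    · rw [IsLocalization.AtPrime.map_eq_maximalIdeal q B]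
      exact IsLocalRing.maximalIdeal_le_jacobson _
  obtain ⟨G, hG⟩ := hJfg
  have hann : ∀ j ∈ G, ∃ u ∈ q.primeCompl, u * j = 0 := fun j hj => by
    have h1 : algebraMap S B j = 0 := by
      have : algebraMap S B j ∈ J.map (algebraMap S B) := Ideal.mem_map_of_mem _ (hG.le (Submodule.subset_span hj))
      rwa [hJB, Ideal.mem_bot] at this
    obtain ⟨u, hu⟩ := (IsLocalization.map_eq_zero_iff q.primeCompl B j).1 h1
    exact ⟨u, u.2, hu⟩
  choose! u hu huj using hann
  let g := ∏ j ∈ G, u j
  have hgq : g ∈ q.primeCompl := Submonoid.prod_mem _ hu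
  have hgJ : ∀ x ∈ J, g * x = 0 := by
    intro x hx
    have hle : Submodule.span S (G : Set S) ≤ LinearMap.ker (LinearMap.mulLeft S g) := Submodule.span_le.2 fun j hj => by
      obtain ⟨d, hd⟩ := Finset.dvd_prod_of_mem u hj
      show g * j = 0
      rw [show g = u j * d from hd, mul_right_comm, huj j hj, zero_mul]
    exact hle (hG.ge hx)
  refine ⟨g, hgq, ?_, ?_⟩
  · rw [injective_iff_map_eq_zero]
    intro x hx
    obtain ⟨a, s, rfl⟩ := IsLocalization.exists_mk'_eq (Submonoid.powers g) x
    rw [Localization.awayMap, IsLocalization.Away.map, IsLocalization.map_mk', IsLocalization.mk'_eq_zero_iff] at hx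
    obtain ⟨⟨_, k, rfl⟩, hk⟩ := hx
    have hk' : g ^ k * a ∈ J := by
      show f _ = 0
      rw [map_mul, map_pow]
      exact hk
    rw [IsLocalization.mk'_eq_zero_iff]
    exact ⟨⟨g ^ (k + 1), k + 1, rfl⟩, by show g ^ (k + 1) * a = 0; rw [pow_succ', mul_assoc]; exact hgJ _ hk'⟩
  · intro y
    obtain ⟨b, ⟨_, k, rfl⟩, rfl⟩ := IsLocalization.exists_mk'_eq (Submonoid.powers (f.toRingHom g)) y
    obtain ⟨a, rfl⟩ := hf b
    refine ⟨IsLocalization.mk' (Localization.Away g) a (⟨g ^ k, k, rfl⟩ : Submonoid.powers g), ?_⟩
    rw [Localization.awayMap, IsLocalization.Away.map, IsLocalization.map_mk']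
    congr 1
    exact Subtype.ext (map_pow f.toRingHom g k)


end Groth.Agent.S9166
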