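import Groth.Statements.S9167
import Groth.Agent.FPDescent.Basic

set_option autoImplicit false
universe u
open CAlg

namespace Groth.Agent.S9167

/-- With R' = S⁻¹(R/I), every finitely presented R'-module is of the form S⁻¹(M/IM) for some finitely
presented R-module M. -/
theorem result (R : Type u) [CommRing R] (I : Ideal R)
    (S : Submonoid R) (M' : Type u) [AddCommGroup M']
    [Module (Localization (S.map (Ideal.Quotient.mk I))) M']
    [Module.FinitePresentation (Localization (S.map (Ideal.Quotient.mk I))) M'] :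
    ∃ (M : Type u) (_ : AddCommGroup M) (_ : Module R M), Module.FinitePresentation R M ∧
      Nonempty (LocalizedModule (S.map (Ideal.Quotient.mk I)) (M ⧸ (I • ⊤ : Submodule R M))
        ≃ₗ[Localization (S.map (Ideal.Quotient.mk I))] M') := by
  classical
  let A := R ⧸ I
  let T : Submonoid A := S.map (Ideal.Quotient.mk I)
  letI : Module A M' := Module.compHom M' (algebraMap A (Localization T))
  haveI : IsScalarTower A (Localization T) M' := ⟨fun a b x => by rw [Algebra.smul_def, mul_smul]; rfl⟩
  haveI : IsLocalizedModule T (LinearMap.id : M' →ₗ[A] M') := by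
    refine ⟨fun x => ?_, fun y => ⟨⟨y, 1⟩, by simp⟩, fun h => ⟨1, by simpa using h⟩⟩
    rw [Module.End.isUnit_iff]
    obtain ⟨w, hw⟩ := IsLocalization.map_units (Localization T) x
    have h1 : ∀ y : M', (algebraMap A (Module.End A M') x) y = (w : Localization T) • y := fun y => by
      rw [hw, algebraMap_smul]; rfl
    constructor
    · intro a b h
      rw [h1, h1] at h
      simpa [smul_smul] using congrArg (fun z => ((w⁻¹ : (Localization T)ˣ) : Localization T) • z) h
    · intro b
      exact ⟨((w⁻¹ : (Localization T)ˣ) : Localization T) • b, by rw [h1, smul_smul, Units.mul_inv, one_smul]⟩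
  let e0 : LocalizedModule T M' ≃ₗ[A] M' := IsLocalizedModule.iso T LinearMap.id
  let e : LocalizedModule T M' ≃ₗ[Localization T] M' := LinearEquiv.extendScalarsOfIsLocalization T _ e0
  haveI : Module.FinitePresentation (Localization T) (LocalizedModule T M') :=
    Module.FinitePresentation.of_equiv e.symm
  obtain ⟨n, N, φ, hN, hb⟩ := Groth.Agent.FPDescent.exists_fp_descent T M'
  obtain ⟨G, hG⟩ := hN
  let π : (Fin n → R) →ₗ[R] (Fin n → A) := LinearMap.compLeft (Algebra.linearMap R A) (Fin n)
  have hπ : Function.Surjective π := fun f =>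
    ⟨fun i => (Ideal.Quotient.mk_surjective (f i)).choose, funext fun i => (Ideal.Quotient.mk_surjective (f i)).choose_spec⟩
  let K : Submodule R (Fin n → R) := Submodule.span R (G.image (Function.surjInv hπ) : Set (Fin n → R))
  let ψ : (Fin n → R) →ₗ[R] ((Fin n → A) ⧸ N) := (N.mkQ.restrictScalars R).comp π
  have hK : K ≤ LinearMap.ker ψ := Submodule.span_le.2 fun x hx => by
    obtain ⟨g, hg, rfl⟩ := Finset.mem_image.1 (Finset.mem_coe.1 hx)
    simp only [ψ, SetLike.mem_coe, LinearMap.mem_ker, LinearMap.comp_apply, LinearMap.restrictScalars_apply,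
      Function.surjInv_eq hπ, Submodule.mkQ_apply, Submodule.Quotient.mk_eq_zero]
    exact hG ▸ Submodule.subset_span hg
  let M := (Fin n → R) ⧸ K
  haveI : Module.FinitePresentation R M :=
    Module.finitePresentation_of_surjective K.mkQ K.mkQ_surjective (by rw [Submodule.ker_mkQ]; exact ⟨_, rfl⟩)
  let ψ' : M →ₗ[R] ((Fin n → A) ⧸ N) := K.liftQ ψ hK
  have hψ : Function.Surjective ψ' := fun x => by
    obtain ⟨x, rfl⟩ := N.mkQ_surjective x
    obtain ⟨y, rfl⟩ := hπ x
    exact ⟨K.mkQ y, rfl⟩
  have hker : LinearMap.ker ψ' = I • (⊤ : Submodule R M) := by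
    refine le_antisymm ?_ (Submodule.smul_le.2 fun r hr x _ => ?_)
    · intro x hx
      obtain ⟨y, rfl⟩ := K.mkQ_surjective x
      have hy : π y ∈ N := (Submodule.Quotient.mk_eq_zero _).1 hx
      rw [← hG] at hy
      have h2 : ∀ z ∈ Submodule.span A (G : Set (Fin n → A)), ∃ w ∈ K, π w = z := by
        intro z hz
        induction hz using Submodule.span_induction with
        | mem z hz =>
          exact ⟨Function.surjInv hπ z, Submodule.subset_span (Finset.mem_coe.2 (Finset.mem_image_of_mem _ hz)),
            Function.surjInv_eq hπ z⟩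
        | zero => exact ⟨0, K.zero_mem, map_zero π⟩
        | add a b _ _ ha hb =>
          obtain ⟨u, hu, rfl⟩ := ha
          obtain ⟨v, hv, rfl⟩ := hb
          exact ⟨u + v, K.add_mem hu hv, map_add π u v⟩
        | smul c a _ ha =>
          obtain ⟨u, hu, rfl⟩ := ha
          obtain ⟨r, rfl⟩ := Ideal.Quotient.mk_surjective c
          exact ⟨r • u, K.smul_mem r hu, by rw [map_smul]; rfl⟩
      obtain ⟨w, hw, hwy⟩ := h2 _ hy
      have e1 : K.mkQ y = K.mkQ (y - w) := by
        rw [map_sub, show K.mkQ w = 0 from (Submodule.Quotient.mk_eq_zero _).2 hw, sub_zero]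
      rw [e1, pi_eq_sum_univ (y - w), map_sum]
      refine Submodule.sum_mem _ fun i _ => ?_
      rw [map_smul]
      refine Submodule.smul_mem_smul ?_ trivial
      exact Ideal.Quotient.eq.1 (congrFun hwy.symm i)
    · rw [LinearMap.mem_ker, map_smul, ← algebraMap_smul A r, show algebraMap R A r = 0 from
        Ideal.Quotient.eq_zero_iff_mem.2 hr, zero_smul]
  let e1 : (M ⧸ (I • ⊤ : Submodule R M)) ≃ₗ[R] ((Fin n → A) ⧸ N) :=
    (Submodule.quotEquivOfEq _ _ hker.symm).trans (ψ'.quotKerEquivOfSurjective hψ)
  let e2 : (M ⧸ (I • ⊤ : Submodule R M)) ≃ₗ[A] ((Fin n → A) ⧸ N) :=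
    e1.extendScalarsOfSurjective Ideal.Quotient.mk_surjective
  have hb2 : Function.Bijective (LocalizedModule.map T (φ.comp e2.toLinearMap)) := by
    constructor
    · rw [injective_iff_map_eq_zero]
      intro w
      induction w using LocalizedModule.induction_on with
      | h x a =>
        intro h
        rw [LocalizedModule.map_mk, LinearMap.comp_apply] at h
        have h3 : LocalizedModule.mk (e2 x) a = 0 := hb.1 (by rw [LocalizedModule.map_mk, map_zero]; exact h)
        rw [← LocalizedModule.zero_mk (1 : T), LocalizedModule.mk_eq] at h3 ⊢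
        obtain ⟨u, hu⟩ := h3
        refine ⟨u, e2.injective ?_⟩
        simpa [Submonoid.smul_def] using hu
    · intro z
      obtain ⟨w, rfl⟩ := hb.2 z
      induction w using LocalizedModule.induction_on with
      | h x a => exact ⟨LocalizedModule.mk (e2.symm x) a, by simp [LocalizedModule.map_mk]⟩
  exact ⟨M, inferInstance, inferInstance, inferInstance, ⟨(LinearEquiv.ofBijective _ hb2).trans e⟩⟩


end Groth.Agent.S9167
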