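import Groth.Statements.S9168
import Mathlib

set_option autoImplicit false
universe u
open CAlg

namespace Groth.Agent.S9168
universe v
def unitClosure {R : Type*} [CommRing R] (B : Subring R) : Subring R where
  carrier := {x | ∃ t ∈ B, IsUnit t ∧ x * t ∈ B}
  zero_mem' := ⟨1, one_mem _, isUnit_one, by simp⟩
  one_mem' := ⟨1, one_mem _, isUnit_one, by simp⟩
  neg_mem' := by
    rintro x ⟨t, ht, htu, hx⟩
    exact ⟨t, ht, htu, by rw [neg_mul]; exact neg_mem hx⟩
  add_mem' := by
    rintro x y ⟨t, ht, htu, hx⟩ ⟨s, hs, hsu, hy⟩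
    refine ⟨t * s, mul_mem ht hs, htu.mul hsu, ?_⟩
    rw [add_mul, ← mul_assoc x, mul_left_comm y]
    exact add_mem (mul_mem hx hs) (mul_mem ht hy)
  mul_mem' := by
    rintro x y ⟨t, ht, htu, hx⟩ ⟨s, hs, hsu, hy⟩
    refine ⟨t * s, mul_mem ht hs, htu.mul hsu, ?_⟩
    rw [mul_mul_mul_comm]
    exact mul_mem hx hy

lemma le_unitClosure {R : Type*} [CommRing R] (B : Subring R) : B ≤ unitClosure B :=
  fun x hx => ⟨1, one_mem _, isUnit_one, by rwa [mul_one]⟩

lemma isLocalHom_subtype_unitClosure {R : Type*} [CommRing R] (B : Subring R) :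
    IsLocalHom (unitClosure B).subtype := by
  constructor
  rintro ⟨x, t, ht, htu, hx⟩ hu
  have hu' : IsUnit x := hu
  refine IsUnit.of_mul_eq_one ⟨↑hu'.unit⁻¹, x * t, hx, hu'.mul htu, ?_⟩
    (Subtype.ext (hu'.mul_val_inv))
  rw [← mul_assoc, IsUnit.val_inv_mul, one_mul]
  exact ht

lemma essFiniteType_unitClosure {A R : Type*} [CommRing A] [CommRing R] (B : Subring R)
    (F : Finset R) (f : A →+* unitClosure B) (hF : ∀ x ∈ F, x ∈ unitClosure B)
    (hB : B ≤ Subring.closure (Set.range (fun a => (f a : R)) ∪ F)) : f.EssFiniteType := by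
  classical
  letI := f.toAlgebra
  rw [RingHom.EssFiniteType, Algebra.essFiniteType_iff]
  let σ : Finset (unitClosure B) := F.attach.image fun x => ⟨x.1, hF x.1 x.2⟩
  refine ⟨σ, ?_⟩
  have key : ∀ b (hb : b ∈ B), (⟨b, le_unitClosure B hb⟩ : unitClosure B) ∈
      Algebra.adjoin A (σ : Set (unitClosure B)) := by
    intro b hb
    have h : Subring.closure (Set.range (fun a => (f a : R)) ∪ F) ≤
        (Algebra.adjoin A (σ : Set (unitClosure B))).toSubring.map (unitClosure B).subtype := by
      rw [Subring.closure_le]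
      rintro _ (⟨a, rfl⟩ | hx)
      · exact ⟨f a, Subalgebra.algebraMap_mem _ a, rfl⟩
      · exact ⟨⟨_, hF _ hx⟩, Algebra.subset_adjoin (by simpa [σ] using hx), rfl⟩
    obtain ⟨y, hy, hyb⟩ := h (hB hb)
    rwa [show (⟨b, le_unitClosure B hb⟩ : unitClosure B) = y from Subtype.ext hyb.symm]
  rintro ⟨x, t, ht, htu, hx⟩
  exact ⟨⟨t, le_unitClosure B ht⟩, key t ht, (isLocalHom_subtype_unitClosure B).map_nonunit _ htu,
    key _ hx⟩


/-- For a local homomorphism of local rings R → S and finite subsets E ⊆ R, F ⊆ S there are local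
subrings R₀ ⊆ R and S₀ ⊆ S containing E and F, with R → S mapping R₀ into S₀, such that the
inclusions and the induced map R₀ → S₀ are local homomorphisms, R₀ is essentially of finite type
over ℤ and S₀ is essentially of finite type over R₀. (So R → S is the directed colimit of such R₀ →
S₀.) -/
theorem result (R S : Type u) [CommRing R] [CommRing S] [IsLocalRing R]
    [IsLocalRing S] [Algebra R S] [IsLocalHom (algebraMap R S)] (E : Finset R) (F : Finset S) :
    ∃ (R₀ : Subring R) (S₀ : Subring S) (h : ∀ x ∈ R₀, algebraMap R S x ∈ S₀),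
      (E : Set R) ⊆ R₀ ∧ (F : Set S) ⊆ S₀ ∧ ∃ (_ : IsLocalRing R₀) (_ : IsLocalRing S₀),
        IsLocalHom R₀.subtype ∧ IsLocalHom S₀.subtype ∧
          IsLocalHom ((algebraMap R S).restrict R₀ S₀ h) ∧
          (algebraMap ℤ R₀).EssFiniteType ∧ ((algebraMap R S).restrict R₀ S₀ h).EssFiniteType := by
  classical
  let B := Subring.closure (E : Set R)
  let R₀ := unitClosure B
  let C := Subring.closure (algebraMap R S '' (R₀ : Set R) ∪ F)
  let S₀ := unitClosure C
  have h : ∀ x ∈ R₀, algebraMap R S x ∈ S₀ := fun x hx =>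
    le_unitClosure C (Subring.subset_closure (Or.inl ⟨x, hx, rfl⟩))
  have hR : IsLocalHom R₀.subtype := isLocalHom_subtype_unitClosure B
  have hS : IsLocalHom S₀.subtype := isLocalHom_subtype_unitClosure C
  refine ⟨R₀, S₀, h, fun x hx => le_unitClosure B (Subring.subset_closure hx),
    fun x hx => le_unitClosure C (Subring.subset_closure (Or.inr hx)),
    RingHom.domain_isLocalRing R₀.subtype, RingHom.domain_isLocalRing S₀.subtype, hR, hS, ?_, ?_, ?_⟩
  · constructor
    intro a ha
    have h1 : IsUnit (algebraMap R S a.1) := ha.map S₀.subtype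
    exact hR.map_nonunit _ (IsLocalHom.map_nonunit _ h1)
  · exact essFiniteType_unitClosure B E _ (fun x hx => le_unitClosure B (Subring.subset_closure hx))
      (Subring.closure_mono Set.subset_union_right)
  · refine essFiniteType_unitClosure C F _
      (fun x hx => le_unitClosure C (Subring.subset_closure (Or.inr hx))) (Subring.closure_mono ?_)
    rintro _ (⟨x, hx, rfl⟩ | hx)
    · exact Or.inl ⟨⟨x, hx⟩, rfl⟩
    · exact Or.inr hx


end Groth.Agent.S9168
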