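import Groth.Statements.S9170
import Mathlib
import Groth.Agent.S18939
import Groth.Agent.Synt29.KoszulLocal
import Groth.Agent.Synt29.RelFlatTake

set_option backward.isDefEq.respectTransparency.types false

set_option autoImplicit false
universe u
open Synt

namespace Groth.Agent.S9170

/-- For a relative global complete intersection S = R[x_1, …, x_n]/(f_1, …, f_c) over a ring R and a
prime q' of the polynomial ring containing the ideal (f_1, …, f_c): (1) f_1, …, f_c is a regular
sequence in the localization R[x]_{q'} (a local ring); (2) every quotient R[x]_{q'}/(f_1, …, f_i) is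
flat over R; (3) the conormal module (f)/(f)² is free over S with basis the classes of the f_i
(stated as: these classes are linearly independent over S and span). -/
theorem result (R : Type u) [CommRing R] (n c : ℕ)
    (F : Fin c → MvPolynomial (Fin n) R) (h : Synt.IsRelGCI R n c F)
    (q' : Ideal (MvPolynomial (Fin n) R)) [q'.IsPrime] (hq' : Ideal.span (Set.range F) ≤ q') :
    RingTheory.Sequence.IsRegular (Localization.AtPrime q')
        ((List.ofFn F).map (algebraMap (MvPolynomial (Fin n) R) (Localization.AtPrime q'))) ∧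
      (∀ i ≤ c, Module.Flat R (Localization.AtPrime q' ⧸ Ideal.ofList
        (((List.ofFn F).take i).map (algebraMap (MvPolynomial (Fin n) R) (Localization.AtPrime q'))))) ∧
      LinearIndependent (Synt.RelGCIRing R n c F)
        (fun i : Fin c => (Ideal.span (Set.range F)).toCotangent ⟨F i, Ideal.subset_span (Set.mem_range_self i)⟩) ∧
      Submodule.span (Synt.RelGCIRing R n c F) (Set.range
        (fun i : Fin c => (Ideal.span (Set.range F)).toCotangent ⟨F i, Ideal.subset_span (Set.mem_range_self i)⟩)) = ⊤ := by
  have hF : ∀ i, F i ∈ q' := fun i => hq' (Ideal.subset_span (Set.mem_range_self i))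
  have hK : LCI.IsKoszulRegularSeq (MvPolynomial (Fin n) R) (List.ofFn F) :=
    Synt29.isKoszulRegularSeq_of_local _ fun q _ hmem _ =>
      Synt29.weaklyRegular_relGCI h q fun i => hmem _ (List.mem_ofFn.2 ⟨i, rfl⟩)
  refine ⟨?_, fun i hi => ?_, ?_⟩
  · refine RingTheory.Sequence.IsRegular.of_isWeaklyRegular_of_mem_maximalIdeal _ ?_ (Synt29.weaklyRegular_relGCI h q' hF)
    intro x hx
    obtain ⟨y, hy, rfl⟩ := List.mem_map.1 hx
    obtain ⟨i, rfl⟩ := List.mem_ofFn.1 hy
    exact (IsLocalization.AtPrime.to_map_mem_maximal_iff _ q' _).2 (hF i)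
  · haveI := Synt29.flat_take h q' hF i hi
    exact Module.Flat.of_linearEquiv (Ideal.quotientEquivAlgOfEq R
      (Ideal.map_ofList (algebraMap (MvPolynomial (Fin n) R) (Localization.AtPrime q')) ((List.ofFn F).take i)).symm).toLinearEquiv
  · have hI : Ideal.span (Set.range F) ≠ ⊤ := fun htop => Ideal.IsPrime.ne_top' (top_le_iff.1 (htop ▸ hq'))
    obtain ⟨b, hb⟩ := S18939.result hI c (fun i => ⟨F i, Ideal.subset_span (Set.mem_range_self i)⟩) hK rfl
    rw [← funext hb]
    exact ⟨b.linearIndependent, b.span_eq⟩

end Groth.Agent.S9170
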