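import Groth.Statements.S9171
import Mathlib
import Groth.Agent.Synt29.CIPoints

set_option autoImplicit false
universe u
open Synt

set_option backward.isDefEq.respectTransparency.types false

namespace Groth.Agent.S9171

/-- Let S = k[x_1, …, x_n]/I over a field k, q a prime of S, q' the corresponding prime of the
polynomial ring and c the integer with c + ht(q) = ht(q'). Equivalent: (1) S_g is a global complete
intersection over k for some g ∉ q; (2) the extension of I to the local ring k[x]_{q'} is generated
by c elements; (5) that extension is generated by a regular sequence. Stated as (1) ↔ (2) and (1) ↔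
(5). -/
theorem result (k : Type u) [Field k] (n : ℕ)
    (I : Ideal (MvPolynomial (Fin n) k)) (q : Ideal (MvPolynomial (Fin n) k ⧸ I)) [q.IsPrime] (c : ℕ)
    (hc : (c : ℕ∞) + q.height = (q.comap (Ideal.Quotient.mk I)).height) :
    ((∃ g : MvPolynomial (Fin n) k ⧸ I, g ∉ q ∧ Synt.IsGlobalCI k (Localization.Away g)) ↔
        ∃ s : Finset (Localization.AtPrime (q.comap (Ideal.Quotient.mk I))), s.card = c ∧
          Ideal.span (s : Set _) =
            I.map (algebraMap _ (Localization.AtPrime (q.comap (Ideal.Quotient.mk I))))) ∧
      ((∃ g : MvPolynomial (Fin n) k ⧸ I, g ∉ q ∧ Synt.IsGlobalCI k (Localization.Away g)) ↔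
        ∃ rs : List (Localization.AtPrime (q.comap (Ideal.Quotient.mk I))),
          RingTheory.Sequence.IsRegular (Localization.AtPrime (q.comap (Ideal.Quotient.mk I))) rs ∧
          Ideal.ofList rs =
            I.map (algebraMap _ (Localization.AtPrime (q.comap (Ideal.Quotient.mk I))))) := by
  classical
  let f : MvPolynomial (Fin n) k →ₐ[k] MvPolynomial (Fin n) k ⧸ I := Ideal.Quotient.mkₐ k I
  let q' := q.comap (Ideal.Quotient.mk I)
  have hker : RingHom.ker f.toRingHom = I := Ideal.mk_ker
  obtain ⟨π, hπ, -, hπk⟩ := Synt29.exists_atPrime_presentation f Ideal.Quotient.mk_surjective q q' rfl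
  rw [hker] at hπk
  haveI := Synt29.isRegularLocalRing_localization_mvPolynomial q'
  haveI := Synt29.essFiniteType_localization_mvPolynomial q'
  rw [← Synt29.isCIOver_iff_exists_isGlobalCI_away q, Synt29.isCIOver_iff_ciKer π hπ]
  refine ⟨?_, ?_⟩
  · have hP : ringKrullDim (Localization.AtPrime q') = (q'.height : WithBot ℕ∞) :=
      IsLocalization.AtPrime.ringKrullDim_eq_height q' (Localization.AtPrime q')
    have hS : ringKrullDim (Localization.AtPrime q) = (q.height : WithBot ℕ∞) :=
      IsLocalization.AtPrime.ringKrullDim_eq_height q (Localization.AtPrime q)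
    have hfin : q.height ≠ ⊤ := Ideal.height_ne_top (Ideal.IsPrime.ne_top')
    constructor
    · rintro ⟨r, x, hx, hd⟩
      rw [hP, hS, ← hc] at hd
      have hd' : (c : ℕ∞) + q.height = (r : ℕ∞) + q.height := by
        rw [add_comm (r : ℕ∞)]; exact WithBot.coe_inj.1 (by exact_mod_cast hd)
      obtain rfl : c = r := WithTop.coe_inj.1 (WithTop.add_right_cancel hfin hd')
      refine ⟨Finset.univ.image x, ?_, ?_⟩
      · refine le_antisymm (Finset.card_image_le.trans (by simp)) ?_
        have hker' : RingHom.ker π.toRingHom = Ideal.span ((Finset.univ.image x : Finset _) : Set _) := by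
          rw [hx]; simp
        have hne : RingHom.ker π.toRingHom ≠ ⊤ := RingHom.ker_ne_top _
        have h1 := Ideal.height_le_spanRank_toENat _ hne
        have h2 : (RingHom.ker π.toRingHom).height = (c : ℕ∞) := by
          haveI := (FlatLoc6.isCM_of_isRegularRing (MvPolynomial (Fin n) k)).isCohenMacaulayLocalRing_localization q'
          have h3 := LC.height_add_ringKrullDim_quotient (RingHom.ker π.toRingHom) hne
          rw [ringKrullDim_eq_of_ringEquiv (RingHom.quotientKerEquivOfSurjective (f := π.toRingHom) hπ), hP, hS, ← hc,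
            add_comm (c : ℕ∞) q.height] at h3
          exact WithTop.add_left_cancel hfin (WithBot.coe_inj.1 (by exact_mod_cast h3))
        have h4 : (RingHom.ker π.toRingHom).spanRank ≤ ((Finset.univ.image x).card : Cardinal) := by
          rw [hker']
          exact (Submodule.spanRank_span_le_card _).trans_eq (Cardinal.mk_coe_finset)
        rw [h2] at h1
        exact_mod_cast h1.trans ((OrderHomClass.mono Cardinal.toENat h4).trans_eq (map_natCast _ _))
      · rw [← hπk, hx, Finset.coe_image, Finset.coe_univ, Set.image_univ]
    · rintro ⟨s, hs, hspan⟩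
      refine ⟨c, fun i => ((Finset.equivFinOfCardEq hs).symm i : Localization.AtPrime q'), ?_, ?_⟩
      · rw [hπk, ← hspan]
        congr 1
        ext z
        exact ⟨fun hz => ⟨Finset.equivFinOfCardEq hs ⟨z, hz⟩, by simp⟩, by rintro ⟨i, rfl⟩; exact Finset.coe_mem _⟩
      · rw [hP, hS, ← hc, add_comm (c : ℕ∞)]; rfl
  · rw [Synt29.ciKer_iff_regular π.toRingHom hπ, hπk]
    exact exists_congr fun rs => and_congr_right fun _ => eq_comm

end Groth.Agent.S9171
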