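import Groth.Statements.S9172
import Mathlib
import Groth.Agent.Synt29.AwayGCI

set_option autoImplicit false
universe u
open Synt

namespace Groth.Agent.S9172

open Groth.Agent Groth.Agent.Synt29 TensorProduct in
/-- Fibres over primes containing `I` are fibres of the reduction. -/
theorem fibre_dim_le_of_le {R : Type u} [CommRing R] {n c : ℕ} (F : Fin c → MvPolynomial (Fin n) R) (I : Ideal R)
    (hI : Synt.IsRelGCI (R ⧸ I) n c (fun i => MvPolynomial.map (Ideal.Quotient.mk I) (F i)))
    (p : PrimeSpectrum R) (hp : I ≤ p.asIdeal) [Nontrivial (p.asIdeal.Fiber (Synt.RelGCIRing R n c F))] :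
    c ≤ n ∧ ringKrullDim (p.asIdeal.Fiber (Synt.RelGCIRing R n c F)) ≤ ((n - c : ℕ) : WithBot ℕ∞) := by
  let pb : PrimeSpectrum (R ⧸ I) := ⟨p.asIdeal.map (Ideal.Quotient.mk I),
    Ideal.map_isPrime_of_surjective Ideal.Quotient.mk_surjective (by rwa [Ideal.mk_ker])⟩
  have hpp : p.asIdeal = pb.asIdeal.comap (algebraMap R (R ⧸ I)) := by
    show _ = (p.asIdeal.map (Ideal.Quotient.mk I)).comap (Ideal.Quotient.mk I)
    rw [Ideal.comap_map_of_surjective _ Ideal.Quotient.mk_surjective, ← RingHom.ker_eq_comap_bot, Ideal.mk_ker,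
      sup_eq_left.2 hp]
  haveI hpb : pb.asIdeal.IsPrime := pb.2
  let k := p.asIdeal.ResidueField
  let K := pb.asIdeal.ResidueField
  letI : Algebra k K := (Ideal.ResidueField.map p.asIdeal pb.asIdeal (algebraMap R (R ⧸ I)) hpp).toAlgebra
  haveI : IsScalarTower R k K := IsScalarTower.of_algebraMap_eq fun a => by
    rw [IsScalarTower.algebraMap_apply R (R ⧸ I) K]
    exact (Ideal.ResidueField.map_algebraMap _ _ _ hpp a).symm
  have hK : mapPoly (R ⧸ I) (fun i => MvPolynomial.map (Ideal.Quotient.mk I) (F i)) K = mapPoly R F K := funext fun i => by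
    show MvPolynomial.map _ (MvPolynomial.map (algebraMap R (R ⧸ I)) (F i)) = _
    rw [MvPolynomial.map_map, ← IsScalarTower.algebraMap_eq]
  haveI : Nontrivial (Synt.RelGCIRing k n c (mapPoly R F k)) :=
    (baseChangeEquiv R F k).symm.toEquiv.nontrivial
  haveI : Nontrivial (Synt.RelGCIRing K n c (mapPoly R F K)) := by
    have e := (baseChangeEquiv k (mapPoly R F k) K).toRingEquiv
    have h : mapPoly k (mapPoly R F k) K = mapPoly R F K := funext fun i => by
      simp only [mapPoly, MvPolynomial.map_map, ← IsScalarTower.algebraMap_eq]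
    rw [h] at e
    haveI : Nontrivial (K ⊗[k] Synt.RelGCIRing k n c (mapPoly R F k)) :=
      (Algebra.TensorProduct.includeRight_injective (R := k) (A := K) (B := Synt.RelGCIRing k n c (mapPoly R F k))
        (algebraMap k K).injective).nontrivial
    exact e.symm.toEquiv.nontrivial
  have h4 := (isRelGCI_iff _ _).1 hI pb (by rw [hK]; infer_instance)
  rw [hK] at h4
  refine ⟨h4.1, ?_⟩
  rw [ringKrullDim_eq_of_ringEquiv (R := p.asIdeal.Fiber (Synt.RelGCIRing R n c F)) (baseChangeEquiv R F k).toRingEquiv,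
    ← ringKrullDim_mapPoly F k K]
  exact h4.2

open MvPolynomial in
/-- Let S = R[x_1, …, x_n]/(F_1, …, F_c) over a ring R. Let I be an ideal of R such that the reduction
R/I[x]/(F mod I) = S/IS is a relative global complete intersection over R/I (its nonempty fibres
have dimension n − c). Then some h in the polynomial ring, with image g in S, satisfies: g maps to 1
in S/IS, and the presentation S_g = R[x_1, …, x_{n+1}]/(F_1, …, F_c, h·x_{n+1} − 1) is a relative
global complete intersection over R (with S_g isomorphic to it over R). -/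
theorem result (R : Type u) [CommRing R] (n c : ℕ) (F : Fin c → MvPolynomial (Fin n) R)
    (I : Ideal R)
    (hI : Synt.IsRelGCI (R ⧸ I) n c (fun i => MvPolynomial.map (Ideal.Quotient.mk I) (F i))) :
    ∃ h : MvPolynomial (Fin n) R,
      Ideal.Quotient.mk (I.map (algebraMap R (Synt.RelGCIRing R n c F)))
        (Ideal.Quotient.mk (Ideal.span (Set.range F)) h) = 1 ∧
      Synt.IsRelGCI R (n + 1) (c + 1)
        (Fin.snoc (fun i => rename Fin.castSucc (F i)) (rename Fin.castSucc h * X (Fin.last n) - 1)) ∧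
      Nonempty (Localization.Away (Ideal.Quotient.mk (Ideal.span (Set.range F)) h) ≃ₐ[R]
        Synt.RelGCIRing R (n + 1) (c + 1)
          (Fin.snoc (fun i => rename Fin.castSucc (F i)) (rename Fin.castSucc h * X (Fin.last n) - 1))) := by
  let S := Synt.RelGCIRing R n c F
  haveI : Algebra.FiniteType R S :=
    Algebra.FiniteType.of_surjective (Ideal.Quotient.mkₐ R _) Ideal.Quotient.mk_surjective
  let IS : Ideal S := I.map (algebraMap R S)
  rcases le_or_gt c n with hcn | hcn
  · have hW := Groth.Agent.Synt29.isOpen_goodLocus (R := R) (S := S) (n - c)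
    obtain ⟨J, hJ⟩ := (PrimeSpectrum.isClosed_iff_zeroLocus_ideal _).1 hW.isClosed_compl
    have htop : J ⊔ IS = ⊤ := by
      by_contra hne
      obtain ⟨m, hm, hle⟩ := Ideal.exists_le_maximal _ hne
      let P : PrimeSpectrum S := ⟨m, hm.isPrime⟩
      have h1 : P ∈ (Groth.Agent.Synt29.goodLocus R S (n - c))ᶜ := by rw [hJ]; exact le_sup_left.trans hle
      refine h1 (Groth.Agent.Synt29.mem_goodLocus _ P ?_)
      have hp : I ≤ (PrimeSpectrum.comap (algebraMap R S) P).asIdeal :=
        Ideal.map_le_iff_le_comap.1 (le_sup_right.trans hle)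
      obtain ⟨Q, -⟩ := Groth.Agent.FlatLoc6.exists_fiber_prime (PrimeSpectrum.comap (algebraMap R S) P).asIdeal P.asIdeal rfl
      haveI := PrimeSpectrum.nonempty_iff_nontrivial.1 ⟨Q⟩
      exact (fibre_dim_le_of_le F I hI _ hp).2
    obtain ⟨g, hg, y, hy, hgy⟩ := Submodule.mem_sup.1 (htop ▸ Submodule.mem_top : (1 : S) ∈ J ⊔ IS)
    obtain ⟨h, rfl⟩ := Ideal.Quotient.mk_surjective g
    refine ⟨h, ?_, Groth.Agent.Synt29.isRelGCI_snoc F hcn h ?_, Groth.Agent.Synt29.awayEquiv F h⟩
    · rw [← map_one (Ideal.Quotient.mk IS), Ideal.Quotient.eq, ← hgy, sub_add_cancel_left]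
      exact IS.neg_mem hy
    · intro P hP
      by_contra hPW
      have : P ∈ PrimeSpectrum.zeroLocus (J : Set S) := by rw [← hJ]; exact hPW
      exact hP (this hg)
  · have htop : IS = ⊤ := by
      by_contra hne
      obtain ⟨m, hm, hle⟩ := Ideal.exists_le_maximal _ hne
      let P : PrimeSpectrum S := ⟨m, hm.isPrime⟩
      obtain ⟨Q, -⟩ := Groth.Agent.FlatLoc6.exists_fiber_prime (PrimeSpectrum.comap (algebraMap R S) P).asIdeal P.asIdeal rfl
      haveI := PrimeSpectrum.nonempty_iff_nontrivial.1 ⟨Q⟩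
      exact hcn.not_ge (fibre_dim_le_of_le F I hI (PrimeSpectrum.comap (algebraMap R S) P) (Ideal.map_le_iff_le_comap.1 hle)).1
    refine ⟨0, ?_, ?_, Groth.Agent.Synt29.awayEquiv F 0⟩
    · have := Ideal.Quotient.subsingleton_iff.2 htop
      exact Subsingleton.elim _ _
    · obtain ⟨e⟩ := Groth.Agent.Synt29.awayEquiv F 0
      intro p hn
      exfalso
      haveI : Subsingleton (Localization.Away (Ideal.Quotient.mk (Ideal.span (Set.range F)) (0 : MvPolynomial (Fin n) R))) :=
        IsLocalization.subsingleton (M := Submonoid.powers (Ideal.Quotient.mk (Ideal.span (Set.range F)) (0 : MvPolynomial (Fin n) R)))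
          ⟨1, by simp⟩
      haveI := e.symm.toEquiv.subsingleton
      haveI : Subsingleton (p.asIdeal.Fiber (Synt.RelGCIRing R (n + 1) (c + 1) (Groth.Agent.Synt29.snocPoly F 0))) :=
        inferInstance
      exact not_nontrivial _ hn

end Groth.Agent.S9172
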