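import Groth.Statements.S9173
import Mathlib
import Groth.Agent.Synt29.AwayGCI

set_option autoImplicit false
universe u
open Synt

namespace Groth.Agent.S9173

open Groth.Agent Groth.Agent.Synt29 TensorProduct in
/-- An ideal missing the fibre over `p` contains an element invertible on that fibre. -/
theorem exists_mem_isUnit_fibre {R S : Type u} [CommRing R] [CommRing S] [Algebra R S] (p : Ideal R) [p.IsPrime]
    (I : Ideal S) (hI : ∀ P : PrimeSpectrum S, P.asIdeal.comap (algebraMap R S) = p → ¬ I ≤ P.asIdeal) :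
    ∃ g ∈ I, IsUnit ((1 : p.ResidueField) ⊗ₜ[R] g : p.Fiber S) := by
  let ι : S →ₐ[R] p.Fiber S := Algebra.TensorProduct.includeRight
  have htop : I.map ι.toRingHom = ⊤ := by
    by_contra hne
    obtain ⟨Q, hQ, hle⟩ := Ideal.exists_le_maximal _ hne
    haveI := hQ.isPrime
    exact hI ⟨Q.comap ι.toRingHom, inferInstance⟩ (FlatLoc6.comap_fiber_prime p Q)
      (Ideal.map_le_iff_le_comap.1 hle)
  have key : ∀ z ∈ I.map ι.toRingHom, ∃ s ∉ p, ∃ g ∈ I, s • z = (1 : p.ResidueField) ⊗ₜ[R] g := by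
    intro z hz
    induction hz using Submodule.span_induction with
    | mem x hx =>
      obtain ⟨g, hg, rfl⟩ := hx
      exact ⟨1, (Ideal.ne_top_iff_one p).1 (Ideal.IsPrime.ne_top ‹_›), g, hg, one_smul _ _⟩
    | zero => exact ⟨1, (Ideal.ne_top_iff_one p).1 (Ideal.IsPrime.ne_top ‹_›), 0, zero_mem _, by simp⟩
    | add u v _ _ hu hv =>
      obtain ⟨s, hs, a, ha, e⟩ := hu
      obtain ⟨t, ht, b, hb, e'⟩ := hv
      refine ⟨s * t, fun h => (Ideal.IsPrime.mem_or_mem ‹_› h).elim hs ht,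
        algebraMap R S t * a + algebraMap R S s * b, I.add_mem (I.mul_mem_left _ ha) (I.mul_mem_left _ hb), ?_⟩
      rw [← Algebra.smul_def, ← Algebra.smul_def, TensorProduct.tmul_add, TensorProduct.tmul_smul,
        TensorProduct.tmul_smul, ← e, ← e', smul_add, smul_smul, smul_smul, mul_comm t s]
    | smul c u _ hu =>
      obtain ⟨s, hs, a, ha, e⟩ := hu
      obtain ⟨t, ht, b, hb⟩ := Ideal.Fiber.exists_smul_eq_one_tmul _ c
      refine ⟨t * s, fun h => (Ideal.IsPrime.mem_or_mem ‹_› h).elim ht hs, b * a, I.mul_mem_left _ ha, ?_⟩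
      have hmul : ((1 : p.ResidueField) ⊗ₜ[R] (b * a) : p.Fiber S) = ((1 : p.ResidueField) ⊗ₜ[R] b) * ((1 : p.ResidueField) ⊗ₜ[R] a) := by
        rw [Algebra.TensorProduct.tmul_mul_tmul, one_mul]
      rw [hmul, ← hb, ← e, smul_eq_mul, Algebra.smul_def, Algebra.smul_def, Algebra.smul_def, map_mul]
      ring
  obtain ⟨s, hs, g, hg, e⟩ := key 1 (htop ▸ Submodule.mem_top)
  refine ⟨g, hg, ?_⟩
  rw [← e, Algebra.smul_def, mul_one, IsScalarTower.algebraMap_apply R p.ResidueField (p.Fiber S)]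
  exact ((algebraMap_isUnit_fiber_iff s ⟨p, inferInstance⟩).2 hs).map _

open MvPolynomial TensorProduct in
/-- Let S = R[x_1, …, x_n]/(F_1, …, F_c) over a ring R. Let p be a prime of R whose fibre ring κ(p) ⊗ S
has Krull dimension n − c (with c ≤ n). Then some h in the polynomial ring, with image g in S,
satisfies: g maps to a unit of κ(p) ⊗ S, and the presentation S_g = R[x_1, …, x_{n+1}]/(F_1, …, F_c,
h·x_{n+1} − 1) is a relative global complete intersection over R (with S_g isomorphic to it over R). -/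
theorem result (R : Type u) [CommRing R] (n c : ℕ) (F : Fin c → MvPolynomial (Fin n) R)
    (p : Ideal R) [p.IsPrime]
    (hp : c ≤ n ∧ ringKrullDim (p.Fiber (Synt.RelGCIRing R n c F)) = ((n - c : ℕ) : WithBot ℕ∞)) :
    ∃ h : MvPolynomial (Fin n) R,
      IsUnit ((1 : p.ResidueField) ⊗ₜ[R] (Ideal.Quotient.mk (Ideal.span (Set.range F)) h) :
        p.Fiber (Synt.RelGCIRing R n c F)) ∧
      Synt.IsRelGCI R (n + 1) (c + 1)
        (Fin.snoc (fun i => rename Fin.castSucc (F i)) (rename Fin.castSucc h * X (Fin.last n) - 1)) ∧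
      Nonempty (Localization.Away (Ideal.Quotient.mk (Ideal.span (Set.range F)) h) ≃ₐ[R]
        Synt.RelGCIRing R (n + 1) (c + 1)
          (Fin.snoc (fun i => rename Fin.castSucc (F i)) (rename Fin.castSucc h * X (Fin.last n) - 1))) := by
  obtain ⟨hcn, hdim⟩ := hp
  let S := Synt.RelGCIRing R n c F
  haveI : Algebra.FiniteType R S :=
    Algebra.FiniteType.of_surjective (Ideal.Quotient.mkₐ R _) Ideal.Quotient.mk_surjective
  have hW := Groth.Agent.Synt29.isOpen_goodLocus (R := R) (S := S) (n - c)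
  obtain ⟨I, hI⟩ := (PrimeSpectrum.isClosed_iff_zeroLocus_ideal _).1 hW.isClosed_compl
  obtain ⟨g, hg, hu⟩ := exists_mem_isUnit_fibre p I (fun P hP hle => by
    have h1 : P ∈ (Groth.Agent.Synt29.goodLocus R S (n - c))ᶜ := by rw [hI]; exact hle
    refine h1 (Groth.Agent.Synt29.mem_goodLocus _ P ?_)
    have h2 : PrimeSpectrum.comap (algebraMap R S) P = ⟨p, inferInstance⟩ := PrimeSpectrum.ext hP
    rw [h2]
    exact hdim.le)
  obtain ⟨h, rfl⟩ := Ideal.Quotient.mk_surjective g
  refine ⟨h, hu, Groth.Agent.Synt29.isRelGCI_snoc F hcn h ?_, Groth.Agent.Synt29.awayEquiv F h⟩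
  intro P hP
  by_contra hPW
  have : P ∈ PrimeSpectrum.zeroLocus (I : Set S) := by rw [← hI]; exact hPW
  exact hP (this hg)

end Groth.Agent.S9173
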