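import Groth.Statements.S9174
import Groth.Agent.CMEquidim.SliceFibre
import Groth.Agent.FibDim.RelDim

set_option autoImplicit false
universe u
open CAlg

namespace Groth.Agent.S9174

/-- Let R → S be of finite type with every fibre ring κ(p) ⊗ S Cohen–Macaulay and equidimensional of
dimension d, and let f_1, …, f_i ∈ S. The primes q ⊇ (f_1, …, f_i) at which the f_j form a regular
sequence in the fibre local ring S_q/pS_q (p = q ∩ R) form an open subset of V(f_1, …, f_i): there
is an open U of Spec S whose trace on V(f_1, …, f_i) is exactly this set. -/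
theorem result (R S : Type u) [CommRing R] [CommRing S]
    [Algebra R S] [Algebra.FiniteType R S] (d : ℕ)
    (hCM : ∀ p : PrimeSpectrum R, LocCoh.IsCohenMacaulayRing (p.asIdeal.Fiber S))
    (heq : ∀ p : PrimeSpectrum R, ∀ P ∈ minimalPrimes (p.asIdeal.Fiber S),
      ringKrullDim (p.asIdeal.Fiber S ⧸ P) = (d : WithBot ℕ∞))
    (f : List S) :
    ∃ U : Set (PrimeSpectrum S), IsOpen U ∧ ∀ q : PrimeSpectrum S, Ideal.ofList f ≤ q.asIdeal →
      (q ∈ U ↔ RingTheory.Sequence.IsRegular (EGA4.FibLocRing R S q.asIdeal)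
        (f.map (algebraMap S (EGA4.FibLocRing R S q.asIdeal)))) := by
  classical
  let T := S ⧸ Ideal.ofList f
  let g := AlgebraicGeometry.Spec.map (CommRingCat.ofHom (algebraMap R T))
  haveI : AlgebraicGeometry.LocallyOfFiniteType g :=
    (AlgebraicGeometry.HasRingHomProperty.Spec_iff (P := @AlgebraicGeometry.LocallyOfFiniteType)).2
      (RingHom.finiteType_algebraMap.2 inferInstance)
  let W : Set (PrimeSpectrum T) :=
    {z | f.length ≤ d ∧ FlatMor.fibreDimAt g z ≤ ((d - f.length : ℕ) : WithBot ℕ∞)}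
  have hW : IsOpen W := by
    by_cases hr : f.length ≤ d
    · have : W = {z : PrimeSpectrum T | FlatMor.fibreDimAt g z ≤ ((d - f.length : ℕ) : WithBot ℕ∞)} := by
        ext z; exact ⟨fun h => h.2, fun h => ⟨hr, h⟩⟩
      rw [this]
      exact FibDim.isOpen_fibreDimAt_le g (d - f.length)
    · rw [show W = ∅ from Set.eq_empty_of_forall_notMem fun z hz => hr hz.1]
      exact isOpen_empty
  refine ⟨(PrimeSpectrum.comap (Ideal.Quotient.mk (Ideal.ofList f)) '' Wᶜ)ᶜ,
    ((PrimeSpectrum.isClosedEmbedding_comap_of_surjective T _ Ideal.Quotient.mk_surjective).isClosedMap _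
      hW.isClosed_compl).isOpen_compl, fun q hq => ?_⟩
  obtain ⟨z, rfl⟩ : ∃ z, PrimeSpectrum.comap (Ideal.Quotient.mk (Ideal.ofList f)) z = q := by
    have : q ∈ PrimeSpectrum.zeroLocus (Ideal.ofList f : Set S) := hq
    rw [← Ideal.mk_ker (I := Ideal.ofList f),
      ← range_comap_of_surjective _ _ Ideal.Quotient.mk_surjective] at this
    exact this
  rw [CMEquidim.isRegular_fibLoc_iff R hCM heq f z _ rfl]
  refine ⟨fun h => by_contra fun h' => h ⟨z, h', rfl⟩, fun h ⟨z', hz', he⟩ => ?_⟩
  obtain rfl : z' = z := PrimeSpectrum.comap_injective_of_surjective _ Ideal.Quotient.mk_surjective he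
  exact hz' h


end Groth.Agent.S9174
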