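import Groth.Statements.S9177
import Groth.Agent.DirColim.Descend

set_option autoImplicit false
universe u
open CAlg

namespace Groth.Agent.S9177
open TensorProduct Groth.Agent.DirColim


open TensorProduct in
/-- Let R = colim R_i be a directed colimit of A-algebras (compatible transition maps), B and C
A-algebras. (1) If B is of finite type over A, two A-algebra maps B → C whose base changes to R
coincide already have equal base changes to some R_i. (2) If C is of finite type over A and u : B →
C has surjective base change to R, then its base change to some R_i is surjective. (The A-algebra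
structure on R is through any stage R_l; it does not depend on l.) -/
theorem result {ι : Type u} [Preorder ι]
    [Nonempty ι] [IsDirectedOrder ι] (G : ι → Type u) [∀ i, CommRing (G i)]
    (f : ∀ i j, i ≤ j → G i →+* G j) [DirectedSystem G (fun i j h => f i j h)]
    (A : Type u) [CommRing A] [∀ i, Algebra A (G i)]
    (hf : ∀ i j (h : i ≤ j), (f i j h).comp (algebraMap A (G i)) = algebraMap A (G j)) (l : ι)
    (B C : Type u) [CommRing B] [CommRing C] [Algebra A B] [Algebra A C] :
    letI : Algebra A (Ring.DirectLimit G (fun i j h => f i j h)) :=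
      ((Ring.DirectLimit.of G (fun i j h => f i j h) l).comp (algebraMap A (G l))).toAlgebra
    (Algebra.FiniteType A B → ∀ u u' : B →ₐ[A] C,
        Algebra.TensorProduct.map (AlgHom.id A (Ring.DirectLimit G (fun i j h => f i j h))) u =
            Algebra.TensorProduct.map (AlgHom.id A (Ring.DirectLimit G (fun i j h => f i j h))) u' →
          ∃ i : ι, Algebra.TensorProduct.map (AlgHom.id A (G i)) u =
            Algebra.TensorProduct.map (AlgHom.id A (G i)) u') ∧
      (Algebra.FiniteType A C → ∀ u : B →ₐ[A] C,
        Function.Surjective
            (Algebra.TensorProduct.map (AlgHom.id A (Ring.DirectLimit G (fun i j h => f i j h))) u) →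
          ∃ i : ι, Function.Surjective (Algebra.TensorProduct.map (AlgHom.id A (G i)) u)) := by
  letI : Algebra A (Ring.DirectLimit G (fun i j h => f i j h)) :=
    ((Ring.DirectLimit.of G (fun i j h => f i j h) l).comp (algebraMap A (G l))).toAlgebra
  have hof : ∀ i j (h : i ≤ j) x, Ring.DirectLimit.of G (fun i j h => f i j h) j (f i j h x) =
      Ring.DirectLimit.of G (fun i j h => f i j h) i x := fun i j h x => Ring.DirectLimit.of_f h x
  let g : ∀ i, G i →ₐ[A] Ring.DirectLimit G (fun i j h => f i j h) := fun i =>
    { toRingHom := Ring.DirectLimit.of G (fun i j h => f i j h) i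
      commutes' := fun a => by
        obtain ⟨k, hik, hlk⟩ := exists_ge_ge i l
        change Ring.DirectLimit.of G _ i (algebraMap A (G i) a) =
          Ring.DirectLimit.of G _ l (algebraMap A (G l) a)
        rw [← hof i k hik, ← hof l k hlk]
        exact congrArg _ ((RingHom.congr_fun (hf i k hik) a).trans
          (RingHom.congr_fun (hf l k hlk) a).symm) }
  let fA : ∀ i j, i ≤ j → (G i →ₐ[A] G j) := fun i j h =>
    { toRingHom := f i j h, commutes' := fun a => RingHom.congr_fun (hf i j h) a }
  have hG : IsColim g := IsColim.of_system fA g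
    (fun i j h => AlgHom.ext fun x => hof i j h x)
    (fun z => let ⟨i, x, hx⟩ := Ring.DirectLimit.exists_of z; ⟨i, x, hx⟩)
    (fun i x hx => Ring.DirectLimit.of.zero_exact hx)
  constructor
  · intro hB u u' h
    obtain ⟨s, hs⟩ := hB.out
    obtain ⟨i, hi⟩ := hG.eventually_forall
      (fun b i => (1 : G i) ⊗ₜ[A] u b = (1 : G i) ⊗ₜ[A] u' b)
      (fun b i j φ hb => by simpa [push] using congrArg (push C φ) hb) s fun b _ => by
      have hb := AlgHom.congr_fun h ((1 : Ring.DirectLimit G (fun i j h => f i j h)) ⊗ₜ[A] b)
      simp only [Algebra.TensorProduct.map_tmul, map_one] at hb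
      obtain ⟨j, φ, hφ⟩ := exists_push_eq_zero hG C
        ((1 : G l) ⊗ₜ[A] u b - (1 : G l) ⊗ₜ[A] u' b) (by simp [sub_eq_zero, hb])
      exact ⟨j, by simpa [push, sub_eq_zero] using hφ⟩
    refine ⟨i, Algebra.TensorProduct.ext' fun a b => ?_⟩
    have key : ((Algebra.TensorProduct.includeRight (R := A) (A := G i) (B := C))).comp u =
        (Algebra.TensorProduct.includeRight).comp u' := AlgHom.ext_of_adjoin_eq_top hs
      fun b hb => hi b hb
    have hb := AlgHom.congr_fun key b
    simp only [AlgHom.comp_apply, Algebra.TensorProduct.includeRight_apply] at hb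
    simp only [Algebra.TensorProduct.map_tmul, AlgHom.id_apply]
    calc a ⊗ₜ[A] u b = (a ⊗ₜ[A] (1 : C)) * ((1 : G i) ⊗ₜ[A] u b) := by simp
      _ = _ := by rw [hb]; simp
  · intro hC u h
    obtain ⟨s, hs⟩ := hC.out
    obtain ⟨i, hi⟩ := hG.eventually_forall
      (fun c i => ∃ z : G i ⊗[A] B,
        Algebra.TensorProduct.map (AlgHom.id A (G i)) u z = (1 : G i) ⊗ₜ[A] c)
      (fun c i j φ ⟨z, hz⟩ => ⟨push B φ z, by
        have hcomm : ∀ z, Algebra.TensorProduct.map (AlgHom.id A (G j)) u (push B φ z) =
            push C φ (Algebra.TensorProduct.map (AlgHom.id A (G i)) u z) := by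
          intro z
          induction z using TensorProduct.induction_on with
          | zero => simp
          | tmul a b => simp [push]
          | add a b ha hb => simp only [map_add, ha, hb]
        rw [hcomm, hz]; simp [push]⟩) s fun c _ => by
      obtain ⟨z, hz⟩ := h ((1 : Ring.DirectLimit G (fun i j h => f i j h)) ⊗ₜ[A] c)
      obtain ⟨i, z', rfl⟩ := (hG.tensorRight B).surj z
      obtain ⟨j, φ, hφ⟩ := exists_push_eq_zero hG C
        (Algebra.TensorProduct.map (AlgHom.id A (G i)) u z' - (1 : G i) ⊗ₜ[A] c) (by
          rw [map_sub, sub_eq_zero]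
          have hcomm : ∀ z, Algebra.TensorProduct.map (g i) (AlgHom.id A C)
              (Algebra.TensorProduct.map (AlgHom.id A (G i)) u z) =
              Algebra.TensorProduct.map (AlgHom.id A _) u
                (Algebra.TensorProduct.map (g i) (AlgHom.id A B) z) := by
            intro z
            induction z using TensorProduct.induction_on with
            | zero => simp
            | tmul a b => simp
            | add a b ha hb => simp only [map_add, ha, hb]
          rw [hcomm, hz]; simp)
      refine ⟨j, push B φ z', ?_⟩
      rw [map_sub, sub_eq_zero] at hφ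
      have hcomm : ∀ z, Algebra.TensorProduct.map (AlgHom.id A (G j)) u (push B φ z) =
          push C φ (Algebra.TensorProduct.map (AlgHom.id A (G i)) u z) := by
        intro z
        induction z using TensorProduct.induction_on with
        | zero => simp
        | tmul a b => simp [push]
        | add a b ha hb => simp only [map_add, ha, hb]
      rw [hcomm, hφ]; simp [push]
    refine ⟨i, fun w => ?_⟩
    induction w using TensorProduct.induction_on with
    | zero => exact ⟨0, map_zero _⟩
    | add a b ha hb =>
      obtain ⟨x, rfl⟩ := ha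
      obtain ⟨y, rfl⟩ := hb
      exact ⟨x + y, map_add _ _ _⟩
    | tmul a c =>
      have hc : (1 : G i) ⊗ₜ[A] c ∈ (Algebra.TensorProduct.map (AlgHom.id A (G i)) u).range := by
        have hle : Algebra.adjoin A (s : Set C) ≤
            (Algebra.TensorProduct.map (AlgHom.id A (G i)) u).range.comap
              Algebra.TensorProduct.includeRight :=
          Algebra.adjoin_le fun c hc => hi c hc
        exact hle (hs ▸ Algebra.mem_top : c ∈ Algebra.adjoin A (s : Set C))
      obtain ⟨z, hz⟩ := hc
      refine ⟨(a ⊗ₜ[A] (1 : B)) * z, ?_⟩
      rw [map_mul]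
      change _ * _ = _
      rw [show Algebra.TensorProduct.map (AlgHom.id A (G i)) u z = (1 : G i) ⊗ₜ[A] c from hz]
      simp


end Groth.Agent.S9177
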