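import Groth.Statements.S9179
import Mathlib

set_option autoImplicit false
universe u
open CategoryTheory CategoryTheory.Limits
open CAlg

namespace Groth.Agent.S9179
open CategoryTheory Limits


/-- An R-algebra of finite type is the colimit of a filtered system of finitely presented R-algebras
whose transition maps are all surjective. -/
theorem result (R A : Type u) [CommRing R] [CommRing A]
    [Algebra R A] [Algebra.FiniteType R A] :
    ∃ (I : Type u) (_ : SmallCategory I) (_ : IsFiltered I) (D : I ⥤ Under (CommRingCat.of R))
      (c : Cocone D) (_ : IsColimit c),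
      (∀ i, (D.obj i).hom.hom.FinitePresentation) ∧
      (∀ (i j : I) (φ : i ⟶ j), Function.Surjective (D.map φ).right.hom) ∧
      Nonempty (c.pt ≅ Under.mk (CommRingCat.ofHom (algebraMap R A))) := by
  classical
  obtain ⟨n, π, hπ⟩ := Algebra.FiniteType.iff_quotient_mvPolynomial''.1 ‹Algebra.FiniteType R A›
  let P := MvPolynomial (Fin n) R
  let Idx := Finset (RingHom.ker π)
  let K : Idx → Ideal P := fun s => Ideal.span (Subtype.val '' (s : Set (RingHom.ker π)))
  have hK : ∀ s, K s ≤ RingHom.ker π := fun s => Ideal.span_le.2 (by rintro _ ⟨x, _, rfl⟩; exact x.2)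
  have hmono : ∀ {s t : Idx}, s ≤ t → K s ≤ K t := fun h => Ideal.span_mono (Set.image_mono h)
  have hfp : ∀ s, Algebra.FinitePresentation R (P ⧸ K s) := fun s =>
    Algebra.FinitePresentation.quotient (Submodule.fg_span (s.finite_toSet.image _))
  let D : Idx ⥤ CategoryTheory.Under (CommRingCat.of R) :=
    { obj := fun s => CategoryTheory.Under.mk (CommRingCat.ofHom (algebraMap R (P ⧸ K s)))
      map := fun {s t} f => CategoryTheory.Under.homMk (CommRingCat.ofHom (Ideal.Quotient.factor (hmono f.le)))
        (by ext r; rfl)
      map_id := fun s => by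
        apply CategoryTheory.Under.UnderMorphism.ext
        ext x
        obtain ⟨x, rfl⟩ := Ideal.Quotient.mk_surjective (x : P ⧸ K s)
        rfl
      map_comp := fun {s t w} f g => by
        apply CategoryTheory.Under.UnderMorphism.ext
        ext x
        obtain ⟨x, rfl⟩ := Ideal.Quotient.mk_surjective (x : P ⧸ K s)
        rfl }
  let toA : ∀ s, (P ⧸ K s) →ₐ[R] A := fun s => Ideal.Quotient.liftₐ (K s) π fun a ha => hK s ha
  let c : Cocone D :=
    { pt := CategoryTheory.Under.mk (CommRingCat.ofHom (algebraMap R A))
      ι :=
        { app := fun s => CategoryTheory.Under.homMk (CommRingCat.ofHom (toA s).toRingHom) (by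
            ext r; exact (toA s).commutes r)
          naturality := fun s t f => by
            apply CategoryTheory.Under.UnderMorphism.ext
            ext x
            obtain ⟨x, rfl⟩ := Ideal.Quotient.mk_surjective (x : P ⧸ K s)
            rfl } }
  have : IsFiltered Idx := inferInstance
  have : IsConnected Idx := IsFiltered.isConnected _
  have : PreservesColimit (D ⋙ Under.forget _) (forget CommRingCat.{u}) := inferInstance
  have : ReflectsColimit (D ⋙ Under.forget _) (forget CommRingCat.{u}) :=
    reflectsColimit_of_reflectsIsomorphisms _ _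
  let hc : IsColimit c := isColimitOfReflects (Under.forget _) (isColimitOfReflects (forget CommRingCat.{u})
    (Types.FilteredColimit.isColimitOf' _ _
      (fun z => by
        obtain ⟨p, hp⟩ := hπ z
        exact ⟨(∅ : Idx), Ideal.Quotient.mk _ p, hp.symm⟩)
      (fun s (x : P ⧸ K s) (y : P ⧸ K s) hxy => by
        obtain ⟨x, rfl⟩ := Ideal.Quotient.mk_surjective x
        obtain ⟨y, rfl⟩ := Ideal.Quotient.mk_surjective y
        have hxy' : π x = π y := hxy
        have hmem : x - y ∈ RingHom.ker π := by rw [RingHom.mem_ker, map_sub, hxy', sub_self]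
        refine ⟨insert (⟨x - y, hmem⟩ : RingHom.ker π) s, homOfLE (Finset.subset_insert _ _), ?_⟩
        change Ideal.Quotient.mk (K _) x = Ideal.Quotient.mk (K _) y
        exact Ideal.Quotient.eq.2 (Ideal.subset_span ⟨_, Finset.mem_insert_self _ _, rfl⟩))))
  refine ⟨Idx, inferInstance, inferInstance, D, c, hc, fun s => ?_, fun s t f => ?_, ⟨Iso.refl _⟩⟩
  · exact RingHom.finitePresentation_algebraMap.2 (hfp s)
  · exact Ideal.Quotient.factor_surjective (hmono f.le)


end Groth.Agent.S9179
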