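import Groth.Statements.S9181
import Groth.Agent.S9175
import Groth.Agent.FibCoord.Adapted
import Groth.Agent.ComodLib.StableLocus

set_option autoImplicit false
universe u
open CAlg

namespace Groth.Agent.S9181
/-- The residue field is unchanged by localizing away from an element outside the prime. -/
theorem trdeg_transfer {R S S' : Type u} [CommRing R] [CommRing S] [CommRing S'] [Algebra R S] [Algebra R S']
    (p : Ideal R) [p.IsPrime] (q : Ideal S) [q.IsPrime] [q.LiesOver p]
    (q' : Ideal S') [q'.IsPrime] [q'.LiesOver p]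
    [Algebra (Localization.AtPrime p) (Localization.AtPrime q)] [Localization.AtPrime.IsLiesOverAlgebra p q]
    [Algebra (Localization.AtPrime p) (Localization.AtPrime q')] [Localization.AtPrime.IsLiesOverAlgebra p q']
    (f : S →ₐ[R] S') (hf : f.toRingHom.SurjectiveOnStalks) (h : q = q'.comap f.toRingHom) :
    Algebra.trdeg p.ResidueField q.ResidueField = Algebra.trdeg p.ResidueField q'.ResidueField := by
  let φ := Ideal.ResidueField.map q q' f.toRingHom h
  have hφ : φ.comp (algebraMap p.ResidueField q.ResidueField) = algebraMap p.ResidueField q'.ResidueField := by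
    refine Ideal.ResidueField.ringHom_ext (RingHom.ext fun a => ?_)
    show φ (algebraMap p.ResidueField q.ResidueField (algebraMap R p.ResidueField a)) = _
    rw [RingHom.comp_apply, ← IsScalarTower.algebraMap_apply R p.ResidueField q.ResidueField,
      ← IsScalarTower.algebraMap_apply R p.ResidueField q'.ResidueField,
      IsScalarTower.algebraMap_apply R S q.ResidueField, IsScalarTower.algebraMap_apply R S' q'.ResidueField]
    exact (Ideal.ResidueField.map_algebraMap _ _ _ _ _).trans (congrArg _ (f.commutes a))
  exact AlgEquiv.trdeg_eq (AlgEquiv.ofBijective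
    (⟨φ, fun x => RingHom.congr_fun hφ x⟩ : q.ResidueField →ₐ[p.ResidueField] q'.ResidueField)
    (hf.residueFieldMap_bijective q q' h))


/-- Let R → S be of finite type, q a prime of S over p, Q the prime of κ(p) ⊗ S over q, with the fibre
of local dimension n at Q and κ(q) of transcendence degree r over κ(p). Then for some f ∉ p and g ∉
q there is an R-algebra map φ : R_f[x_1, …, x_n] → S_g, of finite type and quasi-finite, such that
the inverse image of q S_g under φ is the ideal generated by p and the variables x_{r+1}, …, x_n. -/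
theorem result (R S : Type u) [CommRing R] [CommRing S]
    [Algebra R S] [Algebra.FiniteType R S] (p : Ideal R) [p.IsPrime] (q : Ideal S) [q.IsPrime] [q.LiesOver p]
    [Algebra (Localization.AtPrime p) (Localization.AtPrime q)]
    [Localization.AtPrime.IsLiesOverAlgebra p q] (Q : PrimeSpectrum (p.Fiber S))
    (hQ : Q.asIdeal.comap (Algebra.TensorProduct.includeRight.toRingHom) = q) (n r : ℕ)
    (hdim : FlatMor.localDim (PrimeSpectrum (p.Fiber S)) Q = (n : WithBot ℕ∞))
    (hr : Algebra.trdeg p.ResidueField q.ResidueField = r) :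
    ∃ (f : R) (g : S), f ∉ p ∧ g ∉ q ∧
      ∃ φ : MvPolynomial (Fin n) (Localization.Away f) →ₐ[R] Localization.Away g,
        φ.toRingHom.FiniteType ∧ φ.toRingHom.QuasiFinite ∧
        (q.map (algebraMap S (Localization.Away g))).comap φ =
          p.map (algebraMap R (MvPolynomial (Fin n) (Localization.Away f))) ⊔
            Ideal.span (Set.range fun i : {i : Fin n // r ≤ (i : ℕ)} =>
              (MvPolynomial.X (i : Fin n) : MvPolynomial (Fin n) (Localization.Away f))) := by
  classical
  obtain ⟨g, hg, φ₀, hft₀, hqf₀⟩ := S9175.result R S p q Q hQ n hdim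
  -- the prime in `S_g`
  let q' : Ideal (Localization.Away g) := q.map (algebraMap S (Localization.Away g))
  have hdisj : Disjoint (Submonoid.powers g : Set S) (q : Set S) :=
    (Ideal.disjoint_powers_iff_notMem g (Ideal.IsPrime.isRadical ‹_›)).2 hg
  haveI hq' : q'.IsPrime := IsLocalization.isPrime_of_isPrime_disjoint (Submonoid.powers g) _ q ‹_› hdisj
  have hq'q : q'.comap (algebraMap S (Localization.Away g)) = q :=
    IsLocalization.under_map_of_isPrime_disjoint (Submonoid.powers g) _ ‹_› hdisj
  haveI : q'.LiesOver p := ⟨by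
    rw [Ideal.LiesOver.over (P := q) (p := p), ← hq'q]
    ext a
    simp [← IsScalarTower.algebraMap_apply]⟩
  letI := Localization.AtPrime.algebraOfLiesOver p q'
  have hr' : Algebra.trdeg p.ResidueField q'.ResidueField = r :=
    (trdeg_transfer p q q' (IsScalarTower.toAlgHom R S (Localization.Away g))
      (RingHom.surjectiveOnStalks_of_isLocalization (Submonoid.powers g) _) hq'q.symm).symm.trans hr
  haveI : Algebra.FiniteType S (Localization.Away g) := inferInstance
  haveI : Algebra.FiniteType R (Localization.Away g) := Algebra.FiniteType.trans (S := S) inferInstance inferInstance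
  obtain ⟨ψ, hψ, hψqf⟩ := FibCoord.exists_adapted p q' n r φ₀ hqf₀ hr'
  -- shrink to the quasi-finite locus
  obtain ⟨c, hc, hcsub⟩ : ∃ c : S, c ∉ q ∧ ∀ x : PrimeSpectrum (Localization.Away g),
      c ∉ x.asIdeal.comap (algebraMap S (Localization.Away g)) → (φ₀.comp ψ).toRingHom.QuasiFiniteAt x.asIdeal := by
    have hft : (φ₀.comp ψ).toRingHom.FiniteType := by
      refine RingHom.FiniteType.of_comp_finiteType (f := algebraMap R (MvPolynomial (Fin n) R)) ?_
      rw [show (φ₀.comp ψ).toRingHom.comp (algebraMap R (MvPolynomial (Fin n) R)) = algebraMap R _ from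
        (φ₀.comp ψ).comp_algebraMap]
      exact RingHom.finiteType_algebraMap.2 inferInstance
    have hW : IsOpen {x : PrimeSpectrum (Localization.Away g) | (φ₀.comp ψ).toRingHom.QuasiFiniteAt x.asIdeal} := by
      algebraize [(φ₀.comp ψ).toRingHom]
      exact Groth.Agent.ComodLib.isOpen_quasiFiniteAt
    have hemb := PrimeSpectrum.localization_away_isOpenEmbedding (Localization.Away g) g
    have hmem : (⟨q, inferInstance⟩ : PrimeSpectrum S) ∈ PrimeSpectrum.comap (algebraMap S (Localization.Away g)) ''
        {x : PrimeSpectrum (Localization.Away g) | (φ₀.comp ψ).toRingHom.QuasiFiniteAt x.asIdeal} :=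
      ⟨⟨q', hq'⟩, hψqf, PrimeSpectrum.ext hq'q⟩
    obtain ⟨_, ⟨c, rfl⟩, hqc, hsub⟩ :=
      PrimeSpectrum.isTopologicalBasis_basic_opens.exists_subset_of_mem_open hmem (hemb.isOpenMap _ hW)
    refine ⟨c, hqc, fun x hx => ?_⟩
    obtain ⟨x', hx', hxx⟩ := hsub (show PrimeSpectrum.comap (algebraMap S (Localization.Away g)) x ∈ _ from hx)
    rwa [← hemb.injective hxx]
  -- the common localization
  let j₀ : Localization.Away g →+* Localization.Away (g * c) := IsLocalization.Away.awayToAwayRight g c
  have hj₀ : j₀.comp (algebraMap S (Localization.Away g)) = algebraMap S _ := IsLocalization.lift_comp _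
  let j : Localization.Away g →ₐ[R] Localization.Away (g * c) :=
    { j₀ with
      commutes' := fun a => by
        show j₀ (algebraMap R _ a) = _
        rw [IsScalarTower.algebraMap_apply R S (Localization.Away g), ← RingHom.comp_apply, hj₀,
          ← IsScalarTower.algebraMap_apply] }
  have hj : j.toRingHom.SurjectiveOnStalks := by
    refine RingHom.SurjectiveOnStalks.of_comp (f := algebraMap S (Localization.Away g)) ?_
    rw [show j.toRingHom.comp (algebraMap S (Localization.Away g)) = algebraMap S _ from hj₀]
    exact RingHom.surjectiveOnStalks_of_isLocalization (Submonoid.powers (g * c)) _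
  have hgc : g * c ∉ q := fun h => (‹q.IsPrime›.mem_or_mem h).elim hg hc
  have hdisj' : Disjoint (Submonoid.powers (g * c) : Set S) (q : Set S) :=
    (Ideal.disjoint_powers_iff_notMem (g * c) (Ideal.IsPrime.isRadical ‹_›)).2 hgc
  let q₁ : Ideal (Localization.Away (g * c)) := q.map (algebraMap S _)
  haveI hq₁ : q₁.IsPrime := IsLocalization.isPrime_of_isPrime_disjoint (Submonoid.powers (g * c)) _ q ‹_› hdisj'
  have hq₁q : q₁.comap (algebraMap S (Localization.Away (g * c))) = q :=
    IsLocalization.under_map_of_isPrime_disjoint (Submonoid.powers (g * c)) _ ‹_› hdisj'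
  have hjq : q₁.comap j = q' := by
    rw [← IsLocalization.map_under (Submonoid.powers g) (Localization.Away g) (q₁.comap j)]
    show Ideal.map _ ((q₁.comap j.toRingHom).comap _) = _
    rw [Ideal.comap_comap, show j.toRingHom.comp (algebraMap S (Localization.Away g)) = algebraMap S _ from hj₀, hq₁q]
  let e : MvPolynomial (Fin n) (Localization.Away (1 : R)) ≃ₐ[R] MvPolynomial (Fin n) R :=
    MvPolynomial.mapAlgEquiv (Fin n) (IsLocalization.atOne R (Localization.Away (1 : R))).symm
  refine ⟨1, g * c, (Ideal.ne_top_iff_one p).1 ‹p.IsPrime›.ne_top, hgc, (j.comp (φ₀.comp ψ)).comp e.toAlgHom, ?_, ?_, ?_⟩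
  · refine RingHom.FiniteType.of_comp_finiteType (f := algebraMap R _) ?_
    rw [show ((j.comp (φ₀.comp ψ)).comp e.toAlgHom).toRingHom.comp (algebraMap R _) = algebraMap R _ from
      ((j.comp (φ₀.comp ψ)).comp e.toAlgHom).comp_algebraMap]
    exact RingHom.finiteType_algebraMap.2 (Algebra.FiniteType.trans (S := S) inferInstance inferInstance)
  · refine RingHom.QuasiFinite.comp (?_ : (j.comp (φ₀.comp ψ)).toRingHom.QuasiFinite)
      (RingHom.QuasiFinite.of_finite (RingHom.Finite.of_surjective e.toAlgHom.toRingHom e.surjective))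
    letI : Algebra (MvPolynomial (Fin n) R) (Localization.Away g) := (φ₀.comp ψ).toRingHom.toAlgebra
    letI : Algebra (MvPolynomial (Fin n) R) (Localization.Away (g * c)) := (j.comp (φ₀.comp ψ)).toRingHom.toAlgebra
    haveI : Algebra.FiniteType (MvPolynomial (Fin n) R) (Localization.Away (g * c)) := by
      refine RingHom.FiniteType.of_comp_finiteType (g := (j.comp (φ₀.comp ψ)).toRingHom)
        (f := algebraMap R (MvPolynomial (Fin n) R)) ?_
      rw [show (j.comp (φ₀.comp ψ)).toRingHom.comp (algebraMap R (MvPolynomial (Fin n) R)) = algebraMap R _ from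
        (j.comp (φ₀.comp ψ)).comp_algebraMap]
      exact RingHom.finiteType_algebraMap.2 (Algebra.FiniteType.trans (S := S) inferInstance inferInstance)
    refine FibCoord.quasiFinite_of_forall fun z => ?_
    haveI : Algebra.QuasiFiniteAt (MvPolynomial (Fin n) R) (z.asIdeal.comap j.toRingHom) := by
      refine hcsub ⟨z.asIdeal.comap j.toRingHom, inferInstance⟩ ?_
      show c ∉ (z.asIdeal.comap j.toRingHom).comap _
      rw [Ideal.comap_comap, show j.toRingHom.comp (algebraMap S (Localization.Away g)) = algebraMap S _ from hj₀,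
        Ideal.mem_comap]
      intro h
      refine z.isPrime.ne_top (Ideal.eq_top_of_isUnit_mem _ ?_
        (IsLocalization.Away.algebraMap_isUnit (S := Localization.Away (g * c)) (g * c)))
      rw [map_mul]
      exact Ideal.mul_mem_left _ _ h
    exact Algebra.QuasiFiniteAt.of_surjectiveOnStalks (R := MvPolynomial (Fin n) R) (z.asIdeal.comap j.toRingHom)
      ⟨j.toRingHom, fun G => rfl⟩ hj _ rfl
  · show q₁.comap ((j.comp (φ₀.comp ψ)).comp e.toAlgHom) = _
    have hsym : ∀ I : Ideal (MvPolynomial (Fin n) R), I.comap e.toAlgHom = I.map e.symm.toAlgHom :=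
      fun I => (Ideal.map_symm e.toRingEquiv).symm
    show (((q₁.comap j).comap (φ₀.comp ψ))).comap e.toAlgHom = _
    rw [hjq, hψ, hsym, Ideal.map_sup, Ideal.map_span, ← Set.range_comp]
    congr 1
    · show Ideal.map e.symm.toAlgHom.toRingHom _ = _
      rw [Ideal.map_map, show e.symm.toAlgHom.toRingHom.comp (algebraMap R (MvPolynomial (Fin n) R)) = algebraMap R _ from
        e.symm.toAlgHom.comp_algebraMap]
    · congr 1
      refine congrArg Set.range (funext fun i => ?_)
      simp [e]


end Groth.Agent.S9181
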