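import Groth.Statements.S9182
import Groth.Agent.CotHtpy.Localization

set_option autoImplicit false
universe u
open CAlg

namespace Groth.Agent.S9182
open Groth.Agent.CotHtpy TensorProduct

theorem exists_locHom {R S S' T : Type u} [CommRing R] [CommRing S] [CommRing S'] [CommRing T] [Algebra R S]
    [Algebra R S'] [Algebra R T] [Algebra S T] [Algebra S' T] [IsScalarTower R S T] [IsScalarTower R S' T]
    (M : Submonoid S) [IsLocalization M T] (M' : Submonoid S') [IsLocalization M' T] {n m : ℕ}
    (α : MvPolynomial (Fin n) R →ₐ[R] S) (hα : Function.Surjective α)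
    (β : MvPolynomial (Fin m) R →ₐ[R] S') (hβ : Function.Surjective β)
    (hM' : ∀ s, IsUnit (algebraMap S' T s) → s ∈ M') :
    Nonempty ((Algebra.Extension.ofSurjective (locMap (T := T) M α) (locMap_surjective M α hα)).Hom
      (Algebra.Extension.ofSurjective (locMap (T := T) M' β) (locMap_surjective M' β hβ))) := by
  choose y hy using fun i => locMap_surjective (T := T) M' β hβ (algebraMap S T (α (MvPolynomial.X i)))
  let s0 : MvPolynomial (Fin n) R →ₐ[R] LocRing M' β := MvPolynomial.aeval y
  have hs0 : ∀ x, locMap (T := T) M' β (s0 x) = algebraMap S T (α x) := fun x => by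
    have : (locMap (T := T) M' β).comp s0 = (IsScalarTower.toAlgHom R S T).comp α :=
      MvPolynomial.algHom_ext fun i => by simp [s0, hy]
    exact AlgHom.congr_fun this x
  let s : LocRing M α →ₐ[R] LocRing M' β := IsLocalization.liftAlgHom (M := M.comap α.toRingHom) (f := s0)
    (fun p => isUnit_of_isUnit_locMap (T := T) M' β hM' _
      (by rw [hs0]; exact IsLocalization.map_units T (⟨α p, p.2⟩ : M)))
  have hs : (locMap (T := T) M' β).comp s = locMap M α := by
    refine IsLocalization.algHom_ext (M.comap α.toRingHom) (AlgHom.ext fun x => ?_)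
    change locMap (T := T) M' β (s (algebraMap _ (LocRing M α) x)) = locMap (T := T) M α (algebraMap _ (LocRing M α) x)
    rw [locMap_algebraMap]
    exact (congrArg _ (IsLocalization.lift_eq _ x)).trans (hs0 x)
  exact ⟨⟨s.toRingHom, fun r => s.commutes r, fun x => AlgHom.congr_fun hs x⟩⟩



/-- For presentations α : R[x_1, …, x_n] → S and β : R[y_1, …, y_m] → S_g (g ∈ S) with kernels I and J,
the S_g-modules (I/I²)_g ⊕ S_g^m and J/J² ⊕ S_g^n are isomorphic. -/
theorem result (R S : Type u) [CommRing R] [CommRing S] [Algebra R S]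
    (g : S) (n m : ℕ) (α : MvPolynomial (Fin n) R →ₐ[R] S) (hα : Function.Surjective α)
    (β : MvPolynomial (Fin m) R →ₐ[R] Localization.Away g) (hβ : Function.Surjective β) :
    Nonempty ((LocalizedModule (Submonoid.powers g) (Algebra.Extension.ofSurjective α hα).Cotangent ×
        (Fin m → Localization.Away g)) ≃ₗ[Localization.Away g]
      ((Algebra.Extension.ofSurjective β hβ).Cotangent × (Fin n → Localization.Away g))) := by
  let T := Localization.Away g
  let M : Submonoid S := (IsUnit.submonoid T).comap (algebraMap S T)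
  haveI : IsLocalization M T := IsLocalization.of_le (Submonoid.powers g) M
    (fun s hs => IsLocalization.map_units T (⟨s, hs⟩ : Submonoid.powers g)) fun r hr => hr
  haveI : IsLocalization (IsUnit.submonoid T) T := IsLocalization.self le_rfl
  obtain ⟨f₁⟩ := exists_locHom (T := T) M (IsUnit.submonoid T) α hα β hβ (fun _ h => h)
  obtain ⟨f₂⟩ := exists_locHom (T := T) (IsUnit.submonoid T) M β hβ α hα (fun _ h => h)
  obtain ⟨e⟩ := nonempty_prod_equiv f₁ f₂
  obtain ⟨⟨eCα⟩, ⟨eFα⟩⟩ := nonempty_localized_equivs (T := T) M α hα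
  obtain ⟨⟨eCβ⟩, ⟨eFβ⟩⟩ := nonempty_localized_equivs (T := T) (IsUnit.submonoid T) β hβ
  let eL : LocalizedModule (Submonoid.powers g) (Algebra.Extension.ofSurjective α hα).Cotangent ≃ₗ[T]
      T ⊗[S] (Algebra.Extension.ofSurjective α hα).Cotangent :=
    (((isLocalizedModule_iff_isBaseChange (Submonoid.powers g) T
      (LocalizedModule.mkLinearMap (Submonoid.powers g) (Algebra.Extension.ofSurjective α hα).Cotangent)).mp
        inferInstance).equiv).symm
  let eB : T ⊗[T] (Algebra.Extension.ofSurjective β hβ).Cotangent ≃ₗ[T] (Algebra.Extension.ofSurjective β hβ).Cotangent :=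
    TensorProduct.lid T _
  exact ⟨((eL.trans eCα).prodCongr eFβ).trans (e.trans ((eCβ.symm.trans eB).prodCongr eFα.symm))⟩


end Groth.Agent.S9182
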