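import Groth.Statements.S9184
import Groth.Agent.FibreExact.Basic

set_option autoImplicit false
universe u
open CAlg

namespace Groth.Agent.S9184
open scoped Matrix in
/-- Exactness at a prime of the complex in the local ring. -/
theorem loc_iff {R S : Type u} [CommRing R] [CommRing S] [IsNoetherianRing S] [Algebra R S] (e : ℕ) (n : ℕ → ℕ)
    (φ : (i : ℕ) → Matrix (Fin (n i)) (Fin (n (i + 1))) S) (q : Ideal S) [q.IsPrime] (i : ℕ) :
    (Module.Flat R ((Fin (n i) → Localization.AtPrime q) ⧸
        LinearMap.range ((φ i).map (algebraMap S (Localization.AtPrime q))).mulVecLin) ↔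
      Module.Flat R (LocalizedModule q.primeCompl ((Fin (n i) → S) ⧸ LinearMap.range (φ i).mulVecLin))) ∧
    (LinearMap.ker ((φ i).map (algebraMap S (Localization.AtPrime q))).mulVecLin ≤
        FibreExact.imgSub e n (fun j => (φ j).map (algebraMap S (Localization.AtPrime q))) i ↔
      ¬ (FibreExact.imgSub e n φ i).colon (LinearMap.ker (φ i).mulVecLin : Set (Fin (n (i + 1)) → S)) ≤ q) := by
  classical
  let A := Localization.AtPrime q
  let L : ∀ m : ℕ, (Fin m → S) →ₗ[S] (Fin m → A) := fun m =>
    LinearMap.pi fun j => (Algebra.linearMap S A) ∘ₗ LinearMap.proj j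
  haveI : ∀ m, IsLocalizedModule q.primeCompl (L m) := fun m =>
    IsLocalizedModule.pi q.primeCompl (fun _ : Fin m => Algebra.linearMap S A)
  have ha : ∀ j, ((φ j).map (algebraMap S A)).mulVecLin =
      (IsLocalizedModule.map q.primeCompl (L (n (j + 1))) (L (n j)) (φ j).mulVecLin).extendScalarsOfIsLocalization
        q.primeCompl A := fun j => by
    refine LinearMap.restrictScalars_injective S (IsLocalizedModule.linearMap_ext q.primeCompl (L (n (j + 1))) (L (n j)) ?_)
    refine LinearMap.ext fun x => ?_
    show ((φ j).map (algebraMap S A)).mulVecLin (L (n (j + 1)) x) =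
      IsLocalizedModule.map q.primeCompl (L (n (j + 1))) (L (n j)) (φ j).mulVecLin (L (n (j + 1)) x)
    rw [IsLocalizedModule.map_apply]
    exact funext fun l => (RingHom.map_mulVec (algebraMap S A) (φ j) x l).symm
  have hrange : ∀ j, LinearMap.range ((φ j).map (algebraMap S A)).mulVecLin =
      (LinearMap.range (φ j).mulVecLin).localized' A q.primeCompl (L (n j)) := fun j => by
    rw [ha j, LinearMap.localized'_range_eq_range_localizedMap A q.primeCompl (L (n (j + 1))) (L (n j))]
  have himg : FibreExact.imgSub e n (fun j => (φ j).map (algebraMap S A)) i =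
      (FibreExact.imgSub e n φ i).localized' A q.primeCompl (L (n (i + 1))) := by
    unfold FibreExact.imgSub
    split_ifs
    · exact hrange (i + 1)
    · exact (Submodule.localized'_bot _ _ _).symm
  refine ⟨?_, ?_⟩
  · let N := LinearMap.range (φ i).mulVecLin
    let e₁ := (Submodule.quotEquivOfEq _ _ (hrange i)).restrictScalars R
    let e₂ := (IsLocalizedModule.iso q.primeCompl (N.toLocalizedQuotient' A q.primeCompl (L (n i)))).restrictScalars R
    exact ⟨fun h => Module.Flat.of_linearEquiv (e₂.trans e₁.symm), fun h => Module.Flat.of_linearEquiv (e₁.trans e₂.symm)⟩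
  · rw [himg, ha i, ← LinearMap.localized'_ker_eq_ker_localizedMap A q.primeCompl (L (n (i + 1))) (L (n i)) (φ i).mulVecLin]
    constructor
    · intro h hC
      obtain ⟨G, hG⟩ := IsNoetherian.noetherian (LinearMap.ker (φ i).mulVecLin)
      have hs : ∀ x ∈ LinearMap.ker (φ i).mulVecLin, ∃ s : q.primeCompl, (s : S) • x ∈ FibreExact.imgSub e n φ i := by
        intro x hx
        obtain ⟨m, hm, t, ht⟩ := h ⟨x, hx, 1, IsLocalizedModule.mk'_one _ _ x⟩
        rw [IsLocalizedModule.mk'_eq_iff] at ht
        rw [Submonoid.smul_def, ← map_smul, IsLocalizedModule.eq_iff_exists q.primeCompl] at ht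
        obtain ⟨c, hc⟩ := ht
        refine ⟨c * t, ?_⟩
        rw [Submonoid.coe_mul, mul_smul]
        have hmem := Submodule.smul_mem (FibreExact.imgSub e n φ i) (c : S) hm
        simp only [Submonoid.smul_def] at hc
        rwa [hc] at hmem
      choose! s hs using hs
      have hprod : ((∏ x ∈ G, s x : q.primeCompl) : S) ∈
          (FibreExact.imgSub e n φ i).colon (LinearMap.ker (φ i).mulVecLin : Set (Fin (n (i + 1)) → S)) := by
        rw [Submodule.mem_colon]
        intro y hy
        have hy' : y ∈ Submodule.span S (G : Set (Fin (n (i + 1)) → S)) := hG.ge hy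
        induction hy' using Submodule.span_induction with
        | mem x hx =>
          obtain ⟨c, hc⟩ := Finset.dvd_prod_of_mem s hx
          rw [hc, mul_comm, Submonoid.coe_mul, mul_smul]
          exact Submodule.smul_mem _ _ (hs x (hG.le (Submodule.subset_span hx)))
        | zero => rw [smul_zero]; exact zero_mem _
        | add a b ha hb h1 h2 => rw [smul_add]; exact add_mem (h1 (hG.le ha)) (h2 (hG.le hb))
        | smul r a ha h1 => rw [smul_comm]; exact Submodule.smul_mem _ r (h1 (hG.le ha))
      exact (∏ x ∈ G, s x : q.primeCompl).2 (hC hprod)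
    · intro hC
      obtain ⟨s, hs, hsq⟩ := SetLike.not_le_iff_exists.1 hC
      rintro z ⟨m, hm, t, rfl⟩
      exact ⟨s • m, Submodule.mem_colon.1 hs m hm, ⟨s, hsq⟩ * t, IsLocalizedModule.mk'_cancel_left _ _ ⟨s, hsq⟩ _⟩


/-- Let R be Noetherian, R → S flat of finite type whose fibre rings are Cohen–Macaulay and
equidimensional of dimension d, and let 0 → S^{n_e} → ⋯ → S^{n_1} → S^{n_0} be a complex of finite
free S-modules, the map S^{n_{i+1}} → S^{n_i} being given by the matrix φ_i. Then the set of primes
q of S such that the complex is exact (exact at each S^{n_i} with 0 < i < e and injective at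
S^{n_e}) after base change to the fibre local ring S_q/pS_q, p = q ∩ R, is open in Spec S. (The
published statement asks only that the fibres be Cohen–Macaulay of dimension d; this row assumes
them equidimensional of dimension d, the hypothesis the printed argument uses.) -/
theorem result (R S : Type u) [CommRing R] [IsNoetherianRing R] [CommRing S]
    [Algebra R S] [Algebra.FiniteType R S] [Module.Flat R S] (d : ℕ)
    (hCM : ∀ p : PrimeSpectrum R, LocCoh.IsCohenMacaulayRing (p.asIdeal.Fiber S))
    (heq : ∀ p : PrimeSpectrum R, ∀ P ∈ minimalPrimes (p.asIdeal.Fiber S),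
      ringKrullDim (p.asIdeal.Fiber S ⧸ P) = (d : WithBot ℕ∞))
    (e : ℕ) (n : ℕ → ℕ) (φ : (i : ℕ) → Matrix (Fin (n i)) (Fin (n (i + 1))) S)
    (hφ : ∀ i, i + 2 ≤ e → φ i * φ (i + 1) = 0) :
    IsOpen {q : PrimeSpectrum S |
      (∀ i, i + 2 ≤ e →
        LinearMap.ker (Matrix.mulVecLin ((φ i).map (algebraMap S (EGA4.FibLocRing R S q.asIdeal)))) =
          LinearMap.range (Matrix.mulVecLin ((φ (i + 1)).map (algebraMap S (EGA4.FibLocRing R S q.asIdeal))))) ∧
      (1 ≤ e → Function.Injective
        (Matrix.mulVecLin ((φ (e - 1)).map (algebraMap S (EGA4.FibLocRing R S q.asIdeal)))))} := by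
  classical
  haveI : IsNoetherianRing S := Algebra.FiniteType.isNoetherianRing R S
  haveI : Algebra.FinitePresentation R S := Algebra.FinitePresentation.of_finiteType.1 inferInstance
  let G : ℕ → Set (PrimeSpectrum S) := fun i =>
    {q | Module.Flat R (LocalizedModule q.asIdeal.primeCompl ((Fin (n i) → S) ⧸ LinearMap.range (φ i).mulVecLin))} ∩
      (PrimeSpectrum.zeroLocus ((FibreExact.imgSub e n φ i).colon
        (LinearMap.ker (φ i).mulVecLin : Set (Fin (n (i + 1)) → S)) : Set S))ᶜ
  have hG : ∀ i, IsOpen (G i) := fun i => by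
    haveI : Module.FinitePresentation S ((Fin (n i) → S) ⧸ LinearMap.range (φ i).mulVecLin) :=
      Module.finitePresentation_of_finite S _
    exact (FlatModel.isOpen_flatLocus _).inter (PrimeSpectrum.isClosed_zeroLocus _).isOpen_compl
  suffices h : ∀ q : PrimeSpectrum S, q ∈ {q : PrimeSpectrum S |
      (∀ i, i + 2 ≤ e →
        LinearMap.ker (Matrix.mulVecLin ((φ i).map (algebraMap S (EGA4.FibLocRing R S q.asIdeal)))) =
          LinearMap.range (Matrix.mulVecLin ((φ (i + 1)).map (algebraMap S (EGA4.FibLocRing R S q.asIdeal))))) ∧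
      (1 ≤ e → Function.Injective
        (Matrix.mulVecLin ((φ (e - 1)).map (algebraMap S (EGA4.FibLocRing R S q.asIdeal)))))} ↔
      q ∈ ⋂ i ∈ Finset.range e, G i by
    rw [Set.ext h]
    exact isOpen_biInter_finset fun i _ => hG i
  intro q
  let A := Localization.AtPrime q.asIdeal
  let p := q.asIdeal.comap (algebraMap R S)
  let J : Ideal A := p.map (algebraMap R A)
  let ψ : (i : ℕ) → Matrix (Fin (n i)) (Fin (n (i + 1))) A := fun i => (φ i).map (algebraMap S A)
  have hψ : ∀ i, i + 2 ≤ e → ψ i * ψ (i + 1) = 0 := fun i hi => by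
    rw [← Matrix.map_mul, hφ i hi]
    exact Matrix.map_zero _ (map_zero _)
  have hr : ∀ i, i + 2 ≤ e → FibreExact.red n ψ J i * FibreExact.red n ψ J (i + 1) = 0 := fun i hi => by
    show (ψ i).map _ * (ψ (i + 1)).map _ = 0
    rw [← Matrix.map_mul, hψ i hi]
    exact Matrix.map_zero _ (map_zero _)
  have hp : p = (IsLocalRing.maximalIdeal A).comap (algebraMap R A) := by
    rw [IsScalarTower.algebraMap_eq R S A, ← Ideal.comap_comap]
    exact congrArg (Ideal.comap (algebraMap R S)) (IsLocalization.AtPrime.comap_maximalIdeal A q.asIdeal).symm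
  haveI : Module.Flat R A := Module.Flat.trans R S A
  refine (FibreExact.exact_iff e n (FibreExact.red n ψ J) hr).trans ?_
  simp only [Set.mem_iInter, Finset.mem_range]
  constructor
  · intro h i hi
    obtain ⟨hflat, hker⟩ := FibreExact.flat_of_red e n ψ hψ p hp J rfl h e i hi (by omega)
    obtain ⟨e1, e2⟩ := loc_iff (R := R) e n φ q.asIdeal i
    exact ⟨e1.1 hflat, fun hz => e2.1 hker hz⟩
  · intro h i hi
    obtain ⟨e1, e2⟩ := loc_iff (R := R) e n φ q.asIdeal i
    obtain ⟨h1, h2⟩ := h i hi
    exact FibreExact.red_of_flat e n ψ p J rfl i (e1.2 h1) (e2.2 fun hle => h2 hle)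


end Groth.Agent.S9184
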