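import Groth.Statements.S9185
import Groth.Agent.DiffOps.EtaleExt

set_option autoImplicit false
universe u
open Diff16

namespace Groth.Agent.S9185

/-- For a ring map R → S, an S-module M and k ≥ 0 there is an S-module P together with a differential
operator D : M → P of order at most k (relative to R → S) such that every differential operator of
order at most k from M to an S-module N is α ∘ D for a unique S-linear map α : P → N; that is,
differential operators of order ≤ k out of M are represented by P. (Target modules N are taken in
the same universe.) -/
theorem result (R S : Type u) [CommRing R] [CommRing S] [Algebra R S] (M : Type u)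
    [AddCommGroup M] [Module S M] [Module R M] [IsScalarTower R S M] (k : ℕ) :
    ∃ (P : Type u) (_ : AddCommGroup P) (_ : Module S P) (_ : Module R P) (_ : IsScalarTower R S P)
      (D : M →ₗ[R] P), Diff16.IsDiffOpLE R S M P k D ∧
        ∀ (N : Type u) [AddCommGroup N] [Module S N] [Module R N] [IsScalarTower R S N] (D' : M →ₗ[R] N),
          Diff16.IsDiffOpLE R S M N k D' → ∃! α : P →ₗ[S] N, α.restrictScalars R ∘ₗ D = D' := by
  exact Groth.Agent.DiffOps.exists_universal k

end Groth.Agent.S9185
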