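import Groth.Statements.S9195
import Groth.Agent.ConsPropLib.Cores
import Groth.Agent.FibDim.RelDim
import Groth.Agent.FibDim.Semicont

set_option autoImplicit false
set_option backward.isDefEq.respectTransparency false
set_option backward.isDefEq.respectTransparency.types false
universe u
open CategoryTheory AlgebraicGeometry
open Lim

namespace Groth.Agent.S9195

/-- Let S = lim S_i be a cofiltered limit of schemes with affine transition morphisms, S_{i₀} a
quasi-compact quasi-separated stage, f₀ : X₀ → Y₀ a morphism of quasi-compact quasi-separated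
schemes over S_{i₀}, and f : X → Y its base change along S → S_{i₀} (base changes expressed by
pullback squares). Let d be a natural number. If f₀ is locally of finite type and f has relative
dimension at most d (every fibre of f has local dimension at most d at each of its points), then for
some index i over i₀ the base change f_i : X_i → Y_i of f₀ along S_i → S_{i₀} has relative dimension
at most d. -/
theorem result {I : Type u} [SmallCategory I] [IsCofiltered I]
    (D : I ⥤ Scheme.{u}) (c : Limits.Cone D) (hc : Limits.IsLimit c)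
    [∀ (i j : I) (f : i ⟶ j), IsAffineHom (D.map f)] (i₀ : I) [CompactSpace (D.obj i₀)]
    [QuasiSeparatedSpace (D.obj i₀)] {X₀ Y₀ : Scheme.{u}} (f₀ : X₀ ⟶ Y₀) (g₀ : Y₀ ⟶ D.obj i₀)
    [CompactSpace X₀] [QuasiSeparatedSpace X₀] [CompactSpace Y₀] [QuasiSeparatedSpace Y₀]
    [LocallyOfFiniteType f₀] (d : ℕ)
    {X Y : Scheme.{u}} (f : X ⟶ Y) (g : Y ⟶ c.pt) (qY : Y ⟶ Y₀) (qX : X ⟶ X₀)
    (hY : IsPullback qY g g₀ (c.π.app i₀)) (hX : IsPullback qX f f₀ qY) (hd : ∀ x : X, FlatMor.fibreDimAt f x ≤ d) :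
    ∃ (i : I) (φ : i ⟶ i₀) (Xi Yi : Scheme.{u}) (fi : Xi ⟶ Yi) (gi : Yi ⟶ D.obj i) (pY : Yi ⟶ Y₀)
      (pX : Xi ⟶ X₀), IsPullback pY gi g₀ (D.map φ) ∧ IsPullback pX fi f₀ pY ∧ ∀ x : Xi, FlatMor.fibreDimAt fi x ≤ d := by
  obtain ⟨j, φ, hj⟩ := ConsPropLib.exists_stage_subset hc (i := i₀) (f₀ ≫ g₀) (q := qX) (f := f ≫ g)
    (hX.paste_vert hY) (B := {x | FlatMor.fibreDimAt f₀ x ≤ d}) (MorLib.LimCons.ind_of_isOpen (FibDim.isOpen_fibreDimAt_le f₀ d))
    fun x => by
      have : LocallyOfFiniteType f := MorphismProperty.of_isPullback hX inferInstance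
      show FlatMor.fibreDimAt f₀ (qX x) ≤ d
      rw [← FibDim.fibreDimAt_baseChange hX x]
      exact hd x
  have w : (Limits.pullback.fst (f₀ ≫ g₀) (D.map φ) ≫ f₀) ≫ g₀ = Limits.pullback.snd _ _ ≫ D.map φ := by
    rw [Category.assoc, Limits.pullback.condition]
  let fj : Limits.pullback (f₀ ≫ g₀) (D.map φ) ⟶ Limits.pullback g₀ (D.map φ) := Limits.pullback.lift _ _ w
  have sq : IsPullback (Limits.pullback.fst (f₀ ≫ g₀) (D.map φ)) fj f₀ (Limits.pullback.fst g₀ (D.map φ)) :=
    IsPullback.of_bot (by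
      rw [Limits.pullback.lift_snd]
      exact IsPullback.of_hasPullback (f₀ ≫ g₀) (D.map φ)) (Limits.pullback.lift_fst _ _ _).symm
      (IsPullback.of_hasPullback g₀ (D.map φ))
  have : LocallyOfFiniteType fj := MorphismProperty.of_isPullback sq inferInstance
  refine ⟨j, φ, _, _, fj, _, _, _, IsPullback.of_hasPullback _ _, sq, fun x => ?_⟩
  rw [FibDim.fibreDimAt_baseChange sq x]
  exact hj x

end Groth.Agent.S9195
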