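import Groth.Statements.S9196
import Groth.Agent.ConsPropLib.Cores
import Groth.Agent.FibDim.RelDim
import Groth.Agent.FibDim.Semicont
import Groth.Agent.FibDim.LocDim
import Groth.Agent.CycLib.Flat

set_option autoImplicit false
set_option backward.isDefEq.respectTransparency false
set_option backward.isDefEq.respectTransparency.types false
universe u
open CategoryTheory AlgebraicGeometry
open Lim

namespace Groth.Agent.S9196
open Topology in
theorem isConstructible_fibreDimAt_eq {X Y : Scheme.{u}} (f : X ⟶ Y) [LocallyOfFinitePresentation f]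
    [CompactSpace X] [QuasiSeparatedSpace X] (d : ℕ) :
    IsConstructible {x : X | FlatMor.fibreDimAt f x = ((d : ℕ∞) : WithBot ℕ∞)} := by
  have hle : ∀ n : ℕ, IsConstructible {x : X | FlatMor.fibreDimAt f x ≤ n} := fun n =>
    (FibDim.isRetrocompact_setOf_fibreDimAt_le f n).isConstructible (FibDim.isOpen_fibreDimAt_le f n)
  cases d with
  | zero =>
    convert! hle 0 using 1
    ext x
    obtain ⟨z, -, -, -, he⟩ := FibDim.exists_fibMax_generization f x
    simp [he]
  | succ n =>
    convert! (hle (n + 1)).sdiff (hle n) using 1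
    ext x
    obtain ⟨z, -, -, -, he⟩ := FibDim.exists_fibMax_generization f x
    show FlatMor.fibreDimAt f x = _ ↔ FlatMor.fibreDimAt f x ≤ _ ∧ ¬ FlatMor.fibreDimAt f x ≤ _
    rw [he]
    constructor
    · intro h
      have h' : FibDim.rd f z = n + 1 := by exact_mod_cast h
      rw [h']
      exact ⟨by push_cast; exact le_rfl, fun h'' => absurd (show n + 1 ≤ n by exact_mod_cast h'') (by omega)⟩
    · rintro ⟨h1, h2⟩
      have h1' : FibDim.rd f z ≤ n + 1 := by exact_mod_cast h1
      have h2' : ¬ FibDim.rd f z ≤ n := fun h => h2 (by exact_mod_cast h)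
      rw [show FibDim.rd f z = n + 1 by omega]


/-- Let S = lim S_i be a cofiltered limit of schemes with affine transition morphisms, S_{i₀} a
quasi-compact quasi-separated stage, f₀ : X₀ → Y₀ a morphism of quasi-compact quasi-separated
schemes over S_{i₀}, and f : X → Y its base change along S → S_{i₀} (base changes expressed by
pullback squares). Let d be a natural number. If f₀ is locally of finite presentation and f has
relative dimension d (every irreducible component of every fibre of f has dimension d), then for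
some index i over i₀ the base change f_i : X_i → Y_i of f₀ along S_i → S_{i₀} has relative dimension
d. -/
theorem result {I : Type u} [SmallCategory I] [IsCofiltered I]
    (D : I ⥤ Scheme.{u}) (c : Limits.Cone D) (hc : Limits.IsLimit c)
    [∀ (i j : I) (f : i ⟶ j), IsAffineHom (D.map f)] (i₀ : I) [CompactSpace (D.obj i₀)]
    [QuasiSeparatedSpace (D.obj i₀)] {X₀ Y₀ : Scheme.{u}} (f₀ : X₀ ⟶ Y₀) (g₀ : Y₀ ⟶ D.obj i₀)
    [CompactSpace X₀] [QuasiSeparatedSpace X₀] [CompactSpace Y₀] [QuasiSeparatedSpace Y₀]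
    [LocallyOfFinitePresentation f₀] (d : ℕ)
    {X Y : Scheme.{u}} (f : X ⟶ Y) (g : Y ⟶ c.pt) (qY : Y ⟶ Y₀) (qX : X ⟶ X₀)
    (hY : IsPullback qY g g₀ (c.π.app i₀)) (hX : IsPullback qX f f₀ qY) (hd : Cyc.HasRelDim f d) :
    ∃ (i : I) (φ : i ⟶ i₀) (Xi Yi : Scheme.{u}) (fi : Xi ⟶ Yi) (gi : Yi ⟶ D.obj i) (pY : Yi ⟶ Y₀)
      (pX : Xi ⟶ X₀), IsPullback pY gi g₀ (D.map φ) ∧ IsPullback pX fi f₀ pY ∧ Cyc.HasRelDim fi d := by
  obtain ⟨j, φ, hj⟩ := ConsPropLib.exists_stage_subset hc (i := i₀) (f₀ ≫ g₀) (q := qX) (f := f ≫ g)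
    (hX.paste_vert hY) (B := {x | FlatMor.fibreDimAt f₀ x = ((d : ℕ∞) : WithBot ℕ∞)})
    (EGA41Lib.lc_iff.1 (isConstructible_fibreDimAt_eq f₀ d).isLocallyConstructible).1
    fun x => by
      have : LocallyOfFiniteType f := MorphismProperty.of_isPullback hX inferInstance
      show FlatMor.fibreDimAt f₀ (qX x) = _
      rw [← FibDim.fibreDimAt_baseChange hX x]
      exact FibDim.fibreDimAt_eq_of_hasRelDim f hd x
  have w : (Limits.pullback.fst (f₀ ≫ g₀) (D.map φ) ≫ f₀) ≫ g₀ = Limits.pullback.snd _ _ ≫ D.map φ := by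
    rw [Category.assoc, Limits.pullback.condition]
  let fj : Limits.pullback (f₀ ≫ g₀) (D.map φ) ⟶ Limits.pullback g₀ (D.map φ) := Limits.pullback.lift _ _ w
  have sq : IsPullback (Limits.pullback.fst (f₀ ≫ g₀) (D.map φ)) fj f₀ (Limits.pullback.fst g₀ (D.map φ)) :=
    IsPullback.of_bot (by
      rw [Limits.pullback.lift_snd]
      exact IsPullback.of_hasPullback (f₀ ≫ g₀) (D.map φ)) (Limits.pullback.lift_fst _ _ _).symm
      (IsPullback.of_hasPullback g₀ (D.map φ))
  have : LocallyOfFiniteType fj := MorphismProperty.of_isPullback sq inferInstance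
  refine ⟨j, φ, _, _, fj, _, _, _, IsPullback.of_hasPullback _ _, sq, (CycLib.hasRelDim_iff fj).2 fun z hz => ?_⟩
  have h : FlatMor.fibreDimAt f₀ (Limits.pullback.fst (f₀ ≫ g₀) (D.map φ) z) = _ := hj z
  rw [← FibDim.fibreDimAt_baseChange sq z, FibDim.fibreDimAt_eq_rd fj hz] at h
  exact_mod_cast h

end Groth.Agent.S9196
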