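import Groth.Statements.S9197
import Groth.Agent.LimSm.Flat
import Groth.Agent.MorLib.DescendCI
-- import your own Groth.Agent.* helpers here

set_option autoImplicit false
universe u
open CategoryTheory AlgebraicGeometry
open Lim

namespace Groth.Agent.S9197

set_option backward.isDefEq.respectTransparency.types false in
/-- Let S = lim S_i be a cofiltered limit of schemes with affine transition morphisms, S_{i₀} a
quasi-compact quasi-separated stage, f₀ : X₀ → Y₀ a morphism of quasi-compact quasi-separated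
schemes over S_{i₀}, and f : X → Y its base change along S → S_{i₀} (base changes expressed by
pullback squares). Let d be a natural number. If f₀ is locally of finite presentation and f is
finite locally free of degree d (finite, flat, locally of finite presentation, with rank function
constant equal to d), then for some index i over i₀ the base change f_i : X_i → Y_i of f₀ along S_i
→ S_{i₀} is finite locally free of degree d. -/
theorem result {I : Type u} [SmallCategory I] [IsCofiltered I]
    (D : I ⥤ Scheme.{u}) (c : Limits.Cone D) (hc : Limits.IsLimit c)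
    [∀ (i j : I) (f : i ⟶ j), IsAffineHom (D.map f)] (i₀ : I) [CompactSpace (D.obj i₀)]
    [QuasiSeparatedSpace (D.obj i₀)] {X₀ Y₀ : Scheme.{u}} (f₀ : X₀ ⟶ Y₀) (g₀ : Y₀ ⟶ D.obj i₀)
    [CompactSpace X₀] [QuasiSeparatedSpace X₀] [CompactSpace Y₀] [QuasiSeparatedSpace Y₀]
    [LocallyOfFinitePresentation f₀] (d : ℕ)
    {X Y : Scheme.{u}} (f : X ⟶ Y) (g : Y ⟶ c.pt) (qY : Y ⟶ Y₀) (qX : X ⟶ X₀)
    (hY : IsPullback qY g g₀ (c.π.app i₀)) (hX : IsPullback qX f f₀ qY) (hf : Mor2.IsFinLocFreeOfDeg d f) :
    ∃ (i : I) (φ : i ⟶ i₀) (Xi Yi : Scheme.{u}) (fi : Xi ⟶ Yi) (gi : Yi ⟶ D.obj i) (pY : Yi ⟶ Y₀)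
      (pX : Xi ⟶ X₀), IsPullback pY gi g₀ (D.map φ) ∧ IsPullback pX fi f₀ pY ∧ Mor2.IsFinLocFreeOfDeg d fi := by
  obtain ⟨⟨hfin, hflat, -⟩, hd⟩ := hf
  haveI : ∀ {i j : I} (f : i ⟶ j), IsAffineHom (D.map f) := fun {i j} f => inferInstance
  haveI : QuasiCompact f₀ := quasiCompact_of_compactSpace f₀
  haveI : QuasiSeparated f₀ := QuasiSeparated.of_quasiSeparatedSpace f₀
  haveI : MorphismProperty.RespectsIso (@LocallyOfFinitePresentation : MorphismProperty Scheme.{u}) :=
    MorphismProperty.IsStableUnderBaseChange.respectsIso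
  haveI : MorphismProperty.RespectsIso (@LocallyOfFiniteType : MorphismProperty Scheme.{u}) :=
    MorphismProperty.IsStableUnderBaseChange.respectsIso
  haveI : MorphismProperty.RespectsIso (@Flat : MorphismProperty Scheme.{u}) :=
    MorphismProperty.IsStableUnderBaseChange.respectsIso
  open Groth.Agent.MorLib Limits in
  obtain ⟨a, φa, Xa, Ya, fa, ga, pYa, pXa, hYa, hXa, ha⟩ := Desc.descend₂ D c hc (P := @IsFinite)
    (Q := @LocallyOfFiniteType) Desc.core_isFinite f₀ g₀ inferInstance f g qY qX hY hX hfin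
  open Groth.Agent.MorLib Limits in
  obtain ⟨b, φb, Xb, Yb, fb, gb, pYb, pXb, hYb, hXb, hb⟩ := Desc.descend₂ D c hc (P := @Flat)
    (Q := @LocallyOfFinitePresentation) Groth.Agent.LimSm.core_flat f₀ g₀ inferInstance f g qY qX hY hX hflat
  obtain ⟨n, α, β, -⟩ := IsCofilteredOrEmpty.cone_objs (Over.mk φa) (Over.mk φb)
  have hα : α.left ≫ φa = n.hom := Over.w α
  have hβ : β.left ≫ φb = n.hom := Over.w β
  let fn := Limits.pullback.snd f₀ (Limits.pullback.fst g₀ (D.map n.hom))
  haveI hnfin : IsFinite fn := Groth.Agent.MorLib.Desc.of_factor @IsFinite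
    (Groth.Agent.MorLib.Desc.of_two @IsFinite hXa (IsPullback.of_hasPullback _ _) ha)
    (a := hYa.lift (Limits.pullback.fst g₀ (D.map n.hom)) (Limits.pullback.snd g₀ (D.map n.hom) ≫ D.map α.left)
      (by rw [Category.assoc, ← D.map_comp, hα]; exact Limits.pullback.condition))
    (hYa.lift_fst _ _ _) (IsPullback.of_hasPullback _ _)
  haveI hnflat : Flat fn := Groth.Agent.MorLib.Desc.of_factor @Flat
    (Groth.Agent.MorLib.Desc.of_two @Flat hXb (IsPullback.of_hasPullback _ _) hb)
    (a := hYb.lift (Limits.pullback.fst g₀ (D.map n.hom)) (Limits.pullback.snd g₀ (D.map n.hom) ≫ D.map β.left)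
      (by rw [Category.assoc, ← D.map_comp, hβ]; exact Limits.pullback.condition))
    (hYb.lift_fst _ _ _) (IsPullback.of_hasPullback _ _)
  haveI : LocallyOfFinitePresentation fn :=
    MorphismProperty.IsStableUnderBaseChange.of_isPullback (IsPullback.of_hasPullback _ _) ‹LocallyOfFinitePresentation f₀›
  let E := Groth.Agent.MorLib.BC.diag D g₀
  let U : (E.obj n).Opens := ⟨{y | fn.finrank y = d}, (fn.isLocallyConstant_finrank).isOpen_fiber d⟩
  let cY := Groth.Agent.MorLib.BC.cone D g₀ hY
  have hr : ∀ y : Y, fn.finrank (cY.π.app n y) = d := fun y => by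
    let rX : X ⟶ Limits.pullback f₀ (Limits.pullback.fst g₀ (D.map n.hom)) :=
      Limits.pullback.lift qX (f ≫ cY.π.app n)
        (hX.w.trans ((congrArg (f ≫ ·) (Groth.Agent.MorLib.BC.proj_fst D g₀ hY n).symm).trans
          (Category.assoc _ _ _).symm))
    have hsq : IsPullback rX f fn (cY.π.app n) := by
      refine IsPullback.of_right ?_ (Limits.pullback.lift_snd _ _ _) (IsPullback.of_hasPullback f₀ _)
      rw [Limits.pullback.lift_fst]
      exact (Groth.Agent.MorLib.BC.proj_fst D g₀ hY n).symm ▸ hX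
    exact (Scheme.Hom.finrank_of_isPullback rX f fn _ hsq y).symm.trans (hd y)
  haveI : ∀ j, CompactSpace (E.obj j) := fun j => Groth.Agent.MorLib.BC.compactSpace_obj D g₀ j
  haveI : ∀ {j k : Over i₀} (m : j ⟶ k), IsAffineHom (E.map m) := fun m =>
    Groth.Agent.MorLib.BC.isAffineHom_map D g₀ m
  obtain ⟨m, μ, hμ⟩ := exists_map_eq_top E cY (Groth.Agent.MorLib.BC.isLimitCone D g₀ hY hc) U
    (top_le_iff.1 fun y _ => hr y)
  refine ⟨m.left, m.hom, _, E.obj m, Limits.pullback.snd fn (E.map μ), Limits.pullback.snd g₀ (D.map m.hom),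
    Limits.pullback.fst g₀ (D.map m.hom), Limits.pullback.fst fn (E.map μ) ≫ Limits.pullback.fst _ _,
    IsPullback.of_hasPullback _ _, ?_, ⟨inferInstance, inferInstance, ?_⟩, fun y => ?_⟩
  · have := (IsPullback.of_hasPullback fn (E.map μ)).paste_horiz (IsPullback.of_hasPullback _ _)
    have e : E.map μ ≫ Limits.pullback.fst g₀ (D.map n.hom) = Limits.pullback.fst g₀ (D.map m.hom) :=
      Groth.Agent.MorLib.BC.map_fst D g₀ μ
    convert this using 1
    exact e.symm
  · exact MorphismProperty.IsStableUnderBaseChange.of_isPullback (IsPullback.of_hasPullback _ _)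
      ‹LocallyOfFinitePresentation fn›
  · rw [Scheme.Hom.finrank_pullback_snd]
    exact hμ.ge (Set.mem_univ y)

end Groth.Agent.S9197
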