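import Groth.Statements.S9201
import Groth.Agent.MorLib.EventuallyCIStr

set_option autoImplicit false
universe u
open CategoryTheory AlgebraicGeometry
open Lim

namespace Groth.Agent.S9201

/-- Let S be a quasi-separated scheme and X = lim X_i a cofiltered limit of S-schemes X_i (a diagram
with a compatible family of structure maps to S) whose transition morphisms are closed immersions,
every X_i quasi-compact, quasi-separated and locally of finite type over S; the structure map X → S
is the composite X → X_{i₀} → S for any index i₀. If X → S is an immersion, then X_i → S is an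
immersion for all i beyond some index i₁. -/
theorem result {I : Type u} [SmallCategory I] [IsCofiltered I] (S : Scheme.{u}) [QuasiSeparatedSpace S]
    (D : I ⥤ Scheme.{u}) (t : D ⟶ (Functor.const I).obj S) (c : Limits.Cone D) (hc : Limits.IsLimit c)
    [∀ (i j : I) (a : i ⟶ j), IsClosedImmersion (D.map a)]
    [∀ i, CompactSpace (D.obj i)] [∀ i, QuasiSeparatedSpace (D.obj i)]
    [∀ i, LocallyOfFiniteType (t.app i)] (i₀ : I)
    [IsImmersion (c.π.app i₀ ≫ t.app i₀)] :
    ∃ i₁ : I, ∀ (i : I) (_ : i ⟶ i₁), IsImmersion (t.app i) := by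
  haveI : ∀ {i j : I} (f : i ⟶ j), IsClosedImmersion (D.map f) := fun f => inferInstance
  haveI : ∀ {i j : I} (f : i ⟶ j), IsAffineHom (D.map f) := fun f => inferInstance
  have hnat : ∀ {i j : I} (g : i ⟶ j), D.map g ≫ t.app j = t.app i := fun g =>
    (t.naturality g).trans (Category.comp_id _)
  haveI := isAffineHom_π_app D c hc i₀
  haveI : CompactSpace c.pt := QuasiCompact.compactSpace_of_compactSpace (c.π.app i₀)
  let f : c.pt ⟶ S := c.π.app i₀ ≫ t.app i₀
  obtain ⟨W, hWc, hWo, hfW, hWU⟩ := PrespectralSpace.exists_isCompact_and_isOpen_between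
    (isCompact_range f.continuous) f.coborderRange.2 subset_coborder
  let W' : S.Opens := ⟨W, hWo⟩
  obtain ⟨j, φ, hj⟩ := exists_map_eq_top D c hc ((t.app i₀) ⁻¹ᵁ W')
    (top_le_iff.mp fun x _ => hfW ⟨x, rfl⟩)
  haveI : CompactSpace (W' : Scheme.{u}) := isCompact_iff_compactSpace.mp hWc
  haveI : QuasiSeparatedSpace (W' : Scheme.{u}) := W'.ι.isOpenEmbedding.quasiSeparatedSpace
  let t' : D.obj j ⟶ (W' : Scheme.{u}) := IsOpenImmersion.lift W'.ι (t.app j) (by
    rw [Scheme.Opens.range_ι]
    rintro _ ⟨x, rfl⟩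
    rw [← hnat φ]
    exact hj.ge (show x ∈ (⊤ : (D.obj j).Opens) from trivial))
  have ht' : t' ≫ W'.ι = t.app j := IsOpenImmersion.lift_fac _ _ _
  haveI : LocallyOfFiniteType t' := by
    haveI : LocallyOfFiniteType (t' ≫ W'.ι) := by rw [ht']; infer_instance
    exact locallyOfFiniteType_of_comp t' W'.ι
  let g : c.pt ⟶ (W' : Scheme.{u}) := c.π.app j ≫ t'
  have hg : g ≫ W'.ι = f := by
    show (c.π.app j ≫ t') ≫ W'.ι = c.π.app i₀ ≫ t.app i₀
    rw [Category.assoc, ht', ← hnat φ, ← Category.assoc, c.w]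
  haveI : IsClosedImmersion g := by
    haveI : IsImmersion (g ≫ W'.ι) := by rw [hg]; infer_instance
    haveI : IsImmersion g := IsImmersion.of_comp g W'.ι
    refine .of_isPreimmersion g ?_
    obtain ⟨C, hC, hC'⟩ := isClosed_induced_iff.mp (isClosed_preimage_val_coborder (s := Set.range f))
    have e : Set.range g = W'.ι ⁻¹' C := by
      ext y
      constructor
      · rintro ⟨x, rfl⟩
        show (g ≫ W'.ι) x ∈ C
        rw [hg]
        exact (Set.ext_iff.mp hC' ⟨f x, subset_coborder ⟨x, rfl⟩⟩).mpr ⟨x, rfl⟩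
      · intro hy
        obtain ⟨x, hx⟩ := (Set.ext_iff.mp hC' ⟨W'.ι y, hWU y.2⟩).mp hy
        refine ⟨x, W'.ι.injective ?_⟩
        show (g ≫ W'.ι) x = W'.ι y
        rw [hg]; exact hx
    rw [e]
    exact hC.preimage W'.ι.continuous
  haveI : IsClosedImmersion (c.π.app j ≫ t') := ‹IsClosedImmersion g›
  obtain ⟨k, hk⟩ := MorLib.EvCI.exists_isClosedImmersion_structure hc j t'
  refine ⟨k.left, fun i a => ?_⟩
  have h1 := hk (Over.mk (a ≫ k.hom)) (Over.homMk a)
  rw [← hnat (a ≫ k.hom), ← ht', ← Category.assoc]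
  haveI : IsClosedImmersion (D.map (a ≫ k.hom) ≫ t') := h1
  infer_instance

end Groth.Agent.S9201
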