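import Groth.Statements.S9202
import Groth.Agent.MorLib.ProperFT

set_option autoImplicit false
universe u
open CategoryTheory AlgebraicGeometry
open Lim

set_option linter.style.haveILetI false
set_option backward.isDefEq.respectTransparency false
set_option backward.isDefEq.respectTransparency.types false

namespace Groth.Agent.S9202

/-- Let S be a scheme and X = lim X_i a cofiltered limit of S-schemes X_i (a diagram with a compatible
family of structure maps to S) with affine transition morphisms, every X_i quasi-compact and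
quasi-separated; the structure map X → S is the composite X → X_{i₀} → S for any index i₀. Let h : Y
→ X be a proper morphism such that the composite Y → X → S is locally of finite type. Then Y → X_i
is proper for all i beyond some index i₁. -/
theorem result {I : Type u} [SmallCategory I] [IsCofiltered I] (S : Scheme.{u})
    (D : I ⥤ Scheme.{u}) (t : D ⟶ (Functor.const I).obj S) (c : Limits.Cone D) (hc : Limits.IsLimit c)
    [∀ (i j : I) (a : i ⟶ j), IsAffineHom (D.map a)]
    [∀ i, CompactSpace (D.obj i)] [∀ i, QuasiSeparatedSpace (D.obj i)] (i₀ : I)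
    {Y : Scheme.{u}} (h : Y ⟶ c.pt) [IsProper h] [LocallyOfFiniteType (h ≫ c.π.app i₀ ≫ t.app i₀)] :
    ∃ i₁ : I, ∀ (i : I) (_ : i ⟶ i₁), IsProper (h ≫ c.π.app i) := by
  classical
  haveI : ∀ {i j : I} (a : i ⟶ j), IsAffineHom (D.map a) := fun {i j} a => inferInstance
  haveI : ∀ i, IsAffineHom (c.π.app i) := fun i => isAffineHom_π_app D c hc i
  haveI : CompactSpace c.pt := QuasiCompact.compactSpace_of_compactSpace (c.π.app i₀)
  haveI : CompactSpace Y := QuasiCompact.compactSpace_of_compactSpace h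
  haveI hlft : ∀ i (_ : i ⟶ i₀), LocallyOfFiniteType (h ≫ c.π.app i) := fun i a => by
    have e : (h ≫ c.π.app i) ≫ t.app i = h ≫ c.π.app i₀ ≫ t.app i₀ := by
      rw [Category.assoc, ← c.w a, Category.assoc, t.naturality]
      simp
    haveI : LocallyOfFiniteType ((h ≫ c.π.app i) ≫ t.app i) := by rw [e]; infer_instance
    exact locallyOfFiniteType_of_comp _ (t.app i)
  haveI := hlft i₀ (𝟙 i₀)
  have hloc : ∀ p : D.obj i₀, ∃ (V : (D.obj i₀).Opens) (j : Over i₀), p ∈ V ∧
      UniversallyClosed ((h ≫ c.π.app j.left) ∣_ (D.map j.hom ⁻¹ᵁ V)) := by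
    intro p
    obtain ⟨V, hV, hp, -⟩ := exists_isAffineOpen_mem_and_subset (x := p) (U := ⊤) trivial
    let T : Over i₀ := Over.mk (𝟙 i₀)
    haveI : IsIso (D.map (𝟙 i₀)) := by rw [D.map_id]; infer_instance
    haveI : IsAffine ((opensDiagram D i₀ V).obj T) := hV.preimage (D.map (𝟙 i₀))
    haveI : ∀ {a b : Over i₀} (f : a ⟶ b), IsAffineHom ((opensDiagram D i₀ V).map f) := fun f => inferInstance
    let hV' := h ∣_ (c.π.app i₀ ⁻¹ᵁ V)
    haveI : UniversallyClosed hV' :=
      IsZariskiLocalAtTarget.restrict (P := @UniversallyClosed) (inferInstance : UniversallyClosed h) _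
    haveI : CompactSpace (h ⁻¹ᵁ (c.π.app i₀ ⁻¹ᵁ V) : Scheme.{u}) :=
      isCompact_iff_compactSpace.mp (h.isCompact_preimage ((hV.preimage (c.π.app i₀)).isCompact))
    have hι : ∀ a : Over i₀, (hV' ≫ (opensCone D c i₀ V).π.app a) ≫ (D.map a.hom ⁻¹ᵁ V).ι =
        (h ⁻¹ᵁ (c.π.app i₀ ⁻¹ᵁ V)).ι ≫ h ≫ c.π.app a.left := fun a => by
      rw [show (opensCone D c i₀ V).π.app a = (c.π.app a.left).resLE _ _ _ from rfl, Category.assoc,
        Scheme.Hom.resLE_comp_ι, ← Category.assoc, morphismRestrict_ι, Category.assoc]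
    haveI : LocallyOfFiniteType (hV' ≫ (opensCone D c i₀ V).π.app T) := by
      haveI := hlft T.left T.hom
      haveI : LocallyOfFiniteType
          ((hV' ≫ (opensCone D c i₀ V).π.app T) ≫ (D.map T.hom ⁻¹ᵁ V).ι) := by
        rw [hι]; infer_instance
      exact locallyOfFiniteType_of_comp _ (D.map T.hom ⁻¹ᵁ V).ι
    obtain ⟨j, -, hj⟩ := MorLib.Ultra.exists_universallyClosed_comp (isLimitOpensCone D c hc i₀ V)
      (i := T) hV'
    refine ⟨V, j, hp, ?_⟩
    have e : (h ≫ c.π.app j.left) ⁻¹ᵁ (D.map j.hom ⁻¹ᵁ V) = h ⁻¹ᵁ (c.π.app i₀ ⁻¹ᵁ V) := by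
      rw [← Scheme.Hom.comp_preimage, ← Scheme.Hom.comp_preimage, Category.assoc, c.w]
    have e2 : (h ≫ c.π.app j.left) ∣_ (D.map j.hom ⁻¹ᵁ V) =
        (Scheme.isoOfEq _ e).hom ≫ hV' ≫ (opensCone D c i₀ V).π.app j := by
      rw [← cancel_mono (D.map j.hom ⁻¹ᵁ V).ι, morphismRestrict_ι, Category.assoc, hι,
        Scheme.isoOfEq_hom_ι_assoc]
    rw [e2]
    infer_instance
  choose V j hp hj using hloc
  obtain ⟨F, hF⟩ := isCompact_univ.elim_finite_subcover (fun p => ((V p : (D.obj i₀).Opens) : Set (D.obj i₀)))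
    (fun p => (V p).2) fun p _ => Set.mem_iUnion.mpr ⟨p, hp p⟩
  obtain ⟨n, ψ, χ, hχ⟩ := IsCofiltered.wideCospan fun p : F => (j p.1).hom
  have hn : UniversallyClosed (h ≫ c.π.app n) := by
    refine IsZariskiLocalAtTarget.of_iSup_eq_top (P := @UniversallyClosed)
      (fun p : F => D.map (χ p) ⁻¹ᵁ (D.map (j p.1).hom ⁻¹ᵁ V p.1)) ?_ fun p => ?_
    · refine top_le_iff.mp fun x _ => ?_
      obtain ⟨q, hq, hx⟩ := Set.mem_iUnion₂.mp (hF (Set.mem_univ (D.map ψ x)))
      refine TopologicalSpace.Opens.mem_iSup.mpr ⟨⟨q, hq⟩, ?_⟩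
      show (D.map (χ ⟨q, hq⟩) ≫ D.map (j q).hom) x ∈ V q
      rw [← D.map_comp, hχ ⟨q, hq⟩]
      exact hx
    · let W := D.map (j p.1).hom ⁻¹ᵁ V p.1
      have e : (h ≫ c.π.app n) ⁻¹ᵁ (D.map (χ p) ⁻¹ᵁ W) = (h ≫ c.π.app (j p.1).left) ⁻¹ᵁ W := by
        rw [← Scheme.Hom.comp_preimage, Category.assoc, c.w]
      haveI := hj p.1
      haveI : UniversallyClosed
          (((h ≫ c.π.app n) ∣_ (D.map (χ p) ⁻¹ᵁ W)) ≫ (D.map (χ p) ∣_ W)) := by
        have e2 : ((h ≫ c.π.app n) ∣_ (D.map (χ p) ⁻¹ᵁ W)) ≫ (D.map (χ p) ∣_ W) =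
            (Scheme.isoOfEq _ e).hom ≫ (h ≫ c.π.app (j p.1).left) ∣_ W := by
          rw [← cancel_mono W.ι, Category.assoc, morphismRestrict_ι, morphismRestrict_ι_assoc,
            Category.assoc, c.w, Category.assoc, morphismRestrict_ι, Scheme.isoOfEq_hom_ι_assoc]
        rw [e2]
        infer_instance
      haveI : IsSeparated (D.map (χ p) ∣_ W) :=
        IsZariskiLocalAtTarget.restrict (P := @IsSeparated) (inferInstance : IsSeparated (D.map (χ p))) _
      exact UniversallyClosed.of_comp_of_isSeparated _ (D.map (χ p) ∣_ W)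
  haveI := hn
  haveI := hlft n ψ
  haveI hP : IsProper (h ≫ c.π.app n) := ⟨⟩
  refine ⟨n, fun i a => ?_⟩
  haveI : IsProper ((h ≫ c.π.app i) ≫ D.map a) := by rw [Category.assoc, c.w]; exact hP
  exact IsProper.of_comp (h ≫ c.π.app i) (D.map a)

end Groth.Agent.S9202
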