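import Groth.Statements.S9203
import Groth.Agent.AffineNhd.Union
import Groth.Agent.MorLib.Thick.Affine
import Groth.Agent.H23.RedSub
-- import your own Groth.Agent.* helpers here

set_option autoImplicit false
set_option backward.isDefEq.respectTransparency.types false
universe u v
open CategoryTheory AlgebraicGeometry
open Lim

open CategoryTheory.Limits

namespace Groth.Agent.S9203

open AlgebraicGeometry CategoryTheory CategoryTheory.Limits in
/-- A reduced scheme covered by finitely many affine closed subschemes is affine. -/
theorem reduced_case : ∀ (n : ℕ) (W : Scheme.{u}) [IsReduced W] (Z : Fin n → Scheme.{u})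
    (ι : ∀ k, Z k ⟶ W), (∀ k, IsClosedImmersion (ι k)) → (∀ k, IsAffine (Z k)) →
    (∀ x : W, ∃ k, x ∈ Set.range (ι k).base) → IsAffine W := by
  intro n
  induction n with
  | zero =>
    intro W _ Z ι _ _ hcov
    haveI : IsEmpty W := ⟨fun x => (hcov x).choose.elim0⟩
    infer_instance
  | succ n ih =>
    intro W _ Z ι hι hZ hcov
    let T : TopologicalSpace.Closeds W := ⟨⋃ k : Fin n, Set.range (ι k.castSucc),
      isClosed_iUnion_of_finite fun k => (ι k.castSucc).isClosedEmbedding.isClosed_range⟩
    let J := Scheme.IdealSheafData.vanishingIdeal T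
    have hr : Set.range J.subschemeι = (T : Set W) := by
      rw [Scheme.IdealSheafData.range_subschemeι, Scheme.IdealSheafData.coe_support_vanishingIdeal]
    haveI : IsReduced J.subscheme := H23.RedSub.isReduced_vanishingIdeal T
    haveI : IsAffine J.subscheme :=
      ih J.subscheme (fun k => pullback (ι k.castSucc) J.subschemeι) (fun k => pullback.snd _ _)
        (fun k => haveI := hι k.castSucc; MorphismProperty.pullback_snd _ _ inferInstance)
        (fun k => haveI := hZ k.castSucc; isAffine_of_isAffineHom (pullback.fst (ι k.castSucc) J.subschemeι))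
        (fun v => by
          have hv : J.subschemeι v ∈ (T : Set W) := hr ▸ ⟨v, rfl⟩
          obtain ⟨k, z, hz⟩ := Set.mem_iUnion.1 hv
          exact ⟨k, by rw [Scheme.Pullback.range_snd]; exact ⟨z, hz⟩⟩)
    haveI := hι (Fin.last n)
    haveI := hZ (Fin.last n)
    refine AffineNhd.isAffine_of_union J.subschemeι (ι (Fin.last n)) (Set.eq_univ_of_forall fun x => ?_)
    obtain ⟨k, hk⟩ := hcov x
    rcases Fin.eq_castSucc_or_eq_last k with ⟨j, rfl⟩ | rfl
    · exact Or.inl (hr ▸ Set.mem_iUnion.2 ⟨j, hk⟩)
    · exact Or.inr hk

/-- Suppose a scheme X is covered, as a topological space, by finitely many closed subschemes each of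
which is affine: there are closed immersions Z_k → X, indexed by a finite type, with each Z_k affine
and whose images cover X. Then X is affine. -/
theorem result (X : Scheme.{u}) {κ : Type v} [Finite κ]
    (Z : κ → Scheme.{u}) (ι : ∀ k, Z k ⟶ X) [∀ k, IsClosedImmersion (ι k)] [∀ k, IsAffine (Z k)]
    (hcov : ∀ x : X, ∃ k, x ∈ Set.range (ι k).base) : IsAffine X := by
  obtain ⟨n, ⟨e⟩⟩ := Finite.exists_equiv_fin κ
  haveI : IsReduced X.nilradical.subscheme := H23.RedSub.isReduced_nilradical X
  have hs : Function.Surjective X.nilradical.subschemeι := fun x => by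
    show x ∈ Set.range X.nilradical.subschemeι
    rw [Scheme.IdealSheafData.range_subschemeι]
    simp [Scheme.nilradical]
  haveI : IsAffine X.nilradical.subscheme :=
    reduced_case n X.nilradical.subscheme (fun k => pullback (ι (e.symm k)) X.nilradical.subschemeι)
      (fun k => pullback.snd _ _) (fun k => MorphismProperty.pullback_snd _ _ inferInstance)
      (fun k => isAffine_of_isAffineHom (pullback.fst (ι (e.symm k)) X.nilradical.subschemeι))
      (fun v => by
        obtain ⟨k, z, hz⟩ := hcov (X.nilradical.subschemeι v)
        exact ⟨e k, by rw [Scheme.Pullback.range_snd, e.symm_apply_apply]; exact ⟨z, hz⟩⟩)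
  exact MorLib.Thick.isAffine_of_thickening X.nilradical.subschemeι hs

end Groth.Agent.S9203
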