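import Groth.Statements.S9211
import Groth.Agent.MorLib.DenseValuative3

set_option autoImplicit false
universe u
open CategoryTheory CategoryTheory.Limits AlgebraicGeometry
open Lim

set_option linter.style.haveILetI false
set_option backward.isDefEq.respectTransparency false
set_option backward.isDefEq.respectTransparency.types false

namespace Groth.Agent.S9211

/-- Let S be a locally Noetherian scheme and f : X → S a morphism locally of finite type. Then f is
separated if and only if the following uniqueness holds: for every generic point η of an irreducible
component of X, every discrete valuation ring A contained in the residue field κ(η) with fraction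
field κ(η) (a valuation subring of κ(η) which is a discrete valuation ring), and every pair of
morphisms Spec A → X with the same composite to S and both restricting on Spec κ(η) to the canonical
morphism Spec κ(η) → X, the two morphisms coincide. -/
theorem result {X S : Scheme.{u}} [IsLocallyNoetherian S] (f : X ⟶ S)
    [LocallyOfFiniteType f] :
    IsSeparated f ↔ ∀ (η : X), closure {η} ∈ irreducibleComponents (X : Type u) →
      ∀ (A : ValuationSubring (X.residueField η)), IsDiscreteValuationRing A →
        ∀ l₁ l₂ : Spec (CommRingCat.of A) ⟶ X, l₁ ≫ f = l₂ ≫ f →
          Spec.map (CommRingCat.ofHom A.subtype) ≫ l₁ = X.fromSpecResidueField η →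
          Spec.map (CommRingCat.ofHom A.subtype) ≫ l₂ = X.fromSpecResidueField η → l₁ = l₂ := by
  constructor
  · intro hs η _ A _ l₁ l₂ he h₁ h₂
    have hV : ValuativeCriterion.Uniqueness f :=
      (IsSeparated.eq_valuativeCriterion.le _ _ f hs).1
    exact congrArg CommSq.LiftStruct.l
      ((hV ⟨A, X.residueField η, X.fromSpecResidueField η, l₁ ≫ f,
        ⟨by rw [← h₁, Category.assoc]; rfl⟩⟩).elim ⟨l₁, h₁, rfl⟩ ⟨l₂, h₂, he.symm⟩)
  · intro H
    haveI : IsLocallyNoetherian X := LocallyOfFiniteType.isLocallyNoetherian f
    haveI : IsLocallyNoetherian (Limits.pullback f f) :=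
      LocallyOfFiniteType.isLocallyNoetherian (Limits.pullback.fst f f ≫ f)
    let Δ := Limits.pullback.diagonal f
    haveI : QuasiCompact Δ := inferInstance
    have hcl : IsClosed (Set.range Δ) := isClosed_of_closure_subset fun z hz => by
      obtain ⟨x, hx⟩ := Groth.Agent.FDescent.exists_specializes_of_mem_closure_range (f := Δ) hz
      let Z := irreducibleComponent x
      have hZ : Z ∈ irreducibleComponents X := irreducibleComponent_mem_irreducibleComponents x
      have hg : IsGenericPoint hZ.1.genericPoint Z := by
        have := hZ.1.isGenericPoint_genericPoint_closure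
        rwa [isClosed_irreducibleComponent.closure_eq] at this
      let η : X := hZ.1.genericPoint
      have hη : closure {η} ∈ irreducibleComponents (X : Type u) := by
        rw [hg.def]; exact hZ
      have hsp : Δ η ⤳ z :=
        ((hg.specializes mem_irreducibleComponent).map Δ.continuous).trans hx
      by_cases hne : z = Δ η
      · exact ⟨η, hne.symm⟩
      obtain ⟨A, k, hA, hk1, hk2⟩ := Groth.Agent.Proj16.exists_dvr_path (p := Δ) hsp hne
      rw [← hk1]
      refine Groth.Agent.MorLib.DenseValuative.mem_range_diagonal f k (H η hη A hA _ _ ?_ ?_ ?_) _
      · rw [Category.assoc, Limits.pullback.condition, Category.assoc]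
      · rw [reassoc_of% hk2]; simp [Δ]
      · rw [reassoc_of% hk2]; simp [Δ]
    exact ⟨IsClosedImmersion.of_isPreimmersion _ hcl⟩

end Groth.Agent.S9211
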