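import Groth.Statements.S9212
import Groth.Agent.MorLib.DenseValuative3
import Groth.Agent.S9211

set_option autoImplicit false
universe u
open CategoryTheory CategoryTheory.Limits AlgebraicGeometry
open Lim

set_option linter.style.haveILetI false
set_option backward.isDefEq.respectTransparency false
set_option backward.isDefEq.respectTransparency.types false

namespace Groth.Agent.S9212

open Groth.Agent.MorLib.DenseValuative in
theorem uniqueLifts_of_isSeparated {U X S : Scheme.{u}} (f : X ⟶ S) [IsSeparated f] (h : U ⟶ X) :
    UniqueLifts f h := by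
  intro u V l₁ l₂ he h₁ h₂
  have hV : ValuativeCriterion.Uniqueness f :=
    (IsSeparated.eq_valuativeCriterion.le _ _ f ‹_›).1
  exact congrArg CommSq.LiftStruct.l
    ((hV ⟨V, U.residueField u, U.fromSpecResidueField u ≫ h, l₁ ≫ f,
      ⟨by rw [← h₁, Category.assoc]; rfl⟩⟩).elim ⟨l₁, h₁, rfl⟩ ⟨l₂, h₂, he.symm⟩)

/-- Let S be a locally Noetherian scheme and f : X → S a morphism of finite type. Then f is proper if
and only if: for every generic point η of an irreducible component of X, every discrete valuation
ring A contained in the residue field κ(η) with fraction field κ(η) (a valuation subring of κ(η)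
which is a discrete valuation ring), and every morphism Spec A → S whose restriction to Spec κ(η) is
the canonical morphism Spec κ(η) → X followed by f, there is exactly one morphism Spec A → X over S
restricting to the canonical morphism on Spec κ(η). -/
theorem result {X S : Scheme.{u}} [IsLocallyNoetherian S] (f : X ⟶ S)
    [LocallyOfFiniteType f] [QuasiCompact f] :
    IsProper f ↔ ∀ (η : X), closure {η} ∈ irreducibleComponents (X : Type u) →
      ∀ (A : ValuationSubring (X.residueField η)), IsDiscreteValuationRing A →
        ∀ y : Spec (CommRingCat.of A) ⟶ S,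
          Spec.map (CommRingCat.ofHom A.subtype) ≫ y = X.fromSpecResidueField η ≫ f →
          ∃! l : Spec (CommRingCat.of A) ⟶ X,
            l ≫ f = y ∧ Spec.map (CommRingCat.ofHom A.subtype) ≫ l = X.fromSpecResidueField η := by
  constructor
  · intro hP η _ A _ y hy
    haveI := hP
    have hU : ValuativeCriterion.Uniqueness f :=
      (IsSeparated.eq_valuativeCriterion.le _ _ f inferInstance).1
    have hE : ValuativeCriterion.Existence f :=
      (UniversallyClosed.eq_valuativeCriterion.le _ _ f inferInstance).1
    let sq : ValuativeCommSq f := ⟨A, X.residueField η, X.fromSpecResidueField η, y, ⟨hy.symm⟩⟩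
    obtain ⟨l, hl₁, hl₂⟩ := (hE sq).exists_lift
    exact ⟨l, ⟨hl₂, hl₁⟩, fun l' hl' => congrArg CommSq.LiftStruct.l
      ((hU sq).elim ⟨l', hl'.2, hl'.1⟩ ⟨l, hl₁, hl₂⟩)⟩
  · intro H
    haveI : IsSeparated f := (Groth.Agent.S9211.result f).mpr fun η hη A hA l₁ l₂ he h₁ h₂ =>
      (H η hη A hA (l₁ ≫ f) (by rw [reassoc_of% h₁])).unique ⟨rfl, h₁⟩ ⟨he.symm, h₂⟩
    haveI : IsLocallyNoetherian X := LocallyOfFiniteType.isLocallyNoetherian f
    let G : Set X := {η | closure {η} ∈ irreducibleComponents (X : Type u)}
    have hfin : ∀ W : X.Opens, IsCompact (W : Set X) → (G ∩ W).Finite := fun W hW => by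
      haveI : CompactSpace (W : Scheme.{u}) := isCompact_iff_compactSpace.mp hW
      haveI : IsLocallyNoetherian (W : Scheme.{u}) := LocallyOfFiniteType.isLocallyNoetherian W.ι
      haveI : IsNoetherian (W : Scheme.{u}) := {}
      haveI : Finite {Z : Set (W : Scheme.{u}) // Z ∈ irreducibleComponents (W : Scheme.{u})} :=
        TopologicalSpace.NoetherianSpace.finite_irreducibleComponents.to_subtype
      refine (Set.finite_range fun Z : {Z : Set (W : Scheme.{u}) // Z ∈ irreducibleComponents (W : Scheme.{u})} =>
        W.ι Z.2.1.genericPoint).subset ?_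
      rintro η ⟨hη, hηW⟩
      let w : (W : Scheme.{u}) := ⟨η, hηW⟩
      refine ⟨⟨_, irreducibleComponent_mem_irreducibleComponents w⟩, ?_⟩
      have hg := (irreducibleComponent_mem_irreducibleComponents w).1.isGenericPoint_genericPoint_closure
      rw [isClosed_irreducibleComponent.closure_eq] at hg
      have h1 := (hg.specializes mem_irreducibleComponent).map W.ι.continuous
      have h2 := hη.2 isIrreducible_singleton.closure
        ((specializes_iff_closure_subset).mp h1)
      exact (h1.antisymm (specializes_iff_closure_subset.mpr h2)).eq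
    let h := Groth.Agent.MorLib.DenseValuative.ptsMap G
    haveI : QuasiCompact h := Groth.Agent.MorLib.DenseValuative.quasiCompact_ptsMap G hfin
    have hd : DenseRange h := fun x => by
      rw [Groth.Agent.MorLib.DenseValuative.range_ptsMap]
      have hZ := irreducibleComponent_mem_irreducibleComponents x
      have hg := hZ.1.isGenericPoint_genericPoint_closure
      rw [isClosed_irreducibleComponent.closure_eq] at hg
      refine (hg.specializes mem_irreducibleComponent).mem_closed isClosed_closure (subset_closure ?_)
      show closure {hZ.1.genericPoint} ∈ irreducibleComponents (X : Type u)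
      rw [hg.def]; exact hZ
    have hU : Groth.Agent.MorLib.DenseValuative.UniqueLifts f h := uniqueLifts_of_isSeparated f h
    have hE : Groth.Agent.MorLib.DenseValuative.HasLifts f h := by
      intro u V y hy
      have hηG : h u ∈ G := (Groth.Agent.MorLib.DenseValuative.range_ptsMap G).le ⟨u, rfl⟩
      let θ := h.residueFieldMap u
      have hθ : Function.Bijective θ.hom :=
        Groth.Agent.MorLib.DenseValuative.residueFieldMap_ptsMap_bijective G u
      let V' : ValuationSubring (X.residueField (h u)) := V.comap θ.hom
      let e : V' →+* V :=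
        (θ.hom.comp V'.toSubring.subtype).codRestrict V.toSubring fun a => a.2
      have he : Function.Bijective e := ⟨fun a b hab => Subtype.ext (hθ.1 (congrArg Subtype.val hab)),
        fun b => by
          obtain ⟨a, ha⟩ := hθ.2 b.1
          exact ⟨⟨a, show θ.hom a ∈ V by rw [ha]; exact b.2⟩, Subtype.ext ha⟩⟩
      let E := (RingEquiv.ofBijective e he)
      have hgen : Spec.map (CommRingCat.ofHom V.subtype) ≫ Spec.map (CommRingCat.ofHom e) =
          Spec.map θ ≫ Spec.map (CommRingCat.ofHom V'.subtype) := by
        rw [← Spec.map_comp, ← Spec.map_comp]; rfl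
      have hinv : Spec.map (CommRingCat.ofHom e) ≫ Spec.map (CommRingCat.ofHom E.symm.toRingHom) = 𝟙 _ := by
        rw [← Spec.map_comp, ← Spec.map_id]
        exact congrArg Spec.map (CommRingCat.hom_ext (RingHom.ext fun b => E.apply_symm_apply b))
      haveI : IsIso (Spec.map θ) := by
        haveI : IsIso θ := (ConcreteCategory.isIso_iff_bijective _).2 hθ
        infer_instance
      have hy' : Spec.map (CommRingCat.ofHom V'.subtype) ≫ Spec.map (CommRingCat.ofHom E.symm.toRingHom) ≫ y =
          X.fromSpecResidueField (h u) ≫ 𝟙 X ≫ f := by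
        rw [← cancel_epi (Spec.map θ), ← reassoc_of% hgen, reassoc_of% hinv, hy, Category.id_comp,
          ← Category.assoc, ← Category.assoc, Scheme.Hom.SpecMap_residueFieldMap_fromSpecResidueField]
      obtain ⟨l, hl₁, hl₂⟩ := Groth.Agent.MorLib.DenseValuative.lift_of_dvr f (𝟙 X) (h u)
        (fun W z hW hz => by
          obtain ⟨l, hl, -⟩ := H (h u) hηG W hW z (by simpa using hz)
          exact ⟨l, hl.1, by simpa using hl.2⟩) V' _ hy'
      refine ⟨Spec.map (CommRingCat.ofHom e) ≫ l, ?_, ?_⟩
      · rw [Category.assoc, hl₁, reassoc_of% hinv]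
      · rw [reassoc_of% hgen, hl₂, Category.comp_id,
          Scheme.Hom.SpecMap_residueFieldMap_fromSpecResidueField]
    haveI : UniversallyClosed f := UniversallyClosed.of_valuativeCriterion f
      (Groth.Agent.MorLib.DenseValuative.existence_of_dense f h hd hE hU)
    exact {}

end Groth.Agent.S9212
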