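import Groth.Statements.S9214
import Groth.Agent.Approx.Factor

set_option autoImplicit false
set_option backward.isDefEq.respectTransparency false
set_option backward.isDefEq.respectTransparency.types false
universe u
open CategoryTheory CategoryTheory.Limits AlgebraicGeometry
open Lim

namespace Groth.Agent.S9214

/-- Let S = lim S_i be a cofiltered limit of Noetherian schemes with affine transition morphisms, and
suppose X → S is of finite type and quasi-separated. One can then find an index i, a finite type
morphism W → S_i and a morphism X → W over S_i (compatible with X → S → S_i) for which the resulting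
map X → S ×_{S_i} W into the fibre product is a closed immersion. -/
theorem result {I : Type u} [SmallCategory I] [IsCofiltered I]
    (D : I ⥤ Scheme.{u}) (c : Limits.Cone D) (hc : Limits.IsLimit c)
    [∀ (i j : I) (f : i ⟶ j), IsAffineHom (D.map f)] [∀ i, IsNoetherian (D.obj i)]
    {X : Scheme.{u}} (a : X ⟶ c.pt) [QuasiSeparated a] [QuasiCompact a] [LocallyOfFiniteType a] :
    ∃ (i : I) (W : Scheme.{u}) (w : W ⟶ D.obj i) (b : X ⟶ W) (hb : a ≫ c.π.app i = b ≫ w),
      LocallyOfFiniteType w ∧ QuasiCompact w ∧ IsClosedImmersion (pullback.lift a b hb) := by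
  open Groth.Agent.Approx in
  haveI : CompactSpace c.pt := Scheme.compactSpace_of_isLimit _ c hc
  obtain ⟨i0⟩ := IsCofiltered.nonempty (C := I)
  haveI : IsAffineHom (c.π.app i0) := isAffineHom_π_app D c hc i0
  haveI : QuasiSeparatedSpace c.pt := quasiSeparatedSpace_of_quasiSeparated (c.π.app i0)
  haveI : CompactSpace X := QuasiCompact.compactSpace_of_compactSpace a
  haveI : QuasiSeparatedSpace X := quasiSeparatedSpace_of_quasiSeparated a
  obtain ⟨σ⟩ := nonempty_setup a
  obtain ⟨p, hp⟩ := σ.eventually_closedImmersion
  haveI := hp p le_rfl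
  obtain ⟨i, φ, hφ⟩ := exists_factor_ftz hc (σ.ftz_tgt p) (proj σ.gS p.1.1)
  let b : X ⟶ pullback (σ.hom p) φ := pullback.lift (proj σ.gX p.1.2) (a ≫ c.π.app i)
    (by rw [Category.assoc, hφ]; exact σ.proj_hom p)
  have hb : a ≫ c.π.app i = b ≫ pullback.snd (σ.hom p) φ := (pullback.lift_snd _ _ _).symm
  refine ⟨i, pullback (σ.hom p) φ, pullback.snd (σ.hom p) φ, b, hb, inferInstance, inferInstance, ?_⟩
  let m : pullback (c.π.app i) (pullback.snd (σ.hom p) φ) ⟶ σ.Y p :=
    pullback.lift (pullback.snd _ _ ≫ pullback.fst (σ.hom p) φ) (pullback.fst _ _) (by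
      rw [Category.assoc, pullback.condition, ← hφ, ← Category.assoc, ← Category.assoc, ← pullback.condition])
  have hm : pullback.lift a b hb ≫ m = σ.yProj p := by
    apply pullback.hom_ext <;>
      simp [m, b, Groth.Agent.Approx.Setup.yProj_fst, Groth.Agent.Approx.Setup.yProj_snd]
  haveI : Mono m := ⟨fun g g' h => by
    have h1 : g ≫ pullback.fst _ _ = g' ≫ pullback.fst _ _ := by
      simpa [m] using congrArg (· ≫ pullback.snd (σ.hom p) (proj σ.gS p.1.1)) h
    have h2 : g ≫ pullback.snd _ _ ≫ pullback.fst _ _ = g' ≫ pullback.snd _ _ ≫ pullback.fst _ _ := by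
      simpa [m] using congrArg (· ≫ pullback.fst (σ.hom p) (proj σ.gS p.1.1)) h
    apply pullback.hom_ext h1
    apply pullback.hom_ext
    · rw [Category.assoc, Category.assoc]
      exact h2
    · rw [Category.assoc, Category.assoc, ← pullback.condition, ← Category.assoc, h1, Category.assoc]⟩
  haveI : IsClosedImmersion (pullback.lift a b hb ≫ m) := by rw [hm]; infer_instance
  exact IsClosedImmersion.of_comp (pullback.lift a b hb) m

end Groth.Agent.S9214
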