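import Groth.Statements.S9216
import Groth.Agent.MorLib.IdealFG2
import Groth.Agent.FibDim.Semicont
import Groth.Agent.H23.TopDim

set_option autoImplicit false
universe u
open CategoryTheory CategoryTheory.Limits AlgebraicGeometry
open Lim

namespace Groth.Agent.S9216

theorem dim_fiber_comp {X S Z : Scheme.{u}} (f : X ⟶ S) (ι : Z ⟶ X) [IsClosedImmersion ι] (s : S) :
    topologicalKrullDim ↥((ι ≫ f).fiber s) = topologicalKrullDim ↥(Set.range ι ∩ f ⁻¹' {s}) := by
  have he : Topology.IsEmbedding (ι ∘ (ι ≫ f).fiberι s) :=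
    ι.isClosedEmbedding.isEmbedding.comp ((ι ≫ f).fiberι s).isEmbedding
  have hr : Set.range (ι ∘ (ι ≫ f).fiberι s) = Set.range ι ∩ f ⁻¹' {s} := by
    rw [Set.range_comp, Scheme.Hom.range_fiberι]
    ext x
    constructor
    · rintro ⟨z, hz, rfl⟩; exact ⟨⟨z, rfl⟩, hz⟩
    · rintro ⟨⟨z, rfl⟩, hz⟩; exact ⟨z, hz, rfl⟩
  exact IsHomeomorph.topologicalKrullDim_eq _
    (he.toHomeomorph.trans (Homeomorph.setCongr hr)).isHomeomorph

open Groth.Agent.MorLib.IdealFG TopologicalSpace in
theorem mem_support_of_forall_sub {X : Scheme.{u}} [CompactSpace X] [QuasiSeparatedSpace X]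
    (I : X.IdealSheafData) {x : X} (h : ∀ K : Sub I, x ∈ K.1.support) : x ∈ I.support := by
  show x ∈ I.supportSet
  rw [Scheme.IdealSheafData.mem_supportSet_iff]
  intro U
  rw [Scheme.mem_zeroLocus_iff]
  intro r hr
  obtain ⟨K, hK⟩ := exists_sub_mem I U hr
  exact (Scheme.mem_zeroLocus_iff _ _ _).mp
    (Scheme.IdealSheafData.mem_supportSet_iff.mp (h K) U) r hK


/-- Let S be a quasi-compact quasi-separated scheme, f : X → S a morphism of finite presentation and d a
natural number. Let Z be a closed subscheme of X such that every fibre of Z → S has dimension at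
most d. Then there is a closed subscheme Z' of X containing Z such that Z' → X is of finite
presentation and every fibre of Z' → S has dimension at most d. -/
theorem result {X S Z : Scheme.{u}} [CompactSpace S]
    [QuasiSeparatedSpace S] (f : X ⟶ S) [LocallyOfFinitePresentation f] [QuasiCompact f] [QuasiSeparated f]
    (d : ℕ) (ι : Z ⟶ X) [IsClosedImmersion ι] (hZ : ∀ s : S, topologicalKrullDim ↥((ι ≫ f).fiber s) ≤ d) :
    ∃ (Z' : Scheme.{u}) (ι' : Z' ⟶ X) (k : Z ⟶ Z'), IsClosedImmersion ι' ∧ LocallyOfFinitePresentation ι' ∧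
      k ≫ ι' = ι ∧ ∀ s : S, topologicalKrullDim ↥((ι' ≫ f).fiber s) ≤ d := by
  open Groth.Agent.MorLib.IdealFG TopologicalSpace in
  classical
  haveI : CompactSpace X := QuasiCompact.compactSpace_of_compactSpace f
  haveI : QuasiSeparatedSpace X := quasiSeparatedSpace_of_quasiSeparated f
  have hsupp : (ι.ker.support : Set X) = Set.range ι := by
    rw [Scheme.Hom.support_ker]
    exact ι.isClosedEmbedding.isClosed_range.closure_eq
  have loc : ∀ x : X, ∃ (W : Set X) (K : Sub ι.ker), IsOpen W ∧ x ∈ W ∧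
      ∀ s : S, topologicalKrullDim ↥(W ∩ (K.1.support : Set X) ∩ f ⁻¹' {s}) ≤ d := by
    intro x
    by_cases hx : x ∈ ι.ker.support
    · haveI : CompactSpace ↥(f.fiber (f x)) :=
        QuasiCompact.compactSpace_of_compactSpace (f.fiberToSpecResidueField (f x))
      haveI : IsLocallyNoetherian (f.fiber (f x)) :=
        LocallyOfFiniteType.isLocallyNoetherian (f.fiberToSpecResidueField (f x))
      haveI : NoetherianSpace ↥(f ⁻¹' {f x}) := by
        haveI : AlgebraicGeometry.IsNoetherian (f.fiber (f x)) := ⟨⟩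
        exact (noetherianSpace_iff_of_homeomorph (f.fiberHomeo (f x))).mp inferInstance
      let C : Sub ι.ker → Closeds ↥(f ⁻¹' {f x}) := fun K =>
        ⟨Subtype.val ⁻¹' (K.1.support : Set X), K.1.support.isClosed.preimage continuous_subtype_val⟩
      obtain ⟨_, ⟨K₀, rfl⟩, hmin⟩ :=
        (wellFounded_lt : WellFounded ((· < ·) : Closeds ↥(f ⁻¹' {f x}) → _ → Prop)).has_min
          (Set.range C) (Set.range_nonempty C)
      have hK₀ : (K₀.1.support : Set X) ∩ f ⁻¹' {f x} ⊆ Set.range ι ∩ f ⁻¹' {f x} := by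
        rintro z ⟨hz, hzs⟩
        refine ⟨?_, hzs⟩
        rw [← hsupp]
        refine mem_support_of_forall_sub _ fun K => ?_
        obtain ⟨L, h1, h2⟩ := exists_ge_ge K₀ K
        have hle : C L ≤ C K₀ := fun w hw => Scheme.IdealSheafData.support_antitone h1 hw
        have hz' : (⟨z, hzs⟩ : ↥(f ⁻¹' {f x})) ∈ C L := by
          rw [(eq_of_le_of_not_lt hle (hmin _ ⟨L, rfl⟩))]
          exact hz
        exact Scheme.IdealSheafData.support_antitone h2 hz'
      have hd : topologicalKrullDim ↥(Set.univ ∩ (K₀.1.support : Set X) ∩ f ⁻¹' {f x}) ≤ d := by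
        rw [Set.univ_inter]
        refine le_trans ?_ ((dim_fiber_comp f ι (f x)).symm.le.trans (hZ (f x)))
        exact (Topology.IsEmbedding.inclusion hK₀).isInducing.topologicalKrullDim_le
      obtain ⟨W, hW, hxW, -, hWd⟩ := Groth.Agent.FibDim.exists_open_dim_le f isOpen_univ
        K₀.1.support.isClosed (Set.mem_univ x)
        (Scheme.IdealSheafData.support_antitone K₀.2.1 hx) d hd
      exact ⟨W, K₀, hW, hxW, hWd⟩
    · obtain ⟨K, hK⟩ : ∃ K : Sub ι.ker, x ∉ K.1.support := by
        by_contra h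
        push_neg at h
        exact hx (mem_support_of_forall_sub _ h)
      refine ⟨(K.1.support : Set X)ᶜ, K, K.1.support.isClosed.isOpen_compl, hK, fun s => ?_⟩
      have : IsEmpty ↥((K.1.support : Set X)ᶜ ∩ (K.1.support : Set X) ∩ f ⁻¹' {s}) :=
        ⟨fun z => z.2.1.1 z.2.1.2⟩
      haveI : IsEmpty (IrreducibleCloseds ↥((K.1.support : Set X)ᶜ ∩ (K.1.support : Set X) ∩ f ⁻¹' {s})) :=
        ⟨fun c => this.false c.isIrreducible.nonempty.some⟩
      rw [topologicalKrullDim, Order.krullDim_eq_bot]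
      exact bot_le
  choose W K hW hxW hWd using loc
  obtain ⟨t, ht⟩ := isCompact_univ.elim_finite_subcover W hW
    (fun x _ => Set.mem_iUnion.mpr ⟨x, hxW x⟩)
  obtain ⟨L, hL⟩ := Finset.exists_le (t.image K)
  refine ⟨L.1.subscheme, L.1.subschemeι, ι.toImage ≫ Scheme.IdealSheafData.inclusion L.2.1,
    inferInstance, lfp_subschemeι L.2.2, ?_, fun s => ?_⟩
  · rw [Category.assoc, Scheme.IdealSheafData.inclusion_subschemeι]
    exact ι.toImage_imageι
  rw [dim_fiber_comp, Scheme.IdealSheafData.range_subschemeι]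
  let A : Set X := (L.1.support : Set X) ∩ f ⁻¹' {s}
  let O : t → Opens ↥A := fun x => ⟨Subtype.val ⁻¹' W x.1, (hW x.1).preimage continuous_subtype_val⟩
  rw [Groth.Agent.H23.TopDim.dim_eq_iSup_of_open_cover (U := O) (top_le_iff.mp fun z _ => by
    obtain ⟨x, hx, hz⟩ := Set.mem_iUnion₂.mp (ht (Set.mem_univ z.1))
    exact Opens.mem_iSup.mpr ⟨⟨x, hx⟩, hz⟩)]
  refine iSup_le fun x => le_trans ?_ (hWd x.1 s)
  let ψ : ↥(O x : Set ↥A) → ↥(W x.1 ∩ ((K x.1).1.support : Set X) ∩ f ⁻¹' {s}) := fun z =>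
    ⟨z.1.1, ⟨z.2, Scheme.IdealSheafData.support_antitone
      (hL _ (Finset.mem_image_of_mem K x.2)) z.1.2.1⟩, z.1.2.2⟩
  have hψ : Topology.IsInducing ψ :=
    (Topology.IsInducing.of_comp_iff Topology.IsInducing.subtypeVal).mp
      ((Topology.IsInducing.subtypeVal (t := fun z => z ∈ A)).comp
        (Topology.IsInducing.subtypeVal (t := fun z => z ∈ (O x : Set ↥A))))
  exact hψ.topologicalKrullDim_le

end Groth.Agent.S9216
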