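import Groth.Statements.S9217
import Groth.Agent.Approx.NearClosed

set_option autoImplicit false
universe u
open CategoryTheory AlgebraicGeometry
open Lim

namespace Groth.Agent.S9217

/-- Let S be a scheme, X and Y schemes over S with Y locally of finite presentation over S, and x a
closed point of X such that the inclusion of U = X - {x} in X is quasi-compact; let V be the
complement of the closed point in Spec O_{X,x}, i.e. the preimage of U under the canonical morphism
Spec O_{X,x} → X. Then restriction is a bijection from the S-morphisms X → Y to the pairs (a, b) of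
S-morphisms a : U → Y, b : Spec O_{X,x} → Y which agree on V: two morphisms X → Y with the same
restrictions to U and to Spec O_{X,x} are equal, and every such compatible pair of S-morphisms is
the pair of restrictions of an S-morphism X → Y. -/
theorem result {X Y S : Scheme.{u}} (p : X ⟶ S) (q : Y ⟶ S) [LocallyOfFinitePresentation q]
    (x : X) (U : X.Opens) (hU : (U : Set X) = {x}ᶜ) [QuasiCompact U.ι] :
    (∀ g₁ g₂ : X ⟶ Y, U.ι ≫ g₁ = U.ι ≫ g₂ → X.fromSpecStalk x ≫ g₁ = X.fromSpecStalk x ≫ g₂ → g₁ = g₂) ∧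
    (∀ (a : (U : Scheme.{u}) ⟶ Y) (b : Spec (X.presheaf.stalk x) ⟶ Y), a ≫ q = U.ι ≫ p →
      b ≫ q = X.fromSpecStalk x ≫ p → ((X.fromSpecStalk x) ⁻¹ᵁ U).ι ≫ b = ((X.fromSpecStalk x) ∣_ U) ≫ a →
        ∃ g : X ⟶ Y, g ≫ q = p ∧ U.ι ≫ g = a ∧ X.fromSpecStalk x ≫ g = b) := by
  refine ⟨fun g₁ g₂ h₁ h₂ => Approx.NearClosed.hom_ext_fromSpecStalk g₁ g₂ fun z => ?_,
    fun a b ha hb hab => Approx.NearClosed.exists_glue_near p q x U hU a b ha hb hab⟩
  by_cases hz : z = x
  · subst hz
    exact h₂
  · have hzU : z ∈ U := show z ∈ (U : Set X) by rw [hU]; exact hz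
    rw [← Scheme.Opens.fromSpecStalkOfMem_ι U z hzU, Category.assoc, Category.assoc, h₁]

end Groth.Agent.S9217
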