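import Groth.Statements.S9219
import Groth.Agent.MorLib.BaseChangeLim

set_option autoImplicit false
universe u
open CategoryTheory CategoryTheory.Limits AlgebraicGeometry
open Lim

namespace Groth.Agent.S9219

/-- Let S = lim S_i be a cofiltered limit of schemes with affine transition morphisms (the S_i are not
assumed quasi-compact or quasi-separated), i an index, and X_i → S_i, Y_i → S_i morphisms locally of
finite presentation with X_i, Y_i quasi-compact and quasi-separated; let X be the base change of X_i
to S (a pullback square). If two S_i-morphisms f_i, g_i : X_i → Y_i have the same base change to S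
(equivalently, the same composite with X → X_i), then for some index j over i their base changes to
S_j agree, i.e. they have the same composite with X_i ×_{S_i} S_j → X_i. This is the faithfulness
part of the equivalence between the colimit of the categories of quasi-compact quasi-separated
schemes locally of finite presentation over the S_i and the corresponding category over S. -/
theorem result {I : Type u} [SmallCategory I] [IsCofiltered I]
    (D : I ⥤ Scheme.{u}) (c : Limits.Cone D) (hc : Limits.IsLimit c)
    [∀ (i j : I) (f : i ⟶ j), IsAffineHom (D.map f)] (i : I)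
    {Xi Yi : Scheme.{u}} (xi : Xi ⟶ D.obj i) (yi : Yi ⟶ D.obj i)
    [CompactSpace Xi] [QuasiSeparatedSpace Xi] [LocallyOfFinitePresentation xi]
    [CompactSpace Yi] [QuasiSeparatedSpace Yi] [LocallyOfFinitePresentation yi]
    {X : Scheme.{u}} (qX : X ⟶ Xi) (pX : X ⟶ c.pt) (hX : IsPullback qX pX xi (c.π.app i))
    (fi gi : Xi ⟶ Yi) (hfi : fi ≫ yi = xi) (hgi : gi ≫ yi = xi) (h : qX ≫ fi = qX ≫ gi) :
    ∃ (j : I) (φ : j ⟶ i), pullback.fst xi (D.map φ) ≫ fi = pullback.fst xi (D.map φ) ≫ gi := by
  open Groth.Agent.MorLib in
  exact (by
    haveI : ∀ {i j : I} (f : i ⟶ j), IsAffineHom (D.map f) := fun {i j} f => inferInstance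
    let T : Over i := Over.mk (𝟙 i)
    let t : BC.diag D xi ⟶ (Functor.const (Over i)).obj (D.obj i) :=
      BC.toStart D xi ≫ (Functor.const (Over i)).map xi
    obtain ⟨k, hk, he⟩ := Scheme.exists_hom_comp_eq_comp_of_locallyOfFiniteType (BC.diag D xi) t yi
      (BC.cone D xi hX) (BC.isLimitCone D xi hX hc) (i := T)
      ((BC.toStart D xi).app T ≫ fi) ((BC.toStart D xi).app T ≫ gi)
      (by simp only [t, NatTrans.comp_app, Functor.const_map_app, Category.assoc, hfi])
      (by simp only [t, NatTrans.comp_app, Functor.const_map_app, Category.assoc, hgi])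
      (by
        have e : (BC.cone D xi hX).π.app T ≫ (BC.toStart D xi).app T = qX := BC.proj_fst D xi hX T
        exact ((Category.assoc _ _ _).symm.trans (congrArg (· ≫ fi) e)).trans
          (h.trans ((Category.assoc _ _ _).symm.trans (congrArg (· ≫ gi) e)).symm))
    have e : (BC.diag D xi).map hk ≫ (BC.toStart D xi).app T = pullback.fst xi (D.map k.hom) :=
      BC.map_fst D xi hk
    exact ⟨k.left, k.hom, ((congrArg (· ≫ fi) e).symm.trans (Category.assoc _ _ _)).trans
      (he.trans ((congrArg (· ≫ gi) e).symm.trans (Category.assoc _ _ _)).symm)⟩)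

end Groth.Agent.S9219
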