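import Groth.Statements.S9221
import Groth.Agent.MorLib.ProperFT
import Groth.Agent.ConsPropLib.PointwiseProps
import Groth.Agent.QCoh.ProperOver

set_option autoImplicit false
universe u
open CategoryTheory AlgebraicGeometry
open Lim

set_option linter.style.haveILetI false

namespace Groth.Agent.S9221

/-- Let S = lim S_i be a cofiltered limit of schemes with affine transition morphisms, S_{i₀} a
quasi-compact quasi-separated stage, f₀ : X₀ → Y₀ a morphism of quasi-compact quasi-separated
schemes over S_{i₀}, and f : X → Y its base change along S → S_{i₀} (base changes expressed by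
pullback squares). Let F₀ be a quasi-coherent O_{X₀}-module of finite type, with pullbacks F to X
and F_i to X_i, and assume f₀ is locally of finite type. If the support of F (a closed subset of X,
taken with its reduced structure; equivalently the scheme-theoretic support of F) is proper over Y,
then for some index i over i₀, with f_i : X_i → Y_i the base change of f₀ along S_i → S_{i₀}, the
support of F_i is proper over Y_i. -/
theorem result {I : Type u} [SmallCategory I] [IsCofiltered I]
    (D : I ⥤ Scheme.{u}) (c : Limits.Cone D) (hc : Limits.IsLimit c)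
    [∀ (i j : I) (f : i ⟶ j), IsAffineHom (D.map f)] (i₀ : I) [CompactSpace (D.obj i₀)]
    [QuasiSeparatedSpace (D.obj i₀)] {X₀ Y₀ : Scheme.{u}} (f₀ : X₀ ⟶ Y₀) (g₀ : Y₀ ⟶ D.obj i₀)
    [CompactSpace X₀] [QuasiSeparatedSpace X₀] [CompactSpace Y₀] [QuasiSeparatedSpace Y₀]
    [LocallyOfFiniteType f₀] (F₀ : X₀.Modules) [Coh.IsQCoh F₀] (hF₀ : CohB1.IsFT F₀)
    {X Y : Scheme.{u}} (f : X ⟶ Y) (g : Y ⟶ c.pt) (qY : Y ⟶ Y₀) (qX : X ⟶ X₀)
    (hY : IsPullback qY g g₀ (c.π.app i₀)) (hX : IsPullback qX f f₀ qY) (hF : ClSub.IsProperOver f (CohB1.support ((Scheme.Modules.pullback qX).obj F₀))) :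
    ∃ (i : I) (φ : i ⟶ i₀) (Xi Yi : Scheme.{u}) (fi : Xi ⟶ Yi) (gi : Yi ⟶ D.obj i) (pY : Yi ⟶ Y₀)
      (pX : Xi ⟶ X₀), IsPullback pY gi g₀ (D.map φ) ∧ IsPullback pX fi f₀ pY ∧ ClSub.IsProperOver fi (CohB1.support ((Scheme.Modules.pullback pX).obj F₀)) := by
  haveI : ∀ {i j : I} (f : i ⟶ j), IsAffineHom (D.map f) := fun {i j} f => inferInstance
  have hC : IsClosed (CohB1.support F₀) := QCoh.isClosed_support_of_isFT inferInstance hF₀
  let ι := (Scheme.IdealSheafData.vanishingIdeal ⟨CohB1.support F₀, hC⟩).subschemeι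
  haveI : IsClosedImmersion ι := inferInstance
  haveI : CompactSpace (Scheme.IdealSheafData.vanishingIdeal ⟨CohB1.support F₀, hC⟩).subscheme :=
    QuasiCompact.compactSpace_of_compactSpace ι
  haveI : QuasiSeparatedSpace (Scheme.IdealSheafData.vanishingIdeal ⟨CohB1.support F₀, hC⟩).subscheme :=
    quasiSeparatedSpace_of_quasiSeparated ι
  haveI : QuasiCompact (ι ≫ f₀) := quasiCompact_of_compactSpace _
  haveI : QuasiSeparated (ι ≫ f₀) := QuasiSeparated.of_quasiSeparatedSpace _
  haveI : MorphismProperty.RespectsIso (@LocallyOfFiniteType : MorphismProperty Scheme.{u}) :=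
    MorphismProperty.IsStableUnderBaseChange.respectsIso
  haveI : LocallyOfFiniteType f := MorphismProperty.of_isPullback hX inferInstance
  have sι := IsPullback.of_hasPullback ι qX
  haveI : IsClosedImmersion (Limits.pullback.snd ι qX) := inferInstance
  have hr : Set.range ι = CohB1.support F₀ := QCoh.range_vanishing hC
  have hsupp : CohB1.support ((Scheme.Modules.pullback qX).obj F₀) = qX.base ⁻¹' CohB1.support F₀ :=
    QCoh.support_pullback qX inferInstance hF₀
  have hlim : IsProper (Limits.pullback.snd ι qX ≫ f) :=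
    QCoh.isProper_comp_of_isProperOver _ hF (by
      rw [hsupp, ConsPropLib.range_f' sι, hr])
  obtain ⟨j, φ, Wj, Yj, hj, gj, pY, pW, hYj, hWj, hp⟩ :=
    MorLib.Desc.descend₂ D c hc (P := @IsProper) (Q := @LocallyOfFiniteType) MorLib.Ultra.core_isProper
      (ι ≫ f₀) g₀ inferInstance _ g qY _ hY (sι.paste_vert hX) hlim
  refine ⟨j, φ, Limits.pullback f₀ pY, Yj, Limits.pullback.snd f₀ pY, gj, pY, Limits.pullback.fst f₀ pY, hYj,
    IsPullback.of_hasPullback _ _, ?_⟩
  have sj := IsPullback.of_hasPullback ι (Limits.pullback.fst f₀ pY)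
  haveI : IsClosedImmersion (Limits.pullback.snd ι (Limits.pullback.fst f₀ pY)) := inferInstance
  haveI : IsProper (Limits.pullback.snd ι (Limits.pullback.fst f₀ pY) ≫ Limits.pullback.snd f₀ pY) :=
    MorLib.Desc.of_two @IsProper hWj (sj.paste_vert (IsPullback.of_hasPullback _ _)) hp
  have hs : CohB1.support ((Scheme.Modules.pullback (Limits.pullback.fst f₀ pY)).obj F₀) =
      Set.range (Limits.pullback.snd ι (Limits.pullback.fst f₀ pY)) := by
    rw [QCoh.support_pullback _ inferInstance hF₀, ConsPropLib.range_f' sj, hr]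
  rw [hs]
  exact (QCoh.isProperOver_iff _).2 inferInstance

end Groth.Agent.S9221
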