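import Groth.Statements.S9223
import Groth.Agent.AmpleDesc5.RelStage

set_option backward.isDefEq.respectTransparency false
set_option backward.isDefEq.respectTransparency.types false

set_option autoImplicit false
universe u
open CategoryTheory AlgebraicGeometry
open Lim

namespace Groth.Agent.S9223

/-- Let S = lim S_i be a cofiltered limit of quasi-compact quasi-separated schemes with affine
transition morphisms and let L₀ be an invertible O-module on a stage S_{i₀}. If the pullback L of L₀
to S is ample, then for some index i over i₀ the pullback L_i of L₀ to S_i is ample. -/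
theorem result {I : Type u} [SmallCategory I] [IsCofiltered I]
    (D : I ⥤ Scheme.{u}) (c : Limits.Cone D) (hc : Limits.IsLimit c)
    [∀ (i j : I) (f : i ⟶ j), IsAffineHom (D.map f)] [∀ i, CompactSpace (D.obj i)]
    [∀ i, QuasiSeparatedSpace (D.obj i)] (i₀ : I) (L₀ : (D.obj i₀).Modules) (hL₀ : PicF.IsInvertible L₀)
    (h : CohB1.IsAmple ((Scheme.Modules.pullback (c.π.app i₀)).obj L₀)) :
    ∃ (i : I) (φ : i ⟶ i₀), CohB1.IsAmple ((Scheme.Modules.pullback (D.map φ)).obj L₀) := by
  haveI : ∀ {i j : I} (f : i ⟶ j), IsAffineHom (D.map f) := fun {i j} f => inferInstance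
  exact Groth.Agent.AmpleDesc5.exists_isAmple_pullback_stage D hc hL₀ h

end Groth.Agent.S9223
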