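import Groth.Statements.S9224
import Groth.Agent.Proj16.UClosedAffine

set_option autoImplicit false
universe u
open CategoryTheory CategoryTheory.Limits AlgebraicGeometry
open Lim

namespace Groth.Agent.S9224

open MvPolynomial Groth.Agent.Proj16 in
open scoped TensorProduct in
theorem exists_avoid {R : Type u} [CommRing R] {X : Scheme.{u}} (f : X ⟶ Spec (.of R))
    [CompactSpace X] (A : Type u) [CommRing A] [Algebra R A]
    (Z : Set ↥(pullback f (Spec.map (CommRingCat.ofHom (algebraMap R A))))) (hZ : IsClosed Z)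
    (t : ↥(Spec (.of A)))
    (ht : ∀ z ∈ Z, pullback.snd f (Spec.map (CommRingCat.ofHom (algebraMap R A))) z ≠ t) :
    ∃ (n : ℕ) (a : ULift.{u} (Fin n) → A), ∀ z ∈ closure
        ((pullback.lift (f := f)
          (g := Spec.map (CommRingCat.ofHom (algebraMap R (MvPolynomial (ULift.{u} (Fin n)) R))))
          (pullback.fst f (Spec.map (CommRingCat.ofHom (algebraMap R A))))
          (pullback.snd f (Spec.map (CommRingCat.ofHom (algebraMap R A))) ≫
            Spec.map (CommRingCat.ofHom (aeval (R := R) a).toRingHom))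
          (by rw [Category.assoc, ← Spec.map_comp, pullback.condition]
              exact congrArg (fun k => pullback.snd f (Spec.map (CommRingCat.ofHom (algebraMap R A))) ≫ k)
                (congrArg Spec.map (CommRingCat.hom_ext (aeval (R := R) a).comp_algebraMap)).symm)) '' Z),
      pullback.snd f _ z ≠ Spec.map (CommRingCat.ofHom (aeval (R := R) a).toRingHom) t := by
  classical
  let 𝒰 := X.affineCover.finiteSubcover
  let B : 𝒰.I₀ → Type u := fun i ↦ Γ(𝒰.X i, ⊤)
  let eB : ∀ i, 𝒰.X i ≅ Spec (.of (B i)) := fun i ↦ Scheme.isoSpec _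
  let j : ∀ i, Spec (.of (B i)) ⟶ X := fun i ↦ (eB i).inv ≫ 𝒰.f i
  let : ∀ i, Algebra R (B i) := fun i ↦ (Spec.preimage (j i ≫ f)).hom.toAlgebra
  have hψ : ∀ i, j i ≫ f = Spec.map (CommRingCat.ofHom (algebraMap R (B i))) := fun i ↦
    (Spec.map_preimage _).symm
  let c i := pullbackChart f (j i) (hψ i) A
  have hpt : ∀ i, ∃ I : Ideal (B i ⊗[R] A), PrimeSpectrum.zeroLocus I = c i ⁻¹' Z := fun i ↦ by
    obtain ⟨I, hI⟩ := (PrimeSpectrum.isClosed_iff_zeroLocus_ideal _).mp
      (hZ.preimage (c i).continuous)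
    exact ⟨I, hI.symm⟩
  choose I hI using hpt
  have hfib : ∀ i, ∀ Q : PrimeSpectrum (B i ⊗[R] A), I i ≤ Q.asIdeal →
      Q.asIdeal.comap (Algebra.TensorProduct.includeRight.toRingHom :
        A →+* B i ⊗[R] A) ≠ t.asIdeal := by
    intro i Q hQ he
    refine ht (c i Q) ((hI i).le hQ) ?_
    rw [← Scheme.Hom.comp_apply, pullbackChart_snd]
    exact PrimeSpectrum.ext he
  choose s hsfin hs using fun i ↦ exists_finset_tensor_equation (I i) t (hfib i)
  obtain ⟨n, a, ha⟩ : ∃ (n : ℕ) (a : Fin n → A), Set.range a = ⋃ i, s i := by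
    obtain ⟨n, a, ha⟩ := (Set.finite_iUnion hsfin).fin_embedding
    exact ⟨n, a, ha⟩
  let σ := ULift.{u} (Fin n)
  let a' : σ → A := a ∘ ULift.down
  have ha' : ∀ i, s i ⊆ Set.range a' := fun i x hx ↦ by
    obtain ⟨k, rfl⟩ := ha.ge (Set.mem_iUnion.mpr ⟨i, hx⟩)
    exact ⟨⟨k⟩, rfl⟩
  choose e he₁ he₂ using fun i ↦ hs i a' (ha' i)
  let φ := Spec.map (CommRingCat.ofHom (aeval (R := R) a').toRingHom)
  have hφ : φ ≫ Spec.map (CommRingCat.ofHom (algebraMap R (MvPolynomial σ R))) =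
      Spec.map (CommRingCat.ofHom (algebraMap R A)) := by
    rw [← Spec.map_comp]
    exact congrArg Spec.map (CommRingCat.hom_ext (aeval (R := R) a').comp_algebraMap)
  let q := pullback.lift (f := f) (g := Spec.map (CommRingCat.ofHom (algebraMap R (MvPolynomial σ R))))
    (pullback.fst f (Spec.map (CommRingCat.ofHom (algebraMap R A))))
    (pullback.snd f (Spec.map (CommRingCat.ofHom (algebraMap R A))) ≫ φ)
    (by rw [Category.assoc, hφ, pullback.condition])
  refine ⟨n, a', fun z₀ hz₀ hz₀t => ?_⟩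
  obtain ⟨i, hi⟩ : ∃ i, pullback.fst f _ z₀ ∈ Set.range (j i) := by
    obtain ⟨i, y, hy⟩ := 𝒰.exists_eq (pullback.fst f _ z₀)
    obtain ⟨w, rfl⟩ := (eB i).inv.surjective y
    exact ⟨i, w, hy⟩
  let c₀ := pullbackChart f (j i) (hψ i) (MvPolynomial σ R)
  obtain ⟨Q, rfl⟩ := mem_range_pullbackChart f (j i) (hψ i) _ hi
  rw [← Scheme.Hom.comp_apply, pullbackChart_snd] at hz₀t
  have hQ := he₂ i Q (congrArg PrimeSpectrum.asIdeal hz₀t)
  obtain ⟨_, ⟨Q', hQ', rfl⟩, z, hz, hzQ⟩ := mem_closure_iff.mp hz₀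
    (c₀ '' (PrimeSpectrum.basicOpen (e i) : Set (PrimeSpectrum _)))
    (c₀.isOpenEmbedding.isOpenMap _ (PrimeSpectrum.basicOpen (e i)).isOpen) ⟨Q, hQ, rfl⟩
  have hzj : pullback.fst f _ z ∈ Set.range (j i) := by
    have := congrArg (pullback.fst f _) hzQ
    rw [← Scheme.Hom.comp_apply, pullback.lift_fst, ← Scheme.Hom.comp_apply,
      pullbackChart_fst] at this
    rw [this]
    exact ⟨_, rfl⟩
  obtain ⟨Q'', rfl⟩ := mem_range_pullbackChart f (j i) (hψ i) _ hzj
  have hmap : c i ≫ q = Spec.map (CommRingCat.ofHom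
      (Algebra.TensorProduct.map (AlgHom.id R (B i)) (aeval a')).toRingHom) ≫ c₀ := by
    apply pullback.hom_ext
    · simp only [Category.assoc, pullback.lift_fst, q, c, c₀, pullbackChart_fst]
      rw [← Spec.map_comp_assoc]
      congr 2
      refine CommRingCat.hom_ext (RingHom.ext fun x ↦ ?_)
      simp
    · simp only [Category.assoc, pullback.lift_snd, q, c, c₀,
        pullbackChart_snd, pullbackChart_snd_assoc, φ, ← Spec.map_comp]
      congr 1
  rw [← Scheme.Hom.comp_apply, hmap, Scheme.Hom.comp_apply] at hzQ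
  obtain rfl := c₀.isOpenEmbedding.injective hzQ
  exact hQ' ((hI i).ge hz (he₁ i))


/-- Let f : X → S be a quasi-compact morphism, g : T → S a morphism, t a point of T and Z a closed
subset of X_T = X ×_S T which does not meet the fibre of X_T → T over t. Then there exist an affine
open neighbourhood V of t in T, an affine scheme T' with a morphism b : T' → S locally of finite
presentation, a morphism a : V → T' whose composite with b is the restriction of g, and a closed
subset Z' of X_{T'} = X ×_S T' which does not meet the fibre over t' = a(t), such that the induced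
morphism X_V → X_{T'} maps every point of X_V lying over Z (under X_V → X_T) into Z'. The morphisms
X_V → X_T and X_V → X_{T'} are the canonical ones, characterised by their projections. -/
theorem result {X S T : Scheme.{u}} (f : X ⟶ S) [QuasiCompact f] (g : T ⟶ S) (t : T)
    (Z : Set ↥(pullback f g)) (hZ : IsClosed Z) (hZt : ∀ z ∈ Z, (pullback.snd f g).base z ≠ t) :
    ∃ (V : T.Opens) (ht : t ∈ V) (T' : Scheme.{u}) (b : T' ⟶ S) (a : (V : Scheme.{u}) ⟶ T')
      (n : pullback f (V.ι ≫ g) ⟶ pullback f g) (m : pullback f (V.ι ≫ g) ⟶ pullback f b)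
      (Z' : Set ↥(pullback f b)),
      IsAffineOpen V ∧ IsAffine T' ∧ LocallyOfFinitePresentation b ∧ a ≫ b = V.ι ≫ g ∧
      n ≫ pullback.fst f g = pullback.fst f (V.ι ≫ g) ∧ n ≫ pullback.snd f g = pullback.snd f (V.ι ≫ g) ≫ V.ι ∧
      m ≫ pullback.fst f b = pullback.fst f (V.ι ≫ g) ∧ m ≫ pullback.snd f b = pullback.snd f (V.ι ≫ g) ≫ a ∧
      IsClosed Z' ∧ (∀ z' ∈ Z', (pullback.snd f b).base z' ≠ a.base ⟨t, ht⟩) ∧
      ∀ z : ↥(pullback f (V.ι ≫ g)), n.base z ∈ Z → m.base z ∈ Z' := by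
  obtain ⟨U, hU, htU, -⟩ := exists_isAffineOpen_mem_and_subset (x := g t) (U := ⊤) trivial
  obtain ⟨V, hV, htV, hVU⟩ := exists_isAffineOpen_mem_and_subset (x := t) (U := g ⁻¹ᵁ U) htU
  have hVU' : V ≤ g ⁻¹ᵁ U := hVU
  let jU : Spec (.of Γ(S, U)) ⟶ S := hU.fromSpec
  let jV : Spec (.of Γ(T, V)) ⟶ T := hV.fromSpec
  let iV : (V : Scheme.{u}) ⟶ Spec (.of Γ(T, V)) := hV.isoSpec.hom
  have hjU : IsOpenImmersion jU := inferInstanceAs (IsOpenImmersion hU.fromSpec)
  letI : Algebra Γ(S, U) Γ(T, V) := (g.appLE U V hVU').hom.toAlgebra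
  let α : Spec (.of Γ(T, V)) ⟶ Spec (.of Γ(S, U)) :=
    Spec.map (CommRingCat.ofHom (algebraMap Γ(S, U) Γ(T, V)))
  have hα : α ≫ jU = jV ≫ g :=
    IsAffineOpen.SpecMap_appLE_fromSpec g hU hV hVU'
  let f' := pullback.snd f jU
  have : CompactSpace ↥(pullback f jU) :=
    QuasiCompact.compactSpace_of_compactSpace f'
  let ρ : pullback f' α ⟶ pullback f g := pullback.lift
    (pullback.fst f' α ≫ pullback.fst f jU) (pullback.snd f' α ≫ jV) (by
      rw [Category.assoc, pullback.condition, Category.assoc, ← hα]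
      exact pullback.condition_assoc _)
  have hfs : iV ≫ jV = V.ι := hV.isoSpec_hom_fromSpec
  let t₁ : ↥(Spec (.of Γ(T, V))) := iV ⟨t, htV⟩
  have ht₁ : jV t₁ = t := by
    show (iV ≫ jV) ⟨t, htV⟩ = t
    rw [hfs]
    rfl
  have hρs : ρ ≫ pullback.snd f g = pullback.snd f' α ≫ jV := pullback.lift_snd _ _ _
  obtain ⟨n₀, a₀, ha₀⟩ := exists_avoid f' Γ(T, V) (ρ ⁻¹' Z) (hZ.preimage ρ.continuous) t₁
    (fun z hz e => hZt _ hz (by
      show (ρ ≫ pullback.snd f g) z = t
      rw [hρs, Scheme.Hom.comp_apply]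
      exact (congrArg jV e).trans ht₁))
  let β : Spec (.of (MvPolynomial (ULift.{u} (Fin n₀)) Γ(S, U))) ⟶ Spec (.of Γ(S, U)) :=
    Spec.map (CommRingCat.ofHom (algebraMap Γ(S, U) (MvPolynomial (ULift.{u} (Fin n₀)) Γ(S, U))))
  let φ := Spec.map (CommRingCat.ofHom (MvPolynomial.aeval (R := Γ(S, U)) a₀).toRingHom)
  have hφ : φ ≫ β = α := by
    rw [← Spec.map_comp]
    exact congrArg Spec.map (CommRingCat.hom_ext (MvPolynomial.aeval (R := Γ(S, U)) a₀).comp_algebraMap)
  have : LocallyOfFinitePresentation β :=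
    HasRingHomProperty.Spec_iff.mpr (RingHom.finitePresentation_algebraMap.mpr inferInstance)
  let θ := pullbackLeftPullbackSndIso f jU β
  let a : (V : Scheme.{u}) ⟶ Spec (.of (MvPolynomial (ULift.{u} (Fin n₀)) Γ(S, U))) :=
    iV ≫ φ
  have hab : a ≫ β ≫ jU = V.ι ≫ g := by
    rw [Category.assoc, reassoc_of% hφ, hα, reassoc_of% hfs]
  let w₁ : pullback f (V.ι ≫ g) ⟶ pullback f jU :=
    pullback.lift (pullback.fst _ _) (pullback.snd _ _ ≫ iV ≫ α) (by
      rw [pullback.condition, Category.assoc, Category.assoc, hα, reassoc_of% hfs])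
  let w : pullback f (V.ι ≫ g) ⟶ pullback f' α :=
    pullback.lift w₁ (pullback.snd _ _ ≫ iV) (by
      simp only [w₁, f', pullback.lift_snd, Category.assoc])
  let n : pullback f (V.ι ≫ g) ⟶ pullback f g :=
    pullback.lift (pullback.fst _ _) (pullback.snd _ _ ≫ V.ι) (by
      rw [pullback.condition, Category.assoc])
  let q : pullback f' α ⟶ pullback f' β := pullback.lift (pullback.fst f' α)
    (pullback.snd f' α ≫ φ) (by rw [Category.assoc, hφ, pullback.condition])
  have hρf : ρ ≫ pullback.fst f g = pullback.fst f' α ≫ pullback.fst f jU := pullback.lift_fst _ _ _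
  have hwf : w ≫ pullback.fst f' α = w₁ := pullback.lift_fst _ _ _
  have hws : w ≫ pullback.snd f' α = pullback.snd f (V.ι ≫ g) ≫ iV := pullback.lift_snd _ _ _
  have hw₁ : w₁ ≫ pullback.fst f jU = pullback.fst f (V.ι ≫ g) := pullback.lift_fst _ _ _
  have hnf : n ≫ pullback.fst f g = pullback.fst f (V.ι ≫ g) := pullback.lift_fst _ _ _
  have hns : n ≫ pullback.snd f g = pullback.snd f (V.ι ≫ g) ≫ V.ι := pullback.lift_snd _ _ _
  have hqf : q ≫ pullback.fst f' β = pullback.fst f' α := pullback.lift_fst _ _ _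
  have hqs : q ≫ pullback.snd f' β = pullback.snd f' α ≫ φ := pullback.lift_snd _ _ _
  have hθf : θ.hom ≫ pullback.fst f (β ≫ jU) = pullback.fst f' β ≫ pullback.fst f jU :=
    pullbackLeftPullbackSndIso_hom_fst _ _ _
  have hθs : θ.hom ≫ pullback.snd f (β ≫ jU) = pullback.snd f' β :=
    pullbackLeftPullbackSndIso_hom_snd _ _ _
  have hn : w ≫ ρ = n := by
    apply pullback.hom_ext
    · rw [Category.assoc, hρf, reassoc_of% hwf, hw₁, hnf]
    · rw [Category.assoc, hρs, reassoc_of% hws, hfs, hns]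
  refine ⟨V, htV, _, β ≫ jU, a, n, w ≫ q ≫ θ.hom, θ.inv ⁻¹' closure (q '' (ρ ⁻¹' Z)),
    hV, inferInstance, inferInstance, hab, pullback.lift_fst _ _ _, pullback.lift_snd _ _ _,
    ?_, ?_, isClosed_closure.preimage θ.inv.continuous, ?_, ?_⟩
  · rw [Category.assoc, Category.assoc, hθf, reassoc_of% hqf, reassoc_of% hwf, hw₁]
  · rw [Category.assoc, Category.assoc, hθs, hqs, reassoc_of% hws]
  · intro z hz e
    refine ha₀ _ hz ?_
    show (θ.inv ≫ pullback.snd f' β) z = φ t₁
    rw [pullbackLeftPullbackSndIso_inv_snd_snd]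
    exact e
  · intro z hz
    show θ.inv ((w ≫ q ≫ θ.hom) z) ∈ closure _
    rw [← Scheme.Hom.comp_apply, Category.assoc, Category.assoc, Iso.hom_inv_id, Category.comp_id]
    refine subset_closure ⟨w z, ?_, rfl⟩
    show (w ≫ ρ) z ∈ Z
    rw [hn]
    exact hz

end Groth.Agent.S9224
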