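import Groth.Statements.S9225
import Groth.Agent.CplFib6.PolyFibre
-- import your own Groth.Agent.* helpers here

set_option autoImplicit false
universe u
open CAlg

namespace Groth.Agent.S9225

/-- Let R be a regular ring, f an element of R and D a derivation of R such that the image of D(f) in
R/(f) is a unit. Then R/(f) is a regular ring. -/
theorem result (R : Type u) [CommRing R] [IsRegularRing R]
    (f : R) (D : Derivation ℤ R R)
    (hD : IsUnit (Ideal.Quotient.mk (Ideal.span {f}) (D f))) :
    IsRegularRing (R ⧸ Ideal.span ({f} : Set R)) := by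
  refine { isRegularLocalRing_localization := fun Q _ => ?_ }
  let P : Ideal R := Q.comap (Ideal.Quotient.mk (Ideal.span {f}))
  haveI : P.IsPrime := Ideal.comap_isPrime _ _
  have hfP : f ∈ P := by
    rw [Ideal.mem_comap, Ideal.Quotient.eq_zero_iff_mem.mpr (Ideal.mem_span_singleton_self f)]
    exact Q.zero_mem
  have hDP : D f ∉ P := fun h => Ideal.IsPrime.ne_top inferInstance (Q.eq_top_of_isUnit_mem h hD)
  obtain ⟨e⟩ := RegLoc6.exists_quotLocalEquiv (Ideal.span {f}) P Q rfl
  haveI : IsRegularLocalRing (Localization.AtPrime P) := IsRegularRing.isRegularLocalRing_localization P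
  have hsq : algebraMap R (Localization.AtPrime P) f ∉ IsLocalRing.maximalIdeal (Localization.AtPrime P) ^ 2 := by
    intro hmem
    rw [← Localization.AtPrime.map_eq_maximalIdeal, ← Ideal.map_pow,
      IsLocalization.algebraMap_mem_map_algebraMap_iff P.primeCompl] at hmem
    obtain ⟨s, hs, hsf⟩ := hmem
    have hD2 : ∀ w ∈ P ^ 2, D w ∈ P := fun w hw => by
      have h := CplFib6.derivation_pow_mem D P 1 w hw
      rwa [pow_one] at h
    have h1 := hD2 _ hsf
    rw [Derivation.leibniz, smul_eq_mul, smul_eq_mul] at h1
    refine hs ?_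
    have h2 := sub_mem h1 (P.mul_mem_right (D s) hfP)
    rw [add_sub_cancel_right] at h2
    exact (Ideal.IsPrime.mem_or_mem inferInstance h2).resolve_right hDP
  haveI := (RegLoc6.isRegularLocalRing_quot_and (by
    rw [← Localization.AtPrime.map_eq_maximalIdeal]; exact Ideal.mem_map_of_mem _ hfP) hsq).1
  exact IsRegularLocalRing.of_ringEquiv ((Ideal.quotEquivOfEq (by rw [Ideal.map_span, Set.image_singleton])).trans e)

end Groth.Agent.S9225
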