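import Groth.Statements.S9226
import Mathlib
import Groth.Agent.RegIndep.Basic

set_option autoImplicit false
universe u
open CAlg

namespace Groth.Agent.S9226
open IsLocalRing in
theorem indep (R : Type u) [CommRing R] [IsLocalRing R] (m : ℕ) (f : Fin m → R)
    (hf : ∀ i, f i ∈ maximalIdeal R) (D : Fin m → Derivation ℤ R R)
    (hdet : IsUnit (Matrix.det (Matrix.of (fun i j : Fin m => D i (f j)))))
    (a : Fin m → R) (ha : ∑ i, a i * f i ∈ maximalIdeal R ^ 2) (i : Fin m) : a i ∈ maximalIdeal R := by
  have hD : ∀ j, ∀ x ∈ maximalIdeal R ^ 2, D j x ∈ maximalIdeal R := by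
    intro j x hx
    rw [pow_two] at hx
    refine Submodule.mul_induction_on hx (fun a ha b hb => ?_) fun a b ha hb => ?_
    · rw [Derivation.leibniz, smul_eq_mul, smul_eq_mul]
      exact add_mem (Ideal.mul_mem_right _ _ ha) (Ideal.mul_mem_right _ _ hb)
    · rw [map_add]; exact add_mem ha hb
  let M : Matrix (Fin m) (Fin m) R := Matrix.of (fun i j : Fin m => D i (f j))
  have h1 : ∀ j, residue R (M.mulVec a j) = 0 := by
    intro j
    rw [residue_eq_zero_iff]
    have h2 : M.mulVec a j = D j (∑ k, a k * f k) - ∑ k, f k * D j (a k) := by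
      simp only [M, Matrix.mulVec, dotProduct, Matrix.of_apply, map_sum, Derivation.leibniz, smul_eq_mul,
        Finset.sum_add_distrib, mul_comm (D j _)]
      ring
    rw [h2]
    exact sub_mem (hD j _ ha) (sum_mem fun k _ => Ideal.mul_mem_right _ _ (hf k))
  have hu : IsUnit (M.map (residue R)) := by
    rw [Matrix.isUnit_iff_isUnit_det]
    exact (RingHom.map_det (residue R) M) ▸ hdet.map (residue R)
  have h3 : (M.map (residue R)).mulVec (fun k => residue R (a k)) = 0 := by
    funext j
    refine (RingHom.map_mulVec (residue R) M a j).symm.trans ?_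
    exact h1 j
  have h4 := Matrix.mulVec_injective_iff_isUnit.2 hu (h3.trans (Matrix.mulVec_zero _).symm)
  exact (residue_eq_zero_iff _).1 (congrFun h4 i)



/-- Let R be a regular local ring, m ≥ 1, f_1, ..., f_m elements of the maximal ideal, and D_1, ..., D_m
derivations of R such that the determinant of the matrix (D_i(f_j)) is a unit of R. Then R/(f_1,
..., f_m) is a regular local ring and f_1, ..., f_m is a regular sequence on R. -/
theorem result (R : Type u) [CommRing R]
    [IsRegularLocalRing R] (m : ℕ) (hm : 1 ≤ m) (f : Fin m → R)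
    (hf : ∀ i, f i ∈ IsLocalRing.maximalIdeal R) (D : Fin m → Derivation ℤ R R)
    (hdet : IsUnit (Matrix.det (Matrix.of (fun i j : Fin m => D i (f j))))) :
    IsRegularLocalRing (R ⧸ Ideal.span (Set.range f)) ∧
      RingTheory.Sequence.IsRegular R (List.ofFn f) := by
  obtain ⟨h1, h2⟩ := Groth.Agent.RegIndep.regular_of_indep m R f hf (indep R m f hf D hdet)
  refine ⟨h1, h2, ?_⟩
  intro htop
  haveI := h1
  have h3 : Ideal.span (Set.range f) = ⊤ := by
    rw [smul_eq_mul, Ideal.mul_top, Groth.Agent.CAlgGlobalDim.ofList_ofFn] at htop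
    exact htop.symm
  exact (IsLocalRing.maximalIdeal.isMaximal R).ne_top (top_le_iff.1 (h3.ge.trans (Ideal.span_le.2 (by rintro _ ⟨i, rfl⟩; exact hf i))))


end Groth.Agent.S9226
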