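import Groth.Statements.S9227
import Mathlib
import Groth.Agent.RegIndep.Basic
import Groth.Agent.RegLoc6.Open

set_option autoImplicit false
universe u
open CAlg

namespace Groth.Agent.S9227

/-- Let R be a regular ring, f an element of R and D a derivation of R with D(f) a unit of R. Then for
every polynomial p with integer coefficients the ring R[z]/(p(z) - f) is regular; in particular
R[z]/(z^n - f) is regular for every n ≥ 1. -/
theorem result (R : Type u) [CommRing R]
    [IsRegularRing R] (f : R) (D : Derivation ℤ R R) (hD : IsUnit (D f)) (p : Polynomial ℤ) :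
    IsRegularRing (Polynomial R ⧸
      Ideal.span ({Polynomial.map (Int.castRingHom R) p - Polynomial.C f} : Set (Polynomial R))) := by
  letI : Differential R := ⟨D⟩
  let g : Polynomial R := Polynomial.map (Int.castRingHom R) p - Polynomial.C f
  change IsRegularRing (Polynomial R ⧸ Ideal.span ({g} : Set (Polynomial R)))
  let E : Derivation ℤ (Polynomial R) (Polynomial R) := Differential.mapCoeffs
  have hEg : E g = - Polynomial.C (D f) := by
    ext i
    rw [Differential.coeff_mapCoeffs, Polynomial.coeff_neg, Polynomial.coeff_sub, Polynomial.coeff_map]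
    change D (Int.castRingHom R (p.coeff i) - (Polynomial.C f).coeff i) = _
    rw [map_sub, show D (Int.castRingHom R (p.coeff i)) = 0 from D.map_algebraMap (p.coeff i), zero_sub,
      Polynomial.coeff_C, Polynomial.coeff_C]
    split_ifs with h
    · rfl
    · rw [map_zero]
  refine isRegularRing_iff.2 fun P' _ => ?_
  let P : Ideal (Polynomial R) := P'.comap (Ideal.Quotient.mk _)
  have hgP : g ∈ P := by
    change Ideal.Quotient.mk _ g ∈ P'
    rw [Ideal.Quotient.eq_zero_iff_mem.2 (Ideal.subset_span (Set.mem_singleton g) : g ∈ Ideal.span ({g} : Set (Polynomial R)))]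
    exact P'.zero_mem
  haveI : IsRegularLocalRing (Localization.AtPrime P) := IsRegularRing.isRegularLocalRing_localization P
  let R' := Localization.AtPrime P
  have hgm : algebraMap (Polynomial R) R' g ∈ IsLocalRing.maximalIdeal R' :=
    (IsLocalization.AtPrime.to_map_mem_maximal_iff R' P g).2 hgP
  have hg2 : algebraMap (Polynomial R) R' g ∉ IsLocalRing.maximalIdeal R' ^ 2 := by
    intro h
    rw [← IsLocalization.AtPrime.map_eq_maximalIdeal P R', ← Ideal.map_pow,
      IsLocalization.algebraMap_mem_map_algebraMap_iff P.primeCompl] at h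
    obtain ⟨s, hs, hsg⟩ := h
    have hD2 : ∀ x ∈ P ^ 2, E x ∈ P := by
      intro x hx
      rw [pow_two] at hx
      refine Submodule.mul_induction_on hx (fun a ha b hb => ?_) fun a b ha hb => ?_
      · rw [Derivation.leibniz, smul_eq_mul, smul_eq_mul]
        exact add_mem (Ideal.mul_mem_right _ _ ha) (Ideal.mul_mem_right _ _ hb)
      · rw [map_add]; exact add_mem ha hb
    have h1 := hD2 _ hsg
    rw [Derivation.leibniz, smul_eq_mul, smul_eq_mul, hEg] at h1
    have h2 : s * -Polynomial.C (D f) ∈ P :=
      (Ideal.add_mem_iff_left _ (Ideal.mul_mem_right _ _ hgP)).1 h1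
    rcases Ideal.IsPrime.mem_or_mem inferInstance h2 with h3 | h3
    · exact hs h3
    · exact (inferInstance : P.IsPrime).ne_top
        (Ideal.eq_top_of_isUnit_mem _ h3 (hD.map Polynomial.C).neg)
  obtain ⟨h1, -⟩ := Groth.Agent.RegIndep.regular_of_indep 1 R' (fun _ => algebraMap (Polynomial R) R' g)
    (fun _ => hgm) (fun a ha i => by
      rw [Fin.sum_univ_one] at ha
      by_contra hi
      have hu : IsUnit (a 0) := IsLocalRing.notMem_maximalIdeal.1 (Subsingleton.elim i 0 ▸ hi)
      exact hg2 ((Ideal.unit_mul_mem_iff_mem _ hu).1 ha))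
  obtain ⟨e⟩ := Groth.Agent.RegLoc6.exists_quotLocalEquiv (Ideal.span {g}) P P' rfl
  haveI := h1
  have heq : Ideal.span (Set.range fun _ : Fin 1 => algebraMap (Polynomial R) R' g) =
      (Ideal.span {g}).map (algebraMap (Polynomial R) R') := by
    rw [Ideal.map_span, Set.image_singleton, Set.range_const]
  let e1 : (R' ⧸ Ideal.span (Set.range fun _ : Fin 1 => algebraMap (Polynomial R) R' g)) ≃+*
      Localization.AtPrime P' := (Ideal.quotEquivOfEq heq).trans e
  exact IsRegularLocalRing.of_ringEquiv
    (R := R' ⧸ Ideal.span (Set.range fun _ : Fin 1 => algebraMap (Polynomial R) R' g))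
    (R' := Localization.AtPrime P') e1


end Groth.Agent.S9227
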