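import Groth.Statements.S9230
import Groth.Agent.FormCat.HenzNormal
import Groth.Agent.FormCat.Catenary

set_option autoImplicit false
universe u
open EGA4

namespace Groth.Agent.S9230

/-- For a Noetherian local ring A whose formal fibres are geometrically normal, every henselization S of
A is universally catenary. -/
theorem result (A S : Type u) [CommRing A]
    [IsLocalRing A] [IsNoetherianRing A] [CommRing S] [IsLocalRing S] [Algebra A S]
    [IsLocalHom (algebraMap A S)] [Hensel.IsHenselization A S]
    (hA : EGA4.HasGeomNormalFormalFibres A) : CAlg.IsUniversallyCatenary S := by
    haveI : IsNoetherianRing S :=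
      (Hensel.isHenzLike_of_isHenselization (R := A) (S := S)).isNoetherianRing_iff.mp inferInstance
    haveI : HenselianLocalRing S := Hensel.IsHenselization.henselian (R := A) (S := S)
    exact FormCat.isUniversallyCatenary S
      (FormCat.isFormallyCatenary_of_henselian S (FormCat.hasGeomNormalFormalFibres_henselization (R := A) hA))

end Groth.Agent.S9230
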