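import Groth.Statements.S9242
import Groth.Agent.BrnchLib.SeparateCompl

set_option autoImplicit false
universe u
open Brnch

namespace Groth.Agent.S9242

/-- Let A be a Noetherian local ring with henselization S and completion A^, let ψ : S → A^ be the ring
map compatible with the structure maps from A, and let q be a minimal prime of A^ with dim(A^/q) =
1. Then q is the radical of the extension along ψ of some minimal prime of S. -/
theorem result (A S : Type u) [CommRing A]
    [IsLocalRing A] [IsNoetherianRing A] [CommRing S] [IsLocalRing S] [Algebra A S]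
    [IsLocalHom (algebraMap A S)] [Hensel.IsHenselization A S]
    (ψ : S →+* AdicCompletion (IsLocalRing.maximalIdeal A) A)
    (hψ : ψ.comp (algebraMap A S) = algebraMap A (AdicCompletion (IsLocalRing.maximalIdeal A) A))
    (q : Ideal (AdicCompletion (IsLocalRing.maximalIdeal A) A))
    (hq : q ∈ minimalPrimes (AdicCompletion (IsLocalRing.maximalIdeal A) A))
    (hdim : ringKrullDim (AdicCompletion (IsLocalRing.maximalIdeal A) A ⧸ q) = 1) :
    ∃ q' ∈ minimalPrimes S, (Ideal.map ψ q').radical = q := by
  haveI : HenselianLocalRing S := Hensel.IsHenselization.henselian A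
  haveI : IsNoetherianRing (AdicCompletion (IsLocalRing.maximalIdeal A) A) :=
    Groth.Agent.FormalFib6.isNoetherianRing_adicCompletion A _
  haveI : IsNoetherianRing S :=
    (Groth.Agent.Hensel.isHenzLike_of_isHenselization A S).isNoetherianRing_iff.1 inferInstance
  have hff := Groth.Agent.BrnchLib.faithfullyFlat_psi A S ψ hψ
  exact ⟨q.comap ψ, Groth.Agent.BrnchLib.comap_mem_minimalPrimes ψ hff hq,
    Groth.Agent.BrnchLib.radical_map_eq_of_dim_one ψ hff (Groth.Agent.BrnchLib.map_maximalIdeal_psi A S ψ hψ)
      (Groth.Agent.BrnchLib.exists_sub_psi_mem A S ψ hψ) hq (Ring.krullDimLE_iff.2 hdim.le)⟩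

end Groth.Agent.S9242
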