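import Groth.Statements.S9245
import Groth.Agent.RegLoc6.Descent
import Mathlib

set_option autoImplicit false
universe u
open CAlg

namespace Groth.Agent.S9245

/-- For an étale ring map A → B and a prime q of B with contraction p in A, the localization A_p is a
Noetherian ring exactly when the localization B_q is. -/
theorem result (A B : Type u) [CommRing A] [CommRing B]
    [Algebra A B] [Algebra.Etale A B] (q : Ideal B) [q.IsPrime] :
    IsNoetherianRing (Localization.AtPrime (Ideal.comap (algebraMap A B) q)) ↔
      IsNoetherianRing (Localization.AtPrime q) := by
  let := Localization.AtPrime.algebraOfLiesOver (q.under A) q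
  have : IsLocalHom (algebraMap (Localization.AtPrime <| q.under A) (Localization.AtPrime q)) := by
    rw [RingHom.algebraMap_toAlgebra]
    exact Localization.isLocalHom_localRingHom (q.under A) q (algebraMap A B) Ideal.LiesOver.over
  haveI : Algebra.EssFiniteType A (Localization.AtPrime q) := Algebra.EssFiniteType.comp A B _
  haveI : Algebra.EssFiniteType (Localization.AtPrime <| q.under A) (Localization.AtPrime q) :=
    Algebra.EssFiniteType.of_comp A _ _
  haveI : Module.Flat A B := inferInstance
  haveI : Module.Flat (Localization.AtPrime <| q.under A) (Localization.AtPrime q) := inferInstance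
  show IsNoetherianRing (Localization.AtPrime (q.under A)) ↔ _
  constructor
  · intro h
    exact Algebra.EssFiniteType.isNoetherianRing (Localization.AtPrime <| q.under A) _
  · intro h
    haveI : Module.FaithfullyFlat (Localization.AtPrime <| q.under A) (Localization.AtPrime q) :=
      Module.FaithfullyFlat.of_flat_of_isLocalHom
    refine isNoetherianRing_iff.mpr (isNoetherian_iff'.mpr ?_)
    refine StrictMono.wellFoundedGT (f := Ideal.map (algebraMap (Localization.AtPrime <| q.under A) (Localization.AtPrime q)))
      ((Monotone.strictMono_of_injective (fun _ _ h => Ideal.map_mono h)) (fun I J (h : Ideal.map _ I = Ideal.map _ J) => ?_))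
    rw [← Ideal.comap_map_eq_self_of_faithfullyFlat (B := Localization.AtPrime q) I, h,
      Ideal.comap_map_eq_self_of_faithfullyFlat (B := Localization.AtPrime q) J]


end Groth.Agent.S9245
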