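import Groth.Statements.S9246
import Groth.Agent.RegLoc6.Descent
import Groth.Agent.Hensel.HenselizationLoc
import Mathlib

set_option autoImplicit false
universe u
open CAlg

namespace Groth.Agent.S9246

/-- Let A → B be an étale ring map and q a prime of B lying over the prime p of A. Then A_p is a regular
local ring if and only if B_q is a regular local ring. -/
theorem result (A B : Type u) [CommRing A] [CommRing B]
    [Algebra A B] [Algebra.Etale A B] (q : Ideal B) [q.IsPrime] :
    IsRegularLocalRing (Localization.AtPrime (Ideal.comap (algebraMap A B) q)) ↔
      IsRegularLocalRing (Localization.AtPrime q) := by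
  let := Localization.AtPrime.algebraOfLiesOver (q.under A) q
  have : IsLocalHom (algebraMap (Localization.AtPrime <| q.under A) (Localization.AtPrime q)) := by
    rw [RingHom.algebraMap_toAlgebra]
    exact Localization.isLocalHom_localRingHom (q.under A) q (algebraMap A B) Ideal.LiesOver.over
  haveI : Algebra.EssFiniteType A (Localization.AtPrime q) := Algebra.EssFiniteType.comp A B _
  haveI : Algebra.EssFiniteType (Localization.AtPrime <| q.under A) (Localization.AtPrime q) :=
    Algebra.EssFiniteType.of_comp A _ _
  haveI : Algebra.FormallyUnramified B (Localization.AtPrime q) :=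
    Algebra.FormallyUnramified.of_isLocalization q.primeCompl
  haveI : Algebra.FormallyUnramified A (Localization.AtPrime q) :=
    Algebra.FormallyUnramified.comp A B _
  haveI : Algebra.FormallyUnramified (Localization.AtPrime <| q.under A) (Localization.AtPrime q) :=
    Algebra.FormallyUnramified.of_restrictScalars A _ _
  haveI : Module.Flat A B := inferInstance
  haveI : Module.Flat (Localization.AtPrime <| q.under A) (Localization.AtPrime q) := inferInstance
  show IsRegularLocalRing (Localization.AtPrime (q.under A)) ↔ _
  constructor
  · intro h
    haveI := h
    haveI : IsNoetherianRing (Localization.AtPrime q) :=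
      Algebra.EssFiniteType.isNoetherianRing (Localization.AtPrime <| q.under A) _
    have hm := Algebra.FormallyUnramified.map_maximalIdeal
      (R := Localization.AtPrime <| q.under A) (S := Localization.AtPrime q)
    apply IsRegularLocalRing.of_spanFinrank_maximalIdeal_le
    rw [Hensel.ringKrullDim_eq_of_flat_of_map_maximalIdeal_eq (R := Localization.AtPrime <| q.under A)
      (S := Localization.AtPrime q) hm, ← h.spanFinrank_maximalIdeal, ← hm]
    exact_mod_cast Ideal.spanFinrank_map_le_of_fg _ (IsNoetherian.noetherian _)
  · intro h
    haveI := h
    haveI : Module.FaithfullyFlat (Localization.AtPrime <| q.under A) (Localization.AtPrime q) :=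
      Module.FaithfullyFlat.of_flat_of_isLocalHom
    haveI : IsNoetherianRing (Localization.AtPrime <| q.under A) := by
      refine isNoetherianRing_iff.mpr (isNoetherian_iff'.mpr ?_)
      refine StrictMono.wellFoundedGT (f := Ideal.map (algebraMap (Localization.AtPrime <| q.under A) (Localization.AtPrime q)))
        ((Monotone.strictMono_of_injective (fun _ _ h => Ideal.map_mono h)) (fun I J (h : Ideal.map _ I = Ideal.map _ J) => ?_))
      rw [← Ideal.comap_map_eq_self_of_faithfullyFlat (B := Localization.AtPrime q) I, h,
        Ideal.comap_map_eq_self_of_faithfullyFlat (B := Localization.AtPrime q) J]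
    exact RegLoc6.isRegularLocalRing_of_flat (A := Localization.AtPrime <| q.under A)
      (B := Localization.AtPrime q)


end Groth.Agent.S9246
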