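import Groth.Statements.S9247
import Groth.Agent.RegUFD.Basic
import Mathlib

set_option autoImplicit false
universe u
open CAlg

namespace Groth.Agent.S9247

/-- For a regular local ring R and an element f of R, the Picard group of R_f is trivial. -/
theorem result (R : Type u) [CommRing R]
    [IsRegularLocalRing R] (f : R) : Subsingleton (CommRing.Pic (Localization.Away f)) := by
  classical
  obtain ⟨hdom, hufd⟩ := RegUFD.ufd R
  haveI := hufd
  by_cases hf : f = 0
  · haveI : Subsingleton (Localization.Away f) :=
      (IsLocalization.subsingleton_iff (S := Localization.Away f) (M := Submonoid.powers f)).mpr ⟨1, by simp [hf]⟩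
    haveI : IsEmpty (MaximalSpectrum (Localization.Away f)) :=
      ⟨fun m => m.isMaximal.ne_top (Subsingleton.elim _ _)⟩
    infer_instance
  · have hle : Submonoid.powers f ≤ nonZeroDivisors R := powers_le_nonZeroDivisors_of_noZeroDivisors hf
    haveI : IsDomain (Localization.Away f) :=
      IsLocalization.isDomain_of_le_nonZeroDivisors _ hle
    haveI : UniqueFactorizationMonoid (Localization.Away f) :=
      UniqueFactorizationMonoid.of_isLocalization (Submonoid.powers f) (Localization.Away f)
    infer_instance


end Groth.Agent.S9247
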