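import Groth.Statements.S9249
import Groth.Agent.Hensel.DepthFlat
import Groth.Agent.LC.CanonComplete

set_option autoImplicit false
universe u
open CAlg

namespace Groth.Agent.S9249

/-- A Noetherian local ring is Cohen-Macaulay if and only if its completion is. -/
theorem result (A : Type u) [CommRing A] [IsLocalRing A]
    [IsNoetherianRing A] :
    LocCoh.IsCohenMacaulayLocalRing A ↔
      LocCoh.IsCohenMacaulayLocalRing (AdicCompletion (IsLocalRing.maximalIdeal A) A) := by
  haveI := LC.Canon.isNoetherianRing_completion (R := A)
  haveI : IsLocalHom (algebraMap A (AdicCompletion (IsLocalRing.maximalIdeal A) A)) :=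
    AdicCompletion.algebraMap_isLocalHom_of_fg (IsNoetherian.noetherian _)
  refine (Hensel.isCohenMacaulayLocalRing_iff (R := A) (AdicCompletion (IsLocalRing.maximalIdeal A) A)
    (AdicCompletion.maximalIdeal_eq_map (R := A)).symm ?_).symm
  exact Hensel.ringKrullDim_eq_of_flat_of_map_maximalIdeal_eq (R := A)
    (S := AdicCompletion (IsLocalRing.maximalIdeal A) A) (AdicCompletion.maximalIdeal_eq_map (R := A)).symm


end Groth.Agent.S9249
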