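import Groth.Statements.S9252
import Groth.Agent.Synt29.QRDescentFF

set_option autoImplicit false
universe u
attribute [local instance] HasDerivedCategory.standard
open CategoryTheory
open PP16

namespace Groth.Agent.S9252

/-- Let A → B be faithfully flat and I an ideal of A. If IB is a quasi-regular ideal of B then I is a
quasi-regular ideal of A. -/
theorem result (A B : Type u) [CommRing A] [CommRing B]
    [Algebra A B] [Module.FaithfullyFlat A B] (I : Ideal A)
    (h : PP16.IsLocallyQuasiRegular B (Ideal.map (algebraMap A B) I)) :
    PP16.IsLocallyQuasiRegular A I := by
  
  exact Groth.Agent.Synt29.QRDescent.isLocallyQuasiRegular_of_faithfullyFlat I h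


end Groth.Agent.S9252
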