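import Groth.Statements.S9258
import Groth.Agent.RegFS6.BaseLift

set_option autoImplicit false
universe u
open CAlg

namespace Groth.Agent.S9258

/-- Suppose A → B is a local map of Noetherian local rings, B is complete, and A → B is formally smooth
for the adic topology of the maximal ideal of B. Then each derivation D of A extends to a derivation
D' of B, in the sense that D' restricted along A → B equals D followed by A → B. -/
theorem result (A B : Type u) [CommRing A]
    [CommRing B] [IsLocalRing A] [IsLocalRing B] [IsNoetherianRing A] [IsNoetherianRing B]
    [Algebra A B] [IsLocalHom (algebraMap A B)]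
    [IsAdicComplete (IsLocalRing.maximalIdeal B) B]
    (hfs : CAlgX.IsAdicFormallySmooth A B (IsLocalRing.maximalIdeal B)) (D : Derivation ℤ A A) :
    ∃ D' : Derivation ℤ B B, ∀ a : A, D' (algebraMap A B a) = algebraMap A B (D a) := by
    obtain ⟨E, hE⟩ := RegFS6.ext_derivation_of_fs hfs D
    exact ⟨E, hE⟩

end Groth.Agent.S9258
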