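import Groth.Statements.S9259
import Groth.Agent.PopescuLib.RegLoc

set_option autoImplicit false
universe u
open CAlg TensorProduct

namespace Groth.Agent.S9259

/-- Regularity of a ring map is a local property: for a ring map R → Λ with Noetherian target,
regularity of R → Λ is equivalent to regularity of every induced local map R_p → Λ_q (q a prime of
Λ, p = q ∩ R), and also to regularity of those induced maps at the maximal ideals q of Λ. (The maps
of local rings are the canonical localized maps.) -/
theorem result (R Λ : Type u) [CommRing R] [CommRing Λ] [Algebra R Λ]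
    [IsNoetherianRing Λ] :
    (CAlg.IsRegularHom R Λ ↔
      ∀ (q : Ideal Λ) [q.IsPrime],
        letI := (Localization.localRingHom (Ideal.comap (algebraMap R Λ) q) q (algebraMap R Λ) rfl).toAlgebra
        CAlg.IsRegularHom (Localization.AtPrime (Ideal.comap (algebraMap R Λ) q))
          (Localization.AtPrime q)) ∧
    (CAlg.IsRegularHom R Λ ↔
      ∀ (n : Ideal Λ) [n.IsMaximal],
        letI := (Localization.localRingHom (Ideal.comap (algebraMap R Λ) n) n (algebraMap R Λ) rfl).toAlgebra
        CAlg.IsRegularHom (Localization.AtPrime (Ideal.comap (algebraMap R Λ) n))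
          (Localization.AtPrime n)) := by
  have key : ∀ (q : Ideal Λ) [q.IsPrime],
      (letI := (Localization.localRingHom (Ideal.comap (algebraMap R Λ) q) q (algebraMap R Λ) rfl).toAlgebra;
        CAlg.IsRegularHom (Localization.AtPrime (Ideal.comap (algebraMap R Λ) q)) (Localization.AtPrime q)) ↔
      CAlg.IsRegularHom R (Localization.AtPrime q) := by
    intro q _
    let p := Ideal.comap (algebraMap R Λ) q
    letI := (Localization.localRingHom p q (algebraMap R Λ) rfl).toAlgebra
    haveI : IsScalarTower R (Localization.AtPrime p) (Localization.AtPrime q) := IsScalarTower.of_algebraMap_eq fun a => by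
      rw [RingHom.algebraMap_toAlgebra, Localization.localRingHom_to_map, ← IsScalarTower.algebraMap_apply]
    refine ⟨fun h => ?_, fun h => Groth.Agent.PopescuLib.isRegularHom_source_localization p.primeCompl h⟩
    obtain ⟨hf, h⟩ := Groth.Agent.PopescuLib.isRegularHom_iff_field.1 h
    haveI := hf
    refine Groth.Agent.PopescuLib.isRegularHom_iff_field.2 ⟨Module.Flat.trans R (Localization.AtPrime p) _, fun L _ _ hL => ?_⟩
    haveI := hL
    haveI : IsNoetherianRing (L ⊗[R] Localization.AtPrime q) :=
      Groth.Agent.FlatLoc6.isNoetherianRing_baseChange_ess R (Localization.AtPrime q) L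
    by_cases hu : ∀ a : p.primeCompl, IsUnit (algebraMap R L a)
    · letI : Algebra (Localization.AtPrime p) L := (IsLocalization.lift hu).toAlgebra
      haveI : IsScalarTower R (Localization.AtPrime p) L :=
        IsScalarTower.of_algebraMap_eq fun a => (IsLocalization.lift_eq hu a).symm
      haveI := h L (Algebra.EssFiniteType.of_comp R (Localization.AtPrime p) L)
      exact IsRegularRing.of_ringEquiv (R := L ⊗[Localization.AtPrime p] Localization.AtPrime q)
        (IsLocalization.algebraTensorEquiv p.primeCompl (Localization.AtPrime p) L (Localization.AtPrime q)).toRingEquiv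
    · push Not at hu
      obtain ⟨a, ha⟩ := hu
      have ha0 : algebraMap R L a = 0 := by
        by_contra h0
        exact ha (Ne.isUnit h0)
      rw [isRegularRing_iff]
      intro Q _
      refine absurd ?_ (Ideal.IsPrime.ne_top (I := Q) inferInstance)
      refine Ideal.eq_top_of_isUnit_mem Q Q.zero_mem ?_
      have hu1 : IsUnit (algebraMap R (L ⊗[R] Localization.AtPrime q) a) := by
        rw [← (Algebra.TensorProduct.includeRight (R := R) (A := L) (B := Localization.AtPrime q)).commutes]
        refine IsUnit.map _ ?_
        rw [IsScalarTower.algebraMap_apply R (Localization.AtPrime p) (Localization.AtPrime q)]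
        exact (IsLocalization.map_units _ a).map _
      rwa [show algebraMap R (L ⊗[R] Localization.AtPrime q) a = 0 by
        rw [Algebra.TensorProduct.algebraMap_apply, ha0, zero_tmul]] at hu1
  have fwd : CAlg.IsRegularHom R Λ → ∀ (q : Ideal Λ) [q.IsPrime], CAlg.IsRegularHom R (Localization.AtPrime q) :=
    fun h q _ => Groth.Agent.PopescuLib.isRegularHom_localization_target q.primeCompl h
  exact ⟨⟨fun h q _ => (key q).2 (fwd h q),
      fun h => Groth.Agent.PopescuLib.isRegularHom_of_localization_maximal fun n _ => (key n).1 (h n)⟩,
    ⟨fun h n _ => (key n).2 (fwd h n),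
      fun h => Groth.Agent.PopescuLib.isRegularHom_of_localization_maximal fun n _ => (key n).1 (h n)⟩⟩

end Groth.Agent.S9259
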