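import Groth.Statements.S9260
import Mathlib

set_option autoImplicit false
universe u
open CAlg

namespace Groth.Agent.S9260

/-- Suppose a finite group G with n elements acts on a ring R by ring automorphisms, A → R is a ring map
compatible with the action whose image contains the invariants (so that A maps onto R^G), J is an
ideal of A, and x lies in JR. Then ∏_σ (T - σ(x)) is the image of a monic polynomial over A of
degree at most n whose coefficients below degree n all lie in J. (The published statement takes A =
R^G and a polynomial of degree n; this row allows any such A mapping onto R^G and asks degree at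
most n, which is the same when A is nonzero.) -/
theorem result (A R G : Type u) [CommRing A]
    [CommRing R] [Algebra A R] [Group G] [Fintype G] [MulSemiringAction G R] [SMulCommClass G A R]
    [Algebra.IsInvariant A R G] (J : Ideal A) (x : R) (hx : x ∈ Ideal.map (algebraMap A R) J) :
    ∃ P : Polynomial A, P.Monic ∧ P.natDegree ≤ Fintype.card G ∧
      (∀ i : ℕ, i < Fintype.card G → P.coeff i ∈ J) ∧
      Polynomial.map (algebraMap A R) P = ∏ σ : G, (Polynomial.X - Polynomial.C (σ • x)) := by
  classical
  obtain ⟨n, f, g, hx⟩ := Submodule.mem_span_set'.1 hx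
  choose a haJ hag using fun k => (g k).2
  let N := Fintype.card G
  let L : G → MvPolynomial (Fin n) R := fun σ => ∑ k, MvPolynomial.C (σ • f k) * MvPolynomial.X k
  let Q : Polynomial (MvPolynomial (Fin n) R) := ∏ σ : G, (Polynomial.X - Polynomial.C (L σ))
  have hmon : ∀ (i : ℕ) (τ : G), MvPolynomial.map (MulSemiringAction.toRingHom G R τ) (Q.coeff i) = Q.coeff i := by
    intro i τ
    rw [← Polynomial.coeff_map]
    congr 1
    simp only [Q, Polynomial.map_prod, Polynomial.map_sub, Polynomial.map_X, Polynomial.map_C]
    refine Fintype.prod_equiv (Equiv.mulLeft τ) _ _ fun σ => ?_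
    simp [L, mul_smul]
  have hinv : ∀ (i : ℕ) (m : Fin n →₀ ℕ), ∃ c : A, algebraMap A R c = (Q.coeff i).coeff m := by
    intro i m
    refine Algebra.IsInvariant.isInvariant (G := G) _ fun τ => ?_
    have := congrArg (fun p => MvPolynomial.coeff m p) (hmon i τ)
    simpa [MvPolynomial.coeff_map] using this
  choose c hc using hinv
  have h0 : ∀ i, i < N → (Q.coeff i).coeff 0 = 0 := by
    intro i hi
    change MvPolynomial.constantCoeff (Q.coeff i) = 0
    rw [← Polynomial.coeff_map]
    simp only [Q, Polynomial.map_prod, Polynomial.map_sub, Polynomial.map_X, Polynomial.map_C]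
    simp [L, Polynomial.coeff_X_pow, Finset.card_univ]
    exact fun h => absurd h (ne_of_lt hi)
  let q : ℕ → A := fun i => ∑ m ∈ (Q.coeff i).support, c i m * m.prod fun k e => a k ^ e
  have hqJ : ∀ i, i < N → q i ∈ J := by
    intro i hi
    refine Ideal.sum_mem _ fun m hm => Ideal.mul_mem_left _ _ ?_
    have hm0 : m ≠ 0 := fun h => MvPolynomial.mem_support_iff.1 hm (h ▸ h0 i hi)
    obtain ⟨k, hk⟩ := Finsupp.support_nonempty_iff.2 hm0
    rw [Finsupp.prod, ← Finset.mul_prod_erase _ _ hk]
    exact Ideal.mul_mem_right _ _ (Ideal.pow_mem_of_mem _ (haJ k) _ (Nat.pos_of_ne_zero (Finsupp.mem_support_iff.1 hk)))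
  let ev : MvPolynomial (Fin n) R →+* R := MvPolynomial.eval fun k => algebraMap A R (a k)
  have hev : ∀ i, algebraMap A R (q i) = ev (Q.coeff i) := by
    intro i
    simp only [q, ev, map_sum, map_mul, hc, map_finsuppProd, map_pow]
    rw [MvPolynomial.eval_eq]
    simp only [Finsupp.prod]
  have hQ : Q.map ev = ∏ σ : G, (Polynomial.X - Polynomial.C (σ • x)) := by
    simp only [Q, Polynomial.map_prod, Polynomial.map_sub, Polynomial.map_X, Polynomial.map_C]
    refine Finset.prod_congr rfl fun σ _ => ?_
    congr 2
    simp only [ev, L, map_sum, map_mul, MvPolynomial.eval_C, MvPolynomial.eval_X]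
    rw [← hx, Finset.smul_sum]
    refine Finset.sum_congr rfl fun k _ => ?_
    rw [smul_eq_mul, smul_mul', ← hag k, smul_algebraMap]
  by_cases hA : Subsingleton A
  · haveI := hA
    haveI : Subsingleton R := (algebraMap A R).codomain_trivial
    exact ⟨0, Subsingleton.elim _ _, by simp, fun i _ => by simp, Subsingleton.elim _ _⟩
  haveI := not_subsingleton_iff_nontrivial.1 hA
  let P : Polynomial A := Polynomial.X ^ N + ∑ i ∈ Finset.range N, Polynomial.C (q i) * Polynomial.X ^ i
  have hdeg : (∑ i ∈ Finset.range N, Polynomial.C (q i) * Polynomial.X ^ i).degree < (N : WithBot ℕ) := by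
    refine (Polynomial.degree_sum_le _ _).trans_lt ((Finset.sup_lt_iff (by simp)).2 fun i hi => ?_)
    exact (Polynomial.degree_C_mul_X_pow_le i (q i)).trans_lt (by exact_mod_cast Finset.mem_range.1 hi)
  have hP : P.Monic := Polynomial.monic_X_pow_add hdeg
  have hPdeg : P.natDegree ≤ N := by
    refine Polynomial.natDegree_le_of_degree_le ?_
    exact (Polynomial.degree_add_le _ _).trans (max_le (Polynomial.degree_X_pow_le N) hdeg.le)
  have hcoef : ∀ i, i < N → P.coeff i = q i := by
    intro i hi
    simp [P, Polynomial.coeff_X_pow, hi.ne, Finset.sum_ite_eq, hi]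
  refine ⟨P, hP, hPdeg, fun i hi => by rw [hcoef i hi]; exact hqJ i hi, ?_⟩
  have hmonic : (∏ σ : G, (Polynomial.X - Polynomial.C (σ • x))).Monic :=
    Polynomial.monic_prod_of_monic _ _ fun σ _ => Polynomial.monic_X_sub_C _
  rcases subsingleton_or_nontrivial R with hR | hR
  · exact Subsingleton.elim _ _
  have hd : (∏ σ : G, (Polynomial.X - Polynomial.C (σ • x))).natDegree = N := by
    rw [Polynomial.natDegree_prod_of_monic _ _ fun σ _ => Polynomial.monic_X_sub_C _]
    simp [N]
  ext i
  rcases lt_trichotomy i N with hi | hi | hi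
  · rw [Polynomial.coeff_map, hcoef i hi, hev, ← hQ, Polynomial.coeff_map]
  · subst hi
    have h1 : P.coeff N = 1 := by
      simp [P, Polynomial.coeff_X_pow, Finset.sum_ite_eq]
    have h2 := hmonic.coeff_natDegree
    rw [hd] at h2
    rw [Polynomial.coeff_map, h1, map_one, h2]
  · rw [Polynomial.coeff_map, Polynomial.coeff_eq_zero_of_natDegree_lt (hPdeg.trans_lt hi), map_zero,
      Polynomial.coeff_eq_zero_of_natDegree_lt (hd ▸ hi)]


end Groth.Agent.S9260
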