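import Groth.Statements.S9261
import Mathlib

set_option autoImplicit false
universe u
open CAlg

namespace Groth.Agent.S9261

/-- Let G be a finite group acting on a ring R, S = R^G its ring of invariants (here: S → R injective
with image the invariants) and A a flat S-algebra. Then the map A → A ⊗_S R is injective with image
the invariants of G acting on A ⊗_S R through the second factor; that is, A → (A ⊗_S R)^G is an
isomorphism. -/
theorem result (S R A G : Type u) [CommRing S] [CommRing R] [Algebra S R]
    [FaithfulSMul S R] [Group G] [Finite G] [MulSemiringAction G R] [SMulCommClass G S R]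
    [Algebra.IsInvariant S R G] [CommRing A] [Algebra S A] [Module.Flat S A] :
    Function.Injective (algebraMap A (TensorProduct S A R)) ∧
      ∀ x : TensorProduct S A R,
        (∀ σ : G, Algebra.TensorProduct.map (AlgHom.id S A) (MulSemiringAction.toAlgHom S R σ) x = x) →
          x ∈ Set.range (algebraMap A (TensorProduct S A R)) := by
  classical
  haveI := Fintype.ofFinite G
  have hinj : Function.Injective (algebraMap S R) := FaithfulSMul.algebraMap_injective S R
  have hι : ∀ a : A, algebraMap A (TensorProduct S A R) a =
      LinearMap.lTensor A (Algebra.linearMap S R) ((TensorProduct.rid S A).symm a) := by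
    intro a; simp [Algebra.TensorProduct.algebraMap_apply]
  refine ⟨?_, fun x hx => ?_⟩
  · intro a b hab
    rw [hι, hι] at hab
    exact (TensorProduct.rid S A).symm.injective
      (Module.Flat.lTensor_preserves_injective_linearMap (M := A) (Algebra.linearMap S R) hinj hab)
  · let d : R →ₗ[S] (G → R) := LinearMap.pi fun σ =>
      (MulSemiringAction.toAlgHom S R σ).toLinearMap - LinearMap.id
    have hd : Function.Exact (Algebra.linearMap S R) d := by
      intro r
      constructor
      · intro h
        have h' : ∀ σ : G, σ • r = r := fun σ => sub_eq_zero.1 (congrFun h σ)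
        obtain ⟨s, hs⟩ := Algebra.IsInvariant.isInvariant (A := S) (G := G) r h'
        exact ⟨s, hs⟩
      · rintro ⟨s, rfl⟩
        funext σ
        simp [d, Algebra.algebraMap_eq_smul_one, smul_comm]
    have hex := Module.Flat.lTensor_exact (M := A) hd
    have key : ∀ (σ : G) (y : TensorProduct S A R),
        TensorProduct.piRight S S A (fun _ : G => R) (LinearMap.lTensor A d y) σ =
          Algebra.TensorProduct.map (AlgHom.id S A) (MulSemiringAction.toAlgHom S R σ) y - y := by
      intro σ y
      induction y using TensorProduct.induction_on with
      | zero => simp
      | tmul a r => simp [d, TensorProduct.tmul_sub]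
      | add p q hp hq => simp only [map_add, Pi.add_apply, hp, hq]; abel
    have h0 : LinearMap.lTensor A d x = 0 := by
      apply (TensorProduct.piRight S S A (fun _ : G => R)).injective
      funext σ
      rw [key, map_zero, Pi.zero_apply, hx σ, sub_self]
    obtain ⟨z, hz⟩ := (hex x).1 h0
    refine ⟨TensorProduct.rid S A z, ?_⟩
    rw [hι, LinearEquiv.symm_apply_apply, hz]


end Groth.Agent.S9261
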