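import Groth.Statements.S9267
import Groth.Agent.H9Misc.KonLib
import Groth.Agent.S9264
import Groth.Agent.S9265
import Mathlib

set_option autoImplicit false
universe u
attribute [local instance] HasDerivedCategory.standard
open CategoryTheory
open DerCA

namespace Groth.Agent.S9267

/-- For a Koszul-regular sequence f_1, ..., f_r in a ring R, the extended alternating Cech complex R → ⊕
R_{f_i} → ... → R_{f_1 ... f_r} has cohomology only in degree r. -/
theorem result (R : Type u) [CommRing R] (fs : List R)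
    (hfs : LCI.IsKoszulRegularSeq R fs) (q : ℤ) (hq : q ≠ (fs.length : ℤ)) :
    Limits.IsZero (DerCA.extCechH fs (ModuleCat.of R R) q) := by
  by_contra hne
  have hrange : 0 ≤ q ∧ q < (fs.length : ℤ) := by
    refine ⟨?_, ?_⟩ <;> by_contra hc <;>
      exact hne (Groth.Agent.S9264.result R fs (ModuleCat.of R R) q (by omega))
  classical
  have hex : ∃ m : ℕ, ¬ Limits.IsZero (DerCA.extCechH fs (ModuleCat.of R R) (m : ℤ)) :=
    ⟨q.toNat, by rwa [Int.toNat_of_nonneg hrange.1]⟩
  let j : ℕ := Nat.find hex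
  have hj : (j : ℤ) ≤ q := by
    have := Nat.find_le (h := hex) (n := q.toNat) (by rwa [Int.toNat_of_nonneg hrange.1])
    change j ≤ q.toNat at this
    omega
  have hlow : ∀ q' < (j : ℤ), Limits.IsZero (DerCA.extCechH fs (ModuleCat.of R R) q') := fun q' hq' => by
    rcases lt_or_ge q' 0 with h | h
    · exact Groth.Agent.S9264.result R fs (ModuleCat.of R R) q' (Or.inl h)
    · by_contra hz
      have := Nat.find_le (h := hex) (n := q'.toNat) (by rwa [Int.toNat_of_nonneg h])
      change j ≤ q'.toNat at this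
      omega
  obtain ⟨-, h2, -⟩ := Groth.Agent.H9Misc.KonLib.lowest (DerCA.extCech (ModuleCat.of R R) fs) (j : ℤ) hlow
    (Nat.find_spec hex) fs (fun f hf x => by
      obtain ⟨n, -, hn⟩ := Groth.Agent.S9265.result R fs (ModuleCat.of R R) (j : ℤ) x
      exact ⟨n, hn f hf⟩)
  obtain ⟨e1⟩ := Groth.Agent.H9Misc.KonLib.nonempty_homology_iso fs (ModuleCat.of R R) fs (fun g hg => hg)
    ((j : ℤ) - fs.length)
  obtain ⟨e2⟩ := Groth.Agent.H9Misc.KonLib.nonempty_koszul fs
  exact h2 ((hfs _ (by omega)).of_iso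
    (e1 ≪≫ (HomologicalComplex.homologyFunctor (ModuleCat.{u} R) (ComplexShape.up ℤ) _).mapIso e2))

end Groth.Agent.S9267
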