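import Groth.Statements.S9271
import Groth.Agent.QRegBC.Lift

set_option autoImplicit false
universe u
open CAlg

namespace Groth.Agent.S9271

/-- Suppose A' → B' is a flat ring map of finite presentation (smooth maps being one example), and let I
be a locally nilpotent ideal of A', with A = A'/I and B = B'/IB'. Let f'_1, ..., f'_r be elements of
B' whose images f_1, ..., f_r in B form a quasi-regular sequence with B/(f_1, ..., f_r) smooth over
A. Then B'/(f'_1, ..., f'_r) is smooth over A'. -/
theorem result (A' B' : Type u) [CommRing A']
    [CommRing B'] [Algebra A' B'] [Module.Flat A' B'] [Algebra.FinitePresentation A' B']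
    (I : Ideal A') (hI : ∀ x ∈ I, IsNilpotent x) (r : ℕ) (f' : Fin r → B')
    (hq : CAlgX.IsQuasiRegular
      (fun i => Ideal.Quotient.mk (Ideal.map (algebraMap A' B') I) (f' i)))
    (hsm : Algebra.Smooth (A' ⧸ I)
      ((B' ⧸ Ideal.map (algebraMap A' B') I) ⧸
        Ideal.span (Set.range (fun i => Ideal.Quotient.mk (Ideal.map (algebraMap A' B') I) (f' i))))) :
    Algebra.Smooth A' (B' ⧸ Ideal.span (Set.range f')) := by
  exact Groth.Agent.QRegBC.smooth_lift I f' hI hq hsm


end Groth.Agent.S9271
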