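import Groth.Statements.S9275
import Mathlib.RingTheory.RingHom.Etale
import Mathlib.RingTheory.Etale.Basic
import Mathlib.RingTheory.Localization.Away.Basic

set_option autoImplicit false
universe u
open EtAlg

namespace Groth.Agent.S9275

/-- Let A → B be a ring map and J an ideal of B such that A → B is étale at every prime of V(J), in the
sense that every prime q ⊇ J has some h ∉ q with A → B_h étale. Then there is g ∈ B mapping to a
unit of B/J such that A → B_g is étale. -/
theorem result (A B : Type u) [CommRing A] [CommRing B]
    [Algebra A B] (J : Ideal B)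
    (h : ∀ (q : Ideal B) [q.IsPrime], J ≤ q → ∃ h : B, h ∉ q ∧ Algebra.Etale A (Localization.Away h)) :
    ∃ g : B, IsUnit (Ideal.Quotient.mk J g) ∧ Algebra.Etale A (Localization.Away g) := by
  classical
  let H : Set B := {h | Algebra.Etale A (Localization.Away h)}
  have htop : Ideal.span H ⊔ J = ⊤ := by
    by_contra hne
    obtain ⟨m, hm, hle⟩ := Ideal.exists_le_maximal _ hne
    have := hm.isPrime
    obtain ⟨k, hk, hke⟩ := h m (le_trans le_sup_right hle)
    exact hk (hle (Ideal.mem_sup_left (Ideal.subset_span hke)))
  obtain ⟨g, hg, b, hb, hgb⟩ := Submodule.mem_sup.mp (htop ▸ Submodule.mem_top : (1 : B) ∈ Ideal.span H ⊔ J)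
  refine ⟨g, ?_, ?_⟩
  · rw [show Ideal.Quotient.mk J g = 1 from ?_]
    · exact isUnit_one
    rw [← map_one (Ideal.Quotient.mk J), Ideal.Quotient.eq, show g - 1 = -b by rw [← hgb]; ring]
    exact neg_mem hb
  let L := Localization.Away g
  refine RingHom.etale_algebraMap.mp (RingHom.Etale.ofLocalizationSpanTarget (algebraMap A L)
    (algebraMap B L '' H) ?_ ?_)
  · rw [← Ideal.map_span]
    exact Ideal.eq_top_of_isUnit_mem _ (Ideal.mem_map_of_mem _ hg) (IsLocalization.Away.algebraMap_isUnit g)
  rintro ⟨_, k, hk, rfl⟩
  have : Algebra.Etale A (Localization.Away k) := hk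
  let U := Localization.Away (algebraMap B L k)
  let V := Localization.Away (algebraMap B (Localization.Away k) g)
  have h1 : IsLocalization.Away (g * k) U := IsLocalization.Away.mul' L U g k
  have h2 : IsLocalization.Away (g * k) V := IsLocalization.Away.mul (Localization.Away k) V k g
  have : Algebra.Etale (Localization.Away k) V :=
    Algebra.Etale.of_isLocalizationAway (algebraMap B (Localization.Away k) g)
  have : Algebra.Etale A V := Algebra.Etale.comp A (Localization.Away k) V
  have hU : Algebra.Etale A U :=
    Algebra.Etale.of_equiv ((IsLocalization.algEquiv (Submonoid.powers (g * k)) V U).restrictScalars A)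
  have := RingHom.etale_algebraMap.mpr hU
  rw [IsScalarTower.algebraMap_eq A L U] at this
  exact this


end Groth.Agent.S9275
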