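import Groth.Statements.S9278
import Groth.Agent.McCoy.Basic

set_option autoImplicit false
universe u
open CAlgX

namespace Groth.Agent.S9278

/-- Let R be a Noetherian local ring and φ : R^m → R^n a map of finite free modules with matrix M. Then
φ is injective if and only if the rank of M is m and the determinantal ideal I(M) is the unit ideal
or contains a nonzerodivisor. -/
theorem result (R : Type u) [CommRing R]
    [IsLocalRing R] [IsNoetherianRing R] (m n : ℕ) (M : Matrix (Fin n) (Fin m) R) :
    Function.Injective (Matrix.mulVecLin M) ↔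
      CAlgX.matrixRank M = m ∧ (CAlgX.detIdeal M = ⊤ ∨ ∃ a ∈ CAlgX.detIdeal M, IsRegular a) := by
  rw [McCoy.injective_iff_rank M]
  refine and_congr_right fun _ => ⟨fun h => ?_, ?_⟩
  · obtain ⟨a, ha, ha'⟩ := McCoy.exists_nonZeroDivisor h
    exact Or.inr ⟨a, ha, isRegular_iff_mem_nonZeroDivisors.2 ha'⟩
  · rintro (h | ⟨a, ha, ha'⟩)
    · rw [h, eq_bot_iff]
      intro x hx
      simpa using Submodule.mem_annihilator.1 hx 1 Submodule.mem_top
    · rw [eq_bot_iff]
      intro x hx
      have := Submodule.mem_annihilator.1 hx a ha
      rw [smul_eq_mul] at this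
      exact Ideal.mem_bot.2 (ha'.right (show x * a = 0 * a by rw [this, zero_mul]))


end Groth.Agent.S9278
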