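import Groth.Statements.S9282
import Mathlib

set_option autoImplicit false
universe u
open CAlg

namespace Groth.Agent.S9282
open IsLocalRing in
theorem h1map_inj (A B : Type u) [CommRing A] [CommRing B] [IsLocalRing B] [Algebra A B]
    (hfs : CAlgX.IsAdicFormallySmooth A B (maximalIdeal B)) :
    Function.Injective (Algebra.H1Cotangent.map A B (ResidueField B) (ResidueField B)) := by
  let P := Algebra.Generators.self A (ResidueField B)
  let P' := Algebra.Generators.self B (ResidueField B)
  let I : Ideal (MvPolynomial (ResidueField B) A) := RingHom.ker (MvPolynomial.aeval (R := A) (id : ResidueField B → _))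
  let I' : Ideal (MvPolynomial (ResidueField B) B) := RingHom.ker (MvPolynomial.aeval (R := B) (id : ResidueField B → _))
  let J : Ideal (MvPolynomial (ResidueField B) A ⧸ I ^ 2) := I.map (Ideal.Quotient.mk (I ^ 2))
  have hJ : J ^ 2 = ⊥ := by
    rw [← Ideal.map_pow, Ideal.map_eq_bot_iff_le_ker, Ideal.mk_ker]
  let g : MvPolynomial (ResidueField B) A →ₐ[A] ResidueField B := MvPolynomial.aeval id
  have hg : Function.Surjective g := fun c => ⟨MvPolynomial.X c, MvPolynomial.aeval_X _ c⟩
  let ψ0 := AlgHom.liftOfSurjective (C := (MvPolynomial (ResidueField B) A ⧸ I ^ 2) ⧸ J) g hg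
    ((Ideal.Quotient.mkₐ A J).comp (Ideal.Quotient.mkₐ A (I ^ 2)))
      (by intro x hx; exact show Ideal.Quotient.mk J (Ideal.Quotient.mk (I ^ 2) x) = 0 from
        Ideal.Quotient.eq_zero_iff_mem.2 (Ideal.mem_map_of_mem (Ideal.Quotient.mk (I ^ 2)) hx))
  have hψ0 : ∀ x, ψ0 (g x) = Ideal.Quotient.mk J (Ideal.Quotient.mk (I ^ 2) x) := fun x => by simp [ψ0]
  obtain ⟨χ, hχ⟩ := hfs _ J hJ (ψ0.comp (IsScalarTower.toAlgHom A B _)) ⟨1, fun y hy => by
    rw [AlgHom.comp_apply, IsScalarTower.toAlgHom_apply,
      show algebraMap B (ResidueField B) y = 0 from (residue_eq_zero_iff y).2 (by simpa using hy), map_zero]⟩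
  let φ : MvPolynomial (ResidueField B) B →+* MvPolynomial (ResidueField B) A ⧸ I ^ 2 :=
    MvPolynomial.eval₂Hom χ.toRingHom (fun c => Ideal.Quotient.mk _ (MvPolynomial.X c))
  have hφJ : ∀ y, Ideal.Quotient.mk J (φ y) = ψ0 (MvPolynomial.aeval (R := B) (id : ResidueField B → _) y) := by
    intro y
    induction y using MvPolynomial.induction_on with
    | C b =>
      simp only [φ, MvPolynomial.eval₂Hom_C, MvPolynomial.aeval_C]
      exact AlgHom.congr_fun hχ b
    | add a b ha hb => simp only [map_add, ha, hb]
    | mul_X a c ha =>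
      simp only [map_mul, ha, MvPolynomial.aeval_X]
      congr 1
      rw [show φ (MvPolynomial.X c) = Ideal.Quotient.mk _ (MvPolynomial.X c) from
        MvPolynomial.eval₂Hom_X' _ _ _, ← hψ0]
      simp [g]
  have hφI : ∀ y ∈ I' ^ 2, φ y = 0 := fun y hy => by
    have h1 : I'.map φ ≤ J := Ideal.map_le_iff_le_comap.2 fun z hz => Ideal.mem_comap.2 <| (Ideal.Quotient.eq_zero_iff_mem (I := J)).1 (by
      rw [hφJ, show MvPolynomial.aeval (R := B) (id : ResidueField B → _) z = 0 from hz, map_zero])
    have h2 := (Ideal.map_pow φ I' 2).trans_le (Ideal.pow_right_mono h1 2) (Ideal.mem_map_of_mem φ hy)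
    simpa [hJ] using h2
  rw [injective_iff_map_eq_zero]
  intro z hz
  obtain ⟨x, hx⟩ := Algebra.Extension.Cotangent.mk_surjective z.1
  have hz' := congrArg Subtype.val hz
  rw [Algebra.H1Cotangent.map, Algebra.Extension.H1Cotangent.map_apply_coe, ← hx,
    Algebra.Extension.Cotangent.map_mk] at hz'
  replace hz' := congrArg Algebra.Extension.Cotangent.val hz'
  rw [Algebra.Extension.Cotangent.val_mk] at hz'
  replace hz' := hz'.trans (Algebra.Extension.Cotangent.val_zero)
  rw [Ideal.toCotangent_eq_zero] at hz'
  let mm : MvPolynomial (ResidueField B) A →+* MvPolynomial (ResidueField B) B :=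
    (Algebra.Generators.defaultHom P P').toExtensionHom.toRingHom
  have hC : ∀ a : A, φ (mm (MvPolynomial.C a)) = Ideal.Quotient.mk (I ^ 2) (MvPolynomial.C a) := fun a => by
    have : mm (MvPolynomial.C a) = MvPolynomial.C (algebraMap A B a) := by
      simp [mm, P, P', Algebra.Generators.Hom.toExtensionHom, Algebra.Generators.Hom.toAlgHom]
    rw [this]
    exact (MvPolynomial.eval₂Hom_C _ _ _).trans (χ.commutes a)
  have hX : ∀ c, φ (mm (MvPolynomial.X c)) = Ideal.Quotient.mk (I ^ 2) (MvPolynomial.X c) := fun c => by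
    have : mm (MvPolynomial.X c) = MvPolynomial.X c := by
      simp [mm, P, P', Algebra.Generators.Hom.toExtensionHom, Algebra.Generators.Hom.toAlgHom,
        Algebra.Generators.defaultHom, Algebra.Generators.self]
      rfl
    rw [this]
    exact MvPolynomial.eval₂Hom_X' _ _ _
  have hφx : φ.comp mm = Ideal.Quotient.mk (I ^ 2) := MvPolynomial.ringHom_ext hC hX
  have hx2 : (show MvPolynomial (ResidueField B) A from x.1) ∈ I ^ 2 := by
    rw [← Ideal.Quotient.eq_zero_iff_mem, ← hφx]
    exact hφI _ hz'
  apply Subtype.ext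
  rw [← hx]
  refine Algebra.Extension.Cotangent.ext ?_
  refine Eq.trans ?_ Algebra.Extension.Cotangent.val_zero.symm
  rw [Algebra.Extension.Cotangent.val_mk, Ideal.toCotangent_eq_zero]
  exact hx2


/-- Let A → B be a local ring map between Noetherian local rings that is formally smooth for the adic
topology of the maximal ideal of B, and write K for the residue field of B. In the Jacobi–Zariski
sequence attached to A → B → K, the map from H_1(NL_{K/A}) to H_1(NL_{K/B}), which is m_B/m_B^2, is
injective; the remaining terms are exact in general, so that sequence starts with a zero. -/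
theorem result (A B : Type u) [CommRing A]
    [CommRing B] [IsLocalRing A] [IsLocalRing B] [IsNoetherianRing A] [IsNoetherianRing B]
    [Algebra A B] [IsLocalHom (algebraMap A B)]
    (hfs : CAlgX.IsAdicFormallySmooth A B (IsLocalRing.maximalIdeal B)) :
    Function.Injective
      (Algebra.H1Cotangent.map A B (IsLocalRing.ResidueField B) (IsLocalRing.ResidueField B)) := by
  exact h1map_inj A B hfs


end Groth.Agent.S9282
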