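import Groth.Statements.S9283
import Mathlib

set_option autoImplicit false
universe u
open CAlg

namespace Groth.Agent.S9283

/-- Let R be an auto-associated ring, that is, a local ring whose maximal ideal is weakly associated to
R: some nonzero x ∈ R is killed by a power of every element of the maximal ideal. Then every proper
finitely generated ideal of R has a nonzero annihilator. -/
theorem result (R : Type u) [CommRing R] [IsLocalRing R]
    (h : ∃ x : R, x ≠ 0 ∧ ∀ f ∈ IsLocalRing.maximalIdeal R, ∃ n : ℕ, f ^ n * x = 0)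
    (I : Ideal R) (hI : I.FG) (hI' : I ≠ ⊤) : I.annihilator ≠ ⊥ := by
  classical
  obtain ⟨x, hx0, hx⟩ := h
  have hle : I ≤ IsLocalRing.maximalIdeal R := IsLocalRing.le_maximalIdeal hI'
  have hrad : I ≤ (Submodule.annihilator (Submodule.span R {x})).radical := by
    intro f hf
    obtain ⟨n, hn⟩ := hx f (hle hf)
    exact ⟨n, by rw [Submodule.mem_annihilator_span_singleton, smul_eq_mul, hn]⟩
  obtain ⟨N, hN⟩ := Ideal.exists_pow_le_of_le_radical_of_fg hrad hI
  have hex : ∃ k, ∀ z ∈ I ^ k, z * x = 0 :=
    ⟨N, fun z hz => by simpa [Submodule.mem_annihilator_span_singleton] using hN hz⟩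
  obtain ⟨k, hk⟩ : ∃ k, Nat.find hex = k + 1 := by
    refine Nat.exists_eq_succ_of_ne_zero fun h0 => hx0 ?_
    simpa using Nat.find_spec hex 1 (by rw [h0, pow_zero, Ideal.one_eq_top]; trivial)
  have hlt := Nat.find_min hex (show k < Nat.find hex by omega)
  push Not at hlt
  obtain ⟨z, hz, hzx⟩ := hlt
  refine (Submodule.ne_bot_iff _).2 ⟨z * x, ?_, hzx⟩
  rw [Submodule.mem_annihilator]
  intro y hy
  rw [smul_eq_mul, mul_right_comm]
  exact Nat.find_spec hex (z * y) (by rw [hk, pow_succ]; exact Ideal.mul_mem_mul hz hy)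


end Groth.Agent.S9283
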