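import Groth.Statements.S9284
import Groth.Agent.McCoy.Basic

set_option autoImplicit false
universe u
open CAlgX

namespace Groth.Agent.S9284

/-- Let R be a ring such that every proper finitely generated ideal of R has a nonzero annihilator, and
let u : N → M be an R-linear map between projective R-modules. Then u stays injective after
tensoring with every R-module exactly when u is injective. -/
theorem result (R : Type u) [CommRing R]
    (hP : (∀ I : Ideal R, I.FG → I ≠ ⊤ → I.annihilator ≠ ⊥))
    (N M : Type u) [AddCommGroup N] [Module R N] [Module.Projective R N] [AddCommGroup M]
    [Module R M] [Module.Projective R M] (u : N →ₗ[R] M) :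
    CAlgX.UniversallyInjective R u ↔ Function.Injective u := by
  classical
  constructor
  · intro h
    have h1 := h R
    intro a b hab
    have h2 : (TensorProduct.rid R N).symm a = (TensorProduct.rid R N).symm b := by
      refine h1 ?_
      simp [hab]
    exact (TensorProduct.rid R N).symm.injective h2
  · intro hu Q _ _
    rw [injective_iff_map_eq_zero]
    intro z hz
    obtain ⟨S, hS⟩ := TensorProduct.exists_finset z
    obtain ⟨L, hL⟩ := McCoy.exists_partial_retraction hP u hu (S.image Prod.fst)
    have h1 : L.rTensor Q (u.rTensor Q z) = z := by
      rw [hS, map_sum, map_sum]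
      refine Finset.sum_congr rfl fun i hi => ?_
      rw [LinearMap.rTensor_tmul, LinearMap.rTensor_tmul, hL _ (Finset.mem_image_of_mem _ hi)]
    rw [← h1, hz, map_zero]


end Groth.Agent.S9284
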