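import Groth.Statements.S9285
import Groth.Agent.McCoy.Basic

set_option autoImplicit false
universe u
open CAlg

namespace Groth.Agent.S9285

/-- A ring R has the property that every proper finitely generated ideal has a nonzero annihilator if
and only if every injective linear map R → R^n admits a retraction. -/
theorem result (R : Type u) [CommRing R] :
    (∀ I : Ideal R, I.FG → I ≠ ⊤ → I.annihilator ≠ ⊥) ↔
      ∀ (n : ℕ) (u : R →ₗ[R] (Fin n → R)), Function.Injective u →
        ∃ v : (Fin n → R) →ₗ[R] R, v.comp u = LinearMap.id := by
  constructor
  · intro hP n u hu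
    have hf : Function.Injective (u ∘ₗ LinearMap.proj (R := R) (φ := fun _ : Fin 1 => R) 0) := by
      intro a b hab
      funext i
      rw [Fin.fin_one_eq_zero i]
      exact hu hab
    obtain ⟨L, hL⟩ := McCoy.exists_retraction_free hP _ hf
    refine ⟨LinearMap.proj 0 ∘ₗ L, LinearMap.ext fun x => ?_⟩
    exact congrFun (LinearMap.congr_fun hL (fun _ => x)) 0
  · intro h I hI hne hann
    obtain ⟨s, hs⟩ := hI
    apply hne
    let e := s.equivFin.symm
    let a : Fin s.card → R := fun i => (e i : R)
    let u : R →ₗ[R] (Fin s.card → R) := LinearMap.toSpanSingleton R _ a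
    have hu : Function.Injective u := by
      rw [injective_iff_map_eq_zero]
      intro x hx
      have hmem : x ∈ I.annihilator := by
        rw [← hs, Submodule.mem_annihilator_span]
        intro y
        obtain ⟨i, hi⟩ := e.surjective y
        have := congrFun hx i
        simpa [u, a, hi] using this
      rw [hann] at hmem
      simpa using hmem
    obtain ⟨v, hv⟩ := h _ u hu
    rw [Ideal.eq_top_iff_one]
    have h1 : v a = 1 := by simpa [u] using LinearMap.congr_fun hv 1
    rw [← h1, pi_eq_sum_univ' a, map_sum]
    refine Ideal.sum_mem _ fun i _ => ?_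
    rw [map_smul, smul_eq_mul]
    exact I.mul_mem_right _ (hs ▸ Submodule.subset_span (e i).2)


end Groth.Agent.S9285
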