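import Groth.Statements.S9289
import Groth.Agent.PopescuLib.SchemePoint

set_option autoImplicit false
universe u
open CAlg

namespace Groth.Agent.S9289

/-- Let R and R' be Noetherian rings with R' of finite type over R and quasi-finite at the prime p' of
R', lying over p. If R_p has geometrically regular formal fibres, so does R'_{p'}; stated as: if the
completion map of R_p is regular, so is that of R'_{p'}. -/
theorem result (R R' : Type u) [CommRing R]
    [CommRing R'] [IsNoetherianRing R] [IsNoetherianRing R'] [Algebra R R'] [Algebra.FiniteType R R']
    (p' : Ideal R') [p'.IsPrime] [Algebra.QuasiFiniteAt R p']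
    (h : CAlg.IsRegularHom (Localization.AtPrime (Ideal.comap (algebraMap R R') p'))
      (AdicCompletion (IsLocalRing.maximalIdeal (Localization.AtPrime (Ideal.comap (algebraMap R R') p')))
        (Localization.AtPrime (Ideal.comap (algebraMap R R') p')))) :
    CAlg.IsRegularHom (Localization.AtPrime p')
      (AdicCompletion (IsLocalRing.maximalIdeal (Localization.AtPrime p')) (Localization.AtPrime p')) := by
  let p := Ideal.comap (algebraMap R R') p'
  haveI : IsNoetherianRing (Localization.AtPrime p) := IsLocalization.isNoetherianRing p.primeCompl _ inferInstance
  refine PopescuLib.regular_cpl_of_essFiniteType (R := R) p (Localization.AtPrime p) ?_ p' le_rfl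
  refine PopescuLib.isGRing_of_maximal fun m hm => ?_
  obtain rfl := IsLocalRing.eq_maximalIdeal hm
  haveI : IsNoetherianRing (Localization.AtPrime (IsLocalRing.maximalIdeal (Localization.AtPrime p))) :=
    IsLocalization.isNoetherianRing (IsLocalRing.maximalIdeal (Localization.AtPrime p)).primeCompl _ inferInstance
  exact PopescuLib.regular_cpl_of_ringEquiv
    (IsLocalization.atUnits (Localization.AtPrime p) (IsLocalRing.maximalIdeal (Localization.AtPrime p)).primeCompl
      (fun u hu => IsLocalRing.notMem_maximalIdeal.mp hu) :
      Localization.AtPrime p ≃ₐ[Localization.AtPrime p] Localization.AtPrime (IsLocalRing.maximalIdeal (Localization.AtPrime p))).toRingEquiv h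

end Groth.Agent.S9289
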