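import Groth.Statements.S9291
import Groth.Agent.Hensel.EtaleNbhdLift
-- import your own Groth.Agent.* helpers here

set_option autoImplicit false
universe u
open EtAlg

namespace Groth.Agent.S9291

/-- Let A be a ring, I an ideal and u a unit of A/I. Then there is an étale ring map A → A' such that
A/I → A'/IA' is an isomorphism, together with a unit of A' mapping to the image of u. -/
theorem result (A : Type u) [CommRing A] (I : Ideal A) (u : (A ⧸ I)ˣ) :
    ∃ (A' : Type u) (_ : CommRing A') (_ : Algebra A A'), Algebra.Etale A A' ∧
      Function.Bijective (Ideal.quotientMap (Ideal.map (algebraMap A A') I) (algebraMap A A')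
        Ideal.le_comap_map) ∧
      ∃ u' : A'ˣ, Ideal.Quotient.mk (Ideal.map (algebraMap A A') I) (u' : A') =
        Ideal.quotientMap (Ideal.map (algebraMap A A') I) (algebraMap A A') Ideal.le_comap_map
          (u : A ⧸ I) := by
  exact Groth.Agent.Hensel.exists_etale_lift_unit' I u

end Groth.Agent.S9291
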