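import Groth.Statements.S9292
import Groth.Agent.Hensel.EtaleNbhdLift
-- import your own Groth.Agent.* helpers here

set_option autoImplicit false
universe u
open EtAlg

namespace Groth.Agent.S9292

/-- Let A be a ring, I an ideal, and e_1, ..., e_n a complete system of orthogonal idempotents of A/I
(equivalently a finite disjoint open covering of Spec(A/I)). Then one can find an A-algebra A' that
is étale over A, such that the induced map A/I → A'/IA' is bijective, together with a complete
system of orthogonal idempotents of A' lifting the e_j. -/
theorem result (A : Type u) [CommRing A] (I : Ideal A)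
    (n : ℕ) (e : Fin n → A ⧸ I) (he : CompleteOrthogonalIdempotents e) :
    ∃ (A' : Type u) (_ : CommRing A') (_ : Algebra A A'), Algebra.Etale A A' ∧
      Function.Bijective (Ideal.quotientMap (Ideal.map (algebraMap A A') I) (algebraMap A A')
        Ideal.le_comap_map) ∧
      ∃ e' : Fin n → A', CompleteOrthogonalIdempotents e' ∧
        ∀ j, Ideal.Quotient.mk (Ideal.map (algebraMap A A') I) (e' j) =
          Ideal.quotientMap (Ideal.map (algebraMap A A') I) (algebraMap A A') Ideal.le_comap_map
            (e j) := by
  exact Groth.Agent.Hensel.exists_etale_lift_idempotents' I e he

end Groth.Agent.S9292
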