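import Groth.Statements.S9293
import Groth.Agent.FlatLoc6.BaseChangeEss

set_option autoImplicit false
universe u
open CAlg

namespace Groth.Agent.S9293

/-- If R → Λ is a regular ring map and R' is an R-algebra of finite type, then R' → R' ⊗_R Λ is again
regular. -/
theorem result (R Λ R' : Type u) [CommRing R] [CommRing Λ] [CommRing R']
    [Algebra R Λ] [Algebra R R'] [Algebra.FiniteType R R'] (h : CAlg.IsRegularHom R Λ) :
    CAlg.IsRegularHom R' (TensorProduct R R' Λ) := by
  haveI := h.1
  refine ⟨inferInstance, fun p' _ => ?_⟩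
  obtain ⟨_, _⟩ := Groth.Agent.FlatLoc6.exists_residueAlgebra (L := p'.ResidueField) (p'.comap (algebraMap R R'))
    (Groth.Agent.FlatLoc6.ker_algebraMap_over p' p'.ResidueField)
  have hess : ∀ (L : Type u) [Field L] [Algebra p'.ResidueField L] [Module.Finite p'.ResidueField L]
      [Algebra R L] [IsScalarTower R p'.ResidueField L] [Algebra (p'.comap (algebraMap R R')).ResidueField L]
      [IsScalarTower R (p'.comap (algebraMap R R')).ResidueField L],
      Algebra.EssFiniteType (p'.comap (algebraMap R R')).ResidueField L := by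
    intro L _ _ _ _ _ _ _
    haveI : Algebra.EssFiniteType R p'.ResidueField := Algebra.EssFiniteType.comp R R' _
    haveI : Algebra.EssFiniteType R L := Algebra.EssFiniteType.comp R p'.ResidueField L
    exact Algebra.EssFiniteType.of_comp R (p'.comap (algebraMap R R')).ResidueField L
  haveI := hess p'.ResidueField
  haveI := (h.2 (p'.comap (algebraMap R R'))).1
  obtain ⟨e⟩ := Groth.Agent.FlatLoc6.fiber_baseChange_equiv R Λ R' p' p'.ResidueField (p'.comap (algebraMap R R'))
  haveI : IsNoetherianRing (TensorProduct (p'.comap (algebraMap R R')).ResidueField p'.ResidueField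
      ((p'.comap (algebraMap R R')).Fiber Λ)) := by
    haveI : IsNoetherianRing (TensorProduct (p'.comap (algebraMap R R')).ResidueField
        ((p'.comap (algebraMap R R')).Fiber Λ) p'.ResidueField) :=
      Algebra.EssFiniteType.isNoetherianRing ((p'.comap (algebraMap R R')).Fiber Λ)
        (TensorProduct (p'.comap (algebraMap R R')).ResidueField ((p'.comap (algebraMap R R')).Fiber Λ) p'.ResidueField)
    exact isNoetherianRing_of_ringEquiv _ (Algebra.TensorProduct.comm _ _ _).toRingEquiv
  refine ⟨isNoetherianRing_of_ringEquiv _ (e.symm.trans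
    (Algebra.TensorProduct.lid p'.ResidueField (p'.Fiber (TensorProduct R R' Λ))).toRingEquiv), fun L _ _ hL => ?_⟩
  obtain ⟨_, _, _, _⟩ := Groth.Agent.FlatLoc6.exists_instances R R' p' L
  obtain ⟨e'⟩ := Groth.Agent.FlatLoc6.fiber_baseChange_equiv R Λ R' p' L (p'.comap (algebraMap R R'))
  haveI := hess L
  haveI := Groth.Agent.FlatLoc6.regular_tensor_of_geometricallyRegular (h.2 (p'.comap (algebraMap R R'))).2 L
  exact IsRegularRing.of_ringEquiv
    (R := TensorProduct (p'.comap (algebraMap R R')).ResidueField L ((p'.comap (algebraMap R R')).Fiber Λ)) e'.symm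

end Groth.Agent.S9293
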