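import Groth.Statements.S9294
import Groth.Agent.FlatLoc6.GeomComp

set_option autoImplicit false
universe u
open CAlg

namespace Groth.Agent.S9294

/-- If A → B and B → C are regular ring maps and every fibre ring of the composite A → C is Noetherian,
the composite is regular. -/
theorem result (A B C : Type u) [CommRing A] [CommRing B] [CommRing C]
    [Algebra A B] [Algebra B C] [Algebra A C] [IsScalarTower A B C]
    (hAB : CAlg.IsRegularHom A B) (hBC : CAlg.IsRegularHom B C)
    (hN : ∀ (p : Ideal A) [p.IsPrime], IsNoetherianRing (p.Fiber C)) :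
    CAlg.IsRegularHom A C := by
  classical
  haveI := hAB.1
  haveI := hBC.1
  refine ⟨Module.Flat.trans A B C, fun p _ => ⟨hN p, fun L _ _ hL => ?_⟩⟩
  letI : Algebra A L := ((algebraMap p.ResidueField L).comp (algebraMap A p.ResidueField)).toAlgebra
  haveI : IsScalarTower A p.ResidueField L := IsScalarTower.of_algebraMap_eq' rfl
  haveI : Algebra.EssFiniteType A L := Algebra.EssFiniteType.comp A p.ResidueField L
  haveI := (hAB.2 p).1
  haveI := hN p
  haveI := FlatLoc6.isNoetherianRing_tensor_finite p.ResidueField L (p.Fiber B)
  haveI := FlatLoc6.isNoetherianRing_tensor_finite p.ResidueField L (p.Fiber C)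
  haveI : IsNoetherianRing (TensorProduct A B L) :=
    isNoetherianRing_of_ringEquiv _ (FlatLoc6.baseEquiv A B p L)
  haveI := (hAB.2 p).2 L hL
  haveI : IsRegularRing (TensorProduct A B L) :=
    IsRegularRing.of_ringEquiv (R := TensorProduct p.ResidueField L (p.Fiber B)) (FlatLoc6.baseEquiv A B p L)
  haveI : IsNoetherianRing (TensorProduct B (TensorProduct A B L) C) :=
    isNoetherianRing_of_ringEquiv _ (FlatLoc6.compEquiv A B C p L).symm
  haveI : IsRegularRing (TensorProduct B (TensorProduct A B L) C) := by
    refine FlatLoc6.regular_of_flat_of_fibres (TensorProduct A B L) _ fun r _ => ?_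
    obtain ⟨_, _, _, _⟩ := FlatLoc6.exists_instances B (TensorProduct A B L) r r.ResidueField
    obtain ⟨e⟩ := FlatLoc6.fiber_baseChange_equiv B C (TensorProduct A B L) r r.ResidueField
      (r.comap (algebraMap B (TensorProduct A B L)))
    haveI := FlatLoc6.essFiniteType_ext B (TensorProduct A B L) r r.ResidueField
      (r.comap (algebraMap B (TensorProduct A B L)))
    haveI := FlatLoc6.regular_tensor_of_geometricallyRegular
      (hBC.2 (r.comap (algebraMap B (TensorProduct A B L)))).2 r.ResidueField
    exact IsRegularRing.of_ringEquiv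
      (R := TensorProduct (r.comap (algebraMap B (TensorProduct A B L))).ResidueField r.ResidueField
        ((r.comap (algebraMap B (TensorProduct A B L))).Fiber C))
      (e.symm.trans (Algebra.TensorProduct.lid r.ResidueField _).toRingEquiv)
  exact IsRegularRing.of_ringEquiv (R := TensorProduct B (TensorProduct A B L) C) (FlatLoc6.compEquiv A B C p L)


end Groth.Agent.S9294
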