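import Groth.Statements.S9297
import Groth.Agent.FlatLoc6.EquidimCat
import Mathlib.RingTheory.Ideal.GoingDown

set_option autoImplicit false
universe u
open EGA4

namespace Groth.Agent.S9297

/-- Let A → B be a flat local homomorphism of Noetherian local rings with B catenary and Spec(B)
equidimensional. Then Spec(B/pB) is equidimensional for every prime p of A. -/
theorem result (A B : Type u) [CommRing A] [CommRing B]
    [IsNoetherianRing A] [IsNoetherianRing B] [IsLocalRing A] [IsLocalRing B] [Algebra A B]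
    [IsLocalHom (algebraMap A B)] [Module.Flat A B] (hcat : CAlg.IsCatenary B) (heq : EGA4.IsEquidim B)
    (p : Ideal A) [p.IsPrime] : EGA4.IsEquidim (B ⧸ Ideal.map (algebraMap A B) p) := by
    let I := Ideal.map (algebraMap A B) p
    have hIm : I ≤ IsLocalRing.maximalIdeal B :=
      (Ideal.map_mono (IsLocalRing.le_maximalIdeal (Ideal.IsPrime.ne_top ‹_›))).trans
        (IsLocalRing.map_maximalIdeal_le (algebraMap A B))
    have : Nontrivial (B ⧸ I) := Ideal.Quotient.nontrivial_iff.2
      (ne_top_of_le_ne_top (IsLocalRing.maximalIdeal.isMaximal B).ne_top hIm)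
    let π := Ideal.Quotient.mk I
    have hsur : Function.Surjective π := Ideal.Quotient.mk_surjective
    have key : ∀ P ∈ minimalPrimes (B ⧸ I),
        ringKrullDim ((B ⧸ I) ⧸ P) + (p.height : WithBot ℕ∞) = ringKrullDim B := by
      intro P hP
      haveI := hP.1.1
      have hQ : P.comap π ∈ I.minimalPrimes := by
        rw [Ideal.minimalPrimes_eq_comap]
        exact ⟨P, hP, rfl⟩
      have hover : (P.comap π).comap (algebraMap A B) = p := by
        refine le_antisymm ?_ (Ideal.map_le_iff_le_comap.1 hQ.1.2)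
        obtain ⟨R, hRle, hR, hRp⟩ := Ideal.exists_ideal_le_liesOver_of_le (R := A) (p := p)
          (q := (P.comap π).comap (algebraMap A B)) (P.comap π) (Ideal.map_le_iff_le_comap.1 hQ.1.2)
        have hle2 : P.comap π ≤ R := hQ.2 ⟨hR, Ideal.map_le_iff_le_comap.2 hRp.over.le⟩ hRle
        exact (Ideal.comap_mono hle2).trans hRp.over.ge
      haveI : (P.comap π).LiesOver p := ⟨hover.symm⟩
      have hh := Ideal.height_eq_height_add_of_liesOver_of_hasGoingDown p (P.comap π)
      have h0 : ((P.comap π).map π).height = 0 := by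
        rw [Ideal.map_comap_of_surjective _ hsur, Ideal.height_eq_zero_iff]
        exact hP
      rw [h0, add_zero] at hh
      have e : ringKrullDim ((B ⧸ I) ⧸ P) = ringKrullDim (B ⧸ P.comap π) := by
        refine ringKrullDim_eq_of_ringEquiv ((Ideal.quotEquivOfEq (Ideal.map_comap_of_surjective _ hsur P).symm).trans
          ((DoubleQuot.quotQuotEquivQuotSup I (P.comap π)).trans (Ideal.quotEquivOfEq ?_)))
        exact sup_eq_right.2 hQ.1.2
      rw [e, ← hh, add_comm]
      exact Groth.Agent.FlatLoc6.height_add_ringKrullDim_quotient heq hcat _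
    intro P hP
    refine le_antisymm (ringKrullDim_quotient_le P) ?_
    haveI : Nonempty (PrimeSpectrum (B ⧸ I)) := ⟨⟨P, hP.1.1⟩⟩
    rw [ringKrullDim, Order.krullDim_eq_iSup_coheight_of_nonempty]
    rw [← Groth.Agent.VarDim.coheight_eq_ringKrullDim_quotient ⟨P, hP.1.1⟩, WithBot.coe_le_coe]
    refine iSup_le fun x => ?_
    obtain ⟨R, hR, hRx⟩ := Ideal.exists_minimalPrimes_le (J := x.asIdeal) (bot_le : (⊥ : Ideal (B ⧸ I)) ≤ _)
    refine (Order.coheight_anti (show (⟨R, hR.1.1⟩ : PrimeSpectrum (B ⧸ I)) ≤ x from hRx)).trans (le_of_eq ?_)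
    have h1 := key P hP
    have h2 := key R hR
    rw [← Groth.Agent.VarDim.coheight_eq_ringKrullDim_quotient ⟨P, hP.1.1⟩] at h1
    rw [← Groth.Agent.VarDim.coheight_eq_ringKrullDim_quotient ⟨R, hR.1.1⟩, ← h1, ← WithBot.coe_add,
      ← WithBot.coe_add, WithBot.coe_inj] at h2
    exact (ENat.add_left_injective_of_ne_top (Ideal.height_ne_top (Ideal.IsPrime.ne_top ‹p.IsPrime›))) h2

end Groth.Agent.S9297
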