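import Groth.Statements.S9298
import Groth.Agent.ConormalAlgz.Main

set_option autoImplicit false
universe u
open CAlg

namespace Groth.Agent.S9298

/-- Let A be a Noetherian ring, I an ideal, B a finite type A-algebra and B^ its I-adic completion. Let
π be a surjective ring map from B^ to C, with kernel J, and suppose some power I^c (c ≥ 0) kills the
conormal module J/J^2. Then, compatibly with the maps from A, C is isomorphic to the I-adic
completion of some finite type A-algebra. -/
theorem result (A : Type u) [CommRing A]
    [IsNoetherianRing A] (I : Ideal A) (B : Type u) [CommRing B] [Algebra A B] [Algebra.FiniteType A B]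
    (C : Type u) [CommRing C]
    (π : AdicCompletion (Ideal.map (algebraMap A B) I) B →+* C) (hπ : Function.Surjective π) (c : ℕ)
    (hJ : Ideal.map ((algebraMap B (AdicCompletion (Ideal.map (algebraMap A B) I) B)).comp
        (algebraMap A B)) I ^ c * RingHom.ker π ≤ RingHom.ker π ^ 2) :
    ∃ (D : Type u) (_ : CommRing D) (_ : Algebra A D), Algebra.FiniteType A D ∧
      ∃ e : C ≃+* AdicCompletion (Ideal.map (algebraMap A D) I) D,
        ∀ a : A, e (π (algebraMap B _ (algebraMap A B a))) =
          algebraMap D _ (algebraMap A D a) := by
  haveI : IsNoetherianRing B := Algebra.FiniteType.isNoetherianRing A B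
  rw [← Ideal.map_map] at hJ
  obtain ⟨D, _, _, hD, h⟩ :=
    Groth.Agent.ConormalAlgz.exists_algebraization (I.map (algebraMap A B)) C π hπ c hJ
  letI : Algebra A D := ((algebraMap B D).comp (algebraMap A B)).toAlgebra
  haveI : IsScalarTower A B D := IsScalarTower.of_algebraMap_eq fun _ => rfl
  obtain ⟨e, he⟩ := h (I.map (algebraMap A D)) (by rw [Ideal.map_map, ← IsScalarTower.algebraMap_eq])
  exact ⟨D, inferInstance, inferInstance, Algebra.FiniteType.trans (S := B) inferInstance hD, e,
    fun a => he (algebraMap A B a)⟩


end Groth.Agent.S9298
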