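import Groth.Statements.S9301
import Mathlib

set_option autoImplicit false
universe u
open CAlg

namespace Groth.Agent.S9301
open TensorProduct in
theorem alg_image (A B₀ L : Type u) [CommRing A] [IsDomain A] [CommRing B₀] [Algebra A B₀]
    [Algebra.QuasiFinite A B₀] [CommRing L] [IsDomain L] [Algebra A L] (hinj : Function.Injective (algebraMap A L))
    (g : B₀ →ₐ[A] L) (x : B₀) : IsAlgebraic A (g x) := by
  have : Module.IsTorsionFree A L := Module.isTorsionFree_iff_algebraMap_injective.2 hinj
  letI : Algebra (FractionRing A) (FractionRing L) := FractionRing.liftAlgebra A (FractionRing L)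
  haveI : Module.Finite (FractionRing A) (FractionRing A ⊗[A] B₀) :=
    Module.Finite.of_quasiFinite
  let G : FractionRing A ⊗[A] B₀ →ₐ[FractionRing A] FractionRing L :=
    Algebra.TensorProduct.lift (Algebra.ofId _ _) ((IsScalarTower.toAlgHom A L (FractionRing L)).comp g)
      (fun _ _ => Commute.all _ _)
  have h1 : IsAlgebraic (FractionRing A) (G ((1 : FractionRing A) ⊗ₜ[A] x)) :=
    ((Algebra.IsIntegral.isIntegral ((1 : FractionRing A) ⊗ₜ[A] x)).map G).isAlgebraic
  have h2 : G ((1 : FractionRing A) ⊗ₜ[A] x) = algebraMap L (FractionRing L) (g x) := by simp [G]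
  rw [h2, ← IsFractionRing.isAlgebraic_iff A] at h1
  exact (isAlgebraic_algebraMap_iff (IsFractionRing.injective L (FractionRing L))).1 h1


/-- Let A and B be domains and A → B a flat ring map which is the localization of a quasi-finite ring
map A → B₀ (of finite type with finite fibres). Then every nonzero ideal of B has nonzero preimage
in A. -/
theorem result (A B₀ B : Type u) [CommRing A] [IsDomain A]
    [CommRing B₀] [CommRing B] [IsDomain B] [Algebra A B₀] [Algebra.FiniteType A B₀]
    [Algebra.QuasiFinite A B₀] (S : Submonoid B₀) [Algebra B₀ B] [IsLocalization S B] [Algebra A B]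
    [IsScalarTower A B₀ B] [Module.Flat A B] (J : Ideal B) (hJ : J ≠ ⊥) :
    Ideal.comap (algebraMap A B) J ≠ ⊥ := by
  obtain ⟨b, hb, hb0⟩ : ∃ b ∈ J, b ≠ 0 := by
    by_contra h; push Not at h; exact hJ (eq_bot_iff.2 fun x hx => h x hx)
  have hinj : Function.Injective (algebraMap A B) := by
    rw [injective_iff_map_eq_zero]
    intro a ha
    by_contra ha0
    have : Module.IsTorsionFree A B := inferInstance
    have h1 : a • (1 : B) = a • 0 := by rw [Algebra.smul_def, ha, smul_zero, zero_mul]
    exact one_ne_zero ((smul_right_injective B ha0) h1)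
  obtain ⟨x, s, hbs⟩ := IsLocalization.exists_mk'_eq S b
  have hx : algebraMap B₀ B x ∈ J ∧ algebraMap B₀ B x ≠ 0 := by
    have e : b * algebraMap B₀ B s = algebraMap B₀ B x := by rw [← hbs, IsLocalization.mk'_spec]
    refine ⟨e ▸ J.mul_mem_right _ hb, fun h => hb0 ?_⟩
    rw [h] at e
    exact (IsLocalization.map_units B s).mul_left_eq_zero.1 e
  exact Ideal.comap_ne_bot_of_algebraic_mem hx.2 hx.1
    (alg_image A B₀ B hinj (IsScalarTower.toAlgHom A B₀ B) x)


end Groth.Agent.S9301
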