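import Groth.Statements.S9302
import Groth.Agent.Hensel.Limits
-- import your own Groth.Agent.* helpers here

set_option autoImplicit false
universe u
open CategoryTheory
open EtAlg

namespace Groth.Agent.S9302

/-- Henselian pairs are preserved under limits: for an inverse system (A_j, I_j) of henselian pairs over
a preordered set J, the limit A = lim A_j with the ideal I = lim I_j (elements all of whose
projections lie in the I_j) is a henselian pair. -/
theorem result (J : Type u) [Preorder J] (F : J ⥤ CommRingCat.{u})
    (I : ∀ j : J, Ideal (F.obj j))
    (hI : ∀ (i j : J) (φ : i ⟶ j), Ideal.map (F.map φ).hom (I i) ≤ I j)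
    (h : ∀ j : J, HenselianRing (F.obj j) (I j)) :
    HenselianRing ((Limits.limit F : CommRingCat.{u}) : Type u)
      (⨅ j : J, Ideal.comap (Limits.limit.π F j).hom (I j)) := by
  exact Groth.Agent.Hensel.henselianRing_limit J F I hI h

end Groth.Agent.S9302
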