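import Groth.Statements.S9303
import Mathlib

set_option autoImplicit false
universe u
open CAlg

namespace Groth.Agent.S9303
theorem idem_away {R S : Type*} [CommRing R] [CommRing S] [Algebra R S] {e : R} (he : IsIdempotentElem e)
    [IsLocalization.Away e S] :
    algebraMap R S e = 1 ∧ Function.Surjective (algebraMap R S) ∧
      ∀ x, algebraMap R S x = 0 ↔ e * x = 0 := by
  have h1 : algebraMap R S e = 1 := by
    have hu : IsUnit (algebraMap R S e) := IsLocalization.Away.algebraMap_isUnit e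
    refine hu.mul_left_cancel ?_
    rw [← map_mul, he.eq, mul_one]
  refine ⟨h1, fun z => ?_, fun x => ⟨fun hx => ?_, fun hx => ?_⟩⟩
  · obtain ⟨x, ⟨_, n, rfl⟩, rfl⟩ := IsLocalization.exists_mk'_eq (Submonoid.powers e) z
    refine ⟨x, ?_⟩
    rw [IsLocalization.eq_mk'_iff_mul_eq, map_pow, h1, one_pow, mul_one]
  · obtain ⟨⟨_, n, rfl⟩, hn⟩ := (IsLocalization.map_eq_zero_iff (Submonoid.powers e) S x).1 hx
    rcases Nat.eq_zero_or_pos n with rfl | hpos
    · simp only [pow_zero, one_mul] at hn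
      rw [hn, mul_zero]
    · have hp : e ^ n = e := by
        obtain ⟨k, rfl⟩ := Nat.exists_eq_succ_of_ne_zero hpos.ne'
        exact he.pow_succ_eq k
      rwa [← hp]
  · have := congrArg (algebraMap R S) hx
    rwa [map_mul, h1, one_mul, map_zero] at this

theorem awayElt_eq_zero {A : Type*} [CommRing A] {s : Set A} {f y : A} (hf : f ∈ Ideal.span s)
    (hy : ∀ g ∈ s, ∃ n : ℕ, g ^ n * y = 0) : ∃ n : ℕ, f ^ n * y = 0 := by
  have : Ideal.span s ≤ Ideal.radical (LinearMap.ker (LinearMap.toSpanSingleton A A y) : Ideal A) := by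
    rw [Ideal.span_le]
    intro g hg
    obtain ⟨n, hn⟩ := hy g hg
    exact ⟨n, by simpa [LinearMap.toSpanSingleton_apply] using hn⟩
  obtain ⟨n, hn⟩ := this hf
  exact ⟨n, by simpa [LinearMap.toSpanSingleton_apply] using hn⟩



/-- Let A be a ring, I a finitely generated ideal and A → C a ring map such that for every f ∈ I the map
A_f → C_f is the localization of A_f at an idempotent. Then there is a surjection A → C' (C' = A/K
for an ideal K) such that A_f → (C × C')_f is an isomorphism for every f ∈ I. -/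
theorem result (A : Type u) [CommRing A]
    (I : Ideal A) (hI : I.FG) (C : Type u) [CommRing C] [Algebra A C]
    (h : ∀ f ∈ I, ∃ e : Localization.Away f, IsIdempotentElem e ∧
      IsLocalization.Away e (Localization (Algebra.algebraMapSubmonoid C (Submonoid.powers f)))) :
    ∃ K : Ideal A, ∀ f ∈ I, Function.Bijective
      (algebraMap (Localization.Away f)
        (Localization (Algebra.algebraMapSubmonoid (C × (A ⧸ K)) (Submonoid.powers f)))) := by
  classical
  obtain ⟨s, rfl⟩ := hI
  let K : Ideal A :=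
    { carrier := {a | ∀ n : A, algebraMap A C n = 0 → ∀ g ∈ s, ∃ m : ℕ, g ^ m * (a * n) = 0}
      add_mem' := fun {a b} ha hb n hn g hg => by
        obtain ⟨m, hm⟩ := ha n hn g hg
        obtain ⟨m', hm'⟩ := hb n hn g hg
        refine ⟨m + m', ?_⟩
        rw [pow_add]
        linear_combination g ^ m' * hm + g ^ m * hm'
      zero_mem' := fun n _ g _ => ⟨0, by simp⟩
      smul_mem' := fun r a ha n hn g hg => by
        obtain ⟨m, hm⟩ := ha n hn g hg
        exact ⟨m, by rw [smul_eq_mul, mul_assoc r, mul_left_comm, hm, mul_zero]⟩ }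
  refine ⟨K, fun f hf => ?_⟩
  obtain ⟨e, he, hloc⟩ := h f hf
  let Af := Localization.Away f
  let Cf := Localization (Algebra.algebraMapSubmonoid C (Submonoid.powers f))
  haveI : IsLocalization.Away e Cf := hloc
  obtain ⟨he1, hsurj, hker⟩ := idem_away (R := Af) (S := Cf) he
  have hzero : ∀ c : C, algebraMap C Cf c = 0 → ∃ k : ℕ, algebraMap A C (f ^ k) * c = 0 := by
    intro c hc
    obtain ⟨⟨_, _, ⟨k, rfl⟩, rfl⟩, hk⟩ :=
      (IsLocalization.map_eq_zero_iff (Algebra.algebraMapSubmonoid C (Submonoid.powers f)) Cf c).1 hc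
    exact ⟨k, hk⟩
  have htow : ∀ a : A, algebraMap Af Cf (algebraMap A Af a) = algebraMap C Cf (algebraMap A C a) := by
    intro a
    rw [← IsScalarTower.algebraMap_apply A Af Cf, ← IsScalarTower.algebraMap_apply A C Cf]
  have hkerA : ∀ n : A, algebraMap A C n = 0 → e * algebraMap A Af n = 0 := fun n hn =>
    (hker _).1 (by rw [htow, hn, map_zero])
  have hA0 : ∀ y : A, algebraMap A Af y = 0 ↔ ∃ k : ℕ, f ^ k * y = 0 := by
    intro y
    rw [IsLocalization.map_eq_zero_iff (Submonoid.powers f) Af]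
    constructor
    · rintro ⟨⟨_, k, rfl⟩, hk⟩; exact ⟨k, hk⟩
    · rintro ⟨k, hk⟩; exact ⟨⟨_, k, rfl⟩, hk⟩
  obtain ⟨⟨a, ⟨_, m, rfl⟩⟩, ham⟩ := IsLocalization.surj (Submonoid.powers f) e
  -- finitely many generators of the kernels
  have hb : ∀ g ∈ s, ∃ b : A, algebraMap A C b = 0 ∧ ∀ n : A, algebraMap A C n = 0 →
      ∃ (r : A) (k : ℕ), g ^ k * n = r * b := by
    intro g hg
    obtain ⟨eg, heg, hlocg⟩ := h g (Ideal.subset_span hg)
    let Cg := Localization (Algebra.algebraMapSubmonoid C (Submonoid.powers g))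
    haveI : IsLocalization.Away eg Cg := hlocg
    obtain ⟨hg1, -, hgker⟩ := idem_away (R := Localization.Away g) (S := Cg) heg
    obtain ⟨⟨b0, ⟨_, j, rfl⟩⟩, hb0⟩ := IsLocalization.surj (Submonoid.powers g) (1 - eg)
    have h0 : algebraMap C Cg (algebraMap A C b0) = 0 := by
      have := congrArg (algebraMap (Localization.Away g) Cg) hb0
      rw [map_mul, map_sub, map_one, hg1, sub_self, zero_mul, ← IsScalarTower.algebraMap_apply,
        IsScalarTower.algebraMap_apply A C Cg] at this
      exact this.symm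
    obtain ⟨⟨_, _, ⟨l, rfl⟩, rfl⟩, hl⟩ :=
      (IsLocalization.map_eq_zero_iff (Algebra.algebraMapSubmonoid C (Submonoid.powers g)) Cg _).1 h0
    refine ⟨g ^ l * b0, by rw [map_mul]; exact hl, fun n hn => ?_⟩
    have h2 : eg * algebraMap A (Localization.Away g) n = 0 := (hgker _).1 (by
      rw [← IsScalarTower.algebraMap_apply, IsScalarTower.algebraMap_apply A C Cg, hn, map_zero])
    have h3 : algebraMap A (Localization.Away g) (g ^ (l + j) * n) =
        algebraMap A (Localization.Away g) (g ^ l * b0 * n) := by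
      simp only [map_mul, map_pow] at hb0 ⊢
      rw [← hb0, pow_add]
      linear_combination (algebraMap A (Localization.Away g) g ^ l * algebraMap A (Localization.Away g) g ^ j) * h2
    obtain ⟨⟨_, t, rfl⟩, ht⟩ := (IsLocalization.eq_iff_exists (Submonoid.powers g) _).1 h3
    refine ⟨g ^ t * n, t + (l + j), ?_⟩
    simp only at ht
    rw [pow_add, mul_assoc, ht]; ring
  choose b hb0 hbspan using hb
  have hab : ∀ g : s, ∃ k : ℕ, f ^ k * (a * b g.1 g.2) = 0 := fun g => by
    rw [← hA0, map_mul, ← ham, mul_assoc, mul_left_comm, hkerA _ (hb0 g.1 g.2), mul_zero]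
  choose kk hkk using hab
  let M := Finset.univ.sup kk
  have haK : f ^ M * a ∈ K := by
    intro n hn g hg
    obtain ⟨r, k, hk⟩ := hbspan g hg n hn
    refine ⟨k, ?_⟩
    have hM : f ^ M * (a * b g hg) = 0 := by
      obtain ⟨d, hd⟩ := Nat.exists_eq_add_of_le (Finset.le_sup (f := kk) (Finset.mem_univ (⟨g, hg⟩ : s)))
      show f ^ M * _ = 0
      rw [show M = kk ⟨g, hg⟩ + d from hd, pow_add, mul_right_comm, hkk ⟨g, hg⟩, zero_mul]
    calc g ^ k * (f ^ M * a * n) = f ^ M * a * (g ^ k * n) := by ring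
      _ = r * (f ^ M * (a * b g hg)) := by rw [hk]; ring
      _ = 0 := by rw [hM, mul_zero]
  let P := C × (A ⧸ K)
  let T := Localization (Algebra.algebraMapSubmonoid P (Submonoid.powers f))
  let τ : P →+* T := algebraMap P T
  let φ : Af →+* T := algebraMap Af T
  have hφ : ∀ x : A, φ (algebraMap A Af x) = τ (algebraMap A P x) := fun x => by
    show algebraMap Af T (algebraMap A Af x) = algebraMap P T (algebraMap A P x)
    rw [← IsScalarTower.algebraMap_apply A Af T, ← IsScalarTower.algebraMap_apply A P T]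
  have hfu : ∀ k : ℕ, IsUnit (τ (algebraMap A P (f ^ k))) := fun k =>
    IsLocalization.map_units T (⟨_, f ^ k, ⟨k, rfl⟩, rfl⟩ : Algebra.algebraMapSubmonoid P (Submonoid.powers f))
  have hCf1 : ∃ k : ℕ, algebraMap A C (f ^ k) * algebraMap A C (a - f ^ m) = 0 := by
    refine hzero _ ?_
    rw [← htow, map_sub, ← ham, map_sub, map_mul, he1, one_mul, sub_self]
  obtain ⟨k1, hk1⟩ := hCf1
  have hu : φ e = τ (1, 0) := by
    refine (hfu (M + k1 + m)).mul_right_cancel ?_
    rw [← hφ, ← map_mul, show e * algebraMap A Af (f ^ (M + k1 + m)) = algebraMap A Af (f ^ (M + k1) * a) by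
      rw [pow_add, map_mul, map_mul, mul_left_comm, ← ham], hφ, hφ, ← map_mul]
    congr 1
    refine Prod.ext ?_ ?_
    · show algebraMap A C (f ^ (M + k1) * a) = 1 * algebraMap A C (f ^ (M + k1 + m))
      rw [one_mul, ← sub_eq_zero, ← map_sub,
        show f ^ (M + k1) * a - f ^ (M + k1 + m) = f ^ M * (f ^ k1 * (a - f ^ m)) by ring,
        map_mul, map_mul, hk1, mul_zero]
    · show Ideal.Quotient.mk K (f ^ (M + k1) * a) = 0 * Ideal.Quotient.mk K _
      rw [zero_mul, Ideal.Quotient.eq_zero_iff_mem, show f ^ (M + k1) * a = f ^ k1 * (f ^ M * a) by ring]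
      exact K.mul_mem_left _ haK
  constructor
  · refine (injective_iff_map_eq_zero φ).2 fun x hx => ?_
    obtain ⟨⟨y, ⟨_, j, rfl⟩⟩, hy⟩ := IsLocalization.surj (Submonoid.powers f) x
    have h0 : τ (algebraMap A P y) = 0 := by rw [← hφ, ← hy, map_mul, hx, zero_mul]
    obtain ⟨⟨_, _, ⟨k, rfl⟩, rfl⟩, hk⟩ :=
      (IsLocalization.map_eq_zero_iff (Algebra.algebraMapSubmonoid P (Submonoid.powers f)) T _).1 h0
    simp only [← map_mul] at hk
    have hkC : algebraMap A C (f ^ k * y) = 0 := congrArg Prod.fst hk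
    have hkK : f ^ k * y ∈ K := Ideal.Quotient.eq_zero_iff_mem.1 (congrArg Prod.snd hk)
    have hfunit : ∀ i : ℕ, IsUnit (algebraMap A Af (f ^ i)) := fun i =>
      IsLocalization.map_units Af (⟨_, i, rfl⟩ : Submonoid.powers f)
    have h1 : e * algebraMap A Af (f ^ k * y) = 0 := hkerA _ hkC
    obtain ⟨⟨q, ⟨_, i, rfl⟩⟩, hq⟩ := IsLocalization.surj (Submonoid.powers f) (1 - e)
    have hq0 : algebraMap C Cf (algebraMap A C q) = 0 := by
      rw [← htow, ← hq, map_mul, map_sub, map_one, he1, sub_self, zero_mul]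
    obtain ⟨l, hl⟩ := hzero _ hq0
    rw [← map_mul] at hl
    obtain ⟨t, ht⟩ := awayElt_eq_zero hf fun g hg => hkK _ hl g hg
    have h2 : (1 - e) * algebraMap A Af (f ^ k * y) = 0 := by
      refine ((hfunit l).mul (hfunit i)).mul_left_eq_zero.1 ?_
      rw [show (1 - e) * algebraMap A Af (f ^ k * y) * (algebraMap A Af (f ^ l) * algebraMap A Af (f ^ i)) =
        algebraMap A Af (f ^ k * y) * (algebraMap A Af (f ^ l) * ((1 - e) * algebraMap A Af (f ^ i))) by ring,
        hq, ← map_mul, ← map_mul, hA0]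
      exact ⟨t, ht⟩
    have h3 : algebraMap A Af (f ^ k * y) = 0 := by linear_combination h1 + h2
    rw [map_mul] at h3
    have h4 : algebraMap A Af y = 0 := (hfunit k).mul_right_eq_zero.1 h3
    exact (hfunit j).mul_left_eq_zero.1 (hy.trans h4)
  · intro z
    obtain ⟨p, ⟨_, _, ⟨k, rfl⟩, rfl⟩, rfl⟩ :=
      IsLocalization.exists_mk'_eq (Algebra.algebraMapSubmonoid P (Submonoid.powers f)) z
    suffices τ p ∈ φ.range by
      obtain ⟨x, hx⟩ := this
      refine ⟨x * IsLocalization.Away.invSelf (S := Af) f ^ k, ?_⟩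
      rw [IsLocalization.eq_mk'_iff_mul_eq]
      show φ (x * _) * τ (algebraMap A P (f ^ k)) = τ p
      rw [← hφ, ← map_mul, mul_assoc, map_pow, ← mul_pow, mul_comm (IsLocalization.Away.invSelf f),
        IsLocalization.Away.mul_invSelf, one_pow, mul_one, hx]
    obtain ⟨c, q⟩ := p
    obtain ⟨q, rfl⟩ := Ideal.Quotient.mk_surjective q
    have hsplit : ((c, Ideal.Quotient.mk K q) : P) = (c, 0) + algebraMap A P q * (1 - (1, 0)) :=
      Prod.ext (show c = c + algebraMap A C q * (1 - 1) by ring)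
        (show Ideal.Quotient.mk K q = 0 + Ideal.Quotient.mk K q * (1 - 0) by ring)
    rw [hsplit, map_add, map_mul, map_sub, map_one, ← hu, ← hφ, ← map_one φ, ← map_sub, ← map_mul]
    refine add_mem ?_ ⟨_, rfl⟩
    obtain ⟨x, hx⟩ := hsurj (algebraMap C Cf c)
    obtain ⟨⟨y, ⟨_, j, rfl⟩⟩, hy⟩ := IsLocalization.surj (Submonoid.powers f) x
    have h5 : algebraMap C Cf (algebraMap A C (f ^ j) * c - algebraMap A C y) = 0 := by
      rw [map_sub, map_mul, ← hx, ← htow, ← htow, ← hy, map_mul]; ring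
    obtain ⟨l, hl⟩ := hzero _ h5
    refine ⟨x * e, ?_⟩
    refine (hfu (l + j)).mul_right_cancel ?_
    rw [map_mul φ, hu, ← hφ (f ^ (l + j)), mul_right_comm, ← map_mul φ,
      show x * algebraMap A Af (f ^ (l + j)) = algebraMap A Af (f ^ l * y) by
        rw [pow_add, map_mul, map_mul, mul_left_comm, hy],
      hφ, hφ, ← map_mul, ← map_mul]
    congr 1
    refine Prod.ext ?_ ?_
    · show algebraMap A C (f ^ l * y) * 1 = c * algebraMap A C (f ^ (l + j))
      rw [pow_add, map_mul, map_mul]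
      linear_combination - hl
    · show Ideal.Quotient.mk K _ * 0 = 0 * Ideal.Quotient.mk K _
      ring


end Groth.Agent.S9303
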