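import Groth.Statements.S9304
import Groth.Agent.EssEtGal7.GeomTensorMin
import Groth.Agent.BrnchLib.HenzStrict
import Groth.Agent.BrnchLib.NormBij
import Mathlib
-- import your own Groth.Agent.* helpers here

set_option autoImplicit false
universe u
open CAlg

namespace Groth.Agent.S9304

open TensorProduct in
/-- Let A be a local ring with finitely many minimal primes, A' the integral closure of A_red in its
total ring of fractions and A^sh a strict henselization of A. Then contraction along A^sh → A' ⊗_A
A^sh is a bijection from the minimal primes of A' ⊗_A A^sh onto the minimal primes of A^sh. -/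
theorem result {A Ash : Type u} [CommRing A]
    [IsLocalRing A] (hfin : (minimalPrimes A).Finite) [CommRing Ash] [IsLocalRing Ash] [Algebra A Ash]
    [IsLocalHom (algebraMap A Ash)] [Hensel.IsStrictHenselization A Ash] :
    Set.BijOn (fun P : Ideal ((CAlg2.normRed A) ⊗[A] Ash) =>
        P.comap (Algebra.TensorProduct.includeRight.toRingHom :
          Ash →+* (CAlg2.normRed A) ⊗[A] Ash))
      (minimalPrimes ((CAlg2.normRed A) ⊗[A] Ash))
      (minimalPrimes Ash) := by
  haveI : Finite (minimalPrimes A) := hfin.to_subtype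
  haveI : HenselianLocalRing Ash := Hensel.IsStrictHenselization.henselian (R := A) (S := Ash)
  have hH := Groth.Agent.Hensel.isHenzLike_of_isStrictHenselization A Ash
  haveI := hH.faithfullyFlat
  obtain ⟨h1, h2, h3⟩ := Groth.Agent.EssEtGal7.minimalPrimes_tensor_bijOn A Ash hH.eq_of_le_of_comap_eq (CAlg2.normRed A)
    (fun n _ => Groth.Agent.BrnchLib.isDomain_localization_tensor_strict A Ash (CAlg2.normRed A)
      (fun m _ => Groth.Agent.BrnchLib.isDomain_normal_localization (Groth.Agent.BrnchLib.comps A) m) n)
    (Groth.Agent.BrnchLib.bijOn_normRed A) (Groth.Agent.BrnchLib.birational_normRed A)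
  let e : (CAlg2.normRed A) ⊗[A] Ash ≃+* Ash ⊗[A] (CAlg2.normRed A) :=
    (Algebra.TensorProduct.comm A (CAlg2.normRed A) Ash).toRingEquiv
  have he : e.toRingHom.comp (Algebra.TensorProduct.includeRight.toRingHom : Ash →+* (CAlg2.normRed A) ⊗[A] Ash) =
      algebraMap Ash (Ash ⊗[A] (CAlg2.normRed A)) := RingHom.ext fun s => by
    show Algebra.TensorProduct.comm A (CAlg2.normRed A) Ash ((1 : CAlg2.normRed A) ⊗ₜ[A] s) = _
    rw [Algebra.TensorProduct.comm_tmul]
    rfl
  have hb := Groth.Agent.EssEtGal7.bijOn_minimalPrimes_ringEquiv (R := (CAlg2.normRed A) ⊗[A] Ash) (R' := Ash ⊗[A] (CAlg2.normRed A)) e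
  refine (Set.BijOn.comp h1 hb).congr fun P hP => ?_
  show (P.comap e.symm.toRingHom).comap (algebraMap Ash (Ash ⊗[A] (CAlg2.normRed A))) = _
  rw [← he, ← Ideal.comap_comap, Ideal.comap_comap e.toRingHom e.symm.toRingHom]
  rw [show e.symm.toRingHom.comp e.toRingHom = RingHom.id _ from RingHom.ext e.symm_apply_apply, Ideal.comap_id]

end Groth.Agent.S9304
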