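import Groth.Statements.S9305
import Groth.Agent.EssEtGal7.GeomTensorMin
import Groth.Agent.BrnchLib.HenzStrict
import Groth.Agent.BrnchLib.NormBij
import Mathlib
-- import your own Groth.Agent.* helpers here

set_option autoImplicit false
universe u
open CAlg

namespace Groth.Agent.S9305

open TensorProduct in
/-- Let A be a local ring with finitely many minimal primes, A' the integral closure of A_red in its
total ring of fractions and A^sh a strict henselization of A. In the ring A' ⊗_A A^sh, each minimal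
prime lies in exactly one maximal ideal and each maximal ideal contains exactly one minimal prime. -/
theorem result {A Ash : Type u} [CommRing A]
    [IsLocalRing A] (hfin : (minimalPrimes A).Finite) [CommRing Ash] [IsLocalRing Ash] [Algebra A Ash]
    [IsLocalHom (algebraMap A Ash)] [Hensel.IsStrictHenselization A Ash] :
    (∀ q ∈ minimalPrimes ((CAlg2.normRed A) ⊗[A] Ash),
        ∃! m : Ideal ((CAlg2.normRed A) ⊗[A] Ash), m.IsMaximal ∧ q ≤ m) ∧
      (∀ m : Ideal ((CAlg2.normRed A) ⊗[A] Ash), m.IsMaximal →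
        ∃! q : Ideal ((CAlg2.normRed A) ⊗[A] Ash), q ∈ minimalPrimes ((CAlg2.normRed A) ⊗[A] Ash) ∧ q ≤ m) := by
  haveI : Finite (minimalPrimes A) := hfin.to_subtype
  haveI : HenselianLocalRing Ash := Hensel.IsStrictHenselization.henselian (R := A) (S := Ash)
  have hH := Groth.Agent.Hensel.isHenzLike_of_isStrictHenselization A Ash
  haveI := hH.faithfullyFlat
  obtain ⟨h1, h2, h3⟩ := Groth.Agent.EssEtGal7.minimalPrimes_tensor_bijOn A Ash hH.eq_of_le_of_comap_eq (CAlg2.normRed A)
    (fun n _ => Groth.Agent.BrnchLib.isDomain_localization_tensor_strict A Ash (CAlg2.normRed A)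
      (fun m _ => Groth.Agent.BrnchLib.isDomain_normal_localization (Groth.Agent.BrnchLib.comps A) m) n)
    (Groth.Agent.BrnchLib.bijOn_normRed A) (Groth.Agent.BrnchLib.birational_normRed A)
  let e : (CAlg2.normRed A) ⊗[A] Ash ≃+* Ash ⊗[A] (CAlg2.normRed A) :=
    (Algebra.TensorProduct.comm A (CAlg2.normRed A) Ash).toRingEquiv
  have he : e.toRingHom.comp (Algebra.TensorProduct.includeRight.toRingHom : Ash →+* (CAlg2.normRed A) ⊗[A] Ash) =
      algebraMap Ash (Ash ⊗[A] (CAlg2.normRed A)) := RingHom.ext fun s => by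
    show Algebra.TensorProduct.comm A (CAlg2.normRed A) Ash ((1 : CAlg2.normRed A) ⊗ₜ[A] s) = _
    rw [Algebra.TensorProduct.comm_tmul]
    rfl
  have hb := Groth.Agent.EssEtGal7.bijOn_minimalPrimes_ringEquiv (R := (CAlg2.normRed A) ⊗[A] Ash) (R' := Ash ⊗[A] (CAlg2.normRed A)) e
  have hle : ∀ q m : Ideal ((CAlg2.normRed A) ⊗[A] Ash), q.comap e.symm.toRingHom ≤ m.comap e.symm.toRingHom ↔ q ≤ m :=
    fun q m => Ideal.comap_le_comap_iff_of_surjective e.symm.toRingHom e.symm.surjective q m
  have hinj : Function.Injective (Ideal.comap e.symm.toRingHom) :=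
    Ideal.comap_injective_of_surjective _ e.symm.surjective
  have hsurj : ∀ J : Ideal (Ash ⊗[A] (CAlg2.normRed A)), (J.comap e.toRingHom).comap e.symm.toRingHom = J := fun J => by
    rw [Ideal.comap_comap, show e.toRingHom.comp e.symm.toRingHom = RingHom.id _ from RingHom.ext e.apply_symm_apply, Ideal.comap_id]
  constructor
  · intro q hq
    obtain ⟨m, ⟨hm, hqm⟩, hu⟩ := h2 _ (hb.mapsTo hq)
    haveI := hm
    refine ⟨m.comap e.toRingHom, ⟨Ideal.comap_isMaximal_of_surjective _ e.surjective, ?_⟩, fun m' hm' => hinj ?_⟩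
    · rw [← hle, hsurj]
      exact hqm
    · rw [hsurj]
      haveI := hm'.1
      exact hu _ ⟨Ideal.comap_isMaximal_of_surjective _ e.symm.surjective, (hle _ _).2 hm'.2⟩
  · intro m hm
    haveI := hm
    obtain ⟨q, ⟨hq, hqm⟩, hu⟩ := h3 _ (Ideal.comap_isMaximal_of_surjective e.symm.toRingHom e.symm.surjective (K := m))
    obtain ⟨q₀, hq₀, rfl⟩ := hb.surjOn hq
    exact ⟨q₀, ⟨hq₀, (hle _ _).1 hqm⟩, fun q' hq' => hinj (hu _ ⟨hb.mapsTo hq'.1, (hle _ _).2 hq'.2⟩)⟩

end Groth.Agent.S9305
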