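import Groth.Statements.S9306
import Groth.Agent.EtRam7.BaseChange
-- import your own Groth.Agent.* helpers here

set_option autoImplicit false
universe u
open EtRam

namespace Groth.Agent.S9306

open TensorProduct in
/-- Let A → B be an injective local homomorphism of discrete valuation rings with fraction fields K ⊆ L,
and let K' be a finite separable extension of K that is unramified relative to A. Then every field F
onto which K' ⊗_K L surjects is, as an extension of L, unramified relative to B. (The published
statement also records that K' ⊗_K L is a finite product of fields, whose factors are these F; this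
row does not state that part.) -/
theorem result (A B K L K' : Type u) [CommRing A] [IsDomain A]
    [IsDiscreteValuationRing A] [CommRing B] [IsDomain B] [IsDiscreteValuationRing B] [Algebra A B]
    [IsLocalHom (algebraMap A B)] (hinj : Function.Injective (algebraMap A B))
    [Field K] [Field L] [Field K'] [Algebra A K] [IsFractionRing A K] [Algebra B L] [IsFractionRing B L]
    [Algebra K L] [Algebra A L] [IsScalarTower A K L] [IsScalarTower A B L]
    [Algebra K K'] [FiniteDimensional K K'] [Algebra.IsSeparable K K']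
    (h : EtRam.IsUnramifiedExt A ((algebraMap K K').comp (algebraMap A K)))
    (F : Type u) [Field F] [Algebra (K' ⊗[K] L) F] (hF : Function.Surjective (algebraMap (K' ⊗[K] L) F)) :
    EtRam.IsUnramifiedExt B ((algebraMap (K' ⊗[K] L) F).comp
      ((Algebra.TensorProduct.includeRight : L →ₐ[K] K' ⊗[K] L).toRingHom.comp (algebraMap B L))) := by
  obtain ⟨π, hπ⟩ := IsPrincipalIdealRing.principal (IsLocalRing.maximalIdeal B)
  obtain ⟨ϖ, hϖ⟩ := IsDiscreteValuationRing.exists_irreducible B
  obtain ⟨ϖA, hϖA⟩ := IsDiscreteValuationRing.exists_irreducible A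
  letI : Algebra A K' := ((algebraMap K K').comp (algebraMap A K)).toAlgebra
  haveI : IsScalarTower A K K' := IsScalarTower.of_algebraMap_eq fun _ => rfl
  haveI := EtRam7.formallyUnramified_integralClosure A K K' h
  let A' := integralClosure A K'
  haveI : Module.Finite A A' := IsIntegralClosure.finite A K K' A'
  let qL : L →+* F := (algebraMap (K' ⊗[K] L) F).comp (Algebra.TensorProduct.includeRight : L →ₐ[K] K' ⊗[K] L).toRingHom
  let qK : K' →+* F := (algebraMap (K' ⊗[K] L) F).comp (Algebra.TensorProduct.includeLeftRingHom)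
  let g : B →+* F := qL.comp (algebraMap B L)
  have hgg : g = (algebraMap (K' ⊗[K] L) F).comp
      ((Algebra.TensorProduct.includeRight : L →ₐ[K] K' ⊗[K] L).toRingHom.comp (algebraMap B L)) := rfl
  rw [← hgg]
  have hcompat : ∀ a : A, qK (algebraMap A K' a) = g (algebraMap A B a) := fun a => by
    show algebraMap (K' ⊗[K] L) F (algebraMap K K' (algebraMap A K a) ⊗ₜ[K] 1) = algebraMap (K' ⊗[K] L) F (1 ⊗ₜ[K] algebraMap B L (algebraMap A B a))
    rw [← IsScalarTower.algebraMap_apply A B L, IsScalarTower.algebraMap_apply A K L,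
      Algebra.TensorProduct.tmul_one_eq_one_tmul]
  letI : Algebra A F := (g.comp (algebraMap A B)).toAlgebra
  let g' : B →ₐ[A] F := { g with commutes' := fun _ => rfl }
  let k' : A' →ₐ[A] F := { qK.comp A'.val.toRingHom with commutes' := fun a => hcompat a }
  let φ : B ⊗[A] A' →ₐ[A] F := Algebra.TensorProduct.lift g' k' fun _ _ => Commute.all _ _
  have hφt : ∀ b x, φ (b ⊗ₜ[A] x) = g b * qK x := fun b x => Algebra.TensorProduct.lift_tmul _ _ _ b x
  have hgϖ : g ϖ ≠ 0 := by
    rw [map_ne_zero_iff g (qL.injective.comp (IsFractionRing.injective B L))]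
    exact hϖ.ne_zero
  haveI : IsNoetherianRing (B ⊗[A] A') := IsNoetherianRing.of_finite B _
  refine EtRam7.isUnramifiedExt_of_unramified (S := B ⊗[A] A') ϖ hϖ.maximalIdeal_eq g φ.toRingHom ?_ hgϖ ?_ ?_
  · ext b
    show φ (b ⊗ₜ[A] (1 : A')) = g b
    rw [hφt, OneMemClass.coe_one, map_one, mul_one]
  · intro z
    obtain ⟨t, rfl⟩ := hF z
    induction t using TensorProduct.induction_on with
    | zero => exact ⟨0, 0, by simp⟩
    | add x y hx hy =>
      obtain ⟨c, n, hc⟩ := hx
      obtain ⟨d, m, hd⟩ := hy
      refine ⟨c * ((ϖ ^ m) ⊗ₜ[A] (1 : A')) + d * ((ϖ ^ n) ⊗ₜ[A] (1 : A')), n + m, ?_⟩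
      show _ = φ _
      rw [map_add, map_add, map_mul, map_mul, hφt, hφt, OneMemClass.coe_one, map_one, mul_one, mul_one, map_pow, map_pow]
      change _ = φ.toRingHom c * g ϖ ^ m + φ.toRingHom d * g ϖ ^ n
      rw [← hc, ← hd, pow_add]
      ring
    | tmul x y =>
      obtain ⟨⟨a, ha⟩, hx'⟩ := IsIntegral.exists_multiple_integral_of_isLocalization (R := A) (Rₘ := K)
        (nonZeroDivisors A) x (Algebra.IsIntegral.isIntegral x)
      obtain ⟨b, c, hc, rfl⟩ := IsFractionRing.div_surjective (A := B) y
      have hne : algebraMap A B a * c ≠ 0 :=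
        mul_ne_zero ((map_ne_zero_iff _ hinj).2 (nonZeroDivisors.ne_zero ha)) (nonZeroDivisors.ne_zero hc)
      obtain ⟨u, N, hu⟩ := IsDiscreteValuationRing.eq_unit_mul_pow_irreducible hne hϖ
      refine ⟨(↑N⁻¹ * b) ⊗ₜ[A] (⟨a • x, hx'⟩ : A'), u, ?_⟩
      show _ = φ _
      rw [hφt, map_mul g]
      have hpow : g ϖ ^ u = g ↑N⁻¹ * (g (algebraMap A B a) * g c) := by
        rw [← map_mul, ← map_mul, hu, ← mul_assoc, Units.inv_mul, one_mul, map_pow]
      have hax : qK (a • x) = g (algebraMap A B a) * qK x := by
        rw [Algebra.smul_def, map_mul, hcompat]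
      have hxy : algebraMap (K' ⊗[K] L) F (x ⊗ₜ[K] (algebraMap B L b / algebraMap B L c)) * g c = qK x * g b := by
        show _ * algebraMap (K' ⊗[K] L) F _ = algebraMap (K' ⊗[K] L) F (x ⊗ₜ[K] 1) * algebraMap (K' ⊗[K] L) F (1 ⊗ₜ[K] algebraMap B L b)
        rw [← map_mul, ← map_mul]
        congr 1
        show _ * (1 ⊗ₜ[K] algebraMap B L c) = _
        rw [Algebra.TensorProduct.tmul_mul_tmul, Algebra.TensorProduct.tmul_mul_tmul, mul_one, one_mul,
          div_mul_cancel₀]
        exact IsFractionRing.to_map_ne_zero_of_mem_nonZeroDivisors hc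
      rw [hpow]
      calc _ = g ↑N⁻¹ * g (algebraMap A B a) *
            (algebraMap (K' ⊗[K] L) F (x ⊗ₜ[K] (algebraMap B L b / algebraMap B L c)) * g c) := by ring
        _ = _ := by rw [hxy, hax]; ring
  · intro V hV t
    induction t using TensorProduct.induction_on with
    | zero => rw [map_zero]; exact zero_mem V
    | add x y hx hy => rw [map_add]; exact add_mem hx hy
    | tmul b x =>
      show φ (b ⊗ₜ[A] x) ∈ V
      rw [hφt]
      refine mul_mem (hV b) ?_
      letI : Algebra A V := ((g.comp (algebraMap A B)).codRestrict V fun a => hV _).toAlgebra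
      haveI : IsScalarTower A V F := IsScalarTower.of_algebraMap_eq fun _ => rfl
      have hx : IsIntegral A (qK x) := (x.2 : IsIntegral A (x : K')).map ({ qK with commutes' := hcompat } : K' →ₐ[A] F)
      obtain ⟨v, hv⟩ := IsIntegrallyClosed.isIntegral_iff.1 (hx.tower_top (A := V))
      rw [← hv]
      exact v.2

end Groth.Agent.S9306
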