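import Groth.Statements.S9308
import Groth.Agent.PopescuLib.ColimSmooth
import Groth.Agent.RegFS6.Field
import Groth.Agent.AdicSmooth.SmallExt
import Groth.Agent.FlatLoc6.GeomProp

set_option autoImplicit false
universe u
open CAlg

namespace Groth.Agent.S9308

/-- Let R be a ring and (A_i, φ_ii') a directed system of smooth R-algebras with colimit Λ (the index
type is taken in the universe of the rings). Suppose that for every prime p of R the ring Λ ⊗_R κ(p)
is Noetherian. Then R → Λ is a regular ring map. -/
theorem result (R : Type u) [CommRing R] {ι : Type u} [Preorder ι]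
    [IsDirectedOrder ι] [Nonempty ι] (G : ι → Type u) [∀ i, CommRing (G i)] [∀ i, Algebra R (G i)]
    (f : ∀ i j : ι, i ≤ j → (G i →ₐ[R] G j)) [DirectedSystem G (fun i j h => f i j h)]
    (hs : ∀ i, Algebra.Smooth R (G i))
    (hN : ∀ (p : Ideal R) [p.IsPrime], IsNoetherianRing (p.Fiber (DirectLimit G f))) :
    CAlg.IsRegularHom R (DirectLimit G f) := by
  refine ⟨Groth.Agent.PopescuLib.flat_directLimit f fun i => haveI := hs i; inferInstance, fun p _ => ⟨hN p, fun L _ _ hL => ?_⟩⟩
  haveI := hN p
  letI : Algebra R L := ((algebraMap p.ResidueField L).comp (algebraMap R p.ResidueField)).toAlgebra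
  haveI : IsScalarTower R p.ResidueField L := IsScalarTower.of_algebraMap_eq' rfl
  haveI : IsNoetherianRing (TensorProduct p.ResidueField L (p.Fiber (DirectLimit G f))) := by
    haveI : IsNoetherianRing (TensorProduct p.ResidueField (p.Fiber (DirectLimit G f)) L) :=
      Algebra.EssFiniteType.isNoetherianRing (p.Fiber (DirectLimit G f))
        (TensorProduct p.ResidueField (p.Fiber (DirectLimit G f)) L)
    exact isNoetherianRing_of_ringEquiv _ (Algebra.TensorProduct.comm _ _ _).toRingEquiv
  rw [isRegularRing_iff]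
  intro Q _
  haveI : IsNoetherianRing (Localization.AtPrime Q) := IsLocalization.isNoetherianRing Q.primeCompl _ inferInstance
  suffices hfs : CAlgX.IsAdicFormallySmooth L (Localization.AtPrime Q)
      (IsLocalRing.maximalIdeal (Localization.AtPrime Q)) by
    haveI := Groth.Agent.FlatLoc6.isRegularRing_of_geometricallyRegular
      (Groth.Agent.RegFS6.geometricallyRegular_of_fs hfs)
    exact IsRegularLocalRing.of_isRegularRing_of_isLocalRing _
  refine Groth.Agent.AdicSmooth.isAdicFormallySmooth_of_smallLift ?_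
  intro A _ _ _ _ _ J hJ hlen _ ψ _ _
  haveI : IsSimpleModule A J := Module.length_eq_one_iff.mp hlen
  have hkill : ∀ m ∈ IsLocalRing.maximalIdeal A, ∀ x ∈ J, m * x = 0 := by
    intro m hm x hx
    by_contra hne
    obtain ⟨d, hd⟩ := IsSimpleModule.toSpanSingleton_surjective A (m := (⟨m * x, J.mul_mem_left m hx⟩ : J))
      (fun h0 => hne (congrArg Subtype.val h0)) (⟨x, hx⟩ : J)
    have h1 : (1 - d * m) * x = 0 := by
      have := congrArg Subtype.val hd
      simp only [LinearMap.toSpanSingleton_apply, Submodule.coe_smul, smul_eq_mul] at this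
      linear_combination -this
    have hu : IsUnit (1 - d * m) :=
      IsLocalRing.isUnit_one_sub_self_of_mem_nonunits _ (Ideal.mul_mem_left _ d hm)
    exact hne (by rw [hu.mul_right_eq_zero.mp h1, mul_zero])
  obtain ⟨χ2, hχ2⟩ := Groth.Agent.PopescuLib.exists_lift_baseChange (R := R) (K := p.ResidueField) (L := L)
    (D := DirectLimit G f) (A := A) J
    (fun θ => Groth.Agent.PopescuLib.exists_lift_directLimit f (fun i => (hs i).formallySmooth) J hJ
      (IsLocalRing.maximalIdeal A) hkill θ)
    (ψ.comp (IsScalarTower.toAlgHom L _ (Localization.AtPrime Q)))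
  have hag : ∀ t, Ideal.Quotient.mk J (χ2 t) = ψ (IsScalarTower.toAlgHom L _ (Localization.AtPrime Q) t) :=
    fun t => AlgHom.congr_fun hχ2 t
  have hunit : ∀ s : Q.primeCompl, IsUnit (χ2 s) := by
    intro s
    have h1 : IsUnit (ψ (IsScalarTower.toAlgHom L _ (Localization.AtPrime Q) s.1)) :=
      (IsLocalization.map_units (Localization.AtPrime Q) s).map ψ
    rw [← hag] at h1
    by_contra hn
    have hm : χ2 s ∈ IsLocalRing.maximalIdeal A := hn
    obtain ⟨y, hy⟩ := Ideal.Quotient.mk_surjective (h1.unit⁻¹ : (A ⧸ J)ˣ).1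
    have h2 : χ2 s * y - 1 ∈ J := Ideal.Quotient.eq.mp (by
      rw [map_mul, map_one, hy, IsUnit.mul_val_inv])
    have hJm : J ≤ IsLocalRing.maximalIdeal A := IsLocalRing.le_maximalIdeal fun h => by
      rw [h, Ideal.top_pow] at hJ
      exact top_ne_bot hJ
    have := (IsLocalRing.maximalIdeal A).sub_mem ((IsLocalRing.maximalIdeal A).mul_mem_right y hm) (hJm h2)
    rw [sub_sub_cancel] at this
    exact (IsLocalRing.maximalIdeal.isMaximal A).ne_top ((Ideal.eq_top_iff_one _).mpr this)
  refine ⟨IsLocalization.liftAlgHom hunit, ?_⟩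
  refine IsLocalization.algHom_ext Q.primeCompl ?_
  ext t
  show Ideal.Quotient.mk J (IsLocalization.lift _ (algebraMap _ (Localization.AtPrime Q) t)) = _
  rw [IsLocalization.lift_eq]
  exact hag t

end Groth.Agent.S9308
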