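import Groth.Statements.S9309
import Groth.Agent.PopescuLib.HenzColim

set_option autoImplicit false
universe u
open CAlg

namespace Groth.Agent.S9309

/-- Every henselian local ring A is the colimit of a directed system of henselian local G-rings whose
transition maps are local homomorphisms; that is, there is such a system whose direct limit is
isomorphic to A. -/
theorem result (A : Type u) [CommRing A]
    [HenselianLocalRing A] :
    ∃ (ι : Type u) (_ : Preorder ι) (_ : IsDirectedOrder ι) (_ : Nonempty ι) (G : ι → Type u)
      (_ : ∀ i, CommRing (G i)) (f : ∀ i j : ι, i ≤ j → (G i →+* G j))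
      (_ : DirectedSystem G (fun i j h => f i j h)),
      (∀ i, HenselianLocalRing (G i) ∧ CAlg.IsGRing (G i)) ∧
      (∀ (i j : ι) (h : i ≤ j), IsLocalHom (f i j h)) ∧
      Nonempty (A ≃+* DirectLimit G f) := by
  exact PopescuLib.exists_colim_henselian_gRing A

end Groth.Agent.S9309
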