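import Groth.Statements.S9310
import Groth.Agent.PSLib.Regular

set_option autoImplicit false
universe u
open CAlg

namespace Groth.Agent.S9310

/-- Let K be a field, A = K[[x_1, ..., x_n]], and y_1, ..., y_n ∈ A a regular system of parameters (n
elements generating the maximal ideal). Then the substitution map K[[y_1, ..., y_n]] → A is an
isomorphism: f ↦ f(y_1, ..., y_n) is a bijection of K[[x_1, ..., x_n]] onto itself. -/
theorem result (K : Type u) [Field K] (n : ℕ)
    (y : Fin n → MvPowerSeries (Fin n) K)
    (hy : Ideal.span (Set.range y) = IsLocalRing.maximalIdeal (MvPowerSeries (Fin n) K)) :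
    Function.Bijective (MvPowerSeries.subst y : MvPowerSeries (Fin n) K → MvPowerSeries (Fin n) K) := by
  classical
  rw [PSLib.maximalIdeal_eq_vars] at hy
  have hmem : ∀ i, y i ∈ PSLib.vars n K := fun i => hy ▸ Ideal.subset_span ⟨i, rfl⟩
  have hs : MvPowerSeries.HasSubst y :=
    MvPowerSeries.hasSubst_of_constantCoeff_zero fun i => PSLib.mem_vars_iff.1 (hmem i)
  rw [← MvPowerSeries.coe_substAlgHom hs]
  refine PSLib.bijective_of_first_order _ (fun i => by rw [MvPowerSeries.substAlgHom_X]; exact hmem i)
    fun j => Submodule.mem_sup_left ?_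
  simp only [MvPowerSeries.substAlgHom_X]
  rw [hy]
  exact Ideal.subset_span ⟨j, rfl⟩


end Groth.Agent.S9310
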