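import Groth.Statements.S9311
import Groth.Agent.PSLib.Basic

set_option autoImplicit false
universe u
open CAlg

namespace Groth.Agent.S9311

/-- Let Λ be a Cohen ring (a complete discrete valuation ring whose maximal ideal is generated by a
prime number p), B = Λ[[x_1, ..., x_n]], and y_1, ..., y_n ∈ B with zero constant terms such that p,
y_1, ..., y_n is a regular system of parameters of B (these n + 1 elements generate the maximal
ideal). Then the substitution map Λ[[y_1, ..., y_n]] → B is an isomorphism: f ↦ f(y_1, ..., y_n) is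
a bijection of Λ[[x_1, ..., x_n]] onto itself. (The published statement allows the y_i to have
constant terms in pΛ, the substitution being defined through the (p, x)-adic topology of B; this row
asks the constant terms to vanish, the case in which substitution is defined coefficientwise with no
topology on Λ.) -/
theorem result (Λ : Type u) [CommRing Λ] [IsDomain Λ]
    [IsDiscreteValuationRing Λ] [IsAdicComplete (IsLocalRing.maximalIdeal Λ) Λ] (p : ℕ) (hp : p.Prime)
    (hm : IsLocalRing.maximalIdeal Λ = Ideal.span {(p : Λ)}) (n : ℕ)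
    (y : Fin n → MvPowerSeries (Fin n) Λ) (hy0 : ∀ i, MvPowerSeries.constantCoeff (y i) = 0)
    (hy : Ideal.span (insert (p : MvPowerSeries (Fin n) Λ) (Set.range y)) =
      IsLocalRing.maximalIdeal (MvPowerSeries (Fin n) Λ)) :
    Function.Bijective (MvPowerSeries.subst y : MvPowerSeries (Fin n) Λ → MvPowerSeries (Fin n) Λ) := by
  have hy' : ∀ i, y i ∈ PSLib.vars n Λ := fun i => PSLib.mem_vars_iff.2 (hy0 i)
  obtain ⟨φ, hφ⟩ := PSLib.exists_algHom (R := Λ) (PSLib.vars n Λ) y hy'
  rw [← PSLib.subst_eq hy' φ hφ]
  refine PSLib.bijective_of_first_order φ (fun i => (hφ i).symm ▸ hy' i) fun j => ?_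
  simp only [hφ]
  let P : MvPowerSeries (Fin n) Λ := (p : MvPowerSeries (Fin n) Λ)
  have hP : P = MvPowerSeries.C (p : Λ) := (map_natCast _ p).symm
  have hjac : Ideal.span {P} ≤ Ideal.jacobson ⊥ := by
    rw [IsLocalRing.jacobson_eq_maximalIdeal ⊥ bot_ne_top, ← hy]
    exact Ideal.span_mono (Set.singleton_subset_iff.2 (Set.mem_insert _ _))
  have hle : PSLib.vars n Λ ≤
      (Ideal.span (Set.range y) ⊔ PSLib.vars n Λ ^ 2) ⊔ Ideal.span {P} • PSLib.vars n Λ := by
    intro z hz
    have hzm : z ∈ IsLocalRing.maximalIdeal (MvPowerSeries (Fin n) Λ) := by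
      rw [IsLocalRing.mem_maximalIdeal, mem_nonunits_iff, MvPowerSeries.isUnit_iff_constantCoeff,
        PSLib.mem_vars_iff.1 hz]
      exact not_isUnit_zero
    rw [← hy, Ideal.span_insert] at hzm
    obtain ⟨a, ha, b, hb, hab⟩ := Submodule.mem_sup.1 hzm
    obtain ⟨c, hc⟩ := Ideal.mem_span_singleton'.1 ha
    have hb0 : MvPowerSeries.constantCoeff b = 0 := by
      have : Ideal.span (Set.range y) ≤ PSLib.vars n Λ := by
        rw [Ideal.span_le]; rintro _ ⟨i, rfl⟩; exact hy' i
      exact PSLib.mem_vars_iff.1 (this hb)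
    have hc0 : MvPowerSeries.constantCoeff c = 0 := by
      have := congrArg MvPowerSeries.constantCoeff hab
      rw [← hc, map_add, map_mul, map_natCast, hb0, add_zero, PSLib.mem_vars_iff.1 hz] at this
      refine (mul_eq_zero.1 this).resolve_right fun h0 => ?_
      apply IsDiscreteValuationRing.not_a_field (R := Λ)
      rw [hm, h0, Ideal.span_singleton_eq_bot.2 rfl]
    rw [← hab, add_comm]
    refine Submodule.add_mem_sup (Submodule.mem_sup_left hb) ?_
    rw [← hc, mul_comm, smul_eq_mul]
    exact Ideal.mul_mem_mul (Ideal.mem_span_singleton_self P) (PSLib.mem_vars_iff.2 hc0)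
  exact Submodule.le_of_le_smul_of_le_jacobson_bot (Submodule.fg_span (Set.finite_range _)) hjac hle
    (Ideal.subset_span ⟨j, rfl⟩)


end Groth.Agent.S9311
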