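import Groth.Statements.S9312
import Mathlib

set_option autoImplicit false
universe u
open CAlg

namespace Groth.Agent.S9312
open TensorProduct

/-- The product of the conjugates of a linear factor. -/
noncomputable def nrm {G S : Type*} [Fintype G] [CommRing S] (φ : G → S →+* S) (f : S) : Polynomial S :=
  ∏ σ : G, (Polynomial.X - Polynomial.C (φ σ f))

theorem nrm_lifts {G S P : Type*} [Group G] [Fintype G] [CommRing S] [CommRing P] (ι : P →+* S)
    (φ : G → S →+* S) (hmul : ∀ σ τ x, φ σ (φ τ x) = φ (σ * τ) x)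
    (hinv : ∀ s, (∀ σ, φ σ s = s) → s ∈ Set.range ι) (f : S) :
    ∃ Q : Polynomial P, Q.map ι = nrm φ f := by
  refine (Polynomial.mem_lifts _).1 ((Polynomial.lifts_iff_coeff_lifts _).2 fun i => hinv _ fun τ => ?_)
  have h : (nrm φ f).map (φ τ) = nrm φ f := by
    simp only [nrm, Polynomial.map_prod, Polynomial.map_sub, Polynomial.map_X, Polynomial.map_C, hmul]
    exact Fintype.prod_equiv (Equiv.mulLeft τ) _ _ fun σ => rfl
  conv_rhs => rw [← h]
  rw [Polynomial.coeff_map]

theorem inv_mvPolynomial {G S P α : Type*} [CommRing S] [CommRing P] (ι : P →+* S) (φ : G → S →+* S)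
    (hinv : ∀ s, (∀ σ, φ σ s = s) → s ∈ Set.range ι) (s : MvPolynomial α S)
    (hs : ∀ σ, MvPolynomial.map (φ σ) s = s) : s ∈ Set.range (MvPolynomial.map ι) := by
  have h : ∀ d, MvPolynomial.coeff d s ∈ Set.range ι := fun d => hinv _ fun σ => by
    conv_rhs => rw [← hs σ]
    rw [MvPolynomial.coeff_map]
  choose p hp using h
  refine ⟨∑ d ∈ s.support, MvPolynomial.monomial d (p d), ?_⟩
  simp only [map_sum, MvPolynomial.map_monomial, hp]
  exact (MvPolynomial.as_sum s).symm

theorem main (R₀ R G A : Type u) [CommRing R₀] [CommRing R] [Algebra R₀ R] [Group G] [Fintype G]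
    [MulSemiringAction G R] [SMulCommClass G R₀ R] [CommRing A] [Algebra R₀ A]
    (hinj : Function.Injective (algebraMap R₀ R))
    (hfix0 : ∀ r : R, (∀ σ : G, MulSemiringAction.toRingHom G R σ r = r) → r ∈ Set.range (algebraMap R₀ R))
    (hfixed : ∀ (σ : G) (r : R₀), σ • algebraMap R₀ R r = algebraMap R₀ R r) :
    (∀ b : A ⊗[R₀] R,
      (∀ σ : G, Algebra.TensorProduct.map (AlgHom.id R₀ A) (MulSemiringAction.toAlgHom R₀ R σ) b = b) →
      ∃ P : Polynomial A, P.Monic ∧
        Polynomial.map (algebraMap A (A ⊗[R₀] R)) P = (Polynomial.X - Polynomial.C b) ^ Fintype.card G) ∧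
    (∀ a : A, algebraMap A (A ⊗[R₀] R) a = 0 →
      ∀ i : ℕ, i < Fintype.card G → ((Polynomial.X - Polynomial.C a) ^ Fintype.card G).coeff i = 0) := by
  classical
  let α₀ : R₀ →+* R := algebraMap R₀ R
  let ι : (MvPolynomial A R₀) →+* (MvPolynomial A R) := MvPolynomial.map α₀
  let φ : G → (MvPolynomial A R) →+* (MvPolynomial A R) := fun σ => MvPolynomial.map (MulSemiringAction.toRingHom G R σ)
  have hmul : ∀ σ τ x, φ σ (φ τ x) = φ (σ * τ) x := fun σ τ x => by
    simp only [φ, MvPolynomial.map_map]
    congr 2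
    ext r
    simp [MulSemiringAction.toRingHom, mul_smul]
  have hinv : ∀ s, (∀ σ, φ σ s = s) → s ∈ Set.range ι :=
    inv_mvPolynomial α₀ (fun σ => MulSemiringAction.toRingHom G R σ) hfix0
  let ev : (MvPolynomial A R₀) →+* A := MvPolynomial.eval₂Hom (algebraMap R₀ A) id
  let inR : R →+* A ⊗[R₀] R := (Algebra.TensorProduct.includeRight : R →ₐ[R₀] A ⊗[R₀] R).toRingHom
  let Θ : (MvPolynomial A R) →+* A ⊗[R₀] R := MvPolynomial.eval₂Hom inR (fun a => algebraMap A (A ⊗[R₀] R) a)
  have hΘι : ∀ x, Θ (ι x) = algebraMap A (A ⊗[R₀] R) (ev x) := by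
    intro x
    induction x using MvPolynomial.induction_on with
    | C r =>
      simp only [Θ, ι, ev, MvPolynomial.map_C, MvPolynomial.eval₂Hom_C]
      refine ((Algebra.TensorProduct.includeRight : R →ₐ[R₀] A ⊗[R₀] R).commutes r).trans ?_
      rw [← IsScalarTower.algebraMap_apply]
    | add x y hx hy => simp only [map_add, hx, hy]
    | mul_X x a hx =>
      simp only [map_mul, hx]
      simp [Θ, ι, ev]
  let J : Ideal (MvPolynomial A R) := (RingHom.ker ev).map ι
  have hevs : Function.Surjective ev := fun a => ⟨MvPolynomial.X a, MvPolynomial.eval₂Hom_X' _ _ _⟩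
  let α1 : A →+* (MvPolynomial A R) ⧸ J := ev.liftOfSurjective hevs ⟨(Ideal.Quotient.mk J).comp ι, fun x hx => by
    rw [RingHom.mem_ker, RingHom.comp_apply, Ideal.Quotient.eq_zero_iff_mem]
    exact Ideal.mem_map_of_mem ι hx⟩
  have hα1 : ∀ x, α1 (ev x) = Ideal.Quotient.mk J (ι x) := fun x =>
    ev.liftOfRightInverse_comp_apply _ _ _ x
  let α1' : A →ₐ[R₀] (MvPolynomial A R) ⧸ J := { α1 with
    commutes' := fun r => by
      change α1 (algebraMap R₀ A r) = Ideal.Quotient.mk J (MvPolynomial.C (α₀ r))
      rw [show algebraMap R₀ A r = ev (MvPolynomial.C r) from (MvPolynomial.eval₂Hom_C _ _ _).symm, hα1]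
      simp [ι] }
  let β : R →ₐ[R₀] (MvPolynomial A R) ⧸ J := { (Ideal.Quotient.mk J).comp MvPolynomial.C with commutes' := fun r => rfl }
  let Λ : A ⊗[R₀] R →ₐ[R₀] (MvPolynomial A R) ⧸ J := Algebra.TensorProduct.lift α1' β fun _ _ => .all _ _
  have hΛ : ∀ x, Λ (Θ x) = Ideal.Quotient.mk J x := by
    intro x
    induction x using MvPolynomial.induction_on with
    | C r =>
      simp only [Θ, MvPolynomial.eval₂Hom_C]
      change Λ ((1 : A) ⊗ₜ r) = _
      simp only [Λ]
      rw [Algebra.TensorProduct.lift_tmul, map_one, one_mul]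
      rfl
    | add x y hx hy => simp only [map_add, hx, hy]
    | mul_X x a hx =>
      rw [map_mul, map_mul, hx, map_mul]
      refine congrArg _ ?_
      simp only [Θ, MvPolynomial.eval₂Hom_X']
      change Λ (a ⊗ₜ (1 : R)) = _
      simp only [Λ]
      rw [Algebra.TensorProduct.lift_tmul, map_one, mul_one]
      change α1 a = _
      rw [show a = ev (MvPolynomial.X a) by simp [ev], hα1]
      simp [ι, ev]
  have hΘs : Function.Surjective Θ := by
    intro z
    induction z using TensorProduct.induction_on with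
    | zero => exact ⟨0, map_zero _⟩
    | tmul a r =>
      refine ⟨MvPolynomial.X a * MvPolynomial.C r, ?_⟩
      simp [Θ, inR]
    | add x y hx hy =>
      obtain ⟨⟨x, rfl⟩, ⟨y, rfl⟩⟩ := And.intro hx hy
      exact ⟨x + y, map_add _ _ _⟩
  refine ⟨fun b hb => ?_, fun a ha i hi => ?_⟩
  · obtain ⟨f, rfl⟩ := hΘs b
    obtain ⟨Q, hQ⟩ := nrm_lifts ι φ hmul hinv f
    have hι : Function.Injective ι := MvPolynomial.map_injective α₀ hinj
    have hcomm : ∀ σ x, Θ (φ σ x) =
        Algebra.TensorProduct.map (AlgHom.id R₀ A) (MulSemiringAction.toAlgHom R₀ R σ) (Θ x) := by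
      intro σ x
      induction x using MvPolynomial.induction_on with
      | C r => simp [φ, Θ, inR]
      | add x y hx hy => simp only [map_add, hx, hy]
      | mul_X x a hx =>
        simp only [map_mul, hx]
        simp [φ, Θ]
    refine ⟨Q.map ev, Polynomial.Monic.map _ (Polynomial.monic_of_injective hι ?_), ?_⟩
    · rw [hQ]
      exact Polynomial.monic_prod_of_monic _ _ fun σ _ => Polynomial.monic_X_sub_C _
    · rw [Polynomial.map_map, show (algebraMap A (A ⊗[R₀] R)).comp ev = Θ.comp ι from
        RingHom.ext fun x => (hΘι x).symm, ← Polynomial.map_map, hQ, nrm, Polynomial.map_prod]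
      simp only [Polynomial.map_sub, Polynomial.map_X, Polynomial.map_C, hcomm, hb]
      rw [Finset.prod_const, Finset.card_univ]
  · have hmem : (MvPolynomial.X a : (MvPolynomial A R)) ∈ J := by
      rw [← Ideal.Quotient.eq_zero_iff_mem, ← hΛ]
      rw [show Θ (MvPolynomial.X a) = algebraMap A (A ⊗[R₀] R) a from MvPolynomial.eval₂Hom_X' _ _ _]
      rw [ha, map_zero]
    obtain ⟨m, g, k, hsum⟩ := Submodule.mem_span_set'.1 hmem
    choose kk hk hkk using fun j => (k j).2
    let φT : G → (MvPolynomial (Fin m) (MvPolynomial A R)) →+* (MvPolynomial (Fin m) (MvPolynomial A R)) := fun σ => MvPolynomial.map (φ σ)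
    have hmulT : ∀ σ τ x, φT σ (φT τ x) = φT (σ * τ) x := fun σ τ x => by
      simp only [φT, MvPolynomial.map_map]
      congr 2
      exact RingHom.ext (hmul σ τ)
    let F : (MvPolynomial (Fin m) (MvPolynomial A R)) := ∑ j, MvPolynomial.C (g j) * MvPolynomial.X j
    obtain ⟨Q, hQ⟩ := nrm_lifts (MvPolynomial.map (σ := Fin m) ι) φT hmulT
      (inv_mvPolynomial ι φ hinv) F
    have key : ∀ v : Fin m → (MvPolynomial A R₀), ∀ y : (MvPolynomial A R₀), (∑ j, g j * ι (v j)) = ι y →
        Q.map (MvPolynomial.eval v) = (Polynomial.X - Polynomial.C y) ^ Fintype.card G := by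
      intro v y hy
      refine Polynomial.map_injective ι (MvPolynomial.map_injective α₀ hinj) ?_
      rw [Polynomial.map_map, show ι.comp (MvPolynomial.eval v) =
          (MvPolynomial.eval fun j => ι (v j)).comp (MvPolynomial.map ι) from
        MvPolynomial.ringHom_ext (fun r => by simp) (fun j => by simp), ← Polynomial.map_map, hQ, nrm,
        Polynomial.map_prod, Polynomial.map_pow, Polynomial.map_sub, Polynomial.map_X, Polynomial.map_C,
        ← Finset.card_univ, ← Finset.prod_const]
      refine Finset.prod_congr rfl fun σ _ => ?_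
      rw [Polynomial.map_sub, Polynomial.map_X, Polynomial.map_C]
      refine congrArg (fun z : MvPolynomial A R => Polynomial.X - Polynomial.C z) ?_
      have hfix : ∀ z : (MvPolynomial A R₀), φ σ (ι z) = ι z := fun z => by
        simp only [φ, ι, MvPolynomial.map_map]
        congr 2
        ext r
        exact hfixed σ r
      have h1 : MvPolynomial.eval (fun j => ι (v j)) (φT σ F) = φ σ (∑ j, g j * ι (v j)) := by
        simp only [F, φT, map_sum, map_mul, MvPolynomial.map_C, MvPolynomial.map_X, MvPolynomial.eval_C,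
          MvPolynomial.eval_X, hfix]
      rw [h1, hy, hfix]
    have h1 := key kk (MvPolynomial.X a) (by
      simp only [hkk]
      simp only [smul_eq_mul] at hsum
      rw [hsum]
      simp [ι])
    have h0 := key 0 0 (by simp)
    have he : ev.comp (MvPolynomial.eval kk) = ev.comp (MvPolynomial.eval (0 : Fin m → (MvPolynomial A R₀))) :=
      MvPolynomial.ringHom_ext (fun r => by simp) (fun j => by
        simp only [RingHom.comp_apply, MvPolynomial.eval_X, Pi.zero_apply, map_zero]
        exact hk j)
    have h2 := congrArg (Polynomial.map ev) h1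
    rw [Polynomial.map_map, he, ← Polynomial.map_map, h0] at h2
    simp only [Polynomial.map_pow, Polynomial.map_sub, Polynomial.map_X, Polynomial.map_C, map_zero,
      sub_zero] at h2
    rw [show ev (MvPolynomial.X a) = a by simp [ev]] at h2
    rw [← h2, Polynomial.coeff_X_pow, if_neg hi.ne]



/-- Let a finite group G with n elements act on a ring R by ring automorphisms, with invariant ring R^G,
and let A be an algebra over R^G; G acts on A ⊗ R through the factor R. (1) For every G-invariant b
∈ A ⊗ R there is a monic polynomial over A whose image in (A ⊗ R)[T] is (T - b)^n. (2) For every a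
in the kernel of A → A ⊗ R, all coefficients of (T - a)^n below degree n vanish, that is (T - a)^n =
T^n in A[T]. -/
theorem result (R G A : Type u) [CommRing R] [Group G] [Fintype G]
    [MulSemiringAction G R] [CommRing A] [Algebra (FixedPoints.subring R G) A] :
    (∀ b : TensorProduct (FixedPoints.subring R G) A R,
      (∀ σ : G, Algebra.TensorProduct.map (AlgHom.id (FixedPoints.subring R G) A)
        (MulSemiringAction.toAlgHom (FixedPoints.subring R G) R σ) b = b) →
      ∃ P : Polynomial A, P.Monic ∧
        Polynomial.map (algebraMap A (TensorProduct (FixedPoints.subring R G) A R)) P =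
          (Polynomial.X - Polynomial.C b) ^ Fintype.card G) ∧
    (∀ a : A, algebraMap A (TensorProduct (FixedPoints.subring R G) A R) a = 0 →
      ∀ i : ℕ, i < Fintype.card G → ((Polynomial.X - Polynomial.C a) ^ Fintype.card G).coeff i = 0) := by
  exact main (FixedPoints.subring R G) R G A Subtype.val_injective (fun r hr => ⟨⟨r, hr⟩, rfl⟩) (fun σ r => r.2 σ)


end Groth.Agent.S9312
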