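import Groth.Statements.S9313
import Mathlib.RingTheory.ZariskisMainTheorem
import Mathlib.Tactic

set_option autoImplicit false
universe u
open CAlg

namespace Groth.Agent.S9313
open Polynomial in
/-- The elements `r` of the integral closure with `B'[1/r] = B[1/r]` form an ideal. -/
theorem exists_isoIdeal (A B : Type u) [CommRing A] [CommRing B] [Algebra A B] :
    ∃ J : Ideal (integralClosure A B), ∀ r, r ∈ J ↔
      ∀ x : B, ∃ m : ℕ, (r : B) ^ m * x ∈ integralClosure A B := by
  have hK : ∀ (x : B) (r : integralClosure A B) (m : ℕ), (r : B) ^ m * x ∈ integralClosure A B →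
      ∀ n, m ≤ n → ∀ c : integralClosure A B, (c : B) * ((r : B) ^ n * x) ∈ integralClosure A B := by
    intro x r m h n hn c
    obtain ⟨k, rfl⟩ := Nat.exists_eq_add_of_le hn
    rw [pow_add, mul_comm ((r : B) ^ m), mul_assoc]
    exact mul_mem c.2 (mul_mem (pow_mem r.2 k) h)
  refine ⟨{ carrier := {r | ∀ x : B, ∃ m : ℕ, (r : B) ^ m * x ∈ integralClosure A B}
            zero_mem' := fun x => ⟨1, by simp⟩
            add_mem' := ?_
            smul_mem' := ?_ }, fun r => Iff.rfl⟩
  · intro r s hr hs x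
    obtain ⟨m, hm⟩ := hr x
    obtain ⟨n, hn⟩ := hs x
    refine ⟨m + n, ?_⟩
    rw [show (((r + s : integralClosure A B)) : B) = (r : B) + s from rfl, add_pow, Finset.sum_mul]
    refine sum_mem fun i hi => ?_
    rcases le_or_gt m i with h | h
    · have := hK x r m hm i h (s ^ (m + n - i) * ((m + n).choose i : integralClosure A B))
      push_cast at this
      convert this using 1
      ring
    · have := hK x s n hn (m + n - i) (by omega) (r ^ i * ((m + n).choose i : integralClosure A B))
      push_cast at this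
      convert this using 1
      ring
  · intro c r hr x
    obtain ⟨m, hm⟩ := hr x
    refine ⟨m, ?_⟩
    have := hK x r m hm m le_rfl (c ^ m)
    push_cast at this
    rwa [show ((c • r : integralClosure A B) : B) = (c : B) * r from rfl, mul_pow, mul_assoc]

/-- `C₁` does not see the non-isomorphism locus. -/
theorem map_isoIdeal_eq_top (A B : Type u) [CommRing A] [CommRing B] [Algebra A B] [Algebra.FiniteType A B]
    (I : Ideal A) (e : B ⧸ Ideal.map (algebraMap A B) I) (he : IsIdempotentElem e)
    (hfin : Module.Finite (A ⧸ I) ((B ⧸ Ideal.map (algebraMap A B) I) ⧸ Ideal.span {1 - e}))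
    (J : Ideal (integralClosure A B)) (hJ : ∀ r, r ∈ J ↔
      ∀ x : B, ∃ m : ℕ, (r : B) ^ m * x ∈ integralClosure A B) :
    J.map (((Ideal.Quotient.mk (Ideal.span {1 - e})).comp
      (Ideal.Quotient.mk (Ideal.map (algebraMap A B) I))).comp (integralClosure A B).val.toRingHom) = ⊤ := by
  set C := (B ⧸ Ideal.map (algebraMap A B) I) ⧸ Ideal.span {1 - e}
  haveI : Module.Finite A (A ⧸ I) := Module.Finite.of_surjective (Algebra.linearMap A (A ⧸ I)) Ideal.Quotient.mk_surjective
  haveI : Module.Finite A C := Module.Finite.trans (A ⧸ I) C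
  let π : B →ₐ[A] C := (Ideal.Quotient.mkₐ A _).comp (Ideal.Quotient.mkₐ A _)
  by_contra hne
  obtain ⟨M, hM, hJM⟩ := Ideal.exists_le_maximal _ hne
  obtain ⟨ee, hee⟩ := Ideal.Quotient.mk_surjective e
  let q : Ideal B := M.comap π
  haveI : q.IsPrime := Ideal.IsPrime.comap _
  have hπI : ∀ z ∈ Ideal.map (algebraMap A B) I, π z = 0 := fun z hz => by
    show Ideal.Quotient.mk _ (Ideal.Quotient.mk _ z) = 0
    rw [Ideal.Quotient.eq_zero_iff_mem.2 hz, map_zero]
  have hπe : π ee = 1 := by
    show Ideal.Quotient.mk _ (Ideal.Quotient.mk _ ee) = 1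
    rw [hee, ← map_one (Ideal.Quotient.mk (Ideal.span {1 - e})), eq_comm, Ideal.Quotient.mk_eq_mk_iff_sub_mem]
    exact Ideal.mem_span_singleton_self _
  have heq : ee ∉ q := fun h => hM.ne_top ((Ideal.eq_top_iff_one _).2 (hπe ▸ (Ideal.mem_comap.1 h)))
  have hIp : I ≤ q.under A := fun a ha => by
    show π (algebraMap A B a) ∈ M
    rw [hπI _ (Ideal.mem_map_of_mem _ ha)]
    exact M.zero_mem
  let L := Localization.AtPrime q
  let P : Ideal L := (q.under A).map (algebraMap A L)
  let g : B →ₐ[A] L ⧸ P := (Ideal.Quotient.mkₐ A P).comp (IsScalarTower.toAlgHom A B L)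
  have hgI : ∀ z ∈ Ideal.map (algebraMap A B) I, g z = 0 := by
    intro z hz
    have : Ideal.map (algebraMap A B) I ≤ RingHom.ker g := Ideal.map_le_iff_le_comap.2 fun a ha => by
      show g (algebraMap A B a) = 0
      rw [AlgHom.commutes]
      exact Ideal.Quotient.eq_zero_iff_mem.2 (Ideal.mem_map_of_mem _ (hIp ha))
    exact this hz
  have hge : IsUnit (g ee) := (IsLocalization.map_units L (⟨ee, heq⟩ : q.primeCompl)).map (Ideal.Quotient.mk P)
  have hge1 : g (1 - ee) = 0 := by
    have h0 : g (ee * ee - ee) = 0 := hgI _ (by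
      rw [← Ideal.Quotient.eq_zero_iff_mem, map_sub, map_mul, hee, he.eq, sub_self])
    refine hge.mul_right_eq_zero.1 ?_
    rw [← map_mul, mul_sub, mul_one, ← neg_sub, map_neg, h0, neg_zero]
  let g₁ : B ⧸ Ideal.map (algebraMap A B) I →ₐ[A] L ⧸ P := Ideal.Quotient.liftₐ _ g hgI
  let g₂ : C →ₐ[A] L ⧸ P := Ideal.Quotient.liftₐ _ g₁ (fun z hz => by
    obtain ⟨w, rfl⟩ := Ideal.mem_span_singleton'.1 hz
    rw [map_mul, ← hee, ← map_one (Ideal.Quotient.mk (Ideal.map (algebraMap A B) I)), ← map_sub]
    show g₁ w * g (1 - ee) = 0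
    rw [hge1, mul_zero])
  haveI : Algebra.WeaklyQuasiFiniteAt A q := by
    rw [Algebra.weaklyQuasiFiniteAt_iff]
    refine Algebra.QuasiFinite.of_forall_exists_mul_mem_range g₂ fun x => ?_
    obtain ⟨y, rfl⟩ := Ideal.Quotient.mk_surjective x
    obtain ⟨b, s, rfl⟩ := IsLocalization.exists_mk'_eq q.primeCompl y
    refine ⟨π s, ?_, π b, ?_⟩
    · exact (IsLocalization.map_units L s).map (Ideal.Quotient.mk P)
    · show g b = Ideal.Quotient.mk P (IsLocalization.mk' L b s) * g (s : B)
      show Ideal.Quotient.mk P (algebraMap B L b) = _ * Ideal.Quotient.mk P (algebraMap B L s)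
      rw [← map_mul, IsLocalization.mk'_spec]
  obtain ⟨r, hr, hri', hrx⟩ := Algebra.zariskisMainProperty_iff.1
    (Algebra.ZariskisMainProperty.of_finiteType_of_weaklyQuasiFiniteAt (R := A) q)
  have hri : r ∈ integralClosure A B := hri'
  exact hr (hJM (Ideal.mem_map_of_mem _ ((hJ ⟨r, hri⟩).2 hrx)))


/-- Let A be a ring with an ideal I and A → B a ring map of finite type, and suppose B/IB = C_1 × C_2
(given by an idempotent e of B/IB with C_1 = (B/IB)/(1 - e)) where C_1 is finite over A/I. Writing
B' for the integral closure of A in B, some g ∈ B' has idempotent image in B'/IB' lifting e (so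
B'/IB' = C_1' × C_2' compatibly with the decomposition of B/IB), and the map B'_g → B_g is an
isomorphism (whence C_1' = C_1). -/
theorem result (A B : Type u) [CommRing A] [CommRing B]
    [Algebra A B] [Algebra.FiniteType A B] (I : Ideal A) (e : B ⧸ Ideal.map (algebraMap A B) I)
    (he : IsIdempotentElem e)
    (hfin : Module.Finite (A ⧸ I) ((B ⧸ Ideal.map (algebraMap A B) I) ⧸ Ideal.span {1 - e})) :
    ∃ g : integralClosure A B,
      IsIdempotentElem (Ideal.Quotient.mk (Ideal.map (algebraMap A (integralClosure A B)) I) g) ∧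
      Ideal.Quotient.mk (Ideal.map (algebraMap A B) I) (g : B) = e ∧
      Function.Bijective (algebraMap (Localization.Away g)
        (Localization (Algebra.algebraMapSubmonoid B (Submonoid.powers g)))) := by
  obtain ⟨J, hJ⟩ := exists_isoIdeal A B
  have htop := map_isoIdeal_eq_top A B I e he hfin J hJ
  set C := (B ⧸ Ideal.map (algebraMap A B) I) ⧸ Ideal.span {1 - e}
  haveI : Module.Finite A (A ⧸ I) := Module.Finite.of_surjective (Algebra.linearMap A (A ⧸ I)) Ideal.Quotient.mk_surjective
  haveI : Module.Finite A C := Module.Finite.trans (A ⧸ I) C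
  let μ : (integralClosure A B) →+* B ⧸ Ideal.map (algebraMap A B) I :=
    (Ideal.Quotient.mk (Ideal.map (algebraMap A B) I)).comp (integralClosure A B).val.toRingHom
  let π : (B ⧸ Ideal.map (algebraMap A B) I) →+* C := Ideal.Quotient.mk (Ideal.span {1 - e})
  have htop' : J.map (π.comp μ) = ⊤ := htop
  -- a finitely generated part of `J` already generates the unit ideal
  obtain ⟨J₀, hJ₀, hfg, hJ₀top⟩ : ∃ J₀ ≤ J, J₀.FG ∧ J₀.map (π.comp μ) = ⊤ := by
    obtain ⟨T, hT, hT'⟩ := Submodule.mem_span_finite_of_mem_span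
      (show (1 : C) ∈ Ideal.span ((π.comp μ) '' J) from (Ideal.eq_top_iff_one _).1 htop')
    classical
    choose f hf hf' using fun t : T => hT t.2
    refine ⟨Ideal.span (Set.range f), Ideal.span_le.2 (by rintro _ ⟨t, rfl⟩; exact hf t),
      Submodule.fg_span (Set.finite_range f), (Ideal.eq_top_iff_one _).2 ?_⟩
    refine Ideal.span_le.2 ?_ hT'
    intro t ht
    have hft := Ideal.mem_map_of_mem (π.comp μ)
      (Ideal.subset_span (Set.mem_range_self (⟨t, ht⟩ : T)) : f ⟨t, ht⟩ ∈ Ideal.span (Set.range f))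
    rw [hf'] at hft
    exact hft
  -- a power of `J₀` pushes given elements of `B` into `(integralClosure A B)`
  have hpush : ∀ x : B, ∃ m : ℕ, ∀ a ∈ J₀ ^ m, (a : B) * x ∈ (integralClosure A B) := by
    intro x
    let K : Ideal (integralClosure A B) :=
      { carrier := {a | (a : B) * x ∈ (integralClosure A B)}
        zero_mem' := by simp
        add_mem' := fun {a b} ha hb => by
          show ((a + b : (integralClosure A B)) : B) * x ∈ (integralClosure A B)
          push_cast; rw [add_mul]; exact add_mem ha hb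
        smul_mem' := fun c a ha => by
          show ((c • a : (integralClosure A B)) : B) * x ∈ (integralClosure A B)
          rw [show ((c • a : (integralClosure A B)) : B) = (c : B) * a from rfl, mul_assoc]; exact mul_mem c.2 ha }
    obtain ⟨m, hm⟩ := Ideal.exists_pow_le_of_le_radical_of_fg (I := J₀) (J := K) (fun r hr => by
      obtain ⟨m, hm⟩ := (hJ r).1 (hJ₀ hr) x
      exact ⟨m, by show ((r ^ m : (integralClosure A B)) : B) * x ∈ (integralClosure A B); push_cast; exact hm⟩) hfg
    exact ⟨m, fun a ha => hm ha⟩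
  -- an element of `J₀` lifting `e`
  obtain ⟨T, hT⟩ := Module.Finite.fg_top (R := A) (M := C)
  obtain ⟨ee, hee⟩ := Ideal.Quotient.mk_surjective e
  choose y hy using fun c : C => (Ideal.Quotient.mk_surjective.comp Ideal.Quotient.mk_surjective :
    Function.Surjective (π ∘ Ideal.Quotient.mk (Ideal.map (algebraMap A B) I))) c
  choose m hm using fun c : C => hpush (ee * y c)
  let M := T.sup m
  let Q : C → Prop := fun d => ∃ u ∈ J₀, e * μ u = μ u ∧ π (μ u) = d
  have hπe : π e = 1 := by
    rw [← map_one π, eq_comm, Ideal.Quotient.mk_eq_mk_iff_sub_mem]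
    exact Ideal.mem_span_singleton_self _
  have hQ0 : Q 0 := ⟨0, J₀.zero_mem, by rw [map_zero, mul_zero], by rw [map_zero, map_zero]⟩
  have hQadd : ∀ d d', Q d → Q d' → Q (d + d') := by
    rintro _ _ ⟨u, hu, h1, rfl⟩ ⟨v, hv, h2, rfl⟩
    exact ⟨u + v, J₀.add_mem hu hv, by rw [map_add, mul_add, h1, h2], by rw [map_add, map_add]⟩
  have hkey : ∀ ν ∈ J₀ ^ (M + 1), ∀ c : C, Q (π (μ ν) * c) := by
    intro ν hν c
    have hc : c ∈ Submodule.span A (T : Set C) := hT ▸ Submodule.mem_top
    induction hc using Submodule.span_induction with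
    | zero => rwa [mul_zero]
    | add p q _ _ hp hq => rw [mul_add]; exact hQadd _ _ hp hq
    | smul a p _ hp =>
      obtain ⟨u, hu, h1, h2⟩ := hp
      refine ⟨algebraMap A (integralClosure A B) a * u, J₀.mul_mem_left _ hu, by rw [map_mul, mul_left_comm, h1], ?_⟩
      rw [map_mul, map_mul, h2, mul_left_comm]
      congr 1
      exact (Algebra.smul_def a p).symm
    | mem t ht =>
      rw [pow_succ'] at hν
      induction hν using Submodule.mul_induction_on' with
      | add p _ q _ hp hq => rw [map_add, map_add, add_mul]; exact hQadd _ _ hp hq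
      | mem_mul_mem a ha b hb =>
        have hb' : (b : B) * (ee * y t) ∈ (integralClosure A B) :=
          hm t b (Ideal.pow_le_pow_right (Finset.le_sup (f := m) ht) hb)
        have hval : μ (a * ⟨_, hb'⟩) = μ a * (μ b * (e * Ideal.Quotient.mk _ (y t))) := by
          rw [map_mul, ← hee]
          show _ * Ideal.Quotient.mk _ ((b : B) * (ee * y t)) = _
          rw [map_mul, map_mul]
          rfl
        refine ⟨a * ⟨_, hb'⟩, J₀.mul_mem_right _ ha, ?_, ?_⟩
        · rw [hval]; linear_combination (μ a * μ b * Ideal.Quotient.mk _ (y t)) * he.eq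
        · rw [hval, map_mul, map_mul, map_mul, hπe, map_mul, map_mul, one_mul,
            show π (Ideal.Quotient.mk _ (y t)) = t from hy t]
          ring
  obtain ⟨u, huJ, hu1, hu2⟩ : Q 1 := by
    have h1 : (1 : C) ∈ (J₀ ^ (M + 1)).map (π.comp μ) := by
      rw [Ideal.map_pow, hJ₀top, Ideal.top_pow]; exact Submodule.mem_top
    suffices ∀ d ∈ (J₀ ^ (M + 1)).map (π.comp μ), ∀ c, Q (d * c) by simpa using this 1 h1 1
    intro d hd
    induction hd using Submodule.span_induction with
    | mem d hd => obtain ⟨ν, hν, rfl⟩ := hd; exact hkey ν hν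
    | zero => intro c; rwa [zero_mul]
    | add p q _ _ hp hq => intro c; rw [add_mul]; exact hQadd _ _ (hp c) (hq c)
    | smul r p _ hp => intro c; rw [smul_eq_mul, mul_comm r, mul_assoc]; exact hp _
  have hu : μ u = e := by
    obtain ⟨w, hw⟩ := Ideal.mem_span_singleton'.1
      ((Ideal.Quotient.mk_eq_mk_iff_sub_mem _ _).1 (hu2.trans (map_one π).symm))
    linear_combination (-1 : B ⧸ Ideal.map (algebraMap A B) I) * hu1 - e * hw - w * he.eq
  -- powers of `J₀` carry `IB` into `IB'`
  have hkill : ∀ w ∈ Ideal.map (algebraMap A B) I, ∃ N, ∀ a ∈ J₀ ^ N,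
      ∀ h : (a : B) * w ∈ (integralClosure A B), (⟨_, h⟩ : (integralClosure A B)) ∈ Ideal.map (algebraMap A (integralClosure A B)) I := by
    intro w hw
    suffices ∃ N, ∀ a ∈ J₀ ^ N, ∃ z ∈ Ideal.map (algebraMap A (integralClosure A B)) I, (z : B) = (a : B) * w by
      obtain ⟨N, hN⟩ := this
      exact ⟨N, fun a ha h => by
        obtain ⟨z, hz, hzv⟩ := hN a ha
        convert hz using 1; exact Subtype.ext hzv.symm⟩
    suffices ∀ c : B, ∃ N, ∀ a ∈ J₀ ^ N, ∃ z ∈ Ideal.map (algebraMap A (integralClosure A B)) I, (z : B) = (a : B) * (c * w) by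
      simpa using this 1
    induction hw using Submodule.span_induction with
    | mem w hw =>
      obtain ⟨i, hi, rfl⟩ := hw
      intro c
      obtain ⟨N, hN⟩ := hpush c
      refine ⟨N, fun a ha => ⟨algebraMap A (integralClosure A B) i * ⟨_, hN a ha⟩,
        Ideal.mul_mem_right _ _ (Ideal.mem_map_of_mem _ hi), ?_⟩⟩
      show algebraMap A B i * ((a : B) * c) = _
      ring
    | zero => exact fun c => ⟨0, fun a _ => ⟨0, zero_mem _, by simp⟩⟩
    | smul r p _ hp =>
      intro c
      rw [smul_eq_mul, ← mul_assoc]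
      exact hp _
    | add p q _ _ hp hq =>
      intro c
      obtain ⟨N, hN⟩ := hp c
      obtain ⟨N', hN'⟩ := hq c
      refine ⟨max N N', fun a ha => ?_⟩
      obtain ⟨z, hz, e1⟩ := hN a (Ideal.pow_le_pow_right (le_max_left _ _) ha)
      obtain ⟨z', hz', e2⟩ := hN' a (Ideal.pow_le_pow_right (le_max_right _ _) ha)
      exact ⟨z + z', add_mem hz hz', by push_cast; rw [e1, e2]; ring⟩
  obtain ⟨N, hN⟩ := hkill ((u : B) * u - u) (by
    rw [← Ideal.Quotient.eq_zero_iff_mem, map_sub, map_mul]
    show μ u * μ u - μ u = 0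
    rw [hu, he.eq, sub_self])
  have hstab : Ideal.Quotient.mk (Ideal.map (algebraMap A (integralClosure A B)) I) u ^ (N + 2) =
      Ideal.Quotient.mk (Ideal.map (algebraMap A (integralClosure A B)) I) u ^ (N + 1) := by
    rw [← map_pow, ← map_pow, Ideal.Quotient.mk_eq_mk_iff_sub_mem]
    have hmem : ((u ^ N : (integralClosure A B)) : B) * ((u : B) * u - u) ∈ (integralClosure A B) := mul_mem (u ^ N).2 (sub_mem (mul_mem u.2 u.2) u.2)
    convert hN _ (Ideal.pow_mem_pow huJ N) hmem using 1
    apply Subtype.ext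
    push_cast
    ring
  have hpow : ∀ j, Ideal.Quotient.mk (Ideal.map (algebraMap A (integralClosure A B)) I) u ^ (N + 1 + j) =
      Ideal.Quotient.mk (Ideal.map (algebraMap A (integralClosure A B)) I) u ^ (N + 1) := by
    intro j
    induction j with
    | zero => rfl
    | succ j ih => rw [← add_assoc, pow_succ, ih, ← pow_succ, hstab]
  refine ⟨u ^ (N + 1), ?_, ?_, ?_⟩
  · rw [IsIdempotentElem, map_pow, ← pow_add, hpow]
  · show μ (u ^ (N + 1)) = e
    rw [map_pow, hu, he.pow_succ_eq]
  · have hg : u ^ (N + 1) ∈ J := Ideal.pow_mem_of_mem _ (hJ₀ huJ) _ (Nat.succ_pos N)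
    constructor
    · haveI : IsLocalization ((Submonoid.powers (u ^ (N + 1))).map (algebraMap (integralClosure A B) B))
          (Localization (Algebra.algebraMapSubmonoid B (Submonoid.powers (u ^ (N + 1))))) :=
        inferInstanceAs (IsLocalization (Algebra.algebraMapSubmonoid B (Submonoid.powers (u ^ (N + 1)))) _)
      exact IsLocalization.map_injective_of_injective _ _ _ Subtype.val_injective
    · intro z
      obtain ⟨x, ⟨s, hs⟩, rfl⟩ := IsLocalization.exists_mk'_eq
        (Algebra.algebraMapSubmonoid B (Submonoid.powers (u ^ (N + 1)))) z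
      obtain ⟨s', ⟨n, rfl⟩, rfl⟩ := hs
      obtain ⟨k, hk⟩ := (hJ _).1 hg x
      refine ⟨IsLocalization.mk' (Localization.Away (u ^ (N + 1))) (⟨_, hk⟩ : (integralClosure A B))
        (⟨(u ^ (N + 1)) ^ (n + k), ⟨n + k, rfl⟩⟩ : Submonoid.powers (u ^ (N + 1))), ?_⟩
      show IsLocalization.map (T := Algebra.algebraMapSubmonoid B (Submonoid.powers (u ^ (N + 1))))
        (Localization (Algebra.algebraMapSubmonoid B (Submonoid.powers (u ^ (N + 1)))))
        (algebraMap (integralClosure A B) B)
        (show Submonoid.powers (u ^ (N + 1)) ≤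
          (Algebra.algebraMapSubmonoid B (Submonoid.powers (u ^ (N + 1)))).comap _ from
          (Submonoid.powers (u ^ (N + 1))).le_comap_map) (IsLocalization.mk' _ _ _) = _
      rw [IsLocalization.map_mk', IsLocalization.mk'_eq_iff_eq]
      congr 1
      simp only [Subalgebra.algebraMap_def, SubmonoidClass.coe_pow, MulMemClass.coe_mul, map_pow,
        map_mul, Algebra.algebraMap_self, RingHom.id_apply, pow_add]
      ring


end Groth.Agent.S9313
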