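import Groth.Statements.S9315
import Groth.Agent.AdicSmooth.SmallExt

set_option autoImplicit false
universe u
open CAlg

namespace Groth.Agent.S9315
open IsLocalRing in
theorem kills_pow' {S A : Type u} [CommRing S] [IsLocalRing S] [CommRing A] [IsLocalRing A] (J : Ideal A)
    [IsLocalRing (A ⧸ J)] (f : S →+* A ⧸ J) [IsLocalHom f] {n : ℕ} (hn : maximalIdeal A ^ n = ⊥) :
    ∀ x ∈ maximalIdeal S ^ n, f x = 0 := by
  intro x hx
  have h1 : (maximalIdeal S).map f ≤ (maximalIdeal A).map (Ideal.Quotient.mk J) := by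
    rw [IsLocalRing.map_maximalIdeal_of_surjective _ Ideal.Quotient.mk_surjective]
    exact ((IsLocalRing.local_hom_TFAE f).out 0 2).mp (inferInstance : IsLocalHom f)
  have h2 := (Ideal.map_pow f _ n).trans_le (Ideal.pow_right_mono h1 n) (Ideal.mem_map_of_mem f hx)
  rw [← Ideal.map_pow, hn, Ideal.map_bot] at h2
  exact h2

open IsLocalRing in
theorem adic_of_lift_nilpotent {R S : Type u} [CommRing R] [CommRing S]
    [IsLocalRing R] [IsLocalRing S] [Algebra R S] [IsLocalHom (algebraMap R S)]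
    (h : ∀ (A : Type u) [CommRing A] [IsLocalRing A] [Algebra R A] [IsLocalHom (algebraMap R A)]
        (J : Ideal A), J ^ 2 = ⊥ → (∃ n : ℕ, maximalIdeal A ^ n = ⊥) →
        ∀ [IsLocalRing (A ⧸ J)] (ψ : S →ₐ[R] A ⧸ J) [IsLocalHom ψ.toRingHom],
          Function.Bijective (ResidueField.map ψ.toRingHom) →
          ∃ χ : S →ₐ[R] A, (Ideal.Quotient.mkₐ R J).comp χ = ψ) :
    CAlgX.IsAdicFormallySmooth R S (maximalIdeal S) := by
  intro A _ _ J hJ ψ ⟨k, hk⟩
  let n := maximalIdeal S ^ (k + 1)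
  let ψn : (S ⧸ n) →ₐ[R] A ⧸ J :=
    Ideal.Quotient.liftₐ n ψ fun x hx => hk x (Ideal.pow_le_pow_right k.le_succ hx)
  let P : Subalgebra R (A × (S ⧸ n)) :=
    AlgHom.equalizer ((Ideal.Quotient.mkₐ R J).comp (AlgHom.fst R A (S ⧸ n)))
      (ψn.comp (AlgHom.snd R A (S ⧸ n)))
  let p : P →ₐ[R] S ⧸ n := (AlgHom.snd R A (S ⧸ n)).comp P.val
  have hp : Function.Surjective p := fun y => by
    obtain ⟨e, he⟩ := Ideal.Quotient.mk_surjective (ψn y)
    exact ⟨⟨(e, y), he⟩, rfl⟩
  let N : Ideal P := RingHom.ker p.toRingHom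
  have hN1 : ∀ z ∈ N, z.1.1 ∈ J := fun z hz => by
    rw [← Ideal.Quotient.eq_zero_iff_mem]
    have h1 : Ideal.Quotient.mk J z.1.1 = ψn z.1.2 := z.2
    rw [h1, show z.1.2 = 0 from hz, map_zero]
  have hN : N ^ 2 = ⊥ := by
    rw [eq_bot_iff, pow_two, Ideal.mul_le]
    intro a ha b hb
    refine Ideal.mem_bot.2 (Subtype.ext (Prod.ext ?_ ?_))
    · have h1 := Ideal.mul_mem_mul (hN1 a ha) (hN1 b hb)
      rw [← pow_two, hJ] at h1
      exact h1
    · show a.1.2 * b.1.2 = 0
      rw [show a.1.2 = 0 from ha, zero_mul]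
  haveI : Nontrivial (S ⧸ n) := Ideal.Quotient.nontrivial_iff.2
    (ne_top_of_le_ne_top (maximalIdeal.isMaximal S).ne_top (Ideal.pow_le_self k.succ_ne_zero))
  haveI : IsLocalRing (S ⧸ n) := IsLocalRing.of_surjective' (Ideal.Quotient.mk n) Ideal.Quotient.mk_surjective
  haveI : IsLocalHom (Ideal.Quotient.mk n) := IsLocalHom.of_surjective _ Ideal.Quotient.mk_surjective
  have hunit : ∀ a, IsUnit (p a) → IsUnit a := fun a ha => by
    obtain ⟨y, hy⟩ := hp ↑ha.unit⁻¹
    have hker : a * y - 1 ∈ N := by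
      show p (a * y - 1) = 0
      rw [map_sub, map_mul, map_one, hy, ha.mul_val_inv, sub_self]
    have hn : IsNilpotent (a * y - 1) := ⟨2, by
      have := Ideal.pow_mem_pow hker 2; rw [hN] at this; exact this⟩
    have := hn.isUnit_add_one
    rw [sub_add_cancel] at this
    exact isUnit_of_mul_isUnit_left this
  haveI : Nontrivial P := hp.nontrivial
  haveI : IsLocalHom p.toRingHom := ⟨hunit⟩
  haveI : IsLocalRing P := RingHom.domain_isLocalRing p.toRingHom
  haveI : IsLocalHom (algebraMap R P) := ⟨fun a ha => by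
    have h1 : IsUnit (algebraMap R (S ⧸ n) a) := by rw [← p.commutes]; exact ha.map p
    rw [IsScalarTower.algebraMap_apply R S (S ⧸ n), Ideal.Quotient.algebraMap_eq] at h1
    exact (isUnit_map_iff (algebraMap R S) a).1 ((isUnit_map_iff (Ideal.Quotient.mk n) _).1 h1)⟩
  let eq' := Ideal.quotientKerAlgEquivOfSurjective hp
  haveI : Nontrivial (P ⧸ N) := eq'.symm.injective.nontrivial
  haveI : IsLocalRing (P ⧸ N) := IsLocalRing.of_surjective' (Ideal.Quotient.mk N) Ideal.Quotient.mk_surjective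
  let ψ' : S →ₐ[R] P ⧸ N := eq'.symm.toAlgHom.comp (Ideal.Quotient.mkₐ R n)
  have hψ' : Function.Surjective ψ' := eq'.symm.surjective.comp Ideal.Quotient.mk_surjective
  haveI : IsLocalHom ψ'.toRingHom := IsLocalHom.of_surjective (R := S) (S := P ⧸ N) (ψ'.toRingHom : S →+* P ⧸ N) hψ'
  have hnil : maximalIdeal P ^ ((k + 1) * 2) = ⊥ := by
    have h1 : maximalIdeal P ^ (k + 1) ≤ N := by
      intro x hx
      have h2 : p x ∈ (maximalIdeal (S ⧸ n)) ^ (k + 1) := by
        have h3 : (maximalIdeal P).map p.toRingHom ≤ maximalIdeal (S ⧸ n) :=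
          ((IsLocalRing.local_hom_TFAE p.toRingHom).out 0 2).mp (inferInstance : IsLocalHom p.toRingHom)
        exact (Ideal.map_pow p.toRingHom _ _).trans_le (Ideal.pow_right_mono h3 _)
          (Ideal.mem_map_of_mem p.toRingHom hx)
      rw [← IsLocalRing.map_maximalIdeal_of_surjective _ (Ideal.Quotient.mk_surjective (I := n)),
        ← Ideal.map_pow, Ideal.map_quotient_self] at h2
      exact h2
    rw [pow_mul, eq_bot_iff, ← hN]
    exact Ideal.pow_right_mono h1 2
  obtain ⟨χ, hχ⟩ := h P N hN ⟨_, hnil⟩ ψ'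
    (Groth.Agent.AdicSmooth.residueField_map_bijective_of_surjective _ hψ')
  refine ⟨((AlgHom.fst R A (S ⧸ n)).comp P.val).comp χ, AlgHom.ext fun s => ?_⟩
  have h1 : (χ s).1.2 = Ideal.Quotient.mk n s := by
    have := congrArg eq' (AlgHom.congr_fun hχ s)
    rw [show eq' (ψ' s) = Ideal.Quotient.mk n s from eq'.apply_symm_apply _] at this
    exact this
  show Ideal.Quotient.mk J (χ s).1.1 = ψ s
  rw [show Ideal.Quotient.mk J (χ s).1.1 = ψn (χ s).1.2 from (χ s).2, h1]
  rfl


open IsLocalRing in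
/-- Let `R → S` be a local homomorphism of local rings (no Noetherian hypothesis). Then `R → S` is
formally smooth for the adic topology of the maximal ideal of `S` if and only if the following
lifting property holds: for every local ring `A` with a local structure map `R → A`, every ideal `J`
of `A` of square zero such that some power of the maximal ideal of `A` is zero, and every local
`R`-algebra homomorphism `ψ : S → A/J` inducing a bijection on residue fields, there is an
`R`-algebra homomorphism `S → A` lifting `ψ`. -/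
theorem result {R S : Type u} [CommRing R] [CommRing S]
    [IsLocalRing R] [IsLocalRing S] [Algebra R S] [IsLocalHom (algebraMap R S)] :
    CAlgX.IsAdicFormallySmooth R S (maximalIdeal S) ↔
      ∀ (A : Type u) [CommRing A] [IsLocalRing A] [Algebra R A] [IsLocalHom (algebraMap R A)]
        (J : Ideal A), J ^ 2 = ⊥ → (∃ n : ℕ, maximalIdeal A ^ n = ⊥) →
        ∀ [IsLocalRing (A ⧸ J)] (ψ : S →ₐ[R] A ⧸ J) [IsLocalHom ψ.toRingHom],
          Function.Bijective (ResidueField.map ψ.toRingHom) →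
          ∃ χ : S →ₐ[R] A, (Ideal.Quotient.mkₐ R J).comp χ = ψ := by
  refine ⟨fun h A _ _ _ _ J hJ ⟨n, hn⟩ _ ψ _ _ => h A J hJ ψ ⟨n, kills_pow' J ψ.toRingHom hn⟩, fun h => ?_⟩
  exact adic_of_lift_nilpotent h


end Groth.Agent.S9315
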