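import Groth.Statements.S9316
import Groth.Agent.AdicSmooth.SmallExt

set_option autoImplicit false
universe u
open CAlg

namespace Groth.Agent.S9316
open IsLocalRing in
theorem kills_pow {S B : Type u} [CommRing S] [IsLocalRing S] [CommRing B] [IsLocalRing B] [IsArtinianRing B]
    (f : S →+* B) [IsLocalHom f] : ∃ k : ℕ, ∀ x ∈ maximalIdeal S ^ k, f x = 0 := by
  obtain ⟨k, hk⟩ := IsArtinianRing.isNilpotent_jacobson_bot (R := B)
  refine ⟨k, fun x hx => ?_⟩
  have h1 : (maximalIdeal S).map f ≤ (⊥ : Ideal B).jacobson := by
    rw [IsLocalRing.jacobson_eq_maximalIdeal _ bot_ne_top]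
    exact ((IsLocalRing.local_hom_TFAE f).out 0 2).mp (inferInstance : IsLocalHom f)
  have h2 := (Ideal.map_pow f (maximalIdeal S) k).trans_le (Ideal.pow_right_mono h1 k) (Ideal.mem_map_of_mem f hx)
  rw [hk] at h2
  exact h2


open IsLocalRing in
/-- Let `R → S` be a local homomorphism of local rings with `S` Noetherian. Then `R → S` is formally
smooth for the adic topology of the maximal ideal of `S` if and only if lifts exist along small
extensions: for every Artinian local ring `A` with a local structure map `R → A`, every ideal `J` of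
`A` of square zero which has length one as an `A`-module, and every local `R`-algebra homomorphism
`ψ : S → A/J` inducing a bijection on residue fields, there is an `R`-algebra homomorphism `S → A`
lifting `ψ`. -/
theorem result {R S : Type u} [CommRing R] [CommRing S]
    [IsLocalRing R] [IsLocalRing S] [IsNoetherianRing S] [Algebra R S] [IsLocalHom (algebraMap R S)] :
    CAlgX.IsAdicFormallySmooth R S (maximalIdeal S) ↔
      ∀ (A : Type u) [CommRing A] [IsLocalRing A] [IsArtinianRing A] [Algebra R A]
        [IsLocalHom (algebraMap R A)] (J : Ideal A), J ^ 2 = ⊥ → Module.length A J = 1 →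
        ∀ [IsLocalRing (A ⧸ J)] (ψ : S →ₐ[R] A ⧸ J) [IsLocalHom ψ.toRingHom],
          Function.Bijective (ResidueField.map ψ.toRingHom) →
          ∃ χ : S →ₐ[R] A, (Ideal.Quotient.mkₐ R J).comp χ = ψ := by
  refine ⟨fun h A _ _ _ _ _ J hJ _ _ ψ _ _ => h A J hJ ψ (kills_pow ψ.toRingHom), fun h => ?_⟩
  exact Groth.Agent.AdicSmooth.isAdicFormallySmooth_of_smallLift h


end Groth.Agent.S9316
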