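import Groth.Statements.S9319
import Groth.Agent.CoeffField.Smooth

set_option autoImplicit false
universe u
open CAlg

namespace Groth.Agent.S9319
open TensorProduct Algebra in
theorem smul_X_eq {R S ι : Type u} [CommRing R] [CommRing S] [Algebra R S] (Q : Generators R S ι)
    {W : Type u} [AddCommGroup W] [Module S W] [Module Q.Ring W] [IsScalarTower Q.Ring S W] (i : ι) (w : W) :
    @HSMul.hSMul Q.Ring W W _ (MvPolynomial.X i) w = Q.val i • w := by
  let x : Q.Ring := MvPolynomial.X i
  show x • w = _
  rw [← IsScalarTower.algebraMap_smul S x w]
  congr 1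
  exact (Generators.algebraMap_apply Q x).trans (MvPolynomial.aeval_X _ i)

open TensorProduct Algebra in
theorem h1_inj_over {F : Type*} {K L M : Type u} [Field F] [PerfectField F] [Field K] [Field L] [Field M]
    [Algebra F K] [Algebra F L] [Algebra F M] [Algebra K L] [Algebra L M] [Algebra K M]
    [IsScalarTower K L M] [IsScalarTower F K L] [IsScalarTower F K M] :
    Function.Injective ((Algebra.H1Cotangent.map K K L M).liftBaseChange M) := by
  have : Algebra.FormallySmooth F L := Groth.Agent.CoeffField.formallySmooth_of_perfectField F L
  have hδ : Function.Injective (H1Cotangent.δ F K L) := by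
    rw [injective_iff_map_eq_zero]
    intro x hx
    obtain ⟨y, rfl⟩ := (H1Cotangent.exact_map_δ F K L x).1 hx
    rw [Subsingleton.elim y 0, map_zero]
  let e := (AlgebraTensorModule.cancelBaseChange K L M M Ω[K⁄F])
  have haux : ∀ x : (Generators.self K L).Ring,
      Generators.H1Cotangent.δAux F (Generators.self K M)
        ((Generators.defaultHom (Generators.self K L) (Generators.self K M)).toAlgHom x) =
      e ((1 : M) ⊗ₜ[L] Generators.H1Cotangent.δAux F (Generators.self K L) x) := by
    intro x
    induction x using MvPolynomial.induction_on with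
    | C s =>
      simp [e, Generators.Hom.toAlgHom, MvPolynomial.algebraMap_eq, Generators.H1Cotangent.δAux_C]
    | add a b ha hb => simp [map_add, ha, hb, tmul_add]
    | mul_X p n ih =>
      rw [map_mul, Generators.Hom.toAlgHom_X, Generators.H1Cotangent.δAux_mul, ih,
        Generators.H1Cotangent.δAux_mul, Generators.H1Cotangent.δAux_X]
      rw [show (Generators.defaultHom (Generators.self K L) (Generators.self K M)).val n =
        MvPolynomial.X (algebraMap L M n) from rfl,
        Generators.H1Cotangent.δAux_X, smul_zero, zero_add, smul_zero, zero_add]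
      refine (smul_X_eq (Generators.self K M) (W := M ⊗[K] Ω[K⁄F]) (algebraMap L M n) _).trans ?_
      have h2 := smul_X_eq (Generators.self K L) (W := L ⊗[K] Ω[K⁄F]) n
        (Generators.H1Cotangent.δAux F (Generators.self K L) p)
      refine Eq.trans ?_ (congrArg (fun w => e ((1 : M) ⊗ₜ[L] w)) h2).symm
      rw [TensorProduct.tmul_smul, ← IsScalarTower.algebraMap_smul M ((Generators.self K L).val n), map_smul]
      rfl
  have hsq : ∀ x, H1Cotangent.δ F K M (Algebra.H1Cotangent.map K K L M x) =
      e ((1 : M) ⊗ₜ[L] H1Cotangent.δ F K L x) := by
    rintro ⟨x, hx⟩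
    obtain ⟨y, rfl⟩ := Extension.Cotangent.mk_surjective x
    simp only [H1Cotangent.δ, H1Cotangent.map]
    rw [Generators.H1Cotangent.δ_eq_δAux]
    refine Eq.trans ?_ (haux y.1)
    exact Generators.H1Cotangent.δ_eq_δAux _ _ _ _
  have hcomp : ∀ z, H1Cotangent.δ F K M ((Algebra.H1Cotangent.map K K L M).liftBaseChange M z) =
      e (LinearMap.lTensor M (H1Cotangent.δ F K L) z) := by
    intro z
    induction z with
    | zero => simp
    | add a b ha hb => simp [map_add, ha, hb]
    | tmul m x =>
      rw [LinearMap.liftBaseChange_tmul, map_smul, hsq, LinearMap.lTensor_tmul, ← map_smul,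
        TensorProduct.smul_tmul', smul_eq_mul, mul_one]
  have hinj := Module.Flat.lTensor_preserves_injective_linearMap (M := M) _ hδ
  intro a b hab
  exact hinj (e.injective (by rw [← hcomp, ← hcomp, hab]))


open TensorProduct in
/-- For a tower of fields `K ⊆ L ⊆ M`, the first map of the Jacobi–Zariski sequence, from `H_1(L_{L/K})
⊗_L M` to `H_1(L_{M/K})`, is injective; here `H_1(L)` denotes the first homology of the naive
cotangent complex and the map is the `M`-linear extension of the functoriality map. (The rest of the
six-term sequence is exact for any three rings, so for fields it is exact with a zero on the left.) -/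
theorem result {K L M : Type u} [Field K] [Field L]
    [Field M] [Algebra K L] [Algebra L M] [Algebra K M] [IsScalarTower K L M] :
    Function.Injective ((Algebra.H1Cotangent.map K K L M).liftBaseChange M) := by
  obtain ⟨p, hp⟩ := CharP.exists K
  rcases CharP.char_is_prime_or_zero K p with hp' | hp'
  · haveI : Fact p.Prime := ⟨hp'⟩
    haveI : CharP L p := charP_of_injective_algebraMap' K p
    haveI : CharP M p := charP_of_injective_algebraMap' K p
    letI := ZMod.algebra K p
    letI := ZMod.algebra L p
    letI := ZMod.algebra M p
    haveI : IsScalarTower (ZMod p) K L := IsScalarTower.of_algebraMap_eq' (Subsingleton.elim _ _)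
    haveI : IsScalarTower (ZMod p) K M := IsScalarTower.of_algebraMap_eq' (Subsingleton.elim _ _)
    exact h1_inj_over (F := ZMod p)
  · subst hp'
    haveI : CharZero K := CharP.charP_to_charZero K
    haveI : CharZero L := charZero_of_injective_algebraMap (algebraMap K L).injective
    haveI : CharZero M := charZero_of_injective_algebraMap (algebraMap K M).injective
    exact h1_inj_over (F := ℚ)


end Groth.Agent.S9319
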