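import Groth.Statements.S9320
import Groth.Agent.CartierEq4.Basic
import Groth.Agent.S9319

set_option autoImplicit false
universe u
open CAlg

namespace Groth.Agent.S9320
section index

variable {L : Type u} [Field L] {U V W : Type u} [AddCommGroup U] [Module L U] [AddCommGroup V]
  [Module L V] [AddCommGroup W] [Module L W]

/-- `f` has finite kernel and cokernel and index `i`. -/
def HasIdx (f : U →ₗ[L] V) (i : ℤ) : Prop :=
  Module.Finite L (LinearMap.ker f) ∧ Module.Finite L (V ⧸ LinearMap.range f) ∧
    (Module.finrank L (LinearMap.ker f) : ℤ) - Module.finrank L (V ⧸ LinearMap.range f) = i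

theorem finite_of_exact (f : U →ₗ[L] V) (g : V →ₗ[L] W) (h : Function.Exact f g)
    [Module.Finite L U] [Module.Finite L W] : Module.Finite L V := by
  have hk : (LinearMap.ker g).FG := by
    rw [LinearMap.exact_iff.1 h]
    exact (Module.Finite.iff_fg).1 inferInstance
  refine ⟨Submodule.fg_of_fg_map_of_fg_inf_ker g ?_ (by simpa using hk)⟩
  exact IsNoetherian.noetherian _

theorem finrank_of_exact (f : U →ₗ[L] V) (g : V →ₗ[L] W) (h : Function.Exact f g) [Module.Finite L V] :
    Module.finrank L V = Module.finrank L (LinearMap.range f) + Module.finrank L (LinearMap.range g) := by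
  rw [← LinearMap.finrank_range_add_finrank_ker g, LinearMap.exact_iff.1 h, add_comm]

theorem finrank_range_of_injective (f : U →ₗ[L] V) (h : Function.Injective f) :
    Module.finrank L (LinearMap.range f) = Module.finrank L U :=
  (LinearEquiv.ofInjective f h).finrank_eq.symm

theorem finrank_range_of_surjective (f : U →ₗ[L] V) (h : Function.Surjective f) :
    Module.finrank L (LinearMap.range f) = Module.finrank L V :=
  (LinearEquiv.ofTop _ (LinearMap.range_eq_top.2 h)).finrank_eq

theorem HasIdx.comp {f : U →ₗ[L] V} {g : V →ₗ[L] W} {i j : ℤ} (hf : HasIdx f i) (hg : HasIdx g j) :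
    HasIdx (g ∘ₗ f) (i + j) := by
  obtain ⟨hf1, hf2, hf3⟩ := hf
  obtain ⟨hg1, hg2, hg3⟩ := hg
  have hle1 : LinearMap.ker f ≤ LinearMap.ker (g ∘ₗ f) := LinearMap.ker_le_ker_comp f g
  have hle5 : LinearMap.range (g ∘ₗ f) ≤ LinearMap.range g := LinearMap.range_comp_le_range f g
  let m1 : LinearMap.ker f →ₗ[L] LinearMap.ker (g ∘ₗ f) := Submodule.inclusion hle1
  let m2 : LinearMap.ker (g ∘ₗ f) →ₗ[L] LinearMap.ker g := f.restrict fun x hx => hx
  let m3 : LinearMap.ker g →ₗ[L] V ⧸ LinearMap.range f := (LinearMap.range f).mkQ ∘ₗ (LinearMap.ker g).subtype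
  let m4 : (V ⧸ LinearMap.range f) →ₗ[L] W ⧸ LinearMap.range (g ∘ₗ f) :=
    (LinearMap.range f).mapQ _ g (by rintro _ ⟨x, rfl⟩; exact ⟨x, rfl⟩)
  let m5 : (W ⧸ LinearMap.range (g ∘ₗ f)) →ₗ[L] W ⧸ LinearMap.range g := Submodule.factor hle5
  have e12 : Function.Exact m1 m2 := fun x => ⟨fun h => ⟨⟨x.1, congrArg Subtype.val h⟩, rfl⟩, by
    rintro ⟨y, rfl⟩; exact Subtype.ext y.2⟩
  have e23 : Function.Exact m2 m3 := fun x => ⟨fun h => by
    obtain ⟨u, hu⟩ := (Submodule.Quotient.mk_eq_zero _).1 h
    exact ⟨⟨u, show g (f u) = 0 by rw [hu]; exact x.2⟩, Subtype.ext hu⟩, by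
    rintro ⟨y, rfl⟩; exact (Submodule.Quotient.mk_eq_zero _).2 ⟨y.1, rfl⟩⟩
  have e34 : Function.Exact m3 m4 := fun x => ⟨fun h => by
    obtain ⟨v, rfl⟩ := Submodule.Quotient.mk_surjective _ x
    obtain ⟨u, hu⟩ := (Submodule.Quotient.mk_eq_zero _).1 h
    refine ⟨⟨v - f u, by rw [LinearMap.mem_ker, map_sub, sub_eq_zero]; exact hu.symm⟩, ?_⟩
    show Submodule.Quotient.mk (v - f u) = _
    rw [Submodule.Quotient.eq, sub_sub_cancel_left, neg_mem_iff]
    exact ⟨u, rfl⟩, by
    rintro ⟨y, rfl⟩
    exact (Submodule.Quotient.mk_eq_zero _).2 (y.2 ▸ zero_mem _)⟩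
  have e45 : Function.Exact m4 m5 := fun x => ⟨fun h => by
    obtain ⟨w, rfl⟩ := Submodule.Quotient.mk_surjective _ x
    obtain ⟨v, hv⟩ := (Submodule.Quotient.mk_eq_zero _).1 h
    exact ⟨Submodule.Quotient.mk v, congrArg Submodule.Quotient.mk hv⟩, by
    rintro ⟨y, rfl⟩
    obtain ⟨v, rfl⟩ := Submodule.Quotient.mk_surjective _ y
    exact (Submodule.Quotient.mk_eq_zero _).2 ⟨v, rfl⟩⟩
  haveI : Module.Finite L (LinearMap.ker (g ∘ₗ f)) := finite_of_exact m1 m2 e12
  haveI : Module.Finite L (W ⧸ LinearMap.range (g ∘ₗ f)) := finite_of_exact m4 m5 e45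
  refine ⟨inferInstance, inferInstance, ?_⟩
  have h1 := finrank_range_of_injective m1 (Submodule.inclusion_injective hle1)
  have h5 := finrank_range_of_surjective m5 (Submodule.factor_surjective hle5)
  have q1 := finrank_of_exact m1 m2 e12
  have q2 := finrank_of_exact m2 m3 e23
  have q3 := finrank_of_exact m3 m4 e34
  have q4 := finrank_of_exact m4 m5 e45
  omega

end index

section fields

open TensorProduct

variable {k E F : Type u} [Field k] [Field E] [Field F] [Algebra k E] [Algebra k F] [Algebra E F]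
  [IsScalarTower k E F]

/-- The two pushforwards along the upper extension. -/
theorem idx_upper [Algebra.EssFiniteType E F] : ∃ a b : ℤ,
    HasIdx (KaehlerDifferential.mapBaseChange k E F) a ∧
      HasIdx ((Algebra.H1Cotangent.map k k E F).liftBaseChange F) b ∧
      a - b = -(Cardinal.toNat (Algebra.trdeg E F) : ℤ) := by
  obtain ⟨hΩ, hH, hq⟩ := CartierEq4.finrank_kaehler_eq E F
  set p := KaehlerDifferential.map k E F F
  set d := Algebra.H1Cotangent.δ k E F
  set m := Algebra.H1Cotangent.map k E F F
  set fH := (Algebra.H1Cotangent.map k k E F).liftBaseChange F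
  have hfΩ : LinearMap.range (KaehlerDifferential.mapBaseChange k E F) = LinearMap.ker p :=
    KaehlerDifferential.range_mapBaseChange k E F
  have hkΩ : LinearMap.ker (KaehlerDifferential.mapBaseChange k E F) = LinearMap.range d :=
    LinearMap.exact_iff.1 (Algebra.H1Cotangent.exact_δ_mapBaseChange k E F)
  have hrH : LinearMap.range fH = LinearMap.ker m :=
    (LinearMap.exact_iff.1 (Algebra.H1Cotangent.exact_liftBaseChange_map_of_flat k E F)).symm
  have hinj : Function.Injective fH := S9319.result
  let eΩ : (Ω[F⁄k] ⧸ LinearMap.range (KaehlerDifferential.mapBaseChange k E F)) ≃ₗ[F] Ω[F⁄E] :=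
    (Submodule.quotEquivOfEq _ _ hfΩ).trans (p.quotKerEquivOfSurjective (KaehlerDifferential.map_surjective k E F))
  let eH : (Algebra.H1Cotangent k F ⧸ LinearMap.range fH) ≃ₗ[F] LinearMap.ker d :=
    ((Submodule.quotEquivOfEq _ _ hrH).trans m.quotKerEquivRange).trans
      (LinearEquiv.ofEq _ _ (LinearMap.exact_iff.1 (Algebra.H1Cotangent.exact_map_δ k E F)).symm)
  have hsum := LinearMap.finrank_range_add_finrank_ker d
  refine ⟨_, _, ⟨?_, Module.Finite.equiv eΩ.symm, rfl⟩, ⟨?_, Module.Finite.equiv eH.symm, rfl⟩, ?_⟩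
  · rw [hkΩ]; infer_instance
  · rw [LinearMap.ker_eq_bot.2 hinj]; infer_instance
  · rw [eΩ.finrank_eq, eH.finrank_eq, hkΩ, LinearMap.ker_eq_bot.2 hinj, finrank_bot]
    omega

/-- The two maps changing the base field. -/
theorem idx_lower [Algebra.EssFiniteType k E] : ∃ a b : ℤ,
    HasIdx (KaehlerDifferential.map k E F F) a ∧ HasIdx (Algebra.H1Cotangent.map k E F F) b ∧
      a - b = (Cardinal.toNat (Algebra.trdeg k E) : ℤ) := by
  obtain ⟨hΩ, hH, hq⟩ := CartierEq4.finrank_kaehler_eq k E
  set p := KaehlerDifferential.map k E F F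
  set d := Algebra.H1Cotangent.δ k E F
  set m := Algebra.H1Cotangent.map k E F F
  set fH := (Algebra.H1Cotangent.map k k E F).liftBaseChange F
  set fΩ := KaehlerDifferential.mapBaseChange k E F
  have hkp : LinearMap.ker p = LinearMap.range fΩ := (KaehlerDifferential.range_mapBaseChange k E F).symm
  have hkm : LinearMap.ker m = LinearMap.range fH :=
    LinearMap.exact_iff.1 (Algebra.H1Cotangent.exact_liftBaseChange_map_of_flat k E F)
  have hinj : Function.Injective fH := S9319.result
  have hsurj : Function.Surjective p := KaehlerDifferential.map_surjective k E F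
  let eH : (Algebra.H1Cotangent E F ⧸ LinearMap.range m) ≃ₗ[F] LinearMap.ker fΩ :=
    ((Submodule.quotEquivOfEq _ _ (LinearMap.exact_iff.1 (Algebra.H1Cotangent.exact_map_δ k E F)).symm).trans
      d.quotKerEquivRange).trans
      (LinearEquiv.ofEq _ _ (LinearMap.exact_iff.1 (Algebra.H1Cotangent.exact_δ_mapBaseChange k E F)).symm)
  haveI : Subsingleton (Ω[F⁄E] ⧸ LinearMap.range p) := by
    rw [LinearMap.range_eq_top.2 hsurj]; infer_instance
  have hsum := LinearMap.finrank_range_add_finrank_ker fΩ
  have hr : Module.finrank F (LinearMap.range fH) = Module.finrank F (F ⊗[E] Algebra.H1Cotangent k E) :=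
    finrank_range_of_injective fH hinj
  refine ⟨_, _, ⟨?_, inferInstance, rfl⟩, ⟨?_, Module.Finite.equiv eH.symm, rfl⟩, ?_⟩
  · rw [hkp]; infer_instance
  · rw [hkm]; infer_instance
  · rw [eH.finrank_eq, hkp, hkm, Module.finrank_zero_of_subsingleton (M := Ω[F⁄E] ⧸ LinearMap.range p), hr,
      Module.finrank_baseChange]
    rw [Module.finrank_baseChange] at hsum
    omega

end fields


open TensorProduct in
/-- Consider a commutative square of fields with maps `k → K`, `k → k'`, `k' → K'` and `K → K'`, where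
`k'` is a finitely generated field extension of `k` and `K'` is a finitely generated field extension
of `K`. Let `α : Ω_{K/k} ⊗_K K' → Ω_{K'/k'}` and `β : H_1(L_{K/k}) ⊗_K K' → H_1(L_{K'/k'})` be the
comparison maps (`H_1(L)` the first homology of the naive cotangent complex). Then the kernels and
cokernels of `α` and `β` are finite-dimensional `K'`-vector spaces, and the difference of
transcendence degrees trdeg_k(k') − trdeg_K(K') equals (dim Ker α + dim Coker β) − (dim Coker α +
dim Ker β). -/
theorem result {k k' K K' : Type u} [Field k] [Field k']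
    [Field K] [Field K'] [Algebra k k'] [Algebra k K] [Algebra k K'] [Algebra k' K'] [Algebra K K']
    [IsScalarTower k k' K'] [IsScalarTower k K K']
    [Algebra.EssFiniteType k k'] [Algebra.EssFiniteType K K'] :
    Module.Finite K' (LinearMap.ker ((KaehlerDifferential.map k k' K K').liftBaseChange K')) ∧
      Module.Finite K' (Ω[K'⁄k'] ⧸ LinearMap.range ((KaehlerDifferential.map k k' K K').liftBaseChange K')) ∧
      Module.Finite K' (LinearMap.ker ((Algebra.H1Cotangent.map k k' K K').liftBaseChange K')) ∧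
      Module.Finite K' (Algebra.H1Cotangent k' K' ⧸ LinearMap.range ((Algebra.H1Cotangent.map k k' K K').liftBaseChange K')) ∧
      ((Module.finrank K' (LinearMap.ker ((KaehlerDifferential.map k k' K K').liftBaseChange K')) : ℤ)
          - Module.finrank K' (Ω[K'⁄k'] ⧸ LinearMap.range ((KaehlerDifferential.map k k' K K').liftBaseChange K'))
          - Module.finrank K' (LinearMap.ker ((Algebra.H1Cotangent.map k k' K K').liftBaseChange K'))
          + Module.finrank K' (Algebra.H1Cotangent k' K' ⧸ LinearMap.range ((Algebra.H1Cotangent.map k k' K K').liftBaseChange K'))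
        = (Cardinal.toNat (Algebra.trdeg k k') : ℤ) - Cardinal.toNat (Algebra.trdeg K K')) := by
  obtain ⟨a₁, b₁, hA1, hB1, h1⟩ := idx_upper (k := k) (E := K) (F := K')
  obtain ⟨a₂, b₂, hA2, hB2, h2⟩ := idx_lower (k := k) (E := k') (F := K')
  have eα : (KaehlerDifferential.map k k' K K').liftBaseChange K' =
      (KaehlerDifferential.map k k' K' K') ∘ₗ (KaehlerDifferential.mapBaseChange k K K') := by
    refine TensorProduct.AlgebraTensorModule.ext fun c x => ?_
    rw [LinearMap.comp_apply, KaehlerDifferential.mapBaseChange_tmul, map_smul, LinearMap.liftBaseChange_tmul]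
    congr 1
    induction (show x ∈ Submodule.span K (Set.range (KaehlerDifferential.D k K)) by
        rw [KaehlerDifferential.span_range_derivation]; trivial) using Submodule.span_induction with
    | mem x hx =>
      obtain ⟨y, rfl⟩ := hx
      rw [KaehlerDifferential.map_D, KaehlerDifferential.map_D, KaehlerDifferential.map_D]
      rfl
    | zero => simp
    | add u v _ _ hu hv => rw [map_add, map_add, map_add, hu, hv]
    | smul r u _ hu =>
      rw [map_smul, map_smul, ← IsScalarTower.algebraMap_smul K' r (KaehlerDifferential.map k k K K' u),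
        map_smul, hu, IsScalarTower.algebraMap_smul]
  have eβ : (Algebra.H1Cotangent.map k k' K K').liftBaseChange K' =
      (Algebra.H1Cotangent.map k k' K' K') ∘ₗ ((Algebra.H1Cotangent.map k k K K').liftBaseChange K') := by
    refine TensorProduct.AlgebraTensorModule.ext fun c x => ?_
    rw [LinearMap.comp_apply, LinearMap.liftBaseChange_tmul, LinearMap.liftBaseChange_tmul, map_smul]
    congr 1
    simp only [Algebra.H1Cotangent.map]
    rw [← Algebra.Extension.H1Cotangent.map_comp_apply]
    rw [Algebra.Extension.H1Cotangent.map_eq]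
  obtain ⟨hA, hA', hA''⟩ := hA1.comp hA2
  obtain ⟨hB, hB', hB''⟩ := hB1.comp hB2
  rw [← eα] at hA hA' hA''
  rw [← eβ] at hB hB' hB''
  refine ⟨hA, hA', hB, hB', ?_⟩
  omega


end Groth.Agent.S9320
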