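import Groth.Statements.S9323
import Groth.Agent.CoeffField.AdicSmooth
import Groth.Agent.S9455

set_option autoImplicit false
open CAlg

namespace Groth.Agent.S9323

/-- Let `Λ` be a Cohen ring (a complete discrete valuation ring whose maximal ideal is generated by a
prime number) and `n ≥ 0`. Then `ℤ → Λ[[x_1, …, x_n]]` is formally smooth for the adic topology of
the maximal ideal of the power series ring. (`Λ` is taken in the lowest universe, where `ℤ` lives.) -/
theorem result (Λ : Type) [CommRing Λ] [IsLocalRing Λ]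
    (hΛ : CAlg.IsCohenRing Λ) (n : ℕ) :
    CAlgX.IsAdicFormallySmooth ℤ (MvPowerSeries (Fin n) Λ)
      (IsLocalRing.maximalIdeal (MvPowerSeries (Fin n) Λ)) := by
  obtain ⟨_, _, hc, p, hp, hm⟩ := hΛ
  intro A _ _ J hJ ψ hψ
  obtain ⟨e, he⟩ := hψ
  have hpmem : (p : MvPowerSeries (Fin n) Λ) ∈ IsLocalRing.maximalIdeal (MvPowerSeries (Fin n) Λ) := by
    rw [IsLocalRing.mem_maximalIdeal, mem_nonunits_iff, MvPowerSeries.isUnit_iff_constantCoeff, map_natCast]
    intro hu
    have : (p : Λ) ∈ IsLocalRing.maximalIdeal Λ := hm ▸ Ideal.mem_span_singleton_self _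
    exact (IsLocalRing.mem_maximalIdeal _).1 this hu
  have hvars : PSLib.vars n Λ ≤ IsLocalRing.maximalIdeal (MvPowerSeries (Fin n) Λ) := fun x hx => by
    rw [IsLocalRing.mem_maximalIdeal, mem_nonunits_iff, MvPowerSeries.isUnit_iff_constantCoeff,
      PSLib.mem_vars_iff.1 hx]
    exact not_isUnit_zero
  have hpA : (p : A) ^ e ∈ J := by
    rw [← Ideal.Quotient.eq_zero_iff_mem, map_pow, map_natCast, ← map_natCast ψ.toRingHom, ← map_pow]
    exact he _ (Ideal.pow_mem_pow hpmem e)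
  have hp2 : ((p ^ (2 * e + 1) : ℕ) : A) = 0 := by
    rw [Nat.cast_pow, pow_succ, mul_comm 2 e, pow_mul]
    have : ((p : A) ^ e) ^ 2 ∈ J ^ 2 := Ideal.pow_mem_pow hpA 2
    rw [hJ, Ideal.mem_bot] at this
    rw [this, zero_mul]
  let N := p ^ (2 * e + 1)
  let Q := Λ ⧸ Ideal.span {((p : Λ) ^ (2 * e + 1))}
  let gA : ZMod N →+* A := ZMod.castHom (ringChar.dvd hp2) A
  let gQ : ZMod N →+* Q := ZMod.castHom (ringChar.dvd (show ((p ^ (2 * e + 1) : ℕ) : Q) = 0 by
    rw [← map_natCast (Ideal.Quotient.mk _), Nat.cast_pow, Ideal.Quotient.eq_zero_iff_mem]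
    exact Ideal.mem_span_singleton_self _)) Q
  let : Algebra (ZMod N) Q := gQ.toAlgebra
  let : Algebra (ZMod N) A := gA.toAlgebra
  have : Algebra.FormallySmooth (ZMod N) Q := S9455.result Λ p hp hm (2 * e + 1) (by omega)
  let φ₀ : Q →+* A ⧸ J := Ideal.Quotient.lift _ (ψ.toRingHom.comp MvPowerSeries.C) (by
    intro x hx
    obtain ⟨c, rfl⟩ := Ideal.mem_span_singleton.1 hx
    rw [RingHom.comp_apply, map_mul, map_mul, map_pow, map_natCast]
    show ψ _ * _ = 0
    rw [he _ (Ideal.pow_le_pow_right (by omega) (Ideal.pow_mem_pow hpmem (2 * e + 1))), zero_mul])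
  let φ : Q →ₐ[ZMod N] A ⧸ J :=
    { φ₀ with commutes' := fun z => RingHom.congr_fun (RingHom.ext_zmod (φ₀.comp gQ) (algebraMap (ZMod N) (A ⧸ J))) z }
  let σQ := Algebra.FormallySmooth.lift J ⟨2, hJ⟩ φ
  let σ : Λ →+* A := σQ.toRingHom.comp (Ideal.Quotient.mk _)
  obtain ⟨χ, hχ, -⟩ := CoeffField.lift_powerSeries_of_section n J hJ ψ.toRingHom
    ⟨e, fun x hx => he x (Ideal.pow_right_mono hvars e hx)⟩ σ
    (fun c => Algebra.FormallySmooth.mk_lift J ⟨2, hJ⟩ φ _)
  exact ⟨{ χ with commutes' := fun z => RingHom.congr_fun (RingHom.ext_int (χ.comp (algebraMap ℤ _)) (algebraMap ℤ A)) z }, AlgHom.ext fun x => RingHom.congr_fun hχ x⟩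


end Groth.Agent.S9323
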