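import Groth.Statements.S9324
import Groth.Agent.Hensel.Integral
-- import your own Groth.Agent.* helpers here

set_option autoImplicit false
universe u
open Hensel

namespace Groth.Agent.S9324

open TensorProduct in
/-- Let `(A, I) → (B, J)` be a map of pairs, i.e. `I B ⊆ J`, such that `J` and `I B` have the same
radical, and suppose `A → B` is integral. Let `A^h` be a henselization of the pair `(A, I)`, `B^h` a
henselization of the pair `(B, J)`, and `φ : A^h → B^h` an `A`-algebra homomorphism (there is
exactly one, by the universal property of `A^h`). Then the induced map `A^h ⊗_A B → B^h` is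
bijective: henselization commutes with integral base change. -/
theorem result {A B Ah Bh : Type u} [CommRing A]
    [CommRing B] [CommRing Ah] [CommRing Bh] [Algebra A B] (I : Ideal A) (J : Ideal B)
    (hIJ : I.map (algebraMap A B) ≤ J) (hrad : J.radical = (I.map (algebraMap A B)).radical)
    [Algebra.IsIntegral A B] [Algebra A Ah] (hA : Hens2.IsPairHenselization A I Ah)
    [Algebra B Bh] [Algebra A Bh] [IsScalarTower A B Bh] (hB : Hens2.IsPairHenselization B J Bh)
    (φ : Ah →ₐ[A] Bh) :
    Function.Bijective (Algebra.TensorProduct.productMap φ (IsScalarTower.toAlgHom A B Bh)) := by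
  have hT := Groth.Agent.Hensel.isPairHenselization_tensorProduct I J hIJ hrad hA
  obtain ⟨e⟩ := Groth.Agent.Hensel.exists_algEquiv_of_isPairHenselization J hT hB
  have := hB.1
  obtain ⟨g, -, huniq⟩ := hT.2 Bh _ (algebraMap B Bh) this le_rfl
  let ψ : B ⊗[A] Ah →ₐ[A] Bh :=
    Algebra.TensorProduct.lift (IsScalarTower.toAlgHom A B Bh) φ fun _ _ => Commute.all _ _
  have h1 : ψ.toRingHom = g := huniq _ (RingHom.ext fun b => by simp [ψ])
  have h2 : e.toAlgHom.toRingHom = g := huniq _ (RingHom.ext fun b => e.commutes b)
  have h3 : Algebra.TensorProduct.productMap φ (IsScalarTower.toAlgHom A B Bh) =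
      ψ.comp (Algebra.TensorProduct.comm A Ah B).toAlgHom := by
    ext x <;> simp [ψ]
  have h4 : Function.Bijective ψ := by
    have : (ψ : B ⊗[A] Ah → Bh) = e := funext fun z =>
      (congrArg (fun r : B ⊗[A] Ah →+* Bh => r z) (h1.trans h2.symm))
    rw [this]; exact e.bijective
  rw [h3]
  exact h4.comp (Algebra.TensorProduct.comm A Ah B).bijective

end Groth.Agent.S9324
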