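import Groth.Statements.S9326
import Mathlib

set_option autoImplicit false
universe u
open CAlg

namespace Groth.Agent.S9326

/-- Let `u : N → M` be a continuous homomorphism of topological abelian groups. Assume `M` is Hausdorff
and `N` is Hausdorff and complete, linearly topologized (every neighbourhood of zero contains an
open subgroup) and first countable (zero has a countable basis of neighbourhoods). Then exactly one
of two things holds: `u` is an open map; or there is an open subgroup of `N` whose image is nowhere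
dense in `M`. -/
theorem result {N M : Type u} [AddCommGroup N]
    [AddCommGroup M] [UniformSpace N] [IsUniformAddGroup N] [TopologicalSpace M]
    [IsTopologicalAddGroup M] [T2Space M] [T2Space N] [CompleteSpace N] [NonarchimedeanAddGroup N]
    [FirstCountableTopology N] (u : N →+ M) (hu : Continuous u) :
    Xor (IsOpenMap u) (∃ V : OpenAddSubgroup N, IsNowhereDense (u '' (V : Set N))) := by
  classical
  haveI : T3Space M := inferInstance
  by_cases hV : ∃ V : OpenAddSubgroup N, IsNowhereDense (u '' (V : Set N))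
  · obtain ⟨V, hVd⟩ := hV
    refine Or.inr ⟨⟨V, hVd⟩, fun ho => ?_⟩
    have h1 : IsOpen (u '' (V : Set N)) := ho _ V.isOpen
    have h2 := interior_mono (subset_closure (s := u '' (V : Set N)))
    rw [h1.interior_eq, hVd] at h2
    exact h2 ⟨0, V.zero_mem, map_zero u⟩
  refine Or.inl ⟨?_, hV⟩
  simp only [not_exists] at hV
  have hcl : ∀ V : OpenAddSubgroup N, IsOpen (closure (u '' (V : Set N))) := by
    intro V
    obtain ⟨x, hx⟩ := Set.nonempty_iff_ne_empty.2 (hV V)
    have := AddSubgroup.isOpen_of_mem_nhds (((V : AddSubgroup N).map u).topologicalClosure) (g := x)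
      (by simpa using mem_interior_iff_mem_nhds.1 hx)
    simpa using this
  have hmain : ∀ V : OpenAddSubgroup N, closure (u '' (V : Set N)) ⊆ u '' (V : Set N) := by
    intro V m hm
    obtain ⟨U, hU⟩ := (nhds (0 : N)).exists_antitone_basis
    choose W hW using fun n => NonarchimedeanAddGroup.is_nonarchimedean (U n) (hU.mem n)
    let T : ℕ → OpenAddSubgroup N := fun n =>
      Nat.rec (motive := fun _ => OpenAddSubgroup N) V (fun n T => T ⊓ W n) n
    have hT : ∀ n, (T (n + 1) : Set N) ⊆ (T n : Set N) := fun n => SetLike.coe_subset_coe.2 (inf_le_left : T n ⊓ W n ≤ T n)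
    have hTW : ∀ n, (T (n + 1) : Set N) ⊆ (W n : Set N) := fun n => SetLike.coe_subset_coe.2 (inf_le_right : T n ⊓ W n ≤ W n)
    have hTanti : Antitone fun n => (T n : Set N) := antitone_nat_of_succ_le hT
    have hstep : ∀ n, ∀ r ∈ closure (u '' (T n : Set N)), ∃ x ∈ T n,
        r - u x ∈ closure (u '' (T (n + 1) : Set N)) := by
      intro n r hr
      have ho : IsOpen {y : M | r - y ∈ closure (u '' (T (n + 1) : Set N))} :=
        (hcl (T (n + 1))).preimage (continuous_const.sub continuous_id)
      obtain ⟨y, hy, ⟨x, hx, rfl⟩⟩ := mem_closure_iff.1 hr _ ho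
        (by
          have h0 : (0 : M) ∈ closure (u '' (T (n + 1) : Set N)) :=
            subset_closure ⟨0, (T (n + 1)).zero_mem, map_zero u⟩
          simpa using h0)
      exact ⟨x, hx, hy⟩
    choose g hg hg' using hstep
    let r : (n : ℕ) → {z : M // z ∈ closure (u '' (T n : Set N))} := fun n =>
      Nat.rec ⟨m, hm⟩ (fun n p => ⟨p.1 - u (g n p.1 p.2), hg' n p.1 p.2⟩) n
    let x : ℕ → N := fun n => g n (r n).1 (r n).2
    have hx : ∀ n, x n ∈ T n := fun n => hg n _ _
    have hr : ∀ n, (r n).1 = m - u (∑ i ∈ Finset.range n, x i) := by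
      intro n
      induction n with
      | zero => simp [r]
      | succ n ih =>
        rw [Finset.sum_range_succ, map_add, ← sub_sub, ← ih]
    have hsmall : ∀ S ∈ nhds (0 : N), ∃ n, (T n : Set N) ⊆ S := by
      intro S hS
      obtain ⟨i, -, hi⟩ := hU.toHasBasis.mem_iff.1 hS
      exact ⟨i + 1, (hTW i).trans ((hW i).trans hi)⟩
    have hx0 : Filter.Tendsto x Filter.cofinite (nhds 0) := by
      rw [Nat.cofinite_eq_atTop, Filter.tendsto_def]
      intro S hS
      obtain ⟨n, hn⟩ := hsmall S hS
      exact Filter.mem_atTop_sets.2 ⟨n, fun k hk => hn (hTanti hk (hx k))⟩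
    obtain ⟨z, hz⟩ := NonarchimedeanAddGroup.summable_of_tendsto_cofinite_zero hx0
    have hzt := hz.tendsto_sum_nat
    refine ⟨z, V.isClosed.mem_of_tendsto hzt (Filter.Eventually.of_forall fun n =>
      sum_mem fun i _ => hTanti (Nat.zero_le i) (hx i)), ?_⟩
    have h1 : Filter.Tendsto (fun n => (r n).1) Filter.atTop (nhds (m - u z)) := by
      simp only [hr]
      exact tendsto_const_nhds.sub ((hu.tendsto z).comp hzt)
    have h2 : Filter.Tendsto (fun n => (r n).1) Filter.atTop (nhds 0) := by
      rw [(closed_nhds_basis (0 : M)).tendsto_right_iff]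
      rintro C ⟨hC, hCc⟩
      obtain ⟨n, hn⟩ := hsmall (u ⁻¹' C) ((hu.tendsto' 0 0 (map_zero u)) hC)
      exact Filter.eventually_atTop.2 ⟨n, fun k hk =>
        closure_minimal (Set.image_subset_iff.2 ((hTanti hk).trans hn)) hCc (r k).2⟩
    exact (sub_eq_zero.1 (tendsto_nhds_unique h1 h2)).symm
  refine IsOpenMap.of_nhds_le fun a => ?_
  intro S hS
  rw [Filter.mem_map] at hS
  have h0 : (fun z => a + z) ⁻¹' (u ⁻¹' S) ∈ nhds (0 : N) :=
    (continuous_const.add continuous_id).continuousAt.preimage_mem_nhds (by simpa using hS)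
  obtain ⟨V, hVs⟩ := NonarchimedeanAddGroup.is_nonarchimedean _ h0
  have ho : IsOpen (u '' (V : Set N)) := by
    rw [show u '' (V : Set N) = closure (u '' (V : Set N)) from Set.Subset.antisymm subset_closure (hmain V)]
    exact hcl V
  refine mem_nhds_iff.2 ⟨(fun y => y - u a) ⁻¹' (u '' (V : Set N)), ?_,
    ho.preimage (continuous_id.sub continuous_const), ⟨0, V.zero_mem, by simp⟩⟩
  rintro y ⟨z, hz, hzy⟩
  have h3 : u (a + z) ∈ S := hVs hz
  simp only at hzy
  rw [map_add, hzy, add_sub_cancel] at h3
  exact h3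


end Groth.Agent.S9326
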