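import Groth.Statements.S9327
import Groth.Agent.TensorBranch7.Basic
import Groth.Agent.S2750
import Groth.Agent.Unib7.QuotientStrict
import Groth.Agent.Hensel.HenselizationProps
import Mathlib
-- import your own Groth.Agent.* helpers here

set_option autoImplicit false
universe u
open Hensel

namespace Groth.Agent.S9327

open TensorProduct IsLocalRing

theorem minimal_of_flat {R S : Type u} [CommRing R] [CommRing S] (f : R →+* S) (hf : f.Flat) (P : Ideal S)
    (hP : P ∈ minimalPrimes S) : P.comap f ∈ minimalPrimes R := by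
  let := f.toAlgebra
  have : Module.Flat R S := hf
  have : P.IsPrime := hP.1.1
  refine ⟨⟨Ideal.comap_isPrime f P, bot_le⟩, fun p hp hle => ?_⟩
  have : p.IsPrime := hp.1
  have : P.LiesOver (P.comap f) := ⟨rfl⟩
  obtain ⟨Q, hQP, hQ, hQl⟩ := Ideal.exists_ideal_le_liesOver_of_le P (p := p) (q := P.comap f) hle
  obtain rfl := le_antisymm hQP (hP.2 ⟨hQ, bot_le⟩ hQP)
  exact hQl.over.ge

theorem add_sub_mem {R : Type u} [CommRing R] (I : Ideal R) {x y c d : R} (hc : x - c ∈ I) (hd : y - d ∈ I) :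
    x + y - (c + d) ∈ I := (show x - c + (y - d) = x + y - (c + d) by ring) ▸ I.add_mem hc hd

theorem mem_of_sub {R : Type u} [CommRing R] (I : Ideal R) {x c : R} (hx : x ∈ I) (h : x - c ∈ I) : c ∈ I :=
  (show x - (x - c) = c by ring) ▸ I.sub_mem hx h

theorem mem_of_sub_zero {k R : Type u} [CommRing k] [CommRing R] [Algebra k R] (I : Ideal R) {x : R}
    (h : x - algebraMap k R 0 ∈ I) : x ∈ I := by simpa using h

theorem exists_const {k A : Type u} [Field k] [IsAlgClosed k] [CommRing A] [Algebra k A] (M : Ideal A) [M.IsMaximal]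
    [Algebra.IsAlgebraic k (A ⧸ M)] (x : A) : ∃ c : k, x - algebraMap k A c ∈ M := by
  let := Ideal.Quotient.field M
  obtain ⟨c, hc⟩ := (IsAlgClosed.algebraMap_bijective_of_isIntegral (k := k) (K := A ⧸ M)).2 (Ideal.Quotient.mk M x)
  exact ⟨c, Ideal.Quotient.eq.1 hc.symm⟩

theorem local_normalization {k A₀ : Type u} [Field k] [IsAlgClosed k] [CommRing A₀] [IsDomain A₀] [HenselianLocalRing A₀] [Algebra k A₀]
    (hA : Function.Bijective ((residue A₀).comp (algebraMap k A₀))) :
    IsLocalRing (integralClosure A₀ (FractionRing A₀)) ∧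
      ∀ M : Ideal (integralClosure A₀ (FractionRing A₀)), M.IsMaximal →
        M.comap (algebraMap A₀ _) = maximalIdeal A₀ ∧
        ∀ x, ∃ c : k, x - algebraMap A₀ _ (algebraMap k A₀ c) ∈ M := by
  have hl := (Hensel.isLocalRing_of_isIntegral_domain A₀ (integralClosure A₀ (FractionRing A₀)))
  refine ⟨hl, fun M hM => ?_⟩
  have hc : M.comap (algebraMap A₀ _) = maximalIdeal A₀ :=
    IsLocalRing.eq_maximalIdeal (Ideal.isMaximal_comap_of_isIntegral_of_isMaximal M)
  refine ⟨hc, fun x => ?_⟩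
  let C := integralClosure A₀ (FractionRing A₀)
  let : Algebra k C := ((algebraMap A₀ C).comp (algebraMap k A₀)).toAlgebra
  let := Ideal.Quotient.field M
  have : Algebra.IsIntegral k (C ⧸ M) := by
    refine ⟨fun y => ?_⟩
    obtain ⟨y, rfl⟩ := Ideal.Quotient.mk_surjective y
    obtain ⟨P, hP, hP0⟩ := Algebra.IsIntegral.isIntegral (R := A₀) y
    let r : A₀ →+* k := (RingEquiv.ofBijective _ hA).symm.toRingHom.comp (residue A₀)
    refine ⟨P.map r, hP.map r, ?_⟩
    rw [Polynomial.eval₂_map]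
    have e : (algebraMap k (C ⧸ M)).comp r = (Ideal.Quotient.mk M).comp (algebraMap A₀ C) := RingHom.ext fun a => by
      show Ideal.Quotient.mk M (algebraMap A₀ C (algebraMap k A₀ (r a))) = Ideal.Quotient.mk M (algebraMap A₀ C a)
      rw [Ideal.Quotient.eq, ← map_sub]
      refine hc.ge ?_
      rw [← residue_eq_zero_iff, map_sub, sub_eq_zero]
      exact (RingEquiv.ofBijective _ hA).apply_symm_apply (residue A₀ a)
    rw [e]
    exact (Polynomial.hom_eval₂ P (algebraMap A₀ C) (Ideal.Quotient.mk M) y).symm.trans (by rw [hP0, map_zero])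
  have : Algebra.IsAlgebraic k (C ⧸ M) := Algebra.IsIntegral.isAlgebraic
  exact exists_const M x

theorem quotient_residue {k A : Type u} [Field k] [CommRing A] [IsLocalRing A] [Algebra k A]
    (hA : Function.Bijective ((residue A).comp (algebraMap k A))) (p : Ideal A) [p.IsPrime] :
    Function.Bijective ((residue (A ⧸ p)).comp (algebraMap k (A ⧸ p))) := by
  refine ⟨RingHom.injective _, fun x => ?_⟩
  obtain ⟨y, rfl⟩ := residue_surjective x
  obtain ⟨a, rfl⟩ := Ideal.Quotient.mk_surjective y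
  obtain ⟨c, hc⟩ := hA.2 (residue A a)
  refine ⟨c, (sub_eq_zero.1 ?_)⟩
  have h1 : algebraMap k A c - a ∈ maximalIdeal A := by
    rw [← residue_eq_zero_iff, map_sub, sub_eq_zero]; exact hc
  show residue (A ⧸ p) (Ideal.Quotient.mk p (algebraMap k A c)) - _ = 0
  rw [← map_sub, ← map_sub, residue_eq_zero_iff]
  haveI := Ideal.Quotient.mk_surjective.isLocalHom (f := Ideal.Quotient.mk p)
  exact map_nonunit (Ideal.Quotient.mk p) _ h1

/-- The local ring of `A₀ ⊗ B₀` at the closed point is geometrically unibranch. -/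
theorem unibranch_tensor {k A₀ B₀ : Type u} [Field k] [IsAlgClosed k] [CommRing A₀] [IsDomain A₀] [HenselianLocalRing A₀]
    [CommRing B₀] [IsDomain B₀] [HenselianLocalRing B₀] [Algebra k A₀] [Algebra k B₀]
    (hA : Function.Bijective ((residue A₀).comp (algebraMap k A₀)))
    (hB : Function.Bijective ((residue B₀).comp (algebraMap k B₀)))
    (m : Ideal (A₀ ⊗[k] B₀)) [m.IsMaximal]
    (hmA : ∀ a ∈ maximalIdeal A₀, a ⊗ₜ[k] (1 : B₀) ∈ m) (hmB : ∀ b ∈ maximalIdeal B₀, (1 : A₀) ⊗ₜ[k] b ∈ m) :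
    IsDomain (A₀ ⊗[k] B₀) ∧ CAlg2.IsGeomUnibranch (Localization.AtPrime m) := by
  have hdom : IsDomain (A₀ ⊗[k] B₀) := Groth.Agent.GrpSchLib.isDomain_tensor_of_isAlgClosed
  refine ⟨hdom, ?_⟩
  let A' := integralClosure A₀ (FractionRing A₀)
  let B' := integralClosure B₀ (FractionRing B₀)
  obtain ⟨hlA, hA'⟩ := local_normalization hA
  obtain ⟨hlB, hB'⟩ := local_normalization hB
  haveI := hlA
  haveI := hlB
  have : IsIntegrallyClosed A' := integralClosure.isIntegrallyClosedOfFiniteExtension (FractionRing A₀)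
  have : IsIntegrallyClosed B' := integralClosure.isIntegrallyClosedOfFiniteExtension (FractionRing B₀)
  let iA : A₀ →ₐ[k] A' := (Algebra.ofId A₀ A').restrictScalars k
  let iB : B₀ →ₐ[k] B' := (Algebra.ofId B₀ B').restrictScalars k
  obtain ⟨hdD, hnD⟩ := Groth.Agent.TensorBranch7.isIntegrallyClosed_tensor (k := k) A' B'
  let g := Algebra.TensorProduct.map iA iB
  let : Algebra (A₀ ⊗[k] B₀) (A' ⊗[k] B') := g.toRingHom.toAlgebra
  have hinjA : Function.Injective iA := fun x y h => IsFractionRing.injective A₀ (FractionRing A₀) (congrArg Subtype.val h)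
  have hinjB : Function.Injective iB := fun x y h => IsFractionRing.injective B₀ (FractionRing B₀) (congrArg Subtype.val h)
  have hinj : Function.Injective g := TensorProduct.map_injective_of_flat_flat _ _ hinjA hinjB
  have hi : ∀ x : A' ⊗[k] B', g.toRingHom.IsIntegralElem x := fun x => by
    induction x using TensorProduct.induction_on with
    | zero => exact RingHom.isIntegralElem_zero _
    | add x y hx hy => exact RingHom.IsIntegralElem.add (R := A₀ ⊗[k] B₀) (S := A' ⊗[k] B') g.toRingHom hx hy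
    | tmul a b =>
      have e : (a ⊗ₜ[k] b : A' ⊗[k] B') = (a ⊗ₜ 1) * (1 ⊗ₜ b) := by simp
      rw [e]
      refine RingHom.IsIntegralElem.mul (R := A₀ ⊗[k] B₀) (S := A' ⊗[k] B') g.toRingHom ?_ ?_
      · obtain ⟨P, hP, hP0⟩ := Algebra.IsIntegral.isIntegral (R := A₀) a
        refine ⟨P.map Algebra.TensorProduct.includeLeftRingHom, hP.map _, ?_⟩
        rw [Polynomial.eval₂_map]
        have e2 : g.toRingHom.comp Algebra.TensorProduct.includeLeftRingHom =
            (Algebra.TensorProduct.includeLeftRingHom : A' →+* A' ⊗[k] B').comp (algebraMap A₀ A') := RingHom.ext fun y => by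
          show g (y ⊗ₜ 1) = iA y ⊗ₜ 1
          rw [Algebra.TensorProduct.map_tmul, map_one]
        rw [e2]
        exact (Polynomial.hom_eval₂ P (algebraMap A₀ A') Algebra.TensorProduct.includeLeftRingHom a).symm.trans (by rw [hP0, map_zero])
      · obtain ⟨P, hP, hP0⟩ := Algebra.IsIntegral.isIntegral (R := B₀) b
        let j : B₀ →+* A₀ ⊗[k] B₀ := (Algebra.TensorProduct.includeRight : B₀ →ₐ[k] A₀ ⊗[k] B₀).toRingHom
        let j' : B' →+* A' ⊗[k] B' := (Algebra.TensorProduct.includeRight : B' →ₐ[k] A' ⊗[k] B').toRingHom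
        refine ⟨P.map j, hP.map _, ?_⟩
        rw [Polynomial.eval₂_map]
        have e2 : g.toRingHom.comp j = j'.comp (algebraMap B₀ B') := RingHom.ext fun y => by
          show g (1 ⊗ₜ y) = 1 ⊗ₜ iB y
          rw [Algebra.TensorProduct.map_tmul, map_one]
        rw [e2]
        exact (Polynomial.hom_eval₂ P (algebraMap B₀ B') j' b).symm.trans (by rw [hP0, map_zero])
  have : Algebra.IsIntegral (A₀ ⊗[k] B₀) (A' ⊗[k] B') := ⟨hi⟩
  have hfrac : ∀ {R : Type u} [CommRing R] [IsDomain R] (x : integralClosure R (FractionRing R)),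
      ∃ a b : R, a ≠ 0 ∧ x * algebraMap R _ a = algebraMap R _ b := fun {R} _ _ x => by
    obtain ⟨b, a, ha, h⟩ := IsFractionRing.div_surjective (A := R) (x : FractionRing R)
    refine ⟨a, b, nonZeroDivisors.ne_zero ha, Subtype.ext ?_⟩
    show (x : FractionRing R) * algebraMap R (FractionRing R) a = algebraMap R (FractionRing R) b
    rw [← h, div_mul_cancel₀ _ (IsFractionRing.to_map_ne_zero_of_mem_nonZeroDivisors ha)]
  have hne : ∀ (a : A₀) (b : B₀), a ≠ 0 → b ≠ 0 → a ⊗ₜ[k] b ≠ 0 := fun a b ha hb h => by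
    have e : (a ⊗ₜ[k] b) = (a ⊗ₜ 1) * (1 ⊗ₜ b) := by simp
    rw [e, mul_eq_zero] at h
    rcases h with h | h
    · exact ha (Algebra.TensorProduct.includeLeft_injective (S := k) (algebraMap k B₀).injective (h.trans (map_zero _).symm))
    · exact hb (Algebra.TensorProduct.includeRight_injective (algebraMap k A₀).injective (h.trans (map_zero _).symm))
  have hbir : ∀ x : A' ⊗[k] B', ∃ a b : A₀ ⊗[k] B₀, a ≠ 0 ∧ x * g a = g b := fun x => by
    induction x using TensorProduct.induction_on with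
    | zero => exact ⟨1, 0, one_ne_zero, by simp⟩
    | add x y hx hy =>
      obtain ⟨a, b, ha, hab⟩ := hx
      obtain ⟨c, d, hc, hcd⟩ := hy
      refine ⟨a * c, b * c + d * a, mul_ne_zero ha hc, ?_⟩
      rw [map_mul, map_add, map_mul, map_mul, ← hab, ← hcd]
      ring
    | tmul u v =>
      obtain ⟨a, b, ha, hab⟩ := hfrac u
      obtain ⟨c, d, hc, hcd⟩ := hfrac v
      refine ⟨a ⊗ₜ c, b ⊗ₜ d, hne a c ha hc, ?_⟩
      rw [Algebra.TensorProduct.map_tmul, Algebra.TensorProduct.map_tmul, Algebra.TensorProduct.tmul_mul_tmul]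
      exact congrArg₂ (· ⊗ₜ[k] ·) hab hcd
  -- the unique point over `m`
  obtain ⟨hcA, hkA⟩ := hA' _ (maximalIdeal.isMaximal A')
  obtain ⟨hcB, hkB⟩ := hB' _ (maximalIdeal.isMaximal B')
  let LA : A' →+* A' ⊗[k] B' := Algebra.TensorProduct.includeLeftRingHom
  let LB : B' →+* A' ⊗[k] B' := (Algebra.TensorProduct.includeRight : B' →ₐ[k] A' ⊗[k] B').toRingHom
  let M : Ideal (A' ⊗[k] B') := (maximalIdeal A').map LA ⊔ (maximalIdeal B').map LB
  have hres : ∀ x : A' ⊗[k] B', ∃ c : k, x - algebraMap k _ c ∈ M := fun x => by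
    induction x using TensorProduct.induction_on with
    | zero => exact ⟨0, by simp⟩
    | add x y hx hy =>
      obtain ⟨c, hc⟩ := hx; obtain ⟨d, hd⟩ := hy
      refine ⟨c + d, ?_⟩
      rw [map_add]
      exact add_sub_mem (R := A' ⊗[k] B') M hc hd
    | tmul u v =>
      obtain ⟨c, hc⟩ := hkA u
      obtain ⟨d, hd⟩ := hkB v
      refine ⟨c * d, ?_⟩
      have ec : algebraMap A₀ A' (algebraMap k A₀ c) = algebraMap k A' c := (IsScalarTower.algebraMap_apply k A₀ A' c).symm
      have ed : algebraMap B₀ B' (algebraMap k B₀ d) = algebraMap k B' d := (IsScalarTower.algebraMap_apply k B₀ B' d).symm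
      rw [ec] at hc
      rw [ed] at hd
      have e : (u ⊗ₜ[k] v : A' ⊗[k] B') - algebraMap k _ (c * d) =
          LA (u - algebraMap k A' c) * LB v + algebraMap k _ c * LB (v - algebraMap k B' d) := by
        have h1 : LA (algebraMap k A' c) = algebraMap k _ c :=
          (Algebra.TensorProduct.includeLeft : A' →ₐ[k] A' ⊗[k] B').commutes c
        have h2 : LB (algebraMap k B' d) = algebraMap k _ d :=
          (Algebra.TensorProduct.includeRight : B' →ₐ[k] A' ⊗[k] B').commutes d
        have h3 : (u ⊗ₜ[k] v : A' ⊗[k] B') = LA u * LB v := by simp [LA, LB]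
        rw [map_sub, map_sub, h1, h2, h3, map_mul]; ring
      rw [e]
      exact add_mem (Ideal.mul_mem_right _ _ (Ideal.mem_sup_left (Ideal.mem_map_of_mem LA hc)))
        (Ideal.mul_mem_left _ _ (Ideal.mem_sup_right (Ideal.mem_map_of_mem LB hd)))
  have hM : ∀ P : Ideal (A' ⊗[k] B'), P.IsMaximal → P.comap (algebraMap (A₀ ⊗[k] B₀) (A' ⊗[k] B')) = m → P = M := by
    intro P hP hPm
    have hp := hP.isPrime
    have h1 : P.comap LA = maximalIdeal A' := by
      haveI : (P.comap LA).IsPrime := Ideal.comap_isPrime _ _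
      refine IsLocalRing.eq_maximalIdeal (Ideal.isMaximal_of_isIntegral_of_isMaximal_comap (R := A₀) _ ?_)
      have : (P.comap LA).comap (algebraMap A₀ A') = maximalIdeal A₀ := by
        refine ((maximalIdeal.isMaximal A₀).eq_of_le (Ideal.IsPrime.ne_top inferInstance) fun a ha => ?_).symm
        show LA (iA a) ∈ P
        have := hPm.ge (hmA a ha)
        rwa [Ideal.mem_comap, show algebraMap (A₀ ⊗[k] B₀) (A' ⊗[k] B') (a ⊗ₜ 1) = LA (iA a) by
          show g (a ⊗ₜ 1) = _
          rw [Algebra.TensorProduct.map_tmul, map_one]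
          rfl] at this
      rw [this]; infer_instance
    have h2 : P.comap LB = maximalIdeal B' := by
      haveI : (P.comap LB).IsPrime := Ideal.comap_isPrime _ _
      refine IsLocalRing.eq_maximalIdeal (Ideal.isMaximal_of_isIntegral_of_isMaximal_comap (R := B₀) _ ?_)
      have : (P.comap LB).comap (algebraMap B₀ B') = maximalIdeal B₀ := by
        refine ((maximalIdeal.isMaximal B₀).eq_of_le (Ideal.IsPrime.ne_top inferInstance) fun b hb => ?_).symm
        show LB (iB b) ∈ P
        have := hPm.ge (hmB b hb)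
        rwa [Ideal.mem_comap, show algebraMap (A₀ ⊗[k] B₀) (A' ⊗[k] B') (1 ⊗ₜ b) = LB (iB b) by
          show g (1 ⊗ₜ b) = _
          rw [Algebra.TensorProduct.map_tmul, map_one]
          rfl] at this
      rw [this]; infer_instance
    have hMP : M ≤ P := sup_le (Ideal.map_le_iff_le_comap.2 h1.ge) (Ideal.map_le_iff_le_comap.2 h2.ge)
    refine le_antisymm (fun x hx => ?_) hMP
    obtain ⟨c, hc⟩ := hres x
    rcases eq_or_ne c 0 with rfl | hne
    · exact mem_of_sub_zero (R := A' ⊗[k] B') M hc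
    · refine absurd (Ideal.eq_top_of_isUnit_mem P ?_ ((isUnit_iff_ne_zero.2 hne).map (algebraMap k (A' ⊗[k] B')))) hP.ne_top
      exact mem_of_sub (R := A' ⊗[k] B') P hx (hMP hc)
  exact Groth.Agent.TensorBranch7.isGeomUnibranch_of_normal_cover (k := k) (D := A₀ ⊗[k] B₀) (D' := A' ⊗[k] B')
    hinj hbir m M hM fun x => by
      obtain ⟨c, hc⟩ := hres x
      exact ⟨algebraMap k _ c, by rwa [show algebraMap (A₀ ⊗[k] B₀) (A' ⊗[k] B') (algebraMap k _ c) = algebraMap k _ c from g.commutes c]⟩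

/-- A surjection onto a domain, geometrically unibranch at the closed point: one prime of the strict henselization over the kernel. -/
theorem isPrime_map_surj {R S C : Type u} [CommRing R] [CommRing S] [IsDomain S] (φ : R →+* S) (hφ : Function.Surjective φ)
    (𝔪 : Ideal R) [𝔪.IsPrime] (mb : Ideal S) [mb.IsPrime] (hcm : mb.comap φ = 𝔪)
    (hgu : CAlg2.IsGeomUnibranch (Localization.AtPrime mb))
    [CommRing C] [IsLocalRing C] [Algebra (Localization.AtPrime 𝔪) C]
    [IsLocalHom (algebraMap (Localization.AtPrime 𝔪) C)]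
    [Hensel.IsStrictHenselization (Localization.AtPrime 𝔪) C] :
    let θ := (algebraMap (Localization.AtPrime 𝔪) C).comp (algebraMap R (Localization.AtPrime 𝔪))
    ((RingHom.ker φ).map θ).IsPrime ∧ ((RingHom.ker φ).map θ).comap θ = RingHom.ker φ := by
  intro θ
  let π : Localization.AtPrime 𝔪 →+* Localization.AtPrime mb := Localization.localRingHom 𝔪 mb φ hcm.symm
  have hπ : Function.Surjective π := fun z => by
    obtain ⟨x, s, rfl⟩ := IsLocalization.exists_mk'_eq mb.primeCompl z
    obtain ⟨x, rfl⟩ := hφ x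
    obtain ⟨s', hs'⟩ := hφ (s : S)
    refine ⟨IsLocalization.mk' _ x (⟨s', fun h => s.2 (hs' ▸ (hcm.ge h : φ s' ∈ mb))⟩ : 𝔪.primeCompl), ?_⟩
    show Localization.localRingHom _ _ _ _ _ = _
    rw [Localization.localRingHom_mk']
    exact congrArg (IsLocalization.mk' _ _) (Subtype.ext hs')
  let Kp : Ideal (Localization.AtPrime 𝔪) := (RingHom.ker φ).map (algebraMap R _)
  have hkπ : RingHom.ker π ≤ Kp := fun z hz => by
    obtain ⟨x, s, rfl⟩ := IsLocalization.exists_mk'_eq 𝔪.primeCompl z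
    rw [RingHom.mem_ker, Localization.localRingHom_mk', IsLocalization.mk'_eq_zero_iff] at hz
    obtain ⟨t, ht⟩ := hz
    have ht0 : (t : S) ≠ 0 := fun h => t.2 (h ▸ mb.zero_mem)
    have hx : x ∈ RingHom.ker φ := (mul_eq_zero.1 ht).resolve_left ht0
    exact IsLocalization.mk'_mem_iff.2 (Ideal.mem_map_of_mem _ hx)
  have hKp : Kp ≤ RingHom.ker π := Ideal.map_le_iff_le_comap.2 fun x hx => by
    show π (algebraMap _ _ x) = 0
    rw [Localization.localRingHom_to_map, show φ x = 0 from hx, map_zero]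
  let I := Kp.map (algebraMap (Localization.AtPrime 𝔪) C)
  have hI : I ≠ ⊤ := fun h => (maximalIdeal.isMaximal C).ne_top (top_le_iff.1 (h ▸ Ideal.map_le_iff_le_comap.2
    (fun x hx => map_nonunit (algebraMap (Localization.AtPrime 𝔪) C) x (le_maximalIdeal (RingHom.ker_ne_top π) (hKp hx)))))
  haveI : Nontrivial (C ⧸ I) := Ideal.Quotient.nontrivial_iff.2 hI
  haveI : IsLocalRing (C ⧸ I) := IsLocalRing.of_surjective' (Ideal.Quotient.mk I) Ideal.Quotient.mk_surjective
  let f : Localization.AtPrime mb →+* C ⧸ I := RingHom.liftOfSurjective π hπ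
    ⟨(Ideal.Quotient.mk I).comp (algebraMap _ C), fun x hx =>
      Ideal.Quotient.eq_zero_iff_mem.2 (Ideal.mem_map_of_mem _ (hkπ hx))⟩
  let : Algebra (Localization.AtPrime mb) (C ⧸ I) := f.toAlgebra
  have hf : f.comp π = (Ideal.Quotient.mk I).comp (algebraMap _ C) := RingHom.liftOfRightInverse_comp _ _ _ _
  haveI : IsLocalHom (algebraMap (Localization.AtPrime mb) (C ⧸ I)) := ⟨fun x hx => by
    obtain ⟨y, rfl⟩ := hπ x
    refine IsUnit.map π ?_
    have h1 : IsUnit (Ideal.Quotient.mk I (algebraMap _ C y)) := congr($hf y) ▸ hx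
    haveI : IsLocalHom (Ideal.Quotient.mk I) := Ideal.Quotient.mk_surjective.isLocalHom
    exact (isUnit_map_iff (algebraMap _ C) y).1 ((isUnit_map_iff (Ideal.Quotient.mk I) _).1 h1)⟩
  haveI := Groth.Agent.Unib7.isStrictHenselization_of_surjective π hπ (Ideal.Quotient.mk I) Ideal.Quotient.mk_surjective hf
    (by rw [Ideal.mk_ker]; exact Ideal.map_mono hKp)
  haveI : IsDomain (Localization.AtPrime mb) :=
    inferInstance
  haveI : IsDomain (C ⧸ I) := (S2750.result (Localization.AtPrime mb) (C ⧸ I)).1 ⟨inferInstance, hgu⟩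
  have hprime : I.IsPrime := (Ideal.Quotient.isDomain_iff_prime I).1 inferInstance
  have hJθ : (RingHom.ker φ).map θ = I := (Ideal.map_map _ _).symm
  refine ⟨hJθ ▸ hprime, le_antisymm (fun x hx => ?_) Ideal.le_comap_map⟩
  rw [hJθ, Ideal.mem_comap] at hx
  haveI := Groth.Agent.Hensel.faithfullyFlat_of_isStrictHenselization (R := Localization.AtPrime 𝔪) (S := C)
  have h1 : algebraMap R (Localization.AtPrime 𝔪) x ∈ Kp :=
    (Ideal.comap_map_eq_self_of_faithfullyFlat (B := C) Kp).le (Ideal.mem_comap.2 hx)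
  have h2 : π (algebraMap R (Localization.AtPrime 𝔪) x) = 0 := hKp h1
  rw [Localization.localRingHom_to_map] at h2
  exact RingHom.mem_ker.2 (IsLocalization.injective (Localization.AtPrime mb) mb.primeCompl_le_nonZeroDivisors (h2.trans (map_zero _).symm))

theorem isMaximal_pair {k A B : Type u} [Field k] [CommRing A] [CommRing B] [IsLocalRing A] [IsLocalRing B]
    [Algebra k A] [Algebra k B]
    (hA : Function.Bijective ((residue A).comp (algebraMap k A)))
    (hB : Function.Bijective ((residue B).comp (algebraMap k B)))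
    (𝔪 : Ideal (A ⊗[k] B)) [𝔪.IsPrime]
    (h𝔪 : 𝔪 = (maximalIdeal A).map (Algebra.TensorProduct.includeLeft : A →ₐ[k] A ⊗[k] B) ⊔
      (maximalIdeal B).map (Algebra.TensorProduct.includeRight : B →ₐ[k] A ⊗[k] B)) : 𝔪.IsMaximal := by
  refine Ideal.isMaximal_iff.2 ⟨(Ideal.ne_top_iff_one _).1 (Ideal.IsPrime.ne_top inferInstance), fun J x hle hx hxJ => ?_⟩
  obtain ⟨c, hc⟩ : ∃ c : k, x - algebraMap k _ c ∈ 𝔪 := by
    clear hx hxJ
    induction x using TensorProduct.induction_on with
    | zero => exact ⟨0, by simp⟩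
    | add x y hx hy =>
      obtain ⟨c, hc⟩ := hx; obtain ⟨d, hd⟩ := hy
      refine ⟨c + d, ?_⟩
      rw [map_add]
      exact add_sub_mem (R := A ⊗[k] B) 𝔪 hc hd
    | tmul u v =>
      obtain ⟨c, hc⟩ := hA.2 (residue A u)
      obtain ⟨d, hd⟩ := hB.2 (residue B v)
      refine ⟨c * d, ?_⟩
      rw [RingHom.comp_apply, eq_comm, ← sub_eq_zero, ← map_sub, residue_eq_zero_iff] at hc hd
      let LA : A →ₐ[k] A ⊗[k] B := Algebra.TensorProduct.includeLeft
      let LB : B →ₐ[k] A ⊗[k] B := Algebra.TensorProduct.includeRight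
      have e : (u ⊗ₜ[k] v : A ⊗[k] B) - algebraMap k _ (c * d) =
          LA (u - algebraMap k A c) * LB v + algebraMap k _ c * LB (v - algebraMap k B d) := by
        have h3 : (u ⊗ₜ[k] v : A ⊗[k] B) = LA u * LB v := by simp [LA, LB]
        rw [map_sub, map_sub, AlgHom.commutes, AlgHom.commutes, h3, map_mul]; ring
      rw [e, h𝔪]
      exact add_mem (Ideal.mul_mem_right _ _ (Ideal.mem_sup_left (Ideal.mem_map_of_mem LA hc)))
        (Ideal.mul_mem_left _ _ (Ideal.mem_sup_right (Ideal.mem_map_of_mem LB hd)))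
  have hc0 : c ≠ 0 := fun h => hx (mem_of_sub_zero (R := A ⊗[k] B) 𝔪 (h ▸ hc))
  have h1 : algebraMap k (A ⊗[k] B) c ∈ J := mem_of_sub (R := A ⊗[k] B) J hxJ (hle hc)
  have h2 := Ideal.eq_top_of_isUnit_mem J h1 ((isUnit_iff_ne_zero.2 hc0).map (algebraMap k (A ⊗[k] B)))
  exact h2 ▸ Submodule.mem_top

/-- Over a pair of minimal primes the strict henselization has one prime. -/
theorem isPrime_map_pair {k A B C : Type u} [Field k] [IsAlgClosed k] [CommRing A] [CommRing B] [HenselianLocalRing A]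
    [HenselianLocalRing B] [Algebra k A] [Algebra k B]
    (hA : Function.Bijective ((residue A).comp (algebraMap k A)))
    (hB : Function.Bijective ((residue B).comp (algebraMap k B)))
    (𝔪 : Ideal (A ⊗[k] B)) [𝔪.IsPrime]
    (h𝔪 : 𝔪 = (maximalIdeal A).map (Algebra.TensorProduct.includeLeft : A →ₐ[k] A ⊗[k] B) ⊔
      (maximalIdeal B).map (Algebra.TensorProduct.includeRight : B →ₐ[k] A ⊗[k] B))
    [CommRing C] [IsLocalRing C] [Algebra (Localization.AtPrime 𝔪) C]
    [IsLocalHom (algebraMap (Localization.AtPrime 𝔪) C)]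
    [Hensel.IsStrictHenselization (Localization.AtPrime 𝔪) C] (p : Ideal A) [p.IsPrime] (q : Ideal B) [q.IsPrime] :
    let θ := (algebraMap (Localization.AtPrime 𝔪) C).comp (algebraMap (A ⊗[k] B) (Localization.AtPrime 𝔪))
    let J := p.map (Algebra.TensorProduct.includeLeft : A →ₐ[k] A ⊗[k] B) ⊔
      q.map (Algebra.TensorProduct.includeRight : B →ₐ[k] A ⊗[k] B)
    (J.map θ).IsPrime ∧ (J.map θ).comap θ = J ∧ J = RingHom.ker (Algebra.TensorProduct.map (Ideal.Quotient.mkₐ k p) (Ideal.Quotient.mkₐ k q)) := by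
  intro θ J
  let φ := Algebra.TensorProduct.map (Ideal.Quotient.mkₐ k p) (Ideal.Quotient.mkₐ k q)
  have hφ : Function.Surjective φ := TensorProduct.map_surjective Ideal.Quotient.mk_surjective Ideal.Quotient.mk_surjective
  have hker : RingHom.ker φ = p.map (Algebra.TensorProduct.includeLeft : A →ₐ[k] A ⊗[k] B) ⊔
      q.map (Algebra.TensorProduct.includeRight : B →ₐ[k] A ⊗[k] B) := by
    rw [Algebra.TensorProduct.map_ker _ _ Ideal.Quotient.mk_surjective Ideal.Quotient.mk_surjective]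
    congr 2
    · exact Ideal.Quotient.mkₐ_ker k p
    · exact Ideal.Quotient.mkₐ_ker k q
  haveI : HenselianLocalRing (A ⧸ p) := Groth.Agent.IsoNatLib.henselianLocalRing_quotient p (Ideal.IsPrime.ne_top inferInstance)
  haveI : HenselianLocalRing (B ⧸ q) := Groth.Agent.IsoNatLib.henselianLocalRing_quotient q (Ideal.IsPrime.ne_top inferInstance)
  haveI h𝔪max : 𝔪.IsMaximal := isMaximal_pair hA hB 𝔪 h𝔪
  let mb : Ideal ((A ⧸ p) ⊗[k] (B ⧸ q)) := 𝔪.map φ.toRingHom
  have hk𝔪 : RingHom.ker φ ≤ 𝔪 := by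
    rw [hker, h𝔪]
    exact sup_le_sup (Ideal.map_mono (le_maximalIdeal (Ideal.IsPrime.ne_top inferInstance)))
      (Ideal.map_mono (le_maximalIdeal (Ideal.IsPrime.ne_top inferInstance)))
  have hcm : mb.comap φ.toRingHom = 𝔪 := by
    refine (Ideal.comap_map_of_surjective φ.toRingHom hφ 𝔪).trans ?_
    rw [sup_eq_left]
    exact hk𝔪
  haveI : mb.IsMaximal := by
    refine (Ideal.map_eq_top_or_isMaximal_of_surjective φ.toRingHom hφ h𝔪max).resolve_left fun h => h𝔪max.ne_top ?_
    rw [← hcm]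
    exact (congrArg (Ideal.comap φ.toRingHom) h).trans Ideal.comap_top
  obtain ⟨hdom, hgu⟩ := unibranch_tensor (quotient_residue hA p) (quotient_residue hB q) mb (fun a ha => by
      obtain ⟨a, rfl⟩ := Ideal.Quotient.mk_surjective a
      have h1 : a ⊗ₜ[k] (1 : B) ∈ 𝔪 := h𝔪 ▸ Ideal.mem_sup_left (Ideal.mem_map_of_mem _ (show a ∈ maximalIdeal A from
        fun hu => ha (hu.map (Ideal.Quotient.mk p))))
      exact Ideal.mem_map_of_mem φ.toRingHom h1) (fun b hb => by
      obtain ⟨b, rfl⟩ := Ideal.Quotient.mk_surjective b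
      have h1 : (1 : A) ⊗ₜ[k] b ∈ 𝔪 := h𝔪 ▸ Ideal.mem_sup_right (Ideal.mem_map_of_mem _ (show b ∈ maximalIdeal B from
        fun hu => hb (hu.map (Ideal.Quotient.mk q))))
      exact Ideal.mem_map_of_mem φ.toRingHom h1)
  haveI := hdom
  obtain ⟨h1, h2⟩ := isPrime_map_surj (R := A ⊗[k] B) (S := (A ⧸ p) ⊗[k] (B ⧸ q)) (C := C) φ.toRingHom hφ 𝔪 mb hcm hgu
  have hJ : J = RingHom.ker φ.toRingHom := hker.symm
  exact ⟨hJ ▸ h1, hJ ▸ h2, hker.symm⟩

open TensorProduct IsLocalRing in
/-- Let `k` be an algebraically closed field and `A`, `B` henselian local `k`-algebras with residue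
field `k` (the composites `k → A → A/m_A` and `k → B → B/m_B` are bijective; as `k` is algebraically
closed, `A` and `B` are strictly henselian). Let `𝔪 = m_A ⊗ B + A ⊗ m_B`, a maximal ideal of `A ⊗_k
B`, and let `C` be a strict henselization of the local ring `(A ⊗_k B)_𝔪`. Then sending a prime of
`C` to the pair of its preimages in `A` and in `B` is a bijection from the set of minimal primes of
`C` onto the set of pairs (minimal prime of `A`, minimal prime of `B`). -/
theorem result {k A B C : Type u} [Field k]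
    [IsAlgClosed k] [CommRing A] [CommRing B] [HenselianLocalRing A] [HenselianLocalRing B]
    [Algebra k A] [Algebra k B]
    (hA : Function.Bijective ((residue A).comp (algebraMap k A)))
    (hB : Function.Bijective ((residue B).comp (algebraMap k B)))
    (𝔪 : Ideal (A ⊗[k] B)) [𝔪.IsPrime]
    (h𝔪 : 𝔪 = (maximalIdeal A).map (Algebra.TensorProduct.includeLeft : A →ₐ[k] A ⊗[k] B) ⊔
      (maximalIdeal B).map (Algebra.TensorProduct.includeRight : B →ₐ[k] A ⊗[k] B))
    [CommRing C] [IsLocalRing C] [Algebra (Localization.AtPrime 𝔪) C]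
    [IsLocalHom (algebraMap (Localization.AtPrime 𝔪) C)]
    [Hensel.IsStrictHenselization (Localization.AtPrime 𝔪) C] :
    Set.BijOn
      (fun 𝔯 : Ideal C =>
        (𝔯.comap ((algebraMap (Localization.AtPrime 𝔪) C).comp
            ((algebraMap (A ⊗[k] B) (Localization.AtPrime 𝔪)).comp
              (Algebra.TensorProduct.includeLeft : A →ₐ[k] A ⊗[k] B).toRingHom)),
          𝔯.comap ((algebraMap (Localization.AtPrime 𝔪) C).comp
            ((algebraMap (A ⊗[k] B) (Localization.AtPrime 𝔪)).comp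
              (Algebra.TensorProduct.includeRight : B →ₐ[k] A ⊗[k] B).toRingHom))))
      (minimalPrimes C) (minimalPrimes A ×ˢ minimalPrimes B) := by
  classical
  let L : A →+* A ⊗[k] B := (Algebra.TensorProduct.includeLeft : A →ₐ[k] A ⊗[k] B).toRingHom
  let R : B →+* A ⊗[k] B := (Algebra.TensorProduct.includeRight : B →ₐ[k] A ⊗[k] B).toRingHom
  let θ : A ⊗[k] B →+* C := (algebraMap (Localization.AtPrime 𝔪) C).comp (algebraMap (A ⊗[k] B) (Localization.AtPrime 𝔪))
  have hθ : θ.Flat := by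
    haveI := Groth.Agent.Hensel.faithfullyFlat_of_isStrictHenselization (R := Localization.AtPrime 𝔪) (S := C)
    exact RingHom.Flat.comp (RingHom.flat_algebraMap_iff.2 (IsLocalization.flat _ 𝔪.primeCompl))
      (RingHom.flat_algebraMap_iff.2 inferInstance)
  have hL : L.Flat := by
    show (algebraMap A (A ⊗[k] B)).Flat
    exact RingHom.flat_algebraMap_iff.2 inferInstance
  have hR : R.Flat := by
    let := (Algebra.TensorProduct.rightAlgebra : Algebra B (A ⊗[k] B))
    show (algebraMap B (A ⊗[k] B)).Flat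
    exact RingHom.flat_algebraMap_iff.2 (Module.Flat.of_linearEquiv (Algebra.TensorProduct.commRight k B A).toLinearEquiv.symm)
  have hmem : ∀ r ∈ minimalPrimes C, (r.comap (θ.comp L)) ∈ minimalPrimes A ∧ (r.comap (θ.comp R)) ∈ minimalPrimes B :=
    fun r hr => ⟨minimal_of_flat _ (hL.comp hθ) r hr, minimal_of_flat _ (hR.comp hθ) r hr⟩
  have hI : ∀ (p : Ideal A) [p.IsPrime] (q : Ideal B) [q.IsPrime], ((p.map L ⊔ q.map R).map θ).IsPrime :=
    fun p _ q _ => (isPrime_map_pair hA hB 𝔪 h𝔪 (C := C) p q).1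
  have huniq : ∀ r ∈ minimalPrimes C, r = ((r.comap (θ.comp L)).map L ⊔ (r.comap (θ.comp R)).map R).map θ := by
    intro r hr
    haveI := hr.1.1
    have hle : ((r.comap (θ.comp L)).map L ⊔ (r.comap (θ.comp R)).map R).map θ ≤ r :=
      Ideal.map_le_iff_le_comap.2 (sup_le (Ideal.map_le_iff_le_comap.2 le_rfl) (Ideal.map_le_iff_le_comap.2 le_rfl))
    haveI := hI (r.comap (θ.comp L)) (r.comap (θ.comp R))
    exact le_antisymm (hr.2 ⟨inferInstance, bot_le⟩ hle) hle
  refine ⟨fun r hr => hmem r hr, fun r hr r' hr' h => ?_, fun pq hpq => ?_⟩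
  · obtain ⟨h1, h2⟩ := Prod.ext_iff.1 h
    rw [huniq r hr, huniq r' hr']
    exact congrArg (Ideal.map θ) (congrArg₂ (· ⊔ ·) (congrArg (Ideal.map L) h1) (congrArg (Ideal.map R) h2))
  · obtain ⟨p, q⟩ := pq
    obtain ⟨hp, hq⟩ := hpq
    haveI : p.IsPrime := hp.1.1
    haveI : q.IsPrime := hq.1.1
    haveI := hI p q
    let I := (p.map L ⊔ q.map R).map θ
    obtain ⟨r, hr, hrI⟩ := Ideal.exists_minimalPrimes_le (bot_le : (⊥ : Ideal C) ≤ I)
    haveI := hr.1.1
    obtain ⟨ha, hb⟩ := hmem r hr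
    obtain ⟨-, hcI, hJker⟩ := isPrime_map_pair hA hB 𝔪 h𝔪 (C := C) p q
    have hIp : I.comap (θ.comp L) ≤ p := fun x hx => by
      have h1 : L x ∈ p.map L ⊔ q.map R := hcI.le hx
      have h2 : Algebra.TensorProduct.map (Ideal.Quotient.mkₐ k p) (Ideal.Quotient.mkₐ k q) (x ⊗ₜ 1) = 0 := hJker.le h1
      rw [Algebra.TensorProduct.map_tmul, map_one] at h2
      exact Ideal.Quotient.eq_zero_iff_mem.1 (Algebra.TensorProduct.includeLeft_injective (S := k) (algebraMap k (B ⧸ q)).injective
        (h2.trans (map_zero (Algebra.TensorProduct.includeLeft : A ⧸ p →ₐ[k] (A ⧸ p) ⊗[k] (B ⧸ q))).symm))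
    have hIq : I.comap (θ.comp R) ≤ q := fun x hx => by
      have h1 : R x ∈ p.map L ⊔ q.map R := hcI.le hx
      have h2 : Algebra.TensorProduct.map (Ideal.Quotient.mkₐ k p) (Ideal.Quotient.mkₐ k q) (1 ⊗ₜ x) = 0 := hJker.le h1
      rw [Algebra.TensorProduct.map_tmul, map_one] at h2
      exact Ideal.Quotient.eq_zero_iff_mem.1 (Algebra.TensorProduct.includeRight_injective (algebraMap k (A ⧸ p)).injective
        (h2.trans (map_zero (Algebra.TensorProduct.includeRight : B ⧸ q →ₐ[k] (A ⧸ p) ⊗[k] (B ⧸ q))).symm))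
    have ea : r.comap (θ.comp L) ≤ p := (Ideal.comap_mono hrI).trans hIp
    have eb : r.comap (θ.comp R) ≤ q := (Ideal.comap_mono hrI).trans hIq
    exact ⟨r, hr, Prod.ext (le_antisymm ea (hp.2 ha.1 ea)) (le_antisymm eb (hq.2 hb.1 eb))⟩

end Groth.Agent.S9327
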