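import Groth.Statements.S9330
import Groth.Agent.Hensel.PairHenzLimit
-- import your own Groth.Agent.* helpers here

set_option autoImplicit false
universe u
open Hensel

namespace Groth.Agent.S9330

/-- Let `(A_i, I_i)` be a directed system of pairs (rings `A_i` with ideals `I_i`, the transition maps
sending `I_i` into `I_j`), with colimit ring `A` and `I ⊆ A` the ideal generated by (equivalently,
the union of) the images of the `I_i`. For each `i` let `B_i` be a henselization of the pair `(A_i,
I_i)`, with the compatible transition maps `B_i → B_j` over `A_i → A_j` (these are the induced ones,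
being unique), and give the colimit of the `B_i` the `A`-algebra structure induced by the maps `A_i
→ B_i`. Then `colim B_i`, with the extension of `I`, is a henselization of the pair `(A, I)`. (The
index set is taken in the universe of the rings; the statement fails for non-filtered colimits.) -/
theorem result {ι : Type u} [Preorder ι] [IsDirectedOrder ι] [Nonempty ι]
    (G : ι → Type u) [∀ i, CommRing (G i)] (f : ∀ i j : ι, i ≤ j → (G i →+* G j))
    [DirectedSystem G (fun i j h => f i j h)] (I : ∀ i, Ideal (G i))
    (hI : ∀ (i j : ι) (h : i ≤ j), (I i).map (f i j h) ≤ I j)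
    (B : ι → Type u) [∀ i, CommRing (B i)] [∀ i, Algebra (G i) (B i)]
    (hB : ∀ i, Hens2.IsPairHenselization (G i) (I i) (B i))
    (g : ∀ i j : ι, i ≤ j → (B i →+* B j)) [DirectedSystem B (fun i j h => g i j h)]
    (hg : ∀ (i j : ι) (h : i ≤ j), (g i j h).comp (algebraMap (G i) (B i)) = (algebraMap (G j) (B j)).comp (f i j h))
    [Algebra (DirectLimit G f) (DirectLimit B g)]
    (halg : ∀ (i : ι) (x : G i), algebraMap (DirectLimit G f) (DirectLimit B g) (DirectLimit.Ring.of G f i x) =
      DirectLimit.Ring.of B g i (algebraMap (G i) (B i) x)) :
    Hens2.IsPairHenselization (DirectLimit G f) (⨆ i, (I i).map (DirectLimit.Ring.of G f i))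
      (DirectLimit B g) := by
  exact Groth.Agent.Hensel.isPairHenselization_directLimit I hI B hB g hg halg

end Groth.Agent.S9330
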