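import Mathlib
import Groth.Statements.S9333
-- import your own Groth.Agent.* helpers here

set_option autoImplicit false
universe u
open QFin

namespace Groth.Agent.S9333

set_option backward.isDefEq.respectTransparency false
set_option backward.isDefEq.respectTransparency.types false

section helpers

open AlgebraicGeometry CategoryTheory Limits

theorem isClosed_of_isClosed_image {X S X' S' : Scheme.{u}} (f : X ⟶ S) [LocallyOfFiniteType f]
    (g : S' ⟶ S) (g' : X' ⟶ X) (f' : X' ⟶ S') (hsq : IsPullback g' f' f g) (x' : X') {s : S}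
    (hs : f.base (g'.base x') = s) (z : ↑(f.fiber s)) (hz : f.fiberι s z = g'.base x')
    (hclosed : IsClosed ({f.asFiber (g'.base x')} : Set ↑(f.fiber (f.base (g'.base x'))))) :
    IsClosed ({z} : Set ↑(f.fiber s)) := by
  subst hs
  have : z = f.asFiber (g'.base x') :=
    (f.fiberι _).isEmbedding.injective (hz.trans (f.fiberι_asFiber _).symm)
  rwa [this]

theorem isClosed_baseChange {X S X' S' : Scheme.{u}} (f : X ⟶ S) [LocallyOfFiniteType f]
    (g : S' ⟶ S) (g' : X' ⟶ X) (f' : X' ⟶ S') (hsq : IsPullback g' f' f g) (x' : X')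
    (hx : IsClosed ({f.asFiber (g'.base x')} : Set ↑(f.fiber (f.base (g'.base x'))))) :
    IsClosed ({f'.asFiber x'} : Set ↑(f'.fiber (f'.base x'))) := by
  let s' := f'.base x'
  let φ : f'.fiber s' ⟶ f.fiber (g.base s') :=
    pullback.map _ _ _ _ g' (Spec.map (g.residueFieldMap s')) g hsq.w.symm (by simp)
  have hP : IsPullback φ (f'.fiberToSpecResidueField s') (f.fiberToSpecResidueField (g.base s'))
      (Spec.map (g.residueFieldMap s')) := isPullback_fiberToSpecResidueField_of_isPullback hsq s'
  have hφι : φ ≫ f.fiberι (g.base s') = f'.fiberι s' ≫ g' := pullback.lift_fst _ _ _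
  have hs : f.base (g'.base x') = g.base s' := by
    rw [← Scheme.Hom.comp_apply, hsq.w]; rfl
  let z := φ (f'.asFiber x')
  have hzι : f.fiberι (g.base s') z = g'.base x' := by
    change (φ ≫ f.fiberι (g.base s')) (f'.asFiber x') = _
    rw [hφι, Scheme.Hom.comp_apply, f'.fiberι_asFiber]
  have hzc : IsClosed ({z} : Set ↑(f.fiber (g.base s'))) :=
    isClosed_of_isClosed_image f g g' f' hsq x' hs z hzι hx
  -- the closed point z is finite over the residue field
  let c := (f.fiber (g.base s')).fromSpecResidueField z
  have hc : IsClosedImmersion c := .of_isPreimmersion _ (by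
    rw [Scheme.range_fromSpecResidueField]; exact hzc)
  have : LocallyOfFiniteType (f.fiberToSpecResidueField (g.base s')) := by
    delta Scheme.Hom.fiberToSpecResidueField; infer_instance
  have hfin : IsFinite (c ≫ f.fiberToSpecResidueField (g.base s')) := by
    haveI : LocallyOfFiniteType (c ≫ f.fiberToSpecResidueField (g.base s')) := inferInstance
    exact isFinite_iff_locallyOfFiniteType_of_jacobsonSpace.mpr this
  have hW : IsPullback (pullback.fst c φ) (pullback.snd c φ ≫ f'.fiberToSpecResidueField s')
      (c ≫ f.fiberToSpecResidueField (g.base s')) (Spec.map (g.residueFieldMap s')) :=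
    (IsPullback.of_hasPullback c φ).paste_vert hP
  have hWf : IsFinite (pullback.snd c φ ≫ f'.fiberToSpecResidueField s') :=
    MorphismProperty.of_isPullback (P := @IsFinite) hW hfin
  haveI : IsLocallyArtinian (pullback c φ) :=
    IsLocallyArtinian.of_locallyQuasiFinite (pullback.snd c φ ≫ f'.fiberToSpecResidueField s')
  haveI : IsClosedImmersion (pullback.snd c φ) := inferInstance
  obtain ⟨p⟩ : Nonempty ↑(Spec ((f.fiber (g.base s')).residueField z)) := inferInstance
  have hp : c p = z := by
    have : c p ∈ Set.range c := ⟨p, rfl⟩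
    rwa [Scheme.range_fromSpecResidueField] at this
  obtain ⟨w, -, hw⟩ := Scheme.Pullback.exists_preimage_pullback p (f'.asFiber x') hp
  have := (pullback.snd c φ).isClosedEmbedding.isClosedMap {w} isClosed_singleton
  rwa [Set.image_singleton, hw] at this

end helpers

open AlgebraicGeometry CategoryTheory in
/-- Let f : X → S be locally of finite type, g : S' → S any morphism and X' = X ×_S S' with projections
g' : X' → X and f' : X' → S'. If x' ∈ X' maps to x ∈ X and x is closed in the fibre X_{f x}, then x'
is closed in the fibre X'_{f' x'}. -/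
theorem result {X S X' S' : Scheme.{u}} (f : X ⟶ S) [LocallyOfFiniteType f] (g : S' ⟶ S)
    (g' : X' ⟶ X) (f' : X' ⟶ S') (hsq : IsPullback g' f' f g) (x' : X')
    (hx : IsClosed ({f.asFiber (g'.base x')} : Set ↑(f.fiber (f.base (g'.base x'))))) :
    IsClosed ({f'.asFiber x'} : Set ↑(f'.fiber (f'.base x'))) := by
  exact isClosed_baseChange f g g' f' hsq x' hx

end Groth.Agent.S9333
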