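import Mathlib
import Groth.Statements.S9334
-- import your own Groth.Agent.* helpers here

set_option autoImplicit false
universe u
open QFin

namespace Groth.Agent.S9334

set_option backward.isDefEq.respectTransparency false
set_option backward.isDefEq.respectTransparency.types false

section helpers

open TopologicalSpace

theorem isOpen_singleton_of_noetherian {Y : Type*} [TopologicalSpace Y] [NoetherianSpace Y]
    [QuasiSober Y] (y : Y) (hy : IsClosed ({y} : Set Y)) (hgen : ∀ z, z ⤳ y → z = y) :
    IsOpen ({y} : Set Y) := by
  let Z : Set Y := ⋃ C ∈ {C ∈ irreducibleComponents Y | y ∉ C}, C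
  have hZ : IsClosed Z :=
    (NoetherianSpace.finite_irreducibleComponents.subset (Set.sep_subset _ _)).isClosed_biUnion
      fun C hC => isClosed_of_mem_irreducibleComponents C hC.1
  have heq : ({y} : Set Y) = Zᶜ := by
    ext w
    simp only [Set.mem_singleton_iff, Set.mem_compl_iff]
    constructor
    · rintro rfl h
      simp only [Z, Set.mem_iUnion] at h
      obtain ⟨C, hC, hw⟩ := h
      exact hC.2 hw
    · intro hw
      have hC := irreducibleComponent_mem_irreducibleComponents w
      have hwC : w ∈ irreducibleComponent w := mem_irreducibleComponent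
      have hyC : y ∈ irreducibleComponent w := by
        by_contra h
        exact hw (Set.mem_biUnion ⟨hC, h⟩ hwC)
      obtain ⟨η, hη⟩ := QuasiSober.sober isIrreducible_irreducibleComponent
        (isClosed_irreducibleComponent (x := w))
      have hηy : η = y := hgen η (hη.specializes hyC)
      rw [hηy] at hη
      rw [← hη, hy.closure_eq] at hwC
      exact hwC
  rw [heq]
  exact hZ.isOpen_compl

open AlgebraicGeometry in
theorem isOpen_singleton_of_locallyNoetherian {F : Scheme.{u}} [IsLocallyNoetherian F] (y : F)
    (hy : IsClosed ({y} : Set F)) (hgen : ∀ z : F, z ⤳ y → z = y) :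
    IsOpen ({y} : Set F) := by
  obtain ⟨U, hU, hyU, -⟩ := exists_isAffineOpen_mem_and_subset (U := (⊤ : F.Opens)) (x := y) trivial
  haveI : IsAffine U.toScheme := hU
  haveI : IsNoetherianRing Γ(F, U) := IsLocallyNoetherian.component_noetherian ⟨U, hU⟩
  haveI : NoetherianSpace U := noetherianSpace_of_isAffineOpen U hU
  haveI : QuasiSober U.toScheme := inferInstance
  have h := isOpen_singleton_of_noetherian (Y := U.toScheme) ⟨y, hyU⟩
    (by
      have h1 := hy.preimage (continuous_subtype_val : Continuous fun z : U => (z : F))
      have h2 : (fun z : U => (z : F)) ⁻¹' {y} = {(⟨y, hyU⟩ : U)} := by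
        ext z; exact ⟨fun h => Subtype.ext h, fun h => congrArg Subtype.val h⟩
      rwa [h2] at h1)
    (fun z hz => Subtype.ext (hgen z.1 (hz.map continuous_subtype_val)))
  have h3 := U.2.isOpenMap_subtype_val _ h
  rwa [Set.image_singleton] at h3

end helpers

open AlgebraicGeometry CategoryTheory in
/-- Let f : X → S be locally of finite type, x ∈ X, and write s = f x. The morphism f is quasi-finite at
x exactly when x is a closed point of the fibre X_s and no point x' ≠ x of X_s specializes to x. -/
theorem result {X S : Scheme.{u}} (f : X ⟶ S) [LocallyOfFiniteType f] (x : X) :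
    f.QuasiFiniteAt x ↔
      (IsClosed ({f.asFiber x} : Set ↑(f.fiber (f.base x))) ∧
        ∀ x' : ↑(f.fiber (f.base x)), x' ⤳ f.asFiber x → x' = f.asFiber x) := by
  have : LocallyOfFiniteType (f.fiberToSpecResidueField (f.base x)) := by
    delta Scheme.Hom.fiberToSpecResidueField; infer_instance
  haveI : IsLocallyNoetherian (f.fiber (f.base x)) :=
    LocallyOfFiniteType.isLocallyNoetherian (f.fiberToSpecResidueField (f.base x))
  constructor
  · intro h
    refine ⟨h.isClopen_singleton_asFiber.isClosed, fun x' hx' => ?_⟩
    exact Set.mem_singleton_iff.mp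
      (hx'.mem_open h.isClopen_singleton_asFiber.isOpen rfl)
  · rintro ⟨hc, hgen⟩
    rw [Scheme.Hom.quasiFiniteAt_iff_isOpen_singleton_asFiber]
    exact isOpen_singleton_of_locallyNoetherian _ hc hgen

end Groth.Agent.S9334
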