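import Groth.Statements.S9335
import Mathlib

set_option autoImplicit false
universe u
open QFin

namespace Groth.Agent.S9335

open AlgebraicGeometry CategoryTheory

set_option backward.isDefEq.respectTransparency.types false
set_option backward.isDefEq.respectTransparency false


open AlgebraicGeometry CategoryTheory in
/-- If f : X → S is of finite type and s ∈ S, then f is quasi-finite at only finitely many points of the
fibre over s. -/
theorem result {X S : Scheme.{u}} (f : X ⟶ S) [LocallyOfFiniteType f] [QuasiCompact f] (s : S) :
    {x : ↑X | f.base x = s ∧ f.QuasiFiniteAt x}.Finite := by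
  have : LocallyOfFiniteType (f.fiberToSpecResidueField s) := by
    delta Scheme.Hom.fiberToSpecResidueField; infer_instance
  have : IsLocallyNoetherian (f.fiber s) :=
    LocallyOfFiniteType.isLocallyNoetherian (f.fiberToSpecResidueField s)
  have : IsNoetherian (f.fiber s) := {}
  have hfin : {z : ↑(f.fiber s) | IsClopen ({z} : Set ↑(f.fiber s))}.Finite := by
    refine Set.Finite.of_finite_image (f := irreducibleComponent)
      (TopologicalSpace.NoetherianSpace.finite_irreducibleComponents.subset ?_) ?_
    · rintro _ ⟨z, _, rfl⟩
      exact irreducibleComponent_mem_irreducibleComponents z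
    · intro a ha b hb hab
      have hsub := isIrreducible_irreducibleComponent.isConnected.isPreconnected.subset_isClopen ha
        ⟨a, mem_irreducibleComponent, rfl⟩
      exact (hsub (hab ▸ mem_irreducibleComponent : b ∈ irreducibleComponent a)).symm
  refine (hfin.image (f.fiberι s)).subset ?_
  rintro x ⟨rfl, hq⟩
  exact ⟨f.asFiber x, hq.isClopen_singleton_asFiber f, f.fiberι_asFiber x⟩

end Groth.Agent.S9335
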