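import Groth.Statements.S9336
import Mathlib
import Groth.Agent.H3Sch.AlgClosedPt
import Groth.Agent.S9332

set_option autoImplicit false
universe u
open QFin

namespace Groth.Agent.S9336

open AlgebraicGeometry CategoryTheory

set_option backward.isDefEq.respectTransparency false
set_option backward.isDefEq.respectTransparency.types false

theorem discreteTopology_of_t1 (T : Scheme.{u}) [IsLocallyNoetherian T] [T1Space T] : DiscreteTopology T := by
  rw [discreteTopology_iff_isOpen_singleton]
  intro z
  obtain ⟨U, hU, hzU, -⟩ := exists_isAffineOpen_mem_and_subset (TopologicalSpace.Opens.mem_top z)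
  have : TopologicalSpace.NoetherianSpace U := by
    have := IsLocallyNoetherian.component_noetherian ⟨U, hU⟩
    exact noetherianSpace_of_isAffineOpen U hU
  have : T1Space ↥U.toScheme := U.ι.isOpenEmbedding.isEmbedding.t1Space
  have hcomp : ∀ Z ∈ irreducibleComponents (↥U.toScheme), Z.Subsingleton := by
    intro Z hZ
    have hg := hZ.1.isGenericPoint_genericPoint (isClosed_of_mem_irreducibleComponents _ hZ)
    rw [← hg.def, closure_singleton]
    exact Set.subsingleton_singleton
  have : Finite ↥U.toScheme := by
    rw [← Set.finite_univ_iff, ← sUnion_irreducibleComponents]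
    exact TopologicalSpace.NoetherianSpace.finite_irreducibleComponents.sUnion fun Z hZ => (hcomp Z hZ).finite
  have : T1Space ↥U.toScheme := U.ι.isOpenEmbedding.isEmbedding.t1Space
  have h1 : IsOpen ({⟨z, hzU⟩} : Set ↥U.toScheme) := isOpen_discrete _
  have h2 := U.ι.isOpenEmbedding.isOpenMap _ h1
  rw [Set.image_singleton] at h2
  exact h2


open AlgebraicGeometry CategoryTheory in
/-- Let f : X → Y be surjective and g : Y → S locally of finite type. If g ∘ f is locally quasi-finite
(and locally of finite type), then g is locally quasi-finite. -/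
theorem result {X Y S : Scheme.{u}} (f : X ⟶ Y) (g : Y ⟶ S) [Surjective f]
    [LocallyQuasiFinite (f ≫ g)] [LocallyOfFiniteType (f ≫ g)] [LocallyOfFiniteType g] :
    LocallyQuasiFinite g := by
  rw [locallyQuasiFinite_iff_isDiscrete_preimage_singleton]
  intro s
  have : LocallyOfFiniteType (g.fiberToSpecResidueField s) := by
    delta Scheme.Hom.fiberToSpecResidueField; infer_instance
  have : IsLocallyNoetherian (g.fiber s) :=
    LocallyOfFiniteType.isLocallyNoetherian (g.fiberToSpecResidueField s)
  have : T1Space (g.fiber s) := ⟨fun z => by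
    have hz : g.fiberι s z ∈ g ⁻¹' {s} := by rw [← g.range_fiberι]; exact ⟨z, rfl⟩
    obtain ⟨x, hx⟩ := f.surjective (g.fiberι s z)
    obtain rfl : g.base (f.base x) = s := by rw [hx]; exact hz
    have hzx : z = g.asFiber (f.base x) :=
      (g.fiberι _).isEmbedding.injective (hx.symm.trans (g.fiberι_asFiber _).symm)
    rw [hzx]
    refine H3Sch.isClosed_singleton_asFiber g (f.base x) ?_
    have h1 : ((f ≫ g).residueFieldMap x).hom.Finite :=
      (S9332.result (f ≫ g) x).1 (((f ≫ g).quasiFiniteAt x).isClopen_singleton_asFiber (f ≫ g)).1
    rw [Scheme.residueFieldMap_comp, CommRingCat.hom_comp] at h1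
    algebraize [(g.residueFieldMap (f.base x)).hom, (f.residueFieldMap x).hom,
      (f.residueFieldMap x).hom.comp (g.residueFieldMap (f.base x)).hom]
    have : Module.Finite (S.residueField (g.base (f.base x))) (X.residueField x) := h1
    have : FiniteDimensional (S.residueField (g.base (f.base x))) (Y.residueField (f.base x)) :=
      Module.Finite.of_injective (IsScalarTower.toAlgHom (S.residueField (g.base (f.base x))) (Y.residueField (f.base x)) (X.residueField x)).toLinearMap
        (f.residueFieldMap x).hom.injective
    exact Algebra.IsAlgebraic.of_finite _ _⟩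
  have := discreteTopology_of_t1 (g.fiber s)
  exact ⟨(g.fiberHomeo s).symm.isEmbedding.discreteTopology⟩

end Groth.Agent.S9336
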