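import Groth.Statements.S9343
import Groth.Agent.H23.QCCrit
import Mathlib.AlgebraicGeometry.PullbackCarrier

set_option autoImplicit false
universe u
open Dom

namespace Groth.Agent.S9343
open AlgebraicGeometry CategoryTheory

open AlgebraicGeometry CategoryTheory in
/-- The base change of a quasi-compact dominant morphism f : X → S along a morphism g : S' → S along
which generalizations lift is dominant. -/
theorem result {X S X' S' : Scheme.{u}} (f : X ⟶ S) [QuasiCompact f] [IsDominant f]
    (g : S' ⟶ S) (g' : X' ⟶ X) (f' : X' ⟶ S') (hsq : IsPullback g' f' f g) (hg : GeneralizingMap g.base) :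
    IsDominant f' := by
  refine ⟨fun s => ?_⟩
  have hC := irreducibleComponent_mem_irreducibleComponents s
  obtain ⟨t, ht, -⟩ := Groth.Agent.H23.FinCondSch.eq_closure_of_mem_irreducibleComponents hC
  have hD := irreducibleComponent_mem_irreducibleComponents (g t)
  obtain ⟨ξ, hξ, -⟩ := Groth.Agent.H23.FinCondSch.eq_closure_of_mem_irreducibleComponents hD
  have hξt : ξ ⤳ g t := specializes_iff_mem_closure.2 (hξ ▸ mem_irreducibleComponent)
  obtain ⟨t', ht't, ht'⟩ := hg hξt
  have htt' : t ⤳ t' := by
    refine specializes_iff_closure_subset.2 ?_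
    have := (ht ▸ hC).2 ((isIrreducible_singleton (x := t')).closure)
      (specializes_iff_closure_subset.1 ht't)
    exact this
  have hgt : g t = ξ := by
    rw [← ht']
    exact ((htt'.antisymm ht't).eq).symm ▸ rfl
  obtain ⟨x, -, hx⟩ := (Groth.Agent.H23.QCCrit.isDominant_iff f).1 inferInstance ξ (hξ ▸ hD)
  obtain ⟨x', -, hx'⟩ := Scheme.Pullback.exists_preimage_pullback x t (hx.trans hgt.symm)
  have hmem : t ∈ Set.range f' := ⟨hsq.isoPullback.inv x', by
    rw [← Scheme.Hom.comp_apply, IsPullback.isoPullback_inv_snd]; exact hx'⟩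
  exact closure_mono (Set.singleton_subset_iff.2 hmem) (ht ▸ mem_irreducibleComponent)

end Groth.Agent.S9343
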