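import Groth.Statements.S9345
import Mathlib

set_option autoImplicit false
universe u
open Dom

namespace Groth.Agent.S9345

open AlgebraicGeometry CategoryTheory


open AlgebraicGeometry CategoryTheory in
/-- For a morphism f : X → S whose source has only finitely many irreducible components, the image of f
is dense exactly when it contains the generic point of each irreducible component of S, and then S
too has finitely many. -/
theorem result {X S : Scheme.{u}} (f : X ⟶ S)
    (hX : (irreducibleComponents (↑X : Type u)).Finite) :
    (IsDominant f ↔ ∀ s : ↑S, closure {s} ∈ irreducibleComponents (↑S : Type u) → s ∈ Set.range f.base) ∧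
      (IsDominant f → (irreducibleComponents (↑S : Type u)).Finite) := by
  have key : IsDominant f → ∀ Z ∈ irreducibleComponents (↑S : Type u),
      ∃ T ∈ irreducibleComponents (↑X : Type u), Z = closure (f.base '' T) := by
    intro hd Z hZ
    have hcov : closure (Set.range f.base) = ⋃ T ∈ irreducibleComponents (↑X : Type u), closure (f.base '' T) := by
      rw [← hX.closure_biUnion, ← Set.image_iUnion₂, ← Set.sUnion_eq_biUnion,
        sUnion_irreducibleComponents, Set.image_univ]
    have hsub : Z ⊆ ⋃ T ∈ irreducibleComponents (↑X : Type u), closure (f.base '' T) := by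
      rw [← hcov, f.denseRange.closure_range]; exact Set.subset_univ _
    have : Finite (irreducibleComponents (↑X : Type u)) := hX.to_subtype
    rw [Set.biUnion_eq_iUnion] at hsub
    obtain ⟨_, hW, hZW⟩ := isIrreducible_iff_sUnion_isClosed.1 hZ.1
      (hX.toFinset.image (fun T => closure (f.base '' T)))
      (fun W hW => by
        obtain ⟨T, -, rfl⟩ := Finset.mem_image.1 hW
        exact isClosed_closure)
      (fun z hz => by
        obtain ⟨⟨T, hT⟩, hzT⟩ := Set.mem_iUnion.1 (hsub hz)
        exact ⟨_, Finset.mem_image.2 ⟨T, hX.mem_toFinset.2 hT, rfl⟩, hzT⟩)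
    obtain ⟨T, hT, rfl⟩ := Finset.mem_image.1 hW
    rw [hX.mem_toFinset] at hT
    exact ⟨T, hT, le_antisymm hZW (hZ.2 ((hT.1.image _ f.continuous.continuousOn).closure) hZW)⟩
  have hfin : IsDominant f → (irreducibleComponents (↑S : Type u)).Finite := fun hd =>
    (hX.image fun T => closure (f.base '' T)).subset fun Z hZ => by
      obtain ⟨T, hT, e⟩ := key hd Z hZ
      exact ⟨T, hT, e.symm⟩
  refine ⟨⟨fun hd s hs => ?_, fun H => ⟨fun z => ?_⟩⟩, hfin⟩
  · obtain ⟨T, hT, e⟩ := key hd _ hs
    have hg := hT.1.isGenericPoint_genericPoint (isClosed_of_mem_irreducibleComponents _ hT)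
    have hg' : IsGenericPoint s (closure (f.base '' T)) := e
    exact ⟨hT.1.genericPoint, (hg.image f.continuous).eq hg'⟩
  · have hZ := irreducibleComponent_mem_irreducibleComponents z
    have hg := hZ.1.isGenericPoint_genericPoint (isClosed_of_mem_irreducibleComponents _ hZ)
    obtain ⟨x, hx⟩ := H _ (by rw [hg.def]; exact hZ)
    refine closure_mono (show ({f.base x} : Set ↑S) ⊆ Set.range f.base from Set.singleton_subset_iff.2 ⟨x, rfl⟩) ?_
    rw [hx, hg.def]
    exact mem_irreducibleComponent

end Groth.Agent.S9345
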