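import Groth.Statements.S9348
import Groth.Agent.SchTop.Maximal

set_option autoImplicit false
universe u
open Dom

namespace Groth.Agent.S9348

open AlgebraicGeometry CategoryTheory in
/-- Let f : X → Y be a morphism and g : Y' → Y open and surjective. If the base change f' : X ×_Y Y' →
Y' of f is quasi-compact, then so is f. -/
theorem result {X Y X' Y' : Scheme.{u}} (f : X ⟶ Y) (g : Y' ⟶ Y) [Surjective g]
    (hg : IsOpenMap g.base) (g' : X' ⟶ X) (f' : X' ⟶ Y') (hsq : IsPullback g' f' f g) [QuasiCompact f'] :
    QuasiCompact f := by
  exact Groth.Agent.SchTop.quasiCompact_of_openSurjective f g hg g' f' hsq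

end Groth.Agent.S9348
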