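import Groth.Statements.S9351
import Groth.Agent.S6353
import Mathlib.AlgebraicGeometry.Morphisms.ClosedImmersion
import Mathlib.AlgebraicGeometry.Morphisms.UniversallyOpen
import Mathlib.RingTheory.Ideal.Pure

set_option autoImplicit false
universe u
open FlatMod

namespace Groth.Agent.S9351
open AlgebraicGeometry CategoryTheory TensorProduct Opposite

theorem pure_map_ideal {A B : Type u} [CommRing A] [CommRing B] (f : A →+* B) (I : Ideal A) [I.Pure] :
    (I.map f).Pure := by
  letI := f.toAlgebra
  exact Module.Flat.of_linearEquiv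
    ((Algebra.TensorProduct.quotIdealMapEquivTensorQuot B I).toLinearEquiv)

theorem preimage_support_eq {X : Scheme.{u}} (I : X.IdealSheafData) (U : X.affineOpens) :
    U.2.fromSpec ⁻¹' (I.support : Set X) = PrimeSpectrum.zeroLocus (I.ideal U : Set Γ(X, U)) := by
  apply U.2.fromSpec.isOpenEmbedding.injective.image_injective
  rw [Set.image_preimage_eq_inter_range, IsAffineOpen.range_fromSpec,
    IsAffineOpen.fromSpec_image_zeroLocus, Scheme.IdealSheafData.coe_support_inter]

theorem flat_subschemeι_iff {X : Scheme.{u}} (I : X.IdealSheafData) :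
    Flat I.subschemeι ↔ ∀ U : X.affineOpens, (I.ideal U).Pure := by
  constructor
  · intro h U
    have h1 := HasRingHomProperty.appLE (P := @Flat) I.subschemeι h U
      ⟨_, U.2.preimage I.subschemeι⟩ le_rfl
    rw [← Scheme.Hom.app_eq_appLE, I.subschemeι_app U] at h1
    have h2 := h1.comp (RingHom.Flat.of_bijective
      (f := (I.subschemeObjIso U).hom.hom) (ConcreteCategory.bijective_of_isIso _))
    rw [← CommRingCat.hom_comp, Category.assoc, Iso.inv_hom_id, Category.comp_id,
      CommRingCat.hom_ofHom] at h2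
    exact RingHom.flat_algebraMap_iff.mp h2
  · intro h
    refine IsZariskiLocalAtSource.of_openCover (P := @Flat) I.subschemeCover.openCover fun U => ?_
    show Flat (I.subschemeCover.f U ≫ I.subschemeι)
    rw [I.subschemeCover_map_subschemeι U, I.glueDataObjι_ι U]
    haveI : Flat (Spec.map (CommRingCat.ofHom (Ideal.Quotient.mk (I.ideal U)))) :=
      Flat.SpecMap_iff.2 (RingHom.flat_algebraMap_iff.mpr (h U))
    haveI := U.2.isOpenImmersion_fromSpec
    exact Flat.comp (Spec.map (CommRingCat.ofHom (Ideal.Quotient.mk (I.ideal U)))) U.2.fromSpec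

theorem exists_idealSheafData {X : Scheme.{u}} (Z : TopologicalSpace.Closeds X)
    (hZ : StableUnderGeneralization (Z : Set X)) :
    ∃ I : X.IdealSheafData, Flat I.subschemeι ∧ I.support = Z := by
  have h : ∀ U : X.affineOpens, ∃ J : Ideal Γ(X, U), J.Pure ∧
      PrimeSpectrum.zeroLocus (J : Set Γ(X, U)) = U.2.fromSpec ⁻¹' (Z : Set X) := fun U =>
    (Groth.Agent.S6353.result Γ(X, U)).2 _ (Z.isClosed.preimage U.2.fromSpec.continuous)
      fun p q hqp hp => hZ (hqp.map U.2.fromSpec.continuous) hp
  choose J hJ hJZ using h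
  have key : ∀ (U V : X.affineOpens) (h : V.1 ≤ U.1),
      (J U).map (X.presheaf.map (homOfLE h).op).hom = J V := fun U V h => by
    haveI := hJ U
    haveI := hJ V
    haveI := pure_map_ideal (X.presheaf.map (homOfLE h).op).hom (J U)
    rw [← Ideal.zeroLocus_inj_of_pure, hJZ V, Ideal.map, PrimeSpectrum.zeroLocus_span,
      ← PrimeSpectrum.preimage_comap_zeroLocus, hJZ U, ← U.2.map_fromSpec V.2 (homOfLE h).op]
    rfl
  let I : X.IdealSheafData := Scheme.IdealSheafData.mkOfMemSupportIff J
    (fun U f => key U (X.affineBasicOpen f) (X.basicOpen_le f))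
    Z (fun U x hx => by
    have h1 : x ∈ U.2.fromSpec '' PrimeSpectrum.zeroLocus (J U : Set Γ(X, U)) ↔
        x ∈ X.zeroLocus (U := U.1) (J U : Set Γ(X, U)) := by
      rw [IsAffineOpen.fromSpec_image_zeroLocus]; exact and_iff_left hx
    rw [← h1, hJZ U, Set.image_preimage_eq_inter_range, IsAffineOpen.range_fromSpec]
    exact (and_iff_left hx).symm)
  exact ⟨I, (flat_subschemeι_iff I).2 hJ, SetLike.coe_injective rfl⟩

theorem factors {X Y : Scheme.{u}} (I : X.IdealSheafData) (hI : Flat I.subschemeι) (g : Y ⟶ X)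
    (hg : Set.range g.base ⊆ (I.support : Set X)) : ∃ g' : Y ⟶ I.subscheme, g' ≫ I.subschemeι = g := by
  refine ⟨IsClosedImmersion.lift I.subschemeι g ?_, IsClosedImmersion.lift_fac _ _ _⟩
  rw [I.ker_subschemeι, Scheme.Hom.ker, Scheme.IdealSheafData.le_ofIdeals_iff]
  intro U x hx
  haveI := (flat_subschemeι_iff I).1 hI U
  obtain ⟨y, hy, hxy⟩ := Ideal.exists_eq_mul_of_pure hx
  have h1 : IsUnit ((g.app U).hom (1 - y)) := by
    refine Y.toLocallyRingedSpace.toRingedSpace.isUnit_of_isUnit_germ _ _ fun p hp => ?_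
    have h3 : g.base p ∈ X.zeroLocus (U := U.1) (I.ideal U : Set Γ(X, U)) ∩ U.1 := by
      rw [← Scheme.IdealSheafData.coe_support_inter]
      exact ⟨hg ⟨p, rfl⟩, hp⟩
    have h4 : ¬ IsUnit (X.presheaf.germ U.1 (g.base p) hp y) := fun hu =>
      (Scheme.mem_zeroLocus_iff _ _ _).1 h3.1 y hy ((Scheme.mem_basicOpen X y (g.base p) hp).2 hu)
    have h5 : IsUnit (X.presheaf.germ U.1 (g.base p) hp (1 - y)) := by
      rw [map_sub, map_one]
      exact (IsLocalRing.isUnit_or_isUnit_one_sub_self _).resolve_left h4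
    have h6 := h5.map (g.stalkMap p).hom
    rwa [← CommRingCat.comp_apply, Scheme.Hom.germ_stalkMap, CommRingCat.comp_apply] at h6
  rw [RingHom.mem_ker]
  have h2 : (g.app U).hom x * (g.app U).hom (1 - y) = 0 := by
    rw [← map_mul, mul_sub, mul_one, ← hxy, sub_self, map_zero]
  exact h1.mul_left_eq_zero.1 h2


open AlgebraicGeometry CategoryTheory in
/-- On a scheme X, taking supports is a bijection from the closed subschemes Z ⊆ X with Z → X flat
(indexed by their quasi-coherent ideal sheaves) onto the closed subsets of X stable under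
generalization; and any morphism g : Y → X with image inside such a Z factors through Z. -/
theorem result (X : Scheme.{u}) :
    Set.BijOn (fun I : X.IdealSheafData => I.support) {I : X.IdealSheafData | Flat I.subschemeι}
        {Z : TopologicalSpace.Closeds ↑X | StableUnderGeneralization (Z : Set ↑X)} ∧
      ∀ I : X.IdealSheafData, Flat I.subschemeι → ∀ (Y : Scheme.{u}) (g : Y ⟶ X),
        Set.range g.base ⊆ (I.support : Set ↑X) → ∃ g' : Y ⟶ I.subscheme, g' ≫ I.subschemeι = g := by
  refine ⟨⟨fun I (hI : Flat I.subschemeι) => ?_, fun I (hI : Flat I.subschemeι) J (hJ : Flat J.subschemeι) hIJ => ?_,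
    fun Z hZ => ?_⟩, fun I hI Y g hg => factors I hI g hg⟩
  · show StableUnderGeneralization (I.support : Set X)
    rw [← I.range_subschemeι, ← Set.image_univ]
    exact (AlgebraicGeometry.Flat.generalizingMap I.subschemeι).stableUnderGeneralization_image
      stableUnderGeneralization_univ
  · ext U : 2
    haveI := (flat_subschemeι_iff I).1 hI U
    haveI := (flat_subschemeι_iff J).1 hJ U
    rw [← Ideal.zeroLocus_inj_of_pure, ← preimage_support_eq, ← preimage_support_eq]
    exact congrArg (fun Z : TopologicalSpace.Closeds X => U.2.fromSpec ⁻¹' (Z : Set X)) hIJ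
  · obtain ⟨I, hI, hIZ⟩ := exists_idealSheafData Z hZ
    exact ⟨I, hI, hIZ⟩


end Groth.Agent.S9351
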