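import Groth.Statements.S9352
import Groth.Agent.S9351
import Groth.Agent.QCoh.LocFree
import Groth.Agent.QCoh.Qcqs
import Groth.Agent.QCoh.VanIdeal
import Mathlib.RingTheory.Support

set_option autoImplicit false
universe u
open FlatMod

namespace Groth.Agent.S9352
open AlgebraicGeometry CategoryTheory TensorProduct Groth.Agent.QCoh

theorem sections_push {X : Scheme.{u}} (I : X.IdealSheafData) (U : X.affineOpens) :
    Nonempty ((Γ(X, U.1) ⧸ I.ideal U) ≃ₗ[Γ(X, U.1)]
      Γ((Scheme.Modules.pushforward I.subschemeι).obj (Coh.structureModule I.subscheme), U.1)) := by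
  let F := (Scheme.Modules.pushforward I.subschemeι).obj (Coh.structureModule I.subscheme)
  let one : Γ(F, U.1) := (show Γ(I.subscheme, I.subschemeι ⁻¹ᵁ U.1) from 1)
  let l : Γ(X, U.1) →ₗ[Γ(X, U.1)] Γ(F, U.1) := LinearMap.toSpanSingleton _ _ one
  have hl : ∀ r, l r = (show Γ(F, U.1) from I.subschemeι.app U.1 r) := fun r =>
    (pushforward_smul (M := Coh.structureModule I.subscheme) I.subschemeι U.1 r _).trans
      (mul_one (I.subschemeι.app U.1 r))
  have hsurj : Function.Surjective l := fun m => by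
    obtain ⟨r, hr⟩ := I.subschemeι_app_surjective U m
    exact ⟨r, (hl r).trans hr⟩
  have hker : LinearMap.ker l = I.ideal U := by
    ext r
    rw [LinearMap.mem_ker, hl, ← I.ker_subschemeι_app U, RingHom.mem_ker]
    rfl
  exact ⟨(Submodule.quotEquivOfEq _ _ hker.symm).trans (l.quotKerEquivOfSurjective hsurj)⟩

theorem semicontinuous {A M : Type u} [CommRing A] [AddCommGroup M] [Module A M] [Module.Finite A M]
    [Module.Flat A M] (p : PrimeSpectrum A) :
    ∃ O : Set (PrimeSpectrum A), IsOpen O ∧ p ∈ O ∧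
      ∀ q ∈ O, Module.rankAtStalk (R := A) M q ≤ Module.rankAtStalk (R := A) M p := by
  let κ := p.asIdeal.ResidueField
  obtain ⟨b, hbs, hspan, hind⟩ := exists_linearIndependent κ (Set.range fun m : M => (1 : κ) ⊗ₜ[A] m)
  have htop : Submodule.span κ (Set.range fun m : M => (1 : κ) ⊗ₜ[A] m) = ⊤ := by
    rw [eq_top_iff]
    intro x _
    induction x using TensorProduct.induction_on with
    | zero => exact zero_mem _
    | add x y hx hy => exact add_mem (hx trivial) (hy trivial)
    | tmul c m =>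
      rw [show c ⊗ₜ[A] m = c • ((1 : κ) ⊗ₜ[A] m) by rw [smul_tmul', smul_eq_mul, mul_one]]
      exact Submodule.smul_mem _ _ (Submodule.subset_span ⟨m, rfl⟩)
  haveI : Fintype b := (hind.setFinite).fintype
  have hcard : Fintype.card b = Module.finrank κ (κ ⊗[A] M) := by
    rw [← Module.finrank_eq_card_basis (Module.Basis.mk hind
      (by rw [Subtype.range_coe, hspan, htop]))]
  choose g hg using hbs
  classical
  let φ : (b → A) →ₗ[A] M := Fintype.linearCombination A fun x : b => g x.2
  let C := M ⧸ LinearMap.range φ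
  have hC : p ∉ Module.support A C := by
    rw [Module.mem_support_iff_nontrivial_residueField_tensorProduct, not_nontrivial_iff_subsingleton]
    refine ⟨fun x y => ?_⟩
    suffices h : ∀ z : κ ⊗[A] M, (LinearMap.range φ).mkQ.baseChange κ z = 0 by
      obtain ⟨x, rfl⟩ := LinearMap.lTensor_surjective κ (LinearMap.range φ).mkQ_surjective x
      obtain ⟨y, rfl⟩ := LinearMap.lTensor_surjective κ (LinearMap.range φ).mkQ_surjective y
      exact (h x).trans (h y).symm
    intro z
    have hz : z ∈ Submodule.span κ b := by rw [hspan, htop]; trivial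
    refine LinearMap.mem_ker.1 ((Submodule.span_le (p := LinearMap.ker _)).2 (fun w hw => ?_) hz)
    rw [SetLike.mem_coe, LinearMap.mem_ker, ← hg hw, LinearMap.baseChange_tmul,
      show (LinearMap.range φ).mkQ (g hw) = 0 from (Submodule.Quotient.mk_eq_zero _).2
        (LinearMap.mem_range.2 ⟨Pi.single ⟨w, hw⟩ 1,
          (Fintype.linearCombination_apply_single A _ _ _).trans (one_smul _ _)⟩), tmul_zero]
  refine ⟨(Module.support A C)ᶜ, Module.isClosed_support.isOpen_compl, hC, fun q hq => ?_⟩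
  have hsub : Subsingleton (q.asIdeal.ResidueField ⊗[A] C) := by
    rw [← not_nontrivial_iff_subsingleton, ← Module.mem_support_iff_nontrivial_residueField_tensorProduct]
    exact hq
  have hsurj : Function.Surjective (φ.baseChange q.asIdeal.ResidueField) := fun z =>
    (lTensor_exact (R := A) (M := b → A) (N := M) q.asIdeal.ResidueField
      (LinearMap.exact_map_mkQ_range φ) (Submodule.mkQ_surjective _) z).1 (Subsingleton.elim _ _)
  calc Module.rankAtStalk (R := A) M q
      = Module.finrank q.asIdeal.ResidueField (q.asIdeal.ResidueField ⊗[A] M) :=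
        (Ideal.finrank_fiber_eq_rankAtStalk q.asIdeal).symm
    _ ≤ Module.finrank q.asIdeal.ResidueField (q.asIdeal.ResidueField ⊗[A] (b → A)) :=
        (φ.baseChange _).finrank_le_finrank_of_surjective hsurj
    _ = Fintype.card b := by
        rw [(TensorProduct.piScalarRight A q.asIdeal.ResidueField q.asIdeal.ResidueField b).finrank_eq,
          Module.finrank_pi]
    _ = Module.rankAtStalk (R := A) M p := hcard.trans (Ideal.finrank_fiber_eq_rankAtStalk p.asIdeal)

theorem isFinLocFree_of_clopen {X : Scheme.{u}}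
    (h : ∀ Z : Set X, IsClosed Z → StableUnderGeneralization Z → IsOpen Z) {F : X.Modules}
    (hF : Coh.IsQCoh F) (hft : CohB1.IsFT F) (hflat : FlatMod.IsFlat F) : FlatMod.IsFinLocFree F := by
  have hfree : ∀ x : X, Module.Free (X.presheaf.stalk x) (F.presheaf.stalk x) := fun x => by
    haveI := finite_stalk_of_isFT hF hft x
    haveI : Module.Flat (X.presheaf.stalk x) (F.presheaf.stalk x) := hflat x
    exact Module.free_of_flat_of_isLocalRing
  refine isFinLocFree_of_rank hF hft hfree ?_
  let r : X → ℕ := fun x => Module.finrank (X.presheaf.stalk x) (F.presheaf.stalk x)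
  have hr : ∀ n, IsClopen {x | n ≤ r x} := by
    intro n
    have hc : IsClosed {x | n ≤ r x} := by
      rw [← isOpen_compl_iff, isOpen_iff_forall_mem_open]
      intro x hx
      obtain ⟨_, ⟨U, hU, rfl⟩, hxU, -⟩ :=
        X.isBasis_affineOpens.exists_subset_of_mem_open (Set.mem_univ x) isOpen_univ
      have hU' : IsAffineOpen U := hU
      haveI := finite_of_isFT hF hft hU'
      haveI := (isFlat_iff hF).1 hflat ⟨U, hU'⟩
      obtain ⟨O, hO, hpO, hle⟩ := semicontinuous (A := Γ(X, U)) (M := Γ(F, U)) (hU'.primeIdealOf ⟨x, hxU⟩)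
      refine ⟨hU'.fromSpec '' O, ?_, hU'.fromSpec.isOpenEmbedding.isOpenMap _ hO,
        ⟨_, hpO, hU'.fromSpec_primeIdealOf ⟨x, hxU⟩⟩⟩
      rintro _ ⟨q, hq, rfl⟩
      obtain ⟨y, hy, rfl⟩ := exists_point hU' q
      rw [hU'.fromSpec_primeIdealOf ⟨y, hy⟩]
      intro hyn
      exact hx (le_trans (show n ≤ r y from hyn) ((rankAtStalk_eq_finrank hF hU' hy).symm.trans_le
        ((hle _ hq).trans_eq (rankAtStalk_eq_finrank hF hU' hxU))))
    refine ⟨hc, h _ hc ?_⟩
    intro x y hyx hx
    obtain ⟨_, ⟨U, hU, rfl⟩, hxU, -⟩ :=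
      X.isBasis_affineOpens.exists_subset_of_mem_open (Set.mem_univ x) isOpen_univ
    have hU' : IsAffineOpen U := hU
    have hyU : y ∈ U := hyx.mem_open U.2 hxU
    haveI := finite_of_isFT hF hft hU'
    haveI := (isFlat_iff hF).1 hflat ⟨U, hU'⟩
    have hle : hU'.primeIdealOf ⟨y, hyU⟩ ≤ hU'.primeIdealOf ⟨x, hxU⟩ := by
      rw [PrimeSpectrum.le_iff_specializes]
      refine (hU'.fromSpec.isOpenEmbedding.isInducing.specializes_iff).1 ?_
      rwa [hU'.fromSpec_primeIdealOf ⟨y, hyU⟩, hU'.fromSpec_primeIdealOf ⟨x, hxU⟩]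
    have := Module.rankAtStalk_eq_of_le_of_finite_of_flat (M := Γ(F, U)) hle
    rw [rankAtStalk_eq_finrank hF hU' hyU, rankAtStalk_eq_finrank hF hU' hxU] at this
    show n ≤ r y
    exact le_of_le_of_eq hx this.symm
  refine (IsLocallyConstant.iff_isOpen_fiber).2 fun n => ?_
  convert (hr n).isOpen.inter (hr (n + 1)).isClosed.isOpen_compl using 1
  ext x
  show r x = n ↔ n ≤ r x ∧ ¬ n + 1 ≤ r x
  omega


open AlgebraicGeometry CategoryTheory in
/-- For a scheme X, every finite type flat quasi-coherent O_X-module is finite locally free if and only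
if every closed subset of X that is stable under generalization is open. -/
theorem result (X : Scheme.{u}) :
    (∀ F : X.Modules, Coh.IsQCoh F → CohB1.IsFT F → FlatMod.IsFlat F → FlatMod.IsFinLocFree F) ↔
      ∀ Z : Set ↑X, IsClosed Z → StableUnderGeneralization Z → IsOpen Z := by
  refine ⟨fun h Z hZc hZg => ?_, fun h F hF hft hflat => isFinLocFree_of_clopen h hF hft hflat⟩
  obtain ⟨I, hI, hIZ⟩ := Groth.Agent.S9351.exists_idealSheafData ⟨Z, hZc⟩ hZg
  let F := (Scheme.Modules.pushforward I.subschemeι).obj (Coh.structureModule I.subscheme)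
  have hq : Coh.IsQCoh F := isQCoh_pushforward _ isQCoh_structureModule
  have hft : CohB1.IsFT F := (isFT_iff hq).2 fun U => by
    obtain ⟨e⟩ := sections_push I U
    exact Module.Finite.equiv e
  have hflat : FlatMod.IsFlat F := (isFlat_iff hq).2 fun U => by
    obtain ⟨e⟩ := sections_push I U
    haveI : Module.Flat Γ(X, U.1) (Γ(X, U.1) ⧸ I.ideal U) :=
      (Groth.Agent.S9351.flat_subschemeι_iff I).1 hI U
    exact Module.Flat.of_linearEquiv e.symm
  have hrank := isLocallyConstant_rank (h F hq hft hflat)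
  rw [isOpen_iff_forall_mem_open]
  intro x hx
  obtain ⟨W, hW, hxW, hconst⟩ := (IsLocallyConstant.iff_exists_open _).1 hrank x
  refine ⟨W, fun y hy => ?_, hW, hxW⟩
  have key : ∀ z : X, z ∈ Z ↔ 0 < Module.finrank (X.presheaf.stalk z) (F.presheaf.stalk z) := fun z => by
    obtain ⟨_, ⟨U, hU, rfl⟩, hzU, -⟩ :=
      X.isBasis_affineOpens.exists_subset_of_mem_open (Set.mem_univ z) isOpen_univ
    have hU' : IsAffineOpen U := hU
    obtain ⟨e⟩ := sections_push I ⟨U, hU'⟩
    haveI : Module.Flat Γ(X, U) (Γ(X, U) ⧸ I.ideal ⟨U, hU'⟩) :=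
      (Groth.Agent.S9351.flat_subschemeι_iff I).1 hI ⟨U, hU'⟩
    rw [← rankAtStalk_eq_finrank hq hU' hzU, ← Module.rankAtStalk_eq_of_equiv e,
      Module.rankAtStalk_pos_iff_mem_support, Module.support_eq_zeroLocus, Ideal.annihilator_quotient,
      ← Groth.Agent.S9351.preimage_support_eq I ⟨U, hU'⟩, hIZ]
    change z ∈ Z ↔ hU'.fromSpec (hU'.primeIdealOf ⟨z, hzU⟩) ∈ Z
    rw [hU'.fromSpec_primeIdealOf ⟨z, hzU⟩]
  rw [key] at hx ⊢
  rwa [hconst y hy]


end Groth.Agent.S9352
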