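import Groth.Statements.S9360
import Mathlib
import Groth.Agent.Triage.SchDense

set_option autoImplicit false
universe u
open SchDense

namespace Groth.Agent.S9360

open AlgebraicGeometry CategoryTheory in
/-- Let U ⊆ X be a reduced open subscheme. Then the scheme-theoretic closure of U in X is X if and only
if U is scheme-theoretically dense in X (for every open W the scheme-theoretic closure of U ∩ W in W
is W); and in that case X is reduced. -/
theorem result (X : Scheme.{u}) (U : X.Opens) [IsReduced (↑U : Scheme.{u})] :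
    (IsSchemeTheoreticallyDominant U.ι ↔
        ∀ W : X.Opens, IsSchemeTheoreticallyDominant (X.homOfLE (inf_le_right : U ⊓ W ≤ W))) ∧
      (IsSchemeTheoreticallyDominant U.ι → IsReduced X) := by
  refine ⟨⟨fun h W => ?_, fun h => ?_⟩, fun h => Groth.Agent.Triage.SchDense.isReduced_of_isReduced _ h⟩
  · haveI := Groth.Agent.Triage.SchDense.isReduced_of_isReduced _ h
    haveI : IsReduced (W : Scheme.{u}) := isReduced_of_isOpenImmersion W.ι
    have hd : Dense (U : Set X) := by
      have := Groth.Agent.Triage.SchDense.denseRange_of_isReduced _ h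
      rwa [DenseRange, Scheme.Opens.range_ι] at this
    haveI : IsDominant (X.homOfLE (inf_le_right : U ⊓ W ≤ W)) := by
      refine ⟨?_⟩
      have hr : Set.range (X.homOfLE (inf_le_right : U ⊓ W ≤ W)) = W.ι ⁻¹' (U : Set X) := by
        ext w
        refine ⟨?_, fun hw => ⟨⟨w.1, hw, w.2⟩, Subtype.ext ?_⟩⟩
        · rintro ⟨z, rfl⟩
          show W.ι (X.homOfLE (inf_le_right : U ⊓ W ≤ W) z) ∈ U
          rw [← Scheme.Hom.comp_apply, Scheme.homOfLE_ι]
          exact z.2.1
        · show W.ι (X.homOfLE (inf_le_right : U ⊓ W ≤ W) ⟨w.1, hw, w.2⟩) = W.ι w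
          exact (congrArg (fun φ : ((U ⊓ W : X.Opens) : Scheme.{u}) ⟶ X => φ ⟨w.1, hw, w.2⟩)
            (X.homOfLE_ι (inf_le_right : U ⊓ W ≤ W)) :)
      rw [DenseRange, hr]
      exact hd.preimage W.ι.isOpenEmbedding.isOpenMap
    exact .of_isDominant _
  · have := h ⊤
    haveI : IsIso (X.homOfLE (inf_le_left : U ⊓ ⊤ ≤ U)) :=
      ⟨X.homOfLE (le_inf le_rfl le_top), by simp, by simp⟩
    haveI : IsIso (⊤ : X.Opens).ι := by
      rw [← Scheme.topIso_hom]; infer_instance
    have e : X.homOfLE (inf_le_left : U ⊓ ⊤ ≤ U) ≫ U.ι =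
        X.homOfLE (inf_le_right : U ⊓ ⊤ ≤ ⊤) ≫ (⊤ : X.Opens).ι := by simp
    refine ⟨?_⟩
    rw [← Scheme.Hom.ker_comp_of_isIso (X.homOfLE (inf_le_left : U ⊓ ⊤ ≤ U)) U.ι, e]
    exact IsSchemeTheoreticallyDominant.ker_eq_bot _

end Groth.Agent.S9360
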