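import Groth.Statements.S9361
import Mathlib
import Groth.Agent.Triage.SchDense

set_option autoImplicit false
universe u
open SchImage

namespace Groth.Agent.S9361

open AlgebraicGeometry CategoryTheory in
/-- Let f : X → Y be separated, V ⊆ Y a retrocompact open and s : V → X a section of f over V. If Y' ⊆ X
is the scheme-theoretic image of s, then Y' → Y is an isomorphism over V. -/
theorem result {X Y : Scheme.{u}} (f : X ⟶ Y) [IsSeparated f] (V : Y.Opens) [QuasiCompact V.ι]
    (s : (↑V : Scheme.{u}) ⟶ X) (hs : s ≫ f = V.ι) :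
    IsIso ((s.imageι ≫ f) ∣_ V) := by
  haveI : QuasiCompact (s ≫ f) := hs ▸ inferInstance
  haveI : QuasiCompact s := QuasiCompact.of_comp s f
  let W : s.image.Opens := (s.imageι ≫ f) ⁻¹ᵁ V
  have hcomp : s.toImage ≫ s.imageι ≫ f = V.ι := by rw [Scheme.Hom.toImage_imageι_assoc, hs]
  have htop : s.toImage ⁻¹ᵁ W = ⊤ := by
    refine top_le_iff.mp fun v _ => ?_
    show (s.imageι ≫ f) (s.toImage v) ∈ V
    rw [← Scheme.Hom.comp_apply, hcomp]
    exact v.2
  haveI : IsIso (s.toImage ⁻¹ᵁ W).ι := by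
    rw [htop, ← Scheme.topIso_hom]; infer_instance
  let g := (s.imageι ≫ f) ∣_ V
  let σ : (V : Scheme.{u}) ⟶ W := inv (s.toImage ⁻¹ᵁ W).ι ≫ s.toImage ∣_ W
  have hσ : σ ≫ g = 𝟙 _ := by
    rw [← cancel_mono V.ι, Category.assoc, morphismRestrict_ι, Category.id_comp]
    show (inv (s.toImage ⁻¹ᵁ W).ι ≫ s.toImage ∣_ W) ≫ W.ι ≫ s.imageι ≫ f = V.ι
    rw [Category.assoc, morphismRestrict_ι_assoc, IsIso.inv_hom_id_assoc, hcomp]
  haveI hσg : IsClosedImmersion (σ ≫ g) := by rw [hσ]; infer_instance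
  haveI : IsClosedImmersion σ := IsClosedImmersion.of_comp σ g
  haveI := Groth.Agent.Triage.SchDense.isSchemeTheoreticallyDominant_toImage s
  haveI : IsSchemeTheoreticallyDominant (s.toImage ∣_ W) :=
    IsSchemeTheoreticallyDominant.of_isPullback (isPullback_morphismRestrict s.toImage W).flip
  haveI : IsSchemeTheoreticallyDominant σ :=
    inferInstanceAs (IsSchemeTheoreticallyDominant (inv (s.toImage ⁻¹ᵁ W).ι ≫ s.toImage ∣_ W))
  haveI : IsIso σ := IsClosedImmersion.isIso_iff_ker_eq_bot.2 (Scheme.Hom.ker_eq_bot σ)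
  show IsIso g
  rw [show g = inv σ by exact (IsIso.inv_eq_of_hom_inv_id hσ).symm]
  infer_instance

end Groth.Agent.S9361
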