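import Groth.Statements.S9366
import Mathlib
import Groth.Agent.Synt29.RelFibre

set_option autoImplicit false
universe u
open Synt

namespace Groth.Agent.S9366

open AlgebraicGeometry CategoryTheory in
/-- For a relative global complete intersection R → A = R[x_1, …, x_n]/(F_1, …, F_c) and f : Spec A →
Spec R, the function x ↦ dim_x(X_{f x}) is constant with value n − c. -/
theorem result (R : Type u) [CommRing R] (n c : ℕ) (F : Fin c → MvPolynomial (Fin n) R)
    (hF : Synt.IsRelGCI R n c F) (x : ↑(Spec (CommRingCat.of (Synt.RelGCIRing R n c F)))) :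
    FlatMor.fibreDimAt (Spec.map (CommRingCat.ofHom (algebraMap R (Synt.RelGCIRing R n c F)))) x =
      ((n - c : ℕ) : WithBot ℕ∞) := by
  exact Groth.Agent.Synt29.fibreDimAt_relGCI hF x

end Groth.Agent.S9366
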