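import Groth.Statements.S9374
import Groth.Agent.Approx.AffDim
import Groth.Agent.CMOpen5.Affine
import Groth.Agent.AlgSpPts.Sep

set_option autoImplicit false
set_option backward.isDefEq.respectTransparency false
set_option backward.isDefEq.respectTransparency.types false
universe u
open FibDim

namespace Groth.Agent.S9374

open AlgebraicGeometry CategoryTheory in
/-- Let f : X → S be flat, locally of finite presentation, with Cohen–Macaulay fibres. Then x ↦
dim_x(X_{f x}) is locally constant on X. (The published statement also decomposes X into the open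
and closed pieces X_d = {dim_x(X_{f x}) = d} and says f has relative dimension d on X_d; this row
asserts only the local constancy.) -/
theorem result {X S : Scheme.{u}} (f : X ⟶ S) [Flat f]
    [LocallyOfFinitePresentation f] (hcm : ∀ x : X, MoreMor.IsCMAt f x) :
    IsLocallyConstant (fun x : ↑X => FlatMor.fibreDimAt f x) := by
  refine IsLocallyConstant.iff_exists_open _ |>.2 fun x => ?_
  obtain ⟨n, U, hxU, g, hg, hqf, hfl⟩ := (Groth.Agent.CMOpen5.isCMAt_iff f x).1 (hcm x)
  haveI : LocallyOfFinitePresentation (g ≫ (𝔸(ULift.{u} (Fin n); S) ↘ S)) := by rw [hg]; infer_instance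
  haveI : LocallyOfFinitePresentation g :=
    Groth.Agent.AlgSpPts.locallyOfFinitePresentation_of_comp g (𝔸(ULift.{u} (Fin n); S) ↘ S)
  let W : (U : Scheme.{u}).Opens := ⟨_, Groth.Agent.FlatLocus.isOpen_flat_locus g⟩
  refine ⟨(U.ι ''ᵁ W : X.Opens), (U.ι ''ᵁ W).2, ⟨⟨x, hxU⟩, hfl, rfl⟩, ?_⟩
  rintro z ⟨w, hw, rfl⟩
  exact (Groth.Agent.Approx.AffDim.fibreDimAt_eq_of_lqf_affineSpace f U g hg w.2 hw).trans
    (Groth.Agent.Approx.AffDim.fibreDimAt_eq_of_lqf_affineSpace f U g hg hxU hfl).symm

end Groth.Agent.S9374
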