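import Groth.Statements.S9377
import Groth.Agent.QCoh.AnnIdeal
set_option autoImplicit false
universe u
open QCohSub

namespace Groth.Agent.S9377

open AlgebraicGeometry CategoryTheory Opposite in
/-- A finite type quasi-coherent O_X-module F has a scheme-theoretic support: a closed subscheme Z
(ideal sheaf J), cut out on each affine open U by the annihilator of F(U), such that F ≅ i_* i^* F
via the unit, any other closed subscheme for which this unit is an isomorphism contains Z (i.e. its
ideal sheaf lies below J), and Z has the same underlying set as Supp(F). (The published statement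
also says that the O_Z-module G with i_*G ≅ F is unique up to unique isomorphism and of finite type;
those clauses are not stated here.) -/
theorem result (X : Scheme.{u}) (F : X.Modules) (hq : Coh.IsQCoh F) (hft : CohB1.IsFT F) :
    ∃ J : X.IdealSheafData,
      (∀ U : X.affineOpens, J.ideal U = Module.annihilator Γ(X, U.1) Γ(F, U.1)) ∧
        IsIso ((Scheme.Modules.pullbackPushforwardAdjunction J.subschemeι).unit.app F) ∧
          (∀ J' : X.IdealSheafData, IsIso ((Scheme.Modules.pullbackPushforwardAdjunction J'.subschemeι).unit.app F) → J' ≤ J) ∧
            (J.support : Set ↑X) = CohB1.support F := by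
  refine ⟨Groth.Agent.QCoh.annIdeal hq hft, fun U => rfl, ?_, fun J' hJ' U a ha => ?_, rfl⟩
  · refine (Groth.Agent.QCoh.isIso_unit_closed_iff _ hq).2 fun U a ha s => ?_
    rw [Scheme.IdealSheafData.ker_subschemeι] at ha
    exact Module.mem_annihilator.1 ha s
  · refine Module.mem_annihilator.2 fun s => (Groth.Agent.QCoh.isIso_unit_closed_iff _ hq).1 hJ' U a ?_ s
    rw [Scheme.IdealSheafData.ker_subschemeι]
    exact ha

end Groth.Agent.S9377
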