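import Groth.Statements.S9378
import Groth.Agent.QCoh.RpushStalk
import Groth.Agent.QCoh.AnnIdeal
import Groth.Agent.ModPairLib.Basic
import Groth.Agent.QCoh.PullbackBC

set_option autoImplicit false
universe u
open QCohSub

namespace Groth.Agent.S9378
set_option backward.isDefEq.respectTransparency false
set_option backward.isDefEq.respectTransparency.types false
open Groth.Agent
open CategoryTheory AlgebraicGeometry
open scoped TensorProduct

theorem exists_affine_mem' {X : Scheme.{u}} (x : X) : ∃ U : X.affineOpens, x ∈ U.1 := by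
  obtain ⟨_, ⟨V, hV, rfl⟩, hx, -⟩ := X.isBasis_affineOpens.exists_subset_of_mem_open (Set.mem_univ x) isOpen_univ
  exact ⟨⟨V, hV⟩, hx⟩

theorem exists_affine_le' {X : Scheme.{u}} {O : X.Opens} {x : X} (h : x ∈ O) :
    ∃ U : X.affineOpens, x ∈ U.1 ∧ U.1 ≤ O := by
  obtain ⟨_, ⟨V, hV, rfl⟩, hx, hle⟩ := X.isBasis_affineOpens.exists_subset_of_mem_open h O.2
  exact ⟨⟨V, hV⟩, hx, hle⟩

theorem map_annihilator {A B : Type u} [CommRing A] [CommRing B] [Algebra A B] [Module.Flat A B] {M N : Type u}
    [AddCommGroup M] [Module A M] [Module.Finite A M] [AddCommGroup N] [Module A N] [Module B N]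
    [IsScalarTower A B N] {l : M →ₗ[A] N} (h : IsBaseChange B l) :
    (Module.annihilator A M).map (algebraMap A B) = Module.annihilator B N := by
  refine le_antisymm (Ideal.map_le_iff_le_comap.2 fun a ha => ?_) fun b hb => ?_
  · rw [Ideal.mem_comap, Module.mem_annihilator]
    intro z
    induction z using h.inductionOn with
    | zero => exact smul_zero _
    | tmul m => rw [algebraMap_smul, ← map_smul, Module.mem_annihilator.1 ha, map_zero]
    | smul s z hz => rw [smul_comm, hz, smul_zero]
    | add x y hx hy => rw [smul_add, hx, hy, add_zero]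
  · obtain ⟨n, v, hv⟩ := Module.Finite.exists_fin (R := A) (M := M)
    let φ : A →ₗ[A] (Fin n → M) := LinearMap.pi fun i => LinearMap.toSpanSingleton A M (v i)
    have hex : Function.Exact (Submodule.subtype (Module.annihilator A M)) φ := fun a => by
      refine ⟨fun ha => ⟨⟨a, ?_⟩, rfl⟩, ?_⟩
      · rw [Module.mem_annihilator]
        intro m
        have hm : m ∈ Submodule.span A (Set.range v) := hv ▸ Submodule.mem_top
        induction hm using Submodule.span_induction with
        | mem _ hx =>
          obtain ⟨i, rfl⟩ := hx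
          exact congrFun ha i
        | zero => exact smul_zero _
        | add _ _ _ _ hx hy => rw [smul_add, hx, hy, add_zero]
        | smul r _ _ hx => rw [smul_comm, hx, smul_zero]
      · rintro ⟨c, rfl⟩
        funext i
        exact Module.mem_annihilator.1 c.2 _
    have h0 : φ.lTensor B (b ⊗ₜ[A] (1 : A)) = 0 := by
      refine (TensorProduct.piRight A A B fun _ : Fin n => M).injective ?_
      rw [map_zero]
      funext i
      rw [LinearMap.lTensor_tmul, TensorProduct.piRight_apply, TensorProduct.piRightHom_tmul]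
      refine h.equiv.injective ?_
      rw [IsBaseChange.equiv_tmul, Pi.zero_apply, map_zero]
      exact Module.mem_annihilator.1 hb _
    obtain ⟨z, hz⟩ := (Module.Flat.lTensor_exact B hex _).1 h0
    have hr := congrArg (TensorProduct.rid A B) hz
    rw [TensorProduct.rid_tmul, one_smul] at hr
    rw [← hr]
    clear hz hr h0
    induction z using TensorProduct.induction_on with
    | zero => simp
    | tmul x m =>
      rw [LinearMap.lTensor_tmul, TensorProduct.rid_tmul, Algebra.smul_def]
      exact Ideal.mul_mem_right _ _ (Ideal.mem_map_of_mem _ m.2)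
    | add x y hx hy => rw [map_add, map_add]; exact Ideal.add_mem _ hx hy


open AlgebraicGeometry CategoryTheory Opposite in
/-- Let f : Y → X be flat and F a quasi-coherent O_X-module of finite type, where the ideal sheaf J
(given by annihilators on affine opens) defines the scheme-theoretic support of F. Then the inverse
image ideal sheaf of J along f cuts out the scheme-theoretic support of f^*F. -/
theorem result {Y X : Scheme.{u}} (f : Y ⟶ X) [Flat f] (F : X.Modules)
    (hq : Coh.IsQCoh F) (hft : CohB1.IsFT F) (J : X.IdealSheafData)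
    (hJ : ∀ U : X.affineOpens, J.ideal U = Module.annihilator Γ(X, U.1) Γ(F, U.1)) :
    ∀ V : Y.affineOpens, (J.comap f).ideal V =
      Module.annihilator Γ(Y, V.1) Γ((Scheme.Modules.pullback f).obj F, V.1) := by
  haveI := hq
  have hN : Coh.IsQCoh ((Scheme.Modules.pullback f).obj F) := QCoh.isQCoh_pullback f hq
  have hNft : CohB1.IsFT ((Scheme.Modules.pullback f).obj F) := QCoh.isFT_pullback f hq hft
  suffices H : J.comap f = QCoh.annIdeal hN hNft from fun V => congrArg (fun I => I.ideal V) H
  choose U hxU using fun y : Y => exists_affine_mem' (f y)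
  choose W hyW hWU using fun y : Y => exists_affine_le' (show y ∈ f ⁻¹ᵁ (U y).1 from hxU y)
  refine Scheme.IdealSheafData.ext_of_iSup_eq_top (fun y => W y)
    (eq_top_iff.2 fun y _ => TopologicalSpace.Opens.mem_iSup.2 ⟨y, hyW y⟩) fun y => ?_
  show (J.comap f).ideal (W y) = Module.annihilator Γ(Y, (W y).1) _
  rw [ModPairLib.ideal_comap J f (U y) (W y) (hWU y), hJ]
  let N := (Scheme.Modules.pullback f).obj F
  letI : Algebra Γ(X, (U y).1) Γ(Y, (W y).1) := (f.appLE _ _ (hWU y)).hom.toAlgebra
  letI : Module Γ(X, (U y).1) Γ(N, (W y).1) := Module.compHom _ (f.appLE _ _ (hWU y)).hom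
  haveI : IsScalarTower Γ(X, (U y).1) Γ(Y, (W y).1) Γ(N, (W y).1) :=
    ⟨fun a b c => mul_smul ((f.appLE _ _ (hWU y)).hom a) b c⟩
  haveI : Module.Flat Γ(X, (U y).1) Γ(Y, (W y).1) := f.flat_appLE (U y).2 (W y).2 (hWU y)
  haveI := QCoh.finite_of_isFT hq hft (U y).2
  let l : Γ(F, (U y).1) →ₗ[Γ(X, (U y).1)] Γ(N, (W y).1) :=
    { toFun := QCoh.pullSec f F (hWU y)
      map_add' := QCoh.pullSec_add f F (hWU y)
      map_smul' := QCoh.pullSec_smul f F (hWU y) }
  exact map_annihilator (QCoh.isBaseChange_pullback (U y).2 f (W y).2 hq (hWU y) (fun r => rfl) l fun x => rfl)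

end Groth.Agent.S9378
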