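import Groth.Statements.S9379
import Mathlib
import Groth.Agent.Synt29.FibreCI

set_option backward.isDefEq.respectTransparency.types false

set_option autoImplicit false
universe u
open Synt

namespace Groth.Agent.S9379

open AlgebraicGeometry CategoryTheory in
/-- For f : X → S locally of finite type, the set of points x at which the local ring of the fibre X_{f
x} is a complete intersection over κ(f x) is compatible with arbitrary base change: in a cartesian
square with base change f' : X' → S', g' : X' → X, the corresponding set for f' is the inverse image
of the one for f. (The published statement adds that, for f flat and locally of finite presentation,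
the set of points at which f is syntomic is compatible with base change in the same way; this row
states only the first assertion.) -/
theorem result {X S X' S' : Scheme.{u}} (f : X ⟶ S) [LocallyOfFiniteType f] (g : S' ⟶ S)
    (g' : X' ⟶ X) (f' : X' ⟶ S') (hsq : IsPullback g' f' f g) :
    {x' : ↑X' |
        letI := ((Scheme.ΓSpecIso (S'.residueField (f'.base x'))).inv ≫
            (f'.fiberToSpecResidueField (f'.base x')).appLE ⊤ ⊤ le_top ≫
              (f'.fiber (f'.base x')).presheaf.germ ⊤ (f'.asFiber x') trivial).hom.toAlgebra
        Synt.IsCIOver (S'.residueField (f'.base x')) ((f'.fiber (f'.base x')).presheaf.stalk (f'.asFiber x'))} =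
      g'.base ⁻¹' {x : ↑X |
        letI := ((Scheme.ΓSpecIso (S.residueField (f.base x))).inv ≫
            (f.fiberToSpecResidueField (f.base x)).appLE ⊤ ⊤ le_top ≫
              (f.fiber (f.base x)).presheaf.germ ⊤ (f.asFiber x) trivial).hom.toAlgebra
        Synt.IsCIOver (S.residueField (f.base x)) ((f.fiber (f.base x)).presheaf.stalk (f.asFiber x))} := by
  ext x'
  exact Synt29.isCIOver_fiber_iff f g g' f' hsq x'

end Groth.Agent.S9379
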