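import Groth.Statements.S9380
import Groth.Agent.RelSpecX.AffHom
import Groth.Agent.RelSpecX.Gamma
import Mathlib.AlgebraicGeometry.QuasiAffine

set_option backward.isDefEq.respectTransparency false
set_option backward.isDefEq.respectTransparency.types false
set_option linter.style.haveILetI false

set_option autoImplicit false
universe u
open QAff

namespace Groth.Agent.S9380

open AlgebraicGeometry CategoryTheory in
/-- A quasi-compact quasi-separated morphism f : X → S is quasi-affine if and only if the canonical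
S-morphism X → Spec_S(f_*O_X) (the one inducing the comparison map on direct-image algebras) exists
as a quasi-compact open immersion. -/
theorem result {X S : Scheme.{u}} (f : X ⟶ S) [QuasiCompact f] [QuasiSeparated f] :
    MoreMor.IsQuasiAffineHom f ↔
      ∃ (c : X ⟶ (RelSpec.QCAlg.directImage f).spec) (e : c ≫ (RelSpec.QCAlg.directImage f).π = f),
        (RelSpec.QCAlg.directImage f).gammaMap = AffAlg.algHom (RelSpec.QCAlg.directImage f).π f c e ∧
          QuasiCompact c ∧ IsOpenImmersion c := by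
  set A := RelSpec.QCAlg.directImage f with hA
  constructor
  · rintro ⟨-, hq⟩
    let ω : AffAlg.algHoms A.π f := ⟨A.gammaMap, A.π_c_gammaMap⟩
    let c := Groth.Agent.RelSpecX.ofAlgHom A.π f ω
    have hc : c ≫ A.π = f := Groth.Agent.RelSpecX.ofAlgHom_comp A.π f ω
    have hqc : QuasiCompact c := by
      haveI : QuasiCompact (c ≫ A.π) := by rw [hc]; infer_instance
      exact QuasiCompact.of_comp c A.π
    refine ⟨c, hc, (Groth.Agent.RelSpecX.algHom_ofAlgHom A.π f ω).symm, hqc, ?_⟩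
    refine IsZariskiLocalAtTarget.of_iSup_eq_top (P := @IsOpenImmersion)
      (fun U : S.affineOpens => A.π ⁻¹ᵁ U.1) ?_ fun U => ?_
    · rw [← Scheme.Hom.preimage_iSup, iSup_affineOpens_eq_top S, Scheme.Hom.preimage_top]
    haveI : (f ⁻¹ᵁ U.1).toScheme.IsQuasiAffine := hq U.1 U.2
    haveI : IsOpenImmersion (f ⁻¹ᵁ U.1).toSpecΓ := by
      rw [Scheme.Opens.toSpecΓ]
      infer_instance
    haveI : IsIso (ω.1.app (Opposite.op U.1)) := by
      show IsIso (A.gammaMap.app (Opposite.op U.1))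
      rw [A.gammaMap_app U.1 U.2]
      exact Groth.Agent.RelSpecX.isIso_gammaAff A U.1 U.2
    haveI := (U.2.preimage A.π).isOpenImmersion_fromSpec
    have key : ∀ W : X.Opens, W = f ⁻¹ᵁ U.1 → IsOpenImmersion (W.ι ≫ c) := by
      rintro W rfl
      rw [Groth.Agent.RelSpecX.ι_ofAlgHom]
      infer_instance
    haveI := key (c ⁻¹ᵁ A.π ⁻¹ᵁ U.1) (by rw [← Scheme.Hom.comp_preimage, hc])
    haveI : IsOpenImmersion (c ∣_ (A.π ⁻¹ᵁ U.1) ≫ (A.π ⁻¹ᵁ U.1).ι) := by
      rw [morphismRestrict_ι]; infer_instance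
    exact IsOpenImmersion.of_comp (c ∣_ (A.π ⁻¹ᵁ U.1)) (A.π ⁻¹ᵁ U.1).ι
  · rintro ⟨c, e, -, -, hc⟩
    refine ⟨inferInstance, fun V hV => ?_⟩
    haveI : IsAffine (A.π ⁻¹ᵁ V : Scheme.{u}) := hV.preimage A.π
    haveI : CompactSpace (f ⁻¹ᵁ V : Scheme.{u}) :=
      isCompact_iff_compactSpace.mp (f.isCompact_preimage hV.isCompact)
    have hle : c ⁻¹ᵁ A.π ⁻¹ᵁ V = f ⁻¹ᵁ V := by rw [← Scheme.Hom.comp_preimage, e]
    exact Scheme.IsQuasiAffine.of_isImmersion ((X.isoOfEq hle.symm).hom ≫ c ∣_ (A.π ⁻¹ᵁ V))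

end Groth.Agent.S9380
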