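import Groth.Statements.S9385
import Mathlib
import Groth.Agent.Triage.SchDense
import Groth.Agent.H23.RedSub

set_option autoImplicit false
universe u
open SchDense

namespace Groth.Agent.S9385

open AlgebraicGeometry CategoryTheory in
/-- Let h : Z → X be an immersion, and suppose that either Z is reduced or h is quasi-compact. Write Z̄
⊆ X for the scheme-theoretic image of h. Then Z → Z̄ is an open immersion identifying Z with a
scheme-theoretically dense (in the for-every-open sense) and topologically dense open subscheme of
Z̄. -/
theorem result {Z X : Scheme.{u}} (h : Z ⟶ X) [IsImmersion h]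
    (hyp : QuasiCompact h ∨ IsReduced Z) :
    ∃ hI : IsOpenImmersion h.toImage,
      (∀ W : h.image.Opens, IsSchemeTheoreticallyDominant
          (h.image.homOfLE (inf_le_right : @Scheme.Hom.opensRange _ _ h.toImage hI ⊓ W ≤ W))) ∧
        DenseRange h.toImage.base := by
  rcases hyp with hq | hr
  · haveI := hq
    refine ⟨inferInstance, fun W => ?_, h.toImage.denseRange⟩
    haveI hdom := Groth.Agent.Triage.SchDense.isSchemeTheoreticallyDominant_toImage h
    haveI : IsSchemeTheoreticallyDominant h.toImage.opensRange.ι := by
      refine ⟨?_⟩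
      rw [← Scheme.Hom.ker_comp_of_isIso h.toImage.isoOpensRange.hom h.toImage.opensRange.ι,
        Scheme.Hom.isoOpensRange_hom_ι]
      exact hdom.ker_eq_bot
    haveI : QuasiCompact h.toImage.opensRange.ι := by
      have e : h.toImage.isoOpensRange.inv ≫ h.toImage = h.toImage.opensRange.ι := by
        rw [Iso.inv_comp_eq, Scheme.Hom.isoOpensRange_hom_ι]
      rw [← e]; infer_instance
    exact IsSchemeTheoreticallyDominant.of_isPullback (isPullback_opens_inf h.toImage.opensRange W)
  · have hker : h.ker =
        Scheme.IdealSheafData.vanishingIdeal ⟨closure (Set.range h), isClosed_closure⟩ :=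
      le_antisymm (Scheme.IdealSheafData.le_support_iff_le_vanishingIdeal.1
          (closure_minimal h.range_subset_ker_support h.ker.support.isClosed))
        (Groth.Agent.Triage.SchDense.vanishingIdeal_le_ker h)
    haveI : IsReduced h.image := by
      show IsReduced h.ker.subscheme
      rw [hker]
      exact Groth.Agent.H23.RedSub.isReduced_vanishingIdeal _
    have hdr : DenseRange h.toImage := by
      rw [denseRange_iff_closure_range, h.imageι.isEmbedding.closure_eq_preimage_closure_image,
        ← Set.univ_subset_iff, ← Set.image_subset_iff, Set.image_univ,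
        Scheme.IdealSheafData.range_subschemeι, ← Set.range_comp, ← TopCat.coe_comp,
        ← Scheme.Hom.comp_base, h.toImage_imageι]
      rw [hker, Scheme.IdealSheafData.coe_support_vanishingIdeal]
      exact le_rfl
    have hop : IsOpen (Set.range h.toImage) := by
      obtain ⟨A, B, hA, hB, hAB⟩ := h.toImage.isLocallyClosed_range
      have hB' : B = Set.univ := by
        rw [← Set.univ_subset_iff, ← hdr.closure_eq]
        exact closure_minimal (hAB ▸ Set.inter_subset_right) hB
      rw [hAB, hB', Set.inter_univ]
      exact hA
    have hI : IsOpenImmersion h.toImage := by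
      let V : h.image.Opens := ⟨_, hop⟩
      let g := IsOpenImmersion.lift V.ι h.toImage (by rw [Scheme.Opens.range_ι]; rfl)
      have hg : g ≫ V.ι = h.toImage := IsOpenImmersion.lift_fac _ _ _
      haveI : IsPreimmersion (g ≫ V.ι) := hg ▸ inferInstance
      haveI : IsPreimmersion g := IsPreimmersion.of_comp g V.ι
      have hgs : Set.range g = Set.univ := by
        refine Set.eq_univ_of_forall fun v => ?_
        obtain ⟨z, hz⟩ := v.2
        exact ⟨z, Subtype.ext (((congrArg (fun φ : Z ⟶ h.image => φ z) hg :)).trans hz)⟩
      haveI : IsClosedImmersion g := .of_isPreimmersion g (by rw [hgs]; exact isClosed_univ)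
      haveI : Surjective g := ⟨Set.range_eq_univ.mp hgs⟩
      haveI : IsReduced (V : Scheme.{u}) := isReduced_of_isOpenImmersion V.ι
      haveI := isIso_of_isClosedImmersion_of_surjective g
      rw [← hg]; infer_instance
    refine ⟨hI, fun W => ?_, hdr⟩
    haveI : IsReduced (W : Scheme.{u}) := isReduced_of_isOpenImmersion W.ι
    have hr : Set.range (h.image.homOfLE (inf_le_right : h.toImage.opensRange ⊓ W ≤ W)) =
        W.ι ⁻¹' (Set.range h.toImage) := by
      ext w
      refine ⟨?_, fun hw => ⟨⟨w.1, hw, w.2⟩, Subtype.ext ?_⟩⟩
      · rintro ⟨z, rfl⟩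
        show W.ι (h.image.homOfLE (inf_le_right : h.toImage.opensRange ⊓ W ≤ W) z) ∈ h.toImage.opensRange
        rw [← Scheme.Hom.comp_apply, Scheme.homOfLE_ι]
        exact z.2.1
      · exact (congrArg (fun φ : ((h.toImage.opensRange ⊓ W : h.image.Opens) : Scheme.{u}) ⟶ h.image =>
          φ ⟨w.1, hw, w.2⟩) (h.image.homOfLE_ι (inf_le_right : h.toImage.opensRange ⊓ W ≤ W)) :)
    haveI : IsDominant (h.image.homOfLE (inf_le_right : h.toImage.opensRange ⊓ W ≤ W)) :=
      ⟨by rw [DenseRange, hr]; exact hdr.preimage W.ι.isOpenEmbedding.isOpenMap⟩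
    exact .of_isDominant _

end Groth.Agent.S9385
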