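import Groth.Statements.S9387
import Groth.Agent.Synt29.OmegaAffine
import Groth.Agent.QCoh.LocFree
import Groth.Agent.MorLib.FormallyEtaleHom
import Mathlib

set_option autoImplicit false
universe u
open OmegaSh

namespace Groth.Agent.S9387

open AlgebraicGeometry CategoryTheory in
/-- If f : X → S is locally of finite type then Ω_{X/S} is an O_X-module of finite type (for any
receptacle Ω of a universal S-derivation). -/
theorem result {X S : Scheme.{u}} (f : X ⟶ S) [LocallyOfFiniteType f]
    (Ω : X.Modules) (d : OmegaSh.Der f Ω) (hd : OmegaSh.IsUniversal d) : CohB1.IsFT Ω := by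
  
  choose U hU V hV hxU e using Groth.Agent.Synt29.OmegaStalk.exists_charts f
  refine Groth.Agent.QCoh.isFT_of_finite (Groth.Agent.Synt29.OmegaStalk.isQCoh_of_isUniversal hd) U
    (eq_top_iff.mpr fun x _ => TopologicalSpace.Opens.mem_iSup.mpr ⟨x, hxU x⟩) hU fun x => ?_
  let _ := (f.appLE (V x) (U x) (e x)).hom.toAlgebra
  have : Algebra.FiniteType Γ(S, V x) Γ(X, U x) := f.finiteType_appLE (hV x) (hU x) (e x)
  obtain ⟨l⟩ := Groth.Agent.Synt29.OmegaStalk.exists_linearEquiv_sections hd (hU x) (hV x) (e x)
  exact Module.Finite.equiv l.symm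

end Groth.Agent.S9387
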