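import Groth.Statements.S9388
import Groth.Agent.Synt29.OmegaAffine
import Groth.Agent.QCoh.LocFree
import Groth.Agent.MorLib.FormallyEtaleHom
import Mathlib

set_option autoImplicit false
universe u
open OmegaSh

namespace Groth.Agent.S9388

open AlgebraicGeometry CategoryTheory in
/-- For f : X → S locally of finite presentation, every receptacle Ω of a universal S-derivation of O_X
is a finitely presented O_X-module. -/
theorem result {X S : Scheme.{u}} (f : X ⟶ S) [LocallyOfFinitePresentation f]
    (Ω : X.Modules) (d : OmegaSh.Der f Ω) (hd : OmegaSh.IsUniversal d) : CohB1.IsFP Ω := by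
  
  choose U hU V hV hxU e using Groth.Agent.Synt29.OmegaStalk.exists_charts f
  refine Groth.Agent.QCoh.isFP_of_finitePresentation
    (Groth.Agent.Synt29.OmegaStalk.isQCoh_of_isUniversal hd) U
    (eq_top_iff.mpr fun x _ => TopologicalSpace.Opens.mem_iSup.mpr ⟨x, hxU x⟩) hU fun x => ?_
  let _ := (f.appLE (V x) (U x) (e x)).hom.toAlgebra
  have : Algebra.FinitePresentation Γ(S, V x) Γ(X, U x) :=
    f.finitePresentation_appLE (hV x) (hU x) (e x)
  obtain ⟨l⟩ := Groth.Agent.Synt29.OmegaStalk.exists_linearEquiv_sections hd (hU x) (hV x) (e x)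
  exact Module.FinitePresentation.of_equiv l.symm

end Groth.Agent.S9388
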