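import Groth.Statements.S9390
import Groth.Agent.QCoh.Support

set_option autoImplicit false
universe u
open QCohSub

namespace Groth.Agent.S9390

open AlgebraicGeometry CategoryTheory in
/-- For a quasi-coherent O_X-module F, an affine open U = Spec A of X, M = F(U) and x ∈ U with prime p ⊆
A, the prime p is in Supp(M) if and only if x is in Supp(F). -/
theorem result (X : Scheme.{u}) (F : X.Modules) (hF : Coh.IsQCoh F)
    (U : X.affineOpens) (x : X) (hx : x ∈ U.1) :
    U.2.primeIdealOf ⟨x, hx⟩ ∈ Module.support Γ(X, U.1) Γ(F, U.1) ↔ x ∈ CohB1.support F := by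
  exact Groth.Agent.QCoh.mem_moduleSupport_iff hF U.2 hx

end Groth.Agent.S9390
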