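import Groth.Statements.S9394
import Groth.Agent.N12Aux.Basic

set_option autoImplicit false
universe u
open CAlg

namespace Groth.Agent.S9394

/-- Being N-2 (Japanese) can be checked on a finite cover of Spec R by principal opens whose rings are
N-2 domains. -/
theorem result (R : Type u) [CommRing R] [IsDomain R]
    {ι : Type u} [Finite ι] (f : ι → R) (hf : Ideal.span (Set.range f) = ⊤)
    (Rf : ι → Type u) [∀ i, CommRing (Rf i)] [∀ i, IsDomain (Rf i)] [∀ i, Algebra R (Rf i)]
    [∀ i, IsLocalization.Away (f i) (Rf i)] (h : ∀ i, CAlg.IsN2 (Rf i)) : CAlg.IsN2 R := by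
  exact Groth.Agent.N12Aux.isN2_of_cover f hf Rf h


end Groth.Agent.S9394
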