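import Groth.Statements.S9395
import Groth.Agent.N12Aux.Basic

set_option autoImplicit false
universe u
open CAlg

namespace Groth.Agent.S9395

/-- For a Noetherian domain R, if the Laurent polynomial ring R[X, 1/X] (the localization of R[X] away
from X) is N-1, then R is N-1. -/
theorem result (R : Type u) [CommRing R] [IsDomain R] [IsNoetherianRing R]
    (S : Type u) [CommRing S] [IsDomain S] [Algebra (Polynomial R) S]
    [IsLocalization.Away (Polynomial.X : Polynomial R) S] (h : CAlg.IsN1 S) : CAlg.IsN1 R := by
  classical
  letI : Algebra R S := ((algebraMap (Polynomial R) S).comp Polynomial.C).toAlgebra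
  haveI : IsScalarTower R (Polynomial R) S := IsScalarTower.of_algebraMap_eq fun _ => rfl
  haveI : IsNoetherianRing S := IsLocalization.isNoetherianRing
    (Submonoid.powers (Polynomial.X : Polynomial R)) S inferInstance
  let L := FractionRing S
  let K := FractionRing R
  let g : Polynomial R →+* L := (algebraMap S L).comp (algebraMap (Polynomial R) S)
  have hg : Function.Injective g := (IsFractionRing.injective S L).comp
    (IsLocalization.injective S (powers_le_nonZeroDivisors_of_noZeroDivisors Polynomial.X_ne_zero))
  let φ : K →+* L := IsFractionRing.lift (A := R) (g := g.comp Polynomial.C) (hg.comp Polynomial.C_injective)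
  have hφ : ∀ r : R, φ (algebraMap R K r) = algebraMap R L r := fun r => by
    rw [IsScalarTower.algebraMap_apply R S L]
    exact IsFractionRing.lift_algebraMap _ r
  let ψ : Polynomial K →+* L := Polynomial.eval₂RingHom φ (g Polynomial.X)
  have hψmap : ∀ q : Polynomial R, ψ (q.map (algebraMap R K)) = g q := by
    intro q
    have : ψ.comp (Polynomial.mapRingHom (algebraMap R K)) = g := by
      refine Polynomial.ringHom_ext (fun r => ?_) ?_
      · simp [ψ, g, hφ, IsScalarTower.algebraMap_apply R S L, RingHom.algebraMap_toAlgebra]
      · simp [ψ]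
    exact RingHom.congr_fun this q
  have hψ : Function.Injective ψ := by
    rw [injective_iff_map_eq_zero]
    intro q hq
    obtain ⟨b, hbm, hb⟩ := IsLocalization.integerNormalization_spec (nonZeroDivisors R) q
    have hb' : (IsLocalization.integerNormalization (nonZeroDivisors R) q).map (algebraMap R K) =
        Polynomial.C (algebraMap R K b) * q := by
      rw [hb, ← Polynomial.smul_eq_C_mul, algebraMap_smul]
    have h1 : g (IsLocalization.integerNormalization (nonZeroDivisors R) q) = 0 := by
      rw [← hψmap, hb', map_mul, hq, mul_zero]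
    rw [hg (h1.trans (map_zero g).symm), Polynomial.map_zero] at hb'
    refine (mul_eq_zero.1 hb'.symm).resolve_left ?_
    rw [Polynomial.C_eq_zero]
    exact (map_ne_zero_iff _ (IsFractionRing.injective R K)).2 (nonZeroDivisors.ne_zero hbm)
  haveI : Module.Finite S (integralClosure S L) := h
  haveI : IsNoetherian S (integralClosure S L) := isNoetherian_of_isNoetherianRing_of_finite S _
  let C := integralClosure R K
  let φa : K →ₐ[R] L := { φ with commutes' := hφ }
  let j : C → integralClosure S L := fun c => ⟨φ c, (c.2.map φa).tower_top⟩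
  obtain ⟨T, hTsub, hT⟩ := (Submodule.fg_span_iff_fg_span_finset_subset (R := S) (Set.range j)).1
    (IsNoetherian.noetherian _)
  have hc : ∀ w : T, ∃ c : C, j c = w := fun w => hTsub w.2
  choose c hc using hc
  refine ⟨⟨Finset.univ.image c, top_le_iff.1 fun z _ => ?_⟩⟩
  have hz : j z ∈ Submodule.span S (T : Set (integralClosure S L)) := by
    rw [← hT]; exact Submodule.subset_span ⟨z, rfl⟩
  rw [Submodule.mem_span_finset'] at hz
  obtain ⟨s, hs⟩ := hz
  obtain ⟨⟨_, m, rfl⟩, hm⟩ := IsLocalization.exist_integer_multiples_of_finite
    (Submonoid.powers (Polynomial.X : Polynomial R)) s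
  choose p hp using hm
  have hp' : ∀ w, g (p w) = g Polynomial.X ^ m * algebraMap S L (s w) := fun w => by
    show algebraMap S L (algebraMap _ S (p w)) = _
    rw [hp w, Algebra.smul_def, map_mul, map_pow, map_pow]
    rfl
  have key : Polynomial.C (z : K) * Polynomial.X ^ m =
      ∑ w : T, (p w).map (algebraMap R K) * Polynomial.C (c w : K) := by
    apply hψ
    rw [map_mul, map_pow, map_sum]
    have h5 : ψ (Polynomial.C (z : K)) = ∑ w : T, algebraMap S L (s w) * φ (c w : K) := by
      have h6 := congrArg (fun u : integralClosure S L => (u : L)) hs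
      simp only [AddSubmonoidClass.coe_finsetSum, SetLike.val_smul, Algebra.smul_def] at h6
      rw [show ψ (Polynomial.C (z : K)) = φ (z : K) from Polynomial.eval₂_C _ _]
      refine h6.symm.trans (Finset.sum_congr rfl fun w _ => ?_)
      rw [← hc w]
      rfl
    rw [h5, show ψ Polynomial.X = g Polynomial.X from Polynomial.eval₂_X _ _, Finset.sum_mul]
    refine Finset.sum_congr rfl fun w _ => ?_
    rw [map_mul, hψmap, hp', show ψ (Polynomial.C (c w : K)) = φ (c w : K) from Polynomial.eval₂_C _ _]
    ring
  have hzc : z = ∑ w : T, (p w).coeff m • c w := by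
    apply Subtype.ext
    have h7 := congrArg (fun q : Polynomial K => q.coeff m) key
    simp only [Polynomial.coeff_C_mul, Polynomial.coeff_X_pow, if_pos, mul_one,
      Polynomial.finsetSum_coeff, Polynomial.coeff_mul_C, Polynomial.coeff_map] at h7
    simp only [AddSubmonoidClass.coe_finsetSum, SetLike.val_smul, Algebra.smul_def]
    exact h7
  rw [hzc]
  exact Submodule.sum_mem _ fun w _ => Submodule.smul_mem _ _
    (Submodule.subset_span (Finset.mem_image_of_mem c (Finset.mem_univ w)))


end Groth.Agent.S9395
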