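import Groth.Statements.S9396
import Groth.Agent.CompleteNagata.Complete
import Groth.Agent.S6299

set_option autoImplicit false
universe u
open CAlg

namespace Groth.Agent.S9396
theorem isN2_of_birational {P S : Type u} [CommRing P] [IsDomain P] [IsNoetherianRing P] [CommRing S]
    [IsDomain S] (φ : P →+* S) (hφ : Function.Injective φ) (c : P) (hc : c ≠ 0)
    (hmul : ∀ s : S, ∃ g : P, φ g = φ c * s) (hS : CAlg.IsN2 S) : CAlg.IsN2 P := by
  intro L _ _ _ _ hfin
  letI : Algebra P S := φ.toAlgebra
  let K := FractionRing P
  let F := FractionRing S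
  have hinj : Function.Injective ((algebraMap S F).comp φ) :=
    (IsFractionRing.injective S F).comp hφ
  let f : K →+* F := IsFractionRing.lift hinj
  have hf : ∀ g : P, f (algebraMap P K g) = algebraMap S F (φ g) := fun g =>
    IsFractionRing.lift_algebraMap hinj g
  have hc' : φ c ≠ 0 := (map_ne_zero_iff _ hφ).mpr hc
  have hfS : ∀ s : S, ∃ k : K, f k = algebraMap S F s := fun s => by
    obtain ⟨g, hg⟩ := hmul s
    refine ⟨algebraMap P K g / algebraMap P K c, ?_⟩
    rw [map_div₀, hf, hf, hg, map_mul, mul_comm,
      mul_div_cancel_right₀ _ ((map_ne_zero_iff _ (IsFractionRing.injective S F)).mpr hc')]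
  have hsurj : Function.Surjective f := fun x => by
    obtain ⟨a, b, -, rfl⟩ := IsFractionRing.div_surjective (A := S) x
    obtain ⟨ka, hka⟩ := hfS a
    obtain ⟨kb, hkb⟩ := hfS b
    exact ⟨ka / kb, by rw [map_div₀, hka, hkb]⟩
  let e : K ≃+* F := RingEquiv.ofBijective f ⟨f.injective, hsurj⟩
  letI : Algebra F L := ((algebraMap K L).comp e.symm.toRingHom).toAlgebra
  letI : Algebra S L := ((algebraMap F L).comp (algebraMap S F)).toAlgebra
  haveI : IsScalarTower S F L := IsScalarTower.of_algebraMap_eq fun _ => rfl
  letI : Algebra K F := f.toAlgebra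
  haveI : IsScalarTower K F L := IsScalarTower.of_algebraMap_eq fun k => by
    show algebraMap K L k = algebraMap K L (e.symm (f k))
    exact congrArg _ (e.symm_apply_apply k).symm
  haveI : IsScalarTower P S L := IsScalarTower.of_algebraMap_eq fun g => by
    show algebraMap P L g = algebraMap K L (e.symm (algebraMap S F (φ g)))
    rw [← hf g]
    exact (IsScalarTower.algebraMap_apply P K L g).trans (congrArg _ (e.symm_apply_apply _).symm)
  haveI : FiniteDimensional F L := Module.Finite.of_restrictScalars_finite K F L
  haveI : Module.Finite P S := by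
    choose g hg using hmul
    exact Module.Finite.of_injective
      ({ toFun := g
         map_add' := fun a b => hφ (by rw [map_add, hg, hg, hg, mul_add])
         map_smul' := fun r s => hφ (by
          rw [RingHom.id_apply, smul_eq_mul, map_mul, hg, hg, Algebra.smul_def]
          show φ c * (φ r * s) = φ r * (φ c * s)
          ring) } : S →ₗ[P] P)
      (fun a b hab => mul_left_cancel₀ hc' (by rw [← hg, ← hg]; exact congrArg φ hab))
  haveI : Module.Finite S (integralClosure S L) := hS L ‹_›
  haveI : Module.Finite P (integralClosure S L) := Module.Finite.trans S _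
  let i : integralClosure P L →ₗ[P] integralClosure S L :=
    { toFun := fun z => ⟨z.1, z.2.tower_top⟩
      map_add' := fun _ _ => rfl
      map_smul' := fun r z => Subtype.ext (by
        show r • (z : L) = _
        rfl) }
  exact Module.Finite.of_injective i fun a b h =>
    Subtype.ext (congrArg (fun z : integralClosure S L => (z : L)) h)



/-- If R is a Noetherian N-2 (Japanese) domain, then the power series ring R[[X]] is an N-2 domain. (R
is not assumed integrally closed.) -/
theorem result (R : Type u) [CommRing R] [IsDomain R] [IsNoetherianRing R]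
    (h : CAlg.IsN2 R) : CAlg.IsN2 (PowerSeries R) := by
  classical
  let K := FractionRing R
  haveI : Module.Finite R (integralClosure R K) := h K inferInstance
  haveI : IsIntegrallyClosed (integralClosure R K) :=
    integralClosure.isIntegrallyClosedOfFiniteExtension K
  haveI : IsNoetherianRing (integralClosure R K) := IsNoetherianRing.of_finite R _
  have hinj : Function.Injective (algebraMap R (integralClosure R K)) := fun a b hab =>
    IsFractionRing.injective R K (congrArg (fun z : integralClosure R K => (z : K)) hab)
  have h' : CAlg.IsN2 (integralClosure R K) :=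
    CompleteNagata.isN2_of_finite (algebraMap R (integralClosure R K)) hinj
      (RingHom.finite_algebraMap.mpr ‹_›) h
  haveI := (S6299.result (integralClosure R K)).1
  have hker : RingHom.ker (PowerSeries.constantCoeff (R := integralClosure R K)) =
      Ideal.span {PowerSeries.X} := by
    ext f
    rw [RingHom.mem_ker, Ideal.mem_span_singleton, PowerSeries.X_dvd_iff]
  haveI : (Ideal.span {(PowerSeries.X : PowerSeries (integralClosure R K))}).IsPrime :=
    hker ▸ RingHom.ker_isPrime _
  have hS : CAlg.IsN2 (PowerSeries (integralClosure R K)) :=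
    CompleteNagata.isN2_of_tate (PowerSeries (integralClosure R K)) PowerSeries.X
      (N12Aux.isN2_of_ringEquiv ((RingHom.quotientKerEquivOfSurjective
        PowerSeries.constantCoeff_surj).symm.trans (Ideal.quotEquivOfEq hker)) h')
  obtain ⟨s, hs⟩ := Module.Finite.fg_top (R := R) (M := integralClosure R K)
  obtain ⟨c, hc⟩ := IsLocalization.exist_integer_multiples_of_finset (nonZeroDivisors R)
    (s.image fun z : integralClosure R K => (z : K))
  have hall : ∀ z : integralClosure R K, ∃ r : R,
      algebraMap R (integralClosure R K) r = (c : R) • z := by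
    intro z
    have hz : z ∈ Submodule.span R (s : Set (integralClosure R K)) := by rw [hs]; trivial
    induction hz using Submodule.span_induction with
    | mem x hx =>
      obtain ⟨r, hr⟩ := hc _ (Finset.mem_image_of_mem _ hx)
      exact ⟨r, Subtype.ext hr⟩
    | zero => exact ⟨0, by simp⟩
    | add a b _ _ ha hb =>
      obtain ⟨p, hp⟩ := ha
      obtain ⟨q, hq⟩ := hb
      exact ⟨p + q, by rw [map_add, hp, hq, smul_add]⟩
    | smul a b _ hb =>
      obtain ⟨p, hp⟩ := hb
      exact ⟨a * p, by rw [map_mul, hp, ← Algebra.smul_def, smul_comm]⟩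
  choose g hg using hall
  refine isN2_of_birational (PowerSeries.map (algebraMap R (integralClosure R K)))
    (PowerSeries.map_injective _ hinj) (PowerSeries.C (c : R)) ?_ (fun f => ⟨PowerSeries.mk fun n => g (PowerSeries.coeff n f), ?_⟩) hS
  · exact fun h0 => nonZeroDivisors.ne_zero c.2 (PowerSeries.C_injective (h0.trans (map_zero _).symm))
  · refine PowerSeries.ext fun n => ?_
    rw [PowerSeries.coeff_map, PowerSeries.coeff_mk, PowerSeries.map_C, PowerSeries.coeff_C_mul, hg,
      Algebra.smul_def]


end Groth.Agent.S9396
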