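import Groth.Statements.S9398
import Groth.Agent.N12Aux.Basic

set_option autoImplicit false
universe u
open CAlg

namespace Groth.Agent.S9398

/-- An algebra essentially of finite type over a universally Japanese ring is universally Japanese. -/
theorem result (R : Type u) [CommRing R]
    (hR : CAlg.IsUniversallyJapanese R) (T : Type u) [CommRing T] [Algebra R T]
    [Algebra.EssFiniteType R T] : CAlg.IsUniversallyJapanese T := by
  intro S _ _ _ hS
  classical
  haveI := hS
  letI : Algebra R S := ((algebraMap T S).comp (algebraMap R T)).toAlgebra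
  haveI : IsScalarTower R T S := IsScalarTower.of_algebraMap_eq fun _ => rfl
  obtain ⟨s, hs⟩ := hS.1
  let A : Subalgebra R S := Algebra.adjoin R
    (((Algebra.EssFiniteType.finset R T).image (algebraMap T S) ∪ s : Finset S) : Set S)
  haveI : Algebra.FiniteType R A := ⟨(Subalgebra.fg_top _).mpr ⟨_, rfl⟩⟩
  have hT : ∀ x ∈ Algebra.EssFiniteType.subalgebra R T, algebraMap T S x ∈ A := by
    intro x hx
    have h1 : (IsScalarTower.toAlgHom R T S) x ∈
        (Algebra.EssFiniteType.subalgebra R T).map (IsScalarTower.toAlgHom R T S) := ⟨x, hx, rfl⟩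
    rw [Algebra.EssFiniteType.subalgebra, AlgHom.map_adjoin] at h1
    refine Algebra.adjoin_mono ?_ h1
    rintro _ ⟨z, hz, rfl⟩
    exact Finset.mem_union_left _ (Finset.mem_image_of_mem _ hz)
  let M : Submonoid A := (IsUnit.submonoid S).comap A.val.toRingHom
  have key : ∀ z : S, ∃ t ∈ M, (t : S) * z ∈ A := by
    intro z
    have hz : z ∈ Algebra.adjoin T (s : Set S) := by rw [hs]; trivial
    induction hz using Algebra.adjoin_induction with
    | mem x hx =>
      exact ⟨1, M.one_mem, by
        rw [OneMemClass.coe_one, one_mul]; exact Algebra.subset_adjoin (Finset.mem_union_right _ hx)⟩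
    | algebraMap t =>
      obtain ⟨⟨x, ⟨u, hu⟩⟩, hxu⟩ := IsLocalization.surj (Algebra.EssFiniteType.submonoid R T) t
      refine ⟨⟨algebraMap T S u, hT _ u.2⟩, (show IsUnit (u : T) from hu).map (algebraMap T S), ?_⟩
      show algebraMap T S u * algebraMap T S t ∈ A
      rw [← map_mul, mul_comm]
      change algebraMap T S (t * algebraMap (Algebra.EssFiniteType.subalgebra R T) T u) ∈ A
      rw [hxu]
      exact hT _ x.2
    | add x y _ _ hx hy =>
      obtain ⟨t, ht, htx⟩ := hx
      obtain ⟨t', ht', hty⟩ := hy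
      refine ⟨t * t', M.mul_mem ht ht', ?_⟩
      have : ((t * t' : A) : S) * (x + y) = (t' : S) * ((t : S) * x) + (t : S) * ((t' : S) * y) := by
        push_cast; ring
      rw [this]
      exact A.add_mem (A.mul_mem t'.2 htx) (A.mul_mem t.2 hty)
    | mul x y _ _ hx hy =>
      obtain ⟨t, ht, htx⟩ := hx
      obtain ⟨t', ht', hty⟩ := hy
      refine ⟨t * t', M.mul_mem ht ht', ?_⟩
      have : ((t * t' : A) : S) * (x * y) = ((t : S) * x) * ((t' : S) * y) := by
        push_cast; ring
      rw [this]
      exact A.mul_mem htx hty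
  haveI : IsLocalization M S := by
    refine ⟨⟨fun m => m.2, fun z => ?_, fun {x y} hxy => ⟨1, by simpa using Subtype.ext hxy⟩⟩⟩
    obtain ⟨t, ht, htz⟩ := key z
    exact ⟨⟨⟨_, htz⟩, ⟨t, ht⟩⟩, mul_comm _ _⟩
  exact Groth.Agent.N12Aux.isN2_of_isLocalization (hR A inferInstance) M S


end Groth.Agent.S9398
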