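import Groth.Statements.S9399
import Groth.Agent.N12Aux.Basic

set_option autoImplicit false
universe u
open CAlg

namespace Groth.Agent.S9399

/-- Being universally Japanese can be checked on a finite cover of Spec R by principal opens. -/
theorem result (R : Type u) [CommRing R]
    {ι : Type u} [Finite ι] (f : ι → R) (hf : Ideal.span (Set.range f) = ⊤)
    (h : ∀ i, CAlg.IsUniversallyJapanese (Localization.Away (f i))) :
    CAlg.IsUniversallyJapanese R := by
  intro S _ _ _ hS
  haveI := hS
  refine Groth.Agent.N12Aux.isN2_of_cover_ne (fun i => algebraMap R S (f i)) ?_ ?_
  · rw [show Set.range (fun i => algebraMap R S (f i)) = algebraMap R S '' Set.range f from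
      Set.range_comp (algebraMap R S) f, ← Ideal.map_span, hf, Ideal.map_top]
  · intro i _ _
    letI : Algebra (Localization.Away (f i)) (Localization.Away (algebraMap R S (f i))) :=
      (Localization.awayMap (algebraMap R S) (f i)).toAlgebra
    haveI : IsScalarTower R (Localization.Away (f i)) (Localization.Away (algebraMap R S (f i))) :=
      IsScalarTower.of_algebraMap_eq fun r => by
        show _ = Localization.awayMap (algebraMap R S) (f i) (algebraMap R _ r)
        rw [IsScalarTower.algebraMap_apply R S (Localization.Away (algebraMap R S (f i)))]
        exact (IsLocalization.map_eq _ r).symm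
    haveI : Algebra.FiniteType R (Localization.Away (algebraMap R S (f i))) := inferInstance
    exact h i _ (Algebra.FiniteType.of_restrictScalars_finiteType R _ _)


end Groth.Agent.S9399
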