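import Groth.Statements.S9400
import Groth.Agent.N12Aux.Nagata

set_option autoImplicit false
universe u
open CAlg

namespace Groth.Agent.S9400

/-- Being a Nagata ring can be checked on a finite cover of Spec R by principal opens. -/
theorem result (R : Type u) [CommRing R]
    {ι : Type u} [Finite ι] (f : ι → R) (hf : Ideal.span (Set.range f) = ⊤)
    (h : ∀ i, CAlg.IsNagata (Localization.Away (f i))) : CAlg.IsNagata R := by
  classical
  haveI : ∀ i, IsNoetherianRing (Localization.Away (f i)) := fun i => (h i).1
  refine ⟨⟨fun I => ?_⟩, fun p hp => ?_⟩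
  · refine Ideal.fg_of_localizationSpan (Set.range f) hf ?_
    rintro ⟨_, i, rfl⟩
    exact IsNoetherian.noetherian (R := Localization.Away (f i)) _
  · refine Groth.Agent.N12Aux.isN2_of_cover_ne (fun i => Ideal.Quotient.mk p (f i)) ?_ ?_
    · rw [show Set.range (fun i => Ideal.Quotient.mk p (f i)) = Ideal.Quotient.mk p '' Set.range f from
        Set.range_comp (Ideal.Quotient.mk p) f, ← Ideal.map_span, hf, Ideal.map_top]
    · intro i _ _
      exact Groth.Agent.N12Aux.isN2_of_isNagata (Groth.Agent.N12Aux.isNagata_of_surjective
        (Localization.awayMap (Ideal.Quotient.mk p) (f i))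
        (IsLocalization.map_surjective_of_surjective (M := Submonoid.powers (f i)) _ (Q := Localization.Away (Ideal.Quotient.mk p (f i))) Ideal.Quotient.mk_surjective)
        (h i))


end Groth.Agent.S9400
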