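import Groth.Statements.S9403
import Mathlib

set_option autoImplicit false
universe u
open CAlg

namespace Groth.Agent.S9403

/-- Let R → S be a ring map with S a Noetherian local ring which is an algebra over the rationals, and f
∈ S such that some S-linear form on the module of differentials of S over R sends df to 1 (df spans
a free direct summand of rank one). Then f is a nonzerodivisor of S. (The published statement asks
only that S·df be a direct summand of the module of differentials, which also holds for the
rationals with a square-zero element adjoined, where f is a zero divisor; this row asks for an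
S-linear form on the differentials sending df to 1, as the published proof uses.) -/
theorem result (R : Type u) [CommRing R]
    (S : Type u) [CommRing S] [IsLocalRing S] [IsNoetherianRing S] [Algebra R S] [Algebra ℚ S]
    (f : S) (θ : Ω[S⁄R] →ₗ[S] S) (hθ : θ (KaehlerDifferential.D R S f) = 1) : f ∈ nonZeroDivisors S := by
  by_cases hfu : IsUnit f
  · exact hfu.mem_nonZeroDivisors
  have hfm : f ∈ IsLocalRing.maximalIdeal S := (IsLocalRing.mem_maximalIdeal _).2 hfu
  have hu : ∀ n : ℕ, n ≠ 0 → IsUnit ((n : ℕ) : S) := fun n hn => by
    rw [← map_natCast (algebraMap ℚ S)]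
    exact (isUnit_iff_ne_zero.2 (Nat.cast_ne_zero.2 hn)).map _
  have key : ∀ k g, g * f ^ k = 0 → ∃ u, g = f * u := by
    intro k
    induction k with
    | zero => intro g hg; exact ⟨0, by simpa using hg⟩
    | succ k ih =>
      intro g hg
      have h := congrArg (fun x => θ (KaehlerDifferential.D R S x)) hg
      simp only [Derivation.leibniz, Derivation.leibniz_pow, map_zero, map_add, map_nsmul, map_smul, hθ,
        Nat.add_sub_cancel, smul_eq_mul, mul_one, nsmul_eq_mul] at h
      obtain ⟨u, hu'⟩ := ih (((k + 1 : ℕ) : S) * g + f * θ (KaehlerDifferential.D R S g)) (by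
        linear_combination h)
      obtain ⟨w, hw⟩ := (hu (k + 1) (Nat.succ_ne_zero k)).exists_left_inv
      exact ⟨w * (u - θ (KaehlerDifferential.D R S g)), by linear_combination w * hu' - g * hw⟩
  let K : Ideal S :=
    { carrier := {g | ∃ k, g * f ^ k = 0}
      zero_mem' := ⟨0, zero_mul _⟩
      add_mem' := by
        rintro a b ⟨i, hi⟩ ⟨j, hj⟩
        exact ⟨i + j, by linear_combination f ^ j * hi + f ^ i * hj⟩
      smul_mem' := by
        rintro c a ⟨i, hi⟩
        exact ⟨i, by rw [smul_eq_mul, mul_assoc, hi, mul_zero]⟩ }
  have hK : K = ⊥ := by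
    refine Submodule.eq_bot_of_le_smul_of_le_jacobson_bot (Ideal.span {f}) K (IsNoetherian.noetherian K) ?_ ?_
    · intro g hg
      obtain ⟨k, hk⟩ := hg
      obtain ⟨u, rfl⟩ := key k g hk
      rw [smul_eq_mul]
      exact Ideal.mul_mem_mul (Ideal.mem_span_singleton_self f) ⟨k + 1, by linear_combination hk⟩
    · rw [IsLocalRing.jacobson_eq_maximalIdeal ⊥ bot_ne_top, Ideal.span_le, Set.singleton_subset_iff]
      exact hfm
  rw [mem_nonZeroDivisors_iff_right]
  intro g hg
  have : g ∈ K := ⟨1, by rwa [pow_one]⟩
  rwa [hK] at this


end Groth.Agent.S9403
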