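import Groth.Statements.S9404
import Groth.Agent.Hensel.TensorStrict
import Mathlib

set_option autoImplicit false
universe u
open CAlg

namespace Groth.Agent.S9404
open IsLocalRing TensorProduct in
theorem isLocalRing_of_right (R A B : Type u) [CommRing R] [IsLocalRing R] [CommRing A] [IsLocalRing A]
    [Algebra R A] [IsLocalHom (algebraMap R A)] [Algebra.IsIntegral R A] [CommRing B] [IsLocalRing B]
    [Algebra R B] [IsLocalHom (algebraMap R B)]
    [IsPurelyInseparable (ResidueField R) (ResidueField B)] : IsLocalRing (A ⊗[R] B) := by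
  let T := Hensel.tensorMax R A B
  let q := ringExpChar (ResidueField A)
  have : ExpChar (ResidueField R) q :=
    (algebraMap (ResidueField R) (ResidueField A)).expChar (RingHom.injective _) q
  have : Nontrivial ((A ⊗[R] B) ⧸ T) := Ideal.Quotient.nontrivial_iff.mpr (Hensel.tensorMax_ne_top R A B)
  let ν : ResidueField A →+* (A ⊗[R] B) ⧸ T :=
    Ideal.Quotient.lift (maximalIdeal A) ((Ideal.Quotient.mk _).comp
      (Algebra.TensorProduct.includeLeft : A →ₐ[R] A ⊗[R] B).toRingHom) fun a ha =>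
      Ideal.Quotient.eq_zero_iff_mem.mpr (Ideal.mem_sup_left (Ideal.mem_map_of_mem _ ha))
  have : ExpChar ((A ⊗[R] B) ⧸ T) q := expChar_of_injective_ringHom ν.injective q
  have hpow : ∀ x : A ⊗[R] B, ∃ (n : ℕ) (a : A), x ^ q ^ n - a ⊗ₜ[R] (1 : B) ∈ T := by
    intro x
    suffices h : ∃ (n : ℕ) (c : ResidueField A), Ideal.Quotient.mk T x ^ q ^ n = ν c by
      obtain ⟨n, c, hc⟩ := h
      obtain ⟨a, rfl⟩ := residue_surjective c
      exact ⟨n, a, Ideal.Quotient.eq.mp (by rw [map_pow]; exact hc)⟩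
    induction x with
    | zero => exact ⟨0, 0, by simp⟩
    | tmul a b =>
      obtain ⟨n, c, hc⟩ := IsPurelyInseparable.pow_mem (ResidueField R) q (residue B b)
      obtain ⟨r, rfl⟩ := residue_surjective c
      rw [ResidueField.algebraMap_residue, ← map_pow] at hc
      refine ⟨n, residue A (algebraMap R A r * a ^ q ^ n), ?_⟩
      have hm : b ^ q ^ n - algebraMap R B r ∈ maximalIdeal B := by
        rw [← residue_eq_zero_iff, map_sub, hc, sub_self]
      show _ = Ideal.Quotient.mk _ ((algebraMap R A r * a ^ q ^ n) ⊗ₜ[R] (1 : B))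
      rw [← map_pow, Ideal.Quotient.eq, Algebra.TensorProduct.tmul_pow,
        show (algebraMap R A r * a ^ q ^ n) ⊗ₜ[R] (1 : B) = (a ^ q ^ n) ⊗ₜ[R] algebraMap R B r by
          rw [← Algebra.smul_def, Algebra.algebraMap_eq_smul_one, smul_tmul],
        ← tmul_sub, show ((a ^ q ^ n) ⊗ₜ[R] (b ^ q ^ n - algebraMap R B r) : A ⊗[R] B) =
          ((a ^ q ^ n) ⊗ₜ[R] (1 : B)) * ((1 : A) ⊗ₜ[R] (b ^ q ^ n - algebraMap R B r)) by simp]
      exact Ideal.mul_mem_left _ _ (Ideal.mem_sup_right (Ideal.mem_map_of_mem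
        (Algebra.TensorProduct.includeRight : B →ₐ[R] A ⊗[R] B).toRingHom hm))
    | add u v hu hv =>
      obtain ⟨n, c, hc⟩ := hu
      obtain ⟨m, d, hd⟩ := hv
      refine ⟨n + m, c ^ q ^ m + d ^ q ^ n, ?_⟩
      rw [map_add, add_pow_expChar_pow, map_add, map_pow ν, map_pow ν, ← hc, ← hd, ← pow_mul, ← pow_mul,
        ← pow_add, ← pow_add, add_comm m n]
  have : Nontrivial (A ⊗[R] B) := ⟨0, 1, fun h => Hensel.tensorMax_ne_top R A B
    ((Ideal.eq_top_iff_one _).mpr (h ▸ zero_mem _))⟩
  obtain ⟨M₀, hM₀⟩ := Ideal.exists_maximal (A ⊗[R] B)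
  refine IsLocalRing.of_unique_max_ideal ⟨M₀, hM₀, fun M hM => ?_⟩
  have key : ∀ (M₁ M₂ : Ideal (A ⊗[R] B)), M₁.IsMaximal → M₂.IsMaximal → M₁ ≤ M₂ := by
    intro M₁ M₂ h₁ h₂ x hx
    obtain ⟨n, a, ha⟩ := hpow x
    have ha₁ : a ⊗ₜ[R] (1 : B) ∈ M₁ := by
      have := M₁.sub_mem (M₁.pow_mem_of_mem hx _ (expChar_pow_pos (ResidueField A) q n)) (Hensel.tensorMax_le R A B M₁ ha)
      rwa [sub_sub_cancel] at this
    have haA : a ∈ maximalIdeal A := IsLocalRing.le_maximalIdeal
      (Ideal.IsPrime.ne_top (inferInstance :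
        (M₁.comap (Algebra.TensorProduct.includeLeft : A →ₐ[R] A ⊗[R] B).toRingHom).IsPrime)) ha₁
    have ha₂ : a ⊗ₜ[R] (1 : B) ∈ M₂ :=
      Hensel.tensorMax_le R A B M₂ (Ideal.mem_sup_left (Ideal.mem_map_of_mem _ haA))
    refine h₂.isPrime.mem_of_pow_mem (q ^ n) ?_
    have := M₂.add_mem (Hensel.tensorMax_le R A B M₂ ha) ha₂
    rwa [sub_add_cancel] at this
  exact le_antisymm (key M M₀ hM hM₀) (key M₀ M hM₀ hM)



open TensorProduct in
/-- For local homomorphisms of local rings A → B and A → C with A → C integral, if the residue field of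
C or that of B is purely inseparable over the residue field of A, then B ⊗_A C is local and both
structure maps into it are local. -/
theorem result (A : Type u) [CommRing A]
    [IsLocalRing A] (B : Type u) [CommRing B] [IsLocalRing B] [Algebra A B]
    [IsLocalHom (algebraMap A B)] (C : Type u) [CommRing C] [IsLocalRing C] [Algebra A C]
    [IsLocalHom (algebraMap A C)] [Algebra.IsIntegral A C]
    (h : IsPurelyInseparable (IsLocalRing.ResidueField A) (IsLocalRing.ResidueField C) ∨
      IsPurelyInseparable (IsLocalRing.ResidueField A) (IsLocalRing.ResidueField B)) :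
    IsLocalRing (B ⊗[A] C) ∧
      IsLocalHom (Algebra.TensorProduct.includeLeft : B →ₐ[A] B ⊗[A] C).toRingHom ∧
      IsLocalHom (Algebra.TensorProduct.includeRight : C →ₐ[A] B ⊗[A] C).toRingHom := by
  haveI hCB : IsLocalRing (TensorProduct A C B) := by
    rcases h with h | h
    · haveI := h
      exact Hensel.isLocalRing_tensor A C B
    · haveI := h
      exact isLocalRing_of_right A C B
  let e := Algebra.TensorProduct.comm A C B
  haveI : IsLocalRing (TensorProduct A B C) := e.toRingEquiv.isLocalRing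
  refine ⟨inferInstance, ⟨fun b hb => ?_⟩, ⟨fun c hc => ?_⟩⟩
  · by_contra hn
    refine Hensel.tensorMax_ne_top A C B (Ideal.eq_top_of_isUnit_mem _ (x := (1 : C) ⊗ₜ[A] b)
      (Ideal.mem_sup_right (Ideal.mem_map_of_mem (Algebra.TensorProduct.includeRight :
        B →ₐ[A] TensorProduct A C B).toRingHom (show b ∈ IsLocalRing.maximalIdeal B from hn))) ?_)
    simpa [e] using hb.map e.symm.toRingHom
  · by_contra hn
    refine Hensel.tensorMax_ne_top A C B (Ideal.eq_top_of_isUnit_mem _ (x := c ⊗ₜ[A] (1 : B))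
      (Ideal.mem_sup_left (Ideal.mem_map_of_mem (Algebra.TensorProduct.includeLeft :
        C →ₐ[A] TensorProduct A C B).toRingHom (show c ∈ IsLocalRing.maximalIdeal C from hn))) ?_)
    simpa [e] using hc.map e.symm.toRingHom


end Groth.Agent.S9404
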