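import Groth.Statements.S9409
import Groth.Agent.GeomReg.Basic

set_option autoImplicit false
universe u
open CAlg

namespace Groth.Agent.S9409

/-- Let k be a field written as a directed union of subfields k_i (given as fields mapping to k whose
images form a directed family covering k) and A a Noetherian k-algebra. Geometric regularity of A
over every one of the k_i implies that A is also geometrically regular as a k-algebra. -/
theorem result (k : Type u) [Field k] {ι : Type u}
    (K : ι → Type u) [∀ i, Field (K i)] [∀ i, Algebra (K i) k]
    (hdir : ∀ i j, ∃ l, Set.range (algebraMap (K i) k) ⊆ Set.range (algebraMap (K l) k) ∧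
      Set.range (algebraMap (K j) k) ⊆ Set.range (algebraMap (K l) k))
    (hcov : ∀ x : k, ∃ i, x ∈ Set.range (algebraMap (K i) k))
    (A : Type u) [CommRing A] [Algebra k A] [IsNoetherianRing A] [∀ i, Algebra (K i) A]
    [∀ i, IsScalarTower (K i) k A] (h : ∀ i, CAlg.IsGeometricallyRegular (K i) A) :
    CAlg.IsGeometricallyRegular k A := by
  intro L _ _ hL
  let (i : ι) : Algebra (K i) L := ((algebraMap k L).comp (algebraMap (K i) k)).toAlgebra
  have (i : ι) : IsScalarTower (K i) k L := IsScalarTower.of_algebraMap_eq' rfl
  obtain ⟨i, L₀, _, _, hfin, _, _, ⟨e⟩⟩ := Groth.Agent.GeomReg.exists_model k K hdir hcov L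
  open TensorProduct in
  have : IsRegularRing (A ⊗[K i] L₀) := by
    have := h i L₀ hfin
    exact IsRegularRing.of_ringEquiv (Algebra.TensorProduct.comm (K i) L₀ A).toRingEquiv
  open TensorProduct in
  exact IsRegularRing.of_ringEquiv ((((Algebra.TensorProduct.cancelBaseChange (K i) k A A L₀).symm.toRingEquiv).trans
    (Algebra.TensorProduct.congr (AlgEquiv.refl : A ≃ₐ[k] A) e).toRingEquiv).trans
    (Algebra.TensorProduct.comm k A L).toRingEquiv)


end Groth.Agent.S9409
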