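import Groth.Statements.S9410
import Groth.Agent.GeomReg.Basic

set_option autoImplicit false
universe u
open CAlg

namespace Groth.Agent.S9410
open TensorProduct in
theorem regular_contract (k F : Type u) [Field k] [Field F] [Algebra k F] [Module.Finite k F]
    [Algebra.IsSeparable k F] (A L : Type u) [CommRing A] [Algebra k A] [Algebra F A]
    [IsScalarTower k F A] [CommRing L] [Algebra k L] [Algebra F L] [IsScalarTower k F L]
    [IsRegularRing (A ⊗[k] L)] : IsRegularRing (A ⊗[F] L) := by
  let π : A ⊗[k] L →ₐ[A] A ⊗[F] L :=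
    Algebra.TensorProduct.lift (Algebra.ofId A _)
      ((Algebra.TensorProduct.includeRight : L →ₐ[F] A ⊗[F] L).restrictScalars k)
      fun _ _ => Commute.all _ _
  let : Algebra (A ⊗[k] L) (A ⊗[F] L) := π.toRingHom.toAlgebra
  have hπs : Function.Surjective π := by
    intro z
    induction z using TensorProduct.induction_on with
    | zero => exact ⟨0, map_zero _⟩
    | tmul a l => exact ⟨a ⊗ₜ l, by simp [π]⟩
    | add u v hu hv =>
      obtain ⟨x, rfl⟩ := hu
      obtain ⟨y, rfl⟩ := hv
      exact ⟨x + y, map_add _ _ _⟩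
  let φ : F ⊗[k] F →ₐ[k] A ⊗[k] L :=
    Algebra.TensorProduct.map (IsScalarTower.toAlgHom k F A) (IsScalarTower.toAlgHom k F L)
  have : Algebra.FormallyUnramified k F := Algebra.FormallyUnramified.of_isSeparable k F
  let ε := φ (Algebra.FormallyUnramified.elem k F)
  have hφ : ∀ x, π (φ x) = algebraMap F (A ⊗[F] L) (Algebra.TensorProduct.lmul' k x) := by
    intro x
    induction x using TensorProduct.induction_on with
    | zero => simp
    | tmul a b =>
      simp only [φ, π, Algebra.TensorProduct.map_tmul, Algebra.TensorProduct.lift_tmul,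
        Algebra.TensorProduct.lmul'_apply_tmul, map_mul, Algebra.ofId_apply,
        IsScalarTower.coe_toAlgHom', AlgHom.restrictScalars_apply, AlgHom.commutes]
      rw [← IsScalarTower.algebraMap_apply F A (A ⊗[F] L)]
    | add u v hu hv => simp only [map_add]; rw [hu, hv]
  have he : π ε = 1 := by rw [hφ, Algebra.FormallyUnramified.lmul_elem, map_one]
  have hcomm : ∀ s : F, ((1 : A) ⊗ₜ[k] algebraMap F L s) * ε =
      (algebraMap F A s ⊗ₜ[k] (1 : L)) * ε := by
    intro s
    have := congrArg φ (Algebra.FormallyUnramified.one_tmul_sub_tmul_one_mul_elem (R := k) s)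
    rw [map_mul, map_sub, map_zero, sub_mul, sub_eq_zero] at this
    simpa [φ, ε] using this
  let N : Ideal (A ⊗[k] L) := (Ideal.span {ε}).annihilator
  let Q := (A ⊗[k] L) ⧸ N
  have : IsScalarTower F A Q := inferInstance
  have hN : ∀ x, x ∈ N ↔ x * ε = 0 := fun x => by
    simp only [N, Ideal.span, Submodule.mem_annihilator_span_singleton, smul_eq_mul]
  let rQ : L →ₐ[F] Q :=
    { (Ideal.Quotient.mk N).comp
        (Algebra.TensorProduct.includeRight : L →ₐ[k] A ⊗[k] L).toRingHom with
      commutes' := fun s => by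
        change Ideal.Quotient.mk N ((1 : A) ⊗ₜ[k] algebraMap F L s) =
          Ideal.Quotient.mk N (algebraMap F A s ⊗ₜ[k] (1 : L))
        rw [Ideal.Quotient.mk_eq_mk_iff_sub_mem, hN, sub_mul, hcomm, sub_self] }
  let ψ : A ⊗[F] L →ₐ[A] Q :=
    Algebra.TensorProduct.lift (Algebra.ofId A Q) rQ fun _ _ => mul_comm _ _
  have hψ : ∀ x, ψ (π x) = Ideal.Quotient.mk N x := by
    intro x
    induction x using TensorProduct.induction_on with
    | zero => simp
    | tmul a l =>
      simp only [π, Algebra.TensorProduct.lift_tmul, Algebra.ofId_apply, map_mul, AlgHom.commutes,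
        AlgHom.restrictScalars_apply, Algebra.TensorProduct.includeRight_apply, ψ, map_one, one_mul]
      change Ideal.Quotient.mk N (a ⊗ₜ[k] 1) * Ideal.Quotient.mk N (1 ⊗ₜ[k] l) = _
      rw [← map_mul]
      simp
    | add u v hu hv => simp only [map_add]; rw [hu, hv]
  have : IsLocalization.Away ε (A ⊗[F] L) := by
    refine Groth.Agent.GeomReg.isLocalization_away_of_surjective hπs ε he fun x hx => ?_
    have := hψ x
    rw [show π x = 0 from hx, map_zero, eq_comm, Ideal.Quotient.eq_zero_iff_mem, hN] at this
    rw [mul_comm, this]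
  exact Groth.Agent.GeomReg.isRegularRing_of_isLocalization (Submonoid.powers ε) (A ⊗[F] L)

open TensorProduct in
theorem regular_extend (k : Type u) [Field k] (k' : Type u) [Field k'] [Algebra k k']
    [Algebra.IsSeparable k k'] (A : Type u) [CommRing A] [Algebra k' A] [Algebra k A]
    [IsScalarTower k k' A] [IsNoetherianRing A] (h : CAlg.IsGeometricallyRegular k' A)
    (K : Type u) [Field K] [Algebra k K] [Module.Finite k K] : IsRegularRing (A ⊗[k] K) := by
  have : IsNoetherianRing (A ⊗[k] K) := Groth.Agent.GeomReg.isNoetherianRing_tensor k K A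
  have hred : IsReduced (K ⊗[k] k') := by
    refine IsReduced.tensorProduct_of_flat_of_forall_fg ?_
    intro B hB
    have : Module.Finite k B := by
      have : Algebra.FiniteType k B := (Subalgebra.fg_iff_finiteType B).mp hB
      have : Algebra.IsIntegral k B :=
        Algebra.IsIntegral.of_injective B.val Subtype.val_injective
      exact Algebra.IsIntegral.finite
    let : Field B := (isField_of_isIntegral_of_isField' (R := k) (S := B)
      (Field.toIsField k)).toField
    have : Algebra.IsSeparable k B := Algebra.IsSeparable.of_algHom k k' B.val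
    have : Algebra.FormallyUnramified k B := Algebra.FormallyUnramified.of_isSeparable k B
    exact Algebra.FormallyUnramified.isReduced_of_field K (K ⊗[k] B)
  let C := k' ⊗[k] K
  have : IsReduced C :=
    isReduced_of_injective (Algebra.TensorProduct.comm k k' K) (AlgEquiv.injective _)
  have : IsArtinianRing C := IsArtinianRing.of_finite k' C
  rw [isRegularRing_iff]
  intro P _
  let j : C →ₐ[k] A ⊗[k] K :=
    Algebra.TensorProduct.map (IsScalarTower.toAlgHom k k' A) (AlgHom.id k K)
  let m : Ideal C := P.comap j
  have : m.IsPrime := Ideal.IsPrime.comap j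
  have hmax : m.IsMaximal := IsArtinianRing.isMaximal_of_isPrime m
  classical
  let eC := IsArtinianRing.equivPi C
  let em : C := eC.symm (Pi.single (⟨m, hmax⟩ : MaximalSpectrum C) 1)
  have hem : ∀ x : C, x ∈ m → em * x = 0 := by
    intro x hx
    apply eC.injective
    rw [map_mul, map_zero, AlgEquiv.apply_symm_apply]
    ext I
    by_cases hI : I = ⟨m, hmax⟩
    · subst hI
      rw [Pi.mul_apply, Pi.single_eq_same, one_mul, Pi.zero_apply]
      exact Ideal.Quotient.eq_zero_iff_mem.mpr hx
    · rw [Pi.mul_apply, Pi.single_eq_of_ne hI, zero_mul, Pi.zero_apply]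
  have hem1 : Ideal.Quotient.mk m em = 1 := by
    have h1 := congrFun (AlgEquiv.apply_symm_apply eC
      (Pi.single (⟨m, hmax⟩ : MaximalSpectrum C) 1)) ⟨m, hmax⟩
    rw [Pi.single_eq_same] at h1
    exact h1
  let : Field (C ⧸ m) := Ideal.Quotient.field m
  have : Module.Finite k' (C ⧸ m) := Module.Finite.of_surjective (Ideal.Quotient.mkₐ k' m).toLinearMap
    Ideal.Quotient.mk_surjective
  have : IsRegularRing (A ⊗[k'] (C ⧸ m)) := by
    have := h (C ⧸ m) inferInstance
    exact IsRegularRing.of_ringEquiv (Algebra.TensorProduct.comm k' (C ⧸ m) A).toRingEquiv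
  let e := Algebra.TensorProduct.cancelBaseChange k k' A A K
  let f : A ⊗[k] K →ₐ[A] A ⊗[k'] (C ⧸ m) :=
    (Algebra.TensorProduct.map (AlgHom.id A A) (Ideal.Quotient.mkₐ k' m)).comp e.symm.toAlgHom
  let : Algebra (A ⊗[k] K) (A ⊗[k'] (C ⧸ m)) := f.toRingHom.toAlgebra
  have hj : ∀ c : C, e ((1 : A) ⊗ₜ[k'] c) = j c := by
    intro c
    induction c using TensorProduct.induction_on with
    | zero => simp
    | tmul a x =>
      simp [e, j, Algebra.TensorProduct.cancelBaseChange_tmul, Algebra.smul_def,
        Algebra.TensorProduct.map_tmul]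
      rfl
    | add u v hu hv => simp only [map_add, TensorProduct.tmul_add]; rw [hu, hv]
  have hjf : ∀ c : C, f (j c) = (1 : A) ⊗ₜ[k'] Ideal.Quotient.mk m c := by
    intro c
    rw [← hj]
    simp [f]
  have hfs : Function.Surjective f := by
    intro z
    induction z using TensorProduct.induction_on with
    | zero => exact ⟨0, map_zero _⟩
    | tmul a x =>
      obtain ⟨c, rfl⟩ := Ideal.Quotient.mk_surjective x
      exact ⟨e (a ⊗ₜ c), by simp [f]⟩
    | add u v hu hv =>
      obtain ⟨x, rfl⟩ := hu
      obtain ⟨y, rfl⟩ := hv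
      exact ⟨x + y, map_add _ _ _⟩
  have hnotP : j em ∉ P := fun hP => by
    have : em ∈ m := hP
    rw [← Ideal.Quotient.eq_zero_iff_mem, hem1] at this
    exact one_ne_zero this
  have : IsLocalization.Away (j em) (A ⊗[k'] (C ⧸ m)) := by
    refine Groth.Agent.GeomReg.isLocalization_away_of_surjective hfs (j em) ?_ ?_
    · change f (j em) = 1
      rw [hjf, hem1]
      rfl
    · intro x hx
      obtain ⟨y, rfl⟩ := e.surjective x
      have hy : Algebra.TensorProduct.map (AlgHom.id A A) (Ideal.Quotient.mkₐ k' m) y = 0 := by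
        have : f (e y) = 0 := hx
        simpa [f] using this
      rw [← hj, ← map_mul]
      refine (congrArg e ?_).trans (map_zero e)
      have hk := Algebra.TensorProduct.lTensor_ker (A := A) (Ideal.Quotient.mkₐ k' m)
        Ideal.Quotient.mk_surjective
      have hyk : y ∈ Ideal.map (Algebra.TensorProduct.includeRight (R := k') (A := A))
          (RingHom.ker (Ideal.Quotient.mkₐ k' m)) := hk ▸ hy
      clear hx hy
      induction hyk using Submodule.span_induction with
      | mem z hz =>
        obtain ⟨c, hc, rfl⟩ := hz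
        have hc' : c ∈ m := Ideal.Quotient.eq_zero_iff_mem.mp hc
        simp [hem c hc']
      | zero => rw [mul_zero]
      | add u v _ _ hu hv => rw [mul_add, hu, hv, add_zero]
      | smul t u _ hu => rw [smul_eq_mul, mul_left_comm, hu, mul_zero]
  exact Groth.Agent.GeomReg.isRegularLocalRing_of_away (j em) (A ⊗[k'] (C ⧸ m)) P hnotP


/-- Given a separable algebraic field extension k'/k and a Noetherian k'-algebra A, geometric regularity
of A over k' is equivalent to geometric regularity of A over k. -/
theorem result (k : Type u) [Field k] (k' : Type u)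
    [Field k'] [Algebra k k'] [Algebra.IsSeparable k k'] (A : Type u) [CommRing A] [Algebra k' A]
    [Algebra k A] [IsScalarTower k k' A] [IsNoetherianRing A] :
    CAlg.IsGeometricallyRegular k A ↔ CAlg.IsGeometricallyRegular k' A := by
  open TensorProduct in
  constructor
  · intro h L _ _ hL
    let ι := {F : IntermediateField k k' // FiniteDimensional k F}
    have hdir : ∀ i j : ι, ∃ l : ι, Set.range (algebraMap ↥i.1 k') ⊆ Set.range (algebraMap ↥l.1 k') ∧
        Set.range (algebraMap ↥j.1 k') ⊆ Set.range (algebraMap ↥l.1 k') := by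
      intro i j
      have := i.2; have := j.2
      refine ⟨⟨i.1 ⊔ j.1, inferInstance⟩, ?_, ?_⟩
      · rintro _ ⟨x, rfl⟩
        exact ⟨⟨x.1, le_sup_left (α := IntermediateField k k') x.2⟩, rfl⟩
      · rintro _ ⟨x, rfl⟩
        exact ⟨⟨x.1, le_sup_right (α := IntermediateField k k') x.2⟩, rfl⟩
    have hcov : ∀ x : k', ∃ i : ι, x ∈ Set.range (algebraMap ↥i.1 k') := fun x =>
      ⟨⟨IntermediateField.adjoin k {x},
        IntermediateField.adjoin.finiteDimensional (Algebra.IsIntegral.isIntegral x)⟩,
        ⟨x, IntermediateField.mem_adjoin_simple_self k x⟩, rfl⟩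
    obtain ⟨i, L₀, _, _, hfin, _, _, ⟨e⟩⟩ :=
      Groth.Agent.GeomReg.exists_model k' (fun i : ι => ↥i.1) hdir hcov L
    let F := i.1
    have : FiniteDimensional k F := i.2
    have : IsScalarTower k F A := IsScalarTower.of_algebraMap_eq fun x =>
      IsScalarTower.algebraMap_apply k k' A x
    let : Algebra F L₀ := (inferInstance : Algebra ↥i.1 L₀)
    have : Module.Finite F L₀ := hfin
    let : Algebra k L₀ := ((algebraMap F L₀).comp (algebraMap k F)).toAlgebra
    have : IsScalarTower k F L₀ := IsScalarTower.of_algebraMap_eq' rfl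
    have : Module.Finite k L₀ := Module.Finite.trans F L₀
    have : IsRegularRing (A ⊗[k] L₀) := by
      have := h L₀ inferInstance
      exact IsRegularRing.of_ringEquiv (Algebra.TensorProduct.comm k L₀ A).toRingEquiv
    have := regular_contract k F A L₀
    exact IsRegularRing.of_ringEquiv ((((Algebra.TensorProduct.cancelBaseChange F k' A A L₀).symm.toRingEquiv).trans
      (Algebra.TensorProduct.congr (AlgEquiv.refl : A ≃ₐ[k'] A) e).toRingEquiv).trans
      (Algebra.TensorProduct.comm k' A L).toRingEquiv)
  · intro h K _ _ hK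
    have := regular_extend k k' A h K
    exact IsRegularRing.of_ringEquiv (Algebra.TensorProduct.comm k A K).toRingEquiv


end Groth.Agent.S9410
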