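import Groth.Statements.S9412
import Groth.Agent.IntBC.Main

set_option autoImplicit false
universe u
open EGA4

namespace Groth.Agent.S9412

/-- A localization of a geometrically normal algebra over a field k is geometrically normal over k. -/
theorem result (k : Type u) [Field k] (A : Type u) [CommRing A]
    [Algebra k A] (M : Submonoid A) (B : Type u) [CommRing B] [Algebra A B] [IsLocalization M B]
    [Algebra k B] [IsScalarTower k A B] (h : EGA4.IsGeomNormal k A) :
    EGA4.IsGeomNormal k B := by
  exact Groth.Agent.IntBC.isGeomNormal_localization h M B

end Groth.Agent.S9412
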