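import Groth.Statements.S9414
import Mathlib

set_option autoImplicit false
universe u
open CAlg

namespace Groth.Agent.S9414
theorem cotangentEquiv_of_eq {S : Type*} [CommRing S] {I J : Ideal S} (h : I = J) :
    Nonempty (I.Cotangent ≃ₗ[S] J.Cotangent) := by
  subst h; exact ⟨LinearEquiv.refl _ _⟩


open TensorProduct in
/-- For an algebraically closed field k, a finite type k-algebra S and a maximal ideal m of S with
residue field κ = S/m, the κ-vector spaces κ ⊗_S Ω_{S/k} and m/m² have the same dimension. -/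
theorem result (k : Type u) [Field k]
    [IsAlgClosed k] (S : Type u) [CommRing S] [Algebra k S] [Algebra.FiniteType k S]
    (m : Ideal S) [m.IsMaximal] :
    Module.finrank (S ⧸ m) ((S ⧸ m) ⊗[S] Ω[S⁄k]) = Module.finrank (S ⧸ m) m.Cotangent := by
  letI : Field (S ⧸ m) := Ideal.Quotient.field m
  haveI : Module.Finite k (S ⧸ m) := finite_of_finite_type_of_isJacobsonRing k (S ⧸ m)
  have hk : Function.Bijective (algebraMap k (S ⧸ m)) :=
    IsAlgClosed.algebraMap_bijective_of_isIntegral (k := k) (K := S ⧸ m)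
  have hf : Function.Surjective (algebraMap S (S ⧸ m)) := Ideal.Quotient.mk_surjective
  let g := (Algebra.ofId k (S ⧸ RingHom.ker (algebraMap S (S ⧸ m)) ^ 2)).comp
    (AlgEquiv.ofBijective (Algebra.ofId k (S ⧸ m)) hk).symm.toAlgHom
  have hg : (IsScalarTower.toAlgHom k S (S ⧸ m)).kerSquareLift.comp g = AlgHom.id k (S ⧸ m) := by
    apply AlgHom.ext
    intro x
    obtain ⟨c, rfl⟩ := hk.2 x
    rw [AlgHom.commutes, AlgHom.commutes]
  obtain ⟨l, hl⟩ := (retractionKerCotangentToTensorEquivSection hf).symm ⟨g, hg⟩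
  have hinj : Function.Injective (KaehlerDifferential.kerCotangentToTensor k S (S ⧸ m)) :=
    Function.LeftInverse.injective (g := l) fun x => LinearMap.congr_fun hl x
  haveI : Subsingleton Ω[(S ⧸ m)⁄k] := KaehlerDifferential.subsingleton_of_surjective k (S ⧸ m) hk.2
  have hsurj : Function.Surjective (KaehlerDifferential.kerCotangentToTensor k S (S ⧸ m)) := fun w =>
    (KaehlerDifferential.exact_kerCotangentToTensor_mapBaseChange k S (S ⧸ m) hf w).1 (Subsingleton.elim _ _)
  obtain ⟨e⟩ := cotangentEquiv_of_eq (show RingHom.ker (algebraMap S (S ⧸ m)) = m from Ideal.mk_ker)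
  exact (((e.symm.trans (LinearEquiv.ofBijective _ ⟨hinj, hsurj⟩)).extendScalarsOfSurjective hf).finrank_eq).symm


end Groth.Agent.S9414
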