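import Groth.Statements.S9415
import Groth.Agent.EGA41Lib.FieldFS

set_option autoImplicit false
universe u
open CAlg

namespace Groth.Agent.S9415
open IsLocalRing in
theorem kct_inj (k : Type u) [Field k] (P S : Type u) [CommRing P] [Field S] [Algebra k P] [Algebra k S]
    [Algebra P S] [IsScalarTower k P S] (hf : Function.Surjective (algebraMap P S))
    [Algebra.FormallySmooth k S] :
    Function.Injective (KaehlerDifferential.kerCotangentToTensor k P S) := by
  let f := IsScalarTower.toAlgHom k P S
  have h1 : Function.Surjective f.kerSquareLift := Function.Surjective.of_comp (g := Ideal.Quotient.mk _) hf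
  let g := Algebra.FormallySmooth.liftOfSurjective (AlgHom.id k S) f.kerSquareLift h1 (by
    exact ⟨2, (congrArg (· ^ 2) (AlgHom.ker_kerSquareLift f)).trans (Ideal.cotangentIdeal_square _)⟩)
  obtain ⟨l, hl⟩ := (retractionKerCotangentToTensorEquivSection (R := k) hf).symm
    ⟨g, AlgHom.ext fun x => Algebra.FormallySmooth.liftOfSurjective_apply (AlgHom.id k S) f.kerSquareLift h1 _ x⟩
  exact Function.LeftInverse.injective (g := l) fun x => LinearMap.congr_fun hl x


/-- Let R be a Noetherian local algebra over a field k whose residue field κ is a finitely generated,
separable (that is, geometrically reduced) field extension of k. Then the map from m/m² (m the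
maximal ideal, realised as the kernel of R → κ) to κ ⊗_R Ω_{R/k} sending the class of x to 1 ⊗ dx is
injective. -/
theorem result (k : Type u) [Field k] (R : Type u)
    [CommRing R] [IsLocalRing R] [IsNoetherianRing R] [Algebra k R]
    [Algebra.EssFiniteType k (IsLocalRing.ResidueField R)]
    [Algebra.IsGeometricallyReduced k (IsLocalRing.ResidueField R)] :
    Function.Injective
      (KaehlerDifferential.kerCotangentToTensor k R (IsLocalRing.ResidueField R)) := by
  haveI := Groth.Agent.EGA41Lib.FieldFS.formallySmooth_of_isGeometricallyReduced k (IsLocalRing.ResidueField R)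
  exact kct_inj k R (IsLocalRing.ResidueField R) IsLocalRing.residue_surjective


end Groth.Agent.S9415
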