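import Groth.Statements.S9416
import Mathlib

set_option autoImplicit false
universe u
open CAlg

namespace Groth.Agent.S9416
open Polynomial

variable {R : Type u} [CommRing R] [IsDomain R] [IsNoetherianRing R] [IsIntegrallyClosed R] {K : Type u} [Field K]
  [Algebra R K] [IsFractionRing R K] {p : ℕ} [Fact p.Prime] [CharP K p] (D : Derivation ℤ K K)
  (hD : ∀ r : R, ∃ s : R, D (algebraMap R K r) = algebraMap R K s)

include hD in
/-- The denominators of the coefficients are bounded by the square of `D a`. -/
lemma coeff_bound (a : R) (d : R) (hd : D (algebraMap R K a) = algebraMap R K d) (c : ℕ → K) (e : R)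
    (he : ∑ i ∈ Finset.range p, c i ^ p * algebraMap R K a ^ i = algebraMap R K e) :
    ∀ i < p, ∃ r : R, algebraMap R K d ^ 2 * c i = algebraMap R K r := by
  classical
  have hp := (Fact.out : p.Prime)
  let S : Subring K := (algebraMap R K).range
  have hS : ∀ r, algebraMap R K r ∈ S := fun r => ⟨r, rfl⟩
  have hDS : ∀ z ∈ S, D z ∈ S := by
    rintro _ ⟨r, rfl⟩
    obtain ⟨s, hs⟩ := hD r
    exact ⟨s, hs.symm⟩
  let δ := algebraMap R K d
  let E : ℕ → K := fun j =>
    ∑ i ∈ Finset.range p, (Nat.descFactorial i j : K) * c i ^ p * algebraMap R K a ^ (i - j)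
  have hDc : ∀ i, D (c i ^ p) = 0 := fun i => by
    rw [Derivation.leibniz_pow, ← Nat.cast_smul_eq_nsmul K, CharP.cast_eq_zero K p, zero_smul]
  have hDE : ∀ j, D (E j) = δ * E (j + 1) := by
    intro j
    simp only [E, map_sum, Finset.mul_sum]
    refine Finset.sum_congr rfl fun i _ => ?_
    rw [Derivation.leibniz, Derivation.leibniz, hDc, Derivation.map_natCast, Derivation.leibniz_pow, hd,
      Nat.descFactorial_succ, Nat.cast_mul, show i - j - 1 = i - (j + 1) by omega]
    simp only [smul_eq_mul, nsmul_eq_mul, δ]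
    ring
  have hE : ∀ j, δ ^ (2 * j) * E j ∈ S := by
    intro j
    induction j with
    | zero =>
      have : E 0 = algebraMap R K e := by simp [E, ← he]
      rw [this, mul_zero, pow_zero, one_mul]
      exact hS e
    | succ j ih =>
      have h1 : D (δ ^ (2 * j) * E j) = (2 * j : K) * δ ^ (2 * j - 1) * D δ * E j + δ ^ (2 * j) * (δ * E (j + 1)) := by
        rw [Derivation.leibniz, Derivation.leibniz_pow, hDE]
        simp only [smul_eq_mul, nsmul_eq_mul, Nat.cast_mul, Nat.cast_ofNat]
        ring
      have h2 : δ ^ (2 * (j + 1)) * E (j + 1) =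
          δ * D (δ ^ (2 * j) * E j) - (2 * j : K) * D δ * (δ ^ (2 * j) * E j) := by
        rw [h1]
        rcases j with _ | j
        · simp only [Nat.cast_zero, mul_zero, zero_mul, pow_zero, zero_add, one_mul, sub_zero]
          ring
        · rw [show 2 * (j + 1) - 1 = 2 * j + 1 by omega]
          ring
      rw [h2]
      exact S.sub_mem (S.mul_mem (hS d) (hDS _ ih))
        (S.mul_mem (S.mul_mem (by exact_mod_cast natCast_mem S (2 * j)) (hDS _ (hS d))) ih)
  have hc : ∀ m i, p ≤ i + m → i < p → δ ^ (2 * p) * c i ^ p ∈ S := by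
    intro m
    induction m with
    | zero => intro i h1 h2; omega
    | succ m ih =>
      intro i h1 h2
      have hsplit : E i = (Nat.factorial i : K) * c i ^ p +
          ∑ l ∈ (Finset.range p).erase i, (Nat.descFactorial l i : K) * c l ^ p * algebraMap R K a ^ (l - i) := by
        simp only [E]
        rw [← Finset.add_sum_erase _ _ (Finset.mem_range.2 h2), Nat.descFactorial_self, Nat.sub_self, pow_zero, mul_one]
      have hEi : δ ^ (2 * p) * E i ∈ S := by
        rw [show 2 * p = 2 * (p - i) + 2 * i by omega, pow_add, mul_assoc]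
        exact S.mul_mem (S.pow_mem (hS d) _) (hE i)
      have hrest : δ ^ (2 * p) *
          ∑ l ∈ (Finset.range p).erase i, (Nat.descFactorial l i : K) * c l ^ p * algebraMap R K a ^ (l - i) ∈ S := by
        rw [Finset.mul_sum]
        refine S.sum_mem fun l hl => ?_
        obtain ⟨hli, hl⟩ := Finset.mem_erase.1 hl
        rw [Finset.mem_range] at hl
        rcases lt_or_gt_of_ne hli with h | h
        · rw [Nat.descFactorial_eq_zero_iff_lt.2 h, Nat.cast_zero, zero_mul, zero_mul, mul_zero]
          exact S.zero_mem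
        · rw [show δ ^ (2 * p) * ((Nat.descFactorial l i : K) * c l ^ p * algebraMap R K a ^ (l - i)) =
            (Nat.descFactorial l i : K) * (δ ^ (2 * p) * c l ^ p) * algebraMap R K a ^ (l - i) by ring]
          exact S.mul_mem (S.mul_mem (natCast_mem S _) (ih l (by omega) hl)) (S.pow_mem (hS a) _)
      have hfac : δ ^ (2 * p) * ((Nat.factorial i : K) * c i ^ p) ∈ S := by
        have := S.sub_mem hEi hrest
        rwa [hsplit, mul_add, add_sub_cancel_right] at this
      have hne : ((Nat.factorial i : ℕ) : ZMod p) ≠ 0 := by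
        rw [ne_eq, ZMod.natCast_eq_zero_iff, hp.dvd_factorial]
        omega
      let u : ℕ := ((Nat.factorial i : ZMod p)⁻¹).val
      have hu : (u : K) * (Nat.factorial i : K) = 1 := by
        rw [← Nat.cast_mul, ← Nat.cast_one, CharP.natCast_eq_natCast K p, ← ZMod.natCast_eq_natCast_iff, Nat.cast_mul,
          Nat.cast_one, ZMod.natCast_val, ZMod.cast_id', id, inv_mul_cancel₀ hne]
      rw [show δ ^ (2 * p) * c i ^ p = (u : K) * (δ ^ (2 * p) * ((Nat.factorial i : K) * c i ^ p)) by
        calc δ ^ (2 * p) * c i ^ p = ((u : K) * (Nat.factorial i : K)) * (δ ^ (2 * p) * c i ^ p) := by rw [hu, one_mul]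
          _ = _ := by ring]
      exact S.mul_mem (natCast_mem S _) hfac
  intro i hi
  obtain ⟨r, hr⟩ := hc p i (by omega) hi
  have hint : IsIntegral R (δ ^ 2 * c i) := by
    refine IsIntegral.of_pow hp.pos ?_
    rw [mul_pow, ← pow_mul, ← hr]
    exact isIntegral_algebraMap
  obtain ⟨y, hy⟩ := IsIntegrallyClosed.isIntegral_iff.1 hint
  exact ⟨y, hy.symm⟩


/-- Suppose R is a normal Noetherian domain whose field of fractions K has prime characteristic p > 0, D
a derivation of K preserving R, and a ∈ K with D(a) ≠ 0. For a field L generated over K by an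
element x with x^p = a, the integral closure of R in L is module-finite over R. -/
theorem result (R : Type u) [CommRing R]
    [IsDomain R] [IsNoetherianRing R] [IsIntegrallyClosed R] (K : Type u) [Field K] [Algebra R K]
    [IsFractionRing R K] (p : ℕ) [Fact p.Prime] [CharP K p] (D : Derivation ℤ K K)
    (hD : ∀ r : R, ∃ s : R, D (algebraMap R K r) = algebraMap R K s) (a : K) (ha : D a ≠ 0)
    (L : Type u) [Field L] [Algebra K L] [Algebra R L] [IsScalarTower R K L] (x : L)
    (hx : x ^ p = algebraMap K L a) (hgen : IntermediateField.adjoin K {x} = ⊤) :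
    Module.Finite R (integralClosure R L) := by
  classical
  have hp := (Fact.out : p.Prime)
  obtain ⟨s, t, ht, rfl⟩ := IsFractionRing.div_surjective R a
  have ht0 : algebraMap R K t ≠ 0 := IsFractionRing.to_map_ne_zero_of_mem_nonZeroDivisors ht
  let a' : R := s * t ^ (p - 1)
  let x' : L := algebraMap R L t * x
  have ha' : algebraMap R K a' = algebraMap R K t ^ p * (algebraMap R K s / algebraMap R K t) := by
    obtain ⟨q, hq⟩ : ∃ q, p = q + 1 := ⟨p - 1, by have := hp.pos; omega⟩
    simp only [a', map_mul, map_pow, hq, Nat.add_sub_cancel]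
    field_simp
    ring
  obtain ⟨d, hd⟩ := hD a'
  have hd0 : algebraMap R K d ≠ 0 := by
    rw [← hd, ha', Derivation.leibniz, Derivation.leibniz_pow, ← Nat.cast_smul_eq_nsmul K, CharP.cast_eq_zero K p,
      zero_smul, smul_zero, add_zero, smul_eq_mul]
    exact mul_ne_zero (pow_ne_zero _ ht0) ha
  have hx' : x' ^ p = algebraMap R L a' := by
    rw [mul_pow, hx, IsScalarTower.algebraMap_apply R K L a', ha', map_mul, map_pow, ← IsScalarTower.algebraMap_apply]
  have hxint : IsIntegral K x := ⟨X ^ p - C (algebraMap R K s / algebraMap R K t), monic_X_pow_sub_C _ hp.ne_zero, by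
    simp [hx]⟩
  have hrep : ∀ y : L, ∃ c : ℕ → K, y = ∑ i ∈ Finset.range p, algebraMap K L (c i) * x' ^ i := by
    intro y
    have hy : y ∈ (IntermediateField.adjoin K {x}).toSubalgebra := by rw [hgen]; trivial
    rw [IntermediateField.adjoin_simple_toSubalgebra_of_isAlgebraic hxint.isAlgebraic,
      Algebra.adjoin_singleton_eq_range_aeval] at hy
    obtain ⟨P, rfl⟩ := hy
    let Q : Polynomial K := (P.comp (C (algebraMap R K t)⁻¹ * X)) %ₘ (X ^ p - C (algebraMap R K a'))
    have hm : (X ^ p - C (algebraMap R K a') : Polynomial K).Monic := monic_X_pow_sub_C _ hp.ne_zero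
    refine ⟨Q.coeff, ?_⟩
    have h0 : Polynomial.aeval x' (X ^ p - C (algebraMap R K a') : Polynomial K) = 0 := by
      rw [map_sub, map_pow, aeval_X, aeval_C, hx', ← IsScalarTower.algebraMap_apply, sub_self]
    have hPQ : Polynomial.aeval x' Q = Polynomial.aeval x P := by
      rw [Polynomial.aeval_modByMonic_eq_self_of_root h0, Polynomial.aeval_comp]
      congr 2
      rw [map_mul, aeval_C, aeval_X, ← mul_assoc, IsScalarTower.algebraMap_apply R K L, ← map_mul,
        inv_mul_cancel₀ ht0, map_one, one_mul]
    have hdeg : Q.natDegree < p := by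
      rcases eq_or_ne Q 0 with h | h
      · rw [h, natDegree_zero]; exact hp.pos
      · have := natDegree_modByMonic_lt (P.comp (C (algebraMap R K t)⁻¹ * X)) hm (by
          intro h1; have := congrArg natDegree h1
          rw [natDegree_X_pow_sub_C, natDegree_one] at this; exact hp.ne_zero this)
        rwa [natDegree_X_pow_sub_C] at this
    change Polynomial.aeval x P = _
    rw [← hPQ, Polynomial.aeval_eq_sum_range' hdeg]
    exact Finset.sum_congr rfl fun i _ => Algebra.smul_def _ _
  let M : Submodule R L := Submodule.span R (Set.range fun i : Fin p => x' ^ (i : ℕ))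
  haveI : Module.Finite R M := Module.Finite.span_of_finite R (Set.finite_range _)
  have hmem : ∀ y : integralClosure R L, algebraMap R L (d ^ 2) * (y : L) ∈ M := by
    rintro ⟨y, hy⟩
    obtain ⟨c, hc⟩ := hrep y
    haveI : CharP L p := charP_of_injective_algebraMap (algebraMap K L).injective p
    have hyp : y ^ p = algebraMap K L (∑ i ∈ Finset.range p, c i ^ p * algebraMap R K a' ^ i) := by
      rw [hc, sum_pow_char, map_sum]
      refine Finset.sum_congr rfl fun i _ => ?_
      rw [mul_pow, ← pow_mul, mul_comm i p, pow_mul, hx']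
      simp only [a', map_mul, map_pow, ← IsScalarTower.algebraMap_apply]
    have hint : IsIntegral R (∑ i ∈ Finset.range p, c i ^ p * algebraMap R K a' ^ i) := by
      rw [← isIntegral_algebraMap_iff (R := R) (A := K) (B := L) (algebraMap K L).injective, ← hyp]
      exact (show IsIntegral R y from hy).pow p
    obtain ⟨e, he⟩ := IsIntegrallyClosed.isIntegral_iff.1 hint
    choose r hr using coeff_bound D hD a' d hd c e he.symm
    change algebraMap R L (d ^ 2) * y ∈ M
    rw [hc, Finset.mul_sum]
    refine Submodule.sum_mem _ fun i hi => ?_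
    rw [← mul_assoc, IsScalarTower.algebraMap_apply R K L, map_pow (algebraMap R K), ← map_mul,
      hr i (Finset.mem_range.1 hi), ← IsScalarTower.algebraMap_apply, ← Algebra.smul_def]
    exact Submodule.smul_mem _ _ (Submodule.subset_span ⟨⟨i, Finset.mem_range.1 hi⟩, rfl⟩)
  let φ : integralClosure R L →ₗ[R] M :=
    ((LinearMap.mulLeft R (algebraMap R L (d ^ 2))) ∘ₗ (integralClosure R L).val.toLinearMap).codRestrict M hmem
  refine Module.Finite.of_injective φ fun y z h => Subtype.ext ?_
  refine mul_left_cancel₀ (a := algebraMap R L (d ^ 2)) ?_ (congrArg Subtype.val h)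
  rw [IsScalarTower.algebraMap_apply R K L, map_ne_zero_iff _ (algebraMap K L).injective, map_pow]
  exact pow_ne_zero _ hd0


end Groth.Agent.S9416
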