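import Groth.Statements.S9425
import Mathlib

set_option autoImplicit false
universe u
open CAlg

namespace Groth.Agent.S9425

/-- A directed colimit of formally étale R-algebras is formally étale over R. The colimit is encoded by
compatible R-algebra maps S_i → S which are jointly surjective and whose kernels die further along
the system. -/
theorem result {ι : Type u} [Preorder ι] [IsDirected ι (· ≤ ·)] [Nonempty ι]
    (R : Type u) [CommRing R] (G : ι → Type u) [∀ i, CommRing (G i)] [∀ i, Algebra R (G i)]
    (f : ∀ i j, i ≤ j → (G i →ₐ[R] G j)) (S : Type u) [CommRing S] [Algebra R S]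
    (g : ∀ i, G i →ₐ[R] S) (hg : ∀ i j (h : i ≤ j), (g j).comp (f i j h) = g i)
    (hsurj : ∀ s : S, ∃ i, ∃ x : G i, g i x = s)
    (hker : ∀ i (x : G i), g i x = 0 → ∃ j, ∃ h : i ≤ j, f i j h x = 0)
    (h : ∀ i, Algebra.FormallyEtale R (G i)) : Algebra.FormallyEtale R S := by
  classical
  rw [Algebra.FormallyEtale.iff_comp_bijective]
  intro B _ _ I hI
  constructor
  · intro φ₁ φ₂ e
    refine AlgHom.ext fun s => ?_
    obtain ⟨i, x, rfl⟩ := hsurj s
    have := h i
    exact AlgHom.congr_fun (Algebra.FormallyUnramified.comp_injective I hI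
      (show (Ideal.Quotient.mkₐ R I).comp (φ₁.comp (g i)) = (Ideal.Quotient.mkₐ R I).comp (φ₂.comp (g i)) by
        rw [← AlgHom.comp_assoc, ← AlgHom.comp_assoc]; exact congrArg (fun φ => φ.comp (g i)) e)) x
  · intro ψ
    have hl : ∀ i, ∃ l : G i →ₐ[R] B, (Ideal.Quotient.mkₐ R I).comp l = ψ.comp (g i) := fun i => by
      have := h i
      exact (Algebra.FormallyEtale.comp_bijective R (G i) I hI).2 _
    choose l hl using hl
    have hcompat : ∀ i j (hij : i ≤ j), (l j).comp (f i j hij) = l i := fun i j hij => by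
      have := h i
      refine Algebra.FormallyUnramified.comp_injective I hI ?_
      show (Ideal.Quotient.mkₐ R I).comp ((l j).comp (f i j hij)) = (Ideal.Quotient.mkₐ R I).comp (l i)
      rw [← AlgHom.comp_assoc, hl, hl, AlgHom.comp_assoc, hg]
    have hwd : ∀ i j (x : G i) (y : G j), g i x = g j y → l i x = l j y := by
      intro i j x y hxy
      obtain ⟨k, hik, hjk⟩ := directed_of (· ≤ ·) i j
      have h0 : g k (f i k hik x - f j k hjk y) = 0 := by
        rw [map_sub, ← AlgHom.comp_apply, ← AlgHom.comp_apply, hg, hg, hxy, sub_self]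
      obtain ⟨m, hkm, hm⟩ := hker k _ h0
      have := congrArg (l m) hm
      rw [map_zero, ← AlgHom.comp_apply, hcompat, map_sub, sub_eq_zero,
        ← AlgHom.comp_apply, ← AlgHom.comp_apply, hcompat, hcompat] at this
      exact this
    choose ix xx hx using hsurj
    let L : S → B := fun s => l (ix s) (xx s)
    have hL : ∀ i (x : G i), L (g i x) = l i x := fun i x => hwd _ _ _ _ (hx _)
    have hpair : ∀ s t : S, ∃ i, ∃ x y : G i, g i x = s ∧ g i y = t := by
      intro s t
      obtain ⟨k, hik, hjk⟩ := directed_of (· ≤ ·) (ix s) (ix t)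
      refine ⟨k, f _ _ hik (xx s), f _ _ hjk (xx t), ?_, ?_⟩
      · rw [← AlgHom.comp_apply, hg, hx]
      · rw [← AlgHom.comp_apply, hg, hx]
    obtain ⟨i₀⟩ := (inferInstance : Nonempty ι)
    let χ : S →ₐ[R] B :=
      { toFun := L
        map_one' := by rw [← map_one (g i₀), hL, map_one]
        map_mul' := fun s t => by
          obtain ⟨i, x, y, rfl, rfl⟩ := hpair s t
          rw [← map_mul, hL, hL, hL, map_mul]
        map_zero' := by rw [← map_zero (g i₀), hL, map_zero]
        map_add' := fun s t => by
          obtain ⟨i, x, y, rfl, rfl⟩ := hpair s t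
          rw [← map_add, hL, hL, hL, map_add]
        commutes' := fun r => by rw [← (g i₀).commutes r, hL, AlgHom.commutes] }
    refine ⟨χ, AlgHom.ext fun s => ?_⟩
    show Ideal.Quotient.mk I (l (ix s) (xx s)) = ψ s
    rw [← Ideal.Quotient.mkₐ_eq_mk R, ← AlgHom.comp_apply, hl, AlgHom.comp_apply, hx]


end Groth.Agent.S9425
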