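import Groth.Statements.S9428
import Mathlib

set_option autoImplicit false
universe u
open CAlg

namespace Groth.Agent.S9428

/-- If R → S is formally étale and J ⊆ S is an ideal with R → S/J surjective, I ⊆ R its kernel (the
preimage of J), then R/I^n → S/J^n is bijective for all n. (The published statement adds that the
associated graded rings are then isomorphic, which follows from these bijections.) -/
theorem result (R : Type u) [CommRing R] (S : Type u)
    [CommRing S] [Algebra R S] [Algebra.FormallyEtale R S] (J : Ideal S)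
    (hJ : Function.Surjective (algebraMap R (S ⧸ J))) (n : ℕ) :
    Function.Bijective (Ideal.quotientMap (J ^ n) (algebraMap R S)
      (le_of_le_of_eq (Ideal.le_comap_pow (algebraMap R S) n) rfl :
        (J.comap (algebraMap R S)) ^ n ≤ (J ^ n).comap (algebraMap R S))) := by
  classical
  set I := J.comap (algebraMap R S) with hI
  let N : Ideal (R ⧸ I ^ n) := I.map (Ideal.Quotient.mk (I ^ n))
  have hN : IsNilpotent N := ⟨n, by
    rw [← Ideal.map_pow, Ideal.map_quotient_self]; rfl⟩
  rcases Nat.eq_zero_or_pos n with rfl | hn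
  · have : Subsingleton (R ⧸ I ^ 0) := Ideal.Quotient.subsingleton_iff.2 (by simp)
    have : Subsingleton (S ⧸ J ^ 0) := Ideal.Quotient.subsingleton_iff.2 (by simp)
    exact ⟨Function.injective_of_subsingleton _, fun y => ⟨0, Subsingleton.elim _ _⟩⟩
  set q := Ideal.quotientMap (J ^ n) (algebraMap R S)
    (le_of_le_of_eq (Ideal.le_comap_pow (algebraMap R S) n) rfl : I ^ n ≤ (J ^ n).comap (algebraMap R S))
  let qA : (R ⧸ I ^ n) →ₐ[R] S ⧸ J ^ n := { q with commutes' := fun r => rfl }
  let π : (R ⧸ I ^ n) →ₐ[R] S ⧸ J := (Ideal.Quotient.factorₐ R (Ideal.pow_le_self hn.ne')).comp qA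
  have hπ : Function.Surjective π := by
    intro y
    obtain ⟨r, rfl⟩ := hJ y
    exact ⟨algebraMap R _ r, π.commutes r⟩
  have hker : RingHom.ker π.toRingHom = N := by
    ext x
    obtain ⟨r, rfl⟩ := Ideal.Quotient.mk_surjective x
    rw [Ideal.mem_quotient_iff_mem (Ideal.pow_le_self hn.ne')]
    exact Ideal.Quotient.eq_zero_iff_mem
  let χ : S →ₐ[R] R ⧸ I ^ n :=
    Algebra.FormallySmooth.liftOfSurjective (Ideal.Quotient.mkₐ R J) π hπ (hker ▸ hN)
  have hχ : π.comp χ = Ideal.Quotient.mkₐ R J :=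
    Algebra.FormallySmooth.comp_liftOfSurjective (Ideal.Quotient.mkₐ R J) π hπ (hker ▸ hN)
  have hχJ : ∀ x ∈ J, χ x ∈ N := fun x hx => by
    rw [← hker, RingHom.mem_ker]
    show π (χ x) = 0
    rw [← AlgHom.comp_apply, hχ]
    exact Ideal.Quotient.eq_zero_iff_mem.2 hx
  have hχn : J ^ n ≤ RingHom.ker χ.toRingHom := by
    rw [← Ideal.map_eq_bot_iff_le_ker, Ideal.map_pow, eq_bot_iff]
    have hJN : J.map χ.toRingHom ≤ N := Ideal.map_le_iff_le_comap.2 fun x hx => hχJ x hx
    refine le_trans (Ideal.pow_right_mono hJN n) ?_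
    rw [← Ideal.map_pow, Ideal.map_quotient_self]
  have hqχ : qA.comp χ = Ideal.Quotient.mkₐ R (J ^ n) := by
    refine Algebra.FormallyUnramified.ext (J.map (Ideal.Quotient.mk (J ^ n))) ⟨n, ?_⟩ fun x => ?_
    · rw [← Ideal.map_pow, Ideal.map_quotient_self]; rfl
    · rw [Ideal.Quotient.eq, Ideal.Quotient.mkₐ_eq_mk]
      obtain ⟨z, hz⟩ := Ideal.Quotient.mk_surjective (qA (χ x))
      rw [AlgHom.comp_apply, ← hz, ← map_sub, Ideal.mem_quotient_iff_mem (Ideal.pow_le_self hn.ne'), ← Ideal.Quotient.eq]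
      have := AlgHom.congr_fun hχ x
      rw [AlgHom.comp_apply, Ideal.Quotient.mkₐ_eq_mk] at this
      rw [← this]
      show _ = Ideal.Quotient.factor (Ideal.pow_le_self hn.ne' : J ^ n ≤ J) (qA (χ x))
      rw [← hz]; rfl
  constructor
  · rw [injective_iff_map_eq_zero]
    intro x hx
    obtain ⟨r, rfl⟩ := Ideal.Quotient.mk_surjective x
    have h1 : algebraMap R S r ∈ J ^ n := Ideal.Quotient.eq_zero_iff_mem.1 hx
    have h2 : χ (algebraMap R S r) = 0 := hχn h1
    rwa [AlgHom.commutes] at h2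
  · intro y
    obtain ⟨s, rfl⟩ := Ideal.Quotient.mk_surjective y
    exact ⟨χ s, AlgHom.congr_fun hqχ s⟩


end Groth.Agent.S9428
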