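import Groth.Statements.S9429
import Groth.Agent.SmoothDim.Basic

set_option autoImplicit false
universe u
open Synt

namespace Groth.Agent.S9429

/-- A smooth algebra over a field k is a local complete intersection over k (finite type, and locally on
Spec S by principal opens a global complete intersection). -/
theorem result (k : Type u) [Field k] (S : Type u) [CommRing S] [Algebra k S]
    [Algebra.Smooth k S] : Synt.IsLCIOver k S := by
  exact Groth.Agent.SmoothDim.isLCIOver_of_smooth k S

end Groth.Agent.S9429
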