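import Groth.Statements.S9430
import Mathlib
import Groth.Agent.Synt29.CIPoints

set_option backward.isDefEq.respectTransparency.types false

set_option autoImplicit false
universe u
open Synt

namespace Groth.Agent.S9430

/-- For a field extension K/k, every finite subset of K lies in a k-subalgebra of K which is a global
complete intersection over k; so K is the directed union of its k-subalgebras that are global
complete intersections over k. -/
theorem result (k : Type u) [Field k] (K : Type u)
    [Field K] [Algebra k K] (E : Finset K) :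
    ∃ A : Subalgebra k K, (↑E : Set K) ⊆ (A : Set K) ∧ Synt.IsGlobalCI k A := by
  let B : Subalgebra k K := Algebra.adjoin k (E : Set K)
  haveI : Algebra.FiniteType k B := (Subalgebra.fg_iff_finiteType B).1 (Subalgebra.fg_adjoin_finset E)
  haveI : IsDomain B := inferInstance
  let L := Localization.AtPrime (⊥ : Ideal B)
  haveI : Algebra.EssFiniteType k L := by
    haveI := Algebra.EssFiniteType.of_isLocalization (R := B) L (⊥ : Ideal B).primeCompl
    exact Algebra.EssFiniteType.comp k B L
  have hLf : IsField L := by
    haveI : IsDomain L := IsLocalization.isDomain_localization (Ideal.primeCompl_le_nonZeroDivisors ⊥)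
    haveI : Ring.KrullDimLE 0 L := by
      refine Ring.KrullDimLE.mk₀ fun I hI => ?_
      have hI0 : I = IsLocalRing.maximalIdeal L := by
        refine le_antisymm (IsLocalRing.le_maximalIdeal hI.ne_top) ?_
        rw [← Localization.AtPrime.map_eq_maximalIdeal, Ideal.map_bot]
        exact bot_le
      rw [hI0]; infer_instance
    exact Ring.KrullDimLE.isField_of_isDomain
  letI := hLf.toField
  haveI : IsRegularLocalRing L := by
    refine IsRegularLocalRing.of_spanFinrank_maximalIdeal_le L ?_
    have hm : IsLocalRing.maximalIdeal L = ⊥ := IsLocalRing.isField_iff_maximalIdeal_eq.1 hLf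
    rw [hm, Submodule.spanFinrank_bot]
    exact ringKrullDim_nonneg_of_nontrivial
  have hCI : Synt.IsCIOver k L := Synt29.isCIOver_of_ciKer (AlgHom.id k L) Function.surjective_id
    ⟨0, Fin.elim0, (RingHom.injective_iff_ker_eq_bot _).1 Function.injective_id |>.trans (by simp), by simp⟩
  obtain ⟨g, hg, hgCI⟩ := Synt29.exists_isGlobalCI_away_of_isCIOver (⊥ : Ideal B) hCI
  have hg0 : (g : K) ≠ 0 := fun h => hg (Subtype.ext h)
  let φ : Localization.Away g →ₐ[k] K := IsLocalization.liftAlgHom (M := Submonoid.powers g) (f := B.val) (by
    rintro ⟨_, n, rfl⟩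
    show IsUnit ((g ^ n : B) : K)
    rw [SubmonoidClass.coe_pow]
    exact (Ne.isUnit hg0).pow n)
  have hφ : ∀ b, φ (algebraMap B _ b) = (b : K) := fun b => IsLocalization.lift_eq _ b
  have hinj : Function.Injective φ := by
    rw [injective_iff_map_eq_zero]
    intro z hz
    obtain ⟨n, b, hb⟩ := IsLocalization.Away.surj g z
    have h1 : (b : K) = 0 := by rw [← hφ b, ← hb, map_mul, hz, zero_mul]
    rw [show b = 0 from Subtype.ext h1, map_zero] at hb
    exact ((IsLocalization.Away.algebraMap_isUnit g).pow n).mul_left_eq_zero.1 hb
  refine ⟨φ.range, fun x hx => ⟨algebraMap B _ ⟨x, Algebra.subset_adjoin hx⟩, hφ _⟩, ?_⟩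
  let e := AlgEquiv.ofInjective φ hinj
  exact Synt29.isGlobalCI_of_equiv (RingEquiv.refl k) e.toRingEquiv (fun a => e.commutes a) hgCI

end Groth.Agent.S9430
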