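import Groth.Statements.S9431
import Groth.Agent.EGA41Lib.FieldFS
import Mathlib

set_option autoImplicit false
universe u
open CAlg

namespace Groth.Agent.S9431

/-- For a separable (geometrically reduced) field extension K/k, every finite subset of K lies in a
k-subalgebra of K which is smooth over k; in particular K is a filtered colimit of smooth
k-algebras. -/
theorem result (k : Type u) [Field k]
    (K : Type u) [Field K] [Algebra k K] [Algebra.IsGeometricallyReduced k K] (E : Finset K) :
    ∃ A : Subalgebra k K, (↑E : Set K) ⊆ (A : Set K) ∧ Algebra.Smooth k A := by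
  classical
  let A₀ : Subalgebra k K := Algebra.adjoin k (E : Set K)
  have : Algebra.FiniteType k A₀ := (Subalgebra.fg_iff_finiteType _).mp ⟨E, rfl⟩
  have hfp : Algebra.FinitePresentation k A₀ :=
    Algebra.FinitePresentation.of_finiteType.mp inferInstance
  let F := FractionRing A₀
  let j : F →ₐ[A₀] K := IsFractionRing.liftAlgHom (A := A₀) (g := Algebra.ofId A₀ K) Subtype.val_injective
  have : Algebra.IsGeometricallyReduced k F :=
    Algebra.IsGeometricallyReduced.of_injective (j.restrictScalars k) j.toRingHom.injective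
  have hFS : Algebra.FormallySmooth k F :=
    Groth.Agent.EGA41Lib.FieldFS.formallySmooth_of_isGeometricallyReduced k F
  have hbot : (⊥ : Ideal A₀).IsPrime := Ideal.isPrime_bot
  have hloc : IsLocalization (⊥ : Ideal A₀).primeCompl F := by
    have hM : (⊥ : Ideal A₀).primeCompl = nonZeroDivisors A₀ := by
      ext x; simp [Ideal.primeCompl]
    rw [hM]
    infer_instance
  have : Algebra.IsSmoothAt k (⊥ : Ideal A₀) :=
    Algebra.FormallySmooth.of_equiv ((IsLocalization.algEquiv (⊥ : Ideal A₀).primeCompl F
      (Localization.AtPrime (⊥ : Ideal A₀))).restrictScalars k)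
  obtain ⟨f, hf, hsm⟩ := Algebra.IsSmoothAt.exists_notMem_smooth (R := k) (⊥ : Ideal A₀)
  have hf0 : (f : K) ≠ 0 := by
    intro h0
    exact hf (by rw [Ideal.mem_bot]; exact Subtype.ext h0)
  let ι : Localization.Away f →ₐ[A₀] K := IsLocalization.liftAlgHom (M := Submonoid.powers f)
    (f := Algebra.ofId A₀ K) (fun y => by
      obtain ⟨_, n, rfl⟩ := y
      change IsUnit (((f ^ n : A₀) : K))
      rw [SubmonoidClass.coe_pow]
      exact (Ne.isUnit hf0).pow n)
  have hι : Function.Injective ι := by
    rw [injective_iff_map_eq_zero]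
    intro z hz
    obtain ⟨a, s, rfl⟩ := IsLocalization.exists_mk'_eq (Submonoid.powers f) z
    have h2 := congrArg ι (IsLocalization.mk'_spec (Localization.Away f) a s)
    rw [map_mul, hz, zero_mul, AlgHom.commutes] at h2
    have ha : a = 0 := Subtype.ext h2.symm
    rw [ha, IsLocalization.mk'_zero]
  let ι' : Localization.Away f →ₐ[k] K := ι.restrictScalars k
  refine ⟨ι'.range, fun x hx => ?_, ?_⟩
  · exact ⟨algebraMap A₀ _ ⟨x, Algebra.subset_adjoin hx⟩, ι.commutes _⟩
  · exact Algebra.Smooth.of_equiv (AlgEquiv.ofInjective ι' hι)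


end Groth.Agent.S9431
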