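import Groth.Statements.S9433
import Mathlib

set_option autoImplicit false
universe u
open CAlg

namespace Groth.Agent.S9433
open Polynomial in
theorem exists_root_mod_pow {R : Type*} [CommRing R] (f : R[X]) (a : R)
    (hd : ∀ c, c - a ∈ Ideal.span {eval a f} → IsUnit (eval c (derivative f))) (n : ℕ) :
    ∃ b, b - a ∈ Ideal.span {eval a f} ∧ eval b f ∈ Ideal.span {(eval a f) ^ (n + 1)} := by
  induction n with
  | zero => exact ⟨a, by simp, by rw [pow_one]; exact Ideal.mem_span_singleton_self _⟩
  | succ n ih =>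
    obtain ⟨b, hb, hfb⟩ := ih
    obtain ⟨u, hu⟩ := hd b hb
    let δ : R := -(eval b f) * (↑u⁻¹ : R)
    have hδ : δ ∈ Ideal.span {(eval a f) ^ (n + 1)} := Ideal.mul_mem_right _ _ (neg_mem hfb)
    refine ⟨b + δ, ?_, ?_⟩
    · rw [add_sub_right_comm]
      refine add_mem hb ?_
      refine (Ideal.span_singleton_le_span_singleton.2 (dvd_pow_self _ n.succ_ne_zero)) hδ
    · obtain ⟨k, hk⟩ := Polynomial.binomExpansion f b δ
      rw [hk, ← hu]
      have : eval b f + (u : R) * δ = 0 := by
        simp only [δ]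
        linear_combination (-(eval b f)) * u.mul_inv
      rw [this, zero_add]
      refine Ideal.mul_mem_left _ _ ?_
      obtain ⟨e, he⟩ := Ideal.mem_span_singleton'.1 hδ
      rw [← he, Ideal.mem_span_singleton]
      exact ⟨e ^ 2 * eval a f ^ n, by ring⟩


/-- Let R → S be a local homomorphism of local rings with S the localization of an étale R-algebra at a
prime, inducing an isomorphism of residue fields. Then for some t in the maximal ideal of R the maps
R/t^nR → S/t^nS are bijective for all n ≥ 1. -/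
theorem result (R : Type u) [CommRing R] [IsLocalRing R] (T : Type u) [CommRing T] [Algebra R T]
    [Algebra.Etale R T] (q : Ideal T) [q.IsPrime] (S : Type u) [CommRing S] [IsLocalRing S]
    [Algebra T S] [IsLocalization.AtPrime S q] [Algebra R S] [IsScalarTower R T S]
    [IsLocalHom (algebraMap R S)]
    (hres : Function.Bijective (IsLocalRing.ResidueField.map (algebraMap R S))) :
    ∃ t ∈ IsLocalRing.maximalIdeal R, ∀ n : ℕ, 1 ≤ n →
      Function.Bijective (Ideal.quotientMap ((Ideal.span {t ^ n}).map (algebraMap R S))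
        (algebraMap R S) Ideal.le_comap_map) := by
  classical
  obtain ⟨g, hgq, hg⟩ := Algebra.IsEtaleAt.exists_isStandardEtale (R := R) q
  obtain ⟨P⟩ := hg.nonempty_standardEtalePresentation
  have hgu : IsUnit (IsScalarTower.toAlgHom R T S g) := IsLocalization.map_units S (⟨g, hgq⟩ : q.primeCompl)
  let φ : Localization.Away g →ₐ[R] S := IsLocalization.liftAlgHom (M := Submonoid.powers g)
    (f := IsScalarTower.toAlgHom R T S) (by
      rintro ⟨_, k, rfl⟩
      show IsUnit (IsScalarTower.toAlgHom R T S (g ^ k))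
      rw [map_pow]
      exact hgu.pow k)
  have hφT : ∀ z : T, φ (algebraMap T (Localization.Away g) z) = algebraMap T S z := fun z =>
    IsLocalization.lift_eq _ _
  set x : S := φ P.x with hxdef
  have hx : P.P.HasMap x := P.hasMap.map φ
  obtain ⟨ra, hra⟩ := hres.2 (IsLocalRing.residue S x)
  obtain ⟨a, rfl⟩ := IsLocalRing.residue_surjective ra
  have hxa : IsLocalRing.residue S x = IsLocalRing.residue S (algebraMap R S a) := hra.symm.trans rfl
  have hev : ∀ p : Polynomial R, IsLocalRing.residue S (algebraMap R S (p.eval a)) =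
      IsLocalRing.residue S (Polynomial.aeval x p) := by
    intro p
    rw [← Polynomial.aeval_algebraMap_apply_eq_algebraMap_eval]
    have : ∀ y : S, IsLocalRing.residue S (Polynomial.aeval y p) =
        Polynomial.eval₂ ((IsLocalRing.residue S).comp (algebraMap R S)) (IsLocalRing.residue S y) p :=
      fun y => by rw [Polynomial.aeval_def, Polynomial.hom_eval₂]
    rw [this, this, hxa]
  have hunit : ∀ p : Polynomial R, IsUnit (Polynomial.aeval x p) → IsUnit (p.eval a) := by
    intro p hp
    refine isUnit_of_map_unit (algebraMap R S) _ ?_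
    rw [← IsLocalRing.residue_ne_zero_iff_isUnit, hev, IsLocalRing.residue_ne_zero_iff_isUnit]
    exact hp
  set t : R := P.f.eval a with htdef
  have htm : t ∈ IsLocalRing.maximalIdeal R := by
    rw [IsLocalRing.mem_maximalIdeal, mem_nonunits_iff]
    intro h
    have h1 := (IsLocalRing.residue_ne_zero_iff_isUnit _).2 (h.map (algebraMap R S))
    rw [hev, hx.1, map_zero] at h1
    exact h1 rfl
  have hga : IsUnit (P.g.eval a) := hunit _ hx.2
  have hda : IsUnit ((Polynomial.derivative P.f).eval a) := hunit _ hx.isUnit_derivative_f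
  have hnear : ∀ (p : Polynomial R) (c : R), c - a ∈ Ideal.span {t} → IsUnit (p.eval a) → IsUnit (p.eval c) := by
    intro p c hc hp
    have h1 : p.eval c - p.eval a ∈ IsLocalRing.maximalIdeal R := by
      refine (Ideal.span_le.2 (Set.singleton_subset_iff.2 htm)) ?_
      exact Ideal.mem_of_dvd _ (Polynomial.sub_dvd_eval_sub c a p) hc
    rw [← IsLocalRing.residue_ne_zero_iff_isUnit] at hp ⊢
    have h2 : IsLocalRing.residue R (p.eval c) = IsLocalRing.residue R (p.eval a) := Ideal.Quotient.eq.2 h1
    rwa [h2]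
  set J : ℕ → Ideal S := fun n => (Ideal.span {t ^ n}).map (algebraMap R S) with hJ
  have hJeq : ∀ n, J n = Ideal.span {algebraMap R S t ^ n} := fun n => by
    simp only [hJ, Ideal.map_span, Set.image_singleton, map_pow]
  have hxt : x - algebraMap R S a ∈ Ideal.span {algebraMap R S t} := by
    obtain ⟨w, hw⟩ := Polynomial.X_sub_C_dvd_sub_C_eval (p := P.f) (a := a)
    have hwa : w.eval a = (Polynomial.derivative P.f).eval a := by
      have h := congrArg (fun p => (Polynomial.derivative p).eval a) hw
      simp at h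
      exact h.symm
    have hwu : IsUnit (Polynomial.aeval x w) := by
      rw [← IsLocalRing.residue_ne_zero_iff_isUnit, ← hev, IsLocalRing.residue_ne_zero_iff_isUnit, hwa]
      exact hda.map _
    have h := congrArg (Polynomial.aeval x) hw
    simp only [map_sub, map_mul, Polynomial.aeval_X, Polynomial.aeval_C, hx.1, zero_sub] at h
    obtain ⟨u, hu⟩ := hwu
    refine Ideal.mem_span_singleton'.2 ⟨-(↑u⁻¹ : S), ?_⟩
    rw [← hu] at h
    linear_combination (↑u⁻¹ : S) * h + (x - algebraMap R S a) * u.mul_inv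
  let π1 := Ideal.Quotient.mkₐ R (Ideal.span {algebraMap R S t})
  have hπx : π1 x = algebraMap R _ a := by
    refine (Ideal.Quotient.eq.2 hxt).trans ?_
    exact (AlgHom.commutes π1 a)
  have hbase : ∀ y : S, ∃ r : R, y - algebraMap R S r ∈ Ideal.span {algebraMap R S t} := by
    have hA : ∀ z : Localization.Away g, ∃ r : R, π1 (φ z) = algebraMap R _ r := by
      intro z
      obtain ⟨p, n, hp⟩ := P.exists_mul_aeval_x_g_pow_eq_aeval_x z
      obtain ⟨v, hv⟩ := hga
      have hpe : ∀ p : Polynomial R, π1 (φ (Polynomial.aeval P.x p)) = algebraMap R _ (p.eval a) := fun p => by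
        rw [← Polynomial.aeval_algHom_apply φ, ← Polynomial.aeval_algHom_apply π1, hπx,
          Polynomial.aeval_algebraMap_apply_eq_algebraMap_eval]
      have h := congrArg (fun y => π1 (φ y)) hp
      simp only [map_mul, map_pow, hpe, ← hv] at h
      refine ⟨p.eval a * (↑v⁻¹ : R) ^ n, ?_⟩
      rw [map_mul, map_pow, ← h, mul_assoc, ← mul_pow, ← map_mul, v.mul_inv, map_one, one_pow, mul_one]
    intro y
    obtain ⟨⟨z, s⟩, hzs⟩ := IsLocalization.surj q.primeCompl y
    obtain ⟨r₁, hr₁⟩ := hA (algebraMap T _ z)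
    obtain ⟨r₂, hr₂⟩ := hA (algebraMap T _ (s : T))
    rw [hφT] at hr₁ hr₂
    have hr₂u : IsUnit r₂ := by
      refine isUnit_of_map_unit (algebraMap R S) _ ?_
      have h1 : algebraMap T S (s : T) - algebraMap R S r₂ ∈ Ideal.span {algebraMap R S t} :=
        Ideal.Quotient.eq.1 (hr₂.trans (AlgHom.commutes π1 r₂).symm)
      have h2 : Ideal.span {algebraMap R S t} ≤ IsLocalRing.maximalIdeal S :=
        Ideal.span_le.2 (Set.singleton_subset_iff.2 (map_nonunit (algebraMap R S) t htm))
      have h3 := (IsLocalRing.residue_ne_zero_iff_isUnit _).2 (IsLocalization.map_units S s)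
      rw [← IsLocalRing.residue_ne_zero_iff_isUnit,
        show IsLocalRing.residue S (algebraMap R S r₂) = IsLocalRing.residue S (algebraMap T S (s : T)) from
          (Ideal.Quotient.eq.2 (h2 h1)).symm]
      exact h3
    obtain ⟨v, rfl⟩ := hr₂u
    refine ⟨r₁ * (↑v⁻¹ : R), Ideal.Quotient.eq.1 ?_⟩
    have h := congrArg π1 hzs
    rw [map_mul, hr₁, hr₂] at h
    show π1 y = π1 (algebraMap R S _)
    rw [AlgHom.commutes, map_mul, ← h, mul_assoc, ← map_mul, v.mul_inv, map_one, mul_one]
  refine ⟨t, htm, fun n hn => ⟨?_, ?_⟩⟩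
  · obtain ⟨n, rfl⟩ : ∃ j, n = j + 1 := ⟨n - 1, by omega⟩
    obtain ⟨b, hb, hfb⟩ := exists_root_mod_pow P.f a (fun c hc => hnear _ c hc hda) n
    have hmap : P.P.HasMap (algebraMap R (R ⧸ Ideal.span {t ^ (n + 1)}) b) := by
      constructor
      · rw [Polynomial.aeval_algebraMap_apply_eq_algebraMap_eval]
        exact Ideal.Quotient.eq_zero_iff_mem.2 hfb
      · rw [Polynomial.aeval_algebraMap_apply_eq_algebraMap_eval]
        exact (hnear _ b hb hga).map _
    let σ0 : Localization.Away g →ₐ[R] R ⧸ Ideal.span {t ^ (n + 1)} :=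
      (P.P.lift _ hmap).comp P.equivRing.toAlgHom
    let σT : T →ₐ[R] R ⧸ Ideal.span {t ^ (n + 1)} := σ0.comp (IsScalarTower.toAlgHom R T _)
    have hσu : ∀ s : q.primeCompl, IsUnit (σT s) := by
      intro s
      obtain ⟨r, hr⟩ := Ideal.Quotient.mk_surjective (σT s)
      rw [← hr]
      refine IsUnit.map _ (isUnit_of_map_unit (algebraMap R S) _ ?_)
      have hle : Ideal.span {t ^ (n + 1)} ≤ (Ideal.span {algebraMap R S t}).comap (algebraMap R S) := by
        rw [Ideal.span_singleton_le_iff_mem, Ideal.mem_comap, map_pow]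
        exact Ideal.pow_mem_of_mem _ (Ideal.mem_span_singleton_self _) _ n.succ_pos
      let ρ : R ⧸ Ideal.span {t ^ (n + 1)} →ₐ[R] S ⧸ Ideal.span {algebraMap R S t} :=
        Ideal.Quotient.liftₐ _ (Algebra.ofId R _) fun z hz => by
          show algebraMap R (S ⧸ Ideal.span {algebraMap R S t}) z = 0
          rw [IsScalarTower.algebraMap_apply R S (S ⧸ Ideal.span {algebraMap R S t})]
          exact Ideal.Quotient.eq_zero_iff_mem.2 (hle hz)
      have heq : ρ.comp σ0 = π1.comp φ := by
        refine P.hom_ext ?_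
        show ρ (P.P.lift _ hmap (P.equivRing P.x)) = π1 x
        rw [P.equivRing_x, StandardEtalePair.lift_X, AlgHom.commutes, hπx, ← sub_eq_zero, ← map_sub]
        rw [IsScalarTower.algebraMap_apply R S (S ⧸ Ideal.span {algebraMap R S t})]
        refine Ideal.Quotient.eq_zero_iff_mem.2 ?_
        have := Ideal.mem_map_of_mem (algebraMap R S) hb
        rwa [Ideal.map_span, Set.image_singleton] at this
      have h1 : π1 (algebraMap R S r) = π1 (algebraMap T S (s : T)) := by
        rw [← hφT, ← AlgHom.comp_apply π1 φ, ← heq, AlgHom.commutes]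
        show _ = ρ (σT s)
        rw [← hr]
        exact (AlgHom.commutes ρ r).symm
      have h2 : Ideal.span {algebraMap R S t} ≤ IsLocalRing.maximalIdeal S :=
        Ideal.span_le.2 (Set.singleton_subset_iff.2 (map_nonunit (algebraMap R S) t htm))
      rw [← IsLocalRing.residue_ne_zero_iff_isUnit,
        show IsLocalRing.residue S (algebraMap R S r) = IsLocalRing.residue S (algebraMap T S (s : T)) from
          Ideal.Quotient.eq.2 (h2 (Ideal.Quotient.eq.1 h1)), IsLocalRing.residue_ne_zero_iff_isUnit]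
      exact IsLocalization.map_units S s
    let σ : S →ₐ[R] R ⧸ Ideal.span {t ^ (n + 1)} := IsLocalization.liftAlgHom (f := σT) hσu
    have hz : algebraMap R (R ⧸ Ideal.span {t ^ (n + 1)}) (t ^ (n + 1)) = 0 :=
      Ideal.Quotient.eq_zero_iff_mem.2 (Ideal.mem_span_singleton_self _)
    rw [injective_iff_map_eq_zero]
    intro w hw
    obtain ⟨w, rfl⟩ := Ideal.Quotient.mk_surjective w
    rw [Ideal.quotientMap_mk, Ideal.Quotient.eq_zero_iff_mem] at hw
    have hw' : algebraMap R S w ∈ J (n + 1) := hw
    rw [hJeq, ← map_pow] at hw'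
    obtain ⟨e, he⟩ := Ideal.mem_span_singleton'.1 hw'
    have h := congrArg σ he
    rw [map_mul, AlgHom.commutes, AlgHom.commutes, hz, mul_zero] at h
    exact h.symm
  · have hstep : ∀ (j : ℕ) (y : S), ∃ r : R, y - algebraMap R S r ∈ Ideal.span {algebraMap R S t ^ j} := by
      intro j
      induction j with
      | zero => exact fun y => ⟨0, by simp⟩
      | succ j ih =>
        intro y
        obtain ⟨r, hr⟩ := ih y
        obtain ⟨z, hz⟩ := Ideal.mem_span_singleton'.1 hr
        obtain ⟨r', hr'⟩ := hbase z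
        obtain ⟨z', hz'⟩ := Ideal.mem_span_singleton'.1 hr'
        refine ⟨r + t ^ j * r', Ideal.mem_span_singleton'.2 ⟨z', ?_⟩⟩
        rw [map_add, map_mul, map_pow]
        linear_combination hz + algebraMap R S t ^ j * hz'
    intro y
    obtain ⟨y, rfl⟩ := Ideal.Quotient.mk_surjective y
    obtain ⟨r, hr⟩ := hstep n y
    refine ⟨Ideal.Quotient.mk _ r, ?_⟩
    rw [Ideal.quotientMap_mk, eq_comm, Ideal.Quotient.eq]
    show _ ∈ J n
    rw [hJeq]
    exact hr


end Groth.Agent.S9433
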