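import Groth.Statements.S9453
import Mathlib

set_option autoImplicit false
universe u
open CAlg

namespace Groth.Agent.S9453

/-- For a standard étale R-algebra S there is an R-algebra S' which is finite, finitely presented and
flat over R, with Spec S' → Spec R surjective, and such that for every prime q of S and every prime
q' of S' lying over the same prime of R there are g' ∉ q' and an R-algebra map φ : S → S'_{g'} under
which the extension of q' pulls back to q. -/
theorem result (R : Type u) [CommRing R] (S : Type u)
    [CommRing S] [Algebra R S] [Algebra.IsStandardEtale R S] :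
    ∃ (S' : Type u) (_ : CommRing S') (_ : Algebra R S'),
      Module.Finite R S' ∧ Algebra.FinitePresentation R S' ∧ Module.Flat R S' ∧
        Function.Surjective (PrimeSpectrum.comap (algebraMap R S')) ∧
        ∀ (q : Ideal S) [q.IsPrime] (q' : Ideal S') [q'.IsPrime], q'.under R = q.under R →
          ∃ (g' : S') (_ : g' ∉ q') (φ : S →ₐ[R] Localization.Away g'),
            (q'.map (algebraMap S' (Localization.Away g'))).comap φ = q := by
  classical
  rcases subsingleton_or_nontrivial R with hR | hR
  · refine ⟨R, inferInstance, inferInstance, inferInstance, inferInstance, inferInstance,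
      fun p => ⟨p, PrimeSpectrum.ext (by simp)⟩, fun q _ q' hq' _ => ?_⟩
    exact absurd ((Ideal.eq_top_iff_one q').mpr (Subsingleton.elim (0 : R) 1 ▸ zero_mem _)) hq'.ne_top
  obtain ⟨P⟩ := Algebra.IsStandardEtale.nonempty_standardEtalePresentation (R := R) (S := S)
  obtain ⟨S', _, _, _, _, _, hsplit⟩ := P.monic_f.exists_splits_map
  haveI : Module.FinitePresentation R S' := Module.finitePresentation_of_projective R S'
  haveI : Algebra.FinitePresentation R S' := Algebra.FinitePresentation.of_finitePresentation R S'
  haveI : Module.FaithfullyFlat R S' := inferInstance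
  refine ⟨S', inferInstance, inferInstance, inferInstance, inferInstance, inferInstance,
    PrimeSpectrum.comap_surjective_of_faithfullyFlat, fun q _ q' _ hqq' => ?_⟩
  obtain ⟨m, hm⟩ := Polynomial.splits_iff_exists_multiset.mp hsplit
  rw [(P.monic_f.map (algebraMap R S')).leadingCoeff, map_one, one_mul] at hm
  -- residue fields
  haveI : Algebra.QuasiFinite R S := inferInstance
  let p := q.under R
  haveI : q.LiesOver p := ⟨rfl⟩
  haveI : q'.LiesOver p := ⟨hqq'.symm⟩
  letI := Localization.AtPrime.algebraOfLiesOver p q
  letI := Localization.AtPrime.algebraOfLiesOver p q'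
  haveI : Module.Finite p.ResidueField q.ResidueField := inferInstance
  haveI : Algebra.IsAlgebraic p.ResidueField q.ResidueField := Algebra.IsAlgebraic.of_finite _ _
  haveI : IsScalarTower R p.ResidueField q.ResidueField := IsScalarTower.of_algebraMap_eq fun r => by
    rw [IsScalarTower.algebraMap_apply R (Localization.AtPrime p) p.ResidueField,
      IsScalarTower.algebraMap_apply R (Localization.AtPrime q) q.ResidueField,
      IsScalarTower.algebraMap_apply R (Localization.AtPrime p) (Localization.AtPrime q) r]
    rfl
  haveI : IsScalarTower R p.ResidueField q'.ResidueField := IsScalarTower.of_algebraMap_eq fun r => by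
    rw [IsScalarTower.algebraMap_apply R (Localization.AtPrime p) p.ResidueField,
      IsScalarTower.algebraMap_apply R (Localization.AtPrime q') q'.ResidueField,
      IsScalarTower.algebraMap_apply R (Localization.AtPrime p) (Localization.AtPrime q') r]
    rfl
  let L := AlgebraicClosure q'.ResidueField
  let ι : q.ResidueField →ₐ[p.ResidueField] L := IsAlgClosed.lift
  let ψ : S →ₐ[R] L := (ι.restrictScalars R).comp (IsScalarTower.toAlgHom R S q.ResidueField)
  let ρ : S' →ₐ[R] L := (IsScalarTower.toAlgHom R q'.ResidueField L).comp (IsScalarTower.toAlgHom R S' q'.ResidueField)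
  have hψ : ∀ s, ψ s = 0 ↔ s ∈ q := fun s => by
    show ι (algebraMap S q.ResidueField s) = 0 ↔ _
    rw [map_eq_zero_iff ι ι.toRingHom.injective, ← RingHom.mem_ker, Ideal.ker_algebraMap_residueField]
  have hρ : ∀ s, ρ s = 0 ↔ s ∈ q' := fun s => by
    show algebraMap q'.ResidueField L (algebraMap S' q'.ResidueField s) = 0 ↔ _
    rw [map_eq_zero_iff _ (algebraMap q'.ResidueField L).injective, ← RingHom.mem_ker,
      Ideal.ker_algebraMap_residueField]
  have hPx : P.HasMap P.x := P.hasMap
  set y := ψ P.x with hy
  obtain ⟨hy0, hyg⟩ := hPx.map ψ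
  obtain ⟨a, ha, hay⟩ : ∃ a ∈ m, ρ a = y := by
    have h1 : Polynomial.eval₂ ρ.toRingHom y (P.f.map (algebraMap R S')) = 0 := by
      rw [Polynomial.eval₂_map, show ρ.toRingHom.comp (algebraMap R S') = algebraMap R L from ρ.comp_algebraMap]
      exact hy0
    rw [hm, Polynomial.eval₂_multiset_prod, Multiset.map_map, Multiset.prod_eq_zero_iff, Multiset.mem_map] at h1
    obtain ⟨a, ha, h2⟩ := h1
    refine ⟨a, ha, ?_⟩
    simp only [Function.comp_apply, Polynomial.eval₂_sub, Polynomial.eval₂_X, Polynomial.eval₂_C] at h2
    exact (sub_eq_zero.mp h2).symm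
  have ha0 : Polynomial.aeval a P.f = 0 := by
    rw [← Polynomial.eval_map_algebraMap, hm, Polynomial.eval_multiset_prod]
    refine Multiset.prod_eq_zero ?_
    rw [Multiset.map_map, Multiset.mem_map]
    exact ⟨a, ha, by simp⟩
  let g' : S' := Polynomial.aeval a P.g
  have hρg : ρ g' = Polynomial.aeval y P.g := by
    rw [← hay]; exact (Polynomial.aeval_algHom_apply ρ a P.g).symm
  have hg' : g' ∉ q' := fun h => hyg.ne_zero (hρg.symm.trans ((hρ g').mpr h))
  have hmap : P.HasMap (algebraMap S' (Localization.Away g') a) := by
    refine ⟨?_, ?_⟩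
    · rw [Polynomial.aeval_algebraMap_apply, ha0, map_zero]
    · rw [Polynomial.aeval_algebraMap_apply]
      exact IsLocalization.Away.algebraMap_isUnit g'
  let φ : S →ₐ[R] Localization.Away g' := (P.lift _ hmap).comp P.equivRing.toAlgHom
  let ρ' : Localization.Away g' →ₐ[R] L :=
    IsLocalization.Away.liftAlgHom (R := S') g' (f := ρ) (isUnit_iff_ne_zero.mpr (fun h => hg' ((hρ g').mp h)))
  have hρ'a : ∀ s, ρ' (algebraMap S' _ s) = ρ s := fun s => by
    simp [ρ']
  have hcomp : ρ'.comp φ = ψ := P.hom_ext (by
    show ρ' (P.lift _ hmap (P.equivRing P.x)) = y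
    rw [P.equivRing_x, StandardEtalePair.lift_X, hρ'a, hay])
  refine ⟨g', hg', φ, ?_⟩
  have hker : RingHom.ker ρ'.toRingHom = q'.map (algebraMap S' (Localization.Away g')) := by
    rw [← IsLocalization.map_under (Submonoid.powers g') (Localization.Away g') (RingHom.ker ρ'.toRingHom)]
    congr 1
    ext s
    rw [Ideal.mem_comap, RingHom.mem_ker]
    exact (hρ'a s ▸ hρ s)
  ext s
  rw [Ideal.mem_comap, ← hker, RingHom.mem_ker, ← hψ, ← hcomp]
  rfl


end Groth.Agent.S9453
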