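import Groth.Statements.S9434
import Groth.Agent.S9453
import Mathlib

set_option autoImplicit false
universe u
open CAlg

namespace Groth.Agent.S9434

/-- Let R → S be a local homomorphism of local rings with S the localization of an étale R-algebra at a
prime. Then there is a finite, finitely presented, faithfully flat R-algebra S' such that for every
maximal ideal m' of S' the structure map R → S'_{m'} factors through some R-algebra map S → S'_{m'}. -/
theorem result (R : Type u) [CommRing R] [IsLocalRing R] (T : Type u) [CommRing T] [Algebra R T]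
    [Algebra.Etale R T] (q : Ideal T) [q.IsPrime] (S : Type u) [CommRing S] [IsLocalRing S]
    [Algebra T S] [IsLocalization.AtPrime S q] [Algebra R S] [IsScalarTower R T S]
    [IsLocalHom (algebraMap R S)] :
    ∃ (S' : Type u) (_ : CommRing S') (_ : Algebra R S'),
      Module.Finite R S' ∧ Algebra.FinitePresentation R S' ∧ Module.FaithfullyFlat R S' ∧
        ∀ (m' : Ideal S') [m'.IsMaximal], Nonempty (S →ₐ[R] Localization.AtPrime m') := by
  classical
  obtain ⟨g, hgq, hstd⟩ := Algebra.IsEtaleAt.exists_isStandardEtale (R := R) q
  obtain ⟨S', i1, i2, h1, h2, h3, h4, h5⟩ := S9453.result R (Localization.Away g)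
  haveI : Module.FaithfullyFlat R S' := Module.FaithfullyFlat.of_comap_surjective h4
  refine ⟨S', i1, i2, h1, h2, ‹_›, fun m' _ => ?_⟩
  haveI hqg : (q.map (algebraMap T (Localization.Away g))).IsPrime :=
    IsLocalization.isPrime_of_isPrime_disjoint (Submonoid.powers g) _ q inferInstance
      ((Ideal.disjoint_powers_iff_notMem g (Ideal.IsPrime.isRadical ‹_›)).mpr hgq)
  have hu : (q.map (algebraMap T (Localization.Away g))).under T = q :=
    IsLocalization.under_map_of_isPrime_disjoint (Submonoid.powers g) _ inferInstance
      ((Ideal.disjoint_powers_iff_notMem g (Ideal.IsPrime.isRadical ‹_›)).mpr hgq)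
  have hqR : q.under R = IsLocalRing.maximalIdeal R := by
    have h := ((IsLocalRing.local_hom_TFAE (algebraMap R S)).out 0 4).mp ‹IsLocalHom (algebraMap R S)›
    rw [← h, IsScalarTower.algebraMap_eq R T S, ← Ideal.comap_comap]
    exact congrArg (Ideal.comap (algebraMap R T)) (IsLocalization.AtPrime.under_maximalIdeal S q).symm
  haveI : Algebra.IsIntegral R S' := inferInstance
  have hm' : m'.under R = IsLocalRing.maximalIdeal R :=
    IsLocalRing.eq_maximalIdeal (Ideal.isMaximal_comap_of_isIntegral_of_isMaximal m')
  obtain ⟨g', hg', φ, hφ⟩ := h5 (q.map (algebraMap T (Localization.Away g))) m' (by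
    rw [← Ideal.under_under (B := T) (q.map (algebraMap T (Localization.Away g))), hu, hqR, hm'])
  let j : Localization.Away g' →ₐ[R] Localization.AtPrime m' :=
    IsLocalization.Away.liftAlgHom (R := S') g' (f := IsScalarTower.toAlgHom R S' (Localization.AtPrime m'))
      (IsLocalization.map_units (Localization.AtPrime m') (⟨g', hg'⟩ : m'.primeCompl))
  refine ⟨IsLocalization.liftAlgHom (R := T) (M := q.primeCompl) (S := S)
    (f := (j.comp φ).comp (IsScalarTower.toAlgHom R T (Localization.Away g))) fun t => ?_⟩
  obtain ⟨z, ⟨s, hs⟩, hz⟩ := IsLocalization.exists_mk'_eq (Submonoid.powers g') (φ (algebraMap T (Localization.Away g) t.1))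
  have hz' : z ∉ m' := fun hzm => by
    have h1 : φ (algebraMap T (Localization.Away g) t.1) ∈ m'.map (algebraMap S' (Localization.Away g')) := by
      rw [← hz, IsLocalization.mk'_mem_map_algebraMap_iff]
      exact ⟨1, one_mem _, by rwa [one_mul]⟩
    rw [← Ideal.mem_comap, hφ] at h1
    exact t.2 (hu.le h1)
  show IsUnit (j (φ (algebraMap T (Localization.Away g) t.1)))
  rw [← hz]
  have hjs : j (algebraMap S' (Localization.Away g') z) = algebraMap S' (Localization.AtPrime m') z := by
    simp [j]
  have hmul := congrArg j (IsLocalization.mk'_spec (Localization.Away g') z (⟨s, hs⟩ : Submonoid.powers g'))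
  rw [map_mul, hjs] at hmul
  exact isUnit_of_mul_isUnit_left (hmul ▸ IsLocalization.map_units (Localization.AtPrime m') (⟨z, hz'⟩ : m'.primeCompl))


end Groth.Agent.S9434
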