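import Groth.Statements.S9439
import Groth.Agent.FlatLoc6.Rk
import Groth.Agent.LC.CanonComplete
import Mathlib

set_option autoImplicit false
universe u
open CAlg

namespace Groth.Agent.S9439

/-- Let R be a Noetherian local ring, R^ its completion and p a prime with R_p a discrete valuation ring
and with R^/pR^ reduced (p analytically unramified: the completion of R/p, which is R^/pR^, is
reduced). Then the localization of R^ at any associated prime of R^/pR^ is a discrete valuation
ring. -/
theorem result
    (R : Type u) [CommRing R] [IsLocalRing R] [IsNoetherianRing R] (p : Ideal R) [p.IsPrime]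
    [IsDomain (Localization.AtPrime p)] [IsDiscreteValuationRing (Localization.AtPrime p)]
    (hp : IsReduced (AdicCompletion (IsLocalRing.maximalIdeal R) R ⧸
      p.map (algebraMap R (AdicCompletion (IsLocalRing.maximalIdeal R) R))))
    (q : Ideal (AdicCompletion (IsLocalRing.maximalIdeal R) R)) [q.IsPrime]
    (hq : q ∈ associatedPrimes (AdicCompletion (IsLocalRing.maximalIdeal R) R)
      (AdicCompletion (IsLocalRing.maximalIdeal R) R ⧸
        p.map (algebraMap R (AdicCompletion (IsLocalRing.maximalIdeal R) R)))) :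
    ∃ _ : IsDomain (Localization.AtPrime q), IsDiscreteValuationRing (Localization.AtPrime q) := by
  haveI := LC.Canon.isNoetherianRing_completion (R := R)
  haveI := LC.Canon.faithfullyFlat_completion (R := R)
  set Ah := AdicCompletion (IsLocalRing.maximalIdeal R) R with hAh
  set I := p.map (algebraMap R Ah) with hI
  have hrad : I.IsRadical := (Ideal.isRadical_iff_quotient_reduced I).mpr hp
  obtain ⟨hqp, x, hx⟩ := IsAssociatedPrime.isPrime hq, hq.2
  obtain ⟨x, rfl⟩ := Ideal.Quotient.mk_surjective x
  have hqmem : ∀ a, a ∈ q ↔ ∃ n : ℕ, (a * x) ∈ I ∨ (a ^ n * x) ∈ I := by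
    intro a
    rw [hx]
    simp only [Ideal.mem_radical_iff, Submodule.mem_colon_singleton, Submodule.mem_bot, Algebra.smul_def,
      Ideal.Quotient.algebraMap_eq, ← map_mul, Ideal.Quotient.eq_zero_iff_mem]
    constructor
    · rintro ⟨n, hn⟩; exact ⟨n, Or.inr hn⟩
    · rintro ⟨n, hn | hn⟩
      · exact ⟨1, by rwa [pow_one]⟩
      · exact ⟨n, hn⟩
  have hIq : I ≤ q := fun a ha => (hqmem a).mpr ⟨0, Or.inl (I.mul_mem_right x ha)⟩
  have hxI : x ∉ I := fun hxI => Ideal.IsPrime.ne_top (I := q) inferInstance
    ((Ideal.eq_top_iff_one q).mpr ((hqmem 1).mpr ⟨0, Or.inl (by rwa [one_mul])⟩))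
  have hqmin : q ∈ I.minimalPrimes := by
    have hint : (I.minimalPrimes : Set (Ideal Ah)).Finite := Ideal.finite_minimalPrimes_of_isNoetherianRing Ah I
    by_contra hqn
    have hnle : ∀ P ∈ I.minimalPrimes, ¬ q ≤ P := by
      intro P hP hle
      haveI := hP.1.1
      exact hqn (le_antisymm hle (hP.2 ⟨inferInstance, hIq⟩ hle) ▸ hP)
    have hsub : ¬ (q : Set Ah) ⊆ ⋃ P ∈ hint.toFinset, (P : Set Ah) := by
      intro hsub
      obtain ⟨P, hP, hle⟩ := (Ideal.subset_union_prime (f := id) ⊥ ⊥
        (fun P hP _ _ => (hint.mem_toFinset.mp hP).1.1)).mp hsub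
      exact hnle P (hint.mem_toFinset.mp hP) hle
    obtain ⟨a, ha, hna⟩ := Set.not_subset.mp hsub
    refine hxI ?_
    rw [← hrad.radical, ← Ideal.sInf_minimalPrimes (I := I), Ideal.mem_sInf]
    intro P hP
    have hPp := hP.1.1
    have haP : a ∉ P := fun h => hna (Set.mem_iUnion₂.mpr ⟨P, hint.mem_toFinset.mpr hP, h⟩)
    obtain ⟨n, hn | hn⟩ := (hqmem a).mp ha
    · exact ((hPp.mem_or_mem (hP.1.2 hn)).resolve_left haP)
    · exact ((hPp.mem_or_mem (hP.1.2 hn)).resolve_left (fun h => haP (hPp.mem_of_pow_mem n h)))
  have hcomap : q.comap (algebraMap R Ah) = p := by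
    have hple : p ≤ q.comap (algebraMap R Ah) := Ideal.map_le_iff_le_comap.mp hIq
    haveI : q.LiesOver (q.comap (algebraMap R Ah)) := ⟨rfl⟩
    obtain ⟨q', hq'le, hq'p, hq'o⟩ := Ideal.exists_ideal_le_liesOver_of_le (S := Ah) (p := p)
      (q := q.comap (algebraMap R Ah)) q hple
    have := hqmin.2 ⟨hq'p, Ideal.map_le_iff_le_comap.mpr hq'o.over.le⟩ hq'le
    have : q' = q := le_antisymm hq'le this
    subst this
    exact hq'o.over.symm
  haveI : q.LiesOver p := ⟨hcomap.symm⟩
  letI := Localization.AtPrime.algebraOfLiesOver p q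
  haveI : IsLocalHom (algebraMap (Localization.AtPrime p) (Localization.AtPrime q)) := by
    rw [RingHom.algebraMap_toAlgebra]
    exact Localization.isLocalHom_localRingHom p q (algebraMap R Ah) Ideal.LiesOver.over
  haveI : IsNoetherianRing (Localization.AtPrime q) := IsLocalization.isNoetherianRing q.primeCompl _ inferInstance
  have hm : (IsLocalRing.maximalIdeal (Localization.AtPrime p)).map
      (algebraMap (Localization.AtPrime p) (Localization.AtPrime q)) =
      IsLocalRing.maximalIdeal (Localization.AtPrime q) := by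
    rw [← Localization.AtPrime.map_eq_maximalIdeal, Ideal.map_map, ← IsScalarTower.algebraMap_eq,
      IsScalarTower.algebraMap_eq R Ah (Localization.AtPrime q), ← Ideal.map_map, ← hI]
    refine le_antisymm (Ideal.map_le_iff_le_comap.mpr ?_) ?_
    · exact hIq.trans (le_of_eq (IsLocalization.AtPrime.under_maximalIdeal (Localization.AtPrime q) q).symm)
    · have hmr := IsLocalization.map_radical (M := q.primeCompl) (S := Localization.AtPrime q) I
      rw [← hrad.radical, hmr, Ideal.radical_eq_sInf]
      refine le_sInf fun P ⟨hP, hPp⟩ => ?_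
      have h1 : I ≤ P.comap (algebraMap Ah (Localization.AtPrime q)) := Ideal.map_le_iff_le_comap.mp hP
      have h2 : P.comap (algebraMap Ah (Localization.AtPrime q)) ≤ q := by
        exact (Ideal.comap_mono (IsLocalRing.le_maximalIdeal hPp.ne_top)).trans
          (le_of_eq (IsLocalization.AtPrime.under_maximalIdeal (Localization.AtPrime q) q))
      have h3 := hqmin.2 ⟨inferInstance, h1⟩ h2
      rw [← Localization.AtPrime.map_eq_maximalIdeal]
      exact Ideal.map_le_iff_le_comap.mpr h3
  haveI : IsRegularLocalRing (Localization.AtPrime p) := inferInstance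
  haveI : Module.Flat (Localization.AtPrime p) (Localization.AtPrime q) := inferInstance
  have hreg : IsRegularLocalRing (Localization.AtPrime q) := by
    refine FlatLoc6.isRegularLocalRing_of_flat_fibre (A := Localization.AtPrime p) ?_
    rw [hm]
    letI := Ideal.Quotient.field (IsLocalRing.maximalIdeal (Localization.AtPrime q))
    infer_instance
  haveI := hreg
  haveI hdom := RegLoc6.isDomain_of_isRegularLocalRing (Localization.AtPrime q)
  refine ⟨hdom, ?_⟩
  have hdim : ringKrullDim (Localization.AtPrime q) = 1 := by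
    rw [Hensel.ringKrullDim_eq_of_flat_of_map_maximalIdeal_eq (R := Localization.AtPrime p)
      (S := Localization.AtPrime q) hm, IsPrincipalIdealRing.ringKrullDim_eq_one _
        (IsDiscreteValuationRing.not_isField (Localization.AtPrime p))]
  have hnf : ¬ IsField (Localization.AtPrime q) := fun hF => by
    rw [ringKrullDim_eq_zero_of_isField hF] at hdim
    exact zero_ne_one hdim
  have hc := (IsRegularLocalRing.iff_finrank_cotangentSpace _).mp hreg
  rw [hdim] at hc
  exact ((IsDiscreteValuationRing.TFAE (Localization.AtPrime q) hnf).out 0 5).mpr (by exact_mod_cast hc)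


end Groth.Agent.S9439
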