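import Groth.Statements.S9440
import Groth.Agent.CompleteNagata.Unramified
import Groth.Agent.CAlgOdd.NagataFT.Basic
import Groth.Agent.S0576
import Mathlib

set_option autoImplicit false
universe u
open CAlg

namespace Groth.Agent.S9440
open IsLocalRing

theorem finite_closure_of_reduced (S L : Type u) [CommRing S] [IsDomain S] [IsLocalRing S] [IsNoetherianRing S]
    [Field L] [Algebra S L] [IsFractionRing S L] (hred : IsReduced (EGA4.Cpl S)) :
    Module.Finite S (integralClosure S L) := by
  haveI := hred
  haveI : IsScalarTower S S L := IsScalarTower.left S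
  exact Groth.Agent.CompleteNagata.finite_integralClosure_of_reduced_tensor S S L (nonZeroDivisors S) le_rfl
    (isReduced_of_injective (Algebra.TensorProduct.rid S S (EGA4.Cpl S)).toRingEquiv.toRingHom
      (Algebra.TensorProduct.rid S S (EGA4.Cpl S)).injective)

theorem finite_of_integralClosure_tower (A T L : Type u) [CommRing A] [IsNoetherianRing A] [CommRing T] [CommRing L]
    [Algebra A T] [Algebra T L] [Algebra A L] [IsScalarTower A T L] [Module.Finite A T]
    [Module.Finite T (integralClosure T L)] : Module.Finite A (integralClosure A L) := by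
  haveI : Module.Finite A (integralClosure T L) := Module.Finite.trans T _
  let i : integralClosure A L →ₗ[A] integralClosure T L :=
    { toFun := fun z => ⟨z.1, IsIntegral.tower_top z.2⟩
      map_add' := fun _ _ => rfl
      map_smul' := fun _ _ => rfl }
  haveI := isNoetherian_of_isNoetherianRing_of_finite A (integralClosure T L)
  exact Module.Finite.of_injective i fun a b e =>
    Subtype.ext (congrArg (fun z : integralClosure T L => (z : L)) e)

theorem finite_closure_of_hyp (A : Type u) [CommRing A] [IsDomain A] [IsLocalRing A] [IsNoetherianRing A]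
    (L : Type u) [Field L] [Algebra A L] [Algebra (FractionRing A) L] [IsScalarTower A (FractionRing A) L]
    [FiniteDimensional (FractionRing A) L]
    (h : ∀ (S : Type u) [CommRing S] [IsDomain S] [IsLocalRing S] [Algebra A S] [IsLocalHom (algebraMap A S)]
      [Module.Finite A S], IsReduced (AdicCompletion (maximalIdeal S) S)) :
    Module.Finite A (integralClosure A L) := by
  classical
  let K := FractionRing A
  by_cases hA : maximalIdeal A = ⊥
  · have hF : IsField A := IsLocalRing.isField_iff_maximalIdeal_eq.2 hA
    haveI : Module.Finite A K := Module.Finite.of_surjective (Algebra.linearMap A K) fun z => by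
      obtain ⟨x, y, hy, rfl⟩ := IsFractionRing.div_surjective (A := A) z
      obtain ⟨w, hw⟩ := hF.mul_inv_cancel (nonZeroDivisors.ne_zero hy)
      refine ⟨x * w, ?_⟩
      have hy' : algebraMap A K y ≠ 0 :=
        (map_ne_zero_iff _ (IsFractionRing.injective A K)).2 (nonZeroDivisors.ne_zero hy)
      show algebraMap A K (x * w) = _
      rw [eq_div_iff hy', ← map_mul, mul_assoc, mul_comm w, hw, mul_one]
    haveI : Module.Finite A L := Module.Finite.trans K L
    exact Module.Finite.of_injective (integralClosure A L).val.toLinearMap Subtype.val_injective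
  obtain ⟨c, hcm, hc0⟩ := Submodule.exists_mem_ne_zero_of_ne_bot hA
  have hinj : Function.Injective (algebraMap A L) := by
    rw [IsScalarTower.algebraMap_eq A K L]
    exact (algebraMap K L).injective.comp (IsFractionRing.injective A K)
  let b := Module.Free.chooseBasis K L
  have hex : ∀ i, ∃ s : A, s ≠ 0 ∧ IsIntegral A (algebraMap A L s * b i) := fun i => by
    obtain ⟨s, hs⟩ := IsIntegral.exists_multiple_integral_of_isLocalization (nonZeroDivisors A) (b i)
      (IsIntegral.of_finite K (b i))
    exact ⟨s, nonZeroDivisors.ne_zero s.2, by rwa [← Algebra.smul_def]⟩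
  choose s hs hint using hex
  let B := Algebra.adjoin A (Set.range fun i => algebraMap A L (s i) * b i)
  haveI : Module.Finite A B := Algebra.finite_adjoin_of_finite_of_isIntegral (Set.finite_range _)
    (by rintro _ ⟨i, rfl⟩; exact hint i)
  haveI : Algebra.IsIntegral A B := Algebra.IsIntegral.of_finite A B
  have hfracB : ∀ z : L, ∃ x y : B, y ≠ 0 ∧ z = (x : L) / (y : L) := fun z => by
    let ι : FractionRing B →+* L :=
      IsFractionRing.lift (g := algebraMap B L) (show Function.Injective (algebraMap B L) from Subtype.val_injective)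
    have hB : ∀ x : B, (x : L) ∈ ι.fieldRange := fun x => ⟨algebraMap B _ x, IsFractionRing.lift_algebraMap _ x⟩
    have hAK : ∀ c : K, algebraMap K L c ∈ ι.fieldRange := fun c => by
      obtain ⟨x, y, -, rfl⟩ := IsFractionRing.div_surjective A c
      rw [map_div₀, ← IsScalarTower.algebraMap_apply, ← IsScalarTower.algebraMap_apply]
      exact div_mem (hB (algebraMap A B x)) (hB (algebraMap A B y))
    have hb : ∀ i, b i ∈ ι.fieldRange := fun i => by
      have h0 : algebraMap A L (s i) ≠ 0 := (map_ne_zero_iff _ hinj).mpr (hs i)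
      rw [← mul_div_cancel_left₀ (b i) h0]
      exact div_mem (hB ⟨_, Algebra.subset_adjoin ⟨i, rfl⟩⟩) (hB (algebraMap A B (s i)))
    obtain ⟨w, hw⟩ : z ∈ ι.fieldRange := by
      rw [← b.sum_repr z]
      exact Subfield.sum_mem _ fun i _ => by rw [Algebra.smul_def]; exact mul_mem (hAK _) (hb i)
    obtain ⟨x, y, hy, rfl⟩ := IsFractionRing.div_surjective B w
    refine ⟨x, y, nonZeroDivisors.ne_zero hy, ?_⟩
    simp only [ι] at hw
    rw [map_div₀, IsFractionRing.lift_algebraMap, IsFractionRing.lift_algebraMap] at hw
    exact hw.symm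
  -- the glued local subring
  let J : Ideal B := (⊥ : Ideal B).jacobson
  let T : Subalgebra A B := (⊥ : Subalgebra A (B ⧸ J)).comap (Ideal.Quotient.mkₐ A J)
  have hmT : ∀ x : B, x ∈ T ↔ ∃ a : A, x - algebraMap A B a ∈ J := fun x => by
    rw [Subalgebra.mem_comap, Algebra.mem_bot]
    constructor
    · rintro ⟨a, ha⟩; exact ⟨a, Ideal.Quotient.eq.1 ha.symm⟩
    · rintro ⟨a, ha⟩; exact ⟨a, (Ideal.Quotient.eq.2 ha).symm⟩
  have hmax : ∀ n : Ideal B, n.IsMaximal → ∀ a ∈ maximalIdeal A, algebraMap A B a ∈ n := fun n hn a ha => by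
    haveI := hn
    have h1 : (n.under A).IsMaximal := inferInstance
    rw [← IsLocalRing.eq_maximalIdeal h1] at ha
    exact ha
  have hJ : ∀ a ∈ maximalIdeal A, algebraMap A B a ∈ J := fun a ha => by
    simp only [J, Ideal.jacobson, Ideal.mem_sInf]
    rintro n ⟨-, hn⟩
    exact hmax n hn a ha
  have hunit : ∀ (t : T) (a : A), (t : B) - algebraMap A B a ∈ J → IsUnit a → IsUnit t := by
    intro t a ht ha
    have htu : IsUnit (t : B) := by
      by_contra hu
      obtain ⟨n, hn, htn⟩ := exists_max_ideal_of_mem_nonunits hu
      haveI := hn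
      have h1 : (t : B) - algebraMap A B a ∈ n :=
        (Ideal.mem_sInf.1 (show (t : B) - algebraMap A B a ∈ sInf {n : Ideal B | ⊥ ≤ n ∧ n.IsMaximal} from ht)) ⟨bot_le, hn⟩
      have : algebraMap A B a ∈ n := by simpa using n.sub_mem htn h1
      exact hn.ne_top (Ideal.eq_top_of_isUnit_mem _ this (ha.map _))
    obtain ⟨w, hw⟩ := htu.exists_right_inv
    obtain ⟨v, hv⟩ := ha.exists_right_inv
    have hwT : w ∈ T := (hmT w).2 ⟨v, by
      have e : w - algebraMap A B v = -(w * algebraMap A B v * ((t : B) - algebraMap A B a)) := by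
        have : algebraMap A B a * algebraMap A B v = 1 := by rw [← map_mul, hv, map_one]
        linear_combination (algebraMap A B v) * hw - w * this
      rw [e]
      exact neg_mem (Ideal.mul_mem_left _ _ ht)⟩
    exact IsUnit.of_mul_eq_one ⟨w, hwT⟩ (Subtype.ext hw)
  haveI : Nontrivial T := inferInstance
  haveI : IsLocalRing T := IsLocalRing.of_isUnit_or_isUnit_one_sub_self fun t => by
    obtain ⟨a, ha⟩ := (hmT _).1 t.2
    rcases IsLocalRing.isUnit_or_isUnit_one_sub_self a with h' | h'
    · exact Or.inl (hunit t a ha h')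
    · refine Or.inr (hunit (1 - t) (1 - a) ?_ h')
      have e : ((1 - t : T) : B) - algebraMap A B (1 - a) = -((t : B) - algebraMap A B a) := by
        show (1 : B) - (t : B) - algebraMap A B (1 - a) = -((t : B) - algebraMap A B a)
        rw [map_sub, map_one]; ring
      rw [e]; exact neg_mem ha
  haveI : IsNoetherian A B := isNoetherian_of_isNoetherianRing_of_finite A B
  haveI : Module.Finite A T := Module.Finite.of_injective T.val.toLinearMap Subtype.val_injective
  haveI : IsLocalHom (algebraMap A T) := ⟨fun a ha => by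
    by_contra hau
    obtain ⟨n, hn⟩ := Ideal.exists_maximal B
    exact hn.ne_top (Ideal.eq_top_of_isUnit_mem _ (hmax n hn a hau) (ha.map T.val))⟩
  have hred := h T
  haveI : IsScalarTower A T L := IsScalarTower.of_algebraMap_eq fun a => rfl
  haveI : FaithfulSMul T L := (faithfulSMul_iff_algebraMap_injective _ _).2 fun a b e => Subtype.ext (Subtype.ext e)
  haveI : IsNoetherianRing T := IsNoetherianRing.of_finite A T
  haveI : IsFractionRing T L := IsFractionRing.of_field T L fun z => by
    obtain ⟨x, y, hy, rfl⟩ := hfracB z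
    have hmem : ∀ w : B, algebraMap A B c * w ∈ T := fun w => (hmT _).2 ⟨0, by
      rw [map_zero, sub_zero]; exact Ideal.mul_mem_right _ _ (hJ c hcm)⟩
    refine ⟨⟨_, hmem x⟩, ⟨_, hmem y⟩, ?_⟩
    show (x : L) / y = (((algebraMap A B c * x : B)) : L) / ((algebraMap A B c * y : B) : L)
    rw [MulMemClass.coe_mul, MulMemClass.coe_mul, mul_div_mul_left]
    exact fun h0 => hc0 (hinj (by rw [map_zero]; exact h0))
  haveI := finite_closure_of_reduced T L hred
  exact finite_of_integralClosure_tower A T L


/-- (1) ⇔ (3): a Noetherian local ring R is a Nagata ring if and only if for every finite local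
homomorphism R → S of local rings with S a domain, the completion of S is reduced. -/
theorem result (R : Type u) [CommRing R]
    [IsLocalRing R] [IsNoetherianRing R] :
    CAlg.IsNagata R ↔ ∀ (S : Type u) [CommRing S] [IsDomain S] [IsLocalRing S] [Algebra R S]
      [IsLocalHom (algebraMap R S)] [Module.Finite R S],
      IsReduced (AdicCompletion (IsLocalRing.maximalIdeal S) S) := by
  constructor
  · intro hR S _ _ _ _ _ _
    exact Groth.Agent.S0576.result S (Groth.Agent.CAlgOdd.NagataFT.isNagata_of_finite S hR)
  · intro h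
    refine ⟨inferInstance, fun p _ => ?_⟩
    haveI : IsLocalRing (R ⧸ p) := IsLocalRing.of_surjective' (Ideal.Quotient.mk p) Ideal.Quotient.mk_surjective
    intro L _ _ _ _ hL
    refine finite_closure_of_hyp (R ⧸ p) L fun S _ _ _ _ _ _ => ?_
    letI : Algebra R S := ((algebraMap (R ⧸ p) S).comp (Ideal.Quotient.mk p)).toAlgebra
    haveI : IsScalarTower R (R ⧸ p) S := IsScalarTower.of_algebraMap_eq fun a => rfl
    haveI : Module.Finite R S := Module.Finite.trans (R ⧸ p) S
    haveI : IsLocalHom (algebraMap R S) := ⟨fun a ha => by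
      have h1 : IsUnit (Ideal.Quotient.mk p a) := isUnit_of_map_unit (algebraMap (R ⧸ p) S) _ ha
      by_contra hau
      haveI : IsLocalHom (Ideal.Quotient.mk p) := IsLocalHom.of_surjective _ Ideal.Quotient.mk_surjective
      exact hau (isUnit_of_map_unit (Ideal.Quotient.mk p) a h1)⟩
    exact h S


end Groth.Agent.S9440
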