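import Groth.Statements.S9441
import Mathlib
import Groth.Agent.Synt29.LocalRelGCI
import Groth.Agent.SmoothDim.Basic

set_option autoImplicit false
universe u
open Synt

namespace Groth.Agent.S9441

open Groth.Agent Groth.Agent.Synt29 TensorProduct MvPolynomial

set_option linter.style.haveILetI false

theorem isSmoothAt_of_minor {R : Type u} [CommRing R] {n c : ℕ} (F : Fin c → MvPolynomial (Fin n) R)
    (q : Ideal (Synt.RelGCIRing R n c F)) [q.IsPrime] (I : Fin c ↪ Fin n)
    (hq : Ideal.Quotient.mk (Ideal.span (Set.range F))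
      (Matrix.det (Matrix.of fun j i => MvPolynomial.pderiv (I i) (F j))) ∉ q) :
    Algebra.IsSmoothAt R q := by
  let S := Synt.RelGCIRing R n c F
  let P := Algebra.PreSubmersivePresentation.naive (R := R) (v := F) I I.injective
  have hj : P.jacobian = Ideal.Quotient.mk (Ideal.span (Set.range F))
      (Matrix.det (Matrix.of fun j i => MvPolynomial.pderiv (I i) (F j))) := by
    rw [Algebra.PreSubmersivePresentation.jacobian_eq_jacobiMatrix_det, ← Matrix.det_transpose (Matrix.of _)]
    show (Ideal.Quotient.mk (Ideal.span (Set.range F))) _ = _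
    congr 2
    ext i j
    simp [P]
  rw [← hj] at hq
  let T := Localization.Away P.jacobian
  let Q := (Algebra.SubmersivePresentation.localizationAway T P.jacobian).toPreSubmersivePresentation.comp P
  have hQ : IsUnit Q.jacobian := by
    rw [Algebra.PreSubmersivePresentation.comp_jacobian_eq_jacobian_smul_jacobian, Algebra.smul_def]
    exact (IsLocalization.Away.algebraMap_isUnit P.jacobian).mul
      (Algebra.SubmersivePresentation.localizationAway T P.jacobian).jacobian_isUnit
  haveI : Algebra.IsStandardSmooth R T :=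
    Algebra.SubmersivePresentation.isStandardSmooth ⟨Q, hQ⟩
  haveI : Algebra.FinitePresentation R S := Algebra.FinitePresentation.quotient (Submodule.fg_span (Set.finite_range F))
  exact (Algebra.basicOpen_subset_smoothLocus_iff_smooth (R := R) (f := P.jacobian)).2 inferInstance
    (show (⟨q, inferInstance⟩ : PrimeSpectrum S) ∈ PrimeSpectrum.basicOpen P.jacobian from hq)

/-- Linear algebra: a kernel of dimension at most `n - c` gives an invertible minor. -/
theorem exists_minor {K : Type u} [Field K] {n c : ℕ} (hcn : c ≤ n) (A : Matrix (Fin c) (Fin n) K)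
    (h : Module.finrank K (LinearMap.ker A.mulVecLin) ≤ n - c) :
    ∃ I : Fin c ↪ Fin n, (Matrix.of fun j i => A j (I i)).det ≠ 0 := by
  classical
  have h1 := LinearMap.finrank_range_add_finrank_ker A.mulVecLin
  rw [Module.finrank_pi, Fintype.card_fin] at h1
  have h2 := Submodule.finrank_le (LinearMap.range A.mulVecLin)
  rw [Module.finrank_pi, Fintype.card_fin] at h2
  have hr : Module.finrank K (LinearMap.range A.mulVecLin) = c := by omega
  rw [Matrix.range_mulVecLin] at hr
  obtain ⟨f, hf, -, hli⟩ := Submodule.exists_fun_fin_finrank_span_eq K (Set.range A.col)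
  choose idx hidx using hf
  let I : Fin c → Fin n := fun i => idx (Fin.cast hr.symm i)
  have hli' : LinearIndependent K fun i => A.col (I i) := by
    simp only [I, hidx]
    exact hli.comp _ (Fin.cast_injective _)
  refine ⟨⟨I, fun a b hab => hli'.injective (by simp only [hab])⟩, ?_⟩
  rw [← Matrix.det_transpose]
  refine ((Matrix.isUnit_iff_isUnit_det _).1 (Matrix.linearIndependent_rows_iff_isUnit.1 ?_)).ne_zero
  exact hli'

theorem exists_minor_of_isSmoothAt {R : Type u} [CommRing R] {n c : ℕ} {F : Fin c → MvPolynomial (Fin n) R}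
    (hF : Synt.IsRelGCI R n c F) (q : Ideal (Synt.RelGCIRing R n c F)) [q.IsPrime] [Algebra.IsSmoothAt R q] :
    ∃ I : Fin c ↪ Fin n, Ideal.Quotient.mk (Ideal.span (Set.range F))
        (Matrix.det (Matrix.of fun j i => MvPolynomial.pderiv (I i) (F j))) ∉ q := by
  classical
  let S := Synt.RelGCIRing R n c F
  haveI : Algebra.FinitePresentation R S := Algebra.FinitePresentation.quotient (Submodule.fg_span (Set.finite_range F))
  obtain ⟨g, hg, hstd⟩ := Algebra.IsSmoothAt.exists_notMem_isStandardSmooth R q
  obtain ⟨ι, σ, _, _, ⟨P⟩⟩ := hstd.out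
  let T := Localization.Away g
  let m := P.dimension
  haveI : Algebra.IsStandardSmoothOfRelativeDimension m R T := P.isStandardSmoothOfRelativeDimension rfl
  let p : PrimeSpectrum R := ⟨q.comap (algebraMap R S), inferInstance⟩
  let k := p.asIdeal.ResidueField
  obtain ⟨qT, hqT⟩ : (⟨q, inferInstance⟩ : PrimeSpectrum S) ∈ Set.range (PrimeSpectrum.comap (algebraMap S T)) := by
    rw [PrimeSpectrum.localization_away_comap_range T g]; exact hg
  obtain ⟨Q, -⟩ := FlatLoc6.exists_fiber_prime (B := T) p.asIdeal qT.asIdeal (by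
    show qT.asIdeal.comap (algebraMap R T) = q.comap (algebraMap R S)
    rw [IsScalarTower.algebraMap_eq R S T, ← Ideal.comap_comap,
      show qT.asIdeal.comap (algebraMap S T) = q from congrArg PrimeSpectrum.asIdeal hqT])
  haveI : Nontrivial (k ⊗[R] T) := PrimeSpectrum.nonempty_iff_nontrivial.1 ⟨Q⟩
  obtain ⟨Q0, -⟩ := FlatLoc6.exists_fiber_prime (B := S) p.asIdeal q rfl
  obtain ⟨hcn, hdim⟩ := hF p (PrimeSpectrum.nonempty_iff_nontrivial.1 ⟨Q0⟩)
  -- the relative dimension is `n - c`
  have hm : m = n - c := by
    have h1 : ringKrullDim (k ⊗[R] T) = m := SmoothDim.ringKrullDim_eq k _ m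
    let P' := ((Algebra.Presentation.localizationAway T g).comp (Algebra.Presentation.naive (R := R) (v := F))).baseChange k
    have h2 := card_le_ringKrullDim_add (k := k) (S := k ⊗[R] T) P'
    simp only [Nat.card_sum, Nat.card_unique, Nat.card_fin, h1] at h2
    have h3 : ringKrullDim (k ⊗[R] T) ≤ ringKrullDim (p.asIdeal.Fiber S) := by
      let ι' : p.asIdeal.Fiber S →ₐ[k] p.asIdeal.Fiber T :=
        Algebra.TensorProduct.map (AlgHom.id _ _) (IsScalarTower.toAlgHom R S T)
      letI : Algebra (p.asIdeal.Fiber S) (p.asIdeal.Fiber T) := ι'.toRingHom.toAlgebra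
      haveI hloc := IsLocalization.tensorProduct_tensorProduct_right R k (Submonoid.powers g) T
        (RingHom.ext fun s => by
          show ι' ((1 : k) ⊗ₜ[R] s) = _
          exact Algebra.TensorProduct.map_tmul _ _ _ _)
      exact Order.krullDim_le_of_strictMono (PrimeSpectrum.comap (algebraMap (p.asIdeal.Fiber S) (p.asIdeal.Fiber T)))
        (Monotone.strictMono_of_injective (fun _ _ h => Ideal.comap_mono h)
          (PrimeSpectrum.localization_comap_injective (p.asIdeal.Fiber T)
            ((Submonoid.powers g).map (Algebra.TensorProduct.includeRight : S →ₐ[R] p.asIdeal.Fiber S))))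
    rw [h1, hdim] at h3
    norm_cast at h2 h3
    omega
  -- derivations into the residue field
  let K := q.ResidueField
  have hgu : IsUnit (algebraMap S K g) := by
    rw [isUnit_iff_ne_zero, ne_eq, Ideal.algebraMap_residueField_eq_zero]; exact hg
  letI : Algebra T K := (IsLocalization.Away.lift g hgu).toAlgebra
  haveI : IsScalarTower S T K := IsScalarTower.of_algebraMap_eq (R := S) (S := T) (A := K) fun a => by
    exact (IsLocalization.Away.lift_eq g hgu a).symm
  let A : Matrix (Fin c) (Fin n) K :=
    Matrix.of fun j i => algebraMap S K (Ideal.Quotient.mk _ (MvPolynomial.pderiv i (F j)))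
  haveI : Module.Free T Ω[T⁄R] := Algebra.IsStandardSmooth.free_kaehlerDifferential
  haveI : Nontrivial T := PrimeSpectrum.nonempty_iff_nontrivial.1 ⟨qT⟩
  let b := Module.Free.chooseBasis T Ω[T⁄R]
  have hrank : Module.rank T Ω[T⁄R] = (m : Cardinal) :=
    Algebra.IsStandardSmoothOfRelativeDimension.rank_kaehlerDifferential m
  haveI : Module.Finite T Ω[T⁄R] := Module.finite_of_rank_eq_nat hrank
  have hfin : Module.finrank K (Ω[T⁄R] →ₗ[T] K) = m := by
    rw [← (b.constr K).finrank_eq, Module.finrank_pi, ← Module.finrank_eq_card_chooseBasisIndex,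
      Module.finrank_eq_of_rank_eq hrank]
  let Ψ : (Ω[T⁄R] →ₗ[T] K) →ₗ[K] (Fin n → K) :=
    LinearMap.pi fun i => LinearMap.applyₗ' K (KaehlerDifferential.D R T (algebraMap S T (Ideal.Quotient.mk _ (MvPolynomial.X i))))
  haveI : Module.Finite K (Ω[T⁄R] →ₗ[T] K) := Module.Finite.equiv (b.constr K)
  have hker : LinearMap.ker A.mulVecLin ≤ LinearMap.range Ψ := by
    intro w hw
    rw [LinearMap.mem_ker] at hw
    let D0 : Derivation R (MvPolynomial (Fin n) R) K := MvPolynomial.mkDerivation R w
    have hD0 : ∀ j, D0 (F j) = 0 := fun j => by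
      have h1 : D0 (F j) = ∑ i, MvPolynomial.pderiv i (F j) • w i := by
        have : D0 = ∑ i, (LinearMap.toSpanSingleton (MvPolynomial (Fin n) R) K (w i)).compDer (MvPolynomial.pderiv i) := by
          refine MvPolynomial.derivation_ext fun i => ?_
          rw [← Derivation.coeFnAddMonoidHom_apply (∑ _, _), map_sum, Finset.sum_apply]
          simp [D0, Pi.single_apply, apply_ite]
        rw [this, ← Derivation.coeFnAddMonoidHom_apply (∑ _, _), map_sum, Finset.sum_apply]
        rfl
      rw [h1]
      refine Eq.trans ?_ (congrFun hw j)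
      refine Finset.sum_congr rfl fun i _ => ?_
      rw [Algebra.smul_def]
      rfl
    let π : MvPolynomial (Fin n) R →ₐ[R] S := Ideal.Quotient.mkₐ R _
    have hzero : ∀ x ∈ Ideal.span (Set.range F), D0 x = 0 := fun x hx => by
      induction hx using Submodule.span_induction with
      | mem x hx => obtain ⟨j, rfl⟩ := hx; exact hD0 j
      | zero => exact map_zero _
      | add x y _ _ hx hy => rw [map_add, hx, hy, add_zero]
      | smul a x hx' hx =>
        rw [smul_eq_mul, Derivation.leibniz, hx, smul_zero, zero_add, ← algebraMap_smul S x,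
          show algebraMap (MvPolynomial (Fin n) R) S x = 0 from Ideal.Quotient.eq_zero_iff_mem.2 hx']
        exact zero_smul S (D0 a)
    let lf : S → K := Function.surjInv (f := π) Ideal.Quotient.mk_surjective |> fun σ => fun s => D0 (σ s)
    have hlf : ∀ x, lf (π x) = D0 x := fun x => by
      have h1 := Function.surjInv_eq (f := π) Ideal.Quotient.mk_surjective (π x)
      have h2 := hzero _ (Ideal.Quotient.eq.1 h1)
      rw [map_sub, sub_eq_zero] at h2
      exact h2
    let L : S →ₗ[R] K :=
      { toFun := lf
        map_add' := fun u v => by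
          obtain ⟨u, rfl⟩ := Ideal.Quotient.mk_surjective u
          obtain ⟨v, rfl⟩ := Ideal.Quotient.mk_surjective v
          show lf (π u + π v) = lf (π u) + lf (π v)
          rw [← map_add, hlf, hlf, hlf, map_add]
        map_smul' := fun r u => by
          obtain ⟨u, rfl⟩ := Ideal.Quotient.mk_surjective u
          show lf (r • π u) = r • lf (π u)
          rw [← map_smul, hlf, hlf, D0.map_smul] }
    let D1 : Derivation R S K := Derivation.mk' L fun u v => by
      obtain ⟨u, rfl⟩ := Ideal.Quotient.mk_surjective u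
      obtain ⟨v, rfl⟩ := Ideal.Quotient.mk_surjective v
      show lf (π u * π v) = π u • lf (π v) + π v • lf (π u)
      rw [← map_mul, hlf, hlf, hlf, Derivation.leibniz, ← algebraMap_smul S u, ← algebraMap_smul S v]
      rfl
    let ψ : Ω[S⁄R] →ₗ[S] K := D1.liftKaehlerDifferential
    have hu : ∀ x : Submonoid.powers g, IsUnit (algebraMap S (Module.End S K) x) := fun x => by
      obtain ⟨_, k, rfl⟩ := x
      refine (Module.End.isUnit_iff _).2 ?_
      have hu2 : IsUnit (algebraMap S K (g ^ k)) := by rw [map_pow]; exact hgu.pow k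
      show Function.Bijective fun y : K => (g ^ k) • y
      simp only [Algebra.smul_def]
      exact hu2.unit.mulLeft_bijective
    let φ0 : Ω[T⁄R] →ₗ[S] K := IsLocalizedModule.lift (Submonoid.powers g) (KaehlerDifferential.map R R S T) ψ hu
    let φ : Ω[T⁄R] →ₗ[T] K := φ0.extendScalarsOfIsLocalization (Submonoid.powers g) T
    refine ⟨φ, funext fun i => ?_⟩
    show φ0 (KaehlerDifferential.D R T (algebraMap S T (Ideal.Quotient.mk _ (MvPolynomial.X i)))) = w i
    rw [← KaehlerDifferential.map_D R R S T, IsLocalizedModule.lift_apply, Derivation.liftKaehlerDifferential_comp_D]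
    show D1 (π (MvPolynomial.X i)) = w i
    show lf (π (MvPolynomial.X i)) = w i
    rw [hlf]
    simp [D0]
  have hle : Module.finrank K (LinearMap.ker A.mulVecLin) ≤ n - c := by
    refine (Submodule.finrank_mono hker).trans ((LinearMap.finrank_range_le Ψ).trans ?_)
    rw [hfin, hm]
  obtain ⟨I, hI⟩ := exists_minor hcn A hle
  refine ⟨I, fun hmem => hI ?_⟩
  have := Ideal.algebraMap_residueField_eq_zero.2 hmem
  rw [RingHom.map_det, RingHom.map_det] at this
  exact this

/-- For a relative global complete intersection S = R[x_1, …, x_n]/(f_1, …, f_c) and a prime q of S, the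
map R → S is smooth at q if and only if some c × c minor of the Jacobian matrix (∂f_j/∂x_i), taken
on c distinct variables, has image outside q. -/
theorem result (R : Type u) [CommRing R] (n c : ℕ)
    (F : Fin c → MvPolynomial (Fin n) R) (hF : Synt.IsRelGCI R n c F)
    (q : Ideal (Synt.RelGCIRing R n c F)) [q.IsPrime] :
    Algebra.IsSmoothAt R q ↔ ∃ I : Fin c ↪ Fin n,
      Ideal.Quotient.mk (Ideal.span (Set.range F))
        (Matrix.det (Matrix.of fun j i => MvPolynomial.pderiv (I i) (F j))) ∉ q := by
  refine ⟨fun h => ?_, fun ⟨I, hI⟩ => isSmoothAt_of_minor F q I hI⟩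
  haveI := h
  exact exists_minor_of_isSmoothAt hF q

end Groth.Agent.S9441
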