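import Groth.Statements.S9442
import Groth.Agent.CotTLib.SmoothField
import Groth.Agent.EGA41Lib.FieldFS

set_option autoImplicit false
universe u
open CAlg

namespace Groth.Agent.S9442
open IsLocalRing TensorProduct in
theorem smoothAt_of_regular (k : Type u) [Field k] (B : Type u) [CommRing B] [Algebra k B]
    [Algebra.FiniteType k B] (q : Ideal B) [q.IsPrime]
    [Algebra.IsGeometricallyReduced k q.ResidueField]
    (h : IsRegularLocalRing (Localization.AtPrime q)) : Algebra.IsSmoothAt k q := by
  have := h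
  obtain ⟨n, φ, hφ⟩ := Algebra.FiniteType.iff_quotient_mvPolynomial''.1 ‹Algebra.FiniteType k B›
  let P₀ := MvPolynomial (Fin n) k
  let Q : Ideal P₀ := q.comap φ.toRingHom
  have : Q.IsPrime := Ideal.IsPrime.comap _
  let ψ₀ : Localization.AtPrime Q →ₐ[k] Localization.AtPrime q :=
    IsLocalization.liftAlgHom (M := Q.primeCompl)
      (f := (IsScalarTower.toAlgHom k B (Localization.AtPrime q)).comp φ)
      (fun y => IsLocalization.map_units (Localization.AtPrime q) (⟨φ y, y.2⟩ : q.primeCompl))
  let P := Localization.AtPrime Q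
  let : Algebra P (Localization.AtPrime q) := ψ₀.toRingHom.toAlgebra
  have : IsScalarTower k P (Localization.AtPrime q) :=
    IsScalarTower.of_algebraMap_eq' ψ₀.comp_algebraMap.symm
  have hψ : ∀ a : P₀, ψ₀ (algebraMap P₀ P a) = algebraMap B (Localization.AtPrime q) (φ a) :=
    fun a => IsLocalization.lift_eq _ a
  have hsurj : Function.Surjective (algebraMap P (Localization.AtPrime q)) := by
    intro z
    obtain ⟨b, s, rfl⟩ := IsLocalization.exists_mk'_eq q.primeCompl z
    obtain ⟨b, rfl⟩ := hφ b
    obtain ⟨s₀, hs₀⟩ := hφ s.1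
    have hs₀Q : s₀ ∈ Q.primeCompl := fun hmem => s.2 (hs₀ ▸ hmem)
    refine ⟨IsLocalization.mk' P b (⟨s₀, hs₀Q⟩ : Q.primeCompl), ?_⟩
    rw [eq_comm, IsLocalization.mk'_eq_iff_eq_mul, ← hs₀, ← hψ b, ← hψ s₀]
    change ψ₀ _ = ψ₀ _ * ψ₀ _
    rw [← map_mul, IsLocalization.mk'_spec]
  have : IsRegularLocalRing P := IsRegularRing.isRegularLocalRing_localization Q
  have : Module.Free P Ω[P⁄k] :=
    Module.Free.of_basis ((KaehlerDifferential.mvPolynomialBasis k (Fin n)).ofIsLocalizedModule P Q.primeCompl
      (KaehlerDifferential.map k k P₀ P))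
  have : Module.Finite P Ω[P⁄k] :=
    Module.Finite.of_basis ((KaehlerDifferential.mvPolynomialBasis k (Fin n)).ofIsLocalizedModule P Q.primeCompl
      (KaehlerDifferential.map k k P₀ P))
  have : Algebra.FormallySmooth k P := Algebra.FormallySmooth.comp k P₀ P
  let K := ResidueField (Localization.AtPrime q)
  have hPK : Function.Surjective (algebraMap P K) := by
    intro z
    obtain ⟨y, rfl⟩ := IsLocalRing.residue_surjective z
    obtain ⟨x, rfl⟩ := hsurj y
    exact ⟨x, rfl⟩
  have : Algebra.FormallySmooth k q.ResidueField :=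
    Groth.Agent.EGA41Lib.FieldFS.formallySmooth_of_isGeometricallyReduced k q.ResidueField
  have : Algebra.FormallySmooth k K := this
  obtain ⟨σ, hσ⟩ := (Algebra.FormallySmooth.iff_split_injection (P := P) hPK).1 ‹_›
  have hker : RingHom.ker (algebraMap P K) = maximalIdeal P :=
    IsLocalRing.eq_maximalIdeal (RingHom.ker_isMaximal_of_surjective (algebraMap P K) hPK)
  refine (Algebra.FormallySmooth.iff_injective_cotangentComplexBaseChange P K hsurj
    (IsNoetherian.noetherian _) (fun x hx => Ideal.Quotient.eq_zero_iff_mem.2 hx)).2 ?_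
  refine (injective_iff_map_eq_zero _).2 fun z hz => ?_
  obtain ⟨f, rfl⟩ : ∃ f, z = (1 : K) ⊗ₜ f := by
    clear hz
    induction z using TensorProduct.induction_on with
    | zero => exact ⟨0, (TensorProduct.tmul_zero _ _).symm⟩
    | add a b ha hb =>
      obtain ⟨a', rfl⟩ := ha
      obtain ⟨b', rfl⟩ := hb
      exact ⟨a' + b', (TensorProduct.tmul_add _ _ _).symm⟩
    | tmul c f =>
      obtain ⟨c, rfl⟩ := hPK c
      exact ⟨c • f, by rw [← TensorProduct.smul_tmul, Algebra.smul_def, mul_one]⟩
  rw [KaehlerDifferential.cotangentComplexBaseChange_tmul, one_smul, KaehlerDifferential.kerToTensor_apply] at hz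
  have hfK : f.1 ∈ RingHom.ker (algebraMap P K) := by
    rw [RingHom.mem_ker, IsScalarTower.algebraMap_apply P (Localization.AtPrime q) K, show
      algebraMap P (Localization.AtPrime q) f.1 = 0 from f.2, map_zero]
  have hsq : f.1 ∈ maximalIdeal P ^ 2 := by
    rw [← hker]
    refine (Ideal.toCotangent_eq_zero _ ⟨f.1, hfK⟩).1 ?_
    have h1 := LinearMap.congr_fun hσ ((RingHom.ker (algebraMap P K)).toCotangent ⟨f.1, hfK⟩)
    rw [LinearMap.comp_apply, KaehlerDifferential.kerCotangentToTensor_toCotangent, hz, map_zero] at h1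
    exact h1.symm
  have hmem : f.1 ∈ maximalIdeal P * RingHom.ker (algebraMap P (Localization.AtPrime q)) :=
    (Groth.Agent.CotTLib.regSurj _ P (Localization.AtPrime q) _ hsurj le_rfl).1 ⟨f.2, hsq⟩
  have hgen : ∀ g ∈ maximalIdeal P * RingHom.ker (algebraMap P (Localization.AtPrime q)),
      ∃ hg : g ∈ RingHom.ker (algebraMap P (Localization.AtPrime q)),
        (1 : K) ⊗ₜ[P] (⟨g, hg⟩ : RingHom.ker (algebraMap P (Localization.AtPrime q))) = 0 := by
    intro g hg
    induction hg using Submodule.mul_induction_on' with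
    | mem_mul_mem a ha b hb =>
      refine ⟨Ideal.mul_mem_left _ a hb, ?_⟩
      have hsm : (⟨a * b, Ideal.mul_mem_left _ a hb⟩ : RingHom.ker (algebraMap P (Localization.AtPrime q))) =
          a • ⟨b, hb⟩ := rfl
      rw [hsm, ← TensorProduct.smul_tmul, Algebra.smul_def, mul_one,
        show algebraMap P K a = 0 from hker.ge ha, TensorProduct.zero_tmul]
    | add a _ b _ ha hb =>
      obtain ⟨ha', ha⟩ := ha
      obtain ⟨hb', hb⟩ := hb
      refine ⟨add_mem ha' hb', ?_⟩
      rw [show (⟨a + b, add_mem ha' hb'⟩ : RingHom.ker (algebraMap P (Localization.AtPrime q))) =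
        ⟨a, ha'⟩ + ⟨b, hb'⟩ from rfl, TensorProduct.tmul_add, ha, hb, add_zero]
  exact (hgen f.1 hmem).2


/-- For a finite type algebra S over a field k and a prime q of S with κ(q) separable over k, S is
smooth over k at q if and only if S_q is a regular local ring. -/
theorem result (k : Type u) [Field k]
    (S : Type u) [CommRing S] [Algebra k S] [Algebra.FiniteType k S] (q : Ideal S) [q.IsPrime]
    [Algebra.IsGeometricallyReduced k q.ResidueField] :
    Algebra.IsSmoothAt k q ↔ IsRegularLocalRing (Localization.AtPrime q) := by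
  exact ⟨fun h => @Groth.Agent.CotTLib.isRegularLocalRing_of_isSmoothAt k S _ _ _ _ q _ h,
    smoothAt_of_regular k S q⟩


end Groth.Agent.S9442
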