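import Groth.Statements.S9445
import Mathlib

set_option autoImplicit false
universe u
open CAlg

namespace Groth.Agent.S9445
open TensorProduct in
theorem exists_lift_etale {S S' Q : Type u} [CommRing S] [CommRing S'] [CommRing Q] [Algebra S S'] [Algebra S Q]
    [Algebra.FormallyEtale S S'] (r : Q →ₐ[S] S') (hr : Function.Surjective r)
    (hn : IsNilpotent (RingHom.ker r.toRingHom)) :
    ∃ g : S' →ₐ[S] Q, r.comp g = AlgHom.id S S' :=
  ⟨Algebra.FormallySmooth.liftOfSurjective (AlgHom.id S S') r hr hn,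
    AlgHom.ext fun x => Algebra.FormallySmooth.liftOfSurjective_apply _ r hr hn x⟩

theorem unique_lift_etale {S S' Q : Type u} [CommRing S] [CommRing S'] [CommRing Q] [Algebra S S'] [Algebra S Q]
    [Algebra.FormallyEtale S S'] (r : Q →ₐ[S] S') (hn : IsNilpotent (RingHom.ker r.toRingHom))
    (g₁ g₂ : S' →ₐ[S] Q) (h : r.comp g₁ = r.comp g₂) : g₁ = g₂ :=
  Algebra.FormallyUnramified.lift_unique' r hn g₁ g₂ h


open TensorProduct in
/-- For ring maps R → S → S' with S → S' formally étale and k ≥ 0, let J' ⊆ S' ⊗_R S' be the kernel of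
multiplication and I ⊆ S' ⊗_R S its preimage under the map induced by S → S' (I is the kernel of S'
⊗_R S → S', and (S' ⊗_R S)/I^{k+1} is S' ⊗_S P^k_{S/R}); then (S' ⊗_R S)/I^{k+1} → (S' ⊗_R
S')/J'^{k+1} is bijective. (The consequence S' ⊗_S Ω_{S/R} ≅ Ω_{S'/R} is Mathlib's
KaehlerDifferential.isBaseChange_of_formallyEtale.) -/
theorem result (R : Type u) [CommRing R]
    (S : Type u) [CommRing S] [Algebra R S] (S' : Type u) [CommRing S'] [Algebra R S']
    [Algebra S S'] [IsScalarTower R S S'] [Algebra.FormallyEtale S S'] (k : ℕ) :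
    Function.Bijective (Ideal.quotientMap (KaehlerDifferential.ideal R S' ^ (k + 1))
      (Algebra.TensorProduct.map (AlgHom.id S' S') (IsScalarTower.toAlgHom R S S')).toRingHom
      (Ideal.le_comap_pow
        (Algebra.TensorProduct.map (AlgHom.id S' S') (IsScalarTower.toAlgHom R S S')).toRingHom
        (K := KaehlerDifferential.ideal R S') (k + 1))) := by
  set m : S' ⊗[R] S →ₐ[S'] S' ⊗[R] S' :=
    Algebra.TensorProduct.map (AlgHom.id S' S') (IsScalarTower.toAlgHom R S S')
  set J := KaehlerDifferential.ideal R S'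
  set I := J.comap m.toRingHom
  let r0 : S' ⊗[R] S →+* S' := (Algebra.TensorProduct.lmul' R (S := S')).toRingHom.comp m.toRingHom
  have hI : I = RingHom.ker r0 := by ext; rfl
  have hJ : J = RingHom.ker (Algebra.TensorProduct.lmul' R (S := S')).toRingHom := rfl
  have hr0 : ∀ a b, r0 (a ⊗ₜ b) = a * algebraMap S S' b := fun a b => by simp [r0, m]
  -- instances
  letI algQ : Algebra S ((S' ⊗[R] S) ⧸ I ^ (k + 1)) :=
    ((Ideal.Quotient.mk _).comp (Algebra.TensorProduct.includeRight (R := R) (A := S') (B := S)).toRingHom).toAlgebra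
  letI algQ' : Algebra S ((S' ⊗[R] S') ⧸ J ^ (k + 1)) :=
    ((Ideal.Quotient.mk _).comp ((Algebra.TensorProduct.includeRight (R := R) (A := S') (B := S')).toRingHom.comp
      (algebraMap S S'))).toAlgebra
  let r : ((S' ⊗[R] S) ⧸ I ^ (k + 1)) →ₐ[S] S' :=
    { Ideal.Quotient.lift (I ^ (k + 1)) r0 (fun a ha => by
        have := Ideal.pow_le_self (Nat.succ_ne_zero k) ha; rw [hI] at this; exact this) with
      commutes' := fun s => by
        show Ideal.Quotient.lift _ r0 _ (Ideal.Quotient.mk _ ((1 : S') ⊗ₜ[R] s)) = _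
        rw [Ideal.Quotient.lift_mk, hr0, one_mul] }
  let r' : ((S' ⊗[R] S') ⧸ J ^ (k + 1)) →ₐ[S] S' :=
    { Ideal.Quotient.lift (J ^ (k + 1)) (Algebra.TensorProduct.lmul' R (S := S')).toRingHom
        (fun a ha => Ideal.pow_le_self (Nat.succ_ne_zero k) ha) with
      commutes' := fun s => by
        show Ideal.Quotient.lift _ _ _ (Ideal.Quotient.mk _ ((1 : S') ⊗ₜ[R] algebraMap S S' s)) = _
        rw [Ideal.Quotient.lift_mk]
        simp }
  have hrsurj : Function.Surjective r := fun y => ⟨Ideal.Quotient.mk _ (y ⊗ₜ 1), by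
    show Ideal.Quotient.lift _ r0 _ (Ideal.Quotient.mk _ (y ⊗ₜ[R] (1 : S))) = y
    rw [Ideal.Quotient.lift_mk, hr0, map_one, mul_one]⟩
  have hnil : ∀ {T : Type u} [CommRing T] (K : Ideal T) (f : T →+* S') (g : T ⧸ K ^ (k + 1) →+* S'),
      RingHom.ker f = K → (∀ t, g (Ideal.Quotient.mk _ t) = f t) → IsNilpotent (RingHom.ker g) := by
    intro T _ K f g hf hg
    refine ⟨k + 1, le_bot_iff.1 ?_⟩
    have h1 : RingHom.ker g ≤ K.map (Ideal.Quotient.mk (K ^ (k + 1))) := fun z hz => by
      obtain ⟨t, rfl⟩ := Ideal.Quotient.mk_surjective z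
      refine Ideal.mem_map_of_mem _ ?_
      rw [← hf, RingHom.mem_ker, ← hg]
      exact hz
    refine (Ideal.pow_right_mono h1 _).trans ?_
    rw [← Ideal.map_pow, Ideal.map_quotient_self]
  obtain ⟨g, hg⟩ := exists_lift_etale r hrsurj (hnil I r0 r.toRingHom hI.symm fun t => rfl)
  have hgS : ∀ s, g (algebraMap S S' s) = Ideal.Quotient.mk _ ((1 : S') ⊗ₜ[R] s) := fun s => g.commutes s
  let g' : S' →ₐ[R] ((S' ⊗[R] S) ⧸ I ^ (k + 1)) :=
    { g.toRingHom with
      commutes' := fun c => by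
        show g (algebraMap R S' c) = Ideal.Quotient.mk _ (algebraMap R (S' ⊗[R] S) c)
        rw [IsScalarTower.algebraMap_apply R S S', hgS]
        exact congrArg _ ((Algebra.TensorProduct.includeRight (R := R) (A := S')).commutes c) }
  let Φ := Algebra.TensorProduct.lift
    ((Ideal.Quotient.mkₐ R (I ^ (k + 1))).comp (Algebra.TensorProduct.includeLeft (R := R) (S := R) (A := S') (B := S)))
    g' (fun _ _ => Commute.all _ _)
  have hΦm : ∀ t, Φ (m t) = Ideal.Quotient.mk _ t := by
    intro t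
    induction t with
    | zero => simp
    | add a b ha hb => simp [map_add, ha, hb]
    | tmul a b =>
      simp only [m, Φ, Algebra.TensorProduct.map_tmul, AlgHom.id_apply, Algebra.TensorProduct.lift_tmul]
      show Ideal.Quotient.mk _ (a ⊗ₜ[R] (1 : S)) * g (algebraMap S S' b) = _
      rw [hgS, ← map_mul, Algebra.TensorProduct.tmul_mul_tmul, mul_one, one_mul]
  have hmI : ∀ t ∈ I ^ (k + 1), m t ∈ J ^ (k + 1) := fun t ht =>
    Ideal.le_comap_pow m.toRingHom (k + 1) ht
  let mq : ((S' ⊗[R] S) ⧸ I ^ (k + 1)) →ₐ[S] ((S' ⊗[R] S') ⧸ J ^ (k + 1)) :=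
    { Ideal.quotientMap (J ^ (k + 1)) m.toRingHom (fun t ht => hmI t ht) with
      commutes' := fun s => by
        show Ideal.quotientMap _ m.toRingHom _ (Ideal.Quotient.mk _ ((1 : S') ⊗ₜ[R] s)) = _
        rw [Ideal.quotientMap_mk]
        show Ideal.Quotient.mk _ (m ((1 : S') ⊗ₜ[R] s)) = _
        simp only [m, Algebra.TensorProduct.map_tmul, AlgHom.id_apply]
        rfl }
  let i₂ : S' →ₐ[S] ((S' ⊗[R] S') ⧸ J ^ (k + 1)) :=
    { (Ideal.Quotient.mk (J ^ (k + 1))).comp (Algebra.TensorProduct.includeRight (R := R) (A := S')).toRingHom with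
      commutes' := fun s => rfl }
  have hu : mq.comp g = i₂ := by
    refine unique_lift_etale r' (hnil J _ r'.toRingHom rfl fun t => rfl) _ _ ?_
    have h2 : r'.comp mq = r := AlgHom.ext fun z => by
      obtain ⟨t, rfl⟩ := Ideal.Quotient.mk_surjective z
      rfl
    rw [← AlgHom.comp_assoc, h2, hg]
    ext y
    show y = Algebra.TensorProduct.lmul' R (S := S') ((1 : S') ⊗ₜ[R] y)
    simp
  have hmΦ : ∀ t, mq (Φ t) = Ideal.Quotient.mk _ t := by
    intro t
    induction t with
    | zero => simp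
    | add a b ha hb => rw [map_add, map_add, ha, hb, map_add]
    | tmul a b =>
      simp only [Φ, Algebra.TensorProduct.lift_tmul, map_mul]
      rw [show mq (g' b) = i₂ b from AlgHom.congr_fun hu b]
      show Ideal.Quotient.mk _ (m (a ⊗ₜ[R] (1 : S))) * Ideal.Quotient.mk _ ((1 : S') ⊗ₜ[R] b) = _
      rw [← map_mul]
      simp [m]
  have hΦJ : ∀ t ∈ J ^ (k + 1), Φ t = 0 := by
    intro t ht
    have h1 : J.map Φ.toRingHom ≤ I.map (Ideal.Quotient.mk (I ^ (k + 1))) :=
      Ideal.map_le_iff_le_comap.2 fun y hy => by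
        obtain ⟨z, hz⟩ := Ideal.Quotient.mk_surjective (Φ y)
        rw [Ideal.mem_comap]
        show Φ y ∈ _
        rw [← hz]
        refine Ideal.mem_map_of_mem _ ?_
        rw [hI, RingHom.mem_ker]
        have h3 := congrArg r' (hmΦ y)
        rw [← hz] at h3
        exact h3.trans hy
    have h2 := (Ideal.map_pow Φ.toRingHom J (k + 1)).trans_le (Ideal.pow_right_mono h1 (k + 1))
      (Ideal.mem_map_of_mem Φ.toRingHom ht)
    rw [← Ideal.map_pow, Ideal.map_quotient_self] at h2
    exact h2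
  constructor
  · rw [injective_iff_map_eq_zero]
    intro z hz
    obtain ⟨t, rfl⟩ := Ideal.Quotient.mk_surjective z
    rw [← hΦm]
    exact hΦJ _ (Ideal.Quotient.eq_zero_iff_mem.1 hz)
  · intro z
    obtain ⟨t, rfl⟩ := Ideal.Quotient.mk_surjective z
    exact ⟨Φ t, hmΦ t⟩


end Groth.Agent.S9445
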