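import Groth.Statements.S9446
import Groth.Agent.IndSmoothLib.Basic

set_option autoImplicit false
universe u
open CAlg

namespace Groth.Agent.S9446

/-- If S is ind-smooth over R (every R-algebra map into S from a finitely presented R-algebra factors
through a smooth R-algebra) then for every R-algebra B the canonical map S ⊗_R A → A', from the base
change of the integral closure A of R in B to the integral closure A' of S in S ⊗_R B, is bijective. -/
theorem result (R : Type u) [CommRing R] (S : Type u)
    [CommRing S] [Algebra R S] (hS : Smoothing.IndSmooth R S) (B : Type u) [CommRing B]
    [Algebra R B] : Function.Bijective (TensorProduct.toIntegralClosure R S B) := by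
  exact Groth.Agent.IndSmoothLib.toIntegralClosure_bijective hS B


end Groth.Agent.S9446
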