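import Groth.Statements.S9447
import Mathlib
import Groth.Agent.CAlgUI.DescentProj

set_option autoImplicit false
universe u
open CAlg

namespace Groth.Agent.S9447
attribute [local instance] Algebra.TensorProduct.rightAlgebra in
open TensorProduct in
theorem descend (R : Type u) [CommRing R] (S : Type u) [CommRing S] [Algebra R S] (R' : Type u) [CommRing R'] [Algebra R R']
    [Module.FaithfullyFlat R R'] [Algebra.FormallySmooth R' (R' ⊗[R] S)] : Algebra.FormallySmooth R S := by
  refine ⟨?_, ?_⟩
  · have hff : Module.FaithfullyFlat S (R' ⊗[R] S) := by
      let e : S ⊗[R] R' ≃ₗ[S] R' ⊗[R] S :=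
        { __ := TensorProduct.comm R S R'
          map_smul' := fun s x => by
            induction x using TensorProduct.induction_on with
            | zero => simp
            | tmul a b => simp [Algebra.smul_def, TensorProduct.smul_tmul', Algebra.TensorProduct.tmul_mul_tmul, RingHom.algebraMap_toAlgebra, mul_comm]
            | add x y hx hy =>
              simp only [smul_add] at hx hy ⊢
              simp only [LinearEquiv.coe_coe, LinearMap.coe_toAddHom, AddHom.toFun_eq_coe, map_add] at hx hy ⊢
              rw [hx, hy, smul_add] }
      exact Module.FaithfullyFlat.of_linearEquiv _ _ e.symm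
    have : Module.Projective (R' ⊗[R] S) ((R' ⊗[R] S) ⊗[S] Ω[S⁄R]) :=
      Module.Projective.of_equiv (KaehlerDifferential.tensorKaehlerEquiv R R' S (R' ⊗[R] S)).symm
    exact CAlgUI.projective_descent (S := R' ⊗[R] S)
  · have : Subsingleton (R' ⊗[R] Algebra.H1Cotangent R S) :=
      (Algebra.tensorH1CotangentOfFlat R S R').toEquiv.subsingleton
    exact Module.FaithfullyFlat.lTensor_reflects_triviality R R' _


open TensorProduct in
/-- Formal smoothness descends along faithfully flat base change: for R → S arbitrary and R → R'
faithfully flat, the R-algebra S is formally smooth exactly when the R'-algebra R' ⊗_R S is formally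
smooth. No finiteness hypothesis on S. -/
theorem result (R : Type u) [CommRing R]
    (S : Type u) [CommRing S] [Algebra R S] (R' : Type u) [CommRing R'] [Algebra R R']
    [Module.FaithfullyFlat R R'] :
    Algebra.FormallySmooth R S ↔ Algebra.FormallySmooth R' (R' ⊗[R] S) := by
  exact ⟨fun _ => inferInstance, fun _ => descend R S R'⟩


end Groth.Agent.S9447
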