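import Groth.Statements.S9448
import Groth.Agent.EtaleCrit.Basic
import Mathlib.RingTheory.Etale.Locus
import Mathlib.RingTheory.Smooth.Flat
import Mathlib.RingTheory.Jacobson.Ring
set_option autoImplicit false
universe u
open Unram

namespace Groth.Agent.S9448

/-- For a field k and a finite type algebra A over the polynomial ring k[x_1, …, x_n] (the variables
mapping to a_1, …, a_n), the structure map is étale if and only if (a) the local rings of A at all
maximal ideals have dimension n and (b) da_1, …, da_n generate the module of differentials of A over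
k. -/
theorem result (k : Type u) [Field k] (n : ℕ)
    (A : Type u) [CommRing A] [Algebra k A] [Algebra (MvPolynomial (Fin n) k) A]
    [IsScalarTower k (MvPolynomial (Fin n) k) A] [Algebra.FiniteType (MvPolynomial (Fin n) k) A] :
    Algebra.Etale (MvPolynomial (Fin n) k) A ↔
      (∀ (m : Ideal A) [m.IsMaximal], ringKrullDim (Localization.AtPrime m) = n) ∧
        Submodule.span A (Set.range fun i : Fin n =>
          KaehlerDifferential.D k A (algebraMap (MvPolynomial (Fin n) k) A (MvPolynomial.X i))) = ⊤ := by
  let P := MvPolynomial (Fin n) k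
  haveI : IsNoetherianRing A := Algebra.FiniteType.isNoetherianRing P A
  constructor
  · intro h
    refine ⟨fun m hm => le_antisymm ?_ ?_, EtaleCrit.span_of_formallyEtale k n A⟩
    · rw [IsLocalization.AtPrime.ringKrullDim_eq_height m]
      refine (Ideal.height_le_ringKrullDim_of_ne_top hm.ne_top).trans (le_trans
        (Order.krullDim_le_of_strictMono (PrimeSpectrum.comap (algebraMap P A)) ?_) ?_)
      · intro x y hxy
        refine lt_of_le_of_ne (Ideal.comap_mono hxy.le) fun h => hxy.ne (PrimeSpectrum.ext ?_)
        exact Algebra.QuasiFinite.eq_of_le_of_under_eq (R := P) _ _ hxy.le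
          (congrArg PrimeSpectrum.asIdeal h)
      · show ringKrullDim P ≤ n
        rw [MvPolynomial.ringKrullDim_of_isNoetherianRing, ringKrullDim_eq_zero_of_field]; simp
    · rw [IsLocalization.AtPrime.ringKrullDim_eq_height m]
      haveI : Module.Flat P A := Algebra.Smooth.flat P A
      have hM : (m.under P).IsMaximal := by
        haveI : Module.Finite P (A ⧸ m) :=
          letI := Ideal.Quotient.field m
          finite_of_finite_type_of_isJacobsonRing P (A ⧸ m)
        haveI : Algebra.IsIntegral P (A ⧸ m) := Algebra.IsIntegral.of_finite P _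
        letI := Ideal.Quotient.field m
        have e : m.under P = (⊥ : Ideal (A ⧸ m)).comap (algebraMap P (A ⧸ m)) := by
          ext x; exact (Ideal.Quotient.eq_zero_iff_mem (I := m) (a := algebraMap P A x)).symm
        rw [e]
        exact Ideal.isMaximal_comap_of_isIntegral_of_isMaximal (R := P) ⊥
      have hle : (m.under P).height ≤ m.height :=
        (Ideal.height_eq_height_add_of_liesOver_of_hasGoingDown (m.under P) m).symm ▸ le_self_add
      have h0 := SmoothDim.height_maximal_mvPolynomial k n ⟨m.under P, hM.isPrime⟩ hM
      rw [← PrimeSpectrum.height_eq_orderHeight] at h0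
      have h1 : (n : ℕ∞) ≤ m.height := h0 ▸ hle
      exact WithBot.coe_le_coe.2 h1
  · rintro ⟨hdim, hspan⟩
    haveI : Algebra.FormallyUnramified P A := EtaleCrit.formallyUnramified_of_span k n A hspan
    haveI : Algebra.FinitePresentation P A := Algebra.FinitePresentation.of_finiteType.1 inferInstance
    have hmax : ∀ (m : Ideal A) [m.IsMaximal], Algebra.IsEtaleAt P m := by
      intro m hm
      haveI : Algebra.IsUnramifiedAt P m :=
        Algebra.FormallyUnramified.comp P A (Localization.AtPrime m)
      have hh := hdim m
      rw [IsLocalization.AtPrime.ringKrullDim_eq_height m] at hh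
      have hh' : Order.height (⟨m, hm.isPrime⟩ : PrimeSpectrum A) = n := by
        rw [← PrimeSpectrum.height_eq_orderHeight]
        exact WithBot.coe_eq_coe.1 hh
      obtain ⟨l, hlast, hlen⟩ := Order.exists_series_of_height_eq_coe _ hh'
      refine EtaleCrit.isEtaleAt_of_component k n A m l.head.asIdeal ?_ ?_
      · exact (hlast ▸ l.head_le_last : l.head ≤ ⟨m, hm.isPrime⟩)
      · rw [ringKrullDim_quotient]
        exact Order.le_krullDim_iff.2 ⟨⟨l.length, fun i => ⟨l i, l.head_le i⟩, fun i => l.step i⟩, hlen⟩
    rw [← Algebra.etaleLocus_eq_univ_iff_etale]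
    refine Set.eq_univ_of_forall fun x => ?_
    obtain ⟨m, hm, hle⟩ := Ideal.exists_le_maximal x.asIdeal x.2.ne_top
    have hm' : (⟨m, hm.isPrime⟩ : PrimeSpectrum A) ∈ Algebra.etaleLocus P A := hmax m
    exact Algebra.isOpen_etaleLocus.stableUnderGeneralization
      ((PrimeSpectrum.le_iff_specializes x ⟨m, hm.isPrime⟩).1 hle) hm'

end Groth.Agent.S9448
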