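import Groth.Statements.S9450
import Groth.Agent.ConormalAux.Base

set_option autoImplicit false
universe u
open CAlg

namespace Groth.Agent.S9450

/-- For ring maps A → B → C with A → C surjective and A → B formally smooth, writing I = ker(A → C) and
J = ker(B → C), the sequence 0 → I/I² → J/J² → C ⊗_B Ω_{B/A} → 0 is split exact: the first map is
injective and admits an A-linear retraction, its range is the kernel of the second map (class of x ↦
1 ⊗ dx), and the second map is surjective. -/
theorem result (A : Type u) [CommRing A]
    (B : Type u) [CommRing B] [Algebra A B] [Algebra.FormallySmooth A B] (C : Type u) [CommRing C]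
    [Algebra B C] [Algebra A C] [IsScalarTower A B C] (hC : Function.Surjective (algebraMap A C)) :
    Function.Injective (Ideal.mapCotangent (RingHom.ker (algebraMap A C))
        (RingHom.ker (algebraMap B C)) (Algebra.ofId A B)
        (le_of_eq (congrArg RingHom.ker (IsScalarTower.algebraMap_eq A B C)))) ∧
      (∃ r : (RingHom.ker (algebraMap B C)).Cotangent →ₗ[A] (RingHom.ker (algebraMap A C)).Cotangent,
        r ∘ₗ (Ideal.mapCotangent (RingHom.ker (algebraMap A C)) (RingHom.ker (algebraMap B C))
          (Algebra.ofId A B)
          (le_of_eq (congrArg RingHom.ker (IsScalarTower.algebraMap_eq A B C)))) = LinearMap.id) ∧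
      LinearMap.range (Ideal.mapCotangent (RingHom.ker (algebraMap A C))
          (RingHom.ker (algebraMap B C)) (Algebra.ofId A B)
          (le_of_eq (congrArg RingHom.ker (IsScalarTower.algebraMap_eq A B C)))) =
        LinearMap.ker ((KaehlerDifferential.kerCotangentToTensor A B C).restrictScalars A) ∧
      Function.Surjective (KaehlerDifferential.kerCotangentToTensor A B C) := by
  have h := le_of_eq (congrArg RingHom.ker (IsScalarTower.algebraMap_eq A B C))
  obtain ⟨r, hr⟩ := Groth.Agent.ConormalAux.exists_retraction A B C hC h
  refine ⟨Function.LeftInverse.injective (g := r) fun x => LinearMap.congr_fun hr x, ⟨r, hr⟩, ?_,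
    Groth.Agent.ConormalAux.kct_surjective A B C hC⟩
  have hex := Groth.Agent.ConormalAux.exact_mapCotangent_kct A B C hC h
  ext z
  exact ⟨fun ⟨a, ha⟩ => (hex z).2 ⟨a, ha⟩, fun hz => (hex z).1 hz⟩


end Groth.Agent.S9450
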