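import Groth.Statements.S9451
import Groth.Agent.DirColim.Basic

set_option autoImplicit false
universe u
open CategoryTheory CategoryTheory.Limits TensorProduct
open CAlg

namespace Groth.Agent.S9451

/-- Let (A_i) be a filtered system of rings with colimit A and B a smooth A-algebra. Then some stage A_i
carries a smooth A_i-algebra B_i with B isomorphic to A ⊗_{A_i} B_i as A-algebras (the base change
along the colimit map A_i → A; existence of an isomorphism). -/
theorem result {I : Type u} [SmallCategory I] [IsFiltered I]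
    (D : I ⥤ CommRingCat.{u}) (c : Cocone D) (hc : IsColimit c) (B : Type u) [CommRing B]
    [Algebra c.pt B] [Algebra.Smooth c.pt B] :
    ∃ (i : I) (Bi : Type u) (_ : CommRing Bi) (_ : Algebra (D.obj i) Bi),
      Algebra.Smooth (D.obj i) Bi ∧
      (letI : Algebra (D.obj i) c.pt := (c.ι.app i).hom.toAlgebra
       Nonempty (B ≃ₐ[c.pt] (c.pt ⊗[D.obj i] Bi))) := by
  classical
  let g : ∀ i, (D.obj i : Type u) →ₐ[ℤ] (c.pt : Type u) := fun i => (c.ι.app i).hom.toIntAlgHom
  let hc' := isColimitOfPreserves (forget CommRingCat.{u}) hc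
  let tr : ∀ {i j : I} (u : i ⟶ j), Groth.Agent.DirColim.Trans g i j := fun {i j} u =>
    ⟨(D.map u).hom.toIntAlgHom, AlgHom.ext fun x => by
      change (c.ι.app j).hom ((D.map u).hom x) = (c.ι.app i).hom x
      rw [← CommRingCat.comp_apply, c.w u]⟩
  have hG : Groth.Agent.DirColim.IsColim g :=
    { surj := fun a => by
        obtain ⟨i, x, hx⟩ := Types.jointly_surjective _ hc' a
        exact ⟨i, x, hx⟩
      directed := fun i j => ⟨IsFiltered.max i j, ⟨tr (IsFiltered.leftToMax i j)⟩,
        ⟨tr (IsFiltered.rightToMax i j)⟩⟩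
      ker := fun i x hx => by
        have h0 : (c.ι.app i).hom x = (c.ι.app i).hom 0 := by rw [map_zero]; exact hx
        obtain ⟨k, f₁, f₂, hf⟩ := (Types.FilteredColimit.isColimit_eq_iff _ hc').mp h0
        refine ⟨k, tr f₁, ?_⟩
        have hf' : (D.map f₁).hom x = (D.map f₂).hom 0 := hf
        change (D.map f₁).hom x = 0
        rw [hf', map_zero] }
  obtain ⟨A₀, B₀, _, _, hA₀, hsm, ⟨e⟩⟩ := Algebra.Smooth.exists_subalgebra_fg ℤ (c.pt : Type u) B
  have : Algebra.FiniteType ℤ A₀ := (Subalgebra.fg_iff_finiteType A₀).mp hA₀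
  have : Algebra.FinitePresentation ℤ A₀ := Algebra.FinitePresentation.of_finiteType.mp this
  obtain ⟨i, ψ, hψ⟩ := hG.exists_lift A₀.val
  let : Algebra A₀ (D.obj i) := ψ.toRingHom.toAlgebra
  let : Algebra (D.obj i) c.pt := (c.ι.app i).hom.toAlgebra
  have : IsScalarTower A₀ (D.obj i) c.pt := IsScalarTower.of_algebraMap_eq fun x =>
    (AlgHom.congr_fun hψ x).symm
  exact ⟨i, (D.obj i : Type u) ⊗[A₀] B₀, inferInstance, inferInstance, inferInstance,
    ⟨e.trans (Algebra.TensorProduct.cancelBaseChange A₀ (D.obj i) c.pt c.pt B₀).symm⟩⟩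


end Groth.Agent.S9451
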