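import Groth.Statements.S9454
import Groth.Agent.S9453
import Mathlib

set_option autoImplicit false
universe u
open CAlg

namespace Groth.Agent.S9454
open TensorProduct in
theorem exists_cover (R : Type u) [CommRing R] (S : Type u) [CommRing S] [Algebra R S] :
    ∀ T : List S, (∀ g ∈ T, Algebra.IsStandardEtale R (Localization.Away g)) →
      ∃ (S' : Type u) (_ : CommRing S') (_ : Algebra R S'),
        Module.Finite R S' ∧ Algebra.FinitePresentation R S' ∧ Module.Flat R S' ∧
        Function.Surjective (PrimeSpectrum.comap (algebraMap R S')) ∧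
        ∀ g ∈ T, ∀ (q : Ideal S) [q.IsPrime] (q' : Ideal S') [q'.IsPrime], g ∉ q → q'.under R = q.under R →
          ∃ (g' : S') (_ : g' ∉ q'), Nonempty (S →ₐ[R] Localization.Away g') := by
  intro T
  induction T with
  | nil =>
    intro _
    exact ⟨R, inferInstance, inferInstance, inferInstance, inferInstance, inferInstance,
      fun p => ⟨p, PrimeSpectrum.ext (by simp)⟩, fun g hg => by simp at hg⟩
  | cons g T ih =>
    intro hT
    haveI := hT g List.mem_cons_self
    obtain ⟨A, _, _, hA1, hA2, hA3, hA4, hA⟩ := S9453.result R (Localization.Away g)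
    obtain ⟨B, _, _, hB1, hB2, hB3, hB4, hB⟩ := ih fun x hx => hT x (List.mem_cons_of_mem _ hx)
    haveI : Module.FaithfullyFlat R A := Module.FaithfullyFlat.of_comap_surjective hA4
    haveI : Module.FaithfullyFlat R B := Module.FaithfullyFlat.of_comap_surjective hB4
    haveI : Algebra.FinitePresentation R (A ⊗[R] B) := Algebra.FinitePresentation.trans R A (A ⊗[R] B)
    haveI : Module.FaithfullyFlat R (A ⊗[R] B) := Module.FaithfullyFlat.trans R A (A ⊗[R] B)
    refine ⟨A ⊗[R] B, inferInstance, inferInstance, inferInstance, inferInstance, inferInstance,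
      PrimeSpectrum.comap_surjective_of_faithfullyFlat, fun x hx q _ q' _ hxq hqq' => ?_⟩
    rcases List.mem_cons.mp hx with rfl | hx
    · let iA : A →ₐ[R] A ⊗[R] B := Algebra.TensorProduct.includeLeft
      let qA := q'.comap iA.toRingHom
      haveI hqg : (q.map (algebraMap S (Localization.Away x))).IsPrime :=
        IsLocalization.isPrime_of_isPrime_disjoint (Submonoid.powers x) _ q inferInstance
          ((Ideal.disjoint_powers_iff_notMem x (Ideal.IsPrime.isRadical ‹_›)).mpr hxq)
      have hcA : qA.under R = (q.map (algebraMap S (Localization.Away x))).under R := by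
        have h1 : (q.map (algebraMap S (Localization.Away x))).under S = q :=
          IsLocalization.under_map_of_isPrime_disjoint (Submonoid.powers x) _ inferInstance
            ((Ideal.disjoint_powers_iff_notMem x (Ideal.IsPrime.isRadical ‹_›)).mpr hxq)
        rw [← Ideal.under_under (B := S) (q.map (algebraMap S (Localization.Away x))), h1, ← hqq']
        show Ideal.comap (algebraMap R A) (Ideal.comap iA.toRingHom q') = _
        rw [Ideal.comap_comap]
        congr 1
      obtain ⟨g', hg', φ, -⟩ := hA (q.map (algebraMap S (Localization.Away x))) qA hcA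
      let j : Localization.Away g' →ₐ[R] Localization.Away (iA g') :=
        IsLocalization.Away.liftAlgHom (R := A) g'
          (f := (IsScalarTower.toAlgHom R (A ⊗[R] B) (Localization.Away (iA g'))).comp iA)
          (IsLocalization.Away.algebraMap_isUnit (iA g'))
      exact ⟨iA g', hg', ⟨j.comp (φ.comp (IsScalarTower.toAlgHom R S (Localization.Away x)))⟩⟩
    · let iB : B →ₐ[R] A ⊗[R] B := Algebra.TensorProduct.includeRight
      let qB := q'.comap iB.toRingHom
      have hcB : qB.under R = q.under R := by
        rw [← hqq']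
        show Ideal.comap (algebraMap R B) (Ideal.comap iB.toRingHom q') = _
        rw [Ideal.comap_comap, show iB.toRingHom.comp (algebraMap R B) = algebraMap R (A ⊗[R] B) from iB.comp_algebraMap]
      obtain ⟨g', hg', ⟨φ⟩⟩ := hB x hx q qB hxq hcB
      let j : Localization.Away g' →ₐ[R] Localization.Away (iB g') :=
        IsLocalization.Away.liftAlgHom (R := B) g'
          (f := (IsScalarTower.toAlgHom R (A ⊗[R] B) (Localization.Away (iB g'))).comp iB)
          (IsLocalization.Away.algebraMap_isUnit (iB g'))
      exact ⟨iB g', hg', ⟨j.comp φ⟩⟩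



/-- For an étale ring map R → S which is surjective on spectra there is a finite, finitely presented,
flat R-algebra S' with Spec S' → Spec R surjective such that, Zariski locally on S', the structure
map factors through S: every prime q' of S' has some g' ∉ q' and an R-algebra map S → S'_{g'}. -/
theorem result (R : Type u) [CommRing R]
    (S : Type u) [CommRing S] [Algebra R S] [Algebra.Etale R S]
    (hs : Function.Surjective (PrimeSpectrum.comap (algebraMap R S))) :
    ∃ (S' : Type u) (_ : CommRing S') (_ : Algebra R S'),
      Module.Finite R S' ∧ Algebra.FinitePresentation R S' ∧ Module.Flat R S' ∧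
        Function.Surjective (PrimeSpectrum.comap (algebraMap R S')) ∧
        ∀ (q' : Ideal S') [q'.IsPrime], ∃ (g' : S') (_ : g' ∉ q'),
          Nonempty (S →ₐ[R] Localization.Away g') := by
  classical
  have h : ∀ q : PrimeSpectrum S, ∃ g : S, g ∉ q.asIdeal ∧ Algebra.IsStandardEtale R (Localization.Away g) :=
    fun q => Algebra.IsEtaleAt.exists_isStandardEtale (R := R) q.asIdeal
  choose g hg hgs using h
  obtain ⟨T, hT⟩ := (CompactSpace.isCompact_univ (X := PrimeSpectrum S)).elim_finite_subcover
    (fun q => (PrimeSpectrum.basicOpen (g q) : Set (PrimeSpectrum S))) (fun q => (PrimeSpectrum.basicOpen (g q)).isOpen)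
    (fun q _ => Set.mem_iUnion.mpr ⟨q, hg q⟩)
  obtain ⟨S', i1, i2, h1, h2, h3, h4, h5⟩ := exists_cover R S (T.toList.map g) (by
    intro x hx
    obtain ⟨q, -, rfl⟩ := List.mem_map.mp hx
    exact hgs q)
  refine ⟨S', i1, i2, h1, h2, h3, h4, fun q' _ => ?_⟩
  obtain ⟨q, hq⟩ := hs ⟨q'.under R, inferInstance⟩
  obtain ⟨t, ht, htq⟩ := Set.mem_iUnion₂.mp (hT (Set.mem_univ q))
  exact h5 (g t) (List.mem_map.mpr ⟨t, Finset.mem_toList.mpr ht, rfl⟩) q.asIdeal q' htq
    (congrArg PrimeSpectrum.asIdeal hq).symm


end Groth.Agent.S9454
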