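import Groth.Statements.S9456
import Mathlib
import Groth.Agent.FlatModel.Core

set_option autoImplicit false
universe u
open CAlg

namespace Groth.Agent.S9456
/-- The model attached to a ring `R₁` over which the relations give a flat module. -/
theorem model (R : Type u) [CommRing R] (S : Type u) [CommRing S] [Algebra R S] (M : Type u) [AddCommGroup M]
    [Module S M] [Module R M] [IsScalarTower R S M] {a n : ℕ} (φ : MvPolynomial (Fin n) R →ₐ[R] S) (hφ : Function.Surjective φ)
    [Algebra (MvPolynomial (Fin n) R) S] (hφa : ∀ p, algebraMap (MvPolynomial (Fin n) R) S p = φ p)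
    [Module (MvPolynomial (Fin n) R) M] [IsScalarTower (MvPolynomial (Fin n) R) S M]
    (π : FlatModel.V a n R →ₗ[MvPolynomial (Fin n) R] M) (hπ : Function.Surjective π)
    (R₀ : Type u) [CommRing R₀] [Algebra R₀ R] (K₀ : Submodule (MvPolynomial (Fin n) R₀) (FlatModel.V a n R₀))
    (hker : FlatModel.KK K₀ R = LinearMap.ker π) (g₀ : Set (MvPolynomial (Fin n) R₀))
    (hgS : Ideal.span (MvPolynomial.map (algebraMap R₀ R) '' g₀) = RingHom.ker φ.toRingHom)
    (hgK : ∀ g ∈ g₀, ∀ i, g • (Pi.single i 1 : FlatModel.V a n R₀) ∈ K₀)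
    (R₁ : Type u) [CommRing R₁] [Algebra R₀ R₁] [Algebra R₁ R] [IsScalarTower R₀ R₁ R]
    [Algebra R₁ S] [IsScalarTower R₁ R S]
    (hft₁ : Algebra.FiniteType ℤ R₁) (hR₁ : Module.Flat R₁ (FlatModel.V a n R₁ ⧸ FlatModel.KK K₀ R₁)) :
    ∃ (R₀ : Type u) (_ : CommRing R₀) (_ : Algebra R₀ R) (S₀ : Type u) (_ : CommRing S₀)
      (_ : Algebra R₀ S₀) (_ : Algebra S₀ S) (_ : Algebra R₀ S) (_ : IsScalarTower R₀ R S)
      (_ : IsScalarTower R₀ S₀ S) (M₀ : Type u) (_ : AddCommGroup M₀) (_ : Module S₀ M₀)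
      (_ : Module R₀ M₀) (_ : IsScalarTower R₀ S₀ M₀) (_ : Module S₀ M) (_ : IsScalarTower S₀ S M)
      (f : M₀ →ₗ[S₀] M),
      Algebra.FiniteType ℤ R₀ ∧ Algebra.FiniteType R₀ S₀ ∧ Module.Finite S₀ M₀ ∧ Module.Flat R₀ M₀ ∧
        Algebra.IsPushout R₀ R S₀ S ∧ IsBaseChange S f := by
  classical
  have hsmulM : ∀ (p : MvPolynomial (Fin n) R) (m : M), p • m = φ p • m := fun p m => by
    rw [← hφa p, IsScalarTower.algebraMap_smul]
  have hsingle : ∀ (T : Type u) [CommRing T] [Algebra R₀ T] (i : Fin a),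
      FlatModel.mapV (algebraMap R₀ T) (Pi.single i 1 : FlatModel.V a n R₀) = Pi.single i 1 := fun T _ _ i => by
    ext j : 1
    by_cases h : j = i
    · subst h; simp
    · simp [h]
  let K₁ := FlatModel.KK K₀ R₁
  let g₁ : Set (MvPolynomial (Fin n) R₁) := MvPolynomial.map (algebraMap R₀ R₁) '' g₀
  let I₁ : Ideal (MvPolynomial (Fin n) R₁) := Ideal.span g₁
  have hmm₀ : ∀ w : FlatModel.V a n R₀, FlatModel.mapV (algebraMap R₁ R) (FlatModel.mapV (algebraMap R₀ R₁) w) =
      FlatModel.mapV (algebraMap R₀ R) w := fun w => by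
    rw [FlatModel.mapV_mapV, ← IsScalarTower.algebraMap_eq]
  let ψ : (MvPolynomial (Fin n) R₁) →+* MvPolynomial (Fin n) R := MvPolynomial.map (algebraMap R₁ R)
  have hψ₀ : ∀ q : (MvPolynomial (Fin n) R₀), ψ (MvPolynomial.map (algebraMap R₀ R₁) q) = MvPolynomial.map (algebraMap R₀ R) q := fun q => by
    show MvPolynomial.map _ (MvPolynomial.map _ q) = _
    rw [MvPolynomial.map_map, ← IsScalarTower.algebraMap_eq]
  have hI₁ : ∀ p ∈ I₁, φ (ψ p) = 0 := fun p hp => by
    have h : I₁ ≤ RingHom.ker (φ.toRingHom.comp ψ) := Ideal.span_le.2 (by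
      rintro _ ⟨g, hg, rfl⟩
      show φ (ψ _) = 0
      rw [hψ₀]
      exact hgS.le (Submodule.subset_span ⟨g, hg, rfl⟩))
    exact h hp
  have htors : Module.IsTorsionBySet (MvPolynomial (Fin n) R₁) ((FlatModel.V a n R₁) ⧸ K₁) (I₁ : Set (MvPolynomial (Fin n) R₁)) := by
    rintro x ⟨p, hp⟩
    obtain ⟨v, rfl⟩ := K₁.mkQ_surjective x
    show p • K₁.mkQ v = 0
    rw [← map_smul, Submodule.mkQ_apply, Submodule.Quotient.mk_eq_zero]
    induction hp using Submodule.span_induction with
    | mem p hp =>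
      obtain ⟨g, hg, rfl⟩ := hp
      have hv : v = ∑ i, v i • (Pi.single i 1 : (FlatModel.V a n R₁)) := pi_eq_sum_univ' v
      rw [hv, Finset.smul_sum]
      refine Submodule.sum_mem _ fun i _ => ?_
      rw [smul_comm, ← hsingle R₁ i, ← FlatModel.mapV_smul]
      exact Submodule.smul_mem _ _ (Submodule.subset_span ⟨_, hgK g hg i, rfl⟩)
    | zero => rw [zero_smul]; exact zero_mem _
    | add p q _ _ hp hq => rw [add_smul]; exact add_mem hp hq
    | smul r p _ hp => rw [smul_eq_mul, mul_smul]; exact Submodule.smul_mem _ _ hp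
  let := htors.module
  have : IsScalarTower (MvPolynomial (Fin n) R₁) ((MvPolynomial (Fin n) R₁) ⧸ I₁) ((FlatModel.V a n R₁) ⧸ K₁) := htors.isScalarTower
  have : IsScalarTower R₁ ((MvPolynomial (Fin n) R₁) ⧸ I₁) ((FlatModel.V a n R₁) ⧸ K₁) := htors.isScalarTower
  let j : (MvPolynomial (Fin n) R₁) ⧸ I₁ →+* S := Ideal.Quotient.lift I₁ (φ.toRingHom.comp ψ) hI₁
  let := j.toAlgebra
  have hjmk : ∀ p, algebraMap ((MvPolynomial (Fin n) R₁) ⧸ I₁) S (Ideal.Quotient.mk I₁ p) = φ (ψ p) := fun p => rfl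
  have : IsScalarTower R₁ ((MvPolynomial (Fin n) R₁) ⧸ I₁) S := @IsScalarTower.of_algebraMap_eq R₁ (MvPolynomial (Fin n) R₁ ⧸ I₁) S _ _ _ _ _ _ fun r => by
    show _ = φ (ψ (MvPolynomial.C r))
    simp only [ψ, MvPolynomial.map_C]
    rw [IsScalarTower.algebraMap_apply R₁ R S]
    exact (φ.commutes _).symm
  let := Module.compHom M j
  have : IsScalarTower ((MvPolynomial (Fin n) R₁) ⧸ I₁) S M := ⟨fun x s m => mul_smul (j x) s m⟩
  let f₀ : (FlatModel.V a n R₁) →+ M := π.toAddMonoidHom.comp (FlatModel.mapVHom (algebraMap R₁ R))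
  have hf₀K : ∀ v ∈ K₁, f₀ v = 0 := by
    intro v hv
    have h1 := FlatModel.mapV_mem_span (algebraMap R₁ R) hv
    rw [Set.image_image, Set.image_congr fun w _ => hmm₀ w] at h1
    exact LinearMap.mem_ker.1 (hker.le h1)
  let f : (FlatModel.V a n R₁) ⧸ K₁ →ₗ[(MvPolynomial (Fin n) R₁) ⧸ I₁] M :=
    { toFun := QuotientAddGroup.lift K₁.toAddSubgroup f₀ hf₀K
      map_add' := map_add _
      map_smul' := fun x m => by
        obtain ⟨p, rfl⟩ := Ideal.Quotient.mk_surjective x
        obtain ⟨v, rfl⟩ := K₁.mkQ_surjective m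
        show f₀ (p • v) = φ (ψ p) • f₀ v
        show π (FlatModel.mapV _ (p • v)) = φ (ψ p) • π (FlatModel.mapV _ v)
        rw [FlatModel.mapV_smul, map_smul, hsmulM] }
  have hf : ∀ v, f (K₁.mkQ v) = π (FlatModel.mapV (algebraMap R₁ R) v) := fun v => rfl
  have hfsingle : ∀ i, f (K₁.mkQ (Pi.single i 1)) = π (Pi.single i 1) := fun i => by
    rw [hf, ← hsingle R₁ i, ← hsingle R i]
    exact congrArg π (hmm₀ _)
  have hMsum : ∀ x : FlatModel.V a n R, π x = ∑ i, φ (x i) • π (Pi.single i 1) := fun x => by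
    conv_lhs => rw [show x = ∑ i, x i • (Pi.single i 1 : FlatModel.V a n R) from pi_eq_sum_univ' x]
    rw [map_sum]
    exact Finset.sum_congr rfl fun i _ => by rw [map_smul, hsmulM]
  have hft₂ : Algebra.FiniteType R₁ ((MvPolynomial (Fin n) R₁) ⧸ I₁) := inferInstance
  have hfin : Module.Finite ((MvPolynomial (Fin n) R₁) ⧸ I₁) ((FlatModel.V a n R₁) ⧸ K₁) := Module.Finite.of_restrictScalars_finite (MvPolynomial (Fin n) R₁) _ _
  have hpush : Algebra.IsPushout R₁ R ((MvPolynomial (Fin n) R₁) ⧸ I₁) S := by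
    refine ⟨IsBaseChange.of_lift_unique _ fun Q _ _ _ _ h => ?_⟩
    let H : MvPolynomial (Fin n) R →ₗ[R] Q :=
      (MvPolynomial.basisMonomials (Fin n) R).constr R fun d => h (Ideal.Quotient.mk I₁ (MvPolynomial.monomial d 1))
    have hHψ : ∀ q : (MvPolynomial (Fin n) R₁), H (ψ q) = h (Ideal.Quotient.mk I₁ q) := by
      intro q
      induction q using MvPolynomial.induction_on' with
      | monomial d r =>
        have h1 : ψ (MvPolynomial.monomial d r) = algebraMap R₁ R r • MvPolynomial.basisMonomials (Fin n) R d := by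
          simp only [ψ, MvPolynomial.map_monomial, MvPolynomial.coe_basisMonomials, MvPolynomial.smul_monomial, smul_eq_mul, mul_one]
        rw [h1, map_smul, Module.Basis.constr_basis, show MvPolynomial.monomial d r = r • MvPolynomial.monomial d (1 : R₁) by
          simp [MvPolynomial.smul_monomial]]
        show _ = h (r • Ideal.Quotient.mk I₁ _)
        rw [map_smul, algebraMap_smul]
      | add p q hp hq => simp only [map_add, hp, hq]
    have hkill : ∀ p, φ p = 0 → H p = 0 := by
      intro p hp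
      have hp' : p ∈ Submodule.span (MvPolynomial (Fin n) R) (MvPolynomial.map (algebraMap R₀ R) '' g₀) := hgS.ge hp
      suffices ∀ c : MvPolynomial (Fin n) R, H (c * p) = 0 by simpa using this 1
      clear hp
      induction hp' using Submodule.span_induction with
      | mem g hg =>
        obtain ⟨g, hg, rfl⟩ := hg
        intro c
        induction c using MvPolynomial.induction_on' with
        | monomial d r =>
          have : MvPolynomial.monomial d r * MvPolynomial.map (algebraMap R₀ R) g =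
              r • ψ (MvPolynomial.monomial d 1 * MvPolynomial.map (algebraMap R₀ R₁) g) := by
            rw [map_mul, hψ₀, ← smul_mul_assoc]
            simp [ψ, MvPolynomial.smul_monomial]
          rw [this, map_smul, hHψ, Ideal.Quotient.eq_zero_iff_mem.2
            (I₁.mul_mem_left _ (Ideal.subset_span ⟨g, hg, rfl⟩)), map_zero, smul_zero]
        | add c d hc hd => rw [add_mul, map_add, hc, hd, add_zero]
      | zero => intro c; simp
      | add p q _ _ hp hq => intro c; rw [mul_add, map_add, hp c, hq c, add_zero]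
      | smul r p hps hp => intro c; rw [smul_eq_mul, ← mul_assoc, hp]
    have hker' : LinearMap.ker φ.toLinearMap ≤ LinearMap.ker H := fun p hp => hkill p hp
    have hwd : ∀ p q, φ p = φ q → H p = H q := fun p q e => by
      have h0 := hkill (p - q) (by rw [map_sub, e, sub_self])
      rw [← sub_add_cancel p q, map_add, h0, zero_add]
    choose τ hτ using hφ
    let g' : S →ₗ[R] Q :=
      { toFun := fun x => H (τ x)
        map_add' := fun x y => by rw [← map_add]; exact hwd _ _ (by simp [hτ])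
        map_smul' := fun r x => by rw [RingHom.id_apply, ← map_smul]; exact hwd _ _ (by simp [hτ]) }
    have hg' : ∀ p, g' (φ p) = H p := fun p => hwd _ _ (hτ _)
    refine ⟨g', LinearMap.ext fun x => ?_, fun g'' hg'' => ?_⟩
    · obtain ⟨q, rfl⟩ := Ideal.Quotient.mk_surjective x
      exact (hg' (ψ q)).trans (hHψ q)
    · refine LinearMap.ext fun s => ?_
      obtain ⟨p, rfl⟩ : ∃ p, φ p = s := ⟨_, hτ s⟩
      rw [hg']
      show (g''.comp φ.toLinearMap) p = H p
      congr 1
      refine (MvPolynomial.basisMonomials (Fin n) R).ext fun d => ?_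
      rw [Module.Basis.constr_basis, ← hg'']
      show g'' (φ _) = g'' (φ (ψ _))
      congr 2
      simp [ψ]
  have hbc : IsBaseChange S f := by
    refine IsBaseChange.of_lift_unique _ fun Q _ _ _ _ h => ?_
    let H : FlatModel.V a n R → Q := fun x => ∑ i, φ (x i) • h (K₁.mkQ (Pi.single i 1))
    have hHadd : ∀ x y, H (x + y) = H x + H y := fun x y => by
      simp only [H, Pi.add_apply, map_add, add_smul, Finset.sum_add_distrib]
    have hHsmul : ∀ p x, H (p • x) = φ p • H x := fun p x => by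
      simp only [H, Pi.smul_apply, smul_eq_mul, map_mul, mul_smul, Finset.smul_sum]
    have hHψ : ∀ v : (FlatModel.V a n R₁), H (FlatModel.mapV (algebraMap R₁ R) v) = h (K₁.mkQ v) := fun v => by
      conv_rhs => rw [show v = ∑ i, v i • (Pi.single i 1 : (FlatModel.V a n R₁)) from pi_eq_sum_univ' v]
      rw [map_sum, map_sum]
      refine Finset.sum_congr rfl fun i _ => ?_
      rw [map_smul, ← IsScalarTower.algebraMap_smul ((MvPolynomial (Fin n) R₁) ⧸ I₁) (v i), map_smul,
        Ideal.Quotient.algebraMap_eq, ← algebraMap_smul S (Ideal.Quotient.mk I₁ (v i))]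
      rfl
    have hkill : ∀ x ∈ FlatModel.KK K₀ R, H x = 0 := by
      intro x hx
      induction hx using Submodule.span_induction with
      | mem x hx =>
        obtain ⟨w, hw, rfl⟩ := hx
        rw [← hmm₀ w, hHψ, Submodule.mkQ_apply,
          (Submodule.Quotient.mk_eq_zero K₁).2 (Submodule.subset_span ⟨w, hw, rfl⟩), map_zero]
      | zero => simp [H]
      | add x y _ _ hx hy => rw [hHadd, hx, hy, add_zero]
      | smul p x _ hx => rw [hHsmul, hx, smul_zero]
    have hwd : ∀ x y, π x = π y → H x = H y := fun x y e => by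
      have := hkill (x - y) (hker.ge (by rw [LinearMap.mem_ker, map_sub, e, sub_self]))
      rw [← sub_add_cancel x y, hHadd, this, zero_add]
    choose σ hσ using hπ
    let g' : M →ₗ[S] Q :=
      { toFun := fun m => H (σ m)
        map_add' := fun m m' => by rw [← hHadd]; exact hwd _ _ (by simp [hσ])
        map_smul' := fun s m => by
          obtain ⟨p, rfl⟩ := hφ s
          rw [RingHom.id_apply, ← hHsmul]
          exact hwd _ _ (by rw [hσ, map_smul, hσ, hsmulM]) }
    refine ⟨g', LinearMap.ext fun m => ?_, fun g'' hg'' => ?_⟩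
    · obtain ⟨v, rfl⟩ := K₁.mkQ_surjective m
      show H (σ _) = _
      rw [← hHψ]
      exact hwd _ _ ((hσ _).trans (hf v))
    · refine LinearMap.ext fun m => ?_
      show g'' m = H (σ m)
      conv_lhs => rw [← hσ m, hMsum, map_sum]
      refine Finset.sum_congr rfl fun i _ => ?_
      rw [map_smul, ← hfsingle, ← hg'']
      rfl
  exact ⟨R₁, inferInstance, inferInstance, MvPolynomial (Fin n) R₁ ⧸ I₁, inferInstance, inferInstance, inferInstance, inferInstance,
    inferInstance, inferInstance, FlatModel.V a n R₁ ⧸ K₁, inferInstance, inferInstance, inferInstance, inferInstance,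
    inferInstance, inferInstance, f, hft₁, hft₂, hfin, hR₁, hpush, hbc⟩



/-- Let R → S be of finite presentation and M a finitely presented S-module which is flat over R. Then
the triple descends to a finite type ℤ-algebra: there are R₀ of finite type over ℤ with R₀ → R, a
finite type R₀-algebra S₀ with a compatible map S₀ → S making S the base change R ⊗_{R₀} S₀, and a
finite S₀-module M₀ flat over R₀ with an S₀-linear map M₀ → M making M the base change S ⊗_{S₀} M₀. -/
theorem result (R : Type u) [CommRing R]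
    (S : Type u) [CommRing S] [Algebra R S] [Algebra.FinitePresentation R S] (M : Type u)
    [AddCommGroup M] [Module S M] [Module R M] [IsScalarTower R S M]
    [Module.FinitePresentation S M] [Module.Flat R M] :
    ∃ (R₀ : Type u) (_ : CommRing R₀) (_ : Algebra R₀ R) (S₀ : Type u) (_ : CommRing S₀)
      (_ : Algebra R₀ S₀) (_ : Algebra S₀ S) (_ : Algebra R₀ S) (_ : IsScalarTower R₀ R S)
      (_ : IsScalarTower R₀ S₀ S) (M₀ : Type u) (_ : AddCommGroup M₀) (_ : Module S₀ M₀)
      (_ : Module R₀ M₀) (_ : IsScalarTower R₀ S₀ M₀) (_ : Module S₀ M) (_ : IsScalarTower S₀ S M)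
      (f : M₀ →ₗ[S₀] M),
      Algebra.FiniteType ℤ R₀ ∧ Algebra.FiniteType R₀ S₀ ∧ Module.Finite S₀ M₀ ∧ Module.Flat R₀ M₀ ∧
        Algebra.IsPushout R₀ R S₀ S ∧ IsBaseChange S f := by
  classical
  obtain ⟨n, φ, hφ, hkerφ⟩ := Algebra.FinitePresentation.out (R := R) (A := S)
  let := φ.toRingHom.toAlgebra
  let := Module.compHom M φ.toRingHom
  have : IsScalarTower (MvPolynomial (Fin n) R) S M := ⟨fun p s m => mul_smul (φ p) s m⟩
  have : IsScalarTower R (MvPolynomial (Fin n) R) M := ⟨fun r p m => by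
    show φ (r • p) • m = r • φ p • m
    rw [map_smul, smul_assoc]⟩
  have hkA : (LinearMap.ker (Algebra.linearMap (MvPolynomial (Fin n) R) S)).FG := hkerφ
  have : Module.FinitePresentation (MvPolynomial (Fin n) R) S :=
    Module.finitePresentation_of_surjective (Algebra.linearMap (MvPolynomial (Fin n) R) S) hφ hkA
  have : Module.FinitePresentation (MvPolynomial (Fin n) R) M := Module.FinitePresentation.trans _ M S
  obtain ⟨a, π, hπ⟩ := Module.Finite.exists_fin' (MvPolynomial (Fin n) R) M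
  obtain ⟨G, hG⟩ := Module.FinitePresentation.fg_ker π hπ
  obtain ⟨gS, hgS⟩ := hkerφ
  let c : Finset R := (G.biUnion fun v => Finset.univ.biUnion fun i => (v i).coeffs) ∪ gS.biUnion fun g => g.coeffs
  let R₀ : Subalgebra ℤ R := Algebra.adjoin ℤ (c : Set R)
  have : Algebra.FiniteType ℤ R₀ := (Subalgebra.fg_iff_finiteType R₀).1 (Subalgebra.fg_adjoin_finset c)
  have : IsNoetherianRing R₀ := Algebra.FiniteType.isNoetherianRing ℤ R₀
  have hdesc : ∀ p : MvPolynomial (Fin n) R, (p.coeffs : Set R) ⊆ c →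
      p ∈ Set.range (MvPolynomial.map (algebraMap R₀ R)) := fun p hp =>
    MvPolynomial.mem_range_map_iff_coeffs_subset.2 fun x hx => ⟨⟨x, Algebra.subset_adjoin (hp hx)⟩, rfl⟩
  have hGdesc : ∀ v ∈ G, ∃ w : (FlatModel.V a n R₀), FlatModel.mapV (algebraMap R₀ R) w = v := by
    intro v hv
    have : ∀ i, ∃ q : (MvPolynomial (Fin n) R₀), MvPolynomial.map (algebraMap R₀ R) q = v i := fun i => hdesc (v i) fun x hx =>
      Finset.mem_union_left _ (Finset.mem_biUnion.2 ⟨v, hv, Finset.mem_biUnion.2 ⟨i, Finset.mem_univ _, hx⟩⟩)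
    choose w hw using this
    exact ⟨w, funext hw⟩
  have hgdesc : ∀ g ∈ gS, ∃ q : (MvPolynomial (Fin n) R₀), MvPolynomial.map (algebraMap R₀ R) q = g := fun g hg => hdesc g fun x hx =>
    Finset.mem_union_right _ (Finset.mem_biUnion.2 ⟨g, hg, hx⟩)
  choose! lv hlv using hGdesc
  choose! lg hlg using hgdesc
  let gens : Set (FlatModel.V a n R₀) := lv '' G ∪ {x | ∃ g ∈ gS, ∃ i, x = lg g • (Pi.single i 1 : (FlatModel.V a n R₀))}
  let K₀ : Submodule (MvPolynomial (Fin n) R₀) (FlatModel.V a n R₀) := Submodule.span (MvPolynomial (Fin n) R₀) gens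
  have hsingle : ∀ (T : Type u) [CommRing T] [Algebra R₀ T] (i : Fin a),
      FlatModel.mapV (algebraMap R₀ T) (Pi.single i 1 : (FlatModel.V a n R₀)) = Pi.single i 1 := fun T _ _ i => by
    ext j : 1
    by_cases h : j = i
    · subst h; simp
    · simp [h]
  have hker : FlatModel.KK K₀ R = LinearMap.ker π := by
    apply le_antisymm
    · rw [FlatModel.KK, Submodule.span_le]
      rintro _ ⟨w, hw, rfl⟩
      refine Submodule.span_le.2 ?_ (FlatModel.mapV_mem_span (algebraMap R₀ R) hw)
      rintro _ ⟨w, hw, rfl⟩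
      rcases hw with ⟨v, hv, rfl⟩ | ⟨g, hg, i, rfl⟩
      · rw [hlv v hv]; exact hG.le (Submodule.subset_span hv)
      · rw [SetLike.mem_coe, LinearMap.mem_ker, FlatModel.mapV_smul, map_smul, hlg g hg]
        have : φ g = 0 := hgS.le (Submodule.subset_span hg)
        show φ g • π _ = 0
        rw [this, zero_smul]
    · rw [← hG, Submodule.span_le]
      intro v hv
      exact Submodule.subset_span ⟨lv v, Submodule.subset_span (Or.inl ⟨v, hv, rfl⟩), hlv v hv⟩
  have hflat : FlatModel.FlatC K₀ R := by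
    rw [FlatModel.flatC_iff_flat, hker]
    exact Module.Flat.of_linearEquiv ((π.quotKerEquivOfSurjective hπ).restrictScalars R)
  obtain ⟨R₁, hR₁fg, hR₁⟩ := FlatModel.exists_fg_flatC K₀ hflat
  have hft₁ : Algebra.FiniteType ℤ R₁ := by
    have : Algebra.FiniteType R₀ R₁ := (Subalgebra.fg_iff_finiteType R₁).1 hR₁fg
    exact Algebra.FiniteType.trans (R := ℤ) (S := R₀) (A := R₁) inferInstance inferInstance
  rw [FlatModel.flatC_iff_flat] at hR₁
  refine model R S M φ hφ (fun p => rfl) π hπ R₀ K₀ hker (lg '' gS) ?_ ?_ R₁ hft₁ hR₁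
  · rw [← hgS, Set.image_image, Set.image_congr fun g hg => hlg g hg, Set.image_id']
  · rintro _ ⟨g, hg, rfl⟩ i
    exact Submodule.subset_span (Or.inr ⟨g, hg, i, rfl⟩)


end Groth.Agent.S9456
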