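import Groth.Statements.S9457
import Mathlib.RingTheory.Etale.QuasiFinite
import Mathlib.RingTheory.TensorProduct.Pi
import Mathlib.Tactic

set_option autoImplicit false
universe u
open CAlg

namespace Groth.Agent.S9457
open TensorProduct

/-- The fibre over a prime. -/
abbrev Fib (R S : Type u) [CommRing R] [CommRing S] [Algebra R S] (p : Ideal R) [hp : p.IsPrime] :
    Set (PrimeSpectrum S) :=
  PrimeSpectrum.comap (algebraMap R S) ⁻¹' {⟨p, hp⟩}

/-- The isolated points of the fibre. -/
abbrev Iso₀ (R S : Type u) [CommRing R] [CommRing S] [Algebra R S] (p : Ideal R) [p.IsPrime] :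
    Set (Fib R S p) :=
  {x | IsOpen ({x} : Set (Fib R S p))}

theorem iso₀_finite (R S : Type u) [CommRing R] [CommRing S] [Algebra R S] [Algebra.FiniteType R S]
    (p : Ideal R) [hp : p.IsPrime] : (Iso₀ R S p).Finite := by
  let h := PrimeSpectrum.preimageHomeomorphFiber R S ⟨p, hp⟩
  haveI : IsNoetherianRing (p.Fiber S) := Algebra.FiniteType.isNoetherianRing p.ResidueField _
  have hU : IsCompact (h '' Iso₀ R S p) := TopologicalSpace.NoetherianSpace.isCompact _
  have hd : IsDiscrete (h '' Iso₀ R S p) := by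
    refine ⟨discreteTopology_iff_isOpen_singleton.2 fun ⟨y, hy⟩ => ?_⟩
    obtain ⟨x, hx, rfl⟩ := hy
    have ho : IsOpen ({h x} : Set _) := by
      rw [← Set.image_singleton]; exact h.isOpen_image.2 hx
    convert ho.preimage (continuous_subtype_val (p := (· ∈ h '' Iso₀ R S p))) using 1
    ext z
    simp [Subtype.ext_iff]
  exact (hU.finite hd).of_finite_image h.injective.injOn

/-- A point with the same residue field. -/
def Triv (R R' : Type u) [CommRing R] [CommRing R'] [Algebra R R'] (p : Ideal R) [p.IsPrime]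
    (P : Ideal R') [P.IsPrime] [P.LiesOver p] : Prop :=
  Function.Bijective (Ideal.ResidueField.mapₐ p P (Algebra.ofId R R') (P.over_def p))

/-- Fibres do not change along a residually trivial point. -/
noncomputable def fibHomeo {R R' : Type u} [CommRing R] [CommRing R'] [Algebra R R'] (S : Type u)
    [CommRing S] [Algebra R S] {p : Ideal R} [hp : p.IsPrime] {P : Ideal R'} [hP : P.IsPrime]
    [P.LiesOver p] (h : Triv R R' p P) : Fib R' (R' ⊗[R] S) P ≃ₜ Fib R S p :=
  ((PrimeSpectrum.preimageHomeomorphFiber R' (R' ⊗[R] S) ⟨P, hP⟩).trans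
    (PrimeSpectrum.homeomorphOfRingEquiv
      (((Algebra.TensorProduct.cancelBaseChange R R' R' P.ResidueField S).restrictScalars R).trans
        (Algebra.TensorProduct.congr (AlgEquiv.ofBijective _ h).symm .refl)).toRingEquiv)).trans
    (PrimeSpectrum.preimageHomeomorphFiber R S ⟨p, hp⟩).symm

/-- The conclusion over one base. -/
def Dec (R' : Type u) [CommRing R'] (P : Ideal R') (T : Type u) [CommRing T] [Algebra R' T] : Prop :=
  ∃ (n : ℕ) (A : Fin n → Type u) (_ : ∀ i, CommRing (A i)) (_ : ∀ i, Algebra R' (A i))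
    (B : Type u) (_ : CommRing B) (_ : Algebra R' B),
    Nonempty (T ≃ₐ[R'] ((∀ i, A i) × B)) ∧
      (∀ i, Module.Finite R' (A i) ∧
        ∃! r : Ideal (A i), r.IsPrime ∧ r.comap (algebraMap R' (A i)) = P) ∧
      ∀ (q : Ideal B) [q.IsPrime], q.comap (algebraMap R' B) = P → ¬ Algebra.QuasiFiniteAt R' q

theorem Dec.cons {R' : Type u} [CommRing R'] {P : Ideal R'} {T A₀ B₁ : Type u} [CommRing T]
    [Algebra R' T] [CommRing A₀] [Algebra R' A₀] [CommRing B₁] [Algebra R' B₁]
    (e : T ≃ₐ[R'] A₀ × B₁) (hA₀ : Module.Finite R' A₀)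
    (hu : ∃! r : Ideal A₀, r.IsPrime ∧ r.comap (algebraMap R' A₀) = P) (h : Dec R' P B₁) : Dec R' P T := by
  obtain ⟨n, A, iA, iA', B, iB, iB', ⟨e₁⟩, hA, hB⟩ := h
  let A' : Fin (n + 1) → Type u := Fin.cons A₀ A
  let iC : ∀ i, CommRing (A' i) := Fin.cons (α := fun i => CommRing (A' i)) ‹_› iA
  letI := iC
  let iD : ∀ i, Algebra R' (A' i) := Fin.cons (α := fun i => Algebra R' (A' i)) ‹_› iA'
  letI := iD
  let c : (A₀ × ((∀ i, A i) × B)) ≃ₐ[R'] ((∀ i, A' i) × B) :=
    AlgEquiv.ofBijective
      (AlgHom.prod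
        (Pi.algHom R' A' (Fin.cons (α := fun i => (A₀ × ((∀ i, A i) × B)) →ₐ[R'] A' i)
          (AlgHom.fst R' A₀ _)
          fun i => ((Pi.evalAlgHom R' A i).comp ((AlgHom.fst R' _ B).comp (AlgHom.snd R' A₀ _)))))
        ((AlgHom.snd R' _ B).comp (AlgHom.snd R' A₀ _)))
      ⟨fun x y hxy => by
        obtain ⟨h1, h2⟩ := Prod.ext_iff.1 hxy
        exact Prod.ext (congrFun h1 0) (Prod.ext (funext fun i => congrFun h1 i.succ) h2),
      fun z => ⟨(z.1 0, (fun i => z.1 i.succ, z.2)),
        Prod.ext (funext fun i => by cases i using Fin.cases <;> rfl) rfl⟩⟩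
  refine ⟨n + 1, A', iC, iD, B, iB, iB', ⟨e.trans ((AlgEquiv.prodCongr .refl e₁).trans c)⟩,
    fun i => ?_, hB⟩
  cases i using Fin.cases with
  | zero => exact ⟨hA₀, hu⟩
  | succ j => exact hA j

theorem existsUnique_iff_fib {R S : Type u} [CommRing R] [CommRing S] [Algebra R S] (p : Ideal R)
    [hp : p.IsPrime] :
    (∃! r : Ideal S, r.IsPrime ∧ r.comap (algebraMap R S) = p) ↔ Nonempty (Unique (Fib R S p)) := by
  constructor
  · rintro ⟨r, ⟨hr, hr'⟩, hu⟩
    exact ⟨{ default := ⟨⟨r, hr⟩, PrimeSpectrum.ext hr'⟩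
             uniq := fun x => Subtype.ext (PrimeSpectrum.ext
               (hu _ ⟨x.1.isPrime, congrArg PrimeSpectrum.asIdeal x.2⟩)) }⟩
  · rintro ⟨h⟩
    exact ⟨h.default.1.asIdeal, ⟨h.default.1.isPrime, congrArg PrimeSpectrum.asIdeal h.default.2⟩,
      fun r ⟨hr, hr'⟩ => congrArg (fun x : Fib R S p => x.1.asIdeal)
        (h.uniq ⟨⟨r, hr⟩, PrimeSpectrum.ext hr'⟩)⟩

theorem main : ∀ (n : ℕ) (R : Type u) [CommRing R] (S : Type u) [CommRing S] [Algebra R S]
    [Algebra.FiniteType R S] (p : Ideal R) [p.IsPrime], (Iso₀ R S p).ncard ≤ n →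
    ∃ (R' : Type u) (_ : CommRing R') (_ : Algebra R R') (_ : Algebra.Etale R R') (P : Ideal R')
      (_ : P.IsPrime) (_ : P.LiesOver p), Triv R R' p P ∧ Dec R' P (R' ⊗[R] S) := by
  intro n
  induction n with
  | zero =>
    intro R _ S _ _ _ p hp hn
    refine ⟨R, inferInstance, Algebra.id R, inferInstance, p, hp, ⟨rfl⟩, ?_, 0, fun _ => R,
      fun _ => inferInstance, fun _ => inferInstance, S, inferInstance, inferInstance, ⟨?_⟩, fun i => i.elim0,
      fun q hq hqp hqf => ?_⟩
    · rw [Triv, show Ideal.ResidueField.mapₐ p p (Algebra.ofId R R) rfl = AlgHom.id R _ from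
        Ideal.ResidueField.algHom_ext (Subsingleton.elim _ _)]
      exact Function.bijective_id
    · exact (Algebra.TensorProduct.lid R S).trans
        (AlgEquiv.ofBijective (AlgHom.snd R (Fin 0 → R) S)
          ⟨fun x y hxy => Prod.ext (Subsingleton.elim _ _) hxy, fun z => ⟨(0, z), rfl⟩⟩).symm
    · have hx : IsOpen ({⟨⟨q, hq⟩, PrimeSpectrum.ext hqp⟩} : Set (Fib R S p)) := by
        obtain rfl : q.comap (algebraMap R S) = p := hqp
        exact (Algebra.quasiFiniteAt_iff_isOpen_singleton_fiber ⟨q, hq⟩).1 hqf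
      exact absurd (Nat.le_zero.1 hn) ((Set.ncard_pos (iso₀_finite R S p)).2 ⟨_, hx⟩).ne'
  | succ n ih =>
    intro R _ S _ _ _ p hp hn
    by_cases hle : (Iso₀ R S p).ncard ≤ n
    · exact ih R S p hle
    obtain ⟨⟨⟨q, hq⟩, hqp⟩, hqo⟩ := (Set.ncard_pos (iso₀_finite R S p)).1 (show 0 < _ by omega)
    have hp' : q.comap (algebraMap R S) = p := congrArg PrimeSpectrum.asIdeal hqp
    haveI : q.LiesOver p := ⟨hp'.symm⟩
    haveI : Algebra.QuasiFiniteAt R q := by
      subst hp'
      exact Algebra.QuasiFiniteAt.of_isOpen_singleton_fiber ⟨q, hq⟩ hqo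
    obtain ⟨R', _, _, _, P, _, _, e, he, P', _, _, -, heP', hbij, hfin, huniq⟩ :=
      Algebra.exists_etale_isIdempotentElem_forall_liesOver_eq p q
    let T := R' ⊗[R] S
    let A₁ := T ⧸ Ideal.span ({1 - e} : Set T)
    let B₁ := T ⧸ Ideal.span ({e} : Set T)
    let x₀ : Fib R' T P := ⟨⟨P', inferInstance⟩, PrimeSpectrum.ext (P'.over_def P).symm⟩
    have hmem : ∀ x : Fib R' T P, e ∉ x.1.asIdeal → x = x₀ := fun x hx => Subtype.ext (PrimeSpectrum.ext
      (huniq _ x.1.isPrime ⟨(congrArg PrimeSpectrum.asIdeal x.2).symm⟩ hx))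
    have hx₀ : IsOpen ({x₀} : Set (Fib R' T P)) := by
      convert (PrimeSpectrum.isOpen_basicOpen (a := e)).preimage
        (continuous_subtype_val (p := (· ∈ Fib R' T P))) using 1
      ext x
      exact ⟨fun hx => hx ▸ heP', hmem x⟩
    have hor : ∀ x : Fib R' T P, e ∈ x.1.asIdeal ↔ 1 - e ∉ x.1.asIdeal := fun x => by
      refine ⟨fun h h' => x.1.isPrime.ne_top ((Ideal.eq_top_iff_one _).2
        (by simpa using add_mem h h')), fun h => ?_⟩
      exact (x.1.isPrime.mem_or_mem (show e * (1 - e) ∈ x.1.asIdeal by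
        rw [mul_sub, mul_one, he.eq, sub_self]; exact zero_mem _)).resolve_right h
    let j : Fib R' B₁ P → Fib R' T P := fun x =>
      ⟨PrimeSpectrum.comap (Ideal.Quotient.mk (Ideal.span ({e} : Set T))) x.1, PrimeSpectrum.ext
        ((show _ = x.1.asIdeal.comap (algebraMap R' B₁) from rfl).trans (congrArg PrimeSpectrum.asIdeal x.2))⟩
    have hjc : Topology.IsEmbedding j := by
      refine Topology.IsEmbedding.of_comp ?_ continuous_subtype_val
        ((PrimeSpectrum.isClosedEmbedding_comap_of_surjective _ _ Ideal.Quotient.mk_surjective).isEmbedding.comp .subtypeVal)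
      exact Continuous.subtype_mk ((PrimeSpectrum.continuous_comap _).comp continuous_subtype_val) _
    have hrange : Set.range j = {x | 1 - e ∉ x.1.asIdeal} := by
      refine Set.ext fun x => ⟨?_, fun hx => ?_⟩
      · rintro ⟨y, rfl⟩
        exact (hor _).1 (show Ideal.Quotient.mk _ e ∈ y.1.asIdeal by
          rw [Ideal.Quotient.eq_zero_iff_mem.2 (Ideal.mem_span_singleton_self e)]; exact zero_mem _)
      · have hle : RingHom.ker (Ideal.Quotient.mk (Ideal.span ({e} : Set T))) ≤ x.1.asIdeal := by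
          rw [Ideal.mk_ker, Ideal.span_le, Set.singleton_subset_iff]; exact (hor x).2 hx
        haveI := Ideal.map_isPrime_of_surjective (f := Ideal.Quotient.mk (Ideal.span ({e} : Set T)))
          Ideal.Quotient.mk_surjective hle
        have hcm : (x.1.asIdeal.map (Ideal.Quotient.mk _)).comap (Ideal.Quotient.mk (Ideal.span ({e} : Set T))) =
            x.1.asIdeal := by
          rw [Ideal.comap_map_of_surjective' _ Ideal.Quotient.mk_surjective, sup_eq_left.2 hle]
        refine ⟨⟨⟨x.1.asIdeal.map (Ideal.Quotient.mk _), inferInstance⟩, PrimeSpectrum.ext ?_⟩,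
          Subtype.ext (PrimeSpectrum.ext hcm)⟩
        show Ideal.comap (algebraMap R' B₁) _ = P
        rw [show algebraMap R' B₁ = (Ideal.Quotient.mk _).comp (algebraMap R' T) from rfl,
          ← Ideal.comap_comap, hcm]
        exact congrArg PrimeSpectrum.asIdeal x.2
    have hjo : IsOpen (Set.range j) := by
      rw [hrange]
      exact (PrimeSpectrum.isOpen_basicOpen (a := 1 - e)).preimage
        (continuous_subtype_val (p := (· ∈ Fib R' T P)))
    have hopen : Topology.IsOpenEmbedding j := ⟨hjc, hjo⟩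
    let hh := fibHomeo S (R' := R') hbij
    have hcount : (Iso₀ R' B₁ P).ncard ≤ n := by
      have h1 : (Iso₀ R' B₁ P).ncard ≤ (Iso₀ R S p \ {hh x₀}).ncard := by
        refine Set.ncard_le_ncard_of_injOn (fun x => hh (j x)) (fun x hx => ⟨?_, ?_⟩)
          ((hh.injective.comp hjc.injective).injOn) ((iso₀_finite R S p).diff)
        · show IsOpen ({hh (j x)} : Set (Fib R S p))
          rw [← Set.image_singleton (f := fun x => hh (j x)), ← Set.image_image hh j, hh.isOpen_image]
          exact hopen.isOpenMap _ hx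
        · intro hxe
          have : x₀ ∈ Set.range j := ⟨x, hh.injective hxe⟩
          rw [hrange] at this
          exact (hor x₀).not.1 heP' this
      have h2 : hh x₀ ∈ Iso₀ R S p := by
        show IsOpen ({hh x₀} : Set (Fib R S p))
        rw [← Set.image_singleton, hh.isOpen_image]; exact hx₀
      rw [Set.ncard_diff_singleton_of_mem h2] at h1
      omega
    obtain ⟨R'', iR'', iA'', hEt, P'', hP'', hlo, hbij', hdec⟩ := ih R' B₁ P hcount
    letI : Algebra R R'' := ((algebraMap R' R'').comp (algebraMap R R')).toAlgebra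
    haveI : IsScalarTower R R' R'' := .of_algebraMap_eq' rfl
    haveI : P''.LiesOver p := .trans P'' P p
    refine ⟨R'', iR'', inferInstance, Algebra.Etale.comp R R' R'', P'', hP'', inferInstance, ?_, ?_⟩
    · have hc : Ideal.ResidueField.mapₐ p P'' (Algebra.ofId R R'') (P''.over_def p) =
          ((Ideal.ResidueField.mapₐ P P'' (Algebra.ofId R' R'') (P''.over_def P)).restrictScalars R).comp
            (Ideal.ResidueField.mapₐ p P (Algebra.ofId R R') (P.over_def p)) :=
        Ideal.ResidueField.algHom_ext (Subsingleton.elim _ _)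
      rw [Triv, hc]
      exact hbij'.comp hbij
    · let π₁ : T →ₐ[R'] A₁ := Ideal.Quotient.mkₐ R' _
      let π₂ : T →ₐ[R'] B₁ := Ideal.Quotient.mkₐ R' _
      have hπ : ∀ t : T, (π₁ t = 0 ↔ e * t = 0) ∧ (π₂ t = 0 ↔ e * t = t) := by
        intro t
        show (Ideal.Quotient.mk (Ideal.span ({1 - e} : Set T)) t = 0 ↔ _) ∧
          (Ideal.Quotient.mk (Ideal.span ({e} : Set T)) t = 0 ↔ _)
        rw [Ideal.Quotient.eq_zero_iff_mem, Ideal.Quotient.eq_zero_iff_mem, Ideal.mem_span_singleton',
          Ideal.mem_span_singleton']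
        refine ⟨⟨?_, fun h => ⟨t, by rw [mul_sub, mul_one, mul_comm t, h, sub_zero]⟩⟩,
          ⟨?_, fun h => ⟨t, by rw [mul_comm, h]⟩⟩⟩
        · rintro ⟨a, rfl⟩; linear_combination (-a) * he.eq
        · rintro ⟨a, rfl⟩; linear_combination a * he.eq
      let crt : T ≃ₐ[R'] A₁ × B₁ := AlgEquiv.ofBijective (π₁.prod π₂) ⟨(injective_iff_map_eq_zero _).2 fun t ht => by
          have h1 : π₁ t = 0 := congrArg Prod.fst ht
          have h2 : π₂ t = 0 := congrArg Prod.snd ht
          rw [← (hπ t).2.1 h2, (hπ t).1.1 h1],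
        fun z => by
          obtain ⟨z₁, z₂⟩ := z
          obtain ⟨a, ha⟩ := Ideal.Quotient.mk_surjective z₁
          obtain ⟨b, hb⟩ := Ideal.Quotient.mk_surjective z₂
          refine ⟨e * a + (1 - e) * b, Prod.ext ?_ ?_⟩
          · refine Eq.trans ?_ ha
            rw [← sub_eq_zero]
            show π₁ _ - π₁ a = 0
            rw [← map_sub, (hπ _).1]
            linear_combination (a - b) * he.eq
          · refine Eq.trans ?_ hb
            rw [← sub_eq_zero]
            show π₂ _ - π₂ b = 0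
            rw [← map_sub, (hπ _).2]
            linear_combination (a - b) * he.eq⟩
      let ψ : R'' ⊗[R] S ≃ₐ[R''] (R'' ⊗[R'] A₁) × (R'' ⊗[R'] B₁) :=
        ((Algebra.TensorProduct.cancelBaseChange R R' R'' R'' S).symm.trans
          (Algebra.TensorProduct.congr .refl crt)).trans (Algebra.TensorProduct.prodRight R' R'' R'' A₁ B₁)
      haveI hA₁ : Module.Finite R' A₁ := by
        have hunit : IsUnit (Ideal.Quotient.mkₐ R' (Ideal.span ({1 - e} : Set T)) e) := by
          rw [show Ideal.Quotient.mkₐ R' (Ideal.span ({1 - e} : Set T)) e = 1 from by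
            rw [← map_one (Ideal.Quotient.mkₐ R' (Ideal.span ({1 - e} : Set T))), eq_comm,
              Ideal.Quotient.mkₐ_eq_mk, Ideal.Quotient.mk_eq_mk_iff_sub_mem]
            exact Ideal.mem_span_singleton_self _]
          exact isUnit_one
        let φ : Localization.Away e →+* A₁ := IsLocalization.Away.lift (g := Ideal.Quotient.mk _) e hunit
        let φ' : Localization.Away e →ₐ[R'] A₁ :=
          AlgHom.mk φ (fun r => by
            show φ (algebraMap R' (Localization.Away e) r) = _
            rw [IsScalarTower.algebraMap_apply R' T (Localization.Away e)]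
            exact IsLocalization.Away.lift_eq e hunit _)
        refine Module.Finite.of_surjective φ'.toLinearMap fun z => ?_
        obtain ⟨a, rfl⟩ := Ideal.Quotient.mk_surjective z
        exact ⟨algebraMap T _ a, IsLocalization.Away.lift_eq e hunit a⟩
      refine Dec.cons (A₀ := R'' ⊗[R'] A₁) ψ ?_ ?_ hdec
      · exact Module.Finite.base_change R' R'' A₁
      rw [existsUnique_iff_fib]
      haveI : Unique (Fib R' A₁ P) := by
        refine ((existsUnique_iff_fib P).1 ?_).some
        have hle : RingHom.ker (Ideal.Quotient.mk (Ideal.span ({1 - e} : Set T))) ≤ P' := by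
          rw [Ideal.mk_ker, Ideal.span_le, Set.singleton_subset_iff]
          exact ((inferInstance : P'.IsPrime).mem_or_mem (show e * (1 - e) ∈ P' by
            rw [mul_sub, mul_one, he.eq, sub_self]; exact zero_mem _)).resolve_left heP'
        haveI := Ideal.map_isPrime_of_surjective (f := Ideal.Quotient.mk (Ideal.span ({1 - e} : Set T)))
          Ideal.Quotient.mk_surjective hle
        refine ⟨P'.map (Ideal.Quotient.mk (Ideal.span ({1 - e} : Set T))), ⟨inferInstance, ?_⟩, ?_⟩
        · rw [show algebraMap R' A₁ = (Ideal.Quotient.mk _).comp (algebraMap R' T) from rfl, ← Ideal.comap_comap,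
            Ideal.comap_map_of_surjective' _ Ideal.Quotient.mk_surjective, sup_eq_left.2 hle]
          exact (P'.over_def P).symm
        · rintro r ⟨hr, hrP⟩
          rw [← Ideal.map_comap_of_surjective (Ideal.Quotient.mk (Ideal.span ({1 - e} : Set T)))
            Ideal.Quotient.mk_surjective r]
          congr 1
          refine huniq _ (Ideal.IsPrime.comap _) ⟨hrP.symm⟩ fun hc => hr.ne_top ((Ideal.eq_top_iff_one _).2 ?_)
          rw [Ideal.mem_comap] at hc
          rwa [← map_one (Ideal.Quotient.mk (Ideal.span ({1 - e} : Set T))),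
            (Ideal.Quotient.mk_eq_mk_iff_sub_mem (1 : T) e).2 (Ideal.mem_span_singleton_self _)]
      exact ⟨(fibHomeo A₁ hbij').toEquiv.unique⟩


open TensorProduct in
/-- For a finite type ring map R → S and a prime p of R there are an étale R-algebra R', a prime p' of
R' over p with trivial residue field extension κ(p) = κ(p') (the image of R generates κ(p') as a
field), and a decomposition R' ⊗_R S ≅ A_1 × ⋯ × A_n × B of R'-algebras in which every A_i is finite
over R' with exactly one prime lying over p' and R' → B is quasi-finite at no prime of B lying over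
p'. -/
theorem result (R : Type u) [CommRing R]
    (S : Type u) [CommRing S] [Algebra R S] [Algebra.FiniteType R S] (p : Ideal R) [p.IsPrime] :
    ∃ (R' : Type u) (_ : CommRing R') (_ : Algebra R R') (_ : Algebra.Etale R R') (p' : Ideal R')
      (_ : p'.IsPrime) (_ : p'.LiesOver p) (n : ℕ) (A : Fin n → Type u) (_ : ∀ i, CommRing (A i))
      (_ : ∀ i, Algebra R' (A i)) (B : Type u) (_ : CommRing B) (_ : Algebra R' B),
      Subfield.closure (Set.range (algebraMap R p'.ResidueField)) = ⊤ ∧
      Nonempty ((R' ⊗[R] S) ≃ₐ[R'] ((∀ i, A i) × B)) ∧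
        (∀ i, Module.Finite R' (A i) ∧
          ∃! r : Ideal (A i), r.IsPrime ∧ r.comap (algebraMap R' (A i)) = p') ∧
        ∀ (q : Ideal B) [q.IsPrime], q.comap (algebraMap R' B) = p' →
          ¬ Algebra.QuasiFiniteAt R' q := by
  obtain ⟨R', i1, i2, i3, P, i4, i5, hbij, n, A, iA, iA', B, iB, iB', he, hA, hB⟩ :=
    main _ R S p le_rfl
  refine ⟨R', i1, i2, i3, P, i4, i5, n, A, iA, iA', B, iB, iB', ?_, he, hA, hB⟩
  refine eq_top_iff.2 fun y _ => ?_
  obtain ⟨x, rfl⟩ := hbij.2 y
  obtain ⟨a, b, -, rfl⟩ := IsFractionRing.div_surjective (A := R ⧸ p) x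
  obtain ⟨a, rfl⟩ := Ideal.Quotient.mk_surjective a
  obtain ⟨b, rfl⟩ := Ideal.Quotient.mk_surjective b
  rw [Ideal.algebraMap_quotient_residueField_mk, Ideal.algebraMap_quotient_residueField_mk, map_div₀,
    AlgHom.commutes, AlgHom.commutes]
  exact div_mem (Subfield.subset_closure ⟨a, rfl⟩) (Subfield.subset_closure ⟨b, rfl⟩)


end Groth.Agent.S9457
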