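import Groth.Statements.S9458
import Groth.Agent.Hensel.TensorHenzFinite
-- import your own Groth.Agent.* helpers here

set_option autoImplicit false
universe u
open Hensel

namespace Groth.Agent.S9458

/-- Let R → S be of finite type and quasi-finite at a prime q lying over p, and let R_p^h, S_q^h be
henselizations of the local rings, S_q^h carrying the compatible R_p^h-algebra structure (the
canonical local map R_p^h → S_q^h). Then S_q^h is finite over R_p^h. (The published statement also
identifies S_q^h with a localization of R_p^h ⊗_{R_p} S_q; this row states only that S_q^h is finite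
over R_p^h.) -/
theorem result (R : Type u) [CommRing R] (S : Type u)
    [CommRing S] [Algebra R S] [Algebra.FiniteType R S] (p : Ideal R) [p.IsPrime] (q : Ideal S)
    [q.IsPrime] [q.LiesOver p] [Algebra.QuasiFiniteAt R q]
    (Rh : Type u) [CommRing Rh] [IsLocalRing Rh] [Algebra (Localization.AtPrime p) Rh]
    [IsLocalHom (algebraMap (Localization.AtPrime p) Rh)]
    [Hensel.IsHenselization (Localization.AtPrime p) Rh]
    (Sh : Type u) [CommRing Sh] [IsLocalRing Sh] [Algebra (Localization.AtPrime q) Sh]
    [IsLocalHom (algebraMap (Localization.AtPrime q) Sh)]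
    [Hensel.IsHenselization (Localization.AtPrime q) Sh]
    [Algebra (Localization.AtPrime p) (Localization.AtPrime q)]
    [IsScalarTower R (Localization.AtPrime p) (Localization.AtPrime q)]
    [Algebra Rh Sh] [Algebra (Localization.AtPrime p) Sh]
    [IsScalarTower (Localization.AtPrime p) Rh Sh]
    [IsScalarTower (Localization.AtPrime p) (Localization.AtPrime q) Sh] :
    Module.Finite Rh Sh := by
  let : Algebra R Rh := ((algebraMap (Localization.AtPrime p) Rh).comp (algebraMap R _)).toAlgebra
  let : Algebra S Sh := ((algebraMap (Localization.AtPrime q) Sh).comp (algebraMap S _)).toAlgebra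
  let : Algebra R Sh := ((algebraMap S Sh).comp (algebraMap R S)).toAlgebra
  have : IsScalarTower R (Localization.AtPrime p) Rh := .of_algebraMap_eq fun _ => rfl
  have : IsScalarTower S (Localization.AtPrime q) Sh := .of_algebraMap_eq fun _ => rfl
  have : IsScalarTower R S Sh := .of_algebraMap_eq fun _ => rfl
  have : IsScalarTower R Rh Sh := .of_algebraMap_eq fun r => by
    show algebraMap (Localization.AtPrime q) Sh (algebraMap S _ (algebraMap R S r)) = algebraMap Rh Sh (algebraMap (Localization.AtPrime p) Rh (algebraMap R _ r))
    rw [← IsScalarTower.algebraMap_apply (Localization.AtPrime p) Rh Sh,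
      IsScalarTower.algebraMap_apply (Localization.AtPrime p) (Localization.AtPrime q) Sh,
      ← IsScalarTower.algebraMap_apply R S, ← IsScalarTower.algebraMap_apply R (Localization.AtPrime p)]
  exact Groth.Agent.Hensel.finite_henz R S p q Rh Sh

end Groth.Agent.S9458
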