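import Groth.Statements.S9462
import Mathlib
import Groth.Agent.LocalCrit.Flatness

set_option autoImplicit false
universe u
open CAlg

namespace Groth.Agent.S9462
open TensorProduct in
theorem flat_lift (A' : Type u) [CommRing A'] (A : Type u) [CommRing A]
    [Algebra A' A] (hA : Function.Surjective (algebraMap A' A))
    (hI : RingHom.ker (algebraMap A' A) ^ 2 = ⊥)
    (B' : Type u) [CommRing B'] [Algebra A' B'] (B : Type u) [CommRing B] [Algebra B' B]
    [Algebra A B] [Algebra A' B] [IsScalarTower A' A B] [IsScalarTower A' B' B]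
    (hB : Function.Surjective (algebraMap B' B)) [Module.Flat A B]
    (hJI : RingHom.ker (algebraMap B' B) = (RingHom.ker (algebraMap A' A)).map (algebraMap A' B'))
    (hinj : Function.Injective ((RingHom.ker (algebraMap A' A)).subtype.baseChange B')) :
    Module.Flat A' B' := by
  set I := RingHom.ker (algebraMap A' A)
  have hinj' : Function.Injective (I.subtype.rTensor B') := by
    intro x y hxy
    apply (TensorProduct.comm A' I B').injective
    apply hinj
    have hnat : ∀ z, I.subtype.baseChange B' (TensorProduct.comm A' I B' z) =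
        TensorProduct.comm A' A' B' (I.subtype.rTensor B' z) := by
      intro z
      induction z using TensorProduct.induction_on with
      | zero => simp
      | tmul a b => simp
      | add a b ha hb => simp only [map_add]; rw [ha, hb]
    rw [hnat, hnat, hxy]
  -- the reduction is flat
  let φ : A' ⧸ I →+* A := RingHom.kerLift (algebraMap A' A)
  let : Algebra (A' ⧸ I) A := φ.toAlgebra
  have : Module.Flat (A' ⧸ I) A := by
    have hbij : Function.Bijective φ := ⟨RingHom.kerLift_injective _, fun a => by
      obtain ⟨a', rfl⟩ := hA a; exact ⟨Ideal.Quotient.mk I a', rfl⟩⟩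
    exact Module.Flat.of_linearEquiv (LinearEquiv.ofBijective (Algebra.linearMap (A' ⧸ I) A) hbij).symm
  let : Algebra (A' ⧸ I) B := ((algebraMap A B).comp φ).toAlgebra
  have : IsScalarTower (A' ⧸ I) A B := IsScalarTower.of_algebraMap_eq' rfl
  have : IsScalarTower A' (A' ⧸ I) B := IsScalarTower.of_algebraMap_eq fun a =>
    IsScalarTower.algebraMap_apply A' A B a
  have : Module.Flat (A' ⧸ I) B := Module.Flat.trans (A' ⧸ I) A B
  let ψ : (A' ⧸ I) ⊗[A'] B' →ₐ[A' ⧸ I] B :=
    Algebra.TensorProduct.lift (Algebra.ofId _ _) (IsScalarTower.toAlgHom A' B' B)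
      fun _ _ => Commute.all _ _
  have hψ : Function.Bijective ψ := by
    refine ⟨?_, fun b => ?_⟩
    · rw [injective_iff_map_eq_zero]
      intro x hx
      obtain ⟨b, rfl⟩ : ∃ b, (1 : A' ⧸ I) ⊗ₜ[A'] b = x := by
        clear hx
        induction x using TensorProduct.induction_on with
        | zero => exact ⟨0, tmul_zero _ _⟩
        | tmul a b =>
          obtain ⟨a, rfl⟩ := Ideal.Quotient.mk_surjective a
          refine ⟨a • b, ?_⟩
          rw [tmul_smul, smul_tmul', Algebra.smul_def, mul_one]
          rfl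
        | add u v hu hv =>
          obtain ⟨a, ha⟩ := hu
          obtain ⟨c, hc⟩ := hv
          exact ⟨a + c, by rw [tmul_add, ha, hc]⟩
      have hb : b ∈ I.map (algebraMap A' B') := by
        rw [← hJI, RingHom.mem_ker]
        simpa [ψ] using hx
      clear hx
      refine Submodule.span_induction (p := fun b _ => (1 : A' ⧸ I) ⊗ₜ[A'] b = 0)
        ?_ (tmul_zero _ _) (fun _ _ _ _ h1 h2 => by rw [tmul_add, h1, h2, add_zero]) ?_ hb
      · rintro _ ⟨i, hi, rfl⟩
        rw [Algebra.algebraMap_eq_smul_one, tmul_smul, smul_tmul', Algebra.smul_def,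
          mul_one, Ideal.Quotient.algebraMap_eq, Ideal.Quotient.eq_zero_iff_mem.mpr hi, zero_tmul]
      · intro c y _ hy
        have := congrArg (((1 : A' ⧸ I) ⊗ₜ[A'] c) * ·) hy
        simpa using this
    · obtain ⟨b', rfl⟩ := hB b
      exact ⟨1 ⊗ₜ b', by simp [ψ]⟩
  have : Module.Flat (A' ⧸ I) ((A' ⧸ I) ⊗[A'] B') :=
    Module.Flat.of_linearEquiv (AlgEquiv.ofBijective ψ hψ).toLinearEquiv
  exact Groth.Agent.LocalCrit.flat_of_isNilpotent I B' ⟨2, hI⟩ hinj'
    (Groth.Agent.LocalCrit.keepsInjective_of_flat I B')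

open TensorProduct in
theorem unr_lift (A' : Type u) [CommRing A'] (A : Type u) [CommRing A]
    [Algebra A' A] (hA : Function.Surjective (algebraMap A' A))
    (B' : Type u) [CommRing B'] [Algebra A' B'] (B : Type u) [CommRing B] [Algebra B' B]
    [Algebra A B] [Algebra A' B] [IsScalarTower A' A B] [IsScalarTower A' B' B]
    (hB : Function.Surjective (algebraMap B' B)) (hJ : RingHom.ker (algebraMap B' B) ^ 2 = ⊥)
    [Algebra.FormallyUnramified A B]
    (hJI : RingHom.ker (algebraMap B' B) = (RingHom.ker (algebraMap A' A)).map (algebraMap A' B')) :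
    Algebra.FormallyUnramified A' B' := by
  have : Algebra.FormallyUnramified A' A := Algebra.FormallyUnramified.of_surjective
    (Algebra.ofId A' A) hA
  have : Algebra.FormallyUnramified A' B := Algebra.FormallyUnramified.comp A' A B
  set J := RingHom.ker (algebraMap B' B)
  have hz : ∀ x ∈ J, (1 : B) ⊗ₜ[B'] KaehlerDifferential.D A' B' x = 0 := by
    intro x hx
    rw [hJI] at hx
    induction hx using Submodule.span_induction with
    | mem y hy =>
      obtain ⟨i, _, rfl⟩ := hy
      rw [Derivation.map_algebraMap, tmul_zero]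
    | zero => rw [map_zero, tmul_zero]
    | add a b _ _ h1 h2 => rw [map_add, tmul_add, h1, h2, add_zero]
    | smul c y hyJ h1 =>
      have hy0 : algebraMap B' B y = 0 := RingHom.mem_ker.mp (show y ∈ J from hJI.ge hyJ)
      rw [smul_eq_mul, Derivation.leibniz, tmul_add, tmul_smul, tmul_smul, h1, smul_zero, zero_add,
        ← algebraMap_smul B y, hy0, zero_smul]
  have hM : Subsingleton (B ⊗[B'] Ω[B'⁄A']) := by
    refine subsingleton_of_forall_eq 0 fun w => ?_
    obtain ⟨c, rfl⟩ := (KaehlerDifferential.exact_kerCotangentToTensor_mapBaseChange A' B' B hB w).mp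
      (Subsingleton.elim _ _)
    obtain ⟨⟨x, hx⟩, rfl⟩ := Ideal.toCotangent_surjective _ c
    rw [KaehlerDifferential.kerCotangentToTensor_toCotangent]
    exact hz x hx
  refine ⟨?_⟩
  have hJtop : ∀ w : Ω[B'⁄A'], w ∈ J • (⊤ : Submodule B' Ω[B'⁄A']) := by
    intro w
    let q : (B' ⧸ J) →ₗ[B'] B := Submodule.liftQ J (Algebra.linearMap B' B) le_rfl
    have hq : Function.Bijective q := by
      constructor
      · rw [← LinearMap.ker_eq_bot, Submodule.ker_liftQ_eq_bot']
        ext x; rfl
      · intro b
        obtain ⟨x, rfl⟩ := hB b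
        exact ⟨Submodule.Quotient.mk x, rfl⟩
    have : Subsingleton ((B' ⧸ J) ⊗[B'] Ω[B'⁄A']) :=
      (TensorProduct.congr (LinearEquiv.ofBijective q hq) (LinearEquiv.refl B' _)).toEquiv.subsingleton
    have h0 := congrArg (TensorProduct.quotTensorEquivQuotSMul Ω[B'⁄A'] J)
      (Subsingleton.elim ((1 : B' ⧸ J) ⊗ₜ[B'] w) 0)
    rw [map_zero, show (1 : B' ⧸ J) = Ideal.Quotient.mk J 1 from rfl,
      TensorProduct.quotTensorEquivQuotSMul_mk_tmul, one_smul, Submodule.Quotient.mk_eq_zero] at h0
    exact h0
  refine subsingleton_of_forall_eq 0 fun w => ?_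
  have h2 : (⊤ : Submodule B' Ω[B'⁄A']) ≤ J • J • (⊤ : Submodule B' Ω[B'⁄A']) := fun v _ => by
    exact Submodule.smul_mono le_rfl (fun u _ => hJtop u) (hJtop v)
  have h3 := h2 (Submodule.mem_top (x := w))
  rwa [← Submodule.mul_smul, ← pow_two, hJ, Submodule.bot_smul, Submodule.mem_bot] at h3

theorem fp_lift (A' : Type u) [CommRing A'] (A : Type u) [CommRing A]
    [Algebra A' A] (hA : Function.Surjective (algebraMap A' A))
    (hI : RingHom.ker (algebraMap A' A) ^ 2 = ⊥)
    (B' : Type u) [CommRing B'] [Algebra A' B'] [Module.Flat A' B']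
    (B : Type u) [CommRing B] [Algebra B' B]
    [Algebra A B] [Algebra A' B] [IsScalarTower A' A B] [IsScalarTower A' B' B]
    (hB : Function.Surjective (algebraMap B' B)) [Algebra.FinitePresentation A B]
    (hJI : RingHom.ker (algebraMap B' B) = (RingHom.ker (algebraMap A' A)).map (algebraMap A' B')) :
    Algebra.FinitePresentation A' B' := by
  classical
  set I := RingHom.ker (algebraMap A' A)
  obtain ⟨n, π, hπ, hker⟩ := Algebra.FinitePresentation.out (R := A) (A := B)
  let P' := MvPolynomial (Fin n) A'
  let P := MvPolynomial (Fin n) A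
  choose b hb using fun i => hB (π (MvPolynomial.X i))
  let π' : P' →ₐ[A'] B' := MvPolynomial.aeval b
  let r : P' →+* P := MvPolynomial.map (algebraMap A' A)
  have hr : Function.Surjective r := MvPolynomial.map_surjective _ hA
  have hcomm : ∀ p, algebraMap B' B (π' p) = π (r p) := by
    intro p
    induction p using MvPolynomial.induction_on with
    | C a =>
      have h1 : π' (MvPolynomial.C a) = algebraMap A' B' a := MvPolynomial.aeval_C _ _
      have h2 : r (MvPolynomial.C a) = MvPolynomial.C (algebraMap A' A a) := MvPolynomial.map_C _ _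
      rw [h1, h2, ← MvPolynomial.algebraMap_eq, AlgHom.commutes,
        ← IsScalarTower.algebraMap_apply A' A B, ← IsScalarTower.algebraMap_apply A' B' B]
    | add p q hp hq => simp [hp, hq]
    | mul_X p i hp =>
      rw [map_mul, map_mul, map_mul, map_mul, hp]
      congr 1
      have h1 : π' (MvPolynomial.X i) = b i := MvPolynomial.aeval_X _ _
      have h2 : r (MvPolynomial.X i) = MvPolynomial.X i := MvPolynomial.map_X _ _
      rw [h1, h2, hb]
  -- surjectivity
  have hsurj : Function.Surjective π' := by
    have h1 : ∀ b', ∃ p, b' - π' p ∈ I.map (algebraMap A' B') := by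
      intro b'
      obtain ⟨q, hq⟩ := hπ (algebraMap B' B b')
      obtain ⟨p, rfl⟩ := hr q
      exact ⟨p, by rw [← hJI, RingHom.mem_ker, map_sub, hcomm, hq, sub_self]⟩
    have h2 : ∀ x ∈ I.map (algebraMap A' B'), ∃ p, π' p = x := by
      intro x hx
      induction hx using Submodule.span_induction with
      | mem y hy =>
        obtain ⟨i, _, rfl⟩ := hy
        exact ⟨MvPolynomial.C i, MvPolynomial.aeval_C _ _⟩
      | zero => exact ⟨0, map_zero _⟩
      | add a b _ _ h1 h2 =>
        obtain ⟨p, hp⟩ := h1
        obtain ⟨q, hq⟩ := h2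
        exact ⟨p + q, by rw [map_add, hp, hq]⟩
      | smul c y hy h3 =>
        obtain ⟨p, hp⟩ := h3
        obtain ⟨q, hq⟩ := h1 c
        have hzero : (c - π' q) * y = 0 := by
          have : (c - π' q) * y ∈ (I.map (algebraMap A' B')) ^ 2 := by
            rw [pow_two]; exact Ideal.mul_mem_mul hq hy
          rwa [← Ideal.map_pow, hI, Ideal.map_bot, Ideal.mem_bot] at this
        exact ⟨q * p, by rw [map_mul, hp, smul_eq_mul]; linear_combination -hzero⟩
    intro b'
    obtain ⟨p, hp⟩ := h1 b'
    obtain ⟨q, hq⟩ := h2 _ hp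
    exact ⟨p + q, by rw [map_add, hq]; abel⟩
  refine ⟨n, π', hsurj, ?_⟩
  obtain ⟨s, hs⟩ := hker
  choose l hl using hr
  have hIP : RingHom.ker r = I.map (algebraMap A' P') := by
    rw [MvPolynomial.ker_map]; rfl
  have hlift : ∀ q ∈ s, ∃ p, π' p = 0 ∧ r p = q := by
    intro q hq
    have h0 : algebraMap B' B (π' (l q)) = 0 := by
      rw [hcomm, hl]
      exact RingHom.mem_ker.mp (show q ∈ RingHom.ker π.toRingHom from hs ▸ Ideal.subset_span hq)
    rw [← RingHom.mem_ker, hJI] at h0
    have h1 : π' (l q) ∈ (I.map (algebraMap A' P')).map π'.toRingHom := by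
      rw [Ideal.map_map, show π'.toRingHom.comp (algebraMap A' P') = algebraMap A' B' from
        π'.comp_algebraMap]
      exact h0
    obtain ⟨e, he, hee⟩ := (Ideal.mem_map_iff_of_surjective π'.toRingHom hsurj).mp h1
    refine ⟨l q - e, by rw [map_sub]; exact sub_eq_zero.mpr hee.symm, ?_⟩
    rw [map_sub, hl, RingHom.mem_ker.mp (hIP ▸ he : e ∈ RingHom.ker r), sub_zero]
  choose p hp0 hpr using hlift
  let K₀ : Ideal P' := Ideal.span ((s.attach.image fun q => p q.1 q.2 : Finset P') : Set P')
  refine ⟨s.attach.image fun q => p q.1 q.2, le_antisymm ?_ ?_⟩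
  · rw [Ideal.span_le]
    intro x hx
    obtain ⟨q, _, rfl⟩ := Finset.mem_image.mp (Finset.mem_coe.mp hx)
    exact hp0 q.1 q.2
  · set K := RingHom.ker π'.toRingHom
    have hstep : K ≤ K₀ ⊔ I.map (algebraMap A' P') * K := by
      intro x hx
      have h1 : r x ∈ K₀.map r := by
        have : r x ∈ RingHom.ker π.toRingHom := by
          change π (r x) = 0
          rw [← hcomm, show π' x = 0 from hx, map_zero]
        rw [← hs] at this
        refine Ideal.span_le.mpr ?_ this
        intro q hq
        rw [SetLike.mem_coe, ← hpr q hq]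
        exact Ideal.mem_map_of_mem r (Ideal.subset_span (Finset.mem_coe.mpr
          (Finset.mem_image.mpr ⟨⟨q, hq⟩, Finset.mem_attach _ _, rfl⟩)))
      obtain ⟨y, hy, hyx⟩ := (Ideal.mem_map_iff_of_surjective r fun q => ⟨l q, hl q⟩).mp h1
      have hyK : y ∈ K := by
        refine Ideal.span_le.mpr ?_ hy
        intro z hz
        obtain ⟨q, _, rfl⟩ := Finset.mem_image.mp (Finset.mem_coe.mp hz)
        exact hp0 q.1 q.2
      have h2 : x - y ∈ I.map (algebraMap A' P') := by
        rw [← hIP, RingHom.mem_ker, map_sub, hyx, sub_self]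
      have h3 : x - y ∈ LinearMap.ker π'.toLinearMap ⊓ (I • ⊤ : Submodule A' P') :=
        ⟨show π' (x - y) = 0 from K.sub_mem hx hyK,
          by rw [Ideal.smul_top_eq_map]; exact h2⟩
      rw [LinearMap.ker_inf_smul_top_eq_smul_of_flat I π'.toLinearMap hsurj] at h3
      have h4 : x - y ∈ I.map (algebraMap A' P') * K := by
        refine Submodule.smul_induction_on h3 (fun i hi k hk => ?_) fun a c => Ideal.add_mem _
        rw [Algebra.smul_def]
        exact Ideal.mul_mem_mul (Ideal.mem_map_of_mem _ hi) hk
      rw [← add_sub_cancel y x]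
      exact Submodule.add_mem_sup hy h4
    refine hstep.trans (sup_le le_rfl ?_)
    refine (Ideal.mul_mono_right hstep).trans ?_
    rw [Ideal.mul_sup, ← mul_assoc, ← Ideal.map_mul, ← pow_two, hI, Ideal.map_bot, Ideal.bot_mul,
      sup_bot_eq]
    exact Ideal.mul_le_right


open TensorProduct in
/-- Consider surjections A' → A and B' → B with square-zero kernels I and J and a commutative square A'
→ B', A → B. If A → B is étale and J = I ⊗_A B — that is, J = IB' and the multiplication map B'
⊗_{A'} I → B' is injective — then A' → B' is étale. -/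
theorem result (A' : Type u) [CommRing A'] (A : Type u) [CommRing A]
    [Algebra A' A] (hA : Function.Surjective (algebraMap A' A))
    (hI : RingHom.ker (algebraMap A' A) ^ 2 = ⊥)
    (B' : Type u) [CommRing B'] [Algebra A' B'] (B : Type u) [CommRing B] [Algebra B' B]
    [Algebra A B] [Algebra A' B] [IsScalarTower A' A B] [IsScalarTower A' B' B]
    (hB : Function.Surjective (algebraMap B' B)) (hJ : RingHom.ker (algebraMap B' B) ^ 2 = ⊥)
    [Algebra.Etale A B]
    (hJI : RingHom.ker (algebraMap B' B) = (RingHom.ker (algebraMap A' A)).map (algebraMap A' B'))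
    (hinj : Function.Injective ((RingHom.ker (algebraMap A' A)).subtype.baseChange B')) :
    Algebra.Etale A' B' := by
  have : Module.Flat A B := inferInstance
  have := flat_lift A' A hA hI B' B hB hJI hinj
  have := unr_lift A' A hA B' B hB hJ hJI
  have := fp_lift A' A hA hI B' B hB hJI
  exact Algebra.Etale.of_formallyUnramified_of_flat


end Groth.Agent.S9462
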