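import Groth.Statements.S9463
import Groth.Agent.UnivThick.Loc

set_option autoImplicit false
universe u
open OmegaSh

namespace Groth.Agent.S9463

/-- Let A → B be formally unramified, π : B' → B a universal first order thickening of B relative to A,
and S ⊆ A a multiplicative subset. Localizing everything at S (A_S, B_S and B'_S with compatible
algebra structures, π_S : B'_S → B_S the A_S-algebra map induced by π), the map π_S is a universal
first order thickening of B_S relative to A_S. (The published statement adds the consequence that
the conormal module localizes accordingly.) -/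
theorem result (A B B' : Type u) [CommRing A] [CommRing B]
    [CommRing B'] [Algebra A B] [Algebra.FormallyUnramified A B] [Algebra A B'] (π : B' →ₐ[A] B)
    (hπ : OmegaSh.IsUnivThickeningRing A B B' π) (S : Submonoid A)
    (AS BS B'S : Type u) [CommRing AS] [CommRing BS] [CommRing B'S]
    [Algebra A AS] [IsLocalization S AS]
    [Algebra B BS] [IsLocalization (Algebra.algebraMapSubmonoid B S) BS]
    [Algebra B' B'S] [IsLocalization (Algebra.algebraMapSubmonoid B' S) B'S]
    [Algebra AS BS] [Algebra A BS] [IsScalarTower A AS BS] [IsScalarTower A B BS]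
    [Algebra AS B'S] [Algebra A B'S] [IsScalarTower A AS B'S] [IsScalarTower A B' B'S]
    (πS : B'S →ₐ[AS] BS) (hπS : ∀ x : B', πS (algebraMap B' B'S x) = algebraMap B BS (π x)) :
    OmegaSh.IsUnivThickeningRing AS BS B'S πS := by
  have h1 : (Algebra.algebraMapSubmonoid B' S).map π.toRingHom.toMonoidHom = Algebra.algebraMapSubmonoid B S := by
    ext x
    constructor
    · rintro ⟨_, ⟨s, hs, rfl⟩, rfl⟩
      exact ⟨s, hs, (π.commutes s).symm⟩
    · rintro ⟨s, hs, rfl⟩
      exact ⟨_, ⟨s, hs, rfl⟩, π.commutes s⟩
  exact Groth.Agent.UnivThick.isUniv_base S AS BS B'S πS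
    (Groth.Agent.UnivThick.isUniv_localization π hπ _ h1 BS B'S (πS.restrictScalars A) hπS)

end Groth.Agent.S9463
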