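import Groth.Statements.S9469
import Groth.Agent.Hensel.NbhdPoints
-- import your own Groth.Agent.* helpers here

set_option autoImplicit false
universe u
open Hensel

namespace Groth.Agent.S9469

/-- Let R be a ring and p a prime of R. Consider pairs (S, q) with S an étale R-algebra and q a prime of
S lying over p such that κ(p) → κ(q) is bijective; a morphism of pairs is an R-algebra map pulling
the second prime back to the first. Then any two parallel morphisms of pairs φ, ψ : (S₁, q₁) → (S₂,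
q₂) are coequalized by a morphism of pairs (S₂, q₂) → (S₃, q₃). -/
theorem result (R : Type u) [CommRing R]
    (p : Ideal R) [p.IsPrime] (S₁ : Type u) [CommRing S₁] [Algebra R S₁] [Algebra.Etale R S₁] (q₁ : Ideal S₁) [q₁.IsPrime] (hq₁ : p = q₁.comap (algebraMap R S₁))
    (hq₁κ : Function.Bijective (Ideal.ResidueField.map p q₁ (algebraMap R S₁) hq₁))
    (S₂ : Type u) [CommRing S₂] [Algebra R S₂] [Algebra.Etale R S₂] (q₂ : Ideal S₂) [q₂.IsPrime] (hq₂ : p = q₂.comap (algebraMap R S₂))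
    (hq₂κ : Function.Bijective (Ideal.ResidueField.map p q₂ (algebraMap R S₂) hq₂))
    (φ ψ : S₁ →ₐ[R] S₂) (hφ : q₂.comap φ.toRingHom = q₁) (hψ : q₂.comap ψ.toRingHom = q₁) :
    ∃ (S₃ : Type u) (_ : CommRing S₃) (_ : Algebra R S₃) (_ : Algebra.Etale R S₃) (q₃ : Ideal S₃)
      (_ : q₃.IsPrime) (hq₃ : p = q₃.comap (algebraMap R S₃)),
      Function.Bijective (Ideal.ResidueField.map p q₃ (algebraMap R S₃) hq₃) ∧
        ∃ χ : S₂ →ₐ[R] S₃, q₃.comap χ.toRingHom = q₂ ∧ χ.comp φ = χ.comp ψ := by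
  
  obtain ⟨τ₁, hτ₁⟩ := Hensel.exists_point q₁ hq₁ hq₁κ
  obtain ⟨τ₂, hτ₂⟩ := Hensel.exists_point q₂ hq₂ hq₂κ
  have hk : ∀ θ : S₁ →ₐ[R] S₂, q₂.comap θ.toRingHom = q₁ → τ₂.comp θ = τ₁ := fun θ hθ =>
    Hensel.point_unique q₁ hq₁ hq₁κ _ _ (by
      rw [← hθ, ← hτ₂]; rfl) hτ₁
  let Φ : TensorProduct R S₁ S₁ →ₐ[R] S₂ := Algebra.TensorProduct.lift φ ψ fun _ _ => .all _ _
  let e := Φ (Algebra.FormallyUnramified.elem R S₁)
  have he : τ₂ e = 1 := by
    have : τ₂.comp Φ = τ₁.comp (Algebra.TensorProduct.lmul' R) := by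
      ext b
      · simpa [Φ] using AlgHom.congr_fun (hk φ hφ) b
      · simpa [Φ] using AlgHom.congr_fun (hk ψ hψ) b
    show τ₂.comp Φ (Algebra.FormallyUnramified.elem R S₁) = 1
    rw [this, AlgHom.comp_apply, Algebra.FormallyUnramified.lmul_elem, map_one]
  have : Algebra.Etale R (Localization.Away e) :=
    have : Algebra.Etale S₂ (Localization.Away e) := inferInstance
    Algebra.Etale.comp R S₂ _
  let τ : Localization.Away e →ₐ[R] p.ResidueField :=
    IsLocalization.Away.liftAlgHom (A := R) e (f := τ₂) (by rw [he]; exact isUnit_one)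
  obtain ⟨q₃, _, hq₃, h₃, rfl⟩ := Hensel.exists_nbhd_of_point τ
  refine ⟨_, inferInstance, inferInstance, ‹_›, _, ‹_›, hq₃, h₃,
    IsScalarTower.toAlgHom R S₂ (Localization.Away e), ?_, AlgHom.ext fun b => ?_⟩
  · rw [← hτ₂]
    ext s
    show τ (algebraMap S₂ (Localization.Away e) s) = 0 ↔ τ₂ s = 0
    simp [τ]
  · have h0 := congrArg (fun x => algebraMap S₂ (Localization.Away e) (Φ x))
      (Algebra.FormallyUnramified.one_tmul_sub_tmul_one_mul_elem (R := R) b)
    simp only [map_mul, map_sub, Φ, Algebra.TensorProduct.lift_tmul, map_one, one_mul, mul_one,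
      map_zero] at h0
    have := (IsUnit.mul_left_eq_zero (IsLocalization.Away.algebraMap_isUnit e)).mp h0
    exact (sub_eq_zero.mp this).symm

end Groth.Agent.S9469
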