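import Groth.Statements.S9470
import Groth.Agent.Hensel.NbhdPoints
-- import your own Groth.Agent.* helpers here

set_option autoImplicit false
universe u
open Hensel

namespace Groth.Agent.S9470

/-- Let R be a ring, p a prime of R and R^h a henselization of the local ring R_p, regarded as an
R-algebra through R_p. For pairs (S, q) with S an étale R-algebra and q a prime of S over p such
that κ(p) → κ(q) is bijective: (a) there is exactly one R-algebra map f : S → R^h under which the
maximal ideal pulls back to q; (b) every element of R^h is f(s) for some such pair, map f and s ∈ S;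
(c) if such an f sends s to 0, then some R-algebra map S → S' to another such pair (S', q'), pulling
q' back to q, already sends s to 0. Together with filteredness of the category of pairs this
expresses that R^h is canonically the colimit of S over all pairs (S, q). (The published statement
also records the equal colimit of the local rings S_q.) -/
theorem result (R : Type u) [CommRing R]
    (p : Ideal R) [p.IsPrime] (Rh : Type u) [CommRing Rh] [IsLocalRing Rh]
    [Algebra (Localization.AtPrime p) Rh] [IsLocalHom (algebraMap (Localization.AtPrime p) Rh)]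
    [Hensel.IsHenselization (Localization.AtPrime p) Rh] [Algebra R Rh]
    [IsScalarTower R (Localization.AtPrime p) Rh] :
    (∀ (S : Type u) [CommRing S] [Algebra R S] [Algebra.Etale R S] (q : Ideal S) [q.IsPrime]
        (hq : p = q.comap (algebraMap R S)),
        Function.Bijective (Ideal.ResidueField.map p q (algebraMap R S) hq) →
          ∃! f : S →ₐ[R] Rh, (IsLocalRing.maximalIdeal Rh).comap f.toRingHom = q) ∧
    (∀ x : Rh, ∃ (S : Type u) (_ : CommRing S) (_ : Algebra R S) (_ : Algebra.Etale R S) (q : Ideal S)
        (_ : q.IsPrime) (hq : p = q.comap (algebraMap R S)),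
        Function.Bijective (Ideal.ResidueField.map p q (algebraMap R S) hq) ∧
          ∃ (f : S →ₐ[R] Rh) (s : S), (IsLocalRing.maximalIdeal Rh).comap f.toRingHom = q ∧ f s = x) ∧
    (∀ (S : Type u) [CommRing S] [Algebra R S] [Algebra.Etale R S] (q : Ideal S) [q.IsPrime]
        (hq : p = q.comap (algebraMap R S)),
        Function.Bijective (Ideal.ResidueField.map p q (algebraMap R S) hq) →
          ∀ (f : S →ₐ[R] Rh), (IsLocalRing.maximalIdeal Rh).comap f.toRingHom = q → ∀ s : S, f s = 0 →
            ∃ (S' : Type u) (_ : CommRing S') (_ : Algebra R S') (_ : Algebra.Etale R S') (q' : Ideal S')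
              (_ : q'.IsPrime) (hq' : p = q'.comap (algebraMap R S')),
              Function.Bijective (Ideal.ResidueField.map p q' (algebraMap R S') hq') ∧
                ∃ φ : S →ₐ[R] S', q'.comap φ.toRingHom = q ∧ φ s = 0) := by
  
  open IsLocalRing in
  have huni := fun (S : Type u) [CommRing S] [Algebra R S] [Algebra.Etale R S] (q : Ideal S) [q.IsPrime]
    (hq : p = q.comap (algebraMap R S))
    (h : Function.Bijective (Ideal.ResidueField.map p q (algebraMap R S) hq)) =>
      Hensel.existsUnique_algHom_henz R p Rh (S := S) q hq h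
  obtain ⟨e, he⟩ := Hensel.exists_algEquiv_henz_residueField R p Rh
  rw [Hensel.maximalIdeal_henz_residueField] at he
  have hcomap : ∀ {B : Type u} [CommRing B] [Algebra R B] (u : B →ₐ[R] Hensel.Henz R p.ResidueField),
      (maximalIdeal Rh).comap (e.toAlgHom.comp u).toRingHom =
        RingHom.ker ((Hensel.Henz.proj R p.ResidueField).comp u) := fun u =>
    (Ideal.comap_comap u.toRingHom e.toAlgHom.toRingHom).symm.trans
      ((congrArg (Ideal.comap u.toRingHom) he).trans rfl)
  refine ⟨huni, fun x => ?_, fun S _ _ _ q _ hq h f hf s hs => ?_⟩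
  · obtain ⟨N, b, hb⟩ := Hensel.Henz.exists_ofB (e.symm x)
    obtain ⟨q, _, hq, h, hqk⟩ := Hensel.exists_nbhd_of_point N.toK
    refine ⟨N.B, inferInstance, inferInstance, inferInstance, q, ‹_›, hq, h,
      e.toAlgHom.comp (Hensel.Henz.ofB N), b, ?_, ?_⟩
    · rw [hcomap, hqk]
      congr 1
      exact AlgHom.ext fun b => Hensel.Henz.proj_ofB N b
    · show e (Hensel.Henz.ofB N b) = x
      rw [hb, e.apply_symm_apply]
  · obtain ⟨τ, hτ⟩ := Hensel.exists_point q hq h
    obtain ⟨N, i, hi⟩ := Hensel.Nbhd.exists_equiv S τ
    let f₁ : S →ₐ[R] Rh := e.toAlgHom.comp ((Hensel.Henz.ofB N).comp i.symm.toAlgHom)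
    have hf₁ : (maximalIdeal Rh).comap f₁.toRingHom = q := by
      rw [hcomap, ← hτ]
      congr 1
      ext y
      simp [hi]
    have hff := (huni S q hq h).unique hf hf₁
    rw [hff] at hs
    have h0 : Hensel.Henz.ofB N (i.symm s) = 0 := e.injective (hs.trans (map_zero e).symm)
    obtain ⟨M, α, hα, h1⟩ := Hensel.Henz.exists_of_ofB_eq_zero h0
    obtain ⟨q', _, hq', h', rfl⟩ := Hensel.exists_nbhd_of_point M.toK
    refine ⟨M.B, inferInstance, inferInstance, inferInstance, _, ‹_›, hq', h',
      α.comp i.symm.toAlgHom, ?_, h1⟩
    rw [← hτ]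
    ext y
    show M.toK (α (i.symm y)) = 0 ↔ τ y = 0
    rw [← AlgHom.comp_apply M.toK α, hα, hi]
    simp

end Groth.Agent.S9470
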