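import Groth.Statements.S9472
import Groth.Agent.DiffOps.EtaleExt

set_option autoImplicit false
universe u
open Diff16

namespace Groth.Agent.S9472

open TensorProduct in
/-- Let R → S → S' be ring maps with S → S' formally étale, M an S-module and (P, D_u) a module of
principal parts of order k of M relative to R → S, i.e. D_u : M → P is a differential operator of
order at most k through which every differential operator of order at most k from M to an S-module
factors by a unique S-linear map. If D_u' : S' ⊗_S M → S' ⊗_S P is a differential operator of order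
at most k relative to R → S' with D_u'(1 ⊗ m) = 1 ⊗ D_u(m), then (S' ⊗_S P, D_u') is a module of
principal parts of order k of S' ⊗_S M relative to R → S'. (The published statement writes this as
an identification of S' ⊗_S P^k_{S/R}(M) with P^k_{S'/R}(M') and forms M' by base change over R
rather than over S; with base change over R the identification fails already for k = 0, R the
rationals, S = S' a polynomial ring in one variable and M = S, and the published proof computes with
the base change over S, used here. Target modules are taken in one universe.) -/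
theorem result (R S S' : Type u) [CommRing R]
    [CommRing S] [CommRing S'] [Algebra R S] [Algebra R S'] [Algebra S S'] [IsScalarTower R S S']
    [Algebra.FormallyEtale S S'] (M : Type u) [AddCommGroup M] [Module S M] [Module R M]
    [IsScalarTower R S M] (k : ℕ) (P : Type u) [AddCommGroup P] [Module S P] [Module R P]
    [IsScalarTower R S P] (Du : M →ₗ[R] P) (hDu : Diff16.IsDiffOpLE R S M P k Du)
    (huniv : ∀ (N : Type u) [AddCommGroup N] [Module S N] [Module R N] [IsScalarTower R S N]
      (D : M →ₗ[R] N), Diff16.IsDiffOpLE R S M N k D → ∃! α : P →ₗ[S] N, α.restrictScalars R ∘ₗ Du = D)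
    (Du' : S' ⊗[S] M →ₗ[R] S' ⊗[S] P) (hDu' : Diff16.IsDiffOpLE R S' (S' ⊗[S] M) (S' ⊗[S] P) k Du')
    (hext : Du' ∘ₗ (TensorProduct.mk S S' M 1).restrictScalars R =
      (TensorProduct.mk S S' P 1).restrictScalars R ∘ₗ Du) :
    ∀ (N' : Type u) [AddCommGroup N'] [Module S' N'] [Module R N'] [IsScalarTower R S' N']
      (D' : S' ⊗[S] M →ₗ[R] N'), Diff16.IsDiffOpLE R S' (S' ⊗[S] M) N' k D' →
        ∃! α : S' ⊗[S] P →ₗ[S'] N', α.restrictScalars R ∘ₗ Du' = D' := by
  intro N' _ _ _ _ D' hD'
  letI : Module S N' := Module.compHom N' (algebraMap S S')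
  haveI : IsScalarTower S S' N' := IsScalarTower.of_algebraMap_smul fun _ _ => rfl
  haveI : IsScalarTower R S N' := IsScalarTower.of_algebraMap_smul fun r x => by
    change algebraMap S S' (algebraMap R S r) • x = r • x
    rw [← IsScalarTower.algebraMap_apply R S S', algebraMap_smul]
  have h0 : Diff16.IsDiffOpLE R S M N' k
      (D' ∘ₗ (TensorProduct.mk S S' M 1).restrictScalars R) := by
    have h1 : Diff16.IsDiffOpLE R S M (S' ⊗[S] M) 0 ((TensorProduct.mk S S' M 1).restrictScalars R) :=
      Groth.Agent.DiffOps.isDiffOpLE_restrictScalars _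
    simpa using Groth.Agent.DiffOps.isDiffOpLE_comp h1
      (Groth.Agent.DiffOps.isDiffOpLE_restrictBase hD')
  obtain ⟨α₀, hα₀, huα⟩ := huniv N' _ h0
  refine ⟨α₀.liftBaseChange S', sub_eq_zero.1 ?_, fun β hβ => ?_⟩
  · refine Groth.Agent.DiffOps.etale_unique _ (Groth.Agent.DiffOps.isDiffOpLE_sub ?_ hD') fun m => ?_
    · simpa using Groth.Agent.DiffOps.isDiffOpLE_comp hDu'
        (Groth.Agent.DiffOps.isDiffOpLE_restrictScalars (A := R) (α₀.liftBaseChange S'))
    · have h1 := LinearMap.congr_fun hext m
      have h2 := LinearMap.congr_fun hα₀ m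
      simp only [LinearMap.comp_apply, LinearMap.coe_restrictScalars, TensorProduct.mk_apply] at h1 h2
      rw [LinearMap.sub_apply, LinearMap.comp_apply, LinearMap.coe_restrictScalars, h1,
        LinearMap.liftBaseChange_tmul, one_smul, h2, sub_self]
  · have h1 : (β.restrictScalars S) ∘ₗ TensorProduct.mk S S' P 1 = α₀ := huα _ (LinearMap.ext fun m => by
      have h2 := LinearMap.congr_fun hext m
      have h3 := LinearMap.congr_fun hβ ((1 : S') ⊗ₜ[S] m)
      simp only [LinearMap.comp_apply, LinearMap.coe_restrictScalars, TensorProduct.mk_apply] at h2 h3 ⊢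
      rw [← h2, h3])
    refine TensorProduct.AlgebraTensorModule.ext fun u x => ?_
    rw [LinearMap.liftBaseChange_tmul, ← h1, show u ⊗ₜ[S] x = u • ((1 : S') ⊗ₜ[S] x) by
      rw [TensorProduct.smul_tmul', smul_eq_mul, mul_one], map_smul]
    rfl

end Groth.Agent.S9472
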