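import Groth.Statements.S9475
import Groth.Agent.SGA10.Purity
-- import your own Groth.Agent.* helpers here

set_option autoImplicit false
set_option backward.isDefEq.respectTransparency false
set_option backward.isDefEq.respectTransparency.types false
set_option linter.style.haveILetI false
universe u
open Pi1

namespace Groth.Agent.S9475

open AlgebraicGeometry CategoryTheory CategoryTheory.Limits in
/-- Let A be a Noetherian local ring with maximal ideal m and f an element of m. Assume that A is
complete for the (f)-adic topology, that f is a nonzerodivisor, that the local cohomology modules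
H^1_m(A/fA) and H^2_m(A/fA) are finite A-modules, and that purity holds for the local ring of A_f at
each of its maximal ideals. Then restriction of finite etale covers from the punctured spectrum of A
to the punctured spectrum of A/fA is essentially surjective. -/
theorem result (A : Type u) [CommRing A] [IsNoetherianRing A] [IsLocalRing A] (f : A) (hf : f ∈ IsLocalRing.maximalIdeal A)
    [IsAdicComplete (Ideal.span {f}) A] (hnz : f ∈ nonZeroDivisors A)
    (h1 : Module.Finite A (LocCoh.H (IsLocalRing.maximalIdeal A) 1 (A ⧸ Ideal.span {f})))
    (h2 : Module.Finite A (LocCoh.H (IsLocalRing.maximalIdeal A) 2 (A ⧸ Ideal.span {f})))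
    (hp : ∀ P : Ideal (Localization.Away f), ∀ _ : P.IsMaximal, FEt.PurityHolds (Localization.AtPrime P)) :
    (FEt.restrict (pullback.fst (FEt.puncturedSpec A).ι (Spec.map (CommRingCat.ofHom (Ideal.Quotient.mk (Ideal.span {f})))))).EssSurj := by
  have hreg : IsSMulRegular A f := fun x y h => sub_eq_zero.1 ((mem_nonZeroDivisors_iff.1 hnz).1 _
    (by rw [mul_sub]; exact sub_eq_zero.2 h))
  exact SGA10.essSurj_of_extension hf (fun V₀ => SGA10.exists_extension f hf hreg h1 h2 V₀) hp

end Groth.Agent.S9475
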