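import Groth.Statements.S9481
import Groth.Agent.SGA10.Purity
-- import your own Groth.Agent.* helpers here

set_option autoImplicit false
set_option backward.isDefEq.respectTransparency false
set_option backward.isDefEq.respectTransparency.types false
set_option linter.style.haveILetI false
universe u
open Pi1

namespace Groth.Agent.S9481

open AlgebraicGeometry CategoryTheory CategoryTheory.Limits in
/-- Essential surjectivity of restriction from the open neighbourhoods: Let A be a Noetherian local ring
with maximal ideal m, f ∈ m, U the punctured spectrum of A and U₀ that of A/fA (realised as U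
×_{Spec A} Spec(A/fA)). Assume A is (f)-adically complete, f is a nonzerodivisor, and H^1_m(A/fA)
and H^2_m(A/fA) are finite A-modules. Then for every finite etale cover V₀ of U₀ there are an open
U' ⊆ U through which U₀ ⟶ Spec A factors (as u') and a finite etale cover V' of U' whose restriction
along u' is isomorphic to V₀. -/
theorem result (A : Type u) [CommRing A] [IsNoetherianRing A] [IsLocalRing A] (f : A) (hf : f ∈ IsLocalRing.maximalIdeal A)
    [IsAdicComplete (Ideal.span {f}) A] (hnz : f ∈ nonZeroDivisors A)
    (h1 : Module.Finite A (LocCoh.H (IsLocalRing.maximalIdeal A) 1 (A ⧸ Ideal.span {f})))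
    (h2 : Module.Finite A (LocCoh.H (IsLocalRing.maximalIdeal A) 2 (A ⧸ Ideal.span {f}))) :
    ∀ V₀ : FEt.Cat (pullback (FEt.puncturedSpec A).ι (Spec.map (CommRingCat.ofHom (Ideal.Quotient.mk (Ideal.span {f}))))),
      ∃ (U' : (Spec (CommRingCat.of A)).Opens) (_ : U' ≤ (FEt.puncturedSpec A)) (u' : pullback (FEt.puncturedSpec A).ι (Spec.map (CommRingCat.ofHom (Ideal.Quotient.mk (Ideal.span {f})))) ⟶ (U' : Scheme.{u}))
        (_ : u' ≫ U'.ι = (pullback.fst (FEt.puncturedSpec A).ι (Spec.map (CommRingCat.ofHom (Ideal.Quotient.mk (Ideal.span {f})))) ≫ (FEt.puncturedSpec A).ι)) (V' : FEt.Cat (U' : Scheme.{u})),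
        Nonempty ((FEt.restrict u').obj V' ≅ V₀) := by
  have hreg : IsSMulRegular A f := fun x y h => sub_eq_zero.1 ((mem_nonZeroDivisors_iff.1 hnz).1 _
    (by rw [mul_sub]; exact sub_eq_zero.2 h))
  exact fun V₀ => SGA10.exists_extension f hf hreg h1 h2 V₀

end Groth.Agent.S9481
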