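import Groth.Statements.S9485
import Groth.Agent.Pi1X.FEtBasic
import Mathlib.RingTheory.KrullDimension.Regular
-- import your own Groth.Agent.* helpers here

set_option autoImplicit false
universe u
open Pi1

namespace Groth.Agent.S9485

open AlgebraicGeometry CategoryTheory CategoryTheory.Limits in
/-- Let A be a Noetherian local ring with maximal ideal m and f ∈ m, U the punctured spectrum of A and
U₀ that of A/fA (realised as U ×_{Spec A} Spec(A/fA)). Let U' ⊆ U be an open through which U₀ ⟶ Spec
A factors (as u'). If dim(A/p) ≥ 2 for every minimal prime p of A which lies in U' and does not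
contain f, then restriction of finite etale covers along u' is faithful. (Such U' exist, e.g. the
complement in U of the one-dimensional irreducible components not meeting U₀, and the condition
passes to smaller such opens, so restriction from the system of these opens is faithful.) -/
theorem result (A : Type u) [CommRing A] [IsNoetherianRing A] [IsLocalRing A] (f : A) (hf : f ∈ IsLocalRing.maximalIdeal A)
    (U' : (Spec (CommRingCat.of A)).Opens) (hU' : U' ≤ FEt.puncturedSpec A)
    (u' : pullback (FEt.puncturedSpec A).ι (Spec.map (CommRingCat.ofHom (Ideal.Quotient.mk (Ideal.span {f})))) ⟶ (U' : Scheme.{u})) (hu' : u' ≫ U'.ι = (pullback.fst (FEt.puncturedSpec A).ι (Spec.map (CommRingCat.ofHom (Ideal.Quotient.mk (Ideal.span {f})))) ≫ (FEt.puncturedSpec A).ι))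
    (hdim : ∀ p : PrimeSpectrum A, p.asIdeal ∈ minimalPrimes A → p ∈ U' → f ∉ p.asIdeal →
      (2 : WithBot ℕ∞) ≤ ringKrullDim (A ⧸ p.asIdeal)) :
    (FEt.restrict u').Faithful := by
  refine Groth.Agent.Pi1X.restrict_faithful u' fun C hC hne => ?_
  obtain ⟨x, hx⟩ := hne
  obtain ⟨p, hp, hpx⟩ := Ideal.exists_minimalPrimes_le (bot_le : ⊥ ≤ (x.1 : PrimeSpectrum A).asIdeal)
  let P : PrimeSpectrum A := ⟨p, hp.1.1⟩
  have hPx : P ⤳ x.1 := (PrimeSpectrum.le_iff_specializes P x.1).1 hpx
  have hPU : P ∈ U' := hPx.mem_open U'.2 x.2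
  let P' : (U' : Scheme.{u}) := ⟨P, hPU⟩
  have hP'C : P' ∈ C := ((subtype_specializes_iff P' x).2 hPx : P' ⤳ x).mem_open hC.2 hx
  -- a point of the punctured hypersurface section above `p`
  obtain ⟨q, hqP, hqf, hqm⟩ : ∃ q : PrimeSpectrum A, P ⤳ q ∧ f ∈ q.asIdeal ∧ q ≠ IsLocalRing.closedPoint A := by
    by_cases hfp : f ∈ p
    · exact ⟨P, specializes_rfl, hfp, fun h => (hU' hPU) h⟩
    · by_contra hcon
      push_neg at hcon
      haveI : p.IsPrime := hp.1.1
      let mk := Ideal.Quotient.mk p
      have hdom := hdim P (by exact hp) hPU hfp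
      have hjac : (({mk f} : Finset (A ⧸ p)) : Set (A ⧸ p)) ⊆ Ring.jacobson (A ⧸ p) := by
        intro y hy
        rw [Finset.coe_singleton, Set.mem_singleton_iff] at hy
        haveI : IsLocalRing (A ⧸ p) := IsLocalRing.of_surjective' mk Ideal.Quotient.mk_surjective
        rw [hy, SetLike.mem_coe, IsLocalRing.ringJacobson_eq_maximalIdeal]
        haveI : IsLocalHom mk := IsLocalHom.of_surjective mk Ideal.Quotient.mk_surjective
        exact map_nonunit mk f hf
      have hle := ringKrullDim_le_ringKrullDim_quotient_add_card _ hjac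
      have h0 : Ring.KrullDimLE 0 ((A ⧸ p) ⧸ Ideal.span ((({mk f} : Finset (A ⧸ p)) : Set (A ⧸ p)))) := by
        rw [Ring.krullDimLE_zero_iff]
        intro I hI
        let π := (Ideal.Quotient.mk (Ideal.span ((({mk f} : Finset (A ⧸ p)) : Set (A ⧸ p))))).comp mk
        have hπ : Function.Surjective π := Ideal.Quotient.mk_surjective.comp Ideal.Quotient.mk_surjective
        let q : PrimeSpectrum A := ⟨I.comap π, inferInstance⟩
        have hπf : π f = 0 := Ideal.Quotient.eq_zero_iff_mem.2 (Ideal.subset_span (by simp))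
        have hPq : P ⤳ q := (PrimeSpectrum.le_iff_specializes P q).1 (fun a (ha : a ∈ p) => by
          show π a ∈ I
          rw [RingHom.comp_apply, Ideal.Quotient.eq_zero_iff_mem.2 ha, map_zero]
          exact I.zero_mem)
        have hq := hcon q hPq (show π f ∈ I by rw [hπf]; exact I.zero_mem)
        haveI : (I.comap π).IsMaximal := by
          rw [show I.comap π = IsLocalRing.maximalIdeal A from congrArg PrimeSpectrum.asIdeal hq]
          infer_instance
        exact (Ideal.map_comap_of_surjective π hπ I) ▸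
          (Ideal.map_eq_top_or_isMaximal_of_surjective π hπ this).resolve_left
            (by rw [Ideal.map_comap_of_surjective π hπ I]; exact hI.ne_top)
      rw [Ring.krullDimLE_iff] at h0
      have h1 := hdom.trans (hle.trans (add_le_add h0 le_rfl))
      simp at h1
  have hq : q ∈ Set.range (pullback.fst (FEt.puncturedSpec A).ι (Spec.map (CommRingCat.ofHom
      (Ideal.Quotient.mk (Ideal.span {f})))) ≫ (FEt.puncturedSpec A).ι).base := by
    rw [Scheme.Hom.comp_base]
    simp only [TopCat.coe_comp, Set.range_comp]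
    rw [Scheme.Pullback.range_fst]
    refine ⟨⟨q, hqm⟩, ?_, rfl⟩
    show q ∈ Set.range (PrimeSpectrum.comap (Ideal.Quotient.mk (Ideal.span {f})))
    rw [range_comap_of_surjective _ _ Ideal.Quotient.mk_surjective, Ideal.mk_ker]
    simpa [PrimeSpectrum.mem_zeroLocus, Set.singleton_subset_iff] using hqf
  obtain ⟨t, ht⟩ := hq
  rw [← hu', Scheme.Hom.comp_apply] at ht
  refine ⟨u'.base t, ?_, t, rfl⟩
  have : P' ⤳ u'.base t := by
    refine (subtype_specializes_iff P' (u'.base t)).2 ?_
    show P ⤳ U'.ι.base (u'.base t)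
    rw [ht]; exact hqP
  exact this.mem_closed hC.1 hP'C

end Groth.Agent.S9485
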