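import Groth.Statements.S9491
import Groth.Agent.NormEt24.Cover
-- import your own Groth.Agent.* helpers here

set_option autoImplicit false
set_option backward.isDefEq.respectTransparency false
set_option backward.isDefEq.respectTransparency.types false
set_option linter.style.haveILetI false
universe u
open Pi1

namespace Groth.Agent.S9491

open AlgebraicGeometry CategoryTheory CategoryTheory.Limits in
/-- The essential image of restriction of finite etale covers from a normal integral scheme X to its
generic point Spec K consists of the finite etale K-schemes whose points are spectra of finite
extensions L of K in which X is unramified. Precisely: let L be a finite field extension of K and Y₀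
the object Spec L → Spec K of the category of finite etale covers of Spec K; then Y₀ is isomorphic
to the restriction of a finite etale cover of X if and only if the normalization of X in Spec L is
finite etale over X. (With full faithfulness of this restriction functor for normal X, this says
that the fundamental group of X is the Galois group of the union M of all finite subextensions of a
separable closure in which X is unramified.) -/
theorem result {X : Scheme.{u}} [IsIntegral X] (hX : Pi1.IsNormalScheme X)
    (L : Type u) [Field L] [Algebra X.functionField L] [FiniteDimensional X.functionField L]
    [QuasiCompact (Spec.map (CommRingCat.ofHom (algebraMap X.functionField L)) ≫ X.fromSpecStalk (genericPoint X))] [QuasiSeparated (Spec.map (CommRingCat.ofHom (algebraMap X.functionField L)) ≫ X.fromSpecStalk (genericPoint X))]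
    (Y₀ : FEt.Cat (Spec X.functionField)) (e : Y₀.left ≅ Spec (CommRingCat.of L))
    (he : e.hom ≫ Spec.map (CommRingCat.ofHom (algebraMap X.functionField L)) = Y₀.hom) :
    (FEt.restrict (X.fromSpecStalk (genericPoint X))).essImage Y₀ ↔
      (Etale (Spec.map (CommRingCat.ofHom (algebraMap X.functionField L)) ≫ X.fromSpecStalk (genericPoint X)).fromNormalization ∧ IsFinite (Spec.map (CommRingCat.ofHom (algebraMap X.functionField L)) ≫ X.fromSpecStalk (genericPoint X)).fromNormalization) := by
  
  exact NormEt24.essImage_iff L hX Y₀ e he

end Groth.Agent.S9491
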