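import Groth.Statements.S9492
import Groth.Agent.H26.LefFEt.Clopen
import Groth.Agent.H26.LefFEt.Hyp

set_option autoImplicit false
universe u
open Lef

namespace Groth.Agent.S9492

open AlgebraicGeometry CategoryTheory CategoryTheory.Limits in
/-- Let X be a Noetherian scheme and 𝓘 a quasi-coherent ideal sheaf with closed subscheme Y = V(𝓘).
Assume the completion functor along 𝓘, sending an O_X-module F to the system (F|_{V(𝓘^(n+1))})_n, is
fully faithful on finite locally free O_X-modules: for all finite locally free F and G the map
Hom(F, G) → Hom(F^, G^) is bijective. Then restriction of finite etale covers from X to Y is fully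
faithful. -/
theorem result (X : Scheme.{u}) [IsNoetherian X] (𝓘 : X.IdealSheafData)
    (h : (∀ F G : X.Modules, FlatMod.IsFinLocFree F → FlatMod.IsFinLocFree G →
      Function.Bijective (fun φ : F ⟶ G => FSch.complModMap 𝓘 φ))) :
    (FEt.restrict 𝓘.subschemeι).Full ∧ (FEt.restrict 𝓘.subschemeι).Faithful := by
  exact Groth.Agent.H26.LefFEt.full_faithful_of_hb 𝓘 fun D hD =>
    Groth.Agent.H26.LefFEt.hb_of_complModMap 𝓘 D
      (h D (Coh.structureModule X) hD (Groth.Agent.H9Misc.LocFreeHomTensor.isFinLocFree_structure X))

end Groth.Agent.S9492
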