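import Groth.Statements.S9493
import Groth.Agent.GrLib8.LeffExt.Main
import Groth.Agent.Synt29.EtGlobal
import Groth.Agent.H26.LefFEt.Hyp
import Groth.Agent.Lib.AVKLExist
import Groth.Agent.H23.InvStalk
-- import your own Groth.Agent.* helpers here

set_option autoImplicit false
set_option backward.isDefEq.respectTransparency false
set_option backward.isDefEq.respectTransparency.types false
set_option linter.style.haveILetI false
set_option maxHeartbeats 400000
universe u
open Lef

namespace Groth.Agent.S9493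

section

open AlgebraicGeometry CategoryTheory CategoryTheory.Limits TopologicalSpace Opposite
open Groth.Agent.GrLib8.LeffExt

variable {X : Scheme.{u}} [IsLocallyNoetherian X] {J : X.IdealSheafData} {S : FSys J}

theorem modSys_eq {𝔛 : FSch.Sys.{u}} (F : ∀ n, (𝔛.X n).Modules)
    (e e' : ∀ n, (Scheme.Modules.pullback (𝔛.ι n)).obj (F (n + 1)) ≅ F n) (h : ∀ n, (e n).hom = (e' n).hom) :
    (⟨F, e⟩ : FSch.ModSys 𝔛) = ⟨F, e'⟩ := by
  have : e = e' := funext fun n => Iso.ext (h n)
  subst this
  rfl

theorem trans_app_hom {A B Y : Scheme.{u}} (f : A ⟶ B) (g : B ⟶ Y) {p : A ⟶ Y} (e : f ≫ g = p) (M : Y.Modules) :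
    ((Scheme.Modules.pullbackComp f g ≪≫ Scheme.Modules.pullbackCongr e).app M).hom =
      (Scheme.Modules.pullbackComp f g).hom.app M ≫ (Scheme.Modules.pullbackCongr e).hom.app M := rfl

theorem complMod_e_hom (F : X.Modules) (k : ℕ) : ((FSch.complMod J F).e k).hom =
    (Scheme.Modules.pullbackComp ((FSch.completionAlong X J).ι k) (FSch.completionToX X J (k + 1))).hom.app F ≫
      (Scheme.Modules.pullbackCongr (FSch.completionToX_comm X J k)).hom.app F := by
  rw [FSch.complMod_e]
  delta FSch.complTransIso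
  exact trans_app_hom _ _ (FSch.completionToX_comm X J k) F

theorem complMod_eq (F : X.Modules) : FSch.completionMod J F = FSch.complMod J F :=
  modSys_eq (FSch.completionMod J F).F (FSch.completionMod J F).e (FSch.complMod J F).e fun n =>
    (Synt29.ModSysPush.completionMod_e_hom (𝓚 := J) F n).trans (complMod_e_hom F n).symm

theorem flat_π (A : S.Alg) (hb : ∀ D : X.Modules, FlatMod.IsFinLocFree D → Lef.HomToFormalBijective J D) :
    Flat (A.B hb).π := by
  let π := (A.B hb).π
  refine (HasRingHomProperty.iff_exists_appLE (P := @Flat)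
    (RingHom.Flat.stableUnderComposition.stableUnderCompositionWithLocalizationAway
      RingHom.Flat.holdsForLocalizationAway).1).2 fun w => ?_
  obtain ⟨_, ⟨U, hU, rfl⟩, hxU, -⟩ :=
    X.isBasis_affineOpens.exists_subset_of_mem_open (Set.mem_univ (π w)) isOpen_univ
  refine ⟨⟨U, hU⟩, ⟨π ⁻¹ᵁ U, hU.preimage π⟩, hxU, le_rfl, ?_⟩
  rw [← Scheme.Hom.app_eq_appLE]
  letI := (A.secRing hb) U
  let e : Γ(X, U) →+* Γ(A.E, U) := ((A.strB hb).app (op U)).hom
  have hflat : Module.Flat Γ(X, U) Γ(A.E, U) :=
    (QCoh.flat_sections_iff (QCoh.isQCoh_of_isFinLocFree A.lf) hU).2 fun y _ =>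
      (QCoh.isFlat_and_isFP_iff.2 A.lf).1 y
  have he : e.Flat := by
    letI := e.toAlgebra
    show @Module.Flat Γ(X, U) Γ(A.E, U) _ _ e.toAlgebra.toModule
    have hmd : e.toAlgebra.toModule = (inferInstance : Module Γ(X, U) Γ(A.E, U)) :=
      Module.ext' _ _ fun c x => A.emb_mul_eq_smul hb U c x
    rw [hmd]
    exact hflat
  let g' : Γ((A.B hb).spec, π ⁻¹ᵁ U) ≃+* Γ(A.E, U) :=
    RingEquiv.ofBijective ((A.B hb).gammaMap.app (op U)).hom ((A.bijective_gamma hb) U)
  have h0 : (π.app U).hom = g'.symm.toRingHom.comp e := by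
    refine RingHom.ext fun c => g'.injective ?_
    show g' _ = g' (g'.symm (e c))
    rw [RingEquiv.apply_symm_apply]
    exact (A.gamma_app_π hb) U c
  rw [h0]
  exact he.comp (RingHom.Flat.of_bijective g'.symm.bijective)

/-- An algebraisation on the whole scheme. -/
theorem exists_alg_global {F : X.Modules} (hF : FlatMod.IsFinLocFree F)
    (θ : FSch.completionMod J F ≅ S.modSys) : Nonempty S.Alg := by
  obtain ⟨ρ, hρ, hsurj⟩ := S.exists_maps θ (QCoh.isQCoh_of_isFinLocFree hF)
  exact ⟨⟨F, hF, ρ, hρ, hsurj, fun n => ⟨⟨θ.hom.app n, θ.inv.app n,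
    congrArg (fun f => FSch.ModSys.Hom.app f n) θ.hom_inv_id,
    congrArg (fun f => FSch.ModSys.Hom.app f n) θ.inv_hom_id⟩⟩⟩⟩

end

open AlgebraicGeometry CategoryTheory CategoryTheory.Limits in
/-- Let X be a Noetherian scheme and 𝓘 a quasi-coherent ideal sheaf with closed subscheme Y = V(𝓘).
Assume the completion functor along 𝓘 restricts to an equivalence between finite locally free
O_X-modules and levelwise finite locally free systems of modules on the completion of X along 𝓘:
Hom(F, G) → Hom(F^, G^) is bijective for all finite locally free F, G, and every system of modules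
all of whose levels are finite locally free is isomorphic to F^ for some finite locally free F. Then
restriction of finite etale covers from X to Y is an equivalence of categories. -/
theorem result (X : Scheme.{u}) [IsNoetherian X] (𝓘 : X.IdealSheafData)
    (h : (∀ F G : X.Modules, FlatMod.IsFinLocFree F → FlatMod.IsFinLocFree G →
      Function.Bijective (fun φ : F ⟶ G => FSch.complModMap 𝓘 φ)))
    (hess : ∀ 𝔐 : FSch.ModSys (FSch.completionAlong X 𝓘), LefX.LevelwiseFinLocFree 𝔐 →
      ∃ F : X.Modules, FlatMod.IsFinLocFree F ∧ Nonempty (FSch.complMod 𝓘 F ≅ 𝔐)) :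
    (FEt.restrict 𝓘.subschemeι).IsEquivalence := by
  have hb : ∀ D : X.Modules, FlatMod.IsFinLocFree D → Lef.HomToFormalBijective 𝓘 D := fun D hD =>
    H26.LefFEt.hb_of_complModMap 𝓘 D (h D _ hD
      (AVKLExist.isFinLocFree_of_isInvertible H23.InvStalk.isInvertible_structureModule))
  obtain ⟨hF, hFf⟩ := H26.LefFEt.full_faithful_of_hb 𝓘 hb
  haveI := hF
  haveI := hFf
  haveI : (FEt.restrict 𝓘.subschemeι).EssSurj := by
    refine ⟨fun R => ?_⟩
    have heq : 𝓘 ^ (0 + 1) = 𝓘 := by rw [zero_add, pow_one]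
    obtain ⟨e, heiso, he⟩ : ∃ e : GrLib8.LeffExt.Z 𝓘 0 ⟶ 𝓘.subscheme, IsIso e ∧
        e ≫ 𝓘.subschemeι = GrLib8.LeffExt.ιZ 𝓘 0 := by
      refine ⟨Scheme.IdealSheafData.inclusion heq.ge, ?_, Scheme.IdealSheafData.inclusion_subschemeι _⟩
      refine ⟨Scheme.IdealSheafData.inclusion heq.le, ?_, ?_⟩
      · rw [← cancel_mono (𝓘 ^ (0 + 1)).subschemeι, Category.assoc, Scheme.IdealSheafData.inclusion_subschemeι,
          Scheme.IdealSheafData.inclusion_subschemeι, Category.id_comp]
      · rw [← cancel_mono 𝓘.subschemeι, Category.assoc, Scheme.IdealSheafData.inclusion_subschemeι,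
          Scheme.IdealSheafData.inclusion_subschemeι, Category.id_comp]
    haveI : IsFinite R.hom := R.prop.1
    haveI : Etale R.hom := R.prop.2
    let S : GrLib8.LeffExt.FSys 𝓘 := GrLib8.LeffExt.FSys.ofZero (R.hom ≫ inv e) inferInstance inferInstance
    obtain ⟨F, hF, ⟨θ⟩⟩ := hess S.modSys fun n => S.isFinLocFree_F n
    obtain ⟨A⟩ := exists_alg_global hF (eqToIso (complMod_eq F) ≪≫ θ)
    let π := (A.B hb).π
    haveI : IsFinite π := A.isFinite_π hb
    haveI : Flat π := flat_π A hb
    haveI : LocallyOfFinitePresentation π := inferInstance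
    have het : ∀ n, Etale (pullback.snd π (GrLib8.LeffExt.ιZ 𝓘 n)) := fun n => by
      haveI : Etale (S.a n) := S.et n
      rw [← (A.isPullback_toW hb n).isoPullback_inv_snd]
      infer_instance
    obtain ⟨V, hV, hVet⟩ := GrLib8.LeffExt.exists_etale_over_nhd 𝓘 π het
    haveI : Etale π := Synt29.EtGlobal.etale_of_etale_nhd π hb V hV hVet
    let R' : FEt.Cat X := MorphismProperty.Over.mk ⊤ π ⟨inferInstance, inferInstance⟩
    have sq : IsPullback (A.toW hb 0) R.hom π 𝓘.subschemeι :=
      (A.isPullback_toW hb 0).of_iso (Iso.refl _) (Iso.refl _) (asIso e) (Iso.refl _)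
        (by simp) (by
          show (R.hom ≫ inv e) ≫ e = 𝟙 _ ≫ R.hom
          simp)
        (by simp [π]) (by rw [Iso.refl_hom, Category.comp_id, asIso_hom, he])
    exact ⟨R', ⟨(MorphismProperty.Over.isoMk sq.isoPullback sq.isoPullback_hom_snd).symm⟩⟩
  exact { }

end Groth.Agent.S9493
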