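import Groth.Statements.S9495


set_option autoImplicit false
universe u
open SchMor

namespace Groth.Agent.S9495

open AlgebraicGeometry in
open CategoryTheory in
/-- For a quasi-compact morphism of schemes f : X → S, the image f(X) is closed in S if and only if it
is stable under specialization. -/
theorem result
    {X S : Scheme.{u}} (f : X ⟶ S) [QuasiCompact f] :
    IsClosed (Set.range f) ↔ StableUnderSpecialization (Set.range f) := by
  refine ⟨fun h => h.stableUnderSpecialization, fun H => ?_⟩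
  refine (TopologicalSpace.IsOpenCover.isClosed_iff_coe_preimage (AlgebraicGeometry.iSup_affineOpens_eq_top S)).mpr fun U => ?_
  have : IsAffine (U.1 : Scheme.{u}) := U.2
  have : CompactSpace ↥(f ⁻¹ᵁ U.1) := isCompact_iff_compactSpace.mp
    (QuasiCompact.isCompact_preimage (f := f) _ U.1.2 U.2.isCompact)
  obtain ⟨R, g, hg⟩ := compactSpace_iff_exists.mp (‹_› : CompactSpace ↥((f ⁻¹ᵁ U.1 : X.Opens) : Scheme.{u}))
  obtain ⟨φ, hφ⟩ := Spec.map_surjective (g ≫ (f ∣_ U.1) ≫ U.2.isoSpec.hom)
  have hrange : Set.range (Spec.map φ) = U.2.isoSpec.hom '' (Subtype.val ⁻¹' Set.range f) := by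
    rw [hφ, Scheme.Hom.comp_base, Scheme.Hom.comp_base]
    ext p
    constructor
    · rintro ⟨r, rfl⟩
      exact ⟨(f ∣_ U.1) (g r), ⟨(g r).1, (morphismRestrict_base_coe f U.1 (g r)).symm⟩, rfl⟩
    · rintro ⟨q, ⟨x, hx⟩, rfl⟩
      have hxU : x ∈ f ⁻¹ᵁ U.1 := by
        change f x ∈ U.1
        rw [hx]; exact q.2
      obtain ⟨r, hr⟩ := hg ⟨x, hxU⟩
      refine ⟨r, ?_⟩
      change U.2.isoSpec.hom ((f ∣_ U.1) (g r)) = _
      congr 1
      rw [hr]
      exact Subtype.ext ((morphismRestrict_base_coe f U.1 _).trans hx)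
  have hs : StableUnderSpecialization (Set.range (Spec.map φ)) := by
    rw [hrange]
    rintro a b hab ⟨p, hp, rfl⟩
    obtain ⟨q, rfl⟩ := U.2.isoSpec.hom.surjective b
    refine ⟨q, ?_, rfl⟩
    have := (U.2.isoSpec.hom.isOpenEmbedding.isInducing.specializes_iff).mp hab
    exact H (this.map continuous_subtype_val) hp
  have hc : IsClosed (Set.range (Spec.map φ)) :=
    PrimeSpectrum.isClosed_range_of_stableUnderSpecialization φ.hom hs
  rw [hrange] at hc
  have := hc.preimage U.2.isoSpec.hom.continuous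
  rwa [Set.preimage_image_eq _ U.2.isoSpec.hom.isOpenEmbedding.injective] at this

end Groth.Agent.S9495
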