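import Groth.Statements.S9499
import Mathlib
import Groth.Agent.Triage.MonoFields

set_option autoImplicit false
universe u
open SchMor

namespace Groth.Agent.S9499

open AlgebraicGeometry in
open CategoryTheory in
/-- Let (k_i) be a finite family of fields and f : X → Spec(∏_i k_i) a monomorphism of schemes. Then
there are a subset I of the index set and an isomorphism X ≅ Spec(∏_{i∈I} k_i) over Spec(∏_i k_i),
where Spec(∏_{i∈I} k_i) maps to Spec(∏_i k_i) through the projection ring homomorphism ∏_i k_i →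
∏_{i∈I} k_i. -/
theorem result
    {ι : Type u} [Finite ι] (k : ι → Type u) [∀ i, Field (k i)]
    {X : Scheme.{u}} (f : X ⟶ Spec (CommRingCat.of (Π i, k i))) [Mono f] :
    ∃ (I : Set ι) (e : X ≅ Spec (CommRingCat.of (Π i : I, k i))),
      e.hom ≫ Spec.map (CommRingCat.ofHom (Pi.ringHom fun i : I => Pi.evalRingHom k i.1)) = f := by
  let ev : ∀ i, Spec (CommRingCat.of (k i)) ⟶ Spec (CommRingCat.of (Π i, k i)) := fun i =>
    Spec.map (CommRingCat.ofHom (Pi.evalRingHom k i))
  have hopen : ∀ {J : Type u} [Finite J] (m : J → Type u) [∀ j, Field (m j)] (j : J),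
      IsOpenImmersion (Spec.map (CommRingCat.ofHom (Pi.evalRingHom m j))) := by
    intro J _ m _ j
    rw [← ι_sigmaSpec (fun j => CommRingCat.of (m j)) j]; infer_instance
  have hcov : ∀ {J : Type u} [Finite J] (m : J → Type u) [∀ j, Field (m j)]
      (x : Spec (CommRingCat.of (Π j, m j))), ∃ j,
      x ∈ Set.range (Spec.map (CommRingCat.ofHom (Pi.evalRingHom m j))) := by
    intro J _ m _ x
    obtain ⟨z, rfl⟩ := (sigmaSpec fun j => CommRingCat.of (m j)).surjective x
    obtain ⟨(j : J), y, rfl⟩ := (sigmaOpenCover fun j => Spec (CommRingCat.of (m j))).exists_eq z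
    exact ⟨j, y, (congrArg (fun φ : Spec (CommRingCat.of (m j)) ⟶ _ => φ y)
      (ι_sigmaSpec (fun j => CommRingCat.of (m j)) j)).symm⟩
  haveI : ∀ i, IsOpenImmersion (ev i) := hopen k
  haveI := Groth.Agent.Triage.MonoFields.isOpenImmersion_of_mono k ev (hcov k) f
  obtain ⟨I, hI⟩ := Groth.Agent.Triage.MonoFields.exists_range_eq k ev (hcov k) (Set.range f)
  let φ : CommRingCat.of (Π i, k i) ⟶ CommRingCat.of (Π i : I, k i) :=
    CommRingCat.ofHom (Pi.ringHom fun i : I => Pi.evalRingHom k i.1)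
  haveI : IsClosedImmersion (Spec.map φ) := IsClosedImmersion.spec_of_surjective φ fun a => by
    classical
    exact ⟨fun i => if h : i ∈ I then a ⟨i, h⟩ else 0, funext fun i => dif_pos i.2⟩
  haveI : IsOpenImmersion (Spec.map φ) :=
    Groth.Agent.Triage.MonoFields.isOpenImmersion_of_mono k ev (hcov k) (Spec.map φ)
  have hev : ∀ i : I, Spec.map (CommRingCat.ofHom (Pi.evalRingHom (fun i : I => k i) i)) ≫ Spec.map φ =
      ev i.1 := fun i => by
    rw [← Spec.map_comp]; rfl
  have hr : Set.range f = Set.range (Spec.map φ) := by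
    ext x
    rw [hI x]
    constructor
    · rintro ⟨i, hi, y, rfl⟩
      exact ⟨Spec.map (CommRingCat.ofHom (Pi.evalRingHom (fun i : I => k i) ⟨i, hi⟩)) y,
        congrArg (fun ψ : Spec (CommRingCat.of (k i)) ⟶ _ => ψ y) (hev ⟨i, hi⟩)⟩
    · rintro ⟨z, rfl⟩
      obtain ⟨a, y, rfl⟩ := hcov (fun i : I => k i) z
      exact ⟨a.1, a.2, y, (congrArg (fun ψ : Spec (CommRingCat.of (k a.1)) ⟶ _ => ψ y) (hev a)).symm⟩
  exact ⟨I, IsOpenImmersion.isoOfRangeEq f (Spec.map φ) hr,
    IsOpenImmersion.isoOfRangeEq_hom_fac f (Spec.map φ) hr⟩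

end Groth.Agent.S9499
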