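import Groth.Statements.S9500
import Mathlib
import Groth.Agent.Triage.MonoFields

set_option autoImplicit false
universe u
open SchMor

namespace Groth.Agent.S9500

open AlgebraicGeometry in
open CategoryTheory Limits in
/-- Let (k_i)_{i ∈ ι} be a family of fields, X = ∐_i Spec(k_i) the disjoint union, and f : Y → X a
monomorphism of schemes. Then there are a subset J of ι and an isomorphism Y ≅ ∐_{j ∈ J} Spec(k_j)
over X, where ∐_{j ∈ J} Spec(k_j) maps to X by the coproduct inclusions. -/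
theorem result
    {ι : Type u} (k : ι → Type u) [∀ i, Field (k i)]
    {Y : Scheme.{u}} (f : Y ⟶ ∐ fun i => Spec (CommRingCat.of (k i))) [Mono f] :
    ∃ (J : Set ι) (e : Y ≅ ∐ fun j : J => Spec (CommRingCat.of (k j.1))),
      e.hom ≫ Sigma.desc (fun j : J => Sigma.ι (fun i => Spec (CommRingCat.of (k i))) j.1) = f := by
  have hcov : ∀ x : (∐ fun i => Spec (CommRingCat.of (k i)) : Scheme.{u}), ∃ i,
      x ∈ Set.range (Sigma.ι (fun i => Spec (CommRingCat.of (k i))) i) := fun x => by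
    obtain ⟨i, y, hy⟩ := (sigmaOpenCover fun i => Spec (CommRingCat.of (k i))).exists_eq x
    exact ⟨i, y, hy⟩
  haveI := Groth.Agent.Triage.MonoFields.isOpenImmersion_of_mono k
    (Sigma.ι (fun i => Spec (CommRingCat.of (k i)))) hcov f
  obtain ⟨J, hJ⟩ := Groth.Agent.Triage.MonoFields.exists_range_eq k
    (Sigma.ι (fun i => Spec (CommRingCat.of (k i)))) hcov (Set.range f)
  let g : (∐ fun j : J => Spec (CommRingCat.of (k j.1))) ⟶ ∐ fun i => Spec (CommRingCat.of (k i)) :=
    Sigma.desc (fun j : J => Sigma.ι (fun i => Spec (CommRingCat.of (k i))) j.1)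
  haveI : IsOpenImmersion g := isOpenImmersion_sigmaDesc _ _ fun a b hab => by
    rw [Function.onFun, Set.disjoint_iff]
    rintro x ⟨ha, hb⟩
    exact ((disjoint_iff.1 (disjoint_opensRange_sigmaι (fun i => Spec (CommRingCat.of (k i))) a.1 b.1
      fun h => hab (Subtype.ext h))).le (show x ∈ _ ⊓ _ from ⟨ha, hb⟩)).elim
  have hr : Set.range f = Set.range g := by
    ext x
    rw [hJ x]
    constructor
    · rintro ⟨i, hi, y, rfl⟩
      exact ⟨Sigma.ι (fun j : J => Spec (CommRingCat.of (k j.1))) ⟨i, hi⟩ y,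
        congrArg (fun φ : Spec (CommRingCat.of (k i)) ⟶ _ => φ y)
          (Sigma.ι_desc (fun j : J => Sigma.ι (fun i => Spec (CommRingCat.of (k i))) j.1) ⟨i, hi⟩)⟩
    · rintro ⟨z, rfl⟩
      obtain ⟨a, y, rfl⟩ := (sigmaOpenCover fun j : J => Spec (CommRingCat.of (k j.1))).exists_eq z
      exact ⟨a.1, a.2, y, (congrArg (fun φ : Spec (CommRingCat.of (k a.1)) ⟶ _ => φ y)
        (Sigma.ι_desc (fun j : J => Sigma.ι (fun i => Spec (CommRingCat.of (k i))) j.1) a)).symm⟩
  exact ⟨J, IsOpenImmersion.isoOfRangeEq f g hr, IsOpenImmersion.isoOfRangeEq_hom_fac f g hr⟩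

end Groth.Agent.S9500
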