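import Groth.Statements.S9503
import Groth.Agent.S9524
import Groth.Agent.SheafHomX.Smul
import Groth.Agent.SheafHomX.Main
import Groth.Agent.QCoh.FT
import Groth.Agent.QCoh.Tilde
set_option backward.isDefEq.respectTransparency false
set_option backward.isDefEq.respectTransparency.types false

set_option autoImplicit false
universe u
open AffSch

namespace Groth.Agent.S9503
open CategoryTheory CategoryTheory.Limits AlgebraicGeometry
open Groth.Agent
namespace Aux
attribute [local instance] QCoh.hasFiniteBiproducts

variable (R : CommRingCat.{u})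

theorem exists_presentation (M : ModuleCat.{u} R) [Module.FinitePresentation R M] :
    ∃ (σ τ : Type u) (_ : Fintype σ) (_ : Fintype τ)
      (f : (⨁ fun _ : τ => Coh.structureModule (Spec R)) ⟶ ⨁ fun _ : σ => Coh.structureModule (Spec R))
      (g : (⨁ fun _ : σ => Coh.structureModule (Spec R)) ⟶ tilde M) (w : f ≫ g = 0),
      Epi g ∧ (ShortComplex.mk f g w).Exact := by
  haveI : Module.FinitePresentation R (moduleSpecΓFunctor.obj (tilde M)) :=
    Module.FinitePresentation.of_equiv (tilde.isoTop M).toLinearEquiv
  obtain ⟨P, hP⟩ := QCoh.exists_presentation_of_finitePresentation (R := R) (N := tilde M) inferInstance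
  haveI : Finite P.generators.I := SheafOfModules.GeneratingSections.IsFiniteType.finite
  haveI : Finite P.relations.I := SheafOfModules.GeneratingSections.IsFiniteType.finite
  haveI := Fintype.ofFinite P.generators.I
  haveI := Fintype.ofFinite P.relations.I
  let a : (⨁ fun _ : P.generators.I => Coh.structureModule (Spec R)) ≅
      (SheafOfModules.free P.generators.I : (Spec R).Modules) :=
    biproduct.isoCoproduct _
  let b : (⨁ fun _ : P.relations.I => Coh.structureModule (Spec R)) ≅
      (SheafOfModules.free P.relations.I : (Spec R).Modules) :=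
    biproduct.isoCoproduct _
  let π : (SheafOfModules.free P.generators.I : (Spec R).Modules) ⟶ tilde M := P.generators.π
  let k : (SheafOfModules.free P.relations.I : (Spec R).Modules) ⟶ kernel π := P.relations.π
  haveI : Epi k := inferInstanceAs (Epi P.relations.π)
  haveI : Epi π := inferInstanceAs (Epi P.generators.π)
  have w : (b.hom ≫ k ≫ kernel.ι π ≫ a.inv) ≫ (a.hom ≫ π) = 0 := by simp
  refine ⟨_, _, inferInstance, inferInstance, _, _, w, inferInstance, ?_⟩
  have h0 : (ShortComplex.mk (kernel.ι π) π (kernel.condition π)).Exact :=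
    ShortComplex.exact_of_f_is_kernel _ (kernelIsKernel π)
  have h1 : (ShortComplex.mk (k ≫ kernel.ι π) π (by simp)).Exact := by
    let φ : ShortComplex.mk (k ≫ kernel.ι π) π (by simp) ⟶ ShortComplex.mk (kernel.ι π) π (kernel.condition π) :=
      { τ₁ := k, τ₂ := 𝟙 _, τ₃ := 𝟙 _ }
    exact (ShortComplex.exact_iff_of_epi_of_isIso_of_mono φ).2 h0
  have e : ShortComplex.mk (b.hom ≫ k ≫ kernel.ι π ≫ a.inv) (a.hom ≫ π) w ≅
      ShortComplex.mk (k ≫ kernel.ι π) π (by simp) := ShortComplex.isoMk b a (Iso.refl _) (by simp) (by simp)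
  exact (ShortComplex.exact_iff_of_iso e).2 h1

theorem sheafHom_tilde (M N : ModuleCat.{u} R) [Module.FinitePresentation R M]
    [DCoh.HasSheafHom (tilde M)] :
    Nonempty ((DCoh.sheafHom (tilde M)).obj (tilde N) ≅ tilde (ModuleCat.of R (M →ₗ[R] N))) := by
  haveI : (moduleSpecΓFunctor (R := R)).Additive := ⟨fun {M N f g} => rfl⟩
  letI : (Spec R).Over (Spec (CommRingCat.of R)) := ⟨𝟙 _⟩
  let H := (SheafHomX.hom (tilde M)).obj (tilde N)
  have hH : Coh.IsQCoh H := by
    obtain ⟨σ, τ, _, _, f, g, w, hg, he⟩ := exists_presentation R M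
    exact (SheafHomX.isQCoh_hom_of_presentation f g w he (inferInstance : Coh.IsQCoh (tilde N))).1
  let v : (Coh.structureModule (Spec R) ⟶ H) → (M →ₗ[R] Γ(tilde N, ⊤)) :=
    fun x => ((tilde.adjunction.homEquiv M (tilde N)) (SheafHomX.ev (tilde M) (tilde N) x)).hom
  have hv : Function.Bijective v :=
    (ModuleCat.homLinearEquiv (S := R)).bijective.comp
      ((tilde.adjunction.homEquiv M (tilde N)).bijective.comp (SheafHomX.ev (tilde M) (tilde N)).bijective)
  have hadd : ∀ x y, v (x + y) = v x + v y := fun x y => by
    show ((tilde.adjunction.homEquiv M (tilde N)) (SheafHomX.ev (tilde M) (tilde N) (x + y))).hom = _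
    rw [map_add, Adjunction.homEquiv_unit, Functor.map_add, Preadditive.comp_add, ModuleCat.hom_add]
    rfl
  have hsm : ∀ (W : (Spec R).Modules) (a : R) (s : moduleSpecΓFunctor.obj W),
      (moduleSpecΓFunctor.map (Formal.smulMod (R : Type u) W a)).hom s = a • s := fun W a s => rfl
  have hsmul : ∀ x (a : R), v (x ≫ Formal.smulMod (R : Type u) H a) = a • v x := fun x a => by
    show ((tilde.adjunction.homEquiv M (tilde N)) (SheafHomX.ev (tilde M) (tilde N) _)).hom = _
    rw [← SheafHomX.hom_map_smulMod, SheafHomX.ev_naturality, Adjunction.homEquiv_naturality_right]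
    exact LinearMap.ext fun m => hsm _ _ _
  have hone : ∀ x y : Coh.structureModule (Spec R) ⟶ H, InvX.one (x + y) = InvX.one x + InvX.one y :=
    fun x y => rfl
  have hinj : Function.Injective (InvX.one (L := H)) := fun x y h =>
    SheafHomX.cls_injective (congrArg (Sheaf.H.equiv₀ (Coh.toAb H) isTerminalTop).symm h)
  let e0 : (Coh.structureModule (Spec R) ⟶ H) ≃ moduleSpecΓFunctor.obj H :=
    Equiv.ofBijective InvX.one ⟨hinj, fun t => ⟨InvX.ofSect t, InvX.one_ofSect t⟩⟩
  let φ : moduleSpecΓFunctor.obj H →ₗ[R] (M →ₗ[R] Γ(tilde N, ⊤)) :=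
    { toFun := fun t => v (e0.symm t)
      map_add' := fun s t => by
        rw [← hadd]
        refine congrArg v (e0.injective ?_)
        rw [Equiv.apply_symm_apply]
        exact ((hone _ _).trans (congrArg₂ (· + ·) (e0.apply_symm_apply s) (e0.apply_symm_apply t))).symm
      map_smul' := fun a t => by
        refine (congrArg v (e0.injective ?_)).trans (hsmul (e0.symm t) a)
        rw [Equiv.apply_symm_apply]
        exact ((hsm H a (InvX.one (e0.symm t))).trans (congrArg (a • ·) (e0.apply_symm_apply t))).symm }
  let e : moduleSpecΓFunctor.obj H ≅ ModuleCat.of R (M →ₗ[R] N) :=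
    ((LinearEquiv.ofBijective φ (hv.comp e0.symm.bijective)).trans
      (LinearEquiv.congrRight (tilde.isoTop N).toLinearEquiv.symm)).toModuleIso
  haveI : IsIso H.fromTildeΓ := (isQuasicoherent_iff_isIso_fromTildeΓ H).1 hH
  exact ⟨(S9524.sheafHomIso (tilde M)).symm.app (tilde N) ≪≫ (asIso H.fromTildeΓ).symm ≪≫
    (tilde.functor R).mapIso e⟩

end Aux


open AlgebraicGeometry in
open CategoryTheory in
/-- Let A be a commutative ring, M a finitely presented A-module and N an A-module, with associated
O_X-modules M~ and N~ on X = Spec A, and let Hom_{O_X}(M~, -) denote the sheaf-Hom functor (the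
right adjoint of M~ ⊗ -, assumed to exist). Then Hom_{O_X}(M~, N~) is isomorphic to the O_X-module
associated to the A-module Hom_A(M, N) (existence of an isomorphism only; the prelude's sheaf Hom is
a chosen right adjoint, so no particular map is singled out). -/
theorem result
    (A : Type u) [CommRing A] (M N : Type u) [AddCommGroup M] [Module A M]
    [Module.FinitePresentation A M] [AddCommGroup N] [Module A N]
    [DCoh.HasSheafHom (tilde (R := CommRingCat.of A) (ModuleCat.of A M))] :
    Nonempty ((DCoh.sheafHom (tilde (R := CommRingCat.of A) (ModuleCat.of A M))).obj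
        (tilde (R := CommRingCat.of A) (ModuleCat.of A N)) ≅
      tilde (R := CommRingCat.of A) (ModuleCat.of A (M →ₗ[A] N))) := by

    haveI : Module.FinitePresentation (CommRingCat.of A) (ModuleCat.of A M) := inferInstanceAs (Module.FinitePresentation A M)
    exact Aux.sheafHom_tilde (CommRingCat.of A) (ModuleCat.of A M) (ModuleCat.of A N)

end Groth.Agent.S9503
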