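import Groth.Statements.S9504
import Groth.Agent.Synt29.ExtPowPull
-- import your own Groth.Agent.* helpers here

set_option autoImplicit false
universe u
open AffSch

set_option linter.style.haveILetI false
set_option backward.isDefEq.respectTransparency false
set_option backward.isDefEq.respectTransparency.types false

namespace Groth.Agent.S9504

open CategoryTheory AlgebraicGeometry TopologicalSpace Opposite
open Groth.Agent.AModX

/-- The canonical map to the sections of an associated module. -/
noncomputable def toΓ {R : CommRingCat.{u}} (M : ModuleCat.{u} R) (U : (Spec R).Opens) :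
    M →ₗ[R] Γ(tilde M, U) := (tilde.toOpen M U).hom

theorem toΓ_res {R : CommRingCat.{u}} (M : ModuleCat.{u} R) {U V : (Spec R).Opens} (i : V ≤ U) (m : M) :
    res (tilde M) i (toΓ M U m) = toΓ M V m :=
  congr($(tilde.toOpen_res M U V (homOfLE i)).hom m)

theorem isBaseChange_toΓ {R : CommRingCat.{u}} (M : ModuleCat.{u} R) {U : (Spec R).Opens}
    (hU : ∃ f : R, U = PrimeSpectrum.basicOpen f) : IsBaseChange Γ(Spec R, U) (toΓ M U) := by
  obtain ⟨f, rfl⟩ := hU
  haveI : IsLocalizedModule.Away f (toΓ M (PrimeSpectrum.basicOpen f)) :=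
    inferInstanceAs (IsLocalizedModule.Away f (tilde.toOpen M (PrimeSpectrum.basicOpen f)).hom)
  exact (isLocalizedModule_iff_isBaseChange (Submonoid.powers f) _ _).1 inferInstance

/-- The exterior power of an associated module is associated to the exterior power. -/
theorem isExtPow_tilde {R : CommRingCat.{u}} (M : ModuleCat.{u} R) (p : ℕ) (L : ModuleCat.{u} R)
    (φ : ↥(⋀[R]^p M) ≃ₗ[R] L) : ExtPow.IsExtPow p (tilde M) (tilde L) := by
  let E := tilde M
  let L' := tilde L
  let P : (Spec R).Opens → Prop := fun W => ∃ f : R, W = PrimeSpectrum.basicOpen f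
  have hP : ∀ (V : (Spec R).Opens), ∀ x ∈ V, ∃ W : (Spec R).Opens, W ≤ V ∧ x ∈ W ∧ P W := fun V x hx => by
    obtain ⟨_, ⟨_, ⟨f, rfl⟩, rfl⟩, hxf, hle⟩ :=
      PrimeSpectrum.isBasis_basic_opens.exists_subset_of_mem_open hx V.2
    exact ⟨_, hle, hxf, f, rfl⟩
  have hα : ∀ W : (Spec R).Opens, P W → ∃ b : Γ(E, W) [⋀^Fin p]→ₗ[Γ(Spec R, W)] Γ(L', W),
      ∀ v : Fin p → M, b (fun i => toΓ M W (v i)) = toΓ L W (φ (exteriorPower.ιMulti R p v)) := fun W h =>
    Synt29.WedgeBC.exists_alt (isBaseChange_toΓ M h) p
      (((toΓ L W).comp φ.toLinearMap).compAlternatingMap (exteriorPower.ιMulti R p))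
  choose α hα using hα
  have hres : ∀ W W' (h : P W) (h' : P W') (i : W' ≤ W) (e : Fin p → Γ(E, W)),
      res L' i (α W h e) = α W' h' (fun k => res E i (e k)) := by
    intro W W' h h' i
    letI := ((Spec R).presheaf.map (homOfLE i).op).hom.toAlgebra
    letI : Module Γ(Spec R, W) Γ(L', W') := Module.compHom _ ((Spec R).presheaf.map (homOfLE i).op).hom
    letI : Module Γ(Spec R, W) Γ(E, W') := Module.compHom _ ((Spec R).presheaf.map (homOfLE i).op).hom
    haveI : IsScalarTower Γ(Spec R, W) Γ(Spec R, W') Γ(L', W') := IsScalarTower.of_algebraMap_smul fun _ _ => rfl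
    haveI : IsScalarTower Γ(Spec R, W) Γ(Spec R, W') Γ(E, W') := IsScalarTower.of_algebraMap_smul fun _ _ => rfl
    let rE : Γ(E, W) →ₗ[Γ(Spec R, W)] Γ(E, W') :=
      { toFun := res E i, map_add' := map_add _, map_smul' := fun r x => res_smul i r x }
    let rL : Γ(L', W) →ₗ[Γ(Spec R, W)] Γ(L', W') :=
      { toFun := res L' i, map_add' := map_add _, map_smul' := fun r x => res_smul i r x }
    have key := Synt29.WedgeBC.alt_ext (isBaseChange_toΓ M h) p (rL.compAlternatingMap (α W h))
      ((Synt29.ExtPowPull.restr (A := Γ(Spec R, W)) (α W' h')).compLinearMap rE) fun v => by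
        show res L' i (α W h fun k => toΓ M W (v k)) = α W' h' (fun k => res E i (toΓ M W (v k)))
        rw [hα, toΓ_res L i, show (fun k => res E i (toΓ M W (v k))) = fun k => toΓ M W' (v k) from
          funext fun k => toΓ_res M i (v k), hα]
    exact fun e => AlternatingMap.congr_fun key e
  obtain ⟨μ, hμ, hμP⟩ := Synt29.ExtPowPull.exists_extend P hP α hres
  refine AltGlue.isExtPow_of μ hμ fun W hW => ?_
  refine AltGlue.lift_bijective μ hμ inferInstance inferInstance hW {r | P ((Spec R).basicOpen r)} ?_ fun r => ?_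
  · refine hW.self_le_iSup_basicOpen_iff.1 fun x hx => ?_
    obtain ⟨V, hV, hxV, f, rfl⟩ := hP W x hx
    let g := (Spec R).presheaf.map W.leTop.op ((Scheme.ΓSpecIso R).inv f)
    have hg : (Spec R).basicOpen g = PrimeSpectrum.basicOpen f := by
      rw [Scheme.basicOpen_res, basicOpen_eq_of_affine, inf_eq_right.2 hV]
    exact Opens.mem_iSup.2 ⟨⟨g, f, hg⟩, hg ▸ hxV⟩
  · have e : μ ((Spec R).basicOpen r.1) = α _ r.2 := AlternatingMap.ext fun e => hμP _ r.2 e
    show Function.Bijective (exteriorPower.alternatingMapLinearEquiv (μ ((Spec R).basicOpen r.1)))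
    rw [e]
    exact Synt29.WedgeBC.bijective_of_baseChange (isBaseChange_toΓ M r.2) p φ (toΓ L _)
      (isBaseChange_toΓ L r.2) _ fun v => hα _ r.2 v

open AlgebraicGeometry in
open CategoryTheory in
/-- Let A be a commutative ring, M an A-module and n a natural number. On X = Spec A the O_X-module
associated to the A-module ⋀^n M is an n-th exterior power of M~: on every affine open U its
sections are identified, linearly over Γ(U, O_X), with the n-th exterior power of the sections of M~
over U, compatibly with restrictions on decomposable elements. -/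
theorem result
    (A : Type u) [CommRing A] (M : Type u) [AddCommGroup M] [Module A M] (n : ℕ) :
    ExtPow.IsExtPow n (tilde (R := CommRingCat.of A) (ModuleCat.of A M))
      (tilde (R := CommRingCat.of A) (ModuleCat.of A ↥(⋀[A]^n M))) := by
  exact isExtPow_tilde (R := CommRingCat.of A) (ModuleCat.of A M) n _ (LinearEquiv.refl _ _)

end Groth.Agent.S9504
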