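import Groth.Statements.S9506
import Groth.Agent.Triage.LRSClosedSch

set_option autoImplicit false
universe u
open LRSImm

set_option backward.isDefEq.respectTransparency false
set_option backward.isDefEq.respectTransparency.types false
namespace Groth.Agent.S9506

open AlgebraicGeometry CategoryTheory in
theorem surjective_stalk {X Y : Scheme.{u}} (f : X ⟶ Y) [AlgebraicGeometry.IsClosedImmersion f] (y : Y) :
    Function.Surjective ((TopCat.Presheaf.stalkFunctor CommRingCat y).map f.c) := by
  intro t
  obtain ⟨U, hy, s, rfl⟩ := TopCat.Presheaf.exists_germ_eq (f.base _* X.presheaf) t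
  obtain ⟨V, hV, hyV, hVU⟩ := exists_isAffineOpen_mem_and_subset (x := y) (U := U) hy
  haveI : IsAffine V.toScheme := hV
  have hsur : Function.Surjective (f.app V) :=
    f.app_surjective V hV
  obtain ⟨r, hr⟩ := hsur ((f.base _* X.presheaf).map (homOfLE hVU).op s)
  refine ⟨Y.presheaf.germ V y hyV r, ?_⟩
  refine (TopCat.Presheaf.stalkFunctor_map_germ_apply V y hyV f.c r).trans ?_
  refine (congrArg ((f.base _* X.presheaf).germ V y hyV) hr).trans ?_
  exact TopCat.Presheaf.germ_res_apply (f.base _* X.presheaf) _ y hyV s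

open AlgebraicGeometry in
open CategoryTheory Opposite in
/-- Let R be a commutative ring and i : Z → Spec R a closed immersion of locally ringed spaces (a
homeomorphism onto a closed subset such that O → i_*O_Z is surjective as a map of sheaves with
kernel locally generated by sections). Let I ⊆ R be the kernel of the composite R = Γ(Spec R, O) →
Γ(Z, O_Z). Then Z is identified with Spec(R/I) over Spec R: there is an isomorphism of locally
ringed spaces Z ≅ Spec(R/I) whose composite with the morphism Spec(R/I) → Spec R induced by R → R/I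
is i (in particular the ideal I with this property is unique). -/
theorem result
    (R : Type u) [CommRing R] (Z : LocallyRingedSpace.{u})
    (i : Z ⟶ (Spec (CommRingCat.of R)).toLocallyRingedSpace) (hi : LRSImm.IsClosedImmersion i)
    (I : Ideal R)
    (hI : I = RingHom.ker ((Scheme.ΓSpecIso (CommRingCat.of R)).inv ≫ i.c.app (op ⊤)).hom) :
    ∃ e : Z ≅ (Spec (CommRingCat.of (R ⧸ I))).toLocallyRingedSpace,
      e.hom ≫ (Spec.map (CommRingCat.ofHom (Ideal.Quotient.mk I))).toLRSHom = i := by
  subst hI
  set I := RingHom.ker ((Scheme.ΓSpecIso (CommRingCat.of R)).inv ≫ i.c.app (op ⊤)).hom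
  set j : Spec (CommRingCat.of (R ⧸ I)) ⟶ Spec (CommRingCat.of R) :=
    Spec.map (CommRingCat.ofHom (Ideal.Quotient.mk I)) with hjdef
  haveI : AlgebraicGeometry.IsClosedImmersion j :=
    IsClosedImmersion.spec_of_surjective _ Ideal.Quotient.mk_surjective
  have hjs : TopCat.Presheaf.IsLocallySurjective j.c := by
    rw [TopCat.Presheaf.locally_surjective_iff_surjective_on_stalks]
    exact surjective_stalk j
  have hj := Groth.Agent.Triage.LRSClosed.lrsClosedImmersion_of_scheme j hjs
  have hpi := Groth.Agent.Triage.LRSClosed.hasPow_of_keyLocal (X := Spec (CommRingCat.of R)) i hi.2.2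
  have hpj := Groth.Agent.Triage.LRSClosed.hasPow_of_scheme j
  have hkill : Groth.Agent.Triage.LRSClosed.killed (X := Spec (CommRingCat.of R)) i ⊤ =
      Groth.Agent.Triage.LRSClosed.killed j.toLRSHom ⊤ := by
    ext r
    obtain ⟨r, rfl⟩ := (Scheme.ΓSpecIso (CommRingCat.of R)).symm.commRingCatIsoToRingEquiv.surjective r
    have h1 : j.appTop ((Scheme.ΓSpecIso (CommRingCat.of R)).inv r) = 0 ↔ r ∈ I := by
      have e : j.appTop ((Scheme.ΓSpecIso (CommRingCat.of R)).inv r) =
          (Scheme.ΓSpecIso (CommRingCat.of (R ⧸ I))).inv (Ideal.Quotient.mk I r) :=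
        (ConcreteCategory.congr_hom (Scheme.ΓSpecIso_inv_naturality (CommRingCat.ofHom (Ideal.Quotient.mk I))) r).symm
      rw [e, map_eq_zero_iff (Scheme.ΓSpecIso (CommRingCat.of (R ⧸ I))).inv.hom
        ((ConcreteCategory.bijective_of_isIso (Scheme.ΓSpecIso (CommRingCat.of (R ⧸ I))).inv).1),
        Ideal.Quotient.eq_zero_iff_mem]
    exact h1.symm
  have hker : ∀ x, Groth.Agent.Triage.LRSClosed.kerStalk i x = Groth.Agent.Triage.LRSClosed.kerStalk j.toLRSHom x := by
    intro x
    rw [Groth.Agent.Triage.LRSClosed.kerStalk_eq (X := Spec (CommRingCat.of R)) i hpi (isAffineOpen_top _) x trivial,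
      Groth.Agent.Triage.LRSClosed.kerStalk_eq j.toLRSHom hpj (isAffineOpen_top _) x trivial, hkill]
  obtain ⟨g, hg⟩ := Groth.Agent.Triage.LRSClosed.exists_fac j.toLRSHom hj i
    (Groth.Agent.Triage.LRSClosed.forall_killed_of_kerStalk_le _ _ fun x => (hker x).ge)
  obtain ⟨g', hg'⟩ := Groth.Agent.Triage.LRSClosed.exists_fac i hi j.toLRSHom
    (Groth.Agent.Triage.LRSClosed.forall_killed_of_kerStalk_le _ _ fun x => (hker x).le)
  refine ⟨⟨g, g', ?_, ?_⟩, hg⟩
  · exact Groth.Agent.Triage.LRSClosed.hom_unique i hi i _ _ (by rw [Category.assoc, hg', hg]) (Category.id_comp _)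
  · exact Groth.Agent.Triage.LRSClosed.hom_unique j.toLRSHom hj j.toLRSHom _ _
      (by rw [Category.assoc, hg, hg']) (Category.id_comp _)

end Groth.Agent.S9506
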