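import Groth.Statements.S9505
import Groth.Agent.Triage.LRSClosedSch
import Groth.Agent.S9506
import Mathlib.AlgebraicGeometry.IdealSheaf.Subscheme

set_option autoImplicit false
universe u
open LRSImm

namespace Groth.Agent.S9505

open AlgebraicGeometry in
open CategoryTheory in
/-- Let X be a scheme and i : Z → X a closed immersion of locally ringed spaces: a homeomorphism onto a
closed subset of X such that O_X → i_*O_Z is surjective as a map of sheaves and its kernel is
locally generated by sections. Then the locally ringed space Z is a scheme and i is a closed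
immersion of schemes (affine-locally of the form Spec(R/I) → Spec R): there are a scheme Z' and an
isomorphism of locally ringed spaces Z' ≅ Z whose composite with i is a closed immersion of schemes
Z' → X. -/
theorem result
    (X : Scheme.{u}) (Z : LocallyRingedSpace.{u}) (i : Z ⟶ X.toLocallyRingedSpace)
    (hi : LRSImm.IsClosedImmersion i) :
    ∃ (Z' : Scheme.{u}) (e : Z'.toLocallyRingedSpace ≅ Z),
      AlgebraicGeometry.IsClosedImmersion (Scheme.Hom.mk (e.hom ≫ i) : Z' ⟶ X) := by
  have hpi := Groth.Agent.Triage.LRSClosed.hasPow_of_keyLocal i hi.2.2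
  let J : X.IdealSheafData :=
    { ideal := fun U => Groth.Agent.Triage.LRSClosed.killed i U.1
      map_ideal_basicOpen := fun U a => Groth.Agent.Triage.LRSClosed.map_killed_basicOpen i hpi U.2 a }
  let j := J.subschemeι
  have hj := Groth.Agent.Triage.LRSClosed.lrsClosedImmersion_of_scheme j (by
    rw [TopCat.Presheaf.locally_surjective_iff_surjective_on_stalks]
    exact Groth.Agent.S9506.surjective_stalk j)
  have hker : ∀ x : X, Groth.Agent.Triage.LRSClosed.kerStalk i x = Groth.Agent.Triage.LRSClosed.kerStalk j.toLRSHom x := by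
    intro x
    obtain ⟨U, hU, hxU, -⟩ := exists_isAffineOpen_mem_and_subset (x := x) (U := ⊤) trivial
    rw [Groth.Agent.Triage.LRSClosed.kerStalk_eq i hpi hU x hxU,
      Groth.Agent.Triage.LRSClosed.kerStalk_eq j.toLRSHom (Groth.Agent.Triage.LRSClosed.hasPow_of_scheme j) hU x hxU]
    congr 1
    exact (Scheme.IdealSheafData.ker_subschemeι_app J ⟨U, hU⟩).symm
  obtain ⟨g, hg⟩ := Groth.Agent.Triage.LRSClosed.exists_fac j.toLRSHom hj i
    (Groth.Agent.Triage.LRSClosed.forall_killed_of_kerStalk_le _ _ fun x => (hker x).ge)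
  obtain ⟨g', hg'⟩ := Groth.Agent.Triage.LRSClosed.exists_fac i hi j.toLRSHom
    (Groth.Agent.Triage.LRSClosed.forall_killed_of_kerStalk_le _ _ fun x => (hker x).le)
  let e : J.subscheme.toLocallyRingedSpace ≅ Z := ⟨g', g,
    Groth.Agent.Triage.LRSClosed.hom_unique j.toLRSHom hj j.toLRSHom _ _
      (by rw [Category.assoc, hg, hg']) (Category.id_comp _),
    Groth.Agent.Triage.LRSClosed.hom_unique i hi i _ _ (by rw [Category.assoc, hg', hg]) (Category.id_comp _)⟩
  refine ⟨J.subscheme, e, ?_⟩
  have h : (Scheme.Hom.mk (e.hom ≫ i) : J.subscheme ⟶ X) = j := Scheme.Hom.ext' hg'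
  rw [h]
  infer_instance

end Groth.Agent.S9505
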