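import Groth.Statements.S9510
import Mathlib.AlgebraicGeometry.AffineScheme

set_option autoImplicit false
universe u
open SchMor

namespace Groth.Agent.S9510

open AlgebraicGeometry in
open CategoryTheory in
/-- Let X be a scheme, X = ⋃ U_i an affine open covering and V ⊆ X an affine open. Then there is a
standard open covering V = D(f_1) ∪ … ∪ D(f_m), with f_1, …, f_m sections of O_X over V, such that
each D(f_j) is also a standard open D(g) of one of the U_i (g a section over that U_i). -/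
theorem result
    (X : Scheme.{u}) {ι : Type u} (U : ι → X.affineOpens) (hU : ⨆ i, (U i : X.Opens) = ⊤)
    (V : X.affineOpens) :
    ∃ s : Finset Γ(X, (V : X.Opens)),
      (⨆ f ∈ s, X.basicOpen f) = (V : X.Opens) ∧
        ∀ f ∈ s, ∃ (i : ι) (g : Γ(X, (U i : X.Opens))), X.basicOpen f = X.basicOpen g := by
  classical
  have h : ∀ x : (V : X.Opens), ∃ (f : Γ(X, (V : X.Opens))) (i : ι) (g : Γ(X, (U i : X.Opens))),
      X.basicOpen f = X.basicOpen g ∧ x.1 ∈ X.basicOpen f := fun x => by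
    obtain ⟨i, hi⟩ := TopologicalSpace.Opens.mem_iSup.mp (hU.ge (trivial : x.1 ∈ (⊤ : X.Opens)))
    obtain ⟨f, g, e, hx⟩ := exists_basicOpen_le_affine_inter V.2 (U i).2 x.1 ⟨x.2, hi⟩
    exact ⟨f, i, g, e, hx⟩
  choose f i g e hx using h
  obtain ⟨t, ht⟩ := V.2.isCompact.elim_finite_subcover (fun x => (X.basicOpen (f x) : Set X))
    (fun x => (X.basicOpen (f x)).isOpen) (fun x hxV => Set.mem_iUnion.mpr ⟨⟨x, hxV⟩, hx _⟩)
  refine ⟨t.image f, le_antisymm (iSup₂_le fun s _ => X.basicOpen_le s) fun x hxV => ?_, ?_⟩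
  · obtain ⟨y, hy, hxy⟩ := Set.mem_iUnion₂.mp (ht hxV)
    exact TopologicalSpace.Opens.mem_iSup.mpr ⟨f y, TopologicalSpace.Opens.mem_iSup.mpr
      ⟨Finset.mem_image_of_mem f hy, hxy⟩⟩
  · intro s hs
    obtain ⟨y, _, rfl⟩ := Finset.mem_image.mp hs
    exact ⟨i y, g y, e y⟩

end Groth.Agent.S9510
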