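import Groth.Statements.S9511
import Mathlib.AlgebraicGeometry.Limits
-- import your own Groth.Agent.* helpers here

set_option autoImplicit false
set_option backward.isDefEq.respectTransparency false
set_option backward.isDefEq.respectTransparency.types false
universe u
open LRSImm

namespace Groth.Agent.S9511

open AlgebraicGeometry in
open CategoryTheory TopologicalSpace in
/-- Let X be a locally ringed space and U, V ⊆ X open with X = U ⊔ V (they cover X and are disjoint),
such that the open subspaces X|_U and X|_V are affine schemes. Then X is an affine scheme: the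
canonical morphism X → Spec Γ(X, O_X) is an isomorphism of locally ringed spaces. -/
theorem result
    (X : LocallyRingedSpace.{u}) (U V : Opens X.toTopCat) (hUV : IsCompl U V)
    (A B : CommRingCat.{u})
    (eU : X.restrict U.isOpenEmbedding ≅ (Spec A).toLocallyRingedSpace)
    (eV : X.restrict V.isOpenEmbedding ≅ (Spec B).toLocallyRingedSpace) :
    IsIso X.toΓSpec := by
  have htop : ∀ x : X, x ∈ U ∨ x ∈ V := fun x => by
    have : x ∈ U ⊔ V := by rw [hUV.sup_eq_top]; trivial
    exact this
  let Y : Scheme.{u} :=
    { toLocallyRingedSpace := X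
      local_affine := fun x => (htop x).elim (fun h => ⟨⟨U, h⟩, A, ⟨eU⟩⟩) (fun h => ⟨⟨V, h⟩, B, ⟨eV⟩⟩) }
  have hU : IsAffineOpen (X := Y) U :=
    .of_isIso (Scheme.forgetToLocallyRingedSpace.preimageIso (X := Scheme.Opens.toScheme (X := Y) U) (Y := Spec A) eU).hom
  have hV : IsAffineOpen (X := Y) V :=
    .of_isIso (Scheme.forgetToLocallyRingedSpace.preimageIso (X := Scheme.Opens.toScheme (X := Y) V) (Y := Spec B) eV).hom
  haveI : IsAffine Y := by
    have h : IsAffineOpen (⊤ : Y.Opens) := by
      have := IsAffineOpen.sup_of_disjoint hU hV hUV.disjoint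
      rwa [hUV.sup_eq_top] at this
    haveI : IsAffine (⊤ : Y.Opens).toScheme := h
    exact .of_isIso Y.topIso.inv
  exact inferInstanceAs (IsIso (Scheme.forgetToLocallyRingedSpace.map Y.toSpecΓ))

end Groth.Agent.S9511
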