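import Groth.Statements.S9512
import Mathlib

set_option autoImplicit false
universe u
open LRSImm

namespace Groth.Agent.S9512

open AlgebraicGeometry in
open CategoryTheory Opposite in
/-- Let X be a locally ringed space, Y = Spec R an affine scheme and f : X → Y a morphism of locally
ringed spaces. Given a point x of X, the image f(x) is the prime of R obtained as the inverse image
of the maximal ideal of O_{X,x} under the composite R = Γ(Y, O_Y) → Γ(X, O_X) → O_{X,x}. -/
theorem result
    (X : LocallyRingedSpace.{u}) (R : CommRingCat.{u})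
    (f : X ⟶ (Spec R).toLocallyRingedSpace) (x : X.toTopCat) :
    f.base x = PrimeSpectrum.comap
      ((Scheme.ΓSpecIso R).inv ≫ f.c.app (op ⊤) ≫ X.presheaf.germ ⊤ x trivial).hom
      (IsLocalRing.closedPoint (X.presheaf.stalk x)) := by
  have key : ∀ y : Spec R, y = PrimeSpectrum.comap
      ((Scheme.ΓSpecIso R).inv ≫ (Spec R).presheaf.germ ⊤ y trivial).hom
      (IsLocalRing.closedPoint ((Spec R).presheaf.stalk y)) := by
    intro y
    have h1 : (Spec R).toSpecΓ y = Spec.map (Scheme.ΓSpecIso R).hom y := by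
      rw [SpecMap_ΓSpecIso_hom]
    rw [Scheme.toSpecΓ_apply] at h1
    rw [CommRingCat.hom_comp, PrimeSpectrum.comap_comp_apply]
    change y = Spec.map (Scheme.ΓSpecIso R).inv
      (Spec.map ((Spec R).presheaf.germ ⊤ y trivial) (IsLocalRing.closedPoint _))
    erw [h1, ← Scheme.Hom.comp_apply, ← Spec.map_comp, Iso.inv_hom_id, Spec.map_id]
    rfl
  have e : (Scheme.ΓSpecIso R).inv ≫ f.c.app (op ⊤) ≫ X.presheaf.germ ⊤ x trivial
      = (Scheme.ΓSpecIso R).inv ≫ (Spec R).presheaf.germ ⊤ (f.base x) trivial ≫ f.stalkMap x := by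
    congr 1
    exact (PresheafedSpace.stalkMap_germ f.1 ⊤ x trivial).symm
  rw [e, ← Category.assoc, CommRingCat.hom_comp (f := _ ≫ _), PrimeSpectrum.comap_comp_apply]
  refine (key (f.base x)).trans ?_
  congr 1
  exact (IsLocalRing.comap_closedPoint (f.stalkMap x).hom).symm

end Groth.Agent.S9512
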