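import Groth.Statements.S9513
import Groth.Agent.Approx.AffineSheaf

set_option autoImplicit false
set_option backward.isDefEq.respectTransparency false
set_option backward.isDefEq.respectTransparency.types false
universe u
open SchMor

namespace Groth.Agent.S9513

open AlgebraicGeometry in
open CategoryTheory TopologicalSpace Opposite in
/-- (1) ⇔ (3): Let X be a scheme and B the set of affine opens of X, ordered by inclusion; let F be a
presheaf of sets on B (a functor on Bᵒᵖ) and E ∈ B the empty open. Then F is isomorphic to the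
restriction to B of a sheaf of sets on X if and only if (a) F(∅) is a singleton and (b) for all U ∈
B and sections f, g of O_X over U with U = D(f) ∪ D(g), writing V = D(f), W = D(g) and V ∩ W = D(fg)
(all in B), the map F(U) → F(V) × F(W) is injective with image exactly the pairs (s, t) whose
restrictions to D(fg) agree. (The order relations V, W ≤ U and D(fg) ≤ V, W are supplied as
hypotheses; they follow from the equations.) -/
theorem result (X : Scheme.{u})
    (F : (X.affineOpens)ᵒᵖ ⥤ Type u) (E : X.affineOpens) (hE : (E : X.Opens) = ⊥) :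
    (∃ G : TopCat.Sheaf (Type u) X.carrier,
        Nonempty ((Monotone.functor (f := fun U : X.affineOpens => (U : X.Opens)) (fun _ _ h => h)).op ⋙ G.1 ≅ F)) ↔
    ((Nonempty (F.obj (op E)) ∧ Subsingleton (F.obj (op E))) ∧
      ∀ (U V W VW : X.affineOpens) (f g : Γ(X, (U : X.Opens))),
        (V : X.Opens) = X.basicOpen f → (W : X.Opens) = X.basicOpen g →
        (VW : X.Opens) = X.basicOpen (f * g) → (U : X.Opens) = (V : X.Opens) ⊔ (W : X.Opens) →
        ∀ (hV : V ≤ U) (hW : W ≤ U) (h1 : VW ≤ V) (h2 : VW ≤ W),
        Function.Injective (fun s : F.obj (op U) => (F.map (homOfLE hV).op s, F.map (homOfLE hW).op s)) ∧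
        Set.range (fun s : F.obj (op U) => (F.map (homOfLE hV).op s, F.map (homOfLE hW).op s)) =
          {p | F.map (homOfLE h1).op p.1 = F.map (homOfLE h2).op p.2}) := by
  constructor
  · rintro ⟨G, ⟨e⟩⟩
    have hiso : ∀ U : X.affineOpens, Function.Bijective (e.app (op U)).hom :=
      fun U => (e.app (op U)).toEquiv.bijective
    have hnat : ∀ {U V : X.affineOpens} (h : V ≤ U) (x : G.1.obj (op (U : X.Opens))),
        F.map (homOfLE h).op ((e.app (op U)).hom x) =
          (e.app (op V)).hom (G.1.map (homOfLE (show (V : X.Opens) ≤ U from h)).op x) :=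
      fun h x => (ConcreteCategory.congr_hom (e.hom.naturality (homOfLE h).op) x).symm
    refine ⟨⟨?_, ?_⟩, ?_⟩
    · obtain ⟨x, -⟩ := (TopCat.Sheaf.existsUnique_gluing' G (fun i : PEmpty.{u + 1} => (⊥ : X.Opens)) (E : X.Opens)
        (fun i => i.elim) (by rw [hE]; exact bot_le) (fun i => i.elim) (fun i => i.elim)).exists
      exact ⟨(e.app (op E)).hom x⟩
    · refine ⟨fun a b => ?_⟩
      obtain ⟨a, rfl⟩ := (hiso E).2 a
      obtain ⟨b, rfl⟩ := (hiso E).2 b
      exact congrArg _ (TopCat.Sheaf.eq_of_locally_eq' G (fun i : PEmpty.{u + 1} => (⊥ : X.Opens)) (E : X.Opens)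
        (fun i => i.elim) (by rw [hE]; exact bot_le) a b (fun i => i.elim))
    · intro U V W VW f g hfV hgW hfg hU hV hW h1 h2
      have hVW : (V : X.Opens) ⊓ (W : X.Opens) = VW := by rw [hfg, Scheme.basicOpen_mul, hfV, hgW]
      refine ⟨fun s s' hss => ?_, Set.ext fun p => ⟨?_, fun hp => ?_⟩⟩
      · obtain ⟨s, rfl⟩ := (hiso U).2 s
        obtain ⟨s', rfl⟩ := (hiso U).2 s'
        simp only [Prod.mk.injEq, hnat] at hss
        exact congrArg _ (TopCat.Sheaf.eq_of_locally_eq₂ G (homOfLE hV : (V : X.Opens) ⟶ U) (homOfLE hW : (W : X.Opens) ⟶ U)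
          hU.le s s' ((hiso V).1 hss.1) ((hiso W).1 hss.2))
      · rintro ⟨s, rfl⟩
        exact (ConcreteCategory.congr_hom (F.map_comp (homOfLE hV).op (homOfLE h1).op) s).symm.trans
          (ConcreteCategory.congr_hom (F.map_comp (homOfLE hW).op (homOfLE h2).op) s)
      · obtain ⟨p₁, p₂⟩ := p
        obtain ⟨a, rfl⟩ := (hiso V).2 p₁
        obtain ⟨b, rfl⟩ := (hiso W).2 p₂
        simp only [Set.mem_setOf_eq, hnat] at hp
        have hab := (hiso VW).1 hp
        let O : ULift.{u} Bool → X.Opens := fun i => bif i.down then (V : X.Opens) else (W : X.Opens)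
        let sf : ∀ i, G.1.obj (op (O i)) := fun i => match i with
          | ⟨true⟩ => a
          | ⟨false⟩ => b
        obtain ⟨s, hs, -⟩ := TopCat.Sheaf.existsUnique_gluing' G O (U : X.Opens)
          (fun i => match i with
            | ⟨true⟩ => homOfLE hV
            | ⟨false⟩ => homOfLE hW)
          (hU.le.trans (sup_le (le_iSup O ⟨true⟩) (le_iSup O ⟨false⟩))) sf (by
            have key : ∀ (q : (V : X.Opens) ⊓ (W : X.Opens) ≤ V) (q' : (V : X.Opens) ⊓ (W : X.Opens) ≤ W),
                G.1.map (homOfLE q).op a = G.1.map (homOfLE q').op b := by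
              intro q q'
              have := congrArg (fun z => G.1.map (homOfLE hVW.le).op z) hab
              simp only at this
              rw [← ConcreteCategory.comp_apply, ← ConcreteCategory.comp_apply, ← G.1.map_comp, ← G.1.map_comp] at this
              exact this
            rintro ⟨_ | _⟩ ⟨_ | _⟩
            · rfl
            · show G.1.map _ b = G.1.map _ a
              have := congrArg (fun z => G.1.map (homOfLE (inf_comm (W : X.Opens) V).le).op z)
                (key inf_le_left inf_le_right).symm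
              simp only at this
              rw [← ConcreteCategory.comp_apply, ← ConcreteCategory.comp_apply, ← G.1.map_comp, ← G.1.map_comp] at this
              exact this
            · exact key _ _
            · rfl)
        exact ⟨(e.app (op U)).hom s, Prod.ext ((hnat hV s).trans (congrArg _ (hs ⟨true⟩)))
          ((hnat hW s).trans (congrArg _ (hs ⟨false⟩)))⟩
  · rintro ⟨⟨hne, hsub⟩, hb⟩
    have mkVW : ∀ {U V W : X.affineOpens} (f g : Γ(X, (U : X.Opens))), (V : X.Opens) = X.basicOpen f →
        (W : X.Opens) = X.basicOpen g → ∃ VW : X.affineOpens, (VW : X.Opens) = X.basicOpen (f * g) ∧ VW ≤ V ∧ VW ≤ W := by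
      intro U V W f g hfV hgW
      refine ⟨⟨_, U.2.basicOpen (f * g)⟩, rfl, ?_, ?_⟩
      · show X.basicOpen (f * g) ≤ (V : X.Opens)
        rw [hfV, Scheme.basicOpen_mul]
        exact inf_le_left
      · show X.basicOpen (f * g) ≤ (W : X.Opens)
        rw [hgW, Scheme.basicOpen_mul]
        exact inf_le_right
    refine Groth.Agent.Approx.AffineSheaf.exists_sheaf (E := E) ⟨hE, hne, hsub, ?_, ?_⟩
    · intro U V W f g hfV hgW hU hV hW s s' h h'
      obtain ⟨VW, hfg, h1, h2⟩ := mkVW f g hfV hgW
      exact (hb U V W VW f g hfV hgW hfg hU hV hW h1 h2).1 (Prod.ext h h')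
    · intro U V W VW f g hfV hgW hfg hU hV hW h1 h2 a b hab
      obtain ⟨s, hs⟩ := ((hb U V W VW f g hfV hgW hfg hU hV hW h1 h2).2.ge hab :
        (a, b) ∈ Set.range fun s : F.obj (op U) => (F.map (homOfLE hV).op s, F.map (homOfLE hW).op s))
      exact ⟨s, congrArg Prod.fst hs, congrArg Prod.snd hs⟩

end Groth.Agent.S9513
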