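import Groth.Statements.S9514
import Groth.Agent.QCoh.Support

set_option autoImplicit false
universe u
open Coherent

namespace Groth.Agent.S9514

open CategoryTheory CategoryTheory.Limits AlgebraicGeometry in
/-- Let X be a locally Noetherian scheme and φ : F → G a morphism of O_X-modules with F and G coherent.
Then the kernel and the cokernel of φ, taken in the category of O_X-modules, are coherent. -/
theorem result (X : Scheme.{u}) [IsLocallyNoetherian X] {F G : X.Modules}
    (hF : Coh.IsCoh F) (hG : Coh.IsCoh G) (φ : F ⟶ G) :
    Coh.IsCoh (kernel φ) ∧ Coh.IsCoh (cokernel φ) := by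
  exact ⟨Groth.Agent.QCoh.isCoh_kernel hF hG φ, Groth.Agent.QCoh.isCoh_cokernel hF.1 hG φ⟩

end Groth.Agent.S9514
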