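import Groth.Statements.S9515
import Groth.Agent.QCoh.SubCompare
import Groth.Agent.QCoh.ExtendFT
import Groth.Agent.H9Misc.QCohHull
import Groth.Agent.Algz7.Restrict

set_option autoImplicit false
universe u
open CategoryTheory CategoryTheory.Limits AlgebraicGeometry
attribute [local instance] HasDerivedCategory.standard
open Coherent

namespace Groth.Agent.S9515

/-- Let X be a Noetherian scheme, F a quasi-coherent O_X-module, G a coherent O_X-module and I a
quasi-coherent sheaf of ideals, with U the open complement of the closed subset cut out by I. For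
every morphism φ : G|_U → F|_U there are an n ≥ 0 and a morphism ψ : I^n G → F whose restriction to
U is the restriction of the inclusion I^n G → G followed by φ. (Here I^n G ⊆ G is the submodule
sheaf Dual3.idealMul (I^n) G.) -/
theorem result (X : Scheme.{u}) [IsNoetherian X] (F G : X.Modules)
    (hF : Coh.IsQCoh F) (hG : Coh.IsCoh G) (I : X.IdealSheafData)
    (U : X.Opens) (hU : (U : Set X) = (I.support : Set X)ᶜ)
    (φ : (Scheme.Modules.restrictFunctor U.ι).obj G ⟶
      (Scheme.Modules.restrictFunctor U.ι).obj F) :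
    ∃ (n : ℕ) (ψ : (Dual3.idealMul (I ^ n)).obj G ⟶ F),
      (Scheme.Modules.restrictFunctor U.ι).map ψ =
        (Scheme.Modules.restrictFunctor U.ι).map (Dual3.idealMulι (I ^ n) G) ≫ φ := by
  classical
  haveI : IsLocallyNoetherian X := inferInstance
  let S₀ : ShortComplex X.Modules := ShortComplex.mk (biprod.inl : G ⟶ G ⊞ F) biprod.snd biprod.inl_snd
  have hS₀ : S₀.ShortExact := (ShortComplex.Splitting.ofHasBinaryBiproduct _ _).shortExact
  have hM : Coh.IsQCoh (G ⊞ F) := Groth.Agent.QCoh.isQCoh_X₂ hS₀ hG.1 hF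
  let R := Scheme.Modules.restrictFunctor U.ι
  let i : G.restrict U.ι ⟶ (G ⊞ F).restrict U.ι := R.map biprod.inl + φ ≫ R.map biprod.inr
  have hifst : i ≫ R.map biprod.fst = 𝟙 _ := by
    rw [Preadditive.add_comp, Category.assoc, ← R.map_comp, ← R.map_comp, biprod.inl_fst, biprod.inr_fst,
      R.map_id, R.map_zero, comp_zero, add_zero]
  have hisnd : i ≫ R.map biprod.snd = φ := by
    rw [Preadditive.add_comp, Category.assoc, ← R.map_comp, ← R.map_comp, biprod.inl_snd, biprod.inr_snd,
      R.map_id, R.map_zero, Category.comp_id, zero_add]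
  haveI : Mono i := mono_of_mono_fac hifst
  obtain ⟨G', i', e, hi', hG'q, hG'ft, he⟩ := Groth.Agent.QCoh.exists_extension' hM
    (Groth.Agent.QCoh.extStep_noetherian (fun x => ⟨⊤, trivial, inferInstance⟩) U) i
    (Groth.Agent.QCoh.isQCoh_restrict _ hG.1) (Groth.Agent.Algz7.isFT_restrict U.ι hG.1 hG.2)
  have hG' : Coh.IsCoh G' := ⟨hG'q, hG'ft⟩
  let p : G' ⟶ G := i' ≫ biprod.fst
  let q : G' ⟶ F := i' ≫ biprod.snd
  have hp : R.map p = e.hom := by
    rw [R.map_comp, ← he, Category.assoc, hifst]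
    exact Category.comp_id _
  have hq : R.map q = e.hom ≫ φ := by rw [R.map_comp, ← he, Category.assoc, hisnd]
  haveI : IsIso (R.map p) := by rw [hp]; infer_instance
  have hsupp : ∀ N : X.Modules, IsZero (R.obj N) → CohB1.support N ⊆ (I.support : Set X) := fun N hN x hx => by
    by_contra hxI
    have hxU : x ∈ U := hU.ge hxI
    exact hx (ModuleCat.subsingleton_of_isZero
      (Groth.Agent.H9Misc.QCohHull.isZero_stalk_of_restrict U.ι N hN ⟨x, hxU⟩))
  have hker : IsZero (R.obj (kernel p)) := by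
    have h : R.map (kernel.ι p) = 0 := zero_of_comp_mono (R.map p) (by
      rw [← R.map_comp, kernel.condition, R.map_zero])
    exact IsZero.of_mono_eq_zero _ h
  obtain ⟨m, hm⟩ := Groth.Agent.QCoh.exists_pow_mono hG' (Groth.Agent.QCoh.isCoh_kernel hG' hG p) (kernel.ι p) I
    (hsupp _ hker)
  let p' := Dual3.idealMulι (I ^ m) G' ≫ p
  haveI : Mono p' := Preadditive.mono_of_cancel_zero _ fun {P} z hz => by
    let w := kernel.lift p (z ≫ Dual3.idealMulι (I ^ m) G') (by rw [Category.assoc]; exact hz)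
    have hw : w ≫ kernel.ι p = z ≫ Dual3.idealMulι (I ^ m) G' := kernel.lift_ι _ _ _
    have hw0 : w = 0 := zero_of_comp_mono
      (kernel.ι p ≫ (Scheme.Modules.pullbackPushforwardAdjunction (I ^ m).subschemeι).unit.app G') (by
        rw [← Category.assoc, hw, Category.assoc]
        exact (congrArg (z ≫ ·) (kernel.condition _)).trans comp_zero)
    refine zero_of_comp_mono (Dual3.idealMulι (I ^ m) G') ?_
    rw [← hw, hw0, zero_comp]
  have hC : Coh.IsCoh (cokernel p) := Groth.Agent.QCoh.isCoh_cokernel hG'q hG p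
  have hcok : IsZero (R.obj (cokernel p)) := by
    have h : R.map (cokernel.π p) = 0 := by
      rw [← cancel_epi (R.map p), ← R.map_comp, cokernel.condition, R.map_zero, comp_zero]
    exact IsZero.of_epi_eq_zero _ h
  obtain ⟨a, ha⟩ := Groth.Agent.QCoh.exists_pow_kills hC I (hsupp _ hcok)
  have hIm : Coh.IsQCoh (Abelian.image p) :=
    Groth.Agent.QCoh.isQCoh_kernel hG.1 hC.1 (cokernel.π p)
  have hle : Subobject.mk (Dual3.idealMulι (I ^ (m + a)) G) ≤ Subobject.mk p' := by
    refine Groth.Agent.QCoh.subobject_le_of_cover (Groth.Agent.QCoh.isQCoh_idealMul _ hG.1)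
      (Groth.Agent.QCoh.isQCoh_idealMul _ hG'q) hG.1 _ _ (fun V : X.affineOpens => V.1) (fun V => V.2)
      (fun x => ?_) fun V => ?_
    · obtain ⟨V, hV, hxV⟩ := Groth.Agent.QCoh.exists_affine_mem x
      exact ⟨⟨V, hV⟩, hxV⟩
    · rw [Groth.Agent.QCoh.range_idealMul _ hG.1 V.2, Groth.Agent.QCoh.range_idealMul_comp _ hG'q p V.2,
        Scheme.IdealSheafData.ideal_pow, Pi.pow_apply, Scheme.IdealSheafData.ideal_pow, Pi.pow_apply,
        pow_add, ← smul_eq_mul, smul_assoc]
      refine Submodule.smul_mono le_rfl (Submodule.smul_le.2 fun r hr y _ => ?_)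
      have h0 : (cokernel.π p).app V.1 (r • y) = 0 := by
        rw [Scheme.Modules.Hom.app_smul]
        exact Module.mem_annihilator.1 (ha V hr) _
      obtain ⟨z, hz⟩ := Groth.Agent.QCoh.exists_kernel_lift (cokernel.π p) V.1 (r • y) h0
      obtain ⟨w, hw⟩ := Groth.Agent.QCoh.app_surjective_of_epi hG'q hIm (Abelian.factorThruImage p) V.2 z
      refine ⟨w, ?_⟩
      show p.app V.1 w = r • y
      refine (congr(($(Abelian.image.fac p)).app V.1 w) : _).symm.trans ?_
      show (Abelian.image.ι p).app V.1 ((Abelian.factorThruImage p).app V.1 w) = r • y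
      rw [hw]
      exact hz
  let l := Subobject.ofMkLEMk _ _ hle
  have hl : l ≫ p' = Dual3.idealMulι (I ^ (m + a)) G := Subobject.ofMkLEMk_comp hle
  refine ⟨m + a, l ≫ Dual3.idealMulι (I ^ m) G' ≫ q, ?_⟩
  rw [← hl, R.map_comp l, R.map_comp (Dual3.idealMulι (I ^ m) G') q, hq, R.map_comp l, R.map_comp (Dual3.idealMulι (I ^ m) G') p, hp, Category.assoc, Category.assoc]

end Groth.Agent.S9515
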