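import Groth.Statements.S9516
import Groth.Agent.QCoh.SubCompare
import Groth.Agent.QCoh.DevissageTheta

set_option autoImplicit false
universe u
open CategoryTheory CategoryTheory.Limits AlgebraicGeometry
attribute [local instance] HasDerivedCategory.standard
open Coherent

namespace Groth.Agent.S9516

/-- Let X be a Noetherian scheme, F a quasi-coherent O_X-module, G a coherent O_X-module and I a
quasi-coherent sheaf of ideals, with U the open complement of the closed subset cut out by I. If a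
morphism ψ : I^n G → F restricts to zero on U, then ψ vanishes on I^N G for some N: there is a
morphism ι : I^N G → I^n G commuting with the inclusions into G and with ι ≫ ψ = 0. (Together with
the surjectivity statement this says that colim_n Hom(I^n G, F) → Hom(G|_U, F|_U) is bijective.) -/
theorem result (X : Scheme.{u}) [IsNoetherian X] (F G : X.Modules)
    (hF : Coh.IsQCoh F) (hG : Coh.IsCoh G) (I : X.IdealSheafData)
    (U : X.Opens) (hU : (U : Set X) = (I.support : Set X)ᶜ) (n : ℕ)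
    (ψ : (Dual3.idealMul (I ^ n)).obj G ⟶ F)
    (hψ : (Scheme.Modules.restrictFunctor U.ι).map ψ = 0) :
    ∃ (N : ℕ) (ι : (Dual3.idealMul (I ^ N)).obj G ⟶ (Dual3.idealMul (I ^ n)).obj G),
      ι ≫ Dual3.idealMulι (I ^ n) G = Dual3.idealMulι (I ^ N) G ∧ ι ≫ ψ = 0 := by
  let A := (Dual3.idealMul (I ^ n)).obj G
  have hAq : Coh.IsQCoh A := Groth.Agent.QCoh.isQCoh_idealMul _ hG.1
  have hA : Coh.IsCoh A := Groth.Agent.QCoh.isCoh_of_mono (Dual3.idealMulι (I ^ n) G) hG hAq
  let Q := Abelian.coimage ψ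
  have hK : Coh.IsCoh (kernel ψ) := Groth.Agent.QCoh.isCoh_of_mono (kernel.ι ψ) hA
    (Groth.Agent.QCoh.isQCoh_kernel hAq hF ψ)
  have hQ : Coh.IsCoh Q := Groth.Agent.QCoh.isCoh_cokernel hK.1 hA _
  have hψU : ∀ (V : X.Opens), V ≤ U → ∀ x : Γ(A, V), ψ.app V x = 0 := fun V hV x => by
    have he : U.ι ''ᵁ (U.ι ⁻¹ᵁ V) = V := by
      rw [U.ι.image_preimage_eq_opensRange_inf, Scheme.Opens.opensRange_ι, inf_eq_right.2 hV]
    have h : ∀ W : X.Opens, U.ι ''ᵁ (U.ι ⁻¹ᵁ V) = W → ∀ y : Γ(A, W), ψ.app W y = 0 := by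
      rintro _ rfl y
      exact congr(($hψ).app (U.ι ⁻¹ᵁ V) y)
    exact h V he x
  have hs : CohB1.support Q ⊆ (I.support : Set X) := fun x hx => by
    by_contra hxI
    have hxU : x ∈ U := hU.ge hxI
    obtain ⟨_, ⟨V, hV, rfl⟩, hxV, hVU⟩ := X.isBasis_affineOpens.exists_subset_of_mem_open hxU U.2
    refine (Groth.Agent.QCoh.notMem_support_iff hQ.1 hV hxV).2 (fun z => ⟨1, ?_, ?_⟩) hx
    · rw [Scheme.basicOpen_of_isUnit _ isUnit_one]; exact hxV
    obtain ⟨z, rfl⟩ := Groth.Agent.QCoh.app_surjective_of_epi hAq hQ.1 (Abelian.coimage.π ψ) hV z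
    refine (one_smul _ _).trans (Groth.Agent.QCoh.app_injective (Abelian.factorThruCoimage ψ) V ?_)
    rw [map_zero]
    exact (congr(($(Abelian.coimage.fac ψ)).app V z) : _).trans (hψU V hVU z)
  obtain ⟨m, hm⟩ := Groth.Agent.QCoh.exists_pow_kills hQ I hs
  obtain ⟨J, hJ⟩ : ∃ J, J = I ^ m := ⟨_, rfl⟩
  have hid : ∀ V, J.ideal V = I.ideal V ^ m := fun V => by
    rw [hJ, Scheme.IdealSheafData.ideal_pow, Pi.pow_apply]
  let a := Dual3.idealMulι J A ≫ Dual3.idealMulι (I ^ n) G
  let b := Dual3.idealMulι (I ^ (n + m)) G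
  have ha : Coh.IsQCoh ((Dual3.idealMul J).obj A) := Groth.Agent.QCoh.isQCoh_idealMul _ hAq
  have hb : Coh.IsQCoh ((Dual3.idealMul (I ^ (n + m))).obj G) := Groth.Agent.QCoh.isQCoh_idealMul _ hG.1
  have heq : Subobject.mk a = Subobject.mk b := by
    refine Groth.Agent.QCoh.subobject_eq_of_cover ha hb hG.1 a b (fun V : X.affineOpens => V.1) (fun V => V.2)
      (fun x => ?_) fun V => ?_
    · obtain ⟨V, hV, hxV⟩ := Groth.Agent.QCoh.exists_affine_mem x
      exact ⟨⟨V, hV⟩, hxV⟩
    · rw [Groth.Agent.QCoh.range_idealMul_comp J hAq _ V.2, Groth.Agent.QCoh.range_idealMul _ hG.1 V.2,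
        Groth.Agent.QCoh.range_idealMul _ hG.1 V.2, hid, Scheme.IdealSheafData.ideal_pow, Pi.pow_apply,
        Scheme.IdealSheafData.ideal_pow, Pi.pow_apply, ← smul_assoc, smul_eq_mul, ← pow_add, add_comm]
  let e := Subobject.isoOfMkEqMk b a heq.symm
  refine ⟨n + m, e.hom ≫ Dual3.idealMulι J A, ?_, ?_⟩
  · rw [Category.assoc]
    exact Subobject.ofMkLEMk_comp heq.symm.le
  · rw [Category.assoc]
    have h0 : Dual3.idealMulι J A ≫ Abelian.coimage.π ψ = 0 := Groth.Agent.QCoh.hom_eq_zero_of_affine _ fun V hV x => by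
      have hx := (Groth.Agent.QCoh.range_idealMul J hAq hV).le
        (LinearMap.mem_range_self (Groth.Agent.QCoh.appLin (Dual3.idealMulι J A) V) x)
      refine Submodule.smul_induction_on (p := fun z => (Abelian.coimage.π ψ).app V z = 0) hx
        (fun r hr z _ => ?_) fun z z' hz hz' => by rw [map_add, hz, hz', add_zero]
      rw [Scheme.Modules.Hom.app_smul]
      rw [hid] at hr
      exact Module.mem_annihilator.1 (hm ⟨V, hV⟩ hr) _
    rw [← Abelian.coimage.fac ψ, ← Category.assoc (Dual3.idealMulι J A), h0, Limits.zero_comp, Limits.comp_zero]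

end Groth.Agent.S9516
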