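import Groth.Statements.S9517
import Groth.Agent.QCoh.SubCompare

set_option autoImplicit false
universe u
open CategoryTheory CategoryTheory.Limits AlgebraicGeometry
attribute [local instance] HasDerivedCategory.standard
open Coherent

namespace Groth.Agent.S9517

/-- Let X be a Noetherian scheme, F a coherent O_X-module, G ⊆ F a quasi-coherent submodule (given by a
monomorphism ι : G → F) and I a quasi-coherent sheaf of ideals. Then there is c ≥ 0 such that for
every n ≥ c the two subobjects I^(n-c)·(I^c F ∩ G) and I^n F ∩ G of F are equal. (Products J·M are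
the submodule sheaves Dual3.idealMul J M; intersections are taken in the lattice of subobjects of
F.) -/
theorem result (X : Scheme.{u}) [IsNoetherian X] (F G : X.Modules) (hF : Coh.IsCoh F)
    (hG : Coh.IsQCoh G) (ι : G ⟶ F) [Mono ι] (I : X.IdealSheafData) :
    ∃ c : ℕ, ∀ n : ℕ, c ≤ n →
      Subobject.mk (Dual3.idealMulι (I ^ (n - c))
          (Subobject.underlying.obj (Subobject.mk (Dual3.idealMulι (I ^ c) F) ⊓ Subobject.mk ι)) ≫
        (Subobject.mk (Dual3.idealMulι (I ^ c) F) ⊓ Subobject.mk ι).arrow) =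
      Subobject.mk (Dual3.idealMulι (I ^ n) F) ⊓ Subobject.mk ι := by
  classical
  choose U hU hxU using fun x : X => Groth.Agent.QCoh.exists_affine_mem x
  obtain ⟨t, ht⟩ := isCompact_univ.elim_finite_subcover (fun x : X => (U x : Set X))
    (fun x => (U x).2) (fun x _ => Set.mem_iUnion.2 ⟨x, hxU x⟩)
  choose c hc using fun x => (haveI := Groth.Agent.QCoh.noetherian_sections (X := X) ⟨U x, hU x⟩;
    haveI := Groth.Agent.QCoh.finite_sections hF (hU x);
    Ideal.exists_pow_inf_eq_pow_smul (I.ideal ⟨U x, hU x⟩)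
      (LinearMap.range (Groth.Agent.QCoh.appLin ι (U x))))
  refine ⟨t.sup c, fun n hn => ?_⟩
  set c₀ := t.sup c
  set s := Subobject.mk (Dual3.idealMulι (I ^ c₀) F) ⊓ Subobject.mk ι with hs
  have hI : ∀ k, Coh.IsQCoh ((Dual3.idealMul (I ^ k)).obj F) := fun k =>
    Groth.Agent.QCoh.isQCoh_idealMul _ hF.1
  have hN := Groth.Agent.QCoh.isQCoh_inter (hI c₀) hG hF.1 (Dual3.idealMulι (I ^ c₀) F) ι
  have hNn := Groth.Agent.QCoh.isQCoh_inter (hI n) hG hF.1 (Dual3.idealMulι (I ^ n) F) ι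
  have hmk := Groth.Agent.QCoh.mk_interι (Dual3.idealMulι (I ^ c₀) F) ι
  let e : (Subobject.underlying.obj s) ≅ _ := Subobject.isoOfEqMk s _ hmk.symm
  have hsq : Coh.IsQCoh (Subobject.underlying.obj s) := (Groth.Agent.QCoh.isQCoh_iff_iso e.symm).1 hN
  have harr : s.arrow = e.hom ≫ Groth.Agent.QCoh.interι (Dual3.idealMulι (I ^ c₀) F) ι :=
    (Subobject.ofLEMk_comp hmk.symm.le).symm
  rw [← Groth.Agent.QCoh.mk_interι (Dual3.idealMulι (I ^ n) F) ι]
  refine Groth.Agent.QCoh.subobject_eq_of_cover (Groth.Agent.QCoh.isQCoh_idealMul _ hsq) hNn hF.1 _ _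
    (fun x : t => U x.1) (fun x => hU x.1) (fun p => ?_) fun x => ?_
  · obtain ⟨x, hx, hp⟩ := Set.mem_iUnion₂.1 (ht (Set.mem_univ p))
    exact ⟨⟨x, hx⟩, hp⟩
  have hrs : LinearMap.range (Groth.Agent.QCoh.appLin s.arrow (U x.1)) =
      LinearMap.range (Groth.Agent.QCoh.appLin (Groth.Agent.QCoh.interι (Dual3.idealMulι (I ^ c₀) F) ι) (U x.1)) := by
    rw [harr, Groth.Agent.QCoh.appLin_comp, LinearMap.range_comp]
    have : LinearMap.range (Groth.Agent.QCoh.appLin e.hom (U x.1)) = ⊤ :=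
      LinearMap.range_eq_top.2 fun y => ⟨e.inv.app (U x.1) y, congr(($(e.inv_hom_id)).app (U x.1) y)⟩
    rw [this, Submodule.map_top]
  rw [Groth.Agent.QCoh.range_idealMul_comp _ hsq _ (hU x.1), hrs, Groth.Agent.QCoh.range_interι,
    Groth.Agent.QCoh.range_interι, Groth.Agent.QCoh.range_idealMul _ hF.1 (hU x.1),
    Groth.Agent.QCoh.range_idealMul _ hF.1 (hU x.1), Scheme.IdealSheafData.ideal_pow, Pi.pow_apply,
    Scheme.IdealSheafData.ideal_pow, Pi.pow_apply, Scheme.IdealSheafData.ideal_pow, Pi.pow_apply]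
  have hcx : c x.1 ≤ c₀ := Finset.le_sup x.2
  rw [hc x.1 n (hcx.trans hn), hc x.1 c₀ hcx, ← smul_assoc, smul_eq_mul, ← pow_add,
    show n - c₀ + (c₀ - c x.1) = n - c x.1 by omega]

end Groth.Agent.S9517
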