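import Groth.Statements.S9519
import Groth.Agent.H23.CechBC
-- import your own Groth.Agent.* helpers here

set_option autoImplicit false
universe u
open CategoryTheory CategoryTheory.Limits AlgebraicGeometry
attribute [local instance] HasDerivedCategory.standard
open CechOX
open Groth.Agent Groth.Agent.H23

namespace Groth.Agent.S9519

/-- Let f : X → S be a morphism of schemes with X quasi-compact and X and S with affine diagonal, F a
quasi-coherent O_X-module, 𝒰 a finite covering of X by affine opens and g : S' → S a morphism; write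
X' = X ×_S S' with projections g' : X' → X and f' : X' → S', F' = g'^* F and 𝒰' for the covering of
X' by the preimages (g')⁻¹(𝒰 i). Then g^* Č(𝒰, f, F) (termwise pullback) is isomorphic as a complex
of O_S'-modules to the relative Čech complex Č(𝒰', f', F'), and its image in the derived category of
O_S'-modules is isomorphic to Rf'_* F'. (The published statement calls the first identification an
equality and states it for g affine, in which case the opens of 𝒰' are affine; this row asserts the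
existence of the isomorphisms for any g, with Rf'_* the unbounded derived functor under its
existence binder.) -/
theorem result {X S S' : Scheme.{u}} (f : X ⟶ S) [CompactSpace X]
    [IsAffineHom (pullback.diagonal (terminal.from X))] [IsAffineHom (pullback.diagonal (terminal.from S))]
    (F : X.Modules) (hF : Coh.IsQCoh F) {ι : Type u} [Finite ι] (𝒰 : ι → X.Opens)
    (h𝒰 : ∀ i, IsAffineOpen (𝒰 i)) (hcov : ⨆ i, 𝒰 i = ⊤) (g : S' ⟶ S)
    [(Scheme.Modules.pullback g).Additive] [DCoh.HasRpush (pullback.snd f g)] :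
    Nonempty (((Scheme.Modules.pullback g).mapHomologicalComplex (ComplexShape.up ℕ)).obj
        ((CechOX.relCech 𝒰 f).obj F) ≅
      (CechOX.relCech (fun i => (pullback.fst f g) ⁻¹ᵁ (𝒰 i)) (pullback.snd f g)).obj
        ((Scheme.Modules.pullback (pullback.fst f g)).obj F)) ∧
    Nonempty (DCoh.toD S' ((((Scheme.Modules.pullback g).mapHomologicalComplex (ComplexShape.up ℕ)).obj
        ((CechOX.relCech 𝒰 f).obj F)).extend ComplexShape.embeddingUpNat) ≅
      (DCoh.Rpush (pullback.snd f g)).obj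
        (DCoh.inD _ ((Scheme.Modules.pullback (pullback.fst f g)).obj F))) := by
  classical
  set g' := pullback.fst f g
  have h := IsPullback.of_hasPullback f g
  have haffW : ∀ (p : ℕ) (σ : Fin (p + 1) → ι), IsAffineHom ((∏ᶜ (𝒰 ∘ σ) : X.Opens).ι ≫ f) := fun p σ => by
    haveI : IsAffine (∏ᶜ (𝒰 ∘ σ) : X.Opens).toScheme := CechRpush.isAffineOpen_pi 𝒰 h𝒰 σ
    exact CechRpush.isAffineHom_of_isAffine _
  have hιW : ∀ (p : ℕ) (σ : Fin (p + 1) → ι), IsAffineHom (∏ᶜ (𝒰 ∘ σ) : X.Opens).ι := fun p σ =>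
    CechRpush.isAffineHom_ι (CechRpush.isAffineOpen_pi 𝒰 h𝒰 σ)
  obtain ⟨e⟩ := CechBC.nonempty_bc_iso 𝒰 F h hF haffW
  refine ⟨⟨e⟩, ?_⟩
  have hcov' : ⨆ i, g' ⁻¹ᵁ 𝒰 i = ⊤ := by rw [← Scheme.Hom.preimage_iSup, hcov]; rfl
  have hsq : ∀ (p : ℕ) (σ : Fin (p + 1) → ι), IsPullback (g' ∣_ (∏ᶜ (𝒰 ∘ σ) : X.Opens))
      (g' ⁻¹ᵁ (∏ᶜ (𝒰 ∘ σ) : X.Opens)).ι (∏ᶜ (𝒰 ∘ σ) : X.Opens).ι g' := fun p σ =>
    isPullback_morphismRestrict g' _
  have key : ∀ (W : (pullback f g).Opens), (IsAffineHom W.ι ∧ IsAffineHom (W.ι ≫ pullback.snd f g)) →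
      ∀ W', W' = W → IsAffineHom W'.ι ∧ IsAffineHom (W'.ι ≫ pullback.snd f g) := by
    rintro W hW W' rfl; exact hW
  have hboth : ∀ (p : ℕ) (σ : Fin (p + 1) → ι),
      IsAffineHom (∏ᶜ ((fun i => g' ⁻¹ᵁ 𝒰 i) ∘ σ) : (pullback f g).Opens).ι ∧
        IsAffineHom ((∏ᶜ ((fun i => g' ⁻¹ᵁ 𝒰 i) ∘ σ) : (pullback f g).Opens).ι ≫ pullback.snd f g) :=
    fun p σ => key _ ⟨MorphismProperty.of_isPullback (hsq p σ) (hιW p σ),
      MorphismProperty.of_isPullback ((hsq p σ).paste_vert h) (haffW p σ)⟩ _ (CechBC.prod_preimage g' 𝒰 p σ)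
  haveI : HasInjectiveResolutions (pullback f g).Modules := inferInstance
  obtain ⟨e'⟩ := CechBC.nonempty_toD_iso (pullback.snd f g) (fun i => g' ⁻¹ᵁ 𝒰 i)
    ((Scheme.Modules.pullback g').obj F) (QCoh.isQCoh_pullback _ hF) hcov'
    (fun p σ => (hboth p σ).1) (fun p σ => (hboth p σ).2)
  exact ⟨DerivedCategory.Q.mapIso ((ComplexShape.embeddingUpNat.extendFunctor S'.Modules).mapIso e) ≪≫ e'⟩

end Groth.Agent.S9519
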