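import Groth.Statements.S9522
import Groth.Agent.QCoh.DevissageTheta

set_option autoImplicit false
universe u
open CategoryTheory CategoryTheory.Limits AlgebraicGeometry
attribute [local instance] HasDerivedCategory.standard
open Coherent

namespace Groth.Agent.S9522

/-- Let X be a Noetherian scheme, Z₀ ⊆ X an irreducible closed subset with generic point ξ, and P an
isomorphism-invariant property of O_X-modules that holds for every zero module and such that (1) for
every short exact sequence 0 → F₁ → F → F₂ → 0 of coherent modules, P(F₁) and P(F₂) imply P(F); (2)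
for coherent F, P(F^⊕r) for some r ≥ 1 implies P(F); (3) P holds for i_*I for every closed immersion
i : Z → X with Z integral, i(Z) a proper subset of Z₀, and every quasi-coherent ideal sheaf I ⊆ O_Z;
(4) there is a coherent module G with support equal to Z₀, whose stalk at ξ is annihilated by the
maximal ideal of O_{X,ξ}, and such that for every quasi-coherent sheaf of ideals J on X with ξ ∉
V(J) there is a quasi-coherent submodule G' ⊆ J·G whose inclusion into G induces an isomorphism on
stalks at ξ and for which P holds. Then P holds for every coherent O_X-module whose support is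
contained in Z₀. (The published statement does not ask that P hold for the zero module, although its
proof uses this for a filtration with no steps; without it the conclusion fails for the zero module
when Z₀ is a closed point: on the spectrum of a field, with P(F) meaning that F is nonzero, every
other hypothesis holds. This row assumes that P holds for every zero module.) -/
theorem result (X : Scheme.{u}) [IsNoetherian X]
    (Z₀ : Set X) (hZ₀ : IsClosed Z₀) (hirr : IsIrreducible Z₀) (ξ : X) (hξ : ξ ∈ Z₀ ∧ closure {ξ} = Z₀)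
    (P : X.Modules → Prop) (hP : ∀ M N : X.Modules, Nonempty (M ≅ N) → P M → P N)
    (h₀ : ∀ M : X.Modules, IsZero M → P M)
    (h₁ : ∀ S : ShortComplex X.Modules, S.ShortExact → Coh.IsCoh S.X₁ → Coh.IsCoh S.X₂ → Coh.IsCoh S.X₃ →
      P S.X₁ → P S.X₃ → P S.X₂)
    (h₂ : ∀ (F : X.Modules) (r : ℕ), Coh.IsCoh F → 1 ≤ r → P (∐ fun _ : Fin r => F) → P F)
    (h₃ : ∀ (Z : Scheme.{u}) (i : Z ⟶ X), IsClosedImmersion i → IsIntegral Z →
      Set.range ⇑i ⊆ Z₀ → Set.range ⇑i ≠ Z₀ →
      ∀ (I : Z.Modules) (ι : I ⟶ Coh.structureModule Z), Mono ι → Coh.IsQCoh I → P ((Coh.push i).obj I))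
    (h₄ : ∃ G : X.Modules, Coh.IsCoh G ∧ CohB1.support G = Z₀ ∧
      (∀ a ∈ IsLocalRing.maximalIdeal (X.presheaf.stalk ξ), ∀ m : ↑(G.presheaf.stalk ξ), a • m = 0) ∧
      ∀ J : X.IdealSheafData, ξ ∉ (J.support : Set X) →
        ∃ (G' : X.Modules) (ι' : G' ⟶ (Dual3.idealMul J).obj G), Mono ι' ∧ Coh.IsQCoh G' ∧
          IsIso ((TopCat.Presheaf.stalkFunctor _ ξ).map (ι' ≫ Dual3.idealMulι J G).mapPresheaf) ∧ P G')
    (F : X.Modules) (hF : Coh.IsCoh F) (hsupp : CohB1.support F ⊆ Z₀) : P F := by
  haveI := Groth.Agent.QCoh.hasFiniteBiproducts X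
  obtain ⟨G, hG, hGs, hann, h₄⟩ := h₄
  refine Groth.Agent.QCoh.devissage_ideals P hP h₀ Z₀ h₁ (fun y hy hsmall Z i _ _ hr I ι hι hI hI0 => ?_) hF hsupp
  by_cases hyξ : closure {y} = Z₀
  swap
  · exact h₃ Z i inferInstance inferInstance (hr.le.trans hy) (fun h => hyξ (hr.symm.trans h)) I ι hι hI
  obtain rfl : i (genericPoint Z) = ξ :=
    (inseparable_iff_closure_eq.2 ((Groth.Agent.QCoh.range_eq_closure i).symm.trans (hr.trans (hyξ.trans hξ.2.symm)))).eq
  obtain rfl : y = i (genericPoint Z) :=
    (inseparable_iff_closure_eq.2 (hyξ.trans hξ.2.symm)).eq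
  haveI := hι
  haveI : IsNoetherian Z :=
    { __ := LocallyOfFiniteType.isLocallyNoetherian i
      __ := QuasiCompact.compactSpace_of_compactSpace i }
  have hIc : Coh.IsCoh I := Groth.Agent.QCoh.isCoh_of_mono ι Groth.Agent.QCoh.isCoh_structureModule' hI
  obtain ⟨r, hr0, J, u, hJ, hu, hmain⟩ := Groth.Agent.QCoh.exists_ideal_mul hG i
    (hGs.ge hξ.1) hann ι hIc hI0
  obtain ⟨G', ι', hι', hG', hiso, hPG'⟩ := h₄ J hJ
  haveI := hι'
  obtain ⟨t, ht, hc⟩ := hmain G' (ι' ≫ Dual3.idealMulι J G) (mono_comp _ _) hG' (by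
      rw [hu, Category.assoc]
      exact (congrArg (ι' ≫ ·) (Limits.kernel.condition _)).trans Limits.comp_zero)
    ((ConcreteCategory.isIso_iff_bijective _).1 hiso).2
  haveI := ht
  have hS := Groth.Agent.QCoh.isCoh_biproduct (fun _ : ULift.{u} (Fin r) => (Coh.push i).obj I)
    fun _ => Groth.Agent.QCoh.isCoh_push i hIc
  have hG'c : Coh.IsCoh G' := Groth.Agent.QCoh.isCoh_of_mono t hS hG'
  have hC := Groth.Agent.QCoh.isCoh_cokernel hG' hS t
  have hSs : CohB1.support (⨁ fun _ : ULift.{u} (Fin r) => (Coh.push i).obj I) ⊆ closure {i (genericPoint Z)} := by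
    intro x hx
    by_contra hx'
    obtain ⟨W, hW, hxW⟩ := Groth.Agent.QCoh.exists_affine_mem x
    refine ((Groth.Agent.QCoh.notMem_support_iff hS.1 hW hxW).2 fun m => ?_) hx
    have hAx := (Groth.Agent.QCoh.notMem_support_iff (Groth.Agent.QCoh.isCoh_push i hIc).1 hW hxW).1
      (fun h => hx' (hr.le (Groth.Agent.QCoh.support_push_subset i hI h)))
    choose f hf hf0 using fun k => hAx ((Limits.biproduct.π (fun _ : ULift.{u} (Fin r) => (Coh.push i).obj I) k).app W m)
    refine ⟨∏ k, f k, ?_, ?_⟩
    · rw [X.mem_basicOpen _ x hxW, map_prod]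
      exact IsUnit.prod_univ_iff.2 fun k => (X.mem_basicOpen (f k) x hxW).1 (hf k)
    · rw [Groth.Agent.QCoh.biproduct_app_decomp _ W m, Finset.smul_sum]
      refine Finset.sum_eq_zero fun k _ => ?_
      classical
      rw [← Scheme.Modules.Hom.app_smul, ← Finset.mul_prod_erase _ f (Finset.mem_univ k), mul_comm,
        mul_smul, hf0 k, smul_zero, map_zero]
  have hsum : P (⨁ fun _ : ULift.{u} (Fin r) => (Coh.push i).obj I) :=
    h₁ (ShortComplex.mk t (Limits.cokernel.π t) (Limits.cokernel.condition t))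
      (.mk' (ShortComplex.exact_of_g_is_cokernel _ (Limits.cokernelIsCokernel t)) ht inferInstance)
      hG'c hS hC hPG' (hsmall _ hC ((Groth.Agent.QCoh.support_of_epi hS.1 hC.1 (Limits.cokernel.π t)).trans hSs) hc)
  exact h₂ _ r (Groth.Agent.QCoh.isCoh_push i hIc) hr0
    (hP _ _ ⟨(Limits.biproduct.whiskerEquiv Equiv.ulift.{u} fun _ => Iso.refl _) ≪≫
      Limits.biproduct.isoCoproduct _⟩ hsum)

end Groth.Agent.S9522
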