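import Groth.Statements.S9523
import Groth.Agent.QCoh.SubCompare
import Groth.Agent.ModPairLib.Basic

set_option autoImplicit false
universe u
open CategoryTheory CategoryTheory.Limits AlgebraicGeometry
attribute [local instance] HasDerivedCategory.standard
open Coherent

namespace Groth.Agent.S9523

/-- Let f : Y → X be an affine morphism of schemes, F a quasi-coherent O_Y-module and I a quasi-coherent
sheaf of ideals on X. Then I·f_*F = f_*((f⁻¹I O_Y)·F) as submodules of f_*F: there is an isomorphism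
I·f_*F ≅ f_*((f⁻¹I O_Y)·F) whose composite with f_* of the inclusion (f⁻¹I O_Y)·F → F is the
inclusion I·f_*F → f_*F. (J·M denotes the submodule sheaf Dual3.idealMul J M; f⁻¹I O_Y is the
pulled-back ideal sheaf I.comap f.) -/
theorem result {Y X : Scheme.{u}} (f : Y ⟶ X) [IsAffineHom f]
    (F : Y.Modules) (hF : Coh.IsQCoh F) (I : X.IdealSheafData) :
    ∃ e : (Dual3.idealMul I).obj ((Scheme.Modules.pushforward f).obj F) ≅
        (Scheme.Modules.pushforward f).obj ((Dual3.idealMul (I.comap f)).obj F),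
      e.hom ≫ (Scheme.Modules.pushforward f).map (Dual3.idealMulι (I.comap f) F) =
        Dual3.idealMulι I ((Scheme.Modules.pushforward f).obj F) := by
  classical
  let P := Scheme.Modules.pushforward f
  let A := (Dual3.idealMul I).obj (P.obj F)
  let B := P.obj ((Dual3.idealMul (I.comap f)).obj F)
  let a : A ⟶ P.obj F := Dual3.idealMulι I (P.obj F)
  let b : B ⟶ P.obj F := P.map (Dual3.idealMulι (I.comap f) F)
  haveI : P.IsRightAdjoint := (Scheme.Modules.pullbackPushforwardAdjunction f).isRightAdjoint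
  haveI : Mono b := inferInstanceAs (Mono (P.map _))
  have hPF : Coh.IsQCoh (P.obj F) := Groth.Agent.QCoh.isQCoh_pushforward f hF
  have hJ : Coh.IsQCoh ((Dual3.idealMul (I.comap f)).obj F) := Groth.Agent.QCoh.isQCoh_idealMul _ hF
  have key : ∀ V : X.affineOpens,
      LinearMap.range (Groth.Agent.QCoh.appLin a V.1) = LinearMap.range (Groth.Agent.QCoh.appLin b V.1) := by
    intro V
    have hW : IsAffineOpen (f ⁻¹ᵁ V.1) := V.2.preimage f
    refine (Groth.Agent.QCoh.range_idealMul I hPF V.2).trans ?_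
    have hI : (I.comap f).ideal ⟨f ⁻¹ᵁ V.1, hW⟩ = (I.ideal V).map (f.app V.1).hom := by
      rw [ModPairLib.ideal_comap I f V ⟨f ⁻¹ᵁ V.1, hW⟩ le_rfl, Scheme.Hom.app_eq_appLE]
    have hb : ∀ z : Γ(F, f ⁻¹ᵁ V.1), (z : Γ(P.obj F, V.1)) ∈ LinearMap.range (Groth.Agent.QCoh.appLin b V.1) ↔
        z ∈ (I.comap f).ideal ⟨f ⁻¹ᵁ V.1, hW⟩ • (⊤ : Submodule Γ(Y, f ⁻¹ᵁ V.1) Γ(F, f ⁻¹ᵁ V.1)) := fun z => by
      rw [← Groth.Agent.QCoh.range_idealMul (I.comap f) hF hW]
      exact Iff.rfl
    refine le_antisymm (Submodule.smul_le.2 fun r hr z _ => (hb _).2 ?_) fun z hz => ?_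
    · exact Submodule.smul_mem_smul (M := Γ(F, f ⁻¹ᵁ V.1)) (r := (f.app V.1).hom r)
        (hI ▸ Ideal.mem_map_of_mem _ hr) (Submodule.mem_top (x := (show Γ(F, f ⁻¹ᵁ V.1) from z)))
    · have hz' := (hb z).1 hz
      rw [hI, Ideal.map] at hz'
      let S : AddSubmonoid Γ(F, f ⁻¹ᵁ V.1) :=
        (I.ideal V • (⊤ : Submodule Γ(X, V.1) Γ(P.obj F, V.1))).toAddSubmonoid
      refine Submodule.smul_induction_on (p := fun w => w ∈ S) hz' (fun r hr => ?_) fun _ _ h h' => S.add_mem h h'
      induction hr using Submodule.span_induction with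
      | mem r hr =>
        obtain ⟨t, ht, rfl⟩ := hr
        intro n _
        exact Submodule.smul_mem_smul (M := Γ(P.obj F, V.1)) (r := t) ht (Submodule.mem_top (x := (show Γ(P.obj F, V.1) from n)))
      | zero => exact fun n _ => by rw [zero_smul]; exact S.zero_mem
      | add r r' _ _ h h' => exact fun n hn => by rw [add_smul]; exact S.add_mem (h n hn) (h' n hn)
      | smul c r _ h =>
        intro n _
        rw [smul_eq_mul, mul_comm, mul_smul]
        exact h _ Submodule.mem_top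
  have heq := Groth.Agent.QCoh.subobject_eq_of_cover (Groth.Agent.QCoh.isQCoh_idealMul _ hPF)
    (Groth.Agent.QCoh.isQCoh_pushforward f hJ) hPF a b (fun V : X.affineOpens => V.1) (fun V => V.2)
    (fun x => by
      obtain ⟨V, hV, hxV⟩ := Groth.Agent.QCoh.exists_affine_mem x
      exact ⟨⟨V, hV⟩, hxV⟩) key
  exact ⟨Subobject.isoOfMkEqMk _ _ heq, Subobject.ofMkLEMk_comp _⟩

end Groth.Agent.S9523
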