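import Groth.Statements.S9525
import Groth.Agent.SheafHomX.Proper
import Groth.Agent.QCoh.DevissageSum
import Groth.Agent.QCoh.Stalk
import Groth.Agent.KFlatLib.Scheme.ExtZero

set_option autoImplicit false
universe u
open Coherent

namespace Groth.Agent.S9525
open CategoryTheory CategoryTheory.Limits AlgebraicGeometry Opposite TopologicalSpace
open Groth.Agent

theorem mem_basicOpen_pow {X : Scheme.{u}} {V : X.Opens} {a : Γ(X, V)} {x : X} (h : x ∈ X.basicOpen a) (hx : x ∈ V) (n : ℕ) :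
    x ∈ X.basicOpen (a ^ n) := by
  rw [X.mem_basicOpen a x hx] at h
  rw [X.mem_basicOpen (a ^ n) x hx, map_pow]
  exact h.pow n

theorem exists_smul_eq_zero {X : Scheme.{u}} {M : X.Modules} (hM : Coh.IsQCoh M) {V : X.Opens}
    (hV : IsAffineOpen V) {x : X} (hx : x ∈ V) (t : Γ(M, V)) (h : M.presheaf.germ V x hx t = 0) :
    ∃ a : Γ(X, V), x ∈ X.basicOpen a ∧ a • t = 0 := by
  obtain ⟨W, hxW, i, j, e⟩ := M.presheaf.germ_eq x hx hx t 0 (h.trans (map_zero _).symm)
  obtain ⟨a, ha, hxa⟩ := hV.exists_basicOpen_le (V := W) ⟨x, hxW⟩ hx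
  obtain ⟨n, hn⟩ := QCoh.exists_pow_smul_eq_zero hM hV a t (by
    have e' := congrArg (M.presheaf.map (homOfLE ha).op) e
    rw [map_zero, map_zero, ← ConcreteCategory.comp_apply, ← Functor.map_comp] at e'
    exact e')
  exact ⟨a ^ n, mem_basicOpen_pow hxa hx n, hn⟩

open CategoryTheory CategoryTheory.Limits AlgebraicGeometry in
/-- Let X be a locally Noetherian scheme, F and G coherent O_X-modules, φ : G → F a morphism and x ∈ X.
(1) If F_x = 0 there is an open neighbourhood U of x with F|_U = 0. (2) If the stalk map φ_x : G_x →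
F_x is injective there is an open neighbourhood U of x with φ|_U injective. (4) If φ_x is bijective
there is an open neighbourhood U of x with φ|_U an isomorphism. (Part (3), surjectivity, is the
finite-type statement valid on any ringed space and is not restated.) -/
theorem result (X : Scheme.{u}) [IsLocallyNoetherian X]
    (F G : X.Modules) (hF : Coh.IsCoh F) (hG : Coh.IsCoh G) (φ : G ⟶ F) (x : X) :
    (Subsingleton ↑(F.presheaf.stalk x) →
      ∃ U : X.Opens, x ∈ U ∧ IsZero ((Scheme.Modules.restrictFunctor U.ι).obj F)) ∧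
    (Function.Injective ((TopCat.Presheaf.stalkFunctor _ x).map φ.mapPresheaf).hom →
      ∃ U : X.Opens, x ∈ U ∧ Mono ((Scheme.Modules.restrictFunctor U.ι).map φ)) ∧
    (Function.Bijective ((TopCat.Presheaf.stalkFunctor _ x).map φ.mapPresheaf).hom →
      ∃ U : X.Opens, x ∈ U ∧ IsIso ((Scheme.Modules.restrictFunctor U.ι).map φ)) := by
  have hker : Coh.IsCoh (kernel φ) := QCoh.isCoh_kernel hG hF φ
  have hcok : Coh.IsCoh (cokernel φ) := QCoh.isCoh_cokernel hG.1 hF φ
  have zero : ∀ {M : X.Modules}, CohB1.IsFT M → x ∉ CohB1.support M →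
      ∃ U : X.Opens, x ∈ U ∧ (∀ y ∈ U, y ∉ CohB1.support M) ∧
        IsZero ((Scheme.Modules.restrictFunctor U.ι).obj M) := fun {M} hM hx =>
    ⟨⟨(CohB1.support M)ᶜ, (QCoh.isClosed_support_of_ft hM).isOpen_compl⟩, hx, fun y hy => hy,
      SheafHomX.restrict_eq_zero_of_notMem _ fun y hy => hy⟩
  obtain ⟨V, hV, hxV, -⟩ := exists_isAffineOpen_mem_and_subset (x := x) (U := ⊤) trivial
  have hk : Function.Injective ((TopCat.Presheaf.stalkFunctor _ x).map φ.mapPresheaf).hom →
      x ∉ CohB1.support (kernel φ) := fun h => by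
    refine QCoh.notMem_support_kernel hG.1 hF.1 φ hV hxV fun t ht => ?_
    have h0 : G.presheaf.germ V x hxV t = 0 := h (by
      refine Eq.trans ?_ (map_zero _).symm
      refine (TopCat.Presheaf.stalkFunctor_map_germ_apply V x hxV φ.mapPresheaf t).trans ?_
      show F.presheaf.germ V x hxV (φ.app V t) = 0
      rw [ht, map_zero])
    exact exists_smul_eq_zero hG.1 hV hxV t h0
  have hc : Function.Surjective ((TopCat.Presheaf.stalkFunctor _ x).map φ.mapPresheaf).hom →
      x ∉ CohB1.support (cokernel φ) := fun h => by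
    refine QCoh.notMem_support_cokernel hG.1 hF.1 φ hV hxV fun y => ?_
    obtain ⟨z, hz⟩ := h (F.presheaf.germ V x hxV y)
    obtain ⟨W, hxW, s, rfl⟩ := G.presheaf.exists_germ_eq (C := AddCommGrpCat.{u}) z
    obtain ⟨a, ha, hxa⟩ := hV.exists_basicOpen_le (V := W) ⟨x, hxW⟩ hxV
    obtain ⟨n, t, ht⟩ := QCoh.exists_pow_smul_eq_map hG.1 hV a (G.presheaf.map (homOfLE ha).op s)
    have h1 : F.presheaf.germ (X.basicOpen a) x hxa
        (φ.app (X.basicOpen a) (G.presheaf.map (homOfLE ha).op s)) = F.presheaf.germ V x hxV y := by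
      refine Eq.trans ?_ hz
      refine (TopCat.Presheaf.stalkFunctor_map_germ_apply _ x hxa φ.mapPresheaf _).symm.trans ?_
      exact congrArg _ (G.presheaf.germ_res_apply (homOfLE ha) x hxa s)
    have h2 : F.presheaf.germ V x hxV (φ.app V t - a ^ n • y) = 0 := by
      rw [← F.presheaf.germ_res_apply (homOfLE (X.basicOpen_le a)) x hxa, map_sub]
      have e1 : F.presheaf.map (homOfLE (X.basicOpen_le a)).op (φ.app V t) =
          X.presheaf.map (homOfLE (X.basicOpen_le a)).op a ^ n • φ.app (X.basicOpen a) (G.presheaf.map (homOfLE ha).op s) := by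
        rw [← Scheme.Modules.Hom.app_smul, ← ht]
        exact (congr($(φ.mapPresheaf.naturality (homOfLE (X.basicOpen_le a)).op) t)).symm
      have e2 : F.presheaf.map (homOfLE (X.basicOpen_le a)).op (a ^ n • y) =
          X.presheaf.map (homOfLE (X.basicOpen_le a)).op a ^ n • F.presheaf.map (homOfLE (X.basicOpen_le a)).op y := by
        rw [← map_pow]; exact QCoh.map_smul' (homOfLE (X.basicOpen_le a)) _ _
      rw [e1, e2, ← smul_sub, QCoh.germ_smul', map_sub, h1, F.presheaf.germ_res_apply, sub_self, smul_zero]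
    obtain ⟨b, hxb, hb⟩ := exists_smul_eq_zero hF.1 hV hxV _ h2
    refine ⟨b * a ^ n, ?_, b • t, ?_⟩
    · rw [Scheme.basicOpen_mul]
      exact ⟨hxb, mem_basicOpen_pow hxa hxV n⟩
    · rw [Scheme.Modules.Hom.app_smul, mul_smul, ← sub_eq_zero, ← smul_sub]
      exact hb
  refine ⟨fun h => ?_, fun h => ?_, fun h => ?_⟩
  · obtain ⟨U, hxU, -, hU⟩ := zero hF.2 (fun hs => hs h)
    exact ⟨U, hxU, hU⟩
  · obtain ⟨U, hxU, -, hU⟩ := zero hker.2 (hk h)
    exact ⟨U, hxU, Preadditive.mono_of_isZero_kernel _ (hU.of_iso (PreservesKernel.iso _ φ).symm)⟩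
  · obtain ⟨U₁, hx₁, h₁, -⟩ := zero hker.2 (hk h.1)
    obtain ⟨U₂, hx₂, h₂, -⟩ := zero hcok.2 (hc h.2)
    refine ⟨U₁ ⊓ U₂, ⟨hx₁, hx₂⟩, ?_⟩
    haveI : Mono ((Scheme.Modules.restrictFunctor (U₁ ⊓ U₂).ι).map φ) := Preadditive.mono_of_isZero_kernel _
      ((SheafHomX.restrict_eq_zero_of_notMem (U₁ ⊓ U₂) fun y hy => h₁ y hy.1).of_iso (PreservesKernel.iso _ φ).symm)
    haveI : Epi ((Scheme.Modules.restrictFunctor (U₁ ⊓ U₂).ι).map φ) := Preadditive.epi_of_isZero_cokernel _
      ((SheafHomX.restrict_eq_zero_of_notMem (U₁ ⊓ U₂) fun y hy => h₂ y hy.2).of_iso (PreservesCokernel.iso _ φ).symm)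
    exact isIso_of_mono_of_epi _

end Groth.Agent.S9525
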