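import Groth.Statements.S9526
import Groth.Agent.SheafHomX.Local
import Groth.Agent.SheafHomX.Coherent
import Groth.Agent.QCoh.Stalk
import Groth.Agent.QCoh.FT
import Groth.Agent.OmegaLib.AffineHom
import Groth.Prelude.Def_DerSch
set_option autoImplicit false
universe u
open Coherent

namespace Groth.Agent.S9526

open CategoryTheory CategoryTheory.Limits AlgebraicGeometry
namespace Aux
open Groth.Agent TopologicalSpace Opposite

variable {X Y : Scheme.{u}} (j : X ⟶ Y) [IsOpenImmersion j] (M : Y.Modules)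

theorem semilinear_restrict (z : X) (a : Y.presheaf.stalk (j.base z)) (m : (M.restrict j).presheaf.stalk z) :
    ((Scheme.Modules.restrictStalkNatIso j z).app M).hom ((j.stalkMap z).hom a • m) =
      a • (show M.presheaf.stalk (j.base z) from ((Scheme.Modules.restrictStalkNatIso j z).app M).hom m) := by
  let η := (Scheme.Modules.restrictStalkNatIso j z).app M
  have hg : ∀ (V : X.Opens) (hV : z ∈ V) (s : Γ(M, j ''ᵁ V)),
      η.hom ((M.restrict j).presheaf.germ V z hV s) =
        M.presheaf.germ (j ''ᵁ V) (j.base z) ⟨z, hV, rfl⟩ s := fun V hV s =>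
    ConcreteCategory.congr_hom (Scheme.Modules.germ_restrictStalkNatIso_hom_app j z M hV) s
  obtain ⟨V, hV, s, rfl⟩ := (M.restrict j).presheaf.germ_exist m
  obtain ⟨W, hW, t, rfl⟩ := Y.presheaf.germ_exist a
  let V' : X.Opens := V ⊓ j ⁻¹ᵁ W
  have hV' : z ∈ V' := ⟨hV, hW⟩
  have hle : j ''ᵁ V' ≤ W := by rintro _ ⟨y, ⟨-, hy⟩, rfl⟩; exact hy
  have hz' : j.base z ∈ j ''ᵁ V' := ⟨z, hV', rfl⟩
  have hsm : (j.stalkMap z).hom (Y.presheaf.germ W (j.base z) hW t) =
      X.presheaf.germ V' z hV'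
        ((j.appIso V').hom (Y.presheaf.map (homOfLE hle).op t)) := by
    rw [← Y.presheaf.germ_res_apply (homOfLE hle) (j.base z) hz' t]
    erw [Scheme.Hom.germ_stalkMap_apply]
    rw [Scheme.Hom.appIso_hom']
    erw [← X.presheaf.germ_res_apply (homOfLE (show V' ≤ j ⁻¹ᵁ (j ''ᵁ V') from
      (j.preimage_image_eq V').ge)) z hV']
    rfl
  rw [hsm, ← (M.restrict j).presheaf.germ_res_apply (homOfLE (inf_le_left : V' ≤ V)) z hV' s,
    ← QCoh.germ_smul' (M.restrict j) hV']
  change η.hom _ = (_ : Y.presheaf.stalk (j.base z)) • (show M.presheaf.stalk (j.base z) from η.hom _)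
  rw [hg, hg, ← Y.presheaf.germ_res_apply (homOfLE hle) (j.base z) hz' t, ← QCoh.germ_smul' M hz']
  congr 1
  have := ConcreteCategory.congr_hom (Scheme.Modules.smul_restrictAppIso_hom j M V'
    ((j.appIso V').hom (Y.presheaf.map (homOfLE hle).op t)))
    ((M.restrict j).presheaf.map (homOfLE (inf_le_left : V' ≤ V)).op s)
  refine this.trans ?_
  simp only [Iso.hom_inv_id_apply]
  rfl

/-- The linear map on the sections over a basic open realising a map of stalks. -/
theorem exists_sections_hom {X : Scheme.{u}} [IsLocallyNoetherian X] {F G : X.Modules}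
    (hF : Coh.IsCoh F) (hG : Coh.IsCoh G) (x : X)
    (ψ : ↑(G.presheaf.stalk x) →ₗ[X.presheaf.stalk x] ↑(F.presheaf.stalk x)) :
    ∃ (D : X.Opens) (_ : IsAffineOpen D) (hx : x ∈ D) (H : Γ(G, D) →ₗ[Γ(X, D)] Γ(F, D)),
      ∀ y, F.presheaf.germ D x hx (H y) = ψ (G.presheaf.germ D x hx y) := by
  obtain ⟨V, hV, hxV, -⟩ := exists_isAffineOpen_mem_and_subset (x := x) (U := (⊤ : X.Opens)) trivial
  haveI : IsNoetherianRing Γ(X, V) := IsLocallyNoetherian.component_noetherian ⟨V, hV⟩
  haveI : Module.Finite Γ(X, V) Γ(G, V) := QCoh.finite_sections hG hV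
  haveI : Module.FinitePresentation Γ(X, V) Γ(G, V) := Module.finitePresentation_of_finite _ _
  letI := QCoh.stalkModule F hxV
  letI := QCoh.stalkModule G hxV
  let ψ' : G.presheaf.stalk x →ₗ[Γ(X, V)] F.presheaf.stalk x :=
    { toFun := ψ, map_add' := map_add ψ, map_smul' := fun r m => ψ.map_smul _ m }
  haveI := QCoh.isLocalizedModule_germLin hF.1 hV hxV
  obtain ⟨h, ⟨s, hs⟩, hh⟩ := Module.FinitePresentation.exists_lift_of_isLocalizedModule
    (hV.primeIdealOf ⟨x, hxV⟩).asIdeal.primeCompl (QCoh.germLin F hxV) (ψ'.comp (QCoh.germLin G hxV))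
  have hh' : ∀ m : Γ(G, V), F.presheaf.germ V x hxV (h m) =
      X.presheaf.germ V x hxV s • ψ (G.presheaf.germ V x hxV m) := fun m => LinearMap.congr_fun hh m
  have hxs : x ∈ X.basicOpen s := (QCoh.mem_basicOpen_iff_notMem hV hxV s).2 hs
  letI := QCoh.basicModule s G
  letI := QCoh.basicModule s F
  haveI := QCoh.isLocalizedModule_basicRes s hG.1 hV
  haveI := QCoh.isLocalizedModule_basicRes s hF.1 hV
  haveI := hV.isLocalization_basicOpen s
  haveI : IsScalarTower Γ(X, V) Γ(X, X.basicOpen s) Γ(G, X.basicOpen s) :=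
    IsScalarTower.of_algebraMap_smul fun _ _ => rfl
  haveI : IsScalarTower Γ(X, V) Γ(X, X.basicOpen s) Γ(F, X.basicOpen s) :=
    IsScalarTower.of_algebraMap_smul fun _ _ => rfl
  let L := IsLocalizedModule.lift (Submonoid.powers s) (QCoh.basicRes s G) ((QCoh.basicRes s F).comp h)
    (IsLocalizedModule.map_units (QCoh.basicRes s F))
  let L' := LinearMap.extendScalarsOfIsLocalization (Submonoid.powers s) Γ(X, X.basicOpen s) L
  have hu : IsUnit (algebraMap Γ(X, V) Γ(X, X.basicOpen s) s) :=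
    IsLocalization.map_units Γ(X, X.basicOpen s) (⟨s, Submonoid.mem_powers s⟩ : Submonoid.powers s)
  refine ⟨X.basicOpen s, hV.basicOpen s, hxs, hu.unit⁻¹.val • L', fun y => ?_⟩
  obtain ⟨⟨t, ⟨_, n, rfl⟩⟩, ht⟩ := IsLocalizedModule.surj (Submonoid.powers s) (QCoh.basicRes s G) y
  have hres : ∀ r : Γ(X, V), X.presheaf.germ (X.basicOpen s) x hxs (algebraMap Γ(X, V) Γ(X, X.basicOpen s) r) =
      X.presheaf.germ V x hxV r := fun r => X.presheaf.germ_res_apply (homOfLE (X.basicOpen_le s)) x hxs r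
  have hresM : ∀ (N : X.Modules) (m : Γ(N, V)),
      letI := QCoh.basicModule s N
      N.presheaf.germ (X.basicOpen s) x hxs (QCoh.basicRes s N m) = N.presheaf.germ V x hxV m :=
    fun N m => N.presheaf.germ_res_apply (homOfLE (X.basicOpen_le s)) x hxs m
  have hgs : IsUnit (X.presheaf.germ V x hxV s) := (X.mem_basicOpen s x hxV).1 hxs
  have ht' : algebraMap Γ(X, V) Γ(X, X.basicOpen s) (s ^ n) • y = QCoh.basicRes s G t := ht
  have hL : L (QCoh.basicRes s G t) = QCoh.basicRes s F (h t) := IsLocalizedModule.lift_apply _ _ _ _ t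
  have e1 : F.presheaf.germ (X.basicOpen s) x hxs (L y) =
      X.presheaf.germ V x hxV s • ψ (G.presheaf.germ (X.basicOpen s) x hxs y) := by
    refine (hgs.pow n).smul_left_cancel.1 ?_
    have e2 : F.presheaf.germ (X.basicOpen s) x hxs (algebraMap Γ(X, V) Γ(X, X.basicOpen s) (s ^ n) • L' y) =
        X.presheaf.germ V x hxV (s ^ n) • F.presheaf.germ (X.basicOpen s) x hxs (L y) := by
      rw [QCoh.germ_smul', hres]; rfl
    have e3 : G.presheaf.germ (X.basicOpen s) x hxs (algebraMap Γ(X, V) Γ(X, X.basicOpen s) (s ^ n) • y) =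
        X.presheaf.germ V x hxV (s ^ n) • G.presheaf.germ (X.basicOpen s) x hxs y := by
      rw [QCoh.germ_smul', hres]
    rw [← map_pow, ← e2, ← LinearMap.map_smul L', smul_comm, ← LinearMap.map_smul ψ, ← e3, ht', hresM]
    show F.presheaf.germ (X.basicOpen s) x hxs (L (QCoh.basicRes s G t)) = _
    rw [hL, hresM, hh']
  show F.presheaf.germ (X.basicOpen s) x hxs (hu.unit⁻¹.val • L y) = _
  rw [QCoh.germ_smul', e1, ← hres, ← mul_smul, ← map_mul, IsUnit.val_inv_mul, map_one, one_smul]

end Aux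


open CategoryTheory CategoryTheory.Limits AlgebraicGeometry in
/-- Let X be a locally Noetherian scheme, F and G coherent O_X-modules, x ∈ X and ψ : G_x → F_x an
O_{X,x}-linear map. Then there are an open neighbourhood U of x and a morphism φ : G|_U → F|_U with
φ_x = ψ (the stalk map of φ at x, composed with the canonical identifications of the stalks of G|_U
and F|_U at x with G_x and F_x, is ψ). -/
theorem result (X : Scheme.{u}) [IsLocallyNoetherian X]
    (F G : X.Modules) (hF : Coh.IsCoh F) (hG : Coh.IsCoh G) (x : X)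
    (ψ : ↑(G.presheaf.stalk x) →ₗ[X.presheaf.stalk x] ↑(F.presheaf.stalk x)) :
    ∃ (U : X.Opens) (hx : x ∈ U)
      (φ : (Scheme.Modules.restrictFunctor U.ι).obj G ⟶ (Scheme.Modules.restrictFunctor U.ι).obj F),
      (Scheme.Modules.restrictStalkNatIso U.ι (⟨x, hx⟩ : U)).inv.app G ≫
          (TopCat.Presheaf.stalkFunctor _ (⟨x, hx⟩ : U)).map φ.mapPresheaf ≫
            (Scheme.Modules.restrictStalkNatIso U.ι (⟨x, hx⟩ : U)).hom.app F =
        AddCommGrpCat.ofHom ψ.toAddMonoidHom := by

    obtain ⟨D, hD, hxD, H, hH⟩ := Aux.exists_sections_hom hF hG x ψ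
    haveI : IsAffine (D : Scheme.{u}) := hD
    have himg : D.ι ''ᵁ ⊤ = D := D.ι_image_top
    let z : (D : Scheme.{u}) := ⟨x, hxD⟩
    haveI : IsLocallyNoetherian (D : Scheme.{u}) := inferInstance
    let G' := (Scheme.Modules.restrictFunctor D.ι).obj G
    let F' := (Scheme.Modules.restrictFunctor D.ι).obj F
    let h' : Γ(G', ⊤) →+ Γ(F', ⊤) :=
      ((F.presheaf.map (homOfLE himg.le).op).hom.comp H.toAddMonoidHom).comp
        (G.presheaf.map (homOfLE himg.ge).op).hom
    have hsm : ∀ (M : X.Modules) (r : Γ((D : Scheme.{u}), ⊤))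
        (k : Γ((Scheme.Modules.restrictFunctor D.ι).obj M, ⊤)),
        @Eq Γ(M, D.ι ''ᵁ ⊤) (r • k : Γ((Scheme.Modules.restrictFunctor D.ι).obj M, ⊤))
          (((D.ι.appIso ⊤).inv r) • (show Γ(M, D.ι ''ᵁ ⊤) from k)) := fun M r k =>
      ConcreteCategory.congr_hom (Scheme.Modules.smul_restrictAppIso_hom D.ι M ⊤ r) k
    have hlin : ∀ (r : Γ((D : Scheme.{u}), ⊤)) k, h' (r • k) = r • h' k := fun r k => by
      refine (congrArg (fun a => F.presheaf.map (homOfLE himg.le).op
        (H (G.presheaf.map (homOfLE himg.ge).op a))) (hsm G r k)).trans (Eq.trans ?_ (hsm F r (h' k)).symm)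
      rw [Scheme.Modules.map_smul, map_smul, Scheme.Modules.map_smul]
      congr 1
      rw [← CommRingCat.comp_apply, ← Functor.map_comp, ← op_comp]
      rw [show homOfLE himg.le ≫ homOfLE himg.ge = 𝟙 (D.ι ''ᵁ ⊤) from Subsingleton.elim _ _, op_id, X.presheaf.map_id]
      rfl
    obtain ⟨φ, hφ⟩ := Groth.Agent.OmegaLib.exists_hom_of_affine
      (Groth.Agent.SheafHomX.globLocalized (Groth.Agent.QCoh.isQCoh_restrict D.ι hG.1)) h' hlin
    refine ⟨D, hxD, φ, ?_⟩
    let ηG := (Scheme.Modules.restrictStalkNatIso D.ι z).app G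
    let ηF := (Scheme.Modules.restrictStalkNatIso D.ι z).app F
    have hσ : Function.Surjective (D.ι.stalkMap z).hom := (ConcreteCategory.bijective_of_isIso (D.ι.stalkMap z)).2
    let Φ : G'.presheaf.stalk z →ₗ[(D : Scheme.{u}).presheaf.stalk z] F'.presheaf.stalk z := Algz.stalkMapₗ φ z
    let aF : F'.presheaf.stalk z → F.presheaf.stalk x := fun v => ηF.hom v
    let aG : G'.presheaf.stalk z → G.presheaf.stalk x := fun v => ηG.hom v
    have haF : ∀ (a : X.presheaf.stalk x) v, aF ((D.ι.stalkMap z).hom a • v) = a • aF v :=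
      fun a v => Aux.semilinear_restrict D.ι F z a v
    have haG : ∀ (a : X.presheaf.stalk x) v, aG ((D.ι.stalkMap z).hom a • v) = a • aG v :=
      fun a v => Aux.semilinear_restrict D.ι G z a v
    have key : ∀ m : G'.presheaf.stalk z, aF (Φ m) = ψ (aG m) := by
      intro m
      letI := Groth.Agent.QCoh.stalkModule G' (x := z) (U := ⊤) trivial
      haveI := Groth.Agent.QCoh.isLocalizedModule_germLin (M := G') (x := z)
        (Groth.Agent.QCoh.isQCoh_restrict D.ι hG.1) (isAffineOpen_top (D : Scheme.{u})) trivial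
      obtain ⟨⟨t, r, hr⟩, ht⟩ := IsLocalizedModule.surj
        ((isAffineOpen_top (D : Scheme.{u})).primeIdealOf ⟨z, trivial⟩).asIdeal.primeCompl
        (Groth.Agent.QCoh.germLin G' (x := z) (U := ⊤) trivial) m
      have hu : IsUnit ((D : Scheme.{u}).presheaf.germ ⊤ z trivial r) :=
        ((D : Scheme.{u}).mem_basicOpen r z trivial).1
          ((Groth.Agent.QCoh.mem_basicOpen_iff_notMem (isAffineOpen_top (D : Scheme.{u})) trivial r).2 hr)
      have ht' : (D : Scheme.{u}).presheaf.germ ⊤ z trivial r • m = G'.presheaf.germ ⊤ z trivial t := ht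
      obtain ⟨a, ha⟩ : ∃ a : X.presheaf.stalk x,
          (D.ι.stalkMap z).hom a = (D : Scheme.{u}).presheaf.germ ⊤ z trivial r := hσ _
      have hau : IsUnit a := by
        rw [← ha] at hu
        exact (MulEquiv.isUnit_map (RingEquiv.ofBijective (D.ι.stalkMap z).hom (ConcreteCategory.bijective_of_isIso (D.ι.stalkMap z)))).1 hu
      refine hau.smul_left_cancel.1 ?_
      rw [← haF, ← LinearMap.map_smul ψ, ← haG, ← LinearMap.map_smul Φ, ha, ht']
      refine (congrArg aF (DerSch.stalkFunctor_map_germ (X := (D : Scheme.{u})) z φ ⊤ trivial t)).trans ?_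
      refine (ConcreteCategory.congr_hom
        (Scheme.Modules.germ_restrictStalkNatIso_hom_app D.ι z F (U := ⊤) trivial) (φ.app ⊤ t)).trans ?_
      refine Eq.trans ?_ (congrArg ψ (ConcreteCategory.congr_hom
        (Scheme.Modules.germ_restrictStalkNatIso_hom_app D.ι z G (U := ⊤) trivial) t)).symm
      rw [hφ t]
      show F.presheaf.germ _ x _ (F.presheaf.map (homOfLE himg.le).op (H (G.presheaf.map (homOfLE himg.ge).op t))) = _
      rw [F.presheaf.germ_res_apply, hH, G.presheaf.germ_res_apply]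
      rfl
    ext m
    have h1 := key (ηG.inv m)
    rw [show aG (ηG.inv m) = m from Iso.inv_hom_id_apply ηG m] at h1
    exact h1

end Groth.Agent.S9526
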