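import Groth.Statements.S9529
import Groth.Agent.SheafHomX.StalkDepth
set_option autoImplicit false
universe u
open CategoryTheory CategoryTheory.Limits AlgebraicGeometry
attribute [local instance] HasDerivedCategory.standard
open Coherent

namespace Groth.Agent.S9529

/-- Let X be a locally Noetherian scheme, F and G coherent O_X-modules and H = Hom_{O_X}(F, G). If G has
property (S_1), so has H; if G has property (S_2), so has H. Here a coherent module M has (S_k) when
depth M_x ≥ min(k, dim Supp M_x) for every x ∈ X, with M_x regarded as a module over O_{X,x} (the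
zero module has depth ∞ and support dimension −∞); the sheaf Hom is the right adjoint of F ⊗ − under
its existence binder. -/
theorem result (X : Scheme.{u}) [IsLocallyNoetherian X] (F G : X.Modules)
    (hF : Coh.IsCoh F) (hG : Coh.IsCoh G) [DCoh.HasSheafHom F] (k : ℕ) (hk : k = 1 ∨ k = 2)
    (hS : ∀ x : X, min (k : WithBot ℕ∞) (Module.supportDim (X.presheaf.stalk x) ↑(G.presheaf.stalk x)) ≤
      ((LocCoh.depth (X.presheaf.stalk x) ↑(G.presheaf.stalk x) : ℕ∞) : WithBot ℕ∞)) (x : X) :
    min (k : WithBot ℕ∞)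
        (Module.supportDim (X.presheaf.stalk x) ↑(((DCoh.sheafHom F).obj G).presheaf.stalk x)) ≤
      ((LocCoh.depth (X.presheaf.stalk x) ↑(((DCoh.sheafHom F).obj G).presheaf.stalk x) : ℕ∞) :
        WithBot ℕ∞) := by

    obtain ⟨σ, τ, _, _, ι, a, hι, he⟩ := Groth.Agent.SheafHomX.exists_stalk_presentation' G hF x
    haveI : Module.Finite (X.presheaf.stalk x) (G.presheaf.stalk x) :=
      Groth.Agent.QCoh.finite_stalk_of_isFT hG.1 hG.2 x
    have hd := Groth.Agent.SheafHomX.supportDim_le_of_embedding ι hι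
    have hG' := hS x
    set D := LocCoh.depth (X.presheaf.stalk x) ↑(G.presheaf.stalk x) with hD
    set E := LocCoh.depth (X.presheaf.stalk x) ↑(((DCoh.sheafHom F).obj G).presheaf.stalk x)
    have h1 : (1 : ℕ∞) ≤ D → (1 : ℕ∞) ≤ E := Groth.Agent.SheafHomX.one_le_depth_of_embedding ι hι
    have h2 : (2 : ℕ∞) ≤ D → (2 : ℕ∞) ≤ E := Groth.Agent.SheafHomX.two_le_depth_of_kernel ι a hι he
    refine (min_le_min_left _ hd).trans ?_
    generalize Module.supportDim (X.presheaf.stalk x) ↑(G.presheaf.stalk x) = s at hG' ⊢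
    have hmin : ((min (D : ℕ∞) 2 : ℕ∞) : WithBot ℕ∞) ≤ (E : WithBot ℕ∞) := by
      refine WithBot.coe_le_coe.2 ?_
      rcases le_or_gt 2 D with hD2 | hD2
      · rw [min_eq_right hD2]; exact h2 hD2
      · rw [min_eq_left hD2.le]
        rcases le_or_gt 1 D with hD1 | hD1
        · have : D = 1 := le_antisymm ((ENat.lt_add_one_iff (by simp)).1 (by rwa [one_add_one_eq_two])) hD1
          rw [this]; exact h1 hD1
        · have : D = 0 := by simpa using hD1
          rw [this]; exact bot_le
    have hk2 : min (k : WithBot ℕ∞) s ≤ ((2 : ℕ∞) : WithBot ℕ∞) := (min_le_left _ _).trans ?_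
    refine (le_trans (le_min hG' hk2) (le_of_eq ?_)).trans hmin
    · exact (WithBot.coe_min D 2).symm
    · show (k : WithBot ℕ∞) ≤ ((2 : ℕ∞) : WithBot ℕ∞)
      rcases hk with rfl | rfl
      · exact WithBot.coe_le_coe.2 (by norm_num)
      · exact le_rfl

end Groth.Agent.S9529
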