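import Groth.Statements.S9531
import Groth.Agent.Algz7.Extend
-- import your own Groth.Agent.* helpers here

set_option autoImplicit false
universe u
open CategoryTheory CategoryTheory.Limits AlgebraicGeometry Opposite
open Algz

namespace Groth.Agent.S9531

/-- Let A be a Noetherian ring, I ⊆ 𝔞 ideals, U = Spec A ∖ V(𝔞), and take (F_n) in Coh(U, I O_U).
Suppose (F_n) extends canonically to Spec A; then (F_n) extends to Spec A: there is an object of
Coh(Spec A, I O) whose restriction to U is isomorphic to (F_n). (Spec A is regarded over itself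
through the identity.) -/
theorem result (A : Type u) [CommRing A] [IsNoetherianRing A] (I 𝔞 : Ideal A) (hI𝔞 : I ≤ 𝔞)
    (G : ℕᵒᵖ ⥤ (↑(LocCoh.puncturedOpen A 𝔞) : Scheme.{u}).Modules) (hG : Formal.IsCohFormal I G)
    (h : Algz.CanonicallyExtends A I (LocCoh.puncturedOpen A 𝔞) G) :
    @Algz.Extends A _ (Spec (CommRingCat.of A)) ⟨𝟙 (Spec (CommRingCat.of A))⟩ I (LocCoh.puncturedOpen A 𝔞) G := Groth.Agent.Algz7.extends_of_canonicallyExtends I (LocCoh.puncturedOpen A 𝔞) G hG h

end Groth.Agent.S9531
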