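import Groth.Statements.S9532
import Mathlib
-- import your own Groth.Agent.* helpers here

set_option autoImplicit false
universe u
open CategoryTheory CategoryTheory.Limits AlgebraicGeometry Opposite
open Algz

namespace Groth.Agent.S9532

section
universe v w v' w'
open CategoryTheory Opposite

theorem isML_of_proIso {C : Type v} [Category.{w} C] [Abelian C] {D : Type v'} [Category.{w'} D]
    [Limits.HasZeroMorphisms D] (T : C ⥤ D) [T.Faithful] [T.PreservesZeroMorphisms]
    (X : ℕᵒᵖ ⥤ C) (G' : ℕᵒᵖ ⥤ D) (hstep : ∀ n, Epi (G'.map (homOfLE (Nat.le_succ n)).op))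
    (m : ℕ → ℕ) (hm : Monotone m) (hmn : ∀ n, n ≤ m n) (a : DerCA.reindex (X ⋙ T) hm ⟶ G')
    (ha : DerCA.IsProIso a) : ARSys.IsML X := by
  have hepi : ∀ (p q : ℕ) (hpq : p ≤ q), Epi (ARSys.tr G' hpq) := by
    intro p q hpq
    induction q, hpq using Nat.le_induction with
    | base =>
      rw [show ARSys.tr G' (le_refl p) = 𝟙 _ from G'.map_id _]
      infer_instance
    | succ q hq ih =>
      have e : ARSys.tr G' (hq.trans (Nat.le_succ q)) =
          G'.map (homOfLE (Nat.le_succ q)).op ≫ ARSys.tr G' hq := by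
        rw [← G'.map_comp]; rfl
      haveI := hstep q; haveI := ih
      rw [show ARSys.tr G' (_ : p ≤ q + 1) = _ from e]
      exact epi_comp _ _
  intro n
  let α : ∀ j, T.obj (X.obj (op (m j))) ⟶ G'.obj (op j) := fun j => a.app (op j)
  have hnat : ∀ (i j : ℕ) (h : i ≤ j), T.map (ARSys.tr X (hm h)) ≫ α i = α j ≫ ARSys.tr G' h :=
    fun i j h => a.naturality (homOfLE h).op
  have hinv : ∀ i, ∃ (j : ℕ) (h : i ≤ j) (b : G'.obj (op j) ⟶ T.obj (X.obj (op (m i)))),
      α j ≫ b = T.map (ARSys.tr X (hm h)) ∧ b ≫ α i = ARSys.tr G' h := fun i => ha i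
  have trX : ∀ {p q r : ℕ} (h₁ : p ≤ q) (h₂ : q ≤ r),
      T.map (ARSys.tr X h₂) ≫ T.map (ARSys.tr X h₁) = T.map (ARSys.tr X (h₁.trans h₂)) :=
    fun h₁ h₂ => by rw [← T.map_comp, ← X.map_comp]; rfl
  obtain ⟨k, hk, b, hb1, -⟩ := hinv n
  have hnk : n ≤ m k := (hmn n).trans (hm hk)
  let c : G'.obj (op k) ⟶ T.obj (X.obj (op n)) := b ≫ T.map (ARSys.tr X (hmn n))
  have hc : α k ≫ c = T.map (ARSys.tr X hnk) := by
    rw [← Category.assoc, hb1, trX]
  -- every transition map far enough out has, after `T`, the same annihilators as `c`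
  have key1 : ∀ (N : ℕ) (hN : m k ≤ N) (Z : C) (π : X.obj (op n) ⟶ Z),
      ARSys.tr X (hnk.trans hN) ≫ π = 0 → c ≫ T.map π = 0 := by
    intro N hN Z π hπ
    have hkq : k ≤ max k N := le_max_left _ _
    obtain ⟨l, hl, b', -, hb2'⟩ := hinv (max k N)
    have hNm : N ≤ m (max k N) := (le_max_right k N).trans (hmn _)
    have h1 : α (max k N) ≫ ARSys.tr G' hkq ≫ c ≫ T.map π = 0 := by
      rw [← Category.assoc, ← hnat, Category.assoc, ← Category.assoc (α k), hc, ← Category.assoc,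
        trX, ← trX (hnk.trans hN) hNm, Category.assoc, ← T.map_comp, hπ, T.map_zero, Limits.comp_zero]
    haveI := hepi k l (hkq.trans hl)
    rw [← cancel_epi (ARSys.tr G' (hkq.trans hl)), Limits.comp_zero]
    have e : ARSys.tr G' (hkq.trans hl) = (b' ≫ α (max k N)) ≫ ARSys.tr G' hkq := by
      rw [hb2', ← G'.map_comp]; rfl
    rw [e, Category.assoc, Category.assoc, h1, Limits.comp_zero]
  have key2 : ∀ (N : ℕ) (hN : m k ≤ N) (Z : C) (π : X.obj (op n) ⟶ Z),
      c ≫ T.map π = 0 → ARSys.tr X (hnk.trans hN) ≫ π = 0 := by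
    intro N hN Z π hπ
    apply T.map_injective
    rw [T.map_comp, T.map_zero, ← trX hnk hN, ← hc, Category.assoc, Category.assoc, hπ,
      Limits.comp_zero, Limits.comp_zero]
  have le : ∀ {P Q R : C} (f : P ⟶ R) (g : Q ⟶ R), f ≫ Limits.cokernel.π g = 0 →
      Limits.imageSubobject f ≤ Limits.imageSubobject g := fun f g hfg =>
    Limits.imageSubobject_le f (Limits.kernel.lift _ f hfg ≫ (Abelian.imageIsoImage g).hom ≫
      (Limits.imageSubobjectIso g).inv) (by
        rw [Category.assoc, Category.assoc, Limits.imageSubobject_arrow']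
        rw [Abelian.imageIsoImage_hom_comp_image_ι]
        exact Limits.kernel.lift_ι _ _ _)
  refine ⟨m k, fun s hs => ?_⟩
  have h1 : m k ≤ n + s := hs.trans (Nat.le_add_left _ _)
  have h2 : m k ≤ n + m k := Nat.le_add_left _ _
  exact le_antisymm
    (le _ _ (key2 _ h1 _ _ (key1 _ h2 _ _ (Limits.cokernel.condition _))))
    (le _ _ (key2 _ h2 _ _ (key1 _ h1 _ _ (Limits.cokernel.condition _))))

end

/-- Let A be a Noetherian ring, I ⊆ 𝔞 ideals, U = Spec A ∖ V(𝔞), and let (F_n) belong to Coh(U, I O_U).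
Suppose (F_n) admits a canonical extension to Spec A; then the inverse system of A-modules n ↦
H^0(U, F_n) satisfies the Mittag-Leffler condition. -/
theorem result (A : Type u) [CommRing A] [IsNoetherianRing A] (I 𝔞 : Ideal A) (hI𝔞 : I ≤ 𝔞)
    (G : ℕᵒᵖ ⥤ (↑(LocCoh.puncturedOpen A 𝔞) : Scheme.{u}).Modules) (hG : Formal.IsCohFormal I G)
    (h : Algz.CanonicallyExtends A I (LocCoh.puncturedOpen A 𝔞) G) :
    ARSys.IsML (Algz.sectMod A (LocCoh.puncturedOpen A 𝔞) G) := by
  obtain ⟨G', hG', m, hm, hmn, a, ha⟩ := h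
  haveI : (tilde.functor (CommRingCat.of A)).Faithful := tilde.fullyFaithfulFunctor.faithful
  haveI : (tilde.functor (CommRingCat.of A)).PreservesZeroMorphisms :=
    haveI : (tilde.functor (CommRingCat.of A)).IsLeftAdjoint := tilde.adjunction.isLeftAdjoint
    Functor.preservesZeroMorphisms_of_isLeftAdjoint _
  refine isML_of_proIso (tilde.functor (CommRingCat.of A)) (Algz.sectMod A (LocCoh.puncturedOpen A 𝔞) G) G' ?_ m hm hmn a ha
  intro n
  obtain ⟨h0, hiso⟩ := hG'.2.2 n
  haveI := hiso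
  rw [← Limits.cokernel.π_desc _ _ h0]
  exact @epi_comp _ _ _ _ _ _ Limits.coequalizer.π_epi _ (@IsIso.epi_of_iso _ _ _ _ _ hiso)

end Groth.Agent.S9532
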