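import Groth.Statements.S9541
import Groth.Agent.QCoh.Tilde
import Groth.Agent.QCoh.HHExact
import Groth.Agent.SiteBase.Cohom
import Mathlib.RingTheory.Filtration
set_option autoImplicit false
universe u
open CategoryTheory
open Formal2

namespace Groth.Agent.S9541

set_option backward.isDefEq.respectTransparency false
set_option backward.isDefEq.respectTransparency.types false
open CategoryTheory CategoryTheory.Limits AlgebraicGeometry Opposite Formal2
namespace Aux

instance preservesZero_tilde (A : Type u) [CommRing A] :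
    (tilde.functor (CommRingCat.of A)).PreservesZeroMorphisms :=
  haveI := (tilde.adjunction (R := CommRingCat.of A)).isLeftAdjoint
  Functor.preservesZeroMorphisms_of_isLeftAdjoint _

variable {A : Type u} [CommRing A] {L N P : Type u} [AddCommGroup L] [Module A L] [AddCommGroup N] [Module A N]
  [AddCommGroup P] [Module A P] {V V' : (Spec (CommRingCat.of A)).Opens}

variable (V) in
/-- The representing sheaf. -/
noncomputable abbrev freeV : Sheaf (Opens.grothendieckTopology (Spec (CommRingCat.of A)).toTopCat) AddCommGrpCat.{u} :=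
  CohCx.freeSheaf (Opens.grothendieckTopology (Spec (CommRingCat.of A)).toTopCat) V

/-- The abelian sheaf of a module. -/
noncomputable abbrev sh (A : Type u) [CommRing A] (L : Type u) [AddCommGroup L] [Module A L] :
    Sheaf (Opens.grothendieckTopology (Spec (CommRingCat.of A)).toTopCat) AddCommGrpCat.{u} :=
  Coh.toAb (tmod A L)

/-- Its functoriality. -/
noncomputable abbrev shMap (φ : L →ₗ[A] N) : sh A L ⟶ sh A N :=
  (SheafOfModules.toSheaf _).map (tmodMap A φ)

/-- A class in degree zero from a morphism. -/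
noncomputable def cl (a : freeV V ⟶ sh A L) : HV A L 0 V := Abelian.Ext.mk₀ a

theorem cl_surjective (x : HV A L 0 V) : ∃ a : freeV V ⟶ sh A L, cl a = x :=
  (Abelian.Ext.mk₀_bijective _ _).2 x

theorem cl_eq_zero {a : freeV V ⟶ sh A L} : cl a = 0 ↔ a = 0 := by
  refine ⟨fun h => (Abelian.Ext.mk₀_bijective _ _).1 (h.trans (Abelian.Ext.mk₀_zero _ _).symm), ?_⟩
  rintro rfl
  exact Abelian.Ext.mk₀_zero _ _

theorem map_cl (φ : L →ₗ[A] N) (a : freeV V ⟶ sh A L) : HVmap A φ 0 V (cl a) = cl (a ≫ shMap φ) :=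
  Abelian.Ext.mk₀_comp_mk₀ a (shMap φ)

theorem shMap_comp (φ : L →ₗ[A] N) (ψ : N →ₗ[A] P) : shMap (ψ ∘ₗ φ) = shMap φ ≫ shMap ψ := by
  have e : tmodMap A (ψ ∘ₗ φ) = tmodMap A φ ≫ tmodMap A ψ :=
    (tilde.functor (CommRingCat.of A)).map_comp (ModuleCat.ofHom φ) (ModuleCat.ofHom ψ)
  exact (congrArg (fun t => (SheafOfModules.toSheaf _).map t) e).trans
    ((SheafOfModules.toSheaf _).map_comp (tmodMap A φ) (tmodMap A ψ))

theorem map_map_cl (φ : L →ₗ[A] N) (ψ : N →ₗ[A] P) (x : HV A L 0 V) :
    HVmap A ψ 0 V (HVmap A φ 0 V x) = HVmap A (ψ ∘ₗ φ) 0 V x := by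
  obtain ⟨a, rfl⟩ := cl_surjective x
  rw [map_cl, map_cl, map_cl, shMap_comp, Category.assoc]

theorem map_zero_map (x : HV A L 0 V) : HVmap A (0 : L →ₗ[A] N) 0 V x = 0 := by
  obtain ⟨a, rfl⟩ := cl_surjective x
  rw [map_cl, cl_eq_zero]
  have : tmodMap A (0 : L →ₗ[A] N) = 0 := (tilde.functor (CommRingCat.of A)).map_zero _ _
  rw [shMap, this, Functor.map_zero, comp_zero]

theorem shMap_id : shMap (LinearMap.id : L →ₗ[A] L) = 𝟙 (sh A L) := by
  have e : tmodMap A (LinearMap.id : L →ₗ[A] L) = 𝟙 (tmod A L) :=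
    (tilde.functor (CommRingCat.of A)).map_id (ModuleCat.of A L)
  exact (congrArg (fun t => (SheafOfModules.toSheaf _).map t) e).trans
    ((SheafOfModules.toSheaf _).map_id _)

theorem map_id_apply (x : HV A L 0 V) : HVmap A (LinearMap.id : L →ₗ[A] L) 0 V x = x := by
  obtain ⟨a, rfl⟩ := cl_surjective x
  rw [map_cl, shMap_id, Category.comp_id]

theorem res_map (φ : L →ₗ[A] N) (h : V' ≤ V) (x : HV A L 0 V) :
    HVres A N 0 h (HVmap A φ 0 V x) = HVmap A φ 0 V' (HVres A L 0 h x) :=
  (congr($(((Sheaf.cohomologyPresheafFunctor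
    (Opens.grothendieckTopology (Spec (CommRingCat.of A)).toTopCat) 0).map (shMap φ)).naturality
      (homOfLE h).op) x)).symm

theorem res_res {V'' : (Spec (CommRingCat.of A)).Opens} (h : V' ≤ V) (h' : V'' ≤ V') (x : HV A L 0 V) :
    HVres A L 0 h' (HVres A L 0 h x) = HVres A L 0 (h'.trans h) x := by
  exact (congr($((Sheaf.cohomologyPresheaf.{u} (sh A L) 0).map_comp (homOfLE h).op (homOfLE h').op) x)).symm

theorem mono_shMap {φ : L →ₗ[A] N} (hφ : Function.Injective φ) : Mono (shMap φ) := by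
  haveI : Mono (ModuleCat.ofHom φ) := (ModuleCat.mono_iff_injective _).2 hφ
  haveI : Mono (tmodMap A φ) := Groth.Agent.QCoh.tildeMap_mono (R := CommRingCat.of A) (ModuleCat.ofHom φ)
  haveI : PreservesFiniteLimits (Groth.Agent.QCoh.toAbFunctor (Spec (CommRingCat.of A))) :=
    Functor.preservesFiniteLimits_of_preservesHomology _
  exact (Groth.Agent.QCoh.toAbFunctor (Spec (CommRingCat.of A))).map_mono (tmodMap A φ)

theorem eq_zero_of_map {φ : L →ₗ[A] N} (hφ : Function.Injective φ) {x : HV A L 0 V}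
    (h : HVmap A φ 0 V x = 0) : x = 0 := by
  haveI := mono_shMap hφ
  obtain ⟨a, rfl⟩ := cl_surjective x
  rw [map_cl, cl_eq_zero] at h
  exact cl_eq_zero.2 (zero_of_comp_mono (shMap φ) h)

/-- A map killing the kernel of another kills what that one kills. -/
theorem map_eq_zero_of_ker_le {α : L →ₗ[A] N} {β : L →ₗ[A] P} (h : LinearMap.ker α ≤ LinearMap.ker β)
    {x : HV A L 0 V} (hx : HVmap A α 0 V x = 0) : HVmap A β 0 V x = 0 := by
  have hinj : Function.Injective ((LinearMap.ker α).liftQ α le_rfl) :=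
    LinearMap.ker_eq_bot.1 (Submodule.ker_liftQ_eq_bot _ _ _ le_rfl)
  have hq : HVmap A (LinearMap.ker α).mkQ 0 V x = 0 := eq_zero_of_map hinj (by
    rw [map_map_cl, Submodule.liftQ_mkQ]; exact hx)
  rw [← Submodule.liftQ_mkQ (LinearMap.ker α) β h, ← map_map_cl, hq, map_zero]

theorem exists_of_map_eq_zero {f : L →ₗ[A] N} {g : N →ₗ[A] P} (hf : Function.Injective f)
    (hg : Function.Surjective g) (hfg : LinearMap.range f = LinearMap.ker g) {x : HV A N 0 V}
    (hx : HVmap A g 0 V x = 0) : ∃ x' : HV A L 0 V, HVmap A f 0 V x' = x := by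
  let S : ShortComplex (ModuleCat.{u} A) := ShortComplex.mk (ModuleCat.ofHom f) (ModuleCat.ofHom g)
    (ModuleCat.hom_ext (LinearMap.range_le_ker_iff.1 hfg.le))
  have hS : S.ShortExact :=
    { exact := (ShortComplex.moduleCat_exact_iff_range_eq_ker S).2 hfg
      mono_f := (ModuleCat.mono_iff_injective _).2 hf
      epi_g := (ModuleCat.epi_iff_surjective _).2 hg }
  let T := S.map (tilde.functor (CommRingCat.of A))
  haveI := hS.mono_f
  haveI := hS.epi_g
  haveI : PreservesColimitsOfSize.{0, 0} (tilde.functor (CommRingCat.of A)) :=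
    (tilde.adjunction (R := CommRingCat.of A)).leftAdjoint_preservesColimits
  haveI : Mono T.f := Groth.Agent.QCoh.tildeMap_mono (R := CommRingCat.of A) (ModuleCat.ofHom f)
  have hT : T.ShortExact :=
    { exact := hS.exact.map_of_epi_of_preservesCokernel _ hS.epi_g inferInstance
      mono_f := inferInstance
      epi_g := (tilde.functor (CommRingCat.of A)).map_epi (ModuleCat.ofHom g) }
  have hT' := Groth.Agent.QCoh.toAb_shortExact hT
  obtain ⟨a, rfl⟩ := cl_surjective x
  rw [map_cl, cl_eq_zero] at hx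
  haveI := hT'.mono_f
  exact ⟨cl (hT'.exact.lift a hx), (map_cl f _).trans (congrArg cl (hT'.exact.lift_f a hx))⟩

section Quot

variable (I : Ideal A)

/-- The map of quotients. -/
def qmap (φ : L →ₗ[A] N) (n : ℕ) : quotPow A I L n →ₗ[A] quotPow A I N n :=
  Submodule.mapQ _ _ φ ((Submodule.smul_le.2 fun r hr v _ => by
    rw [Submodule.mem_comap, map_smul]
    exact Submodule.smul_mem_smul hr Submodule.mem_top))

theorem qmap_π (φ : L →ₗ[A] N) (n : ℕ) : qmap I φ n ∘ₗ quotPowπ A I L n = quotPowπ A I N n ∘ₗ φ := rfl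

theorem qmap_trans (φ : L →ₗ[A] N) (n : ℕ) :
    qmap I φ n ∘ₗ quotPowTrans A I L n = quotPowTrans A I N n ∘ₗ qmap I φ (n + 1) := by
  refine Submodule.linearMap_qext _ (LinearMap.ext fun v => ?_)
  rfl

variable (L) in
/-- Composed transition maps. -/
def trLe {n m : ℕ} (h : n ≤ m) : quotPow A I L m →ₗ[A] quotPow A I L n :=
  Submodule.mapQ _ _ LinearMap.id (by
    rw [Submodule.comap_id]
    exact Submodule.smul_mono_left (Ideal.pow_le_pow_right (Nat.succ_le_succ h)))

variable (L) in
/-- Composed transition maps, shifted index. -/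
abbrev tr (n k : ℕ) : quotPow A I L (n + k) →ₗ[A] quotPow A I L n := trLe L I (Nat.le_add_right n k)

theorem tr_π (n k : ℕ) : tr L I n k ∘ₗ quotPowπ A I L (n + k) = quotPowπ A I L n := rfl

theorem trLe_refl (n : ℕ) : trLe L I (le_refl n) = LinearMap.id :=
  Submodule.linearMap_qext _ (LinearMap.ext fun _ => rfl)

theorem trLe_succ {n m : ℕ} (h : n ≤ m) :
    trLe L I (m := m + 1) (Nat.le_succ_of_le h) = trLe L I h ∘ₗ quotPowTrans A I L m := by
  refine LinearMap.ext fun x => ?_
  obtain ⟨v, rfl⟩ := Submodule.mkQ_surjective _ x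
  simp only [trLe, quotPowTrans, LinearMap.comp_apply, Submodule.mkQ_apply, Submodule.mapQ_apply, LinearMap.id_apply]

theorem trLe_family {U : (Spec (CommRingCat.of A)).Opens} {y : ∀ n, HV A (quotPow A I L n) 0 U}
    (hy : ∀ n, HVmap A (quotPowTrans A I L n) 0 U (y (n + 1)) = y n) {n m : ℕ} (h : n ≤ m) :
    HVmap A (trLe L I h) 0 U (y m) = y n := by
  induction m, h using Nat.le_induction with
  | base => rw [trLe_refl]; exact map_id_apply (y n)
  | succ m h ih => rw [trLe_succ I h, ← map_map_cl, hy m]; exact ih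

theorem tr_family {U : (Spec (CommRingCat.of A)).Opens} {y : ∀ n, HV A (quotPow A I L n) 0 U}
    (hy : ∀ n, HVmap A (quotPowTrans A I L n) 0 U (y (n + 1)) = y n) (n k : ℕ) :
    HVmap A (tr L I n k) 0 U (y (n + k)) = y n :=
  trLe_family I hy (Nat.le_add_right n k)

theorem exists_ker_le [IsNoetherianRing A] [Module.Finite A N] {f : L →ₗ[A] N} (hf : Function.Injective f)
    (n : ℕ) : ∃ k, LinearMap.ker (qmap I f (n + k)) ≤ LinearMap.ker (tr L I n k) := by
  obtain ⟨k, hk⟩ := Ideal.exists_pow_inf_eq_pow_smul I (LinearMap.range f)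
  refine ⟨k, fun q hq => ?_⟩
  obtain ⟨v, rfl⟩ := Submodule.mkQ_surjective _ q
  have hv : f v ∈ I ^ (n + k + 1) • (⊤ : Submodule A N) := (Submodule.Quotient.mk_eq_zero _).1 hq
  have h1 : f v ∈ I ^ (n + k + 1) • (⊤ : Submodule A N) ⊓ LinearMap.range f := ⟨hv, v, rfl⟩
  rw [hk (n + k + 1) (by omega), show n + k + 1 - k = n + 1 by omega] at h1
  have h2 : f v ∈ Submodule.map f (I ^ (n + 1) • (⊤ : Submodule A L)) := by
    rw [Submodule.map_smul'', Submodule.map_top]
    exact Submodule.smul_mono le_rfl inf_le_right h1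
  obtain ⟨w, hw, hwv⟩ := h2
  exact (Submodule.Quotient.mk_eq_zero _).2 (hf hwv ▸ hw)

end Quot

end Aux


open AlgebraicGeometry in
/-- Second assertion, for the short exact sequence of coherent modules on U attached to a short exact
sequence 0 → M' → M → M'' → 0 of finite A-modules; I ⊆ 𝔞 ideals of a Noetherian ring A, U = Spec A ∖
V(𝔞). If the comparison map (colimit over the opens V ⊆ U containing U ∩ V(I) of the sections over
V, to the limit of the sections of the quotients by powers of I over U) is bijective for M and for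
M'', then it is bijective for M'. (The published sentence reads 'if the middle and left arrows are
isomorphisms, so is the left'; the diagram chase its proof describes, with both rows left exact,
gives the left arrow from the middle and right ones, which is what is stated here.) -/
theorem result (A : Type u) [CommRing A] [IsNoetherianRing A] (I 𝔞 : Ideal A) (hI : I ≤ 𝔞)
    (M' M M'' : Type u) [AddCommGroup M'] [Module A M'] [AddCommGroup M] [Module A M] [AddCommGroup M''] [Module A M'']
    [Module.Finite A M'] [Module.Finite A M] [Module.Finite A M'']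
    (f : M' →ₗ[A] M) (g : M →ₗ[A] M'') (hf : Function.Injective f) (hg : Function.Surjective g)
    (hfg : LinearMap.range f = LinearMap.ker g)
    (h : Formal2.FormalCohColimBijective A I M 0 (LocCoh.puncturedOpen A 𝔞))
    (h'' : Formal2.FormalCohColimBijective A I M'' 0 (LocCoh.puncturedOpen A 𝔞)) :
    Formal2.FormalCohColimBijective A I M' 0 (LocCoh.puncturedOpen A 𝔞) := by

    constructor
    · intro V hV x hx
      obtain ⟨V', h', hx'⟩ := h.1 V hV (HVmap A f 0 V x) fun n => by
        rw [Aux.map_map_cl, ← Aux.qmap_π, ← Aux.map_map_cl, hx n, map_zero]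
      exact ⟨V', h', Aux.eq_zero_of_map hf (by rw [← Aux.res_map]; exact hx')⟩
    · intro y hy
      obtain ⟨V, hV, x, hx⟩ := h.2 (fun n => HVmap A (Aux.qmap I f n) 0 _ (y n)) fun n => by
        rw [Aux.map_map_cl, ← Aux.qmap_trans, ← Aux.map_map_cl, hy n]
      have hgf : g ∘ₗ f = 0 := LinearMap.range_le_ker_iff.1 hfg.le
      have hzero : ∀ n, Aux.qmap I g n ∘ₗ Aux.qmap I f n = 0 := fun n =>
        Submodule.linearMap_qext _ (LinearMap.ext fun v => by
          show (I ^ (n + 1) • (⊤ : Submodule A M'')).mkQ (g (f v)) = 0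
          rw [show g (f v) = 0 from LinearMap.congr_fun hgf v, map_zero])
      obtain ⟨V', ⟨hV', hle⟩, hx'⟩ := h''.1 V hV (HVmap A g 0 V x) fun n => by
        rw [Aux.map_map_cl, ← Aux.qmap_π, ← Aux.map_map_cl, ← hx n, Aux.res_map, Aux.map_map_cl, hzero,
          Aux.map_zero_map]
      rw [Aux.res_map] at hx'
      obtain ⟨x', hx''⟩ := Aux.exists_of_map_eq_zero hf hg hfg hx'
      refine ⟨V', hV', x', fun n => (sub_eq_zero.1 ?_).symm⟩
      obtain ⟨k, hk⟩ := Aux.exists_ker_le I hf n
      let d : HV A (quotPow A I M' (n + k)) 0 V' :=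
        HVmap A (quotPowπ A I M' (n + k)) 0 V' x' - HVres A _ 0 hV'.1 (y (n + k))
      have hd : HVmap A (Aux.qmap I f (n + k)) 0 V' d = 0 := by
        rw [map_sub, sub_eq_zero, Aux.map_map_cl, Aux.qmap_π, ← Aux.map_map_cl, hx'', ← Aux.res_map,
          ← Aux.res_map, ← hx (n + k), Aux.res_res]
      have h2 := Aux.map_eq_zero_of_ker_le hk hd
      rw [map_sub, Aux.map_map_cl, Aux.tr_π, ← Aux.res_map, Aux.tr_family I hy n k] at h2
      exact h2

end Groth.Agent.S9541
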