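import Groth.Statements.S9543
import Groth.Agent.Synt29.FormalSectO
import Groth.Agent.Synt29.QASections
import Groth.Agent.H28.PushLocFree

set_option autoImplicit false
set_option linter.style.haveILetI false
set_option backward.isDefEq.respectTransparency false
set_option backward.isDefEq.respectTransparency.types false
set_option maxHeartbeats 1000000
universe u
open CategoryTheory
open Formal2 TopologicalSpace
open Groth.Agent

namespace Groth.Agent.S9543

open AlgebraicGeometry Opposite in
/-- Let A be a Noetherian ring, f an element of an ideal 𝔞 with A complete for the f-adic topology, U =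
Spec A ∖ V(𝔞), and assume that H^1_𝔞(A) and H^2_𝔞(A) are each annihilated by a power of f. Then the
completion functor for the ideal (f) is fully faithful on finite locally free O_U-modules. (The
published statement writes the target category with an unnamed ideal I; the proof is for the ideal
(f), which is what is stated.) -/
theorem result (A : Type u) [CommRing A]
    [IsNoetherianRing A] (𝔞 : Ideal A) (f : A) (hf : f ∈ 𝔞) [IsAdicComplete (Ideal.span {f}) A]
    (h₁ : ∃ n : ℕ, ∀ x : LocCoh.H 𝔞 1 A, f ^ n • x = 0) (h₂ : ∃ n : ℕ, ∀ x : LocCoh.H 𝔞 2 A, f ^ n • x = 0) :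
    ∀ (E E' : (↑(LocCoh.puncturedOpen A 𝔞) : Scheme.{u}).Modules), FlatMod.IsFinLocFree E → FlatMod.IsFinLocFree E' →
      ∀ ψ : Formal.completion (Ideal.span {f}) E ⟶ Formal.completion (Ideal.span {f}) E',
        ∃! φ : E ⟶ E', ∀ n : ℕ, Formal.modPowπ (Ideal.span {f}) (n + 1) E ≫ ψ.app (op n) = φ ≫ Formal.modPowπ (Ideal.span {f}) (n + 1) E' := by
  intro E E' hE hE' ψ
  obtain ⟨c₁, hc₁⟩ := h₁
  obtain ⟨c₂, hc₂⟩ := h₂
  have hO := Synt29.FormalSectO.bijective_toHHlim_O f 𝔞 c₁ hc₁ c₂ hc₂
  let U := LocCoh.puncturedOpen A 𝔞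
  haveI : IsNoetherianRing (CommRingCat.of A) := inferInstanceAs (IsNoetherianRing A)
  haveI : IsNoetherian (U : Scheme.{u}) := by
    haveI : IsLocallyNoetherian (U : Scheme.{u}) := LocallyOfFiniteType.isLocallyNoetherian U.ι
    haveI : CompactSpace (U : Scheme.{u}) := by
      haveI : NoetherianSpace (Spec (CommRingCat.of A)) := inferInstanceAs (NoetherianSpace (PrimeSpectrum A))
      exact isCompact_iff_compactSpace.mp (NoetherianSpace.isCompact _)
    exact {}
  haveI : (U : Scheme.{u}).IsQuasiAffine := Scheme.IsQuasiAffine.of_isImmersion U.ι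
  have hH : Function.Bijective (Formal.toHHlim (Ideal.span {f}) ((SheafHomX.hom E).obj E') 0) :=
    Synt29.QASections.bijective_of_homLim _ (Synt29.QASections.homLim_of_dual _ (SheafHomX.isFinLocFree_hom hE hE')
      (Synt29.QASections.homLim_of_quasiAffine _ (Synt29.QASections.homLim_of_bijective _ hO) _
        (QCoh.isQCoh_of_isFinLocFree (H9Misc.LocFreeHomTensor.isFinLocFree_dual (SheafHomX.isFinLocFree_hom hE hE')))))
  exact SheafHomX.existsUnique_of_bijective (Ideal.span {f}) (H28.PushLocFree.isCoh_of_isFinLocFree hE)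
    (H28.PushLocFree.isCoh_of_isFinLocFree hE') hH ψ

end Groth.Agent.S9543
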