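import Groth.Statements.S9552
import Groth.Agent.Algz7.CohFormal
-- import your own Groth.Agent.* helpers here

set_option autoImplicit false
universe u
open CategoryTheory CategoryTheory.Limits AlgebraicGeometry Opposite
open Algz

namespace Groth.Agent.S9552

/-- For the ideal sheaf I O_X of an ideal I of a base ring A and a Noetherian scheme X over Spec A, two
objects of Coh(X, I O_X) which are pro-isomorphic are isomorphic as inverse systems (existence of an
isomorphism; positions shifted by one). -/
theorem result (A : Type u) [CommRing A] (I : Ideal A) (X : Scheme.{u})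
    [X.Over (Spec (CommRingCat.of A))] [IsNoetherian X] (F G : ℕᵒᵖ ⥤ X.Modules)
    (hF : Formal.IsCohFormal I F) (hG : Formal.IsCohFormal I G) (h : Algz.IsProIsomorphic F G) :
    Nonempty (F ≅ G) := Groth.Agent.Algz7.nonempty_iso_of_isProIsomorphic hF hG h

end Groth.Agent.S9552
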