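import Groth.Statements.S9558
import Groth.Agent.SplitUnr7.Branches
-- import your own Groth.Agent.* helpers here

set_option autoImplicit false
universe u
open EtLocal

namespace Groth.Agent.S9558

open AlgebraicGeometry CategoryTheory Limits in
/-- Let f : X ⟶ S be a separated morphism of schemes, s a point of S and x_1, …, x_n pairwise distinct
points of X over s such that f is étale at each x_i (the restriction of f to some open neighbourhood
of x_i is étale). Then there are an étale morphism g : U ⟶ S, a point u of U over s, and a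
decomposition of X_U = X ×_S U into pairwise disjoint open subschemes W and finitely many V_k which
together cover X_U, such that each V_k ⟶ U is an isomorphism and no point of W over u maps to any of
the x_i. -/
theorem result {X S : Scheme.{u}} (f : X ⟶ S)
    [IsSeparated f] (s : S)
    {ι : Type} [Finite ι] (x : ι → ↑X) (hinj : Function.Injective x) (hs : ∀ i, f (x i) = s)
    (hx : ∀ i, ∃ W : X.Opens, x i ∈ W ∧ Etale (W.ι ≫ f)) :
    ∃ (U : Scheme.{u}) (g : U ⟶ S) (u : U), Etale g ∧ g u = s ∧
      ∃ (K : Type) (_ : Finite K) (W : (pullback f g).Opens) (V : K → (pullback f g).Opens),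
        W ⊔ (⨆ k, V k) = ⊤ ∧ (∀ k, Disjoint W (V k)) ∧ (∀ k k', k ≠ k' → Disjoint (V k) (V k')) ∧
        (∀ k, IsIso ((V k).ι ≫ pullback.snd f g)) ∧
        (∀ (w : ↑(pullback f g)) (i : ι), w ∈ W → pullback.snd f g w = u → pullback.fst f g w ≠ x i) := by
  choose W₀ hW₀ het₀ using hx
  choose W hW hWa het using fun i => Groth.Agent.SplitUnr7.exists_affine_nhd (f := f) @Etale
    (fun e _ => inferInstance) (hW₀ i) (het₀ i)
  obtain ⟨U, g, u, hg, hgu, K, hK, lab, V, P, hiso⟩ :=
    Groth.Agent.SplitUnr7.exists_pieces_iso f s x hinj hs W hW hWa het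
  haveI := hK
  obtain ⟨G, hG, hdG⟩ := Groth.Agent.SplitUnr7.exists_disjoint P
  have P' := P.restrict G hG
  obtain ⟨R, h1, h2, h3, h4⟩ := P'.decomp fun k k' hne w h h' => hdG k k' hne _ h h' (by
    rw [← Scheme.Hom.comp_apply, (Groth.Agent.SplitUnr7.isPullback_restrictBase f g G).w, Scheme.Hom.comp_apply]
    exact Subtype.coe_prop _)
  refine ⟨G, G.ι ≫ g, ⟨u, hG⟩, MorphismProperty.comp_mem @Etale _ _ inferInstance hg, ?_, K, hK, R, _,
    h1, h2, h3, fun k => ?_, h4⟩
  · rw [Scheme.Hom.comp_apply]; exact hgu
  · exact MorphismProperty.of_isPullback (P := MorphismProperty.isomorphisms Scheme)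
      ((isPullback_morphismRestrict _ (V k)).paste_vert (Groth.Agent.SplitUnr7.isPullback_restrictBase f g G)) (hiso k)

end Groth.Agent.S9558
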