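import Groth.Statements.S9559
import Mathlib.AlgebraicGeometry.Morphisms.FlatMono
import Groth.Agent.EtFound.FiniteSplit
-- import your own Groth.Agent.* helpers here

set_option autoImplicit false
set_option backward.isDefEq.respectTransparency.types false
open CategoryTheory CategoryTheory.Limits AlgebraicGeometry Opposite
universe u
open EtLocal

namespace Groth.Agent.S9559

/-- A finite étale morphism f : X ⟶ S becomes, after base change to a suitable étale neighbourhood (U,
u) of any point s of S, a finite disjoint union of copies of U: X_U is isomorphic over U to a finite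
coproduct of schemes V_j each of which maps isomorphically onto U. -/
theorem result {X S : Scheme.{u}} (f : X ⟶ S) [IsFinite f] [Etale f] (s : S) :
    ∃ (U : Scheme.{u}) (g : U ⟶ S) (_ : AlgebraicGeometry.Etale g) (u : U) (_ : g.base u = s)
      (n : ℕ) (V : Fin n → Scheme.{u}) (c : ∀ j, V j ⟶ U) (_ : ∀ j, IsIso (c j))
      (e : (∐ V) ≅ pullback f g), ∀ j, Sigma.ι V j ≫ e.hom ≫ pullback.snd f g = c j := by
  classical
  let Ω : Type u := AlgebraicClosure (S.residueField s)
  let η : Spec (CommRingCat.of Ω) ⟶ S :=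
    Spec.map (CommRingCat.ofHom (algebraMap (S.residueField s) Ω)) ≫ S.fromSpecResidueField s
  have hη : η.base (default : Spec (CommRingCat.of Ω)) = s := by
    show (Spec.map (CommRingCat.ofHom (algebraMap (S.residueField s) Ω)) ≫ S.fromSpecResidueField s).base _ = s
    rw [Scheme.Hom.comp_apply]
    exact Scheme.fromSpecResidueField_apply _ _
  obtain ⟨W, w, Q, hd, hc, hm, hci⟩ := Groth.Agent.EtFound.exists_closedImmersion_stage f η
  haveI := Groth.Agent.EtFound.finite_points f η
  obtain ⟨n, ⟨e⟩⟩ := Finite.exists_equiv_fin {ξ : Spec (CommRingCat.of Ω) ⟶ X // ξ ≫ f = η}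
  haveI : Etale W.hom := W.prop
  let P : Scheme.{u} := pullback W.hom f
  let q : ∀ j : Fin n, P.Opens := fun j => Q (e.symm j)
  let h : ∀ j, (q j).toScheme ⟶ W.left := fun j => (q j).ι ≫ pullback.fst W.hom f
  haveI : ∀ j, IsClosedImmersion (h j) := fun j => hci (e.symm j)
  haveI het : ∀ j, Etale (h j) := fun j => by
    haveI : Etale (pullback.fst W.hom f) := MorphismProperty.pullback_fst _ _ ‹Etale f›
    exact MorphismProperty.comp_mem @Etale _ _ inferInstance inferInstance
  let u₀ : W.left := (w.left : Spec (CommRingCat.of Ω) ⟶ W.left).base (default : Spec (CommRingCat.of Ω))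
  let U₀ : W.left.Opens := ⟨⋂ j, Set.range (h j).base, isOpen_iInter_of_finite fun j => (h j).isOpenMap.isOpen_range⟩
  have hu₀ : u₀ ∈ U₀ := Set.mem_iInter.mpr fun j => by
    obtain ⟨x, hx⟩ : ((Groth.Agent.EtFound.liftPt f (e.symm j).2 w).left : Spec (CommRingCat.of Ω) ⟶ P).base
        (default : Spec (CommRingCat.of Ω)) ∈ Set.range (q j).ι.base := by
      rw [Scheme.Opens.range_ι]; exact hm (e.symm j)
    refine ⟨x, ?_⟩
    show ((q j).ι ≫ pullback.fst W.hom f).base x = _
    rw [Scheme.Hom.comp_apply, hx]
    refine (Scheme.Hom.comp_apply _ (pullback.fst W.hom f) _).symm.trans ?_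
    exact congrArg (fun m : Spec (CommRingCat.of Ω) ⟶ W.left => m.base (default : Spec (CommRingCat.of Ω)))
      (Groth.Agent.EtFound.liftPt_fst f (e.symm j).2 w)
  let U : Scheme.{u} := U₀.toScheme
  let g : U ⟶ S := U₀.ι ≫ W.hom
  have hget : AlgebraicGeometry.Etale g := MorphismProperty.comp_mem @Etale _ _ inferInstance inferInstance
  refine ⟨U, g, hget, ⟨u₀, hu₀⟩, ?_, n, fun j => pullback (h j) U₀.ι, fun j => pullback.snd _ _, fun j => ?_, ?_⟩
  · show (U₀.ι ≫ W.hom).base _ = s
    rw [Scheme.Hom.comp_apply]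
    show W.hom.base u₀ = s
    rw [← hη]
    refine (Scheme.Hom.comp_apply _ W.hom _).symm.trans ?_
    exact congrArg (fun m : Spec (CommRingCat.of Ω) ⟶ S => m.base (default : Spec (CommRingCat.of Ω))) (CategoryTheory.Over.w w)
  · haveI : IsOpenImmersion (pullback.snd (h j) U₀.ι) := IsOpenImmersion.of_flat_of_mono _
    refine isIso_of_isOpenImmersion_of_opensRange_eq_top _ (TopologicalSpace.Opens.ext ?_)
    show Set.range (pullback.snd (h j) U₀.ι).base = Set.univ
    rw [Scheme.Pullback.range_snd]
    exact Set.eq_univ_of_forall fun y => Set.mem_iInter.mp y.2 j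
  · let φ : ∀ j, pullback (h j) U₀.ι ⟶ pullback f g := fun j =>
      pullback.lift (pullback.fst (h j) U₀.ι ≫ (q j).ι ≫ pullback.snd W.hom f) (pullback.snd (h j) U₀.ι) (by
        simp only [Category.assoc, g]
        rw [← pullback.condition, ← Category.assoc (q j).ι, pullback.condition_assoc])
    -- `pullback f g` is the part of `P` over `U`
    let ψ : pullback f g ⟶ P := pullback.lift (pullback.snd f g ≫ U₀.ι) (pullback.fst f g) (by
      rw [Category.assoc]; exact (pullback.condition (f := f) (g := g)).symm)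
    have hψ : IsPullback ψ (pullback.snd f g) (pullback.fst W.hom f) U₀.ι := by
      refine IsPullback.of_right ?_ (pullback.lift_fst _ _ _) (IsPullback.of_hasPullback W.hom f).flip
      rw [pullback.lift_snd]
      exact IsPullback.of_hasPullback f g
    haveI : IsOpenImmersion ψ := MorphismProperty.of_isPullback hψ.flip (inferInstance : IsOpenImmersion U₀.ι)
    have hφψ : ∀ j, φ j ≫ ψ = pullback.fst (h j) U₀.ι ≫ (q j).ι := fun j => by
      apply pullback.hom_ext
      · refine (Category.assoc _ _ _).trans ((congrArg (φ j ≫ ·) (pullback.lift_fst _ _ _)).trans ?_)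
        refine (pullback.lift_snd_assoc _ _ _ U₀.ι).trans ?_
        exact (pullback.condition (f := h j) (g := U₀.ι)).symm.trans (Category.assoc _ _ _).symm
      · refine (Category.assoc _ _ _).trans ((congrArg (φ j ≫ ·) (pullback.lift_snd _ _ _)).trans ?_)
        exact (pullback.lift_fst _ _ _).trans (Category.assoc _ _ _).symm
    haveI : ∀ j, IsOpenImmersion (φ j) := fun j => by
      haveI : IsOpenImmersion (φ j ≫ ψ) := by rw [hφψ]; infer_instance
      exact IsOpenImmersion.of_comp _ ψ
    have hmem : ∀ j y, y ∈ (φ j).opensRange ↔ ψ.base y ∈ q j := fun j y => by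
      constructor
      · rintro ⟨z, rfl⟩
        rw [← Scheme.Hom.comp_apply, hφψ, Scheme.Hom.comp_apply]
        exact ((pullback.fst (h j) U₀.ι).base z).2
      · intro hy
        have hU : (h j).base ⟨ψ.base y, hy⟩ = U₀.ι.base ((pullback.snd f g).base y) := by
          show ((q j).ι ≫ pullback.fst W.hom f).base _ = _
          rw [← Scheme.Hom.comp_apply, ← hψ.w, Scheme.Hom.comp_apply, Scheme.Hom.comp_apply]
          rfl
        obtain ⟨z, hz, -⟩ := Scheme.Pullback.exists_preimage_pullback _ _ hU
        refine ⟨z, ψ.isOpenEmbedding.injective ?_⟩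
        rw [← Scheme.Hom.comp_apply, hφψ, Scheme.Hom.comp_apply, hz]
        rfl
    obtain ⟨hlim⟩ := nonempty_isColimit_cofanMk_of φ (TopologicalSpace.Opens.ext (Set.eq_univ_of_forall fun y => by
      obtain ⟨a, ha⟩ := TopologicalSpace.Opens.mem_iSup.mp (hc.ge (TopologicalSpace.Opens.mem_top (ψ.base y)))
      refine TopologicalSpace.Opens.mem_iSup.mpr ⟨e a, (hmem _ y).mpr ?_⟩
      show ψ.base y ∈ Q (e.symm (e a))
      rw [e.symm_apply_apply]
      exact ha)) (fun i j hij => by
      rw [Function.onFun, ← TopologicalSpace.Opens.coe_disjoint, Set.disjoint_left]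
      intro y hi hj
      have hne : e.symm i ≠ e.symm j := fun h => hij (e.symm.injective h)
      exact Set.disjoint_left.mp (TopologicalSpace.Opens.coe_disjoint.mpr (hd hne)) ((hmem i y).mp hi) ((hmem j y).mp hj))
    refine ⟨(coproductIsCoproduct _).coconePointUniqueUpToIso hlim, fun j => ?_⟩
    exact ((coproductIsCoproduct _).comp_coconePointUniqueUpToIso_hom_assoc hlim ⟨j⟩ (pullback.snd f g)).trans (pullback.lift_snd _ _ _)

end Groth.Agent.S9559
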