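import Groth.Statements.S9562
import Groth.Agent.EtLocal7.Completion
-- import your own Groth.Agent.* helpers here

set_option autoImplicit false
universe u
open EtLocal

namespace Groth.Agent.S9562

/-- Let A → B be a local homomorphism of Noetherian local rings with B essentially of finite type over
A, and let ψ be the induced map between the completions of A and B at their maximal ideals (a ring
map of the completions whose composite with A → A^ is A → B → B^; such a map is unique). Then A → B
is an étale homomorphism of local rings, i.e. B is flat over A, m_A B = m_B and the residue field of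
B is a finite separable extension of that of A, if and only if ψ is an étale ring map; moreover in
that case the completion of B is, through ψ, a free module of finite positive rank over the
completion of A. (The published statement lists a third equivalent condition, that ψ is itself an
étale homomorphism of local rings; this row keeps the two outer ones.) -/
theorem result (A B : Type u) [CommRing A] [CommRing B]
    [IsLocalRing A] [IsLocalRing B] [IsNoetherianRing A] [IsNoetherianRing B] [Algebra A B]
    [IsLocalHom (algebraMap A B)] [Algebra.EssFiniteType A B]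
    (ψ : AdicCompletion (IsLocalRing.maximalIdeal A) A →+* AdicCompletion (IsLocalRing.maximalIdeal B) B)
    (hψ : ψ.comp (algebraMap A (AdicCompletion (IsLocalRing.maximalIdeal A) A)) =
      (algebraMap B (AdicCompletion (IsLocalRing.maximalIdeal B) B)).comp (algebraMap A B)) :
    ((Module.Flat A B ∧ (IsLocalRing.maximalIdeal A).map (algebraMap A B) = IsLocalRing.maximalIdeal B ∧
        Module.Finite (IsLocalRing.ResidueField A) (IsLocalRing.ResidueField B) ∧
        Algebra.IsSeparable (IsLocalRing.ResidueField A) (IsLocalRing.ResidueField B)) ↔ ψ.Etale) ∧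
      (ψ.Etale →
        letI := ψ.toAlgebra
        ∃ n : ℕ, 0 < n ∧
          Nonempty ((Fin n → AdicCompletion (IsLocalRing.maximalIdeal A) A) ≃ₗ[AdicCompletion (IsLocalRing.maximalIdeal A) A]
            AdicCompletion (IsLocalRing.maximalIdeal B) B)) := by
  haveI := Groth.Agent.EtLocal7.isLocalHom_completion ψ hψ
  letI := ψ.toAlgebra
  haveI : IsLocalHom (algebraMap (AdicCompletion (IsLocalRing.maximalIdeal A) A)
    (AdicCompletion (IsLocalRing.maximalIdeal B) B)) := Groth.Agent.EtLocal7.isLocalHom_completion ψ hψ
  haveI := Groth.Agent.LC.Canon.isNoetherianRing_completion (R := A)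
  have back : ψ.Etale → Module.Flat A B ∧
      (IsLocalRing.maximalIdeal A).map (algebraMap A B) = IsLocalRing.maximalIdeal B ∧
      Module.Finite (IsLocalRing.ResidueField A) (IsLocalRing.ResidueField B) ∧
      Algebra.IsSeparable (IsLocalRing.ResidueField A) (IsLocalRing.ResidueField B) := by
    intro h
    haveI : Algebra.Etale (AdicCompletion (IsLocalRing.maximalIdeal A) A)
      (AdicCompletion (IsLocalRing.maximalIdeal B) B) := h
    obtain ⟨hm, hsep⟩ := (Groth.Agent.EtLocal7.unramified_iff A B hψ).mpr inferInstance
    refine ⟨RingHom.flat_algebraMap_iff.mp ((Groth.Agent.S9231.result A B ψ hψ).mp ?_), hm,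
      (Groth.Agent.EtLocal7.finite_residue_iff A B hψ).mpr (Groth.Agent.EtLocal7.finite_residue_of_finiteType A B), hsep⟩
    exact (inferInstance : Module.Flat (AdicCompletion (IsLocalRing.maximalIdeal A) A)
      (AdicCompletion (IsLocalRing.maximalIdeal B) B))
  refine ⟨⟨?_, back⟩, fun h => ?_⟩
  · rintro ⟨hflat, hm, hfin, hsep⟩
    haveI := Groth.Agent.EtLocal7.finite_completion A B hψ hm
    haveI : Module.Flat (AdicCompletion (IsLocalRing.maximalIdeal A) A) (AdicCompletion (IsLocalRing.maximalIdeal B) B) :=
      (Groth.Agent.S9231.result A B ψ hψ).mpr (RingHom.flat_algebraMap_iff.mpr hflat)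
    haveI : Algebra.FormallyUnramified (AdicCompletion (IsLocalRing.maximalIdeal A) A)
        (AdicCompletion (IsLocalRing.maximalIdeal B) B) := (Groth.Agent.EtLocal7.unramified_iff A B hψ).mp ⟨hm, hsep⟩
    haveI : Algebra.FinitePresentation (AdicCompletion (IsLocalRing.maximalIdeal A) A)
        (AdicCompletion (IsLocalRing.maximalIdeal B) B) :=
      (Algebra.FinitePresentation.of_finiteType).mp (Module.Finite.finiteType _)
    exact (Algebra.Etale.of_formallyUnramified_of_flat : Algebra.Etale (AdicCompletion (IsLocalRing.maximalIdeal A) A)
      (AdicCompletion (IsLocalRing.maximalIdeal B) B))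
  · obtain ⟨hflat, hm, hfin, hsep⟩ := back h
    haveI := Groth.Agent.EtLocal7.finite_completion A B hψ hm
    haveI : Module.Flat (AdicCompletion (IsLocalRing.maximalIdeal A) A) (AdicCompletion (IsLocalRing.maximalIdeal B) B) :=
      (Groth.Agent.S9231.result A B ψ hψ).mpr (RingHom.flat_algebraMap_iff.mpr hflat)
    haveI := Module.free_of_flat_of_isLocalRing (R := AdicCompletion (IsLocalRing.maximalIdeal A) A)
      (P := AdicCompletion (IsLocalRing.maximalIdeal B) B)
    exact ⟨Module.finrank (AdicCompletion (IsLocalRing.maximalIdeal A) A) (AdicCompletion (IsLocalRing.maximalIdeal B) B),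
      Nat.pos_of_ne_zero fun h0 => by
        have b := (Module.finBasis (AdicCompletion (IsLocalRing.maximalIdeal A) A)
          (AdicCompletion (IsLocalRing.maximalIdeal B) B)).reindex (finCongr h0)
        haveI : Subsingleton (AdicCompletion (IsLocalRing.maximalIdeal B) B) := b.equivFun.injective.subsingleton
        exact false_of_nontrivial_of_subsingleton (AdicCompletion (IsLocalRing.maximalIdeal B) B),
      ⟨(Module.finBasis _ _).equivFun.symm⟩⟩

end Groth.Agent.S9562
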