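import Groth.Statements.S9563
import Groth.Agent.EtLoc7.Basic

set_option autoImplicit false
universe u
open EtLocal

namespace Groth.Agent.S9563

/-- Let A → B be an étale homomorphism of Noetherian local rings, i.e. a local homomorphism with B
essentially of finite type and flat over A, m_A B = m_B, and residue field of B finite separable
over that of A. Then there are a standard étale A-algebra B' = A[t]_g/(f) (f monic and f' invertible
in B') and a prime 𝔮 of B' such that B is isomorphic as an A-algebra to the localization of B' at 𝔮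
(existence of an isomorphism). -/
theorem result (A B : Type u) [CommRing A] [CommRing B]
    [IsLocalRing A] [IsLocalRing B] [IsNoetherianRing A] [IsNoetherianRing B] [Algebra A B]
    [IsLocalHom (algebraMap A B)] [Algebra.EssFiniteType A B] [Module.Flat A B]
    (hm : (IsLocalRing.maximalIdeal A).map (algebraMap A B) = IsLocalRing.maximalIdeal B)
    [Module.Finite (IsLocalRing.ResidueField A) (IsLocalRing.ResidueField B)]
    [Algebra.IsSeparable (IsLocalRing.ResidueField A) (IsLocalRing.ResidueField B)] :
    ∃ (P : StandardEtalePair A) (𝔮 : Ideal P.Ring) (_ : 𝔮.IsPrime),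
      Nonempty (B ≃ₐ[A] Localization.AtPrime 𝔮) := by
  have : Algebra.FormallyUnramified A B :=
    Algebra.FormallyUnramified.iff_map_maximalIdeal_eq.mpr ⟨inferInstance, hm⟩
  have hfe : Algebra.FormallyEtale A B := Groth.Agent.EtLoc7.formallyEtale_of_formallyUnramified A B
  let C := Algebra.EssFiniteType.subalgebra A B
  let M := Algebra.EssFiniteType.submonoid A B
  have : Algebra.FinitePresentation A C := Algebra.FinitePresentation.of_finiteType.mp inferInstance
  let Q : Ideal C := (IsLocalRing.maximalIdeal B).comap (algebraMap C B)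
  have : Q.IsPrime := Ideal.IsPrime.comap _
  have hM : M = Q.primeCompl := by
    ext x
    show IsUnit (algebraMap C B x) ↔ algebraMap C B x ∉ IsLocalRing.maximalIdeal B
    rw [IsLocalRing.mem_maximalIdeal, mem_nonunits_iff, not_not]
  have : IsLocalization Q.primeCompl B := hM ▸ Algebra.EssFiniteType.isLocalization A B
  have : Algebra.IsEtaleAt A Q := by
    exact Algebra.FormallyEtale.of_equiv ((IsLocalization.algEquiv Q.primeCompl B (Localization.AtPrime Q)).restrictScalars A)
  obtain ⟨f, hf, hstd⟩ := Algebra.IsEtaleAt.exists_isStandardEtale (R := A) Q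
  obtain ⟨⟨S⟩⟩ := hstd
  let L := Localization.Away f
  let e : S.P.Ring ≃ₐ[A] L := S.equivRing.symm
  let φ : L →ₐ[C] B := IsLocalization.liftAlgHom (M := Submonoid.powers f) (f := Algebra.ofId C B) fun y =>
    IsLocalization.map_units B (⟨y.1, Submonoid.powers_le.mpr hf y.2⟩ : Q.primeCompl)
  let : Algebra L B := φ.toRingHom.toAlgebra
  have : IsScalarTower C L B := .of_algebraMap_eq fun x => (φ.commutes x).symm
  have hL : IsLocalization (Algebra.algebraMapSubmonoid L Q.primeCompl) B :=
    IsLocalization.isLocalization_of_submonoid_le L B (Submonoid.powers f) Q.primeCompl (Submonoid.powers_le.mpr hf)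
  let g : S.P.Ring →ₐ[A] B := (φ.restrictScalars A).comp e.toAlgHom
  let 𝔮 : Ideal S.P.Ring := (IsLocalRing.maximalIdeal B).comap g
  have : 𝔮.IsPrime := Ideal.IsPrime.comap _
  let : Algebra S.P.Ring B := g.toRingHom.toAlgebra
  have : IsScalarTower A S.P.Ring B := .of_algebraMap_eq fun x => (g.commutes x).symm
  have : IsLocalization 𝔮.primeCompl B := by
    constructor
    refine ⟨fun y => ?_, fun z => ?_, fun {a b} h => ?_⟩
    · exact IsLocalRing.notMem_maximalIdeal.mp y.2
    · obtain ⟨⟨c, m⟩, hz⟩ := IsLocalization.surj (Algebra.algebraMapSubmonoid L Q.primeCompl) z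
      refine ⟨⟨e.symm c, ⟨e.symm m, ?_⟩⟩, ?_⟩
      · show g (e.symm m) ∉ IsLocalRing.maximalIdeal B
        rw [IsLocalRing.notMem_maximalIdeal]
        simpa [g, RingHom.algebraMap_toAlgebra] using IsLocalization.map_units B m
      · show z * φ (e (e.symm m)) = φ (e (e.symm c))
        rw [e.apply_symm_apply, e.apply_symm_apply]
        exact hz
    · obtain ⟨m, hm'⟩ := (IsLocalization.eq_iff_exists (Algebra.algebraMapSubmonoid L Q.primeCompl) B).mp
        (show algebraMap L B (e a) = algebraMap L B (e b) from h)
      refine ⟨⟨e.symm m, ?_⟩, e.injective ?_⟩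
      · show g (e.symm m) ∉ IsLocalRing.maximalIdeal B
        rw [IsLocalRing.notMem_maximalIdeal]
        simpa [g, RingHom.algebraMap_toAlgebra] using IsLocalization.map_units B m
      · rw [map_mul, map_mul, e.apply_symm_apply]
        exact hm'
  exact ⟨S.P, 𝔮, inferInstance,
    ⟨(IsLocalization.algEquiv 𝔮.primeCompl B (Localization.AtPrime 𝔮)).restrictScalars A⟩⟩


end Groth.Agent.S9563
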