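import Groth.Statements.S9564
import Groth.Agent.EtLoc7.Basic

set_option autoImplicit false
universe u
open EtLocal

namespace Groth.Agent.S9564

/-- Let A → B be an unramified homomorphism of Noetherian local rings, i.e. a local homomorphism with B
essentially of finite type over A, m_A B = m_B, and residue field of B finite separable over that of
A. Then there are a standard étale A-algebra B' = A[t]_g/(f) (f monic and f' invertible in B'), a
prime 𝔮 of B' and an ideal I of the localization of B' at 𝔮 such that B is isomorphic as an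
A-algebra to the quotient of that localization by I (existence of an isomorphism). -/
theorem result (A B : Type u) [CommRing A] [CommRing B]
    [IsLocalRing A] [IsLocalRing B] [IsNoetherianRing A] [IsNoetherianRing B] [Algebra A B]
    [IsLocalHom (algebraMap A B)] [Algebra.EssFiniteType A B]
    (hm : (IsLocalRing.maximalIdeal A).map (algebraMap A B) = IsLocalRing.maximalIdeal B)
    [Module.Finite (IsLocalRing.ResidueField A) (IsLocalRing.ResidueField B)]
    [Algebra.IsSeparable (IsLocalRing.ResidueField A) (IsLocalRing.ResidueField B)] :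
    ∃ (P : StandardEtalePair A) (𝔮 : Ideal P.Ring) (_ : 𝔮.IsPrime) (I : Ideal (Localization.AtPrime 𝔮)),
      Nonempty (B ≃ₐ[A] (Localization.AtPrime 𝔮 ⧸ I)) := by
  have : Algebra.FormallyUnramified A B :=
    Algebra.FormallyUnramified.iff_map_maximalIdeal_eq.mpr ⟨inferInstance, hm⟩
  let C := Algebra.EssFiniteType.subalgebra A B
  let M := Algebra.EssFiniteType.submonoid A B
  let Q : Ideal C := (IsLocalRing.maximalIdeal B).comap (algebraMap C B)
  have : Q.IsPrime := Ideal.IsPrime.comap _
  have hM : M = Q.primeCompl := by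
    ext x
    show IsUnit (algebraMap C B x) ↔ algebraMap C B x ∉ IsLocalRing.maximalIdeal B
    rw [IsLocalRing.mem_maximalIdeal, mem_nonunits_iff, not_not]
  have : IsLocalization Q.primeCompl B := hM ▸ Algebra.EssFiniteType.isLocalization A B
  have : Algebra.IsUnramifiedAt A Q := by
    exact Algebra.FormallyUnramified.of_equiv
      ((IsLocalization.algEquiv Q.primeCompl B (Localization.AtPrime Q)).restrictScalars A)
  obtain ⟨f, hf, P, ψ, hψ⟩ := Algebra.IsUnramifiedAt.exists_hasStandardEtaleSurjectionOn (R := A) Q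
  let L := Localization.Away f
  let φ : L →ₐ[C] B := IsLocalization.liftAlgHom (M := Submonoid.powers f) (f := Algebra.ofId C B) fun y =>
    IsLocalization.map_units B (⟨y.1, Submonoid.powers_le.mpr hf y.2⟩ : Q.primeCompl)
  let g : P.Ring →ₐ[A] B := (φ.restrictScalars A).comp ψ
  let 𝔮 : Ideal P.Ring := (IsLocalRing.maximalIdeal B).comap g
  have : 𝔮.IsPrime := Ideal.IsPrime.comap _
  let G : Localization.AtPrime 𝔮 →ₐ[A] B := IsLocalization.liftAlgHom (M := 𝔮.primeCompl) (f := g) fun y =>
    IsLocalRing.notMem_maximalIdeal.mp y.2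
  have hG : ∀ x, G (algebraMap P.Ring _ x) = g x := fun x => IsLocalization.lift_eq _ x
  have hGs : Function.Surjective G := by
    intro z
    obtain ⟨⟨c, m⟩, hz⟩ := IsLocalization.surj Q.primeCompl z
    obtain ⟨c', hc'⟩ := hψ (algebraMap C L c)
    obtain ⟨m', hm'⟩ := hψ (algebraMap C L m)
    have e1 : g c' = algebraMap C B c := (congrArg φ hc').trans (φ.commutes c)
    have e2 : g m' = algebraMap C B m := (congrArg φ hm').trans (φ.commutes m)
    have hu : IsUnit (g m') := e2 ▸ IsLocalization.map_units B m
    have hmem : m' ∈ 𝔮.primeCompl := (IsLocalRing.notMem_maximalIdeal.mpr hu : g m' ∉ IsLocalRing.maximalIdeal B)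
    refine ⟨IsLocalization.mk' (Localization.AtPrime 𝔮) c' (⟨m', hmem⟩ : 𝔮.primeCompl), hu.mul_left_injective ?_⟩
    have h3 := congrArg G (IsLocalization.mk'_spec (Localization.AtPrime 𝔮) c' (⟨m', hmem⟩ : 𝔮.primeCompl))
    rw [map_mul, hG, hG] at h3
    show G _ * g m' = z * g m'
    rw [h3, e1, e2]
    exact hz.symm
  exact ⟨P, 𝔮, inferInstance, RingHom.ker G, ⟨(Ideal.quotientKerAlgEquivOfSurjective hGs).symm⟩⟩


end Groth.Agent.S9564
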