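import Groth.Statements.S9567
import Mathlib
-- import your own Groth.Agent.* helpers here

set_option autoImplicit false
universe u
open EtLocal

namespace Groth.Agent.S9567

open AlgebraicGeometry CategoryTheory in
/-- Let φ : X ⟶ Y be any morphism of schemes, x a point of X and V an affine open neighbourhood of φ(x),
with ring R = Γ(Y, V). If φ is étale on some open neighbourhood of x, then there are an affine open
neighbourhood U of x with φ(U) ⊆ V, a monic polynomial p over R and an open immersion j of U into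
Spec of (R[t]/(p))[1/p′] (the localization of R[t]/(p) away from the image of the derivative of p)
such that j followed by the projection to Spec R is the morphism U → Spec R induced by φ. -/
theorem result {X Y : Scheme.{u}} (φ : X ⟶ Y) (x : X)
    (V : Y.Opens) (hV : IsAffineOpen V) (hxV : φ.base x ∈ V)
    (hφ : ∃ W : X.Opens, x ∈ W ∧ Etale (W.ι ≫ φ)) :
    ∃ (U : X.Opens) (hU : IsAffineOpen U) (_ : x ∈ U) (e : U ≤ φ ⁻¹ᵁ V)
      (p : Polynomial Γ(Y, V)) (_ : p.Monic)
      (j : U.toScheme ⟶ Spec (CommRingCat.of (Localization.Away (AdjoinRoot.mk p (Polynomial.derivative p))))),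
      IsOpenImmersion j ∧
        j ≫ Spec.map (CommRingCat.ofHom
            (algebraMap Γ(Y, V) (Localization.Away (AdjoinRoot.mk p (Polynomial.derivative p))))) =
          hU.isoSpec.hom ≫ Spec.map (φ.appLE V U e) := by
  obtain ⟨W, hxW, hW⟩ := hφ
  obtain ⟨U₀, hU₀, hxU₀, hU₀le⟩ := exists_isAffineOpen_mem_and_subset (show x ∈ W ⊓ φ ⁻¹ᵁ V from ⟨hxW, hxV⟩)
  have e₀ : U₀ ≤ φ ⁻¹ᵁ V := fun z hz => (hU₀le hz).2
  have heW : U₀ ≤ W := fun z hz => (hU₀le hz).1
  haveI := hV.isOpenImmersion_fromSpec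
  haveI hU₀et : Etale (Spec.map (φ.appLE V U₀ e₀)) := by
    haveI : Etale (U₀.ι ≫ φ) := by
      rw [← X.homOfLE_ι heW, Category.assoc]
      infer_instance
    haveI : Etale (Spec.map (φ.appLE V U₀ e₀) ≫ hV.fromSpec) := by
      rw [IsAffineOpen.SpecMap_appLE_fromSpec φ hV hU₀ e₀]
      show Etale ((hU₀.isoSpec.inv ≫ U₀.ι) ≫ φ)
      rw [Category.assoc]
      infer_instance
    exact Etale.of_comp _ hV.fromSpec
  letI : Algebra Γ(Y, V) Γ(X, U₀) := (φ.appLE V U₀ e₀).hom.toAlgebra
  haveI : Algebra.Etale Γ(Y, V) Γ(X, U₀) := RingHom.etale_algebraMap.mp ((HasRingHomProperty.Spec_iff (P := @Etale)).mp hU₀et)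
  obtain ⟨g, hg, hst⟩ := Algebra.IsEtaleAt.exists_isStandardEtale (R := Γ(Y, V))
    (hU₀.primeIdealOf ⟨x, hxU₀⟩).asIdeal
  obtain ⟨P⟩ := hst.nonempty_standardEtalePresentation
  have hU : IsAffineOpen (X.basicOpen g) := hU₀.basicOpen g
  have hxU : x ∈ X.basicOpen g := by
    have h1 : hU₀.primeIdealOf ⟨x, hxU₀⟩ ∈ hU₀.fromSpec ⁻¹ᵁ X.basicOpen g := by
      rw [hU₀.fromSpec_preimage_basicOpen]
      exact hg
    have h2 : hU₀.fromSpec (hU₀.primeIdealOf ⟨x, hxU₀⟩) ∈ X.basicOpen g := h1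
    rwa [hU₀.fromSpec_primeIdealOf] at h2
  have e : X.basicOpen g ≤ φ ⁻¹ᵁ V := (X.basicOpen_le g).trans e₀
  letI : Algebra Γ(Y, V) Γ(X, X.basicOpen g) := (φ.appLE V (X.basicOpen g) e).hom.toAlgebra
  haveI : IsScalarTower Γ(Y, V) Γ(X, U₀) Γ(X, X.basicOpen g) := IsScalarTower.of_algebraMap_eq' (by
    show (φ.appLE V (X.basicOpen g) e).hom = (φ.appLE V U₀ e₀ ≫ X.presheaf.map (homOfLE (X.basicOpen_le g)).op).hom
    rw [Scheme.Hom.appLE_map])
  haveI := hU₀.isLocalization_basicOpen g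
  let θ : Localization.Away (AdjoinRoot.mk P.f P.g) ≃ₐ[Γ(Y, V)] Γ(X, X.basicOpen g) :=
    (P.P.equivAwayAdjoinRoot.symm.trans P.equivRing.symm).trans
      ((IsLocalization.algEquiv (Submonoid.powers g) _ _).restrictScalars Γ(Y, V))
  have hu : IsUnit (algebraMap (AdjoinRoot P.f) (Localization.Away (AdjoinRoot.mk P.f P.g))
      (AdjoinRoot.mk P.f (Polynomial.derivative P.f))) := by
    have h := (StandardEtalePair.HasMap.isUnit_derivative_f (P := P.P)
      (x := algebraMap (AdjoinRoot P.f) (Localization.Away (AdjoinRoot.mk P.f P.g)) (AdjoinRoot.root P.f)) ⟨by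
        rw [Polynomial.aeval_algebraMap_apply, AdjoinRoot.aeval_eq, AdjoinRoot.mk_self, map_zero], by
        rw [Polynomial.aeval_algebraMap_apply, AdjoinRoot.aeval_eq]
        exact IsLocalization.Away.algebraMap_isUnit ..⟩)
    rwa [Polynomial.aeval_algebraMap_apply, AdjoinRoot.aeval_eq] at h
  let ψ : Localization.Away (AdjoinRoot.mk P.f (Polynomial.derivative P.f)) →ₐ[Γ(Y, V)]
      Localization.Away (AdjoinRoot.mk P.f P.g) :=
    IsLocalization.Away.liftAlgHom (AdjoinRoot.mk P.f (Polynomial.derivative P.f))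
      (f := IsScalarTower.toAlgHom Γ(Y, V) (AdjoinRoot P.f) _) hu
  haveI : IsOpenImmersion (Spec.map (CommRingCat.ofHom ψ.toRingHom)) := by
    have hc : ψ.toRingHom.comp (algebraMap (AdjoinRoot P.f) _) = algebraMap (AdjoinRoot P.f) _ :=
      RingHom.ext fun r => IsLocalization.lift_eq _ r
    haveI : IsOpenImmersion (Spec.map (CommRingCat.ofHom (algebraMap (AdjoinRoot P.f)
        (Localization.Away (AdjoinRoot.mk P.f (Polynomial.derivative P.f)))))) :=
      IsOpenImmersion.of_isLocalization (AdjoinRoot.mk P.f (Polynomial.derivative P.f))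
    haveI : IsOpenImmersion (Spec.map (CommRingCat.ofHom ψ.toRingHom) ≫ Spec.map (CommRingCat.ofHom
        (algebraMap (AdjoinRoot P.f) (Localization.Away (AdjoinRoot.mk P.f (Polynomial.derivative P.f)))))) := by
      rw [← Spec.map_comp, ← CommRingCat.ofHom_comp, hc]
      exact IsOpenImmersion.of_isLocalization (AdjoinRoot.mk P.f P.g)
    exact IsOpenImmersion.of_comp _ (Spec.map (CommRingCat.ofHom
      (algebraMap (AdjoinRoot P.f) (Localization.Away (AdjoinRoot.mk P.f (Polynomial.derivative P.f))))))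
  haveI : IsIso (Spec.map (CommRingCat.ofHom θ.toAlgHom.toRingHom)) := by
    haveI : IsIso (CommRingCat.ofHom θ.toAlgHom.toRingHom) :=
      (ConcreteCategory.isIso_iff_bijective _).2 θ.bijective
    infer_instance
  refine ⟨X.basicOpen g, hU, hxU, e, P.f, P.monic_f,
    hU.isoSpec.hom ≫ Spec.map (CommRingCat.ofHom θ.toAlgHom.toRingHom) ≫ Spec.map (CommRingCat.ofHom ψ.toRingHom),
    inferInstance, ?_⟩
  rw [Category.assoc, Category.assoc, ← Spec.map_comp, ← Spec.map_comp, ← CommRingCat.ofHom_comp,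
    ← CommRingCat.ofHom_comp]
  congr 2
  exact CommRingCat.hom_ext ((θ.toAlgHom.comp ψ).comp_algebraMap)

end Groth.Agent.S9567
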