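import Groth.Statements.S9568
import Mathlib.RingTheory.Kaehler.Basic
import Mathlib.RingTheory.Kaehler.Polynomial
import Mathlib.Algebra.Module.LocalizedModule.Submodule

set_option autoImplicit false
universe u
open EtLocal

namespace Groth.Agent.S9568

/-- Let A be a ring, φ a surjection from the polynomial ring P = A[x_1, …, x_n] onto an A-algebra B with
kernel I, q a prime of B and 𝔮 its preimage in P. Then the localization at q of the module of
differentials Ω_{B/A} vanishes if and only if the images of the differentials dg, g ∈ I, span the
localization of Ω_{P/A} at 𝔮 over P_𝔮. (Geometrically: for f locally of finite type, the stalk of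
Ω_{X/Y} at x vanishes iff near x the scheme X is a closed subscheme of an affine space over the base
cut out by an ideal whose germs at the point have differentials generating the stalk of Ω of the
affine space; the published statement also lists the equivalence with f being unramified at x and
with the diagonal being a local isomorphism at x, which this row does not restate. The published
statement asks for one such presentation near the point; this row states the equivalence for every
presentation, which is what the published proof shows and which implies the existential form.) -/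
theorem result {A B : Type u} [CommRing A] [CommRing B]
    [Algebra A B] (n : ℕ) (φ : MvPolynomial (Fin n) A →ₐ[A] B) (hφ : Function.Surjective φ)
    (q : Ideal B) [q.IsPrime] :
    Subsingleton (LocalizedModule q.primeCompl (KaehlerDifferential A B)) ↔
      Submodule.span (Localization.AtPrime (q.comap φ.toRingHom))
        ((LocalizedModule.mkLinearMap (q.comap φ.toRingHom).primeCompl
            (KaehlerDifferential A (MvPolynomial (Fin n) A))) ''
          ((KaehlerDifferential.D A (MvPolynomial (Fin n) A)) '' (RingHom.ker φ.toRingHom : Set (MvPolynomial (Fin n) A)))) = ⊤ := by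
  classical
  let P := MvPolynomial (Fin n) A
  let : Algebra P B := φ.toRingHom.toAlgebra
  have : IsScalarTower A P B := .of_algebraMap_eq fun a => (φ.commutes a).symm
  let D := KaehlerDifferential.D A P
  let I := RingHom.ker φ.toRingHom
  let K : Submodule P (KaehlerDifferential A P) := Submodule.span P (D '' (I : Set P))
  let π : KaehlerDifferential A P →ₗ[P] KaehlerDifferential A B := KaehlerDifferential.map A A P B
  have hIK : ∀ i ∈ I, ∀ x : P, i • D x ∈ K := fun i hi x => by
    have : i • D x = D (i * x) - x • D i := by
      simp [D, Derivation.leibniz]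
    rw [this]
    exact sub_mem (Submodule.subset_span ⟨_, I.mul_mem_right x hi, rfl⟩)
      (K.smul_mem _ (Submodule.subset_span ⟨i, hi, rfl⟩))
  have hker : ∀ ω, π ω = 0 → ω ∈ K := by
    intro ω hω
    have hω' : ω ∈ LinearMap.ker (KaehlerDifferential.map A A P B) := hω
    rw [KaehlerDifferential.ker_map_of_surjective A P B hφ] at hω'
    obtain ⟨c, hc, rfl⟩ := hω'
    choose σ hσ using hφ
    have hdiff : ∀ x : P, x - σ (φ x) ∈ I := fun x => by
      show φ (x - σ (φ x)) = 0
      rw [map_sub, hσ, sub_self]
    let ψ : B → B →+ KaehlerDifferential A P ⧸ K := fun b =>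
      { toFun := fun r => Submodule.Quotient.mk (σ r • D (σ b))
        map_zero' := (Submodule.Quotient.mk_eq_zero _).mpr (hIK _ (by show φ (σ 0) = 0; rw [hσ]) _)
        map_add' := fun r r' => by
          rw [← Submodule.Quotient.mk_add, Submodule.Quotient.eq, ← add_smul, ← sub_smul]
          refine hIK _ (by show φ _ = 0; rw [map_sub, map_add, hσ, hσ, hσ, sub_self]) _ }
    let Φ := Finsupp.liftAddHom ψ
    have key : ∀ c : P →₀ P, Submodule.Quotient.mk (Finsupp.linearCombination P D c) =
        Φ ((Finsupp.mapRange.linearMap (Algebra.linearMap P B)).comp (Finsupp.lmapDomain P P (algebraMap P B)) c) := by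
      intro c
      induction c using Finsupp.induction_linear with
      | zero => simp
      | add a b ha hb => rw [map_add, map_add, map_add, Submodule.Quotient.mk_add, ha, hb]
      | single x r =>
        simp only [Φ, Finsupp.linearCombination_single, LinearMap.comp_apply, Finsupp.lmapDomain_apply,
          Finsupp.mapDomain_single, Finsupp.mapRange.linearMap_apply, Finsupp.mapRange_single,
          Algebra.linearMap_apply, Finsupp.liftAddHom_apply_single]
        refine (Submodule.Quotient.eq K).mpr ?_
        rw [show algebraMap P B r = φ r from rfl, show algebraMap P B x = φ x from rfl]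
        have e : r • D x - σ (φ r) • D (σ (φ x)) = (r - σ (φ r)) • D x + σ (φ r) • D (x - σ (φ x)) := by
          rw [map_sub, smul_sub, sub_smul]; abel
        rw [e]
        exact add_mem (hIK _ (hdiff r) _) (K.smul_mem _ (Submodule.subset_span ⟨_, hdiff x, rfl⟩))
    refine (Submodule.Quotient.mk_eq_zero _).mp ((key c).trans ?_)
    exact (congrArg Φ (LinearMap.mem_ker.mp hc)).trans (map_zero Φ)
  have hKker : ∀ ω ∈ K, π ω = 0 := fun ω hω => by
    refine (Submodule.span_le (p := LinearMap.ker π)).mpr ?_ hω
    rintro _ ⟨i, hi, rfl⟩
    show π (D i) = 0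
    simp only [π, D, KaehlerDifferential.map_D]
    rw [show algebraMap P B i = 0 from hi, map_zero]
  have hπs : Function.Surjective π := KaehlerDifferential.map_surjective_of_surjective A A P B hφ
  let f := LocalizedModule.mkLinearMap (q.comap φ.toRingHom).primeCompl (KaehlerDifferential A P)
  let L := Localization.AtPrime (q.comap φ.toRingHom)
  have hspan : Submodule.span L (f '' (D '' (I : Set P))) =
      Submodule.localized' L (q.comap φ.toRingHom).primeCompl f K :=
    (Submodule.localized'_span (S := L) (p := (q.comap φ.toRingHom).primeCompl) (f := f) _).symm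
  rw [LocalizedModule.subsingleton_iff, hspan]
  constructor
  · intro h
    refine eq_top_iff.mpr fun z _ => ?_
    obtain ⟨⟨ω, t⟩, rfl⟩ := IsLocalizedModule.mk'_surjective (q.comap φ.toRingHom).primeCompl f z
    obtain ⟨r, hr, hr0⟩ := h (π ω)
    obtain ⟨s, rfl⟩ := hφ r
    have hs : (⟨s, hr⟩ : (q.comap φ.toRingHom).primeCompl) • ω = s • ω := rfl
    have hc := IsLocalizedModule.mk'_cancel_left f ω (⟨s, hr⟩ : (q.comap φ.toRingHom).primeCompl) t
    rw [hs] at hc
    refine (Submodule.mem_localized' L (q.comap φ.toRingHom).primeCompl f K _).mpr
      ⟨s • ω, hker _ ?_, _, hc⟩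
    rw [map_smul, ← hr0]
    exact (algebraMap_smul B s (π ω)).symm
  · intro h m
    obtain ⟨ω, rfl⟩ := hπs m
    obtain ⟨k, hk, s, hs⟩ := (Submodule.mem_localized' L (q.comap φ.toRingHom).primeCompl f K (f ω)).mp (h ▸ Submodule.mem_top)
    rw [IsLocalizedModule.mk'_eq_iff] at hs
    have hs' : f k = f ((s : P) • ω) := hs.trans (map_smul f (s : P) ω).symm
    obtain ⟨c, hc⟩ := (IsLocalizedModule.eq_iff_exists (q.comap φ.toRingHom).primeCompl f).mp hs'
    refine ⟨φ ((c : P) * s), by rw [map_mul]; exact q.primeCompl.mul_mem c.2 s.2, ?_⟩
    have e := congrArg π hc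
    simp only [Submonoid.smul_def, map_smul, hKker k hk, smul_zero] at e
    rw [show φ ((c : P) * s) = algebraMap P B ((c : P) * s) from rfl, algebraMap_smul, mul_smul]
    exact e.symm


end Groth.Agent.S9568
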