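import Groth.Statements.S9569
import Groth.Agent.InvX.GenEpi
import Groth.Agent.AmpleVan.Tw
import Groth.Agent.KFlatLib.Scheme.PullTensorCx
import Groth.Agent.KFlatLib.Scheme.Exact

set_option backward.isDefEq.respectTransparency false
set_option backward.isDefEq.respectTransparency.types false
set_option linter.style.haveILetI false

set_option autoImplicit false
universe u
open CategoryTheory CategoryTheory.Limits AlgebraicGeometry TopologicalSpace Opposite
open Constr

namespace Groth.Agent.S9569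

open Groth.Agent InvX

variable {X : Scheme.{u}} {M N L : X.Modules}

lemma app_tmul (φ : M ⟶ N) (L : X.Modules) {U : X.Opens} (a : Γ(M, U)) (b : Γ(L, U)) :
    ((AmpleVan.tw L).map φ).app U (tmul a b) = tmul (φ.app U a) b :=
  KFlatLib.tmSh_naturality_left φ L a b

lemma eq_zero_of_one (φ : Coh.structureModule X ⟶ M) (h : one φ = 0) : φ = 0 := by
  refine Scheme.Modules.hom_ext _ _ fun W => ?_
  ext r
  refine (app_eq_smul φ r).trans ?_
  rw [h, AModX.res, map_zero, smul_zero]
  rfl

lemma app_sub' (φ : M ⟶ N) {U : X.Opens} (a b : Γ(M, U)) : φ.app U (a - b) = φ.app U a - φ.app U b :=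
  map_sub _ a b

lemma eq_sum_map {R : Type u} [CommRing R] (F : X.Modules ⥤ ModuleCat.{u} R) [F.Additive] {I : Type*} [Fintype I]
    {A : I → X.Modules} (p : ∀ i, M ⟶ A i) (q : ∀ i, A i ⟶ M) (h : ∑ i, p i ≫ q i = 𝟙 M) (z : F.obj M) :
    z = ∑ i, F.map (q i) (F.map (p i) z) := by
  have h' := congrArg (fun φ => (F.map φ).hom z) h
  replace h' : (F.map (∑ i, p i ≫ q i)).hom z = (F.map (𝟙 M)).hom z := h'
  rw [F.map_sum, F.map_id, ModuleCat.hom_sum, LinearMap.sum_apply] at h'
  refine h'.symm.trans (Finset.sum_congr rfl fun i _ => ?_)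
  rw [F.map_comp]
  rfl

lemma tmul_comm_self (hL : PicF.IsInvertible L) (a b : Γ(L, (⊤ : X.Opens))) : tmul a b = tmul b a := by
  refine AModX.eq_of_locally _ _ fun x hx => ?_
  obtain ⟨U, hxU, e, he⟩ := exists_frame hL x
  refine ⟨U, le_top, hxU, ?_⟩
  obtain ⟨r, hr⟩ := he.exists_coord le_rfl (AModX.res L (le_top : U ≤ ⊤) a)
  obtain ⟨r', hr'⟩ := he.exists_coord le_rfl (AModX.res L (le_top : U ≤ ⊤) b)
  rw [AModX.res_self] at hr hr'
  rw [res_tmul, res_tmul, hr, hr', tmul_smul_left, tmul_smul_right, tmul_smul_left, tmul_smul_right,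
    ← mul_smul, ← mul_smul, mul_comm]


/-- Let X be a scheme, L an invertible O_X-module and s_0, …, s_n global sections of L, given as module
maps O_X → L, which generate L: the map O_X^{n+1} → L they induce is an epimorphism. Let F be the
kernel of that map. Then F ⊗ L is globally generated, i.e. it is a quotient of a free O_X-module. -/
theorem result (X : Scheme.{u}) (L : X.Modules) (hL : PicF.IsInvertible L)
    (n : ℕ) (s : Fin (n + 1) → (Coh.structureModule X ⟶ L))
    (hs : Epi (Sigma.desc s : FlatMod.freeMod X (n + 1) ⟶ L)) :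
    Curv2.IsGloballyGenerated (CohB1.tensorMod (kernel (Sigma.desc s : FlatMod.freeMod X (n + 1) ⟶ L)) L) := by
  let G : X.Modules := FlatMod.freeMod X (n + 1)
  let π : G ⟶ L := Sigma.desc s
  let T : X.Modules ⥤ X.Modules := AmpleVan.tw L
  haveI : T.IsEquivalence := AmpleVan.isEquivalence_tw hL
  haveI : T.Additive := Functor.additive_of_preserves_binary_products T
  let ι₀ : Fin (n + 1) → (Coh.structureModule X ⟶ G) := fun i => Sigma.ι (fun _ : Fin (n + 1) => Coh.structureModule X) i
  let e₀ : Fin (n + 1) → Γ(G, ⊤) := fun i => one (ι₀ i)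
  let t₀ : Fin (n + 1) → Γ(L, ⊤) := fun i => one (s i)
  have hπ : ∀ i, π.app ⊤ (e₀ i) = t₀ i := fun i => congrArg one (Sigma.ι_desc (f := fun _ : Fin (n + 1) => Coh.structureModule X) s i)
  let σ : Fin (n + 1) → Fin (n + 1) → Γ(CohB1.tensorMod G L, ⊤) := fun i k => tmul (e₀ i) (t₀ k) - tmul (e₀ k) (t₀ i)
  have hσ : ∀ i k, ofSect (σ i k) ≫ T.map π = 0 := fun i k => by
    refine eq_zero_of_one _ ?_
    show (T.map π).app ⊤ (one (ofSect (σ i k))) = 0
    rw [one_ofSect]
    refine (app_sub' (T.map π) _ _).trans ?_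
    rw [app_tmul, app_tmul, hπ, hπ, tmul_comm_self hL, sub_self]
  let lift : Fin (n + 1) → Fin (n + 1) → (Coh.structureModule X ⟶ T.obj (kernel π)) := fun i k =>
    kernel.lift (T.map π) (ofSect (σ i k)) (hσ i k) ≫ (PreservesKernel.iso T π).inv
  have hlift : ∀ i k, (T.map (kernel.ι π)).app ⊤ (one (lift i k)) = σ i k := fun i k => by
    have h : lift i k ≫ T.map (kernel.ι π) = ofSect (σ i k) := by
      rw [Category.assoc, PreservesKernel.iso_inv_ι, kernel.lift_ι]
    exact (congrArg one h).trans (one_ofSect _)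
  refine isGloballyGenerated_of_generated (ι := ULift.{u} (Fin (n + 1) × Fin (n + 1)))
    (s := fun p => one (lift p.down.1 p.down.2)) fun x => ?_
  obtain ⟨U, hx, e, he⟩ := exists_frame hL x
  let S : X.Modules ⥤ ModuleCat.{u} (X.presheaf.stalk x) := DerSch.stalkFunctor X x
  choose r hr using fun i => he.exists_coord le_rfl (AModX.res L (le_top : U ≤ ⊤) (t₀ i))
  replace hr : ∀ i, AModX.res L (le_top : U ≤ ⊤) (t₀ i) = r i • e := fun i => by
    rw [hr i, AModX.res_self]
  let c₀ : Fin (n + 1) → X.presheaf.stalk x := fun i => X.presheaf.germ U x hx (r i)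
  let gT : ∀ M : X.Modules, Γ(CohB1.tensorMod M L, U) → S.obj (T.obj M) := fun M a =>
    (CohB1.tensorMod M L).presheaf.germ U x hx a
  let E : Fin (n + 1) → S.obj (T.obj G) := fun i => gT G (tmul (AModX.res G (le_top : U ≤ ⊤) (e₀ i)) e)
  -- the projections
  let p : Fin (n + 1) → (G ⟶ Coh.structureModule X) := fun i =>
    Sigma.desc fun j => if j = i then 𝟙 _ else 0
  have hp : ∑ i, p i ≫ ι₀ i = 𝟙 G := by
    refine Sigma.hom_ext _ _ fun j => ?_
    rw [Preadditive.comp_sum, Finset.sum_eq_single j]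
    · simp [p, ι₀]
      exact (Category.comp_id _).symm
    · intro b _ hb
      simp [p, ι₀, Ne.symm hb]
    · simp
  -- global sections span
  have span : ∀ z : S.obj (T.obj G), ∃ a : Fin (n + 1) → X.presheaf.stalk x, z = ∑ i, a i • E i := fun z => by
    have hz : z = ∑ i, S.map (T.map (ι₀ i)) (S.map (T.map (p i)) z) := eq_sum_map (T ⋙ S) p ι₀ hp z
    have hb := (isFrame_tmul (isFrame_one U) he).germ_bijective hx
    choose a ha using fun i => hb.2 (S.map (T.map (p i)) z)
    refine ⟨a, hz.trans (Finset.sum_congr rfl fun i _ => ?_)⟩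
    rw [← ha i]
    refine ((S.map (T.map (ι₀ i))).hom.map_smul (a i) _).trans (congrArg (a i • ·) ?_)
    refine (DerSch.stalkFunctor_map_germ x (T.map (ι₀ i)) U hx _).trans (congrArg (gT G) ?_)
    rw [app_tmul]
    congr 1
    exact (app_eq_smul (ι₀ i) (1 : Γ(X, U))).trans (one_smul _ _)
  -- the coordinates generate
  have hunit : ∃ c : Fin (n + 1) → X.presheaf.stalk x, ∑ i, c i * c₀ i = 1 := by
    haveI : Epi π := hs
    haveI : Epi (S.map π) := inferInstance
    obtain ⟨y, hy⟩ := (ModuleCat.epi_iff_surjective (S.map π)).1 inferInstance (L.presheaf.germ U x hx e)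
    have hy' : y = ∑ i, S.map (ι₀ i) (S.map (p i) y) := eq_sum_map S p ι₀ hp y
    choose c hc using fun i => ((isFrame_one U).germ_bijective hx).2 (S.map (p i) y)
    refine ⟨c, (he.germ_bijective hx).1 ?_⟩
    show (∑ i, c i * c₀ i) • L.presheaf.germ U x hx e = (1 : X.presheaf.stalk x) • L.presheaf.germ U x hx e
    rw [one_smul, Finset.sum_smul]
    refine Eq.trans ?_ hy
    refine Eq.trans ?_ (congrArg (S.map π) hy').symm
    rw [map_sum]
    refine Finset.sum_congr rfl fun i _ => ?_
    rw [← hc i, mul_smul]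
    refine Eq.symm ?_
    refine (congrArg (S.map π) ((S.map (ι₀ i)).hom.map_smul (c i) _)).trans
      (((S.map π).hom.map_smul (c i) _).trans (congrArg (c i • ·) ?_))
    refine (congrArg (S.map π) (DerSch.stalkFunctor_map_germ x (ι₀ i) U hx _)).trans
      ((DerSch.stalkFunctor_map_germ x π U hx _).trans ?_)
    refine Eq.trans ?_ ((congrArg (L.presheaf.germ U x hx) (hr i)).trans (QCoh.germ_smul' _ _ _ _))
    refine congrArg (L.presheaf.germ U x hx) ((congrArg (π.app U) ((app_eq_smul (ι₀ i) (1 : Γ(X, U))).trans (one_smul _ _))).trans ?_)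
    exact (AModX.app_res π _ _).trans (congrArg (AModX.res L le_top) (hπ i))
  obtain ⟨c, hc⟩ := hunit
  rw [eq_top_iff]
  intro z' _
  let z : S.obj (T.obj G) := S.map (T.map (kernel.ι π)) z'
  obtain ⟨a, ha⟩ := span z
  have hπE : ∀ i, S.map (T.map π) (E i) = c₀ i • gT L (tmul e e) := fun i => by
    refine (DerSch.stalkFunctor_map_germ x (T.map π) U hx _).trans ?_
    show gT L _ = _
    rw [app_tmul, show π.app U (AModX.res G (le_top : U ≤ ⊤) (e₀ i)) = r i • e from
      (AModX.app_res π _ _).trans ((congrArg (AModX.res L le_top) (hπ i)).trans (hr i)), tmul_smul_left]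
    exact QCoh.germ_smul' _ _ _ _
  have hsum : ∑ i, a i * c₀ i = 0 := by
    refine ((isFrame_tmul he he).germ_bijective hx).1 ?_
    show (∑ i, a i * c₀ i) • gT L (tmul e e) = (0 : X.presheaf.stalk x) • gT L (tmul e e)
    have h0 : S.map (T.map π) z = 0 := by
      have h := congrArg (fun φ => S.map φ z') (show T.map (kernel.ι π) ≫ T.map π = 0 by
        rw [← T.map_comp, kernel.condition, Functor.map_zero])
      simp only [Functor.map_comp, Functor.map_zero] at h
      exact h
    rw [zero_smul, ← h0, ha, map_sum, Finset.sum_smul]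
    exact Finset.sum_congr rfl fun i _ => by
      rw [mul_smul, ← hπE i]
      exact ((S.map (T.map π)).hom.map_smul (a i) (E i)).symm
  let σ' : Fin (n + 1) → Fin (n + 1) → S.obj (T.obj (kernel π)) := fun i k =>
    (CohB1.tensorMod (kernel π) L).presheaf.germ ⊤ x trivial (one (lift i k))
  have hσ' : ∀ i k, S.map (T.map (kernel.ι π)) (σ' i k) = c₀ k • E i - c₀ i • E k := fun i k => by
    refine (DerSch.stalkFunctor_map_germ x (T.map (kernel.ι π)) ⊤ trivial _).trans ?_
    rw [hlift i k]
    have hg : ∀ i k, (CohB1.tensorMod G L).presheaf.germ ⊤ x trivial (tmul (e₀ i) (t₀ k)) = c₀ k • E i := fun i k => by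
      rw [← germ_res' (le_top : U ≤ ⊤) hx, res_tmul, hr k, tmul_smul_right]
      exact QCoh.germ_smul' _ _ _ _
    exact (map_sub _ _ _).trans (congrArg₂ (· - ·) (hg i k) (hg k i))
  have hz' : z' = ∑ i, ∑ k, (a i * c k) • σ' i k := by
    haveI : Mono (T.map (kernel.ι π)) := inferInstance
    haveI : Mono (S.map (T.map (kernel.ι π))) := inferInstance
    refine (ModuleCat.mono_iff_injective (S.map (T.map (kernel.ι π)))).1 inferInstance ?_
    show z = _
    simp only [map_sum, map_smul, hσ', smul_sub, ← mul_smul, Finset.sum_sub_distrib]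
    have h1 : ∑ i, ∑ k, (a i * c k * c₀ k) • E i = z := by
      rw [ha]
      refine Finset.sum_congr rfl fun i _ => ?_
      rw [← Finset.sum_smul]
      simp only [mul_assoc, ← Finset.mul_sum, hc, mul_one]
    have h2 : ∑ i, ∑ k, (a i * c k * c₀ i) • E k = 0 := by
      rw [Finset.sum_comm]
      refine Finset.sum_eq_zero fun k _ => ?_
      rw [← Finset.sum_smul, show ∑ i, a i * c k * c₀ i = c k * ∑ i, a i * c₀ i by
        rw [Finset.mul_sum]; exact Finset.sum_congr rfl fun i _ => by ring, hsum, mul_zero, zero_smul]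
    rw [h1, h2, sub_zero]
  rw [hz']
  exact Submodule.sum_mem _ fun i _ => Submodule.sum_mem _ fun k _ =>
    Submodule.smul_mem _ _ (Submodule.subset_span ⟨⟨(i, k)⟩, rfl⟩)

end Groth.Agent.S9569
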