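import Groth.Statements.S9571
import Groth.Agent.GrModX.Stalk

set_option autoImplicit false
universe u
open CategoryTheory CategoryTheory.Limits AlgebraicGeometry TopologicalSpace Opposite
open Constr

namespace Groth.Agent.S9571

/-- Let S be a graded ring, X = Proj S and d ≥ 1; let W_d be the union of the opens D_+(ab) over pairs
of homogeneous a, b with deg a = deg b + d (the open over which the twisting sheaves O_X(nd) are
invertible with compatible multiplications). For n ≥ 1 and f homogeneous of degree nd, with s the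
section of O_X(nd) over W_d defined by f, the non-vanishing locus (W_d)_s equals D_+(f) ∩ W_d.
Pointwise: for p in some D_+(ab) as above, p ∈ D_+(f) if and only if the value f/1 of s at p
generates the module of degree-nd fractions at p (the span of the fractions c/t with t ∉ p and deg c
= deg t + nd, over the degree-zero local ring at p). -/
theorem result {R A : Type u} [CommRing R] [CommRing A] [Algebra R A] (𝒜 : ℕ → Submodule R A) [GradedAlgebra 𝒜]
    {d : ℕ} (hd : 0 < d) {i j : ℕ} {a b : A} (ha : a ∈ 𝒜 i) (hb : b ∈ 𝒜 j) (hij : i = j + d)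
    (p : ProjectiveSpectrum 𝒜) (hp : p ∈ ProjectiveSpectrum.basicOpen 𝒜 (a * b))
    {n : ℕ} (hn : 0 < n) (f : 𝒜 (n * d)) :
    p ∈ ProjectiveSpectrum.basicOpen 𝒜 (f : A) ↔
      Submodule.span (Twist.A0 𝒜 p) {(Twist.globalOf 𝒜 f).1 ⟨p, trivial⟩} = ⊤ := by
  have hap : a ∉ p.asHomogeneousIdeal := fun h => hp (p.asHomogeneousIdeal.toIdeal.mul_mem_right b h)
  have hbp : b ∉ p.asHomogeneousIdeal := fun h => hp (p.asHomogeneousIdeal.toIdeal.mul_mem_left a h)
  exact GrModX.mem_basicOpen_iff_span_eq_top 𝒜 f.2 p
    ⟨n * i, n * j, a ^ n, b ^ n, by simpa using SetLike.pow_mem_graded n ha,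
      by simpa using SetLike.pow_mem_graded n hb, by subst hij; push_cast; ring,
      fun h => hap (p.isPrime.mem_of_pow_mem n h), fun h => hbp (p.isPrime.mem_of_pow_mem n h)⟩ _ rfl

end Groth.Agent.S9571
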