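import Groth.Statements.S9573
import Groth.Agent.ProjTwistIso16.Localization
import Groth.Agent.ProjTwistIso16.Adjunct
-- import your own Groth.Agent.* helpers here

set_option autoImplicit false
universe u
open CategoryTheory CategoryTheory.Limits AlgebraicGeometry TopologicalSpace Opposite
open scoped HomogeneousIdeal
open Constr

namespace Groth.Agent.S9573
open Groth.Agent

/-- Let A be a graded ring, g an element of degree zero and ψ : A → B = A_g the localization map, B
carrying the induced grading (B_n consists of the b with g^k b = ψ(a) for some k and some a ∈ A_n).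
Then the morphism r_ψ : Proj B → Proj A induced by ψ is everywhere defined, it is an open immersion
whose image is the inverse image of the basic open D(g) of Spec A_0 under the structure morphism
Proj A → Spec A_0, and for every integer n the canonical map θ : r_ψ^* O_{Proj A}(n) → O_{Proj B}(n)
(adjoint to a/f ↦ ψ(a)/ψ(f)) is an isomorphism. (The containment of B_+ in the ideal generated by
ψ(A_+), through which r_ψ is Proj.map here, follows from the other hypotheses and is carried as
data.) -/
theorem result {R A : Type u} [CommRing R] [CommRing A] [Algebra R A] (𝒜 : ℕ → Submodule R A) [GradedAlgebra 𝒜]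
    {B : Type u} [CommRing B] [Algebra R B] (ℬ : ℕ → Submodule R B) [GradedAlgebra ℬ] (ψ : 𝒜 →+*ᵍ ℬ)
    (g : A) (hg : g ∈ 𝒜 0) [Algebra A B] (hψA : ∀ a : A, ψ a = algebraMap A B a) [IsLocalization.Away g B]
    (hdeg : ∀ (n : ℕ) (b : B), b ∈ ℬ n ↔ ∃ (k : ℕ) (a : A), a ∈ 𝒜 n ∧ ψ g ^ k * b = ψ a)
    (hψ : HomogeneousIdeal.irrelevant ℬ ≤ (HomogeneousIdeal.irrelevant 𝒜).map ψ) :
    IsOpenImmersion (Proj.map ψ hψ) ∧
      Set.range (Proj.map ψ hψ).base =
        (Proj.toSpecZero 𝒜).base ⁻¹' (PrimeSpectrum.basicOpen (⟨g, hg⟩ : 𝒜 0) : Set (PrimeSpectrum (𝒜 0))) ∧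
      ∀ n : ℤ, IsIso (((Scheme.Modules.pullbackPushforwardAdjunction (Proj.map ψ hψ)).homEquiv _ _).symm
        (GrTwist.comap ψ hψ n)) := by
  have H := ProjTwistIso16.isGradedAway hg hψA hdeg
  haveI : IsOpenImmersion (Proj.map ψ hψ) := H.isOpenImmersion hψ
  exact ⟨inferInstance, H.range_eq hψA hψ, fun n => ProjTwistIso16.isIso_symm_homEquiv _ _
    (ProjTwistIso16.comap_app_bijective (H.lifts hψ n) (H.kills hψ))⟩

end Groth.Agent.S9573
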