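import Groth.Statements.S9575
import Groth.Agent.TwistX.Triv

set_option autoImplicit false
universe u
open CategoryTheory CategoryTheory.Limits AlgebraicGeometry TopologicalSpace Opposite
open Constr

namespace Groth.Agent.S9575

/-- Let S be a graded ring, X = Proj S, d ≥ 1, and a, b homogeneous elements with deg a = deg b + d.
Then for every integer n the restriction of the twisting sheaf O_X(nd) to the standard open D_+(ab)
is isomorphic to the structure sheaf of D_+(ab): it is free of rank one, generated by the section
(a/b)^n. (This is the invertibility half of the fact that D_+(ab) lies in the open W_d where the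
O_X(nd) are invertible with compatible multiplications; existence of an isomorphism only. The
compatibility of the multiplication maps O_X(nd) ⊗ O_X(md) → O_X(nd+md) on this open, and the
converse statement that the largest such open is the union of the D_+(ab), are not stated here.) -/
theorem result {R A : Type u} [CommRing R] [CommRing A] [Algebra R A] (𝒜 : ℕ → Submodule R A) [GradedAlgebra 𝒜]
    {d : ℕ} (hd : 0 < d) {i j : ℕ} {a b : A} (ha : a ∈ 𝒜 i) (hb : b ∈ 𝒜 j) (hij : i = j + d) (n : ℤ) :
    Nonempty ((Twist.twist 𝒜 (n * d)).restrict (Proj.basicOpen 𝒜 (a * b)).ι ≅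
      Coh.structureModule ↑(Proj.basicOpen 𝒜 (a * b))) := by
  refine TwistX.nonempty_iso_restrict _ (TwistX.powFrac ha hb hij n (fun x h => x.2 ?_) (fun x h => x.2 ?_))
  · exact x.1.asHomogeneousIdeal.toIdeal.mul_mem_right b h
  · exact x.1.asHomogeneousIdeal.toIdeal.mul_mem_left a h

end Groth.Agent.S9575
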