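import Groth.Statements.S9576
import Groth.Agent.ProjPt.Poly
import Groth.Agent.SegreX.Coord

set_option autoImplicit false
universe u
open CategoryTheory CategoryTheory.Limits AlgebraicGeometry TopologicalSpace Opposite
open Constr

namespace Groth.Agent.S9576

/-- For a ring R and n ≥ 0, projective n-space Proj R[T_0, …, T_n] is covered by the n + 1 standard
opens D_+(T_i), and each D_+(T_i) = Spec R[T_0, …, T_n]_(T_i) is an affine n-space: the ring
homomorphism from the polynomial ring over R in the variables T_j, j ≠ i, to the degree-zero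
localization R[T_0, …, T_n]_(T_i), sending T_j to T_j/T_i and a constant r to r/1, is bijective.
(The published statement is over ℤ; this row is over any ring R.) -/
theorem result (n : ℕ) (R : Type u) [CommRing R] :
    (⨆ i : Fin (n + 1), Proj.basicOpen (CohB1.polyGrading n R) (MvPolynomial.X i)) = ⊤ ∧
      ∀ i : Fin (n + 1), Function.Bijective
        (MvPolynomial.eval₂Hom
          ((HomogeneousLocalization.fromZeroRingHom (CohB1.polyGrading n R) (Submonoid.powers (MvPolynomial.X i))).comp
            (algebraMap R (CohB1.polyGrading n R 0)))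
          (fun j : {j : Fin (n + 1) // j ≠ i} =>
            (HomogeneousLocalization.mk ⟨1, ⟨MvPolynomial.X j.1, MvPolynomial.isHomogeneous_X R j.1⟩,
              ⟨MvPolynomial.X i, MvPolynomial.isHomogeneous_X R i⟩, ⟨1, pow_one _⟩⟩ :
              HomogeneousLocalization.Away (CohB1.polyGrading n R) (MvPolynomial.X i)))) := by
  classical
  refine ⟨Proj.iSup_basicOpen_eq_top _ _ (SegreX.irrelevant_le_span n R), fun i => ?_⟩
  let C' := MvPolynomial {j : Fin (n + 1) // j ≠ i} R
  let v : Fin (n + 1) → C' := fun k => if h : k = i then 1 else MvPolynomial.X ⟨k, h⟩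
  let f : MvPolynomial (Fin (n + 1)) R →+* C' := MvPolynomial.eval₂Hom MvPolynomial.C v
  have hf : f (MvPolynomial.X i) = 1 := by simp [f, v]
  have hu : IsUnit (f (MvPolynomial.X i)) := hf ▸ isUnit_one
  let g := ProjPt.coordHom (CohB1.polyGrading n R) f hu
  let e : C' →+* HomogeneousLocalization.Away (CohB1.polyGrading n R) (MvPolynomial.X i) :=
    MvPolynomial.eval₂Hom (ProjPt.cst i) (fun j => ProjPt.crd i j.1)
  have he : ∀ j : {j : Fin (n + 1) // j ≠ i},
      (HomogeneousLocalization.mk ⟨1, ⟨MvPolynomial.X j.1, MvPolynomial.isHomogeneous_X R j.1⟩,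
        ⟨MvPolynomial.X i, MvPolynomial.isHomogeneous_X R i⟩, ⟨1, pow_one _⟩⟩ :
        HomogeneousLocalization.Away (CohB1.polyGrading n R) (MvPolynomial.X i)) = ProjPt.crd i j.1 :=
    fun j => by
      apply HomogeneousLocalization.val_injective
      simp [ProjPt.crd, HomogeneousLocalization.Away.val_mk]
  simp only [he]
  change Function.Bijective e
  refine Function.bijective_iff_has_inverse.2 ⟨g, fun a => ?_, fun a => ?_⟩
  · change (g.comp e) a = RingHom.id C' a
    congr 1
    refine MvPolynomial.ringHom_ext (fun r => ?_) (fun j => ?_)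
    · simp only [RingHom.comp_apply, e, MvPolynomial.eval₂Hom_C, g, ProjPt.coordHom_cst]
      simp [f]
    · simp only [RingHom.comp_apply, e, MvPolynomial.eval₂Hom_X', g, ProjPt.coordHom_crd _ _ _ hf]
      simp only [f, v, MvPolynomial.eval₂Hom_X', dif_neg j.2]
      rfl
  · change (e.comp g) a = RingHom.id _ a
    congr 1
    refine ProjPt.away_ext i _ _ ?_ fun k => ?_
    · refine RingHom.ext fun r => ?_
      simp only [RingHom.comp_apply, RingHom.id_apply, g, ProjPt.coordHom_cst]
      simp [f, e]
      exact MvPolynomial.eval₂Hom_C _ _ _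
    · simp only [RingHom.comp_apply, RingHom.id_apply, g, ProjPt.coordHom_crd _ _ _ hf]
      by_cases hk : k = i
      · subst hk
        simp [f, v, ProjPt.crd_self]
      · simp [f, v, hk, e]
        exact MvPolynomial.eval₂Hom_X' (ProjPt.cst i) (fun j : {j : Fin (n + 1) // j ≠ i} => ProjPt.crd i j.1) ⟨k, hk⟩

end Groth.Agent.S9576
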