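import Groth.Statements.S9580
import Groth.Agent.TwistX.Triv
import Groth.Agent.Proj16.ConeData

set_option autoImplicit false
universe u
open CategoryTheory CategoryTheory.Limits AlgebraicGeometry TopologicalSpace Opposite
open Constr

namespace Groth.Agent.S9580

/-- Let S be a graded ring, X = Proj S and Y ⊆ X a quasi-compact open subscheme. Then there is an
integer d ≥ 1 such that Y is contained in the open W_d, the union of the standard opens D_+(ab) over
homogeneous a, b with deg a = deg b + d, and such that the restriction O_Y(nd) of O_X(nd) to Y is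
invertible for every integer n. (The remaining assertions — the multiplication maps among the
O_Y(nd) and M~(nd) are isomorphisms, D_+(f) ∩ Y = Y_s, and the loci Y_s form a basis — are not
stated here.) -/
theorem result {R A : Type u} [CommRing R] [CommRing A] [Algebra R A] (𝒜 : ℕ → Submodule R A) [GradedAlgebra 𝒜]
    (Y : (Proj 𝒜).Opens) (hY : IsCompact (Y : Set (Proj 𝒜))) :
    ∃ d : ℕ, 0 < d ∧
      (∀ y : Proj 𝒜, y ∈ Y → ∃ (i j : ℕ) (a b : A), a ∈ 𝒜 i ∧ b ∈ 𝒜 j ∧ i = j + d ∧ y ∈ Proj.basicOpen 𝒜 (a * b)) ∧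
      ∀ n : ℤ, PicF.IsInvertible ((Twist.twist 𝒜 (n * d)).restrict Y.ι) := by
  classical
  choose k f hk hf hfy using fun y : Proj 𝒜 =>
    Proj16.exists_homogeneous_notMem 𝒜 (I := y.asHomogeneousIdeal.toIdeal) y.not_irrelevant_le
  obtain ⟨t, ht⟩ := hY.elim_finite_subcover (fun y : Proj 𝒜 => (Proj.basicOpen 𝒜 (f y) : Set (Proj 𝒜)))
    (fun y => (Proj.basicOpen 𝒜 (f y)).2) (fun y _ => Set.mem_iUnion.2 ⟨y, hfy y⟩)
  have key : ∀ y : Proj 𝒜, y ∈ Y → ∃ (g : A), g ∈ 𝒜 (∏ z ∈ t, k z) ∧ y ∈ Proj.basicOpen 𝒜 g := by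
    intro y hy
    obtain ⟨z, hz, hyz⟩ := Set.mem_iUnion₂.1 (ht hy)
    refine ⟨f z ^ (∏ w ∈ t.erase z, k w), ?_, TwistX.notMem_pow hyz _⟩
    have := SetLike.pow_mem_graded (∏ w ∈ t.erase z, k w) (hf z)
    rwa [smul_eq_mul, mul_comm, Finset.mul_prod_erase t k hz] at this
  refine ⟨∏ z ∈ t, k z, Finset.prod_pos fun z _ => hk z, fun y hy => ?_, fun n => ?_⟩
  · obtain ⟨g, hg, hyg⟩ := key y hy
    exact ⟨_, 0, g, 1, hg, SetLike.GradedOne.one_mem, (zero_add _).symm, by rwa [mul_one]⟩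
  · refine TwistX.isInvertible_restrict _ fun y hy => ?_
    obtain ⟨g, hg, hyg⟩ := key y hy
    exact ⟨_, hyg, TwistX.nonempty_iso_basicOpen hg n⟩

end Groth.Agent.S9580
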