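import Groth.Statements.S9581
import Groth.Agent.WeakAss.Basic

set_option autoImplicit false
universe u
open CAlg

namespace Groth.Agent.S9581

/-- (1) ⇔ (3): for a ring R, an R-module M and a prime p of R, the prime p is weakly associated to M
(minimal among the primes containing the annihilator of some element of M) if and only if the
localization M_p contains an element whose annihilator in R_p has radical equal to the maximal ideal
p R_p. -/
theorem result {R : Type u} [CommRing R] (M : Type u) [AddCommGroup M] [Module R M] (p : Ideal R) [p.IsPrime] :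
    p ∈ FlatCA.weakAss R M ↔ IsAssociatedPrime (IsLocalRing.maximalIdeal (Localization.AtPrime p)) (LocalizedModule p.primeCompl M) := by
  let Rp := Localization.AtPrime p
  let f := LocalizedModule.mkLinearMap p.primeCompl M
  have hcomap : (IsLocalRing.maximalIdeal Rp).comap (algebraMap R Rp) = p := Localization.AtPrime.comap_maximalIdeal
  constructor
  · rintro ⟨m, hm⟩
    refine ⟨(IsLocalRing.maximalIdeal.isMaximal Rp).isPrime, f m, le_antisymm ?_ ?_⟩
    · intro x hx
      obtain ⟨r, s, rfl⟩ := IsLocalization.exists_mk'_eq p.primeCompl x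
      have hr : r ∈ p := by
        rw [← hcomap]
        exact (IsLocalization.mk'_mem_iff).1 hx
      obtain ⟨t, ht, n, hn⟩ := WeakAss.exists_mul_pow_mem hm hr
      refine ⟨n, Submodule.mem_colon_singleton.2 ((Submodule.mem_bot _).2 ?_)⟩
      have h0 : algebraMap R Rp (r ^ n) • f m = 0 := by
        rw [algebraMap_smul, ← map_smul, IsLocalizedModule.eq_zero_iff p.primeCompl f]
        exact ⟨⟨t, ht⟩, show t • (r ^ n • m) = 0 by rw [smul_smul]; exact WeakAss.mem_annEl.1 hn⟩
      have : (IsLocalization.mk' Rp r s) ^ n = (IsLocalization.mk' Rp 1 s) ^ n * algebraMap R Rp (r ^ n) := by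
        rw [map_pow, ← mul_pow, mul_comm, IsLocalization.mul_mk'_eq_mk'_of_mul, mul_one]
      rw [this, mul_smul, h0, smul_zero]
    · refine (IsLocalRing.maximalIdeal.isMaximal Rp).isPrime.radical_le_iff.2 (IsLocalRing.le_maximalIdeal ?_)
      rw [Ideal.ne_top_iff_one, Submodule.mem_colon_singleton, one_smul, Submodule.mem_bot]
      intro h
      obtain ⟨t, ht⟩ := (IsLocalizedModule.eq_zero_iff p.primeCompl f).1 h
      exact t.2 (hm.1.2 (WeakAss.mem_annEl.2 ht))
  · rintro ⟨-, x, hx⟩
    obtain ⟨⟨m, s⟩, hs⟩ := IsLocalizedModule.surj p.primeCompl f x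
    refine WeakAss.mem_weakAss_iff.2 ⟨m, ⟨inferInstance, ?_⟩, ?_⟩
    · intro r hr
      rw [← hcomap, Ideal.mem_comap, hx]
      refine Ideal.le_radical (Submodule.mem_colon_singleton.2 ((Submodule.mem_bot _).2 ?_))
      refine IsLocalizedModule.smul_injective f s ?_
      show s • (algebraMap R Rp r • x) = s • (0 : LocalizedModule p.primeCompl M)
      rw [algebraMap_smul, smul_comm, hs, ← map_smul, WeakAss.mem_annEl.1 hr, map_zero, smul_zero]
    · rintro q ⟨hq, hle⟩ hqp y hy
      have hy' : algebraMap R Rp y ∈ IsLocalRing.maximalIdeal Rp := by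
        rw [← Ideal.mem_comap, hcomap]; exact hy
      rw [hx] at hy'
      obtain ⟨n, hn⟩ := hy'
      rw [Submodule.mem_colon_singleton, Submodule.mem_bot, ← map_pow, algebraMap_smul] at hn
      have h3 : f (y ^ n • m) = 0 := by rw [map_smul, ← hs, smul_comm, hn, smul_zero]
      obtain ⟨c, hc⟩ := (IsLocalizedModule.eq_zero_iff p.primeCompl f).1 h3
      have h4 : (c : R) * y ^ n ∈ q := hle (WeakAss.mem_annEl.2 (by rw [mul_smul]; exact hc))
      exact hq.mem_of_pow_mem n ((hq.mem_or_mem h4).resolve_left fun hcq => c.2 (hqp hcq))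


end Groth.Agent.S9581
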