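import Groth.Statements.S9582
import Groth.Agent.WeakAss.Basic

set_option autoImplicit false
universe u
open CAlg

namespace Groth.Agent.S9582

/-- For a reduced ring R, the primes weakly associated to the R-module R (primes minimal over the
annihilator of some element) are exactly the minimal primes of R. -/
theorem result {R : Type u} [CommRing R] [IsReduced R] :
    FlatCA.weakAss R R = minimalPrimes R := by
  ext p
  constructor
  · rintro ⟨m, hm⟩
    haveI := hm.1.1
    have hle : WeakAss.annEl R m ≤ p := hm.1.2
    have hmp : m ∉ p := by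
      intro hmp
      obtain ⟨s, hs, n, hn⟩ := WeakAss.exists_mul_pow_mem hm hmp
      have h0 : s * m ^ (n + 1) = 0 := by
        have := WeakAss.mem_annEl.1 hn
        rw [smul_eq_mul] at this
        rw [pow_succ, ← mul_assoc]; exact this
      have h1 : (s * m) ^ (n + 1) = 0 := by rw [mul_pow, pow_succ s, mul_assoc, h0, mul_zero]
      exact hs (hle (WeakAss.mem_annEl.2 (eq_zero_of_pow_eq_zero h1)))
    refine ⟨⟨hm.1.1, bot_le⟩, fun q hq hqp => hm.2 ⟨hq.1, fun r hr => ?_⟩ hqp⟩
    have : r * m ∈ q := by
      rw [show r * m = 0 from WeakAss.mem_annEl.1 hr]; exact q.zero_mem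
    exact (hq.1.mem_or_mem this).resolve_right fun h => hmp (hqp h)
  · intro hp
    refine WeakAss.mem_weakAss_iff.2 ⟨1, ?_⟩
    have : WeakAss.annEl R (1 : R) = ⊥ := by ext r; simp [WeakAss.mem_annEl]
    rw [this]; exact hp


end Groth.Agent.S9582
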