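import Groth.Statements.S9585
import Groth.Agent.WeakAss.Basic

set_option autoImplicit false
universe u
open CAlg

namespace Groth.Agent.S9585

/-- For a ring R and an R-module M, an element of R lies in some weakly associated prime of M exactly
when multiplication by it on M is not injective; in other words the union of the weakly associated
primes of M equals the set of zerodivisors on M. -/
theorem result {R : Type u} [CommRing R] (M : Type u) [AddCommGroup M] [Module R M] :
    ⋃ q ∈ FlatCA.weakAss R M, (q : Set R) = {f : R | ¬ IsSMulRegular M f} := by
  exact WeakAss.biUnion_weakAss


end Groth.Agent.S9585
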