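import Groth.Statements.S9587
import Groth.Agent.WeakAss.Basic

set_option autoImplicit false
universe u
open CAlg

namespace Groth.Agent.S9587

/-- For a ring R, an ideal I of R and an R/I-module M, regarded as an R-module through R → R/I, the
primes of R weakly associated to M are exactly the inverse images of the primes of R/I weakly
associated to M. -/
theorem result {R : Type u} [CommRing R] (I : Ideal R) (M : Type u) [AddCommGroup M] [Module (R ⧸ I) M] [Module R M] [IsScalarTower R (R ⧸ I) M] :
    FlatCA.weakAss R M = Ideal.comap (Ideal.Quotient.mk I) '' FlatCA.weakAss (R ⧸ I) M := by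
  ext p
  have key : ∀ x : M, WeakAss.annEl R x = (WeakAss.annEl (R ⧸ I) x).comap (Ideal.Quotient.mk I) := fun x =>
    WeakAss.annEl_restrict x
  constructor
  · rintro ⟨x, hx⟩
    have hx' : p ∈ (WeakAss.annEl R x).minimalPrimes := hx
    rw [key, Ideal.comap_minimalPrimes_eq_of_surjective Ideal.Quotient.mk_surjective] at hx'
    obtain ⟨q, hq, rfl⟩ := hx'
    exact ⟨q, ⟨x, hq⟩, rfl⟩
  · rintro ⟨q, ⟨x, hq⟩, rfl⟩
    refine WeakAss.mem_weakAss_iff.2 ⟨x, ?_⟩
    rw [key, Ideal.comap_minimalPrimes_eq_of_surjective Ideal.Quotient.mk_surjective]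
    exact ⟨q, hq, rfl⟩


end Groth.Agent.S9587
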