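import Groth.Statements.S9591
import Groth.Agent.WeakAss.Basic

set_option autoImplicit false
universe u
open CAlg

namespace Groth.Agent.S9591

/-- For a ring R and an R-module M, the map from M to the product of the localizations M_p over all
primes p weakly associated to M is injective: an element vanishing in every such M_p is zero. -/
theorem result {R : Type u} [CommRing R] {M : Type u} [AddCommGroup M] [Module R M] (x : M) (hx : ∀ (p : Ideal R) [p.IsPrime], p ∈ FlatCA.weakAss R M → LocalizedModule.mkLinearMap p.primeCompl M x = 0) :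
    x = 0 := by
  by_contra hne
  have hI : WeakAss.annEl R x ≠ ⊤ := fun hc => hne (by
    simpa using WeakAss.mem_annEl.1 (hc ▸ Submodule.mem_top : (1 : R) ∈ WeakAss.annEl R x))
  obtain ⟨P, hP⟩ := Ideal.nonempty_minimalPrimes hI
  haveI := hP.1.1
  obtain ⟨c, hc⟩ := (IsLocalizedModule.eq_zero_iff P.primeCompl (LocalizedModule.mkLinearMap P.primeCompl M)).1
    (hx P ⟨x, hP⟩)
  exact c.2 (hP.1.2 (WeakAss.mem_annEl.2 hc))


end Groth.Agent.S9591
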