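import Groth.Statements.S9594
import Groth.Agent.WeakAss.Basic

set_option autoImplicit false
universe u
open CAlg

namespace Groth.Agent.S9594

/-- For a ring R, an R-module M and a multiplicative subset S of R, (1) the primes of R associated to
the R-module S⁻¹M are the inverse images of the primes of S⁻¹R associated to S⁻¹M, and (2) a prime
of R associated to M which does not meet S is associated to the R-module S⁻¹M. Here a prime is
associated to a module when it equals the annihilator of some element. -/
theorem result {R : Type u} [CommRing R] (S : Submonoid R) (M : Type u) [AddCommGroup M] [Module R M] :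
    FlatCA.ass R (LocalizedModule S M) = Ideal.comap (algebraMap R (Localization S)) '' FlatCA.ass (Localization S) (LocalizedModule S M) ∧
      ∀ p ∈ FlatCA.ass R M, Disjoint (S : Set R) (p : Set R) → p ∈ FlatCA.ass R (LocalizedModule S M) := by
  exact ⟨WeakAss.ass_isLocalization S, fun p hp hd => WeakAss.mem_ass_localizedModule S (LocalizedModule.mkLinearMap S M) hp hd⟩


end Groth.Agent.S9594
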