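import Groth.Statements.S9596
import Mathlib.RingTheory.Ideal.AssociatedPrime.Localization

set_option autoImplicit false
universe u
open CAlg

namespace Groth.Agent.S9596

/-- For a Noetherian ring R and any R-module M, a prime which is minimal among the primes in the support
of M is an associated prime of M. -/
theorem result {R : Type u} [CommRing R] [IsNoetherianRing R] (M : Type u) [AddCommGroup M] [Module R M] (p : PrimeSpectrum R) (hp : Minimal (fun q : PrimeSpectrum R => q ∈ Module.support R M) p) :
    p.asIdeal ∈ associatedPrimes R M := by
  obtain ⟨hp, hmin⟩ := hp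
  obtain ⟨m, hm⟩ := Module.mem_support_iff'.1 hp
  let N := Submodule.span R {m}
  have hle : Module.annihilator R N ≤ p.asIdeal := by
    intro r hr
    by_contra hrp
    exact hm r hrp (congrArg Subtype.val (Module.mem_annihilator.1 hr ⟨m, Submodule.mem_span_singleton_self m⟩))
  have hmem : p.asIdeal ∈ (Module.annihilator R N).minimalPrimes := by
    refine ⟨⟨p.2, hle⟩, ?_⟩
    rintro q ⟨hq, hNq⟩ hqp
    have hs : (⟨q, hq⟩ : PrimeSpectrum R) ∈ Module.support R M := by
      refine Module.mem_support_iff'.2 ⟨m, fun r hr h0 => hr (hNq ?_)⟩
      refine Module.mem_annihilator.2 ?_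
      rintro ⟨x, hx⟩
      obtain ⟨c, rfl⟩ := Submodule.mem_span_singleton.1 hx
      ext
      simp [smul_comm r c, h0]
    exact hmin hs hqp
  haveI : Module.Finite R N := Module.Finite.span_singleton R m
  exact associatedPrimes.subset_of_injective N.injective_subtype
    (Module.associatedPrimes.minimalPrimes_annihilator_subset_associatedPrimes R N hmem)


end Groth.Agent.S9596
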