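import Groth.Statements.S9598
import Mathlib

set_option autoImplicit false
universe u
open CAlg

namespace Groth.Agent.S9598

/-- For a field k and a finite type k-algebra S with dim S > 0, some element of S is a nonzerodivisor
and a nonunit. -/
theorem result {k S : Type u} [Field k] [CommRing S] [Algebra k S] [Algebra.FiniteType k S] (hdim : 0 < ringKrullDim S) :
    ∃ f : S, f ∈ nonZeroDivisors S ∧ ¬ IsUnit f := by
  classical
  have : IsNoetherianRing S := Algebra.FiniteType.isNoetherianRing k S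
  have : IsJacobsonRing S := isJacobsonRing_of_finiteType (A := k)
  by_contra! hall
  have hfin : (associatedPrimes S S).Finite := associatedPrimes.finite S S
  obtain ⟨P, hP, hPmax⟩ : ∃ P : Ideal S, P.IsPrime ∧ ¬ P.IsMaximal := by
    by_contra! h
    have : Ring.KrullDimLE 0 S := Ring.krullDimLE_zero_iff.2 h
    exact absurd (Ring.krullDimLE_iff.1 this) (not_le.2 hdim)
  have hmax : ∀ m : Ideal S, m.IsMaximal → m ∈ associatedPrimes S S := by
    intro m hm
    have hsub : (m : Set S) ⊆ ⋃ q ∈ (hfin.toFinset : Set (Ideal S)), (q : Set S) := by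
      intro x hx
      rw [hfin.coe_toFinset, biUnion_associatedPrimes_eq_compl_nonZeroDivisors]
      intro hnz
      exact hm.ne_top (Ideal.eq_top_of_isUnit_mem _ hx (hall x hnz))
    obtain ⟨q, hq, hle⟩ := (Ideal.subset_union_prime ⊥ ⊥ fun q hq _ _ =>
      IsAssociatedPrime.isPrime (hfin.mem_toFinset.1 hq)).1 hsub
    have hq' := hfin.mem_toFinset.1 hq
    rwa [hm.eq_of_le (IsAssociatedPrime.isPrime hq').ne_top hle]
  have hM : {m : Ideal S | P ≤ m ∧ m.IsMaximal}.Finite := hfin.subset fun m hm => hmax m hm.2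
  have hJ : sInf {m : Ideal S | P ≤ m ∧ m.IsMaximal} = P := IsJacobsonRing.out' P hP.isRadical
  have h2 : hM.toFinset.inf id ≤ P := by
    rw [Finset.inf_id_eq_sInf, hM.coe_toFinset, hJ]
  obtain ⟨m, hm, hle⟩ := (Ideal.IsPrime.inf_le' hP).1 h2
  obtain ⟨h1, h3⟩ := hM.mem_toFinset.1 hm
  exact hPmax (le_antisymm h1 hle ▸ h3)


end Groth.Agent.S9598
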