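import Groth.Statements.S9599
import Groth.Agent.W4Lib.Flat
import Mathlib

set_option autoImplicit false
universe u
open CAlg

namespace Groth.Agent.S9599

/-- For a ring R, an ideal I of R and a short exact sequence 0 → K → M → N → 0 of R-modules with N flat
over R, the induced sequence of I-adic completions 0 → K^ → M^ → N^ → 0 is again short exact. -/
theorem result {R : Type u} [CommRing R] (I : Ideal R) {K M N : Type u} [AddCommGroup K] [Module R K] [AddCommGroup M] [Module R M] [AddCommGroup N] [Module R N] [Module.Flat R N] (i : K →ₗ[R] M) (g : M →ₗ[R] N) (hi : Function.Injective i) (hg : Function.Surjective g) (hig : Function.Exact i g) :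
    Function.Injective (AdicCompletion.map I i) ∧ Function.Exact (AdicCompletion.map I i) (AdicCompletion.map I g) ∧ Function.Surjective (AdicCompletion.map I g) := by
  classical
  have hlev : ∀ n : ℕ, Function.Injective (i.reduceModIdeal (I ^ n)) := by
    intro n
    rw [injective_iff_map_eq_zero]
    intro z hz
    obtain ⟨k, rfl⟩ := Submodule.Quotient.mk_surjective _ z
    change Submodule.Quotient.mk (i k) = (0 : M ⧸ (I ^ n • ⊤ : Submodule R M)) at hz
    have h := Groth.Agent.W4Lib.lTensor_injective_of_flat_quotient hi hig hg (R ⧸ I ^ n)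
    rw [Submodule.Quotient.mk_eq_zero] at hz ⊢
    have h1 : ∀ (A : Type u) [AddCommGroup A] [Module R A] (a : A),
        ((1 : R ⧸ I ^ n) ⊗ₜ[R] a) = 0 ↔ a ∈ (I ^ n • ⊤ : Submodule R A) := by
      intro A _ _ a
      rw [← LinearEquiv.map_eq_zero_iff (TensorProduct.quotTensorEquivQuotSMul A (I ^ n)),
        ← map_one (Ideal.Quotient.mk (I ^ n)), TensorProduct.quotTensorEquivQuotSMul_mk_tmul, one_smul,
        Submodule.Quotient.mk_eq_zero]
    rw [← h1] at hz ⊢
    exact h (by rw [map_zero]; exact hz)
  refine ⟨fun a b h => ?_, ?_, AdicCompletion.map_surjective I hg⟩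
  · apply AdicCompletion.ext
    intro n
    exact hlev n (congrArg (fun x : AdicCompletion I M => x.val n) h)
  · intro y
    constructor
    · intro hy
      have hk : ∀ n, ∃ z, i.reduceModIdeal (I ^ n) z = y.val n := by
        intro n
        obtain ⟨m, hm⟩ := Submodule.Quotient.mk_surjective _ (y.val n)
        have h0 : g.reduceModIdeal (I ^ n) (y.val n) = 0 := congrArg (fun x : AdicCompletion I N => x.val n) hy
        rw [← hm] at h0 ⊢
        change Submodule.Quotient.mk (g m) = (0 : N ⧸ (I ^ n • ⊤ : Submodule R N)) at h0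
        rw [Submodule.Quotient.mk_eq_zero] at h0
        have hmap : (I ^ n • ⊤ : Submodule R M).map g = I ^ n • ⊤ := by
          rw [Submodule.map_smul'', Submodule.map_top, LinearMap.range_eq_top.2 hg]
        obtain ⟨m', hm', hgm'⟩ := (hmap.symm ▸ h0 : g m ∈ (I ^ n • ⊤ : Submodule R M).map g)
        obtain ⟨k, hk⟩ := (hig (m - m')).1 (by rw [map_sub, hgm', sub_self])
        refine ⟨Submodule.Quotient.mk k, ?_⟩
        change Submodule.Quotient.mk (i k) = Submodule.Quotient.mk m
        rw [Submodule.Quotient.eq, hk, sub_sub_cancel_left]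
        exact neg_mem hm'
      choose z hz using hk
      refine ⟨⟨z, fun {a b} hab => hlev a ?_⟩, AdicCompletion.ext fun n => hz n⟩
      rw [hz, ← y.2 hab, ← hz b]
      obtain ⟨w, hw⟩ := Submodule.Quotient.mk_surjective _ (z b)
      rw [← hw]
      rfl
    · rintro ⟨x, rfl⟩
      apply AdicCompletion.ext
      intro n
      obtain ⟨k, hk⟩ := Submodule.Quotient.mk_surjective _ (x.val n)
      show g.reduceModIdeal (I ^ n) (i.reduceModIdeal (I ^ n) (x.val n)) = 0
      rw [← hk]
      change Submodule.Quotient.mk (g (i k)) = (0 : N ⧸ (I ^ n • ⊤ : Submodule R N))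
      rw [hig.apply_apply_eq_zero, Submodule.Quotient.mk_zero]


end Groth.Agent.S9599
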