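import Groth.Statements.S9600
import Mathlib

set_option autoImplicit false
universe u
open CAlg

namespace Groth.Agent.S9600

/-- Let R be a ring, I an ideal of R and 0 → M → N → Q → 0 a short exact sequence of R-modules in which
Q is killed by some power I^c of I. Then on I-adic completions the map M^ → N^ is injective, N^ → Q^
is surjective with kernel equal to the image of M^, and the canonical map Q → Q^ is bijective; so 0
→ M^ → N^ → Q → 0 is again short exact. -/
theorem result {R : Type u} [CommRing R] (I : Ideal R) {M N Q : Type u} [AddCommGroup M] [Module R M] [AddCommGroup N] [Module R N] [AddCommGroup Q] [Module R Q] (i : M →ₗ[R] N) (g : N →ₗ[R] Q) (hi : Function.Injective i) (hg : Function.Surjective g) (hig : Function.Exact i g) (c : ℕ) (hc : ∀ x ∈ I ^ c, ∀ q : Q, x • q = 0) :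
    Function.Injective (AdicCompletion.map I i) ∧ Function.Exact (AdicCompletion.map I i) (AdicCompletion.map I g) ∧ Function.Surjective (AdicCompletion.map I g) ∧ Function.Bijective (AdicCompletion.of I Q) := by
  classical
  have hcN : I ^ c • (⊤ : Submodule R N) ≤ LinearMap.range i := by
    rw [Submodule.smul_le]
    intro r hr x _
    exact (hig _).1 (by rw [map_smul]; exact hc r hr _)
  have hcQ : ∀ n, c ≤ n → I ^ n • (⊤ : Submodule R Q) = ⊥ := by
    intro n hn
    rw [eq_bot_iff, Submodule.smul_le]
    intro r hr q _
    exact hc r (Ideal.pow_le_pow_right hn hr) q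
  have hkey : ∀ n x, i x ∈ I ^ (n + c) • (⊤ : Submodule R N) → x ∈ I ^ n • (⊤ : Submodule R M) := by
    intro n x hx
    have h1 : I ^ (n + c) • (⊤ : Submodule R N) ≤ Submodule.map i (I ^ n • (⊤ : Submodule R M)) := by
      rw [pow_add, Submodule.mul_smul, Submodule.map_smul'', Submodule.map_top]
      exact Submodule.smul_mono le_rfl hcN
    obtain ⟨x', hx', he⟩ := h1 hx
    rwa [← hi he]
  refine ⟨?_, ?_, AdicCompletion.map_surjective I hg, ?_⟩
  · rw [injective_iff_map_eq_zero]
    intro x hx
    refine AdicCompletion.ext fun n => ?_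
    obtain ⟨a, rfl⟩ := AdicCompletion.mk_surjective I M x
    have h1 : (AdicCompletion.map I i (AdicCompletion.mk I M a)).val (n + c) = 0 := by rw [hx]; rfl
    rw [AdicCompletion.map_mk, AdicCompletion.mk_apply_coe, Submodule.mkQ_apply, Submodule.Quotient.mk_eq_zero] at h1
    have h2 := hkey n _ h1
    show Submodule.Quotient.mk (a n) = 0
    rw [← AdicCompletion.AdicCauchySequence.mk_eq_mk (Nat.le_add_right n c) a, Submodule.Quotient.mk_eq_zero]
    exact h2
  · intro y
    constructor
    · intro hy
      obtain ⟨b, rfl⟩ := AdicCompletion.mk_surjective I N y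
      have hmem : ∀ n, b (n + c) ∈ LinearMap.range i := by
        intro n
        have h1 : (AdicCompletion.map I g (AdicCompletion.mk I N b)).val (n + c) = 0 := by rw [hy]; rfl
        rw [AdicCompletion.map_mk, AdicCompletion.mk_apply_coe, Submodule.mkQ_apply, Submodule.Quotient.mk_eq_zero] at h1
        rw [hcQ _ (Nat.le_add_left c n), Submodule.mem_bot] at h1
        exact (hig _).1 h1
      choose a ha using hmem
      have hcau : ∀ {m n : ℕ}, m ≤ n → a m ≡ a n [SMOD (I ^ m • ⊤ : Submodule R M)] := by
        intro m n hmn
        rw [SModEq.sub_mem]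
        refine hkey m _ ?_
        rw [map_sub, ha, ha]
        exact SModEq.sub_mem.1 (b.property (Nat.add_le_add_right hmn c))
      refine ⟨AdicCompletion.mk I M ⟨a, hcau⟩, AdicCompletion.ext fun n => ?_⟩
      rw [AdicCompletion.map_mk, AdicCompletion.mk_apply_coe, AdicCompletion.mk_apply_coe]
      show Submodule.Quotient.mk (i (a n)) = Submodule.Quotient.mk (b n)
      rw [ha]
      exact AdicCompletion.AdicCauchySequence.mk_eq_mk (Nat.le_add_right n c) b
    · rintro ⟨x, rfl⟩
      rw [AdicCompletion.map_comp_apply, (LinearMap.ext fun z => hig.apply_apply_eq_zero z : g ∘ₗ i = 0)]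
      refine AdicCompletion.ext fun n => ?_
      obtain ⟨a, rfl⟩ := AdicCompletion.mk_surjective I M x
      simp
  · constructor
    · rw [injective_iff_map_eq_zero]
      intro q hq
      have h1 : (AdicCompletion.of I Q q).val c = 0 := by rw [hq]; rfl
      rw [AdicCompletion.of_apply, Submodule.mkQ_apply, Submodule.Quotient.mk_eq_zero, hcQ c le_rfl] at h1
      exact h1
    · intro x
      obtain ⟨a, rfl⟩ := AdicCompletion.mk_surjective I Q x
      refine ⟨a c, AdicCompletion.ext fun n => ?_⟩
      rw [AdicCompletion.mk_apply_coe, AdicCompletion.of_apply]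
      rcases le_total n c with h | h
      · exact AdicCompletion.AdicCauchySequence.mk_eq_mk h a
      · have := SModEq.sub_mem.1 (a.property h)
        rw [hcQ c le_rfl, Submodule.mem_bot, sub_eq_zero] at this
        rw [this]


end Groth.Agent.S9600
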