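import Groth.Statements.S9602
import Mathlib

set_option autoImplicit false
universe u
open CAlg

namespace Groth.Agent.S9602

/-- Let R be a ring, I an ideal of R and R^ = lim R/Iⁿ the I-adic completion. An element of R^ whose
image in R/I is invertible is itself invertible in R^; and the kernel of R^ → R/I as well as the
extended ideal I R^ both lie inside the Jacobson radical of R^. -/
theorem result {R : Type u} [CommRing R] (I : Ideal R) :
    (∀ x : AdicCompletion I R, IsUnit (AdicCompletion.evalOneₐ I x) → IsUnit x) ∧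
      RingHom.ker (AdicCompletion.evalOneₐ I).toRingHom ≤ (⊥ : Ideal (AdicCompletion I R)).jacobson ∧
      I.map (algebraMap R (AdicCompletion I R)) ≤ (⊥ : Ideal (AdicCompletion I R)).jacobson := by
  have key : ∀ x : AdicCompletion I R, IsUnit (AdicCompletion.evalOneₐ I x) → IsUnit x := by
    intro x hx
    have hu : ∀ n, IsUnit (AdicCompletion.evalₐ I n x) := by
      intro n
      rcases Nat.eq_zero_or_pos n with rfl | hn
      · have : Subsingleton (R ⧸ I ^ 0) := Ideal.Quotient.subsingleton_iff.2 (by simp)
        exact isUnit_of_subsingleton _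
      obtain ⟨a, ha⟩ := Ideal.Quotient.mk_surjective (AdicCompletion.evalₐ I n x)
      have hle : I ^ n ≤ I := Ideal.pow_le_self hn.ne'
      have h1 : Ideal.Quotient.mk I a = AdicCompletion.evalOneₐ I x := by
        have h2 : Ideal.Quotient.factor hle (AdicCompletion.evalₐ I n x) = AdicCompletion.evalOneₐ I x := by
          obtain ⟨g, rfl⟩ := AdicCompletion.mk_surjective I R x
          simp only [AdicCompletion.evalOneₐ, AlgHom.comp_apply, AdicCompletion.evalₐ_mk]
          show Ideal.Quotient.mk I (g n) = Ideal.Quotient.mk I (g 1)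
          rw [Ideal.Quotient.eq]
          have := SModEq.sub_mem.1 (g.property (show 1 ≤ n from hn))
          simpa using neg_mem this
        rw [← h2, ← ha]; rfl
      rw [← ha]
      have hxa : IsUnit (Ideal.Quotient.mk I a) := h1 ▸ hx
      obtain ⟨b, hb⟩ := Ideal.Quotient.mk_surjective ((hxa.unit⁻¹ : (R ⧸ I)ˣ) : R ⧸ I)
      have h3 : a * b - 1 ∈ I := by
        rw [← Ideal.Quotient.eq, map_mul, hb, map_one]
        exact hxa.mul_val_inv
      have hnil : IsNilpotent (Ideal.Quotient.mk (I ^ n) (a * b - 1)) :=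
        ⟨n, by rw [← map_pow, Ideal.Quotient.eq_zero_iff_mem]; exact Ideal.pow_mem_pow h3 n⟩
      have := hnil.isUnit_add_one
      rw [map_sub, map_one, sub_add_cancel, map_mul] at this
      exact isUnit_of_mul_isUnit_left this
    choose b hb using fun n => Ideal.Quotient.mk_surjective (↑(hu n).unit⁻¹ : R ⧸ I ^ n)
    choose a ha using fun n => Ideal.Quotient.mk_surjective (AdicCompletion.evalₐ I n x)
    obtain ⟨g, rfl⟩ := AdicCompletion.mk_surjective I R x
    have hgb : ∀ n, g n * b n - 1 ∈ I ^ n := by
      intro n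
      rw [← Ideal.Quotient.eq, map_mul, hb, map_one, ← AdicCompletion.evalₐ_mk]
      exact (hu n).mul_val_inv
    have hcau : ∀ {m n : ℕ}, m ≤ n → b m ≡ b n [SMOD (I ^ m • ⊤ : Submodule R R)] := by
      intro m n hmn
      rw [SModEq.sub_mem, smul_eq_mul, Ideal.mul_top]
      have h1 : g m - g n ∈ I ^ m := by simpa [SModEq.sub_mem] using g.property hmn
      have h2 := Ideal.pow_le_pow_right hmn (hgb n)
      have e : b m - b n = b n * (g m * b m - 1) - b m * (g n * b n - 1) - b m * b n * (g m - g n) := by ring
      rw [e]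
      exact sub_mem (sub_mem (Ideal.mul_mem_left _ _ (hgb m)) (Ideal.mul_mem_left _ _ h2))
        (Ideal.mul_mem_left _ _ h1)
    refine IsUnit.of_mul_eq_one (AdicCompletion.mk I R ⟨b, hcau⟩) (AdicCompletion.ext_evalₐ fun n => ?_)
    rw [map_mul, AdicCompletion.evalₐ_mk, AdicCompletion.evalₐ_mk, map_one, ← map_mul,
      ← map_one (Ideal.Quotient.mk (I ^ n)), Ideal.Quotient.eq]
    exact hgb n
  have hker : RingHom.ker (AdicCompletion.evalOneₐ I).toRingHom ≤
      (⊥ : Ideal (AdicCompletion I R)).jacobson := by
    intro x hx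
    rw [Ideal.mem_jacobson_bot]
    intro y
    refine key _ ?_
    have h0 : AdicCompletion.evalOneₐ I x = 0 := hx
    simp [h0]
  refine ⟨key, hker, le_trans (Ideal.map_le_iff_le_comap.2 fun r hr => ?_) hker⟩
  show AdicCompletion.evalOneₐ I (algebraMap R _ r) = 0
  rw [AlgHom.commutes]
  exact Ideal.Quotient.eq_zero_iff_mem.2 hr


end Groth.Agent.S9602
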