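import Groth.Statements.S9603
import Mathlib

set_option autoImplicit false
universe u
open CAlg

namespace Groth.Agent.S9603

/-- For a ring A, elements f_1, …, f_r generating an ideal I and an A-module M, if the canonical map
from M to its (f_i)-adic completion is surjective for every i, then the canonical map from M to its
I-adic completion is surjective. -/
theorem result {A : Type u} [CommRing A] {r : ℕ} (f : Fin r → A) (M : Type u) [AddCommGroup M] [Module A M] (h : ∀ i, Function.Surjective (AdicCompletion.of (Ideal.span {f i}) M)) :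
    Function.Surjective (AdicCompletion.of (Ideal.span (Set.range f)) M) := by
  classical
  refine AdicCompletion.of_surjective_iff.2 ⟨fun g hg => ?_⟩
  set I := Ideal.span (Set.range f) with hI
  let P : ℕ → Submodule A M := fun n => ⨆ i, (Ideal.span {f i}) ^ n • (⊤ : Submodule A M)
  have hpigeon : ∀ n, 0 < n → I ^ ((r + 1) * n) • (⊤ : Submodule A M) ≤ P n := by
    intro n hn
    refine le_trans (Submodule.smul_mono ?_ le_rfl) (le_of_eq (Submodule.iSup_smul ..))
    simp only [Ideal.span_singleton_pow]
    rw [hI, Ideal.span, Submodule.span_pow, Submodule.span_le]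
    intro z hz
    rw [Set.mem_pow] at hz
    obtain ⟨e, rfl⟩ := hz
    choose j hj using fun l => (e l).2
    obtain ⟨i, hi⟩ : ∃ i, n ≤ (Finset.univ.filter (fun l => j l = i)).card := by
      by_contra! hlt
      have h1 := Finset.card_eq_sum_card_fiberwise (f := j) (s := Finset.univ) (t := Finset.univ) (fun _ _ => Finset.mem_coe.2 (Finset.mem_univ _))
      have h2 := Finset.sum_le_sum (s := Finset.univ) fun i _ => (hlt i).le
      simp only [Finset.card_univ, Fintype.card_fin, Finset.sum_const, smul_eq_mul] at h1 h2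
      nlinarith
    refine (le_iSup (fun i => Ideal.span {f i ^ n}) i) ?_
    rw [Ideal.mem_span_singleton, List.prod_ofFn, ← Finset.prod_filter_mul_prod_filter_not _ (fun l => j l = i)]
    refine Dvd.dvd.mul_right ?_ _
    have h3 : ∀ l ∈ Finset.univ.filter (fun l => j l = i), (e l : A) = f i := fun l hl => by
      rw [← hj l, (Finset.mem_filter.1 hl).2]
    rw [Finset.prod_congr rfl h3, Finset.prod_const]
    exact pow_dvd_pow _ hi
  let y : ℕ → M := fun n => g ((r + 1) * (n + 1))
  have hd : ∀ n, y (n + 1) - y n ∈ P (n + 1) := by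
    intro n
    refine hpigeon (n + 1) (Nat.succ_pos n) ?_
    have := SModEq.sub_mem.1 (hg (show (r + 1) * (n + 1) ≤ (r + 1) * (n + 1 + 1) by gcongr; omega))
    simpa [y] using neg_mem this
  have hdec : ∀ n, ∃ a : Fin r → M, (∀ i, a i ∈ (Ideal.span {f i}) ^ (n + 1) • (⊤ : Submodule A M)) ∧
      ∑ i, a i = y (n + 1) - y n := by
    intro n
    have := hd n
    simp only [P, Submodule.mem_iSup_iff_exists_finsupp] at this
    obtain ⟨a, ha, hs⟩ := this
    exact ⟨a, ha, by rw [← hs, Finsupp.sum_fintype _ _ (fun _ => rfl)]⟩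
  choose a ha hs using hdec
  have hlim : ∀ i, ∃ L : M, ∀ n, (∑ l ∈ Finset.range n, a l i) ≡ L
      [SMOD (Ideal.span {f i}) ^ n • (⊤ : Submodule A M)] := by
    intro i
    refine IsPrecomplete.prec (AdicCompletion.of_surjective_iff.1 (h i)) fun {m n} hmn => ?_
    rw [SModEq.comm, SModEq.sub_mem, ← Finset.sum_Ico_eq_sub _ hmn]
    refine Submodule.sum_mem _ fun l hl => Submodule.smul_mono (Ideal.pow_le_pow_right ?_) le_rfl (ha l i)
    have := (Finset.mem_Ico.1 hl).1
    omega
  choose L hL using hlim
  refine ⟨y 0 + ∑ i, L i, fun n => ?_⟩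
  have h1 : y n - (y 0 + ∑ i, L i) ∈ I ^ n • (⊤ : Submodule A M) := by
    have e : y n - (y 0 + ∑ i, L i) = ∑ i, ((∑ l ∈ Finset.range n, a l i) - L i) := by
      rw [Finset.sum_sub_distrib, Finset.sum_comm]
      simp only [hs, Finset.sum_range_sub y]
      abel
    rw [e]
    refine Submodule.sum_mem _ fun i _ => Submodule.smul_mono (Ideal.pow_right_mono ?_ n) le_rfl (SModEq.sub_mem.1 (hL i n))
    rw [Ideal.span_le, Set.singleton_subset_iff]
    exact Ideal.subset_span ⟨i, rfl⟩
  have h2 : n ≤ (r + 1) * (n + 1) := by nlinarith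
  exact (hg h2).trans (SModEq.sub_mem.2 h1)


end Groth.Agent.S9603
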