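import Groth.Statements.S9605
import Groth.Agent.AdicLib.Basic

set_option autoImplicit false
universe u
open CAlg

namespace Groth.Agent.S9605

/-- For a ring R, an ideal I of R, an I-adically complete R-module M and a submodule K of M, the
quotient M/K is I-adically complete if and only if K = ⋂ₙ (K + IⁿM). -/
theorem result {R : Type u} [CommRing R] (I : Ideal R) (M : Type u) [AddCommGroup M] [Module R M] [IsAdicComplete I M] (K : Submodule R M) :
    IsAdicComplete I (M ⧸ K) ↔ K = ⨅ n : ℕ, K ⊔ I ^ n • (⊤ : Submodule R M) := by
  exact AdicLib.quotient_iff I K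


end Groth.Agent.S9605
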