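import Groth.Statements.S9606
import Mathlib

set_option autoImplicit false
universe u
open CAlg

namespace Groth.Agent.S9606

/-- Let R → S be a ring map with locally nilpotent kernel such that S is generated over R by elements x
with x² and x³ in the image of R. Then the induced map on spectra is a homeomorphism and every
residue field map κ(p) → κ(q), for q a prime of S with inverse image p, is bijective. -/
theorem result {R S : Type u} [CommRing R] [CommRing S] [Algebra R S]
    (hgen : Algebra.adjoin R {x : S | x ^ 2 ∈ Set.range (algebraMap R S) ∧ x ^ 3 ∈ Set.range (algebraMap R S)} = ⊤)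
    (hker : ∀ r : R, algebraMap R S r = 0 → IsNilpotent r) :
    IsHomeomorph (PrimeSpectrum.comap (algebraMap R S)) ∧
      ∀ (q : Ideal S) [q.IsPrime], Function.Bijective (Ideal.ResidueField.map (q.comap (algebraMap R S)) q (algebraMap R S) rfl) := by
  classical
  have hbij : ∀ (q : Ideal S) [q.IsPrime],
      Function.Bijective (Ideal.ResidueField.map (q.comap (algebraMap R S)) q (algebraMap R S) rfl) := by
    intro q _
    let φ := Ideal.ResidueField.map (q.comap (algebraMap R S)) q (algebraMap R S) rfl
    refine ⟨RingHom.injective _, fun z => ?_⟩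
    have hmem : ∀ s : S, algebraMap S q.ResidueField s ∈ φ.fieldRange := by
      intro s
      have hr : ∀ r : R, algebraMap S q.ResidueField (algebraMap R S r) ∈ φ.fieldRange := fun r =>
        ⟨algebraMap R _ r, Ideal.ResidueField.map_algebraMap _ _ _ _ _⟩
      have hs : s ∈ Algebra.adjoin R {x : S | x ^ 2 ∈ Set.range (algebraMap R S) ∧ x ^ 3 ∈ Set.range (algebraMap R S)} :=
        hgen ▸ Algebra.mem_top
      induction hs using Algebra.adjoin_induction with
      | mem x hx =>
        obtain ⟨⟨a, ha⟩, b, hb⟩ := hx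
        rcases eq_or_ne (algebraMap S q.ResidueField x) 0 with h0 | h0
        · rw [h0]; exact zero_mem _
        · have : algebraMap S q.ResidueField x =
              algebraMap S q.ResidueField (algebraMap R S b) / algebraMap S q.ResidueField (algebraMap R S a) := by
            rw [ha, hb, map_pow, map_pow]; field_simp
          rw [this]
          exact div_mem (hr b) (hr a)
      | algebraMap r => exact hr r
      | add x y _ _ hx hy => rw [map_add]; exact add_mem hx hy
      | mul x y _ _ hx hy => rw [map_mul]; exact mul_mem hx hy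
    obtain ⟨a, b, hb, rfl⟩ := IsFractionRing.div_surjective (S ⧸ q) z
    obtain ⟨a, rfl⟩ := Ideal.Quotient.mk_surjective a
    obtain ⟨b, rfl⟩ := Ideal.Quotient.mk_surjective b
    exact (div_mem (hmem a) (hmem b) :)
  refine ⟨?_, hbij⟩
  have hint : (algebraMap R S).IsIntegral := by
    have : Algebra.IsIntegral R S := by
      exact ⟨fun x => (Algebra.adjoin_le (S := integralClosure R S) (fun y hy => by
        obtain ⟨⟨a, ha⟩, -⟩ := hy
        exact IsIntegral.of_pow two_pos (ha ▸ isIntegral_algebraMap)) (hgen ▸ Algebra.mem_top) :)⟩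
    exact Algebra.IsIntegral.isIntegral
  refine isHomeomorph_iff_continuous_isClosedMap_bijective.2 ⟨PrimeSpectrum.continuous_comap _,
    PrimeSpectrum.isClosedMap_comap_of_isIntegral _ hint, ?_, ?_⟩
  · intro q₁ q₂ h
    let p := PrimeSpectrum.comap (algebraMap R S) q₂
    have h1 : q₁.asIdeal.comap (algebraMap R S) = p.asIdeal := congr(($h).asIdeal)
    have key : ∀ q : PrimeSpectrum S, q.asIdeal.comap (algebraMap R S) = p.asIdeal →
        ∃ φ : S →+* p.asIdeal.ResidueField, (∀ r, φ (algebraMap R S r) = algebraMap R _ r) ∧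
          ∀ s, φ s = 0 ↔ s ∈ q.asIdeal := by
      intro q hq
      have hb : Function.Bijective (Ideal.ResidueField.map p.asIdeal q.asIdeal (algebraMap R S) hq.symm) := by
        have key2 : ∀ (P : Ideal R) [P.IsPrime] (e : P = q.asIdeal.comap (algebraMap R S)),
            Function.Bijective (Ideal.ResidueField.map P q.asIdeal (algebraMap R S) e) := by
          intro P _ e; subst e; exact hbij q.asIdeal
        exact key2 _ hq.symm
      let e := RingEquiv.ofBijective _ hb
      refine ⟨(e.symm : q.asIdeal.ResidueField →+* p.asIdeal.ResidueField).comp (algebraMap S q.asIdeal.ResidueField),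
        fun r => ?_, fun s => ?_⟩
      · show e.symm (algebraMap S q.asIdeal.ResidueField (algebraMap R S r)) = _
        rw [RingEquiv.symm_apply_eq]
        exact (Ideal.ResidueField.map_algebraMap _ _ _ _ _).symm
      · show e.symm _ = 0 ↔ _
        rw [map_eq_zero_iff _ e.symm.injective]
        exact Ideal.algebraMap_residueField_eq_zero
    obtain ⟨φ₁, hφ₁, hk₁⟩ := key q₁ h1
    obtain ⟨φ₂, hφ₂, hk₂⟩ := key q₂ rfl
    have heq : ∀ s : S, φ₁ s = φ₂ s := by
      intro s
      have hs : s ∈ Algebra.adjoin R {x : S | x ^ 2 ∈ Set.range (algebraMap R S) ∧ x ^ 3 ∈ Set.range (algebraMap R S)} :=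
        hgen ▸ Algebra.mem_top
      induction hs using Algebra.adjoin_induction with
      | mem x hx =>
        obtain ⟨⟨a, ha⟩, b, hb⟩ := hx
        have e2 : φ₁ x ^ 2 = φ₂ x ^ 2 := by rw [← map_pow, ← map_pow, ← ha, hφ₁, hφ₂]
        have e3 : φ₁ x ^ 3 = φ₂ x ^ 3 := by rw [← map_pow, ← map_pow, ← hb, hφ₁, hφ₂]
        rcases eq_or_ne (φ₁ x) 0 with h0 | h0
        · rw [h0, zero_pow two_ne_zero, eq_comm, pow_eq_zero_iff two_ne_zero] at e2
          rw [h0, e2]
        · apply mul_left_cancel₀ (pow_ne_zero 2 h0)
          calc φ₁ x ^ 2 * φ₁ x = φ₁ x ^ 3 := by ring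
            _ = φ₂ x ^ 3 := e3
            _ = φ₁ x ^ 2 * φ₂ x := by rw [e2]; ring
      | algebraMap r => rw [hφ₁, hφ₂]
      | add x y _ _ hx hy => rw [map_add, map_add, hx, hy]
      | mul x y _ _ hx hy => rw [map_mul, map_mul, hx, hy]
    ext s
    rw [← hk₁, ← hk₂, heq]
  · intro p
    have : Algebra.IsIntegral R S := ⟨fun x => hint x⟩
    obtain ⟨Q, -, hQ, hQp⟩ := Ideal.exists_ideal_over_prime_of_isIntegral (R := R) (S := S)
      p.asIdeal ⊥ (fun r hr => p.isPrime.radical ▸ Ideal.radical_mono bot_le (hker r hr))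
    exact ⟨⟨Q, hQ⟩, PrimeSpectrum.ext hQp⟩


end Groth.Agent.S9606
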