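import Groth.Statements.S9607
import Mathlib
import Mathlib

set_option autoImplicit false
universe u
open CAlg

namespace Groth.Agent.S9607

/-- For a prime number p and integers n, m > 0 there exists an integer a such that (x + y)^(p^a) and p^a
(x + y) both belong to the subring ℤ[x^(p^n), p^n x, y^(p^m), p^m y] of the polynomial ring ℤ[x, y]. -/
theorem result (p : ℕ) (hp : p.Prime) (n m : ℕ) (hn : 0 < n) (hm : 0 < m) :
    ∃ a : ℕ, ((MvPolynomial.X 0 + MvPolynomial.X 1 : MvPolynomial (Fin 2) ℤ) ^ (p ^ a) ∈ Algebra.adjoin ℤ ({MvPolynomial.X 0 ^ (p ^ n), (p : MvPolynomial (Fin 2) ℤ) ^ n * MvPolynomial.X 0, MvPolynomial.X 1 ^ (p ^ m), (p : MvPolynomial (Fin 2) ℤ) ^ m * MvPolynomial.X 1} : Set (MvPolynomial (Fin 2) ℤ)) ∧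
      (p : MvPolynomial (Fin 2) ℤ) ^ a * (MvPolynomial.X 0 + MvPolynomial.X 1) ∈ Algebra.adjoin ℤ ({MvPolynomial.X 0 ^ (p ^ n), (p : MvPolynomial (Fin 2) ℤ) ^ n * MvPolynomial.X 0, MvPolynomial.X 1 ^ (p ^ m), (p : MvPolynomial (Fin 2) ℤ) ^ m * MvPolynomial.X 1} : Set (MvPolynomial (Fin 2) ℤ))) := by
  classical
  have := Fact.mk hp
  set A := Algebra.adjoin ℤ ({MvPolynomial.X 0 ^ (p ^ n), (p : MvPolynomial (Fin 2) ℤ) ^ n * MvPolynomial.X 0,
    MvPolynomial.X 1 ^ (p ^ m), (p : MvPolynomial (Fin 2) ℤ) ^ m * MvPolynomial.X 1} : Set (MvPolynomial (Fin 2) ℤ))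
  have hint : ∀ z : ℕ, (z : MvPolynomial (Fin 2) ℤ) ∈ A := fun z => natCast_mem A z
  have hx1 : MvPolynomial.X 0 ^ (p ^ n) ∈ A := Algebra.subset_adjoin (by simp)
  have hx2 : (p : MvPolynomial (Fin 2) ℤ) ^ n * MvPolynomial.X 0 ∈ A := Algebra.subset_adjoin (by simp)
  have hy1 : MvPolynomial.X 1 ^ (p ^ m) ∈ A := Algebra.subset_adjoin (by simp)
  have hy2 : (p : MvPolynomial (Fin 2) ℤ) ^ m * MvPolynomial.X 1 ∈ A := Algebra.subset_adjoin (by simp)
  have hmon : ∀ (v : MvPolynomial (Fin 2) ℤ) (l : ℕ), v ^ (p ^ l) ∈ A → (p : MvPolynomial (Fin 2) ℤ) ^ l * v ∈ A →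
      ∀ i : ℕ, (p : MvPolynomial (Fin 2) ℤ) ^ (l * (i % p ^ l)) * v ^ i ∈ A := by
    intro v l h1 h2 i
    have : (p : MvPolynomial (Fin 2) ℤ) ^ (l * (i % p ^ l)) * v ^ i =
        (v ^ (p ^ l)) ^ (i / p ^ l) * ((p : MvPolynomial (Fin 2) ℤ) ^ l * v) ^ (i % p ^ l) := by
      conv_lhs => rw [← Nat.div_add_mod i (p ^ l), pow_add]
      rw [Nat.div_add_mod, mul_pow, ← pow_mul, ← pow_mul]
      ring
    rw [this]
    exact mul_mem (pow_mem h1 _) (pow_mem h2 _)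
  obtain ⟨a, ha⟩ : ∃ a, a = n * p ^ n + m * p ^ m + n + m := ⟨_, rfl⟩
  refine ⟨a, ?_, ?_⟩
  · rw [add_pow]
    refine sum_mem fun i hi => ?_
    have hi' : i ≤ p ^ a := Nat.lt_succ_iff.1 (Finset.mem_range.1 hi)
    have h1 := hmon _ n hx1 hx2 i
    have h2 := hmon _ m hy1 hy2 (p ^ a - i)
    obtain ⟨c, hc⟩ : p ^ (n * (i % p ^ n) + m * ((p ^ a - i) % p ^ m)) ∣ (p ^ a).choose i := by
      rcases Nat.eq_zero_or_pos i with rfl | hpos
      · have h0 : (p ^ a - 0) % p ^ m = 0 := by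
          rw [Nat.sub_zero]; exact Nat.mod_eq_zero_of_dvd (pow_dvd_pow p (by omega))
        rw [h0, Nat.zero_mod, mul_zero, mul_zero, add_zero, pow_zero]
        exact one_dvd _
      by_cases hv : max n m ≤ i.factorization p
      · have hd : p ^ (max n m) ∣ i := (pow_dvd_pow p hv).trans (Nat.ordProj_dvd i p)
        have h1 : i % p ^ n = 0 := Nat.mod_eq_zero_of_dvd ((pow_dvd_pow p (le_max_left n m)).trans hd)
        have h2 : (p ^ a - i) % p ^ m = 0 :=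
          Nat.mod_eq_zero_of_dvd (Nat.dvd_sub (pow_dvd_pow p (by omega)) ((pow_dvd_pow p (le_max_right n m)).trans hd))
        simp [h1, h2]
      · refine (pow_dvd_pow p ?_).trans (Nat.ordProj_dvd _ p)
        rw [Nat.factorization_choose_prime_pow hp hi' (Nat.pos_iff_ne_zero.1 hpos)]
        have hb1 : n * (i % p ^ n) ≤ n * p ^ n := Nat.mul_le_mul_left n (Nat.mod_lt _ (pow_pos hp.pos n)).le
        have hb2 : m * ((p ^ a - i) % p ^ m) ≤ m * p ^ m := Nat.mul_le_mul_left m (Nat.mod_lt _ (pow_pos hp.pos m)).le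
        omega
    rw [hc, Nat.cast_mul, Nat.cast_pow, pow_add]
    rw [show (MvPolynomial.X 0 : MvPolynomial (Fin 2) ℤ) ^ i * MvPolynomial.X 1 ^ (p ^ a - i) *
        ((p : MvPolynomial (Fin 2) ℤ) ^ (n * (i % p ^ n)) * (p : MvPolynomial (Fin 2) ℤ) ^ (m * ((p ^ a - i) % p ^ m)) * (c : MvPolynomial (Fin 2) ℤ)) =
        (c : MvPolynomial (Fin 2) ℤ) * (((p : MvPolynomial (Fin 2) ℤ) ^ (n * (i % p ^ n)) * MvPolynomial.X 0 ^ i) *
          ((p : MvPolynomial (Fin 2) ℤ) ^ (m * ((p ^ a - i) % p ^ m)) * MvPolynomial.X 1 ^ (p ^ a - i))) by ring]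
    exact mul_mem (hint c) (mul_mem h1 h2)
  · rw [mul_add]
    refine add_mem ?_ ?_
    · rw [show a = (a - n) + n by omega, pow_add, mul_assoc]
      exact mul_mem (pow_mem (hint p) _) hx2
    · rw [show a = (a - m) + m by omega, pow_add, mul_assoc]
      exact mul_mem (pow_mem (hint p) _) hy2


end Groth.Agent.S9607
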