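import Groth.Statements.S9608
import Mathlib

set_option autoImplicit false
universe u
open CAlg

namespace Groth.Agent.S9608

/-- Let k'/k be a field extension and p a prime number. Then k' is generated over k by elements x for
which some n > 0 has x^(p^n) ∈ k and p^n x ∈ k, if and only if either k' = k, or k has
characteristic p and k'/k is purely inseparable. -/
theorem result {k k' : Type u} [Field k] [Field k'] [Algebra k k'] (p : ℕ) (hp : p.Prime) :
    IntermediateField.adjoin k {x : k' | ∃ n : ℕ, 0 < n ∧ x ^ (p ^ n) ∈ Set.range (algebraMap k k') ∧ (p : k') ^ n * x ∈ Set.range (algebraMap k k')} = ⊤ ↔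
      (Function.Surjective (algebraMap k k') ∨ (CharP k p ∧ IsPurelyInseparable k k')) := by
  have := Fact.mk hp
  constructor
  · intro h
    by_cases hsurj : Function.Surjective (algebraMap k k')
    · exact Or.inl hsurj
    right
    have hex : ∃ x : k', (∃ n : ℕ, 0 < n ∧ x ^ (p ^ n) ∈ Set.range (algebraMap k k') ∧
        (p : k') ^ n * x ∈ Set.range (algebraMap k k')) ∧ x ∉ Set.range (algebraMap k k') := by
      by_contra! hc
      refine hsurj fun y => ?_
      have hle : IntermediateField.adjoin k {x : k' | ∃ n : ℕ, 0 < n ∧ x ^ (p ^ n) ∈ Set.range (algebraMap k k') ∧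
          (p : k') ^ n * x ∈ Set.range (algebraMap k k')} ≤ ⊥ :=
        IntermediateField.adjoin_le_iff.2 fun x hx => IntermediateField.mem_bot.2 (hc x hx)
      exact IntermediateField.mem_bot.1 (hle (h ▸ IntermediateField.mem_top))
    obtain ⟨x, ⟨n, hn, -, c, hc⟩, hx⟩ := hex
    have hp0 : (p : k) = 0 := by
      by_contra hne
      refine hx ⟨c / (p : k) ^ n, ?_⟩
      have hne' : (p : k') ≠ 0 := by
        rw [← map_natCast (algebraMap k k') p]; exact (map_ne_zero _).2 hne
      rw [map_div₀, map_pow, map_natCast, hc, mul_div_cancel_left₀ _ (pow_ne_zero n hne')]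
    have hchar : CharP k p := (CharP.charP_iff_prime_eq_zero hp).2 hp0
    refine ⟨hchar, ?_⟩
    have hpure := (IntermediateField.isPurelyInseparable_adjoin_iff_pow_mem k k' p (hF := ExpChar.prime hp)
      (S := {x : k' | ∃ n : ℕ, 0 < n ∧ x ^ (p ^ n) ∈ Set.range (algebraMap k k') ∧
        (p : k') ^ n * x ∈ Set.range (algebraMap k k')})).2 fun x hx => by
        obtain ⟨n, -, h1, -⟩ := hx
        exact ⟨n, h1⟩
    rw [h] at hpure
    exact (IntermediateField.topEquiv (F := k) (E := k')).isPurelyInseparable
  · intro h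
    refine eq_top_iff.2 fun y _ => IntermediateField.subset_adjoin k _ ?_
    rcases h with h | ⟨hchar, hpure⟩
    · exact ⟨1, one_pos, h _, h _⟩
    · have : ExpChar k p := ExpChar.prime hp
      obtain ⟨n, hn⟩ := IsPurelyInseparable.pow_mem k p y
      obtain ⟨c, hc⟩ := hn
      refine ⟨n + 1, n.succ_pos, ⟨c ^ p, ?_⟩, ⟨0, ?_⟩⟩
      · rw [map_pow, hc, ← pow_mul, ← pow_succ]
      · rw [map_zero, show (p : k') = 0 by rw [← map_natCast (algebraMap k k') p, CharP.cast_eq_zero k p, map_zero],
          zero_pow (Nat.succ_ne_zero n), zero_mul]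


end Groth.Agent.S9608
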