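import Groth.Statements.S9609
import Mathlib

set_option autoImplicit false
universe u
open CAlg

namespace Groth.Agent.S9609
open TensorProduct in
theorem congr_key {R S R' : Type u} [CommRing R] [CommRing S] [CommRing R'] [Algebra R S] [Algebra R R']
    (q : Ideal S) [q.IsPrime]
    (hq : ∀ x : q.ResidueField, ∃ n : ℕ, x ^ (ringExpChar (q.comap (algebraMap R S)).ResidueField) ^ n ∈
      Set.range (Ideal.ResidueField.map (q.comap (algebraMap R S)) q (algebraMap R S) rfl))
    (x : R' ⊗[R] S) :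
    ∃ n : ℕ, ∃ b ∉ q.comap (algebraMap R S), ∃ r : R',
      algebraMap R (R' ⊗[R] S) b * x ^ (ringExpChar (q.comap (algebraMap R S)).ResidueField) ^ n -
        r ⊗ₜ 1 ∈ q.map (Algebra.TensorProduct.includeRight : S →ₐ[R] R' ⊗[R] S) := by
  set p := q.comap (algebraMap R S)
  set e := ringExpChar p.ResidueField
  set Q := q.map (Algebra.TensorProduct.includeRight : S →ₐ[R] R' ⊗[R] S)
  have h1p : (1 : R) ∉ p := fun h => (Ideal.IsPrime.ne_top inferInstance) ((Ideal.eq_top_iff_one p).2 h)
  have hfresh : ∀ (n : ℕ) (u v : (R' ⊗[R] S) ⧸ Q), (u + v) ^ e ^ n = u ^ e ^ n + v ^ e ^ n := by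
    intro n u v
    rcases eq_or_ne e 1 with h1 | h1
    · simp [h1]
    have hcase : ∀ (K : Type u) [Field K] (l : ℕ) [ExpChar K l], l = 1 ∨ (l.Prime ∧ (l : K) = 0) := by
      intro K _ l hK
      cases hK with
      | zero => exact Or.inl rfl
      | prime hl => exact Or.inr ⟨hl, CharP.cast_eq_zero K l⟩
    have := ringExpChar.expChar p.ResidueField
    obtain ⟨he, he0⟩ := (hcase p.ResidueField e).resolve_left h1
    obtain ⟨r, hr⟩ := exists_add_pow_prime_pow_eq he u v n
    have hep : ((e : R)) ∈ p := by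
      rw [← Ideal.algebraMap_residueField_eq_zero, map_natCast]
      exact he0
    have h0 : (e : (R' ⊗[R] S) ⧸ Q) = 0 := by
      rw [← map_natCast (Ideal.Quotient.mk Q), Ideal.Quotient.eq_zero_iff_mem,
        ← map_natCast (Algebra.TensorProduct.includeRight : S →ₐ[R] R' ⊗[R] S)]
      refine Ideal.mem_map_of_mem _ ?_
      rw [← map_natCast (algebraMap R S)]
      exact hep
    rw [hr, h0]; ring
  suffices ∃ n : ℕ, ∃ b ∉ p, ∃ r : R', Ideal.Quotient.mk Q (algebraMap R (R' ⊗[R] S) b) *
      Ideal.Quotient.mk Q x ^ e ^ n = Ideal.Quotient.mk Q (r ⊗ₜ 1) by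
    obtain ⟨n, b, hb, r, h⟩ := this
    refine ⟨n, b, hb, r, ?_⟩
    rw [← Ideal.Quotient.mk_eq_mk_iff_sub_mem, map_mul, map_pow]
    exact h
  induction x with
  | zero => exact ⟨0, 1, h1p, 0, by simp⟩
  | tmul c s =>
    obtain ⟨n, z, hz⟩ := hq (algebraMap S q.ResidueField s)
    obtain ⟨a, b, hb, rfl⟩ := IsFractionRing.div_surjective (R ⧸ p) z
    obtain ⟨a, rfl⟩ := Ideal.Quotient.mk_surjective a
    obtain ⟨b, rfl⟩ := Ideal.Quotient.mk_surjective b
    have hb' : b ∉ p := fun h => nonZeroDivisors.ne_zero hb (Ideal.Quotient.eq_zero_iff_mem.2 h)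
    refine ⟨n, b, hb', c ^ e ^ n * algebraMap R R' a, ?_⟩
    have hmem : algebraMap R S b * s ^ e ^ n - algebraMap R S a ∈ q := by
      rw [← Ideal.algebraMap_residueField_eq_zero, map_sub, map_mul, map_pow]
      have hne : algebraMap R p.ResidueField b ≠ 0 := fun h => hb' (Ideal.algebraMap_residueField_eq_zero.1 h)
      change Ideal.ResidueField.map p q (algebraMap R S) rfl (algebraMap R p.ResidueField a / algebraMap R p.ResidueField b) = _ at hz
      rw [map_div₀, Ideal.ResidueField.map_algebraMap, Ideal.ResidueField.map_algebraMap,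
        div_eq_iff (fun h0 => hne ((map_eq_zero_iff _ (RingHom.injective _)).1
          ((Ideal.ResidueField.map_algebraMap p q (algebraMap R S) rfl b).trans h0)))] at hz
      rw [sub_eq_zero, hz, mul_comm]
    rw [← map_pow, ← map_mul, Ideal.Quotient.mk_eq_mk_iff_sub_mem, Algebra.TensorProduct.tmul_pow]
    have : algebraMap R (R' ⊗[R] S) b * ((c ^ e ^ n) ⊗ₜ[R] (s ^ e ^ n)) - (c ^ e ^ n * algebraMap R R' a) ⊗ₜ[R] (1 : S) =
        ((c ^ e ^ n) ⊗ₜ[R] (1 : S)) * (Algebra.TensorProduct.includeRight : S →ₐ[R] R' ⊗[R] S) (algebraMap R S b * s ^ e ^ n - algebraMap R S a) := by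
      rw [Algebra.TensorProduct.includeRight_apply, Algebra.TensorProduct.tmul_mul_tmul, mul_one, one_mul, tmul_sub,
        ← Algebra.smul_def b (_ : R' ⊗[R] S), ← tmul_smul, Algebra.smul_def, mul_comm (c ^ e ^ n),
        ← Algebra.smul_def a, smul_tmul, Algebra.smul_def a, mul_one]
    rw [this]
    exact Ideal.mul_mem_left _ _ (Ideal.mem_map_of_mem _ hmem)
  | add u v hu hv =>
    obtain ⟨n, b, hb, r, h⟩ := hu
    obtain ⟨m, b', hb', r', h'⟩ := hv
    refine ⟨n + m, b ^ e ^ m * b' ^ e ^ n, fun hc => ?_,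
      algebraMap R R' (b' ^ e ^ n) * r ^ e ^ m + algebraMap R R' (b ^ e ^ m) * r' ^ e ^ n, ?_⟩
    · rcases (Ideal.IsPrime.mem_or_mem inferInstance hc) with hc | hc
      · exact hb (Ideal.IsPrime.mem_of_pow_mem inferInstance _ hc)
      · exact hb' (Ideal.IsPrime.mem_of_pow_mem inferInstance _ hc)
    · have hincl : ∀ y : R', (Ideal.Quotient.mk Q) (y ⊗ₜ[R] (1 : S)) = (Ideal.Quotient.mk Q).comp
          (Algebra.TensorProduct.includeLeftRingHom) y := fun y => rfl
      have halg : ∀ y : R, (Ideal.Quotient.mk Q).comp (Algebra.TensorProduct.includeLeftRingHom) (algebraMap R R' y) =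
          Ideal.Quotient.mk Q (algebraMap R (R' ⊗[R] S) y) := fun y => rfl
      rw [hincl] at h h' ⊢
      simp only [RingHom.map_add, RingHom.map_mul, RingHom.map_pow, halg]
      rw [← h, ← h', hfresh]
      simp only [mul_pow, ← pow_mul]
      rw [show e ^ m * e ^ n = e ^ (n + m) by ring, show e ^ n * e ^ m = e ^ (n + m) by ring]
      ring


open TensorProduct in
/-- Let R → S be a ring map which is injective on spectra and whose residue field extensions κ(p) → κ(q)
(q a prime of S with inverse image p) are purely inseparable: every element of κ(q) has a power with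
exponent a power of the characteristic exponent lying in the image of κ(p). Then, given an arbitrary
R-algebra R', the induced map R' → R' ⊗_R S is likewise injective on spectra and has purely
inseparable residue field extensions. -/
theorem result {R S R' : Type u} [CommRing R] [CommRing S] [CommRing R'] [Algebra R S] [Algebra R R']
    (hinj : Function.Injective (PrimeSpectrum.comap (algebraMap R S)))
    (hpi : ∀ (q : Ideal S) [q.IsPrime] (x : q.ResidueField), ∃ n : ℕ, x ^ (ringExpChar (q.comap (algebraMap R S)).ResidueField) ^ n ∈ Set.range (Ideal.ResidueField.map (q.comap (algebraMap R S)) q (algebraMap R S) rfl)) :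
    Function.Injective (PrimeSpectrum.comap (algebraMap R' (R' ⊗[R] S))) ∧
      ∀ (q' : Ideal (R' ⊗[R] S)) [q'.IsPrime] (x : q'.ResidueField), ∃ n : ℕ, x ^ (ringExpChar (q'.comap (algebraMap R' (R' ⊗[R] S))).ResidueField) ^ n ∈ Set.range (Ideal.ResidueField.map (q'.comap (algebraMap R' (R' ⊗[R] S))) q' (algebraMap R' (R' ⊗[R] S)) rfl) := by
  have hqprime : ∀ (q' : Ideal (R' ⊗[R] S)) [q'.IsPrime], (q'.comap (Algebra.TensorProduct.includeRight : S →ₐ[R] R' ⊗[R] S)).IsPrime :=
    fun q' _ => Ideal.IsPrime.comap _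
  have hbase : ∀ (q' : Ideal (R' ⊗[R] S)),
      (q'.comap (Algebra.TensorProduct.includeRight : S →ₐ[R] R' ⊗[R] S)).comap (algebraMap R S) =
        (q'.comap (algebraMap R' (R' ⊗[R] S))).comap (algebraMap R R') := by
    intro q'
    ext r
    simp only [Ideal.mem_comap]
    rw [AlgHom.commutes, ← IsScalarTower.algebraMap_apply]
  have hbnot : ∀ (q' : Ideal (R' ⊗[R] S)) [q'.IsPrime] (b : R),
      b ∉ (q'.comap (Algebra.TensorProduct.includeRight : S →ₐ[R] R' ⊗[R] S)).comap (algebraMap R S) →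
        algebraMap R (R' ⊗[R] S) b ∉ q' := by
    intro q' _ b hb hc
    exact hb (by rw [Ideal.mem_comap, Ideal.mem_comap, AlgHom.commutes]; exact hc)
  constructor
  · intro q₁ q₂ h
    have h' : q₁.asIdeal.comap (algebraMap R' (R' ⊗[R] S)) = q₂.asIdeal.comap (algebraMap R' (R' ⊗[R] S)) := congr(($h).asIdeal)
    let inc := (Algebra.TensorProduct.includeRight : S →ₐ[R] R' ⊗[R] S).toRingHom
    have hqq : PrimeSpectrum.comap inc q₁ = PrimeSpectrum.comap inc q₂ := by
      apply hinj
      apply PrimeSpectrum.ext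
      show (q₁.asIdeal.comap inc).comap (algebraMap R S) = (q₂.asIdeal.comap inc).comap (algebraMap R S)
      exact (hbase q₁.asIdeal).trans ((congrArg _ h').trans (hbase q₂.asIdeal).symm)
    have hqq' : q₁.asIdeal.comap (Algebra.TensorProduct.includeRight : S →ₐ[R] R' ⊗[R] S) =
        q₂.asIdeal.comap (Algebra.TensorProduct.includeRight : S →ₐ[R] R' ⊗[R] S) := congr(($hqq).asIdeal)
    have key : ∀ a b : PrimeSpectrum (R' ⊗[R] S),
        a.asIdeal.comap (algebraMap R' (R' ⊗[R] S)) = b.asIdeal.comap (algebraMap R' (R' ⊗[R] S)) →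
        a.asIdeal.comap (Algebra.TensorProduct.includeRight : S →ₐ[R] R' ⊗[R] S) =
          b.asIdeal.comap (Algebra.TensorProduct.includeRight : S →ₐ[R] R' ⊗[R] S) → a.asIdeal ≤ b.asIdeal := by
      intro a b hab hab' x hx
      obtain ⟨n, β, hβ, r, hr⟩ := congr_key (a.asIdeal.comap (Algebra.TensorProduct.includeRight : S →ₐ[R] R' ⊗[R] S)) (hpi _) x
      have ha := (Ideal.map_comap_le : _ ≤ a.asIdeal) hr
      have hpos := pow_pos (show 0 < ringExpChar ((a.asIdeal.comap (Algebra.TensorProduct.includeRight : S →ₐ[R] R' ⊗[R] S)).comap (algebraMap R S)).ResidueField from lt_max_of_lt_right Nat.one_pos) n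
      have hra : r ⊗ₜ[R] (1 : S) ∈ a.asIdeal := by
        have := sub_mem (a.asIdeal.mul_mem_left (algebraMap R _ β) (Ideal.pow_mem_of_mem _ hx _ hpos)) ha
        rwa [sub_sub_cancel] at this
      have hrb : r ⊗ₜ[R] (1 : S) ∈ b.asIdeal :=
        (Eq.le hab (show r ∈ a.asIdeal.comap (algebraMap R' (R' ⊗[R] S)) from hra) :)
      have hb := (Ideal.map_comap_le : _ ≤ b.asIdeal) (Ideal.map_mono (Eq.le hab') hr)
      have hprod := add_mem hb hrb
      rw [sub_add_cancel] at hprod
      refine b.isPrime.mem_of_pow_mem _ ((b.isPrime.mem_or_mem hprod).resolve_left ?_)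
      exact hbnot b.asIdeal β fun hc => hβ (Ideal.comap_mono (Eq.ge hab') hc)
    exact PrimeSpectrum.ext (le_antisymm (key q₁ q₂ h' hqq') (key q₂ q₁ h'.symm hqq'.symm))
  · intro q' _ z
    let q := q'.comap (Algebra.TensorProduct.includeRight : S →ₐ[R] R' ⊗[R] S)
    let φ := Ideal.ResidueField.map (q'.comap (algebraMap R' (R' ⊗[R] S))) q' (algebraMap R' (R' ⊗[R] S)) rfl
    set e := ringExpChar (q'.comap (algebraMap R' (R' ⊗[R] S))).ResidueField
    have he : ringExpChar (q.comap (algebraMap R S)).ResidueField = e := by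
      let ψ := Ideal.ResidueField.map (q.comap (algebraMap R S)) (q'.comap (algebraMap R' (R' ⊗[R] S))) (algebraMap R R') (hbase q')
      have := ringExpChar.expChar (q.comap (algebraMap R S)).ResidueField
      have := expChar_of_injective_ringHom ψ.injective (ringExpChar (q.comap (algebraMap R S)).ResidueField)
      exact (ringExpChar.eq _ _).symm
    have hgen : ∀ x : R' ⊗[R] S, ∃ n : ℕ, algebraMap (R' ⊗[R] S) q'.ResidueField x ^ e ^ n ∈ φ.fieldRange := by
      intro x
      obtain ⟨n, β, hβ, r, hr⟩ := congr_key q (hpi q) x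
      rw [he] at hr
      refine ⟨n, ?_⟩
      have h0 : algebraMap (R' ⊗[R] S) q'.ResidueField (algebraMap R (R' ⊗[R] S) β * x ^ e ^ n) =
          algebraMap (R' ⊗[R] S) q'.ResidueField (r ⊗ₜ[R] (1 : S)) := by
        rw [← sub_eq_zero, ← map_sub]
        exact Ideal.algebraMap_residueField_eq_zero.2 ((Ideal.map_comap_le : _ ≤ q') hr)
      rw [map_mul, map_pow] at h0
      have hne : algebraMap (R' ⊗[R] S) q'.ResidueField (algebraMap R (R' ⊗[R] S) β) ≠ 0 :=
        fun h => hbnot q' β hβ (Ideal.algebraMap_residueField_eq_zero.1 h)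
      rw [(eq_div_iff hne).2 ((mul_comm _ _).trans h0)]
      refine div_mem ⟨algebraMap R' _ r, ?_⟩ ⟨algebraMap R' _ (algebraMap R R' β), ?_⟩
      · exact Ideal.ResidueField.map_algebraMap _ _ _ _ _
      · rw [IsScalarTower.algebraMap_apply R R' (R' ⊗[R] S) β]
        exact Ideal.ResidueField.map_algebraMap _ _ _ _ _
    obtain ⟨a, b, hb, rfl⟩ := IsFractionRing.div_surjective ((R' ⊗[R] S) ⧸ q') z
    obtain ⟨a, rfl⟩ := Ideal.Quotient.mk_surjective a
    obtain ⟨b, rfl⟩ := Ideal.Quotient.mk_surjective b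
    obtain ⟨n, hn⟩ := hgen a
    obtain ⟨m, hm⟩ := hgen b
    refine ⟨n + m, ?_⟩
    have h1 : algebraMap (R' ⊗[R] S) q'.ResidueField a ^ e ^ (n + m) ∈ φ.fieldRange := by
      rw [pow_add, pow_mul]; exact pow_mem hn _
    have h2 : algebraMap (R' ⊗[R] S) q'.ResidueField b ^ e ^ (n + m) ∈ φ.fieldRange := by
      rw [add_comm n m, pow_add, pow_mul]; exact pow_mem hm _
    rw [div_pow]
    exact (div_mem h1 h2 :)


end Groth.Agent.S9609
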