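import Groth.Statements.S9610
import Mathlib

set_option autoImplicit false
universe u
open CAlg

namespace Groth.Agent.S9610

/-- Let k be a field and V a nonzero k-vector space with dim_k V < #k as cardinals. Then every k-linear
endomorphism T of V admits a monic polynomial P over k for which P(T) is not invertible. -/
theorem result {k V : Type u} [Field k] [AddCommGroup V] [Module k V] [Nontrivial V] (hV : Module.rank k V < Cardinal.mk k) (T : Module.End k V) :
    ∃ P : Polynomial k, P.Monic ∧ ¬ IsUnit (Polynomial.aeval T P) := by
  classical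
  by_contra! hc
  obtain ⟨v, hv⟩ := exists_ne (0 : V)
  have hu : ∀ c : k, IsUnit (Polynomial.aeval T (Polynomial.X - Polynomial.C c)) :=
    fun c => hc _ (Polynomial.monic_X_sub_C c)
  have hli : LinearIndependent k fun c : k => ((hu c).unit⁻¹ : (Module.End k V)ˣ).1 v := by
    rw [linearIndependent_iff']
    intro s g hg c hcs
    let Q : Polynomial k := ∑ d ∈ s, Polynomial.C (g d) * ∏ e ∈ s.erase d, (Polynomial.X - Polynomial.C e)
    have hQv : Polynomial.aeval T Q v = 0 := by
      have : Polynomial.aeval T (∏ e ∈ s, (Polynomial.X - Polynomial.C e))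
          (∑ d ∈ s, g d • ((hu d).unit⁻¹ : (Module.End k V)ˣ).1 v) = Polynomial.aeval T Q v := by
        rw [map_sum (g := Polynomial.aeval T (∏ e ∈ s, (Polynomial.X - Polynomial.C e)))]
        simp only [Q, map_sum, LinearMap.sum_apply]
        refine Finset.sum_congr rfl fun d hd => ?_
        rw [← Finset.mul_prod_erase s _ hd, mul_comm, map_mul, Module.End.mul_apply, map_smul,
          ← Module.End.mul_apply (Polynomial.aeval T (Polynomial.X - Polynomial.C d)),
          IsUnit.mul_val_inv, Module.End.one_apply, map_smul, map_mul, Polynomial.aeval_C,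
          Module.End.mul_apply, Module.algebraMap_end_apply]
      rw [← this, hg, map_zero]
    have hQ : Q = 0 := by
      by_contra hne
      have hu' := hc _ (Polynomial.monic_mul_leadingCoeff_inv hne)
      have h0 : Polynomial.aeval T (Q * Polynomial.C Q.leadingCoeff⁻¹) v = 0 := by
        rw [mul_comm, map_mul, Module.End.mul_apply, hQv, map_zero]
      exact hv (((Module.End.isUnit_iff _).1 hu').1 (by rw [h0, map_zero]))
    have he := congrArg (Polynomial.eval c) hQ
    simp only [Q, Polynomial.eval_finsetSum, Polynomial.eval_mul, Polynomial.eval_C, Polynomial.eval_zero,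
      Polynomial.eval_prod, Polynomial.eval_sub, Polynomial.eval_X] at he
    rw [Finset.sum_eq_single c] at he
    · exact (mul_eq_zero.1 he).resolve_right
        (Finset.prod_ne_zero_iff.2 fun e he => sub_ne_zero.2 (Finset.ne_of_mem_erase he).symm)
    · intro d _ hdc
      rw [Finset.prod_eq_zero (Finset.mem_erase.2 ⟨Ne.symm hdc, hcs⟩) (sub_self c), mul_zero]
    · exact fun h => absurd hcs h
  exact hV.not_ge (by simpa using hli.cardinal_le_rank)


end Groth.Agent.S9610
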