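import Groth.Statements.S9611
import Mathlib

set_option autoImplicit false
universe u
open CAlg

namespace Groth.Agent.S9611

/-- Let R be a Jacobson ring, p a prime ideal of R which is not maximal, and f an element of R not in p.
Then the set of primes of R containing p and not containing f is infinite. -/
theorem result {R : Type u} [CommRing R] [IsJacobsonRing R] (p : Ideal R) [p.IsPrime] (hp : ¬ p.IsMaximal) (f : R) (hf : f ∉ p) :
    {q : PrimeSpectrum R | p ≤ q.asIdeal ∧ f ∉ q.asIdeal}.Infinite := by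
  classical
  intro hfin
  let T := hfin.toFinset.filter fun q : PrimeSpectrum R => q.asIdeal.IsMaximal
  have hx : ∀ q ∈ T, ∃ x ∈ q.asIdeal, x ∉ p := by
    intro q hq
    refine SetLike.not_le_iff_exists.1 fun hle => hp ?_
    obtain ⟨hqs, hqm⟩ := Finset.mem_filter.1 hq
    have : p = q.asIdeal := le_antisymm ((hfin.mem_toFinset.1 hqs).1) hle
    rw [this]; exact hqm
  choose! x hx hxp using hx
  have hmem : f * ∏ q ∈ T, x q ∈ p.jacobson := by
    refine Ideal.mem_sInf.2 fun {J} hJ => ?_
    obtain ⟨hpJ, hJm⟩ := hJ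
    by_cases hf' : f ∈ J
    · exact J.mul_mem_right _ hf'
    · have hT : (⟨J, hJm.isPrime⟩ : PrimeSpectrum R) ∈ T :=
        Finset.mem_filter.2 ⟨hfin.mem_toFinset.2 ⟨hpJ, hf'⟩, hJm⟩
      exact J.mul_mem_left _ (Ideal.mem_of_dvd _ (Finset.dvd_prod_of_mem x hT) (hx _ hT))
  rw [IsJacobsonRing.out' p (Ideal.IsPrime.isRadical ‹_›)] at hmem
  rcases (‹p.IsPrime›).mem_or_mem hmem with h | h
  · exact hf h
  · obtain ⟨q, hq, hqp⟩ := (Ideal.IsPrime.prod_mem_iff).1 h
    exact hxp q hq hqp


end Groth.Agent.S9611
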