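import Groth.Statements.S9612
import Mathlib

set_option autoImplicit false
universe u
open CAlg

namespace Groth.Agent.S9612

/-- A finite type ℤ-algebra is a Jacobson ring. -/
theorem result {S : Type u} [CommRing S] [Algebra.FiniteType ℤ S] :
    IsJacobsonRing S := by
  have : IsJacobsonRing ℤ := by
    rw [isJacobsonRing_iff_prime_eq]
    intro P hP
    rcases eq_or_ne P ⊥ with rfl | hne
    · refine eq_bot_iff.2 fun x hx => ?_
      by_contra hx0
      obtain ⟨p, hple, hp⟩ := Nat.exists_infinite_primes (x.natAbs + 1)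
      have hmax : (Ideal.span {(p : ℤ)}).IsMaximal :=
        PrincipalIdealRing.isMaximal_of_irreducible (Nat.prime_iff_prime_int.1 hp).irreducible
      have h : x ∈ Ideal.span {(p : ℤ)} := Ideal.mem_sInf.1 hx ⟨bot_le, hmax⟩
      rw [Ideal.mem_span_singleton] at h
      have h' := Nat.le_of_dvd (Int.natAbs_pos.2 hx0) (Int.natAbs_dvd_natAbs.2 h)
      simp only [Int.natAbs_natCast] at h'
      omega
    · exact Ideal.jacobson_eq_self_of_isMaximal (H := IsPrime.to_maximal_ideal hne)
  exact isJacobsonRing_of_finiteType (A := ℤ)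


end Groth.Agent.S9612
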