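import Groth.Statements.S9613
import Mathlib

set_option autoImplicit false
universe u
open CAlg

namespace Groth.Agent.S9613
theorem isLocalization_adjoin_inv {R K : Type u} [CommRing R] [Field K] [Algebra R K]
    (hinj : Function.Injective (algebraMap R K)) (f : R) (hfK : algebraMap R K f ≠ 0) :
    IsLocalization.Away f (Algebra.adjoin R {(algebraMap R K f)⁻¹}) := by
  refine ⟨?_, ?_, ?_⟩
  · rintro ⟨_, n, rfl⟩
    refine isUnit_iff_exists_inv.2 ⟨⟨((algebraMap R K f)⁻¹) ^ n, pow_mem (Algebra.subset_adjoin (R := R) (Set.mem_singleton (algebraMap R K f)⁻¹)) n⟩, ?_⟩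
    apply Subtype.ext
    rw [MulMemClass.coe_mul, SubalgebraClass.coe_algebraMap, OneMemClass.coe_one, map_pow, ← mul_pow,
      mul_inv_cancel₀ hfK, one_pow]
  · rintro ⟨z, hz⟩
    have hz' := hz
    rw [Algebra.adjoin_singleton_eq_range_aeval] at hz'
    obtain ⟨P, hP⟩ := hz'
    refine ⟨(∑ i ∈ Finset.range (P.natDegree + 1), P.coeff i * f ^ (P.natDegree - i), ⟨f ^ P.natDegree, P.natDegree, rfl⟩), ?_⟩
    apply Subtype.ext
    rw [MulMemClass.coe_mul, SubalgebraClass.coe_algebraMap, SubalgebraClass.coe_algebraMap]
    show z * algebraMap R K (f ^ P.natDegree) = algebraMap R K (∑ i ∈ Finset.range (P.natDegree + 1), P.coeff i * f ^ (P.natDegree - i))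
    rw [← hP, map_sum, map_pow, AlgHom.toRingHom_eq_coe, RingHom.coe_coe, Polynomial.aeval_eq_sum_range, Finset.sum_mul]
    refine Finset.sum_congr rfl fun i hi => ?_
    have hi' : i ≤ P.natDegree := Nat.lt_succ_iff.1 (Finset.mem_range.1 hi)
    rw [Algebra.smul_def, mul_assoc, map_mul, map_pow]
    congr 1
    conv_lhs => rw [← Nat.add_sub_cancel' hi', pow_add, ← mul_assoc, ← mul_pow, inv_mul_cancel₀ hfK, one_pow, one_mul]
  · intro x y h
    have h' : algebraMap R K x = algebraMap R K y := by
      have := congrArg (fun w : Algebra.adjoin R {(algebraMap R K f)⁻¹} => (w : K)) h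
      simpa only [SubalgebraClass.coe_algebraMap] using this
    exact ⟨1, by rw [hinj h']⟩


/-- Let R → K be an injective ring map into a field K which makes K an R-algebra of finite type. Then
for some nonzero f ∈ R the localization R_f is a field over which K is finite; here R_f is realised
as the R-subalgebra of K that is a localization of R away from f. -/
theorem result {R K : Type u} [CommRing R] [Field K] [Algebra R K] (hinj : Function.Injective (algebraMap R K)) [Algebra.FiniteType R K] :
    ∃ f : R, f ≠ 0 ∧ ∃ Rf : Subalgebra R K, IsLocalization.Away f Rf ∧ IsField Rf ∧ Module.Finite Rf K := by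
  classical
  have : IsDomain R := hinj.isDomain _
  have : FaithfulSMul R K := (faithfulSMul_iff_algebraMap_injective R K).2 hinj
  let := FractionRing.liftAlgebra R K
  have : Algebra.FiniteType (FractionRing R) K := Algebra.FiniteType.of_restrictScalars_finiteType R _ K
  have : Module.Finite (FractionRing R) K := finite_of_finite_type_of_isJacobsonRing _ _
  have halg : ∀ x : K, IsAlgebraic R x := fun x =>
    (IsFractionRing.isAlgebraic_iff R (FractionRing R) K).2 (Algebra.IsAlgebraic.isAlgebraic x)
  obtain ⟨s, hs⟩ := ‹Algebra.FiniteType R K›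
  choose a ha0 hai using fun x : K => (halg x).exists_integral_multiple
  let f := ∏ x ∈ s, a x
  have hf : f ≠ 0 := Finset.prod_ne_zero_iff.2 fun x _ => ha0 x
  have hfK : algebraMap R K f ≠ 0 := fun h => hf (hinj (by rw [h, map_zero]))
  let Rf := Algebra.adjoin R {(algebraMap R K f)⁻¹}
  have hloc : IsLocalization.Away f Rf := isLocalization_adjoin_inv hinj f hfK
  have hint : ∀ x ∈ s, IsIntegral Rf x := by
    intro x hx
    have h1 : IsIntegral Rf (a x • x) := (hai x).tower_top
    have h2 : IsIntegral Rf (((algebraMap R K f)⁻¹ * algebraMap R K (∏ y ∈ s.erase x, a y)) * a x • x) :=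
      (isIntegral_algebraMap (A := K) (x := (⟨(algebraMap R K f)⁻¹ * algebraMap R K (∏ y ∈ s.erase x, a y),
        mul_mem (Algebra.subset_adjoin (Set.mem_singleton _)) (Rf.algebraMap_mem _)⟩ : Rf))).mul h1
    convert h2 using 1
    rw [Algebra.smul_def, ← mul_assoc, mul_assoc _ _ (algebraMap R K (a x)), ← map_mul,
      Finset.prod_erase_mul s _ hx, inv_mul_cancel₀ hfK, one_mul]
  have : Algebra.FiniteType Rf K := Algebra.FiniteType.of_restrictScalars_finiteType R _ K
  have : Algebra.IsIntegral Rf K := by
    refine ⟨fun x => ?_⟩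
    have hle : Algebra.adjoin R (s : Set K) ≤ (integralClosure Rf K).restrictScalars R :=
      Algebra.adjoin_le hint
    exact hle (hs ▸ Algebra.mem_top)
  exact ⟨f, hf, Rf, hloc, isField_of_isIntegral_of_isField (R := Rf) (S := K) Subtype.val_injective (Field.toIsField K),
    Algebra.IsIntegral.finite⟩


end Groth.Agent.S9613
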