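import Groth.Statements.S9614
import Groth.Agent.Proj16.Veronese

set_option autoImplicit false
universe u
open CAlg

namespace Groth.Agent.S9614

/-- Let S be an ℕ-graded ring and M a finitely generated graded S-module, graded in nonnegative degrees
(the source allows all integer degrees). If x_1, …, x_n are homogeneous elements of M which generate
M modulo S₊ M (S₊ the irrelevant ideal), then x_1, …, x_n generate M. -/
theorem result {R S : Type u} [CommRing R] [CommRing S] [Algebra R S] (𝒜 : ℕ → Submodule R S) [GradedAlgebra 𝒜]
    (M : Type u) [AddCommGroup M] [Module R M] [Module S M] [IsScalarTower R S M] [Module.Finite S M] (ℳ : ℕ → Submodule R M) [DirectSum.Decomposition ℳ] [SetLike.GradedSMul 𝒜 ℳ]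
    {n : ℕ} (x : Fin n → M) (hx : ∀ i, SetLike.IsHomogeneousElem ℳ (x i))
    (h : Submodule.span S (Set.range x) ⊔ (HomogeneousIdeal.irrelevant 𝒜).toIdeal • (⊤ : Submodule S M) = ⊤) :
    Submodule.span S (Set.range x) = ⊤ := by
  classical
  choose e he using hx
  set N := Submodule.span S (Set.range x)
  have hN : ∀ z ∈ N, ∀ d, (DirectSum.decompose ℳ z d : M) ∈ N := by
    intro z hz d
    obtain ⟨c, rfl⟩ := (Submodule.mem_span_range_iff_exists_fun S).1 hz
    rw [DirectSum.decompose_sum, DFinsupp.finsetSum_apply, AddSubmonoidClass.coe_finsetSum]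
    refine sum_mem fun i _ => ?_
    rw [Groth.Agent.Proj16.decompose_smul_of_mem 𝒜 ℳ (he i)]
    split_ifs
    · exact N.smul_mem _ (Submodule.subset_span ⟨i, rfl⟩)
    · exact zero_mem _
  have key : ∀ d, ∀ y ∈ ℳ d, y ∈ N := by
    intro d
    induction d using Nat.strong_induction_on with
    | _ d ih =>
      intro y hy
      have hy' : y ∈ N ⊔ (HomogeneousIdeal.irrelevant 𝒜).toIdeal • (⊤ : Submodule S M) := by rw [h]; exact Submodule.mem_top
      obtain ⟨a, ha, b, hb, rfl⟩ := Submodule.mem_sup.1 hy'
      have hbd : (DirectSum.decompose ℳ b d : M) ∈ N := by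
        clear hy hy'
        induction hb using Submodule.smul_induction_on' with
        | smul s hs z _ =>
          rw [← DirectSum.sum_support_decompose ℳ z, Finset.smul_sum, DirectSum.decompose_sum,
            DFinsupp.finsetSum_apply, AddSubmonoidClass.coe_finsetSum]
          refine sum_mem fun j _ => ?_
          rw [Groth.Agent.Proj16.decompose_smul_of_mem 𝒜 ℳ (SetLike.coe_mem _)]
          split_ifs with hj
          · rcases lt_or_eq_of_le hj with hlt | rfl
            · exact N.smul_mem _ (ih j hlt _ (SetLike.coe_mem _))
            · rw [Nat.sub_self]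
              have h0 : GradedRing.proj 𝒜 0 s = 0 := (HomogeneousIdeal.mem_irrelevant_iff 𝒜 s).1 hs
              rw [h0, zero_smul]
              exact zero_mem _
          · exact zero_mem _
        | add u _ v _ hu hv =>
          rw [DirectSum.decompose_add, DirectSum.add_apply, Submodule.coe_add]
          exact add_mem hu hv
      rw [← DirectSum.decompose_of_mem_same ℳ hy, DirectSum.decompose_add, DirectSum.add_apply, Submodule.coe_add]
      exact add_mem (hN a ha d) hbd
  refine eq_top_iff.2 fun y _ => ?_
  rw [← DirectSum.sum_support_decompose ℳ y]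
  exact sum_mem fun j _ => key j _ (SetLike.coe_mem _)


end Groth.Agent.S9614
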