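import Groth.Statements.S9615
import Mathlib

set_option autoImplicit false
universe u
open CAlg

namespace Groth.Agent.S9615
open Polynomial
attribute [local instance] Polynomial.algebra
noncomputable def expand {A : Type*} [CommRing A] (𝒜 : ℕ → AddSubgroup A) [GradedRing 𝒜] : A →+* A[X] :=
  (DirectSum.toSemiring (fun i => (monomial i).toAddMonoidHom.comp (𝒜 i).subtype)
    (by show monomial 0 (1 : A) = 1; simp)
    (fun {i j} a b => by
      show monomial (i + j) ((a : A) * b) = monomial i (a : A) * monomial j (b : A)
      rw [monomial_mul_monomial])).comp (DirectSum.decomposeRingEquiv 𝒜).toRingHom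

lemma expand_apply_of_mem {A : Type*} [CommRing A] (𝒜 : ℕ → AddSubgroup A) [GradedRing 𝒜] {i : ℕ} {a : A}
    (ha : a ∈ 𝒜 i) : expand 𝒜 a = monomial i a := by
  rw [expand, RingHom.comp_apply, show (DirectSum.decomposeRingEquiv 𝒜).toRingHom a = DirectSum.decompose 𝒜 a from rfl]
  rw [DirectSum.decompose_of_mem 𝒜 ha, DirectSum.toSemiring_of]
  rfl

lemma coeff_expand {A : Type*} [CommRing A] (𝒜 : ℕ → AddSubgroup A) [GradedRing 𝒜] (i : ℕ) (a : A) :
    (expand 𝒜 a).coeff i = (DirectSum.decompose 𝒜 a i : A) := by
  classical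
  induction a using DirectSum.Decomposition.inductionOn 𝒜 with
  | zero => simp
  | homogeneous x =>
    rename_i j
    rw [expand_apply_of_mem 𝒜 x.2, coeff_monomial]
    by_cases h : j = i
    · subst h; rw [if_pos rfl, DirectSum.decompose_of_mem_same 𝒜 x.2]
    · rw [if_neg h, DirectSum.decompose_of_mem_ne 𝒜 x.2 h]
  | add x y hx hy => rw [map_add, coeff_add, hx, hy, DirectSum.decompose_add]; rfl


/-- Let R → S be a homomorphism of ℕ-graded rings, i.e. the structure map carries each graded piece R_i
into S_i. If an element s of S is integral over R, then each homogeneous component of s is integral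
over R; so the integral closure of R in S is a graded subring of S. -/
theorem result {R S : Type u} [CommRing R] [CommRing S] [Algebra R S] (ℛ : ℕ → AddSubgroup R) [GradedRing ℛ] (𝒮 : ℕ → AddSubgroup S) [GradedRing 𝒮]
    (hmap : ∀ i : ℕ, ∀ r ∈ ℛ i, algebraMap R S r ∈ 𝒮 i) (s : S) (hs : IsIntegral R s) (i : ℕ) :
    IsIntegral R ((DirectSum.decompose 𝒮 s i : 𝒮 i) : S) := by
  classical
  have hcomm : (expand 𝒮).comp (algebraMap R S) = (mapRingHom (algebraMap R S)).comp (expand ℛ) := by
    refine RingHom.ext fun r => ?_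
    induction r using DirectSum.Decomposition.inductionOn ℛ with
    | zero => simp
    | homogeneous x =>
      rename_i j
      rw [RingHom.comp_apply, RingHom.comp_apply, expand_apply_of_mem 𝒮 (hmap j x x.2),
        expand_apply_of_mem ℛ x.2, coe_mapRingHom, map_monomial]
    | add x y hx hy => rw [map_add, map_add, hx, hy]
  have h : IsIntegral R[X] (expand 𝒮 s) := by
    obtain ⟨p, hp, hp0⟩ := hs
    refine ⟨p.map (expand ℛ), hp.map _, ?_⟩
    rw [eval₂_map, show (algebraMap R[X] S[X]) = mapRingHom (algebraMap R S) from rfl, ← hcomm,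
      ← hom_eval₂, hp0, map_zero]
  have := Polynomial.isIntegral_iff_isIntegral_coeff.1 h i
  rwa [coeff_expand] at this


end Groth.Agent.S9615
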