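import Groth.Statements.S9617
import Mathlib
import Groth.Agent.Proj16.Veronese

set_option autoImplicit false
universe u
open CAlg

namespace Groth.Agent.S9617

/-- Let S be an ℕ-graded ring, presented as a graded algebra over a ring A mapping onto S₀, such that S
is of finite type over A, i.e. over S₀. If M is a finitely generated graded S-module, graded in
nonnegative degrees (the source allows all integer degrees), then each graded piece M_n is a finite
module over A, i.e. over S₀. -/
theorem result {A S : Type u} [CommRing A] [CommRing S] [Algebra A S] (𝒜 : ℕ → Submodule A S) [GradedAlgebra 𝒜]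
    (h0 : ∀ s ∈ 𝒜 0, s ∈ Set.range (algebraMap A S)) [Algebra.FiniteType A S]
    (M : Type u) [AddCommGroup M] [Module A M] [Module S M] [IsScalarTower A S M] [Module.Finite S M] (ℳ : ℕ → Submodule A M) [DirectSum.Decomposition ℳ] [SetLike.GradedSMul 𝒜 ℳ] (n : ℕ) :
    Module.Finite A (ℳ n) := by
  classical
  obtain ⟨s, hs⟩ := ‹Algebra.FiniteType A S›
  obtain ⟨K, t, e, ht, hspan⟩ := Groth.Agent.Proj16.exists_homogeneous_generators (R := A) (A := S) ℳ
  let ι := Σ g : s, {i : ℕ // i ∈ (DirectSum.decompose 𝒜 (g : S)).support ∧ 0 < i}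
  have : Finite ι := by
    have : ∀ g : s, Finite {i : ℕ // i ∈ (DirectSum.decompose 𝒜 (g : S)).support ∧ 0 < i} := fun g =>
      ((DirectSum.decompose 𝒜 (g : S)).support.finite_toSet.subset fun i hi => hi.1).to_subtype
    exact inferInstanceAs (Finite (Σ g : s, {i : ℕ // i ∈ (DirectSum.decompose 𝒜 (g : S)).support ∧ 0 < i}))
  have := Fintype.ofFinite ι
  let g : ι → S := fun i => (DirectSum.decompose 𝒜 (i.1 : S) i.2.1 : S)
  have hirr : ∀ z : S, ∃ a : A, z - algebraMap A S a ∈ Ideal.span (Set.range g) := by
    intro z
    have : z ∈ Algebra.adjoin A (s : Set S) := hs ▸ Algebra.mem_top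
    induction this using Algebra.adjoin_induction with
    | mem x hx =>
      obtain ⟨a, ha⟩ := h0 _ (SetLike.coe_mem (DirectSum.decompose 𝒜 x 0))
      refine ⟨a, ?_⟩
      have : x - algebraMap A S a = ∑ i ∈ (DirectSum.decompose 𝒜 x).support.filter (0 < ·), (DirectSum.decompose 𝒜 x i : S) := by
        rw [sub_eq_iff_eq_add, ha]
        conv_lhs => rw [← DirectSum.sum_support_decompose 𝒜 x]
        by_cases h00 : (0 : ℕ) ∈ (DirectSum.decompose 𝒜 x).support
        · have hf : (DirectSum.decompose 𝒜 x).support.filter (0 < ·) = (DirectSum.decompose 𝒜 x).support.erase 0 := by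
            ext i; simp [Nat.pos_iff_ne_zero, and_comm]
          rw [hf]
          exact (Finset.sum_erase_add _ _ h00).symm
        · have hf : (DirectSum.decompose 𝒜 x).support.filter (0 < ·) = (DirectSum.decompose 𝒜 x).support :=
            Finset.filter_true_of_mem fun i hi => Nat.pos_of_ne_zero fun h => h00 (h ▸ hi)
          rw [hf, DFinsupp.notMem_support_iff.1 h00]
          simp
      rw [this]
      refine sum_mem fun i hi => Ideal.subset_span ⟨⟨⟨x, hx⟩, i, Finset.mem_filter.1 hi⟩, rfl⟩
    | algebraMap r => exact ⟨r, by simp⟩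
    | add x y _ _ hx hy =>
      obtain ⟨a, ha⟩ := hx; obtain ⟨b, hb⟩ := hy
      refine ⟨a + b, ?_⟩
      rw [map_add, show x + y - (algebraMap A S a + algebraMap A S b) =
        (x - algebraMap A S a) + (y - algebraMap A S b) by ring]
      exact add_mem ha hb
    | mul x y _ _ hx hy =>
      obtain ⟨a, ha⟩ := hx; obtain ⟨b, hb⟩ := hy
      refine ⟨a * b, ?_⟩
      rw [map_mul, show x * y - algebraMap A S a * algebraMap A S b =
        (x - algebraMap A S a) * y + algebraMap A S a * (y - algebraMap A S b) by ring]
      exact add_mem (Ideal.mul_mem_right _ _ ha) (Ideal.mul_mem_left _ _ hb)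
  have hfin : ∀ n, (ℳ n).FG := by
    intro n
    induction n using Nat.strong_induction_on with
    | _ n ih =>
      let W : Submodule A M := Submodule.span A (t '' {j | e j = n}) ⊔
        ⨆ i : ι, if i.2.1 ≤ n then (ℳ (n - i.2.1)).map (DistribSMul.toLinearMap A M (g i)) else ⊥
      have hW : W.FG := by
        refine (Submodule.fg_span ((Set.toFinite _).image _)).sup (Submodule.fg_iSup _ fun i => ?_)
        split_ifs with hi
        · exact (ih _ (Nat.sub_lt_self i.2.2.2 hi)).map _
        · exact Submodule.fg_bot
      suffices ℳ n = W from this ▸ hW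
      refine le_antisymm (fun y hy => ?_) (sup_le (Submodule.span_le.2 ?_) (iSup_le fun i => ?_))
      · obtain ⟨c, hc⟩ := (Submodule.mem_span_range_iff_exists_fun S).1 (hspan ▸ Submodule.mem_top : y ∈ Submodule.span S (Set.range t))
        rw [← DirectSum.decompose_of_mem_same ℳ hy, ← hc, DirectSum.decompose_sum, DFinsupp.finsetSum_apply,
          AddSubmonoidClass.coe_finsetSum]
        refine sum_mem fun j _ => ?_
        obtain ⟨a, ha⟩ := hirr (c j)
        rw [show c j • t j = (c j - algebraMap A S a) • t j + algebraMap A S a • t j by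
          rw [sub_smul, sub_add_cancel], DirectSum.decompose_add, DirectSum.add_apply, Submodule.coe_add]
        refine add_mem ?_ ?_
        · obtain ⟨d, hd⟩ := (Ideal.mem_span_range_iff_exists_fun).1 ha
          rw [← hd, Finset.sum_smul, DirectSum.decompose_sum, DFinsupp.finsetSum_apply, AddSubmonoidClass.coe_finsetSum]
          refine sum_mem fun i _ => ?_
          rw [mul_comm, mul_smul]
          generalize d i • t j = z
          rw [← DirectSum.sum_support_decompose ℳ z, Finset.smul_sum, DirectSum.decompose_sum,
            DFinsupp.finsetSum_apply, AddSubmonoidClass.coe_finsetSum]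
          refine sum_mem fun k _ => ?_
          rw [Groth.Agent.Proj16.decompose_smul_of_mem 𝒜 ℳ (SetLike.coe_mem _)]
          split_ifs with hk
          · have hgi : g i ∈ 𝒜 i.2.1 := SetLike.coe_mem _
            rcases eq_or_ne (n - k) i.2.1 with hki | hki
            · rw [hki, GradedRing.proj_apply, DirectSum.decompose_of_mem_same 𝒜 hgi]
              refine Submodule.mem_sup_right (Submodule.mem_iSup_of_mem i ?_)
              rw [if_pos (by omega), show n - i.2.1 = k by omega]
              exact ⟨_, SetLike.coe_mem _, rfl⟩
            · rw [GradedRing.proj_apply, DirectSum.decompose_of_mem_ne 𝒜 hgi (Ne.symm hki), zero_smul]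
              exact zero_mem _
          · exact zero_mem _
        · rw [algebraMap_smul]
          have : a • t j ∈ ℳ (e j) := Submodule.smul_mem _ a (ht j)
          rcases eq_or_ne (e j) n with rfl | hne
          · rw [DirectSum.decompose_of_mem_same ℳ this]
            exact Submodule.mem_sup_left (Submodule.smul_mem _ _ (Submodule.subset_span ⟨j, rfl, rfl⟩))
          · rw [DirectSum.decompose_of_mem_ne ℳ this hne]
            exact zero_mem _
      · rintro _ ⟨j, rfl, rfl⟩
        exact ht j
      · split_ifs with hi
        · rintro _ ⟨z, hz, rfl⟩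
          have := SetLike.GradedSMul.smul_mem (A := 𝒜) (B := ℳ)
            (SetLike.coe_mem (DirectSum.decompose 𝒜 (i.1 : S) i.2.1)) hz
          rwa [vadd_eq_add, Nat.add_sub_cancel' hi] at this
        · exact bot_le
  exact Module.Finite.iff_fg.2 (hfin n)


end Groth.Agent.S9617
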