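import Groth.Statements.S9618
import Mathlib.Tactic.TFAE
import Groth.Agent.IdemSpec.Basic

set_option autoImplicit false
universe u
open CAlg

namespace Groth.Agent.S9618

/-- For a ring R and a subset T of Spec R the following are equivalent: (1) T is closed and contains the
connected component of each of its points; (2) T can be written as an intersection of subsets of
Spec R that are both open and closed; (3) T is the common zero locus of some set of idempotent
elements of R (equivalently, of the ideal they generate). -/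
theorem result {R : Type u} [CommRing R] (T : Set (PrimeSpectrum R)) :
    [IsClosed T ∧ ∀ x ∈ T, connectedComponent x ⊆ T,
      ∃ U : Set (Set (PrimeSpectrum R)), (∀ u ∈ U, IsClopen u) ∧ T = ⋂₀ U,
      ∃ E : Set R, (∀ e ∈ E, IsIdempotentElem e) ∧ T = PrimeSpectrum.zeroLocus E].TFAE := by
  tfae_have 2 → 3 := by
    rintro ⟨U, hU, hT⟩
    refine ⟨{e | IsIdempotentElem e ∧ T ⊆ PrimeSpectrum.zeroLocus {e}}, fun e he => he.1, subset_antisymm ?_ ?_⟩
    · intro x hx e he; simpa using he.2 hx
    · intro x hx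
      rw [hT]
      intro u hu
      obtain ⟨e, he, rfl⟩ := PrimeSpectrum.isClopen_iff_zeroLocus.1 (hU u hu)
      have hsub : T ⊆ PrimeSpectrum.zeroLocus {e} := by rw [hT]; exact Set.sInter_subset_of_mem hu
      simpa using hx (show e ∈ {e | IsIdempotentElem e ∧ T ⊆ PrimeSpectrum.zeroLocus {e}} from ⟨he, hsub⟩)
  tfae_have 3 → 1 := by
    rintro ⟨E, hE, rfl⟩
    refine ⟨PrimeSpectrum.isClosed_zeroLocus E, fun x hx y hy e he => ?_⟩
    rw [IdemSpec.connectedComponent_eq] at hy
    exact hy ⟨hE e he, hx he⟩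
  tfae_have 1 → 2 := by
    rintro ⟨hcl, hT⟩
    refine ⟨{u | IsClopen u ∧ T ⊆ u}, fun u hu => hu.1, subset_antisymm (fun x hx u hu => hu.2 hx) ?_⟩
    intro x hx
    by_contra hxT
    obtain ⟨J, hJ⟩ := (PrimeSpectrum.isClosed_iff_zeroLocus_ideal T).1 hcl
    have hsup : J ⊔ Ideal.span (IdemSpec.idemIn x) = ⊤ := by
      rw [← PrimeSpectrum.zeroLocus_empty_iff_eq_top, PrimeSpectrum.zeroLocus_sup, PrimeSpectrum.zeroLocus_span,
        ← hJ, ← IdemSpec.connectedComponent_eq]
      refine Set.eq_empty_iff_forall_notMem.2 fun y hy => hxT (hT y hy.1 ?_)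
      rw [← connectedComponent_eq hy.2]; exact mem_connectedComponent
    obtain ⟨j, hj, r, hr, hjr⟩ := Submodule.mem_sup.1 ((Ideal.eq_top_iff_one _).1 hsup)
    obtain ⟨g, hg, hrg⟩ := IdemSpec.exists_absorbing_idemIn x hr
    have hsub : T ⊆ (PrimeSpectrum.basicOpen g : Set (PrimeSpectrum R)) := by
      intro y hy hgy
      have hjy : j ∈ y.asIdeal := (hJ ▸ hy : y ∈ PrimeSpectrum.zeroLocus (J : Set R)) hj
      refine y.isPrime.ne_top ((Ideal.eq_top_iff_one _).2 ?_)
      rw [← hjr, ← hrg]
      exact y.asIdeal.add_mem hjy (y.asIdeal.mul_mem_left _ hgy)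
    exact (hx _ ⟨PrimeSpectrum.isClopen_iff.2 ⟨g, hg.1, rfl⟩, hsub⟩) hg.2
  tfae_finish


end Groth.Agent.S9618
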