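import Groth.Statements.S9619
import Groth.Agent.IdemSpec.Basic

set_option autoImplicit false
universe u
open CAlg

namespace Groth.Agent.S9619

/-- For a ring R and two sets E, E' of idempotent elements of R with the same zero locus in Spec R, the
ideals generated by E and by E' are equal. -/
theorem result {R : Type u} [CommRing R] (E E' : Set R) (hE : ∀ e ∈ E, IsIdempotentElem e) (hE' : ∀ e ∈ E', IsIdempotentElem e) (h : PrimeSpectrum.zeroLocus E = PrimeSpectrum.zeroLocus E') :
    Ideal.span E = Ideal.span E' := by
  exact IdemSpec.span_eq_of_zeroLocus_eq E E' hE hE' h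


end Groth.Agent.S9619
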