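import Groth.Statements.S9621
import Groth.Agent.WeakAss.Basic
import Mathlib.RingTheory.Spectrum.Prime.Topology

set_option autoImplicit false
universe u
open CAlg

namespace Groth.Agent.S9621

/-- Let R be a ring, p a minimal prime of R and W a quasi-compact open subset of Spec R not containing
p. Then there is an f ∈ R, f ∉ p, whose basic open D(f) is disjoint from W. -/
theorem result {R : Type u} [CommRing R] (p : PrimeSpectrum R) (hp : p.asIdeal ∈ minimalPrimes R) (W : Set (PrimeSpectrum R)) (hWo : IsOpen W) (hWc : IsCompact W) (hpW : p ∉ W) :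
    ∃ f : R, f ∉ p.asIdeal ∧ Disjoint (PrimeSpectrum.basicOpen f : Set (PrimeSpectrum R)) W := by
  obtain ⟨s, hW⟩ := (PrimeSpectrum.isCompact_isOpen_iff).1 ⟨hWc, hWo⟩
  have hmem : ∀ f ∈ s, f ∈ p.asIdeal := by
    intro f hf
    by_contra hfp
    exact hpW (hW ▸ fun h => hfp (h hf))
  classical
  choose! t ht n hn using fun f (hf : f ∈ s) =>
    Groth.Agent.WeakAss.exists_mul_pow_mem hp (hmem f hf)
  refine ⟨∏ f ∈ s, t f, fun hc => ?_, Set.disjoint_left.2 fun q hq hqW => ?_⟩
  · obtain ⟨f, hf, hfp⟩ := (Ideal.IsPrime.prod_mem_iff).1 hc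
    exact ht f hf hfp
  · rw [← hW] at hqW
    refine hqW fun f hf => ?_
    have h0 : t f * f ^ n f = 0 := hn f hf
    have h1 : t f * f ^ n f ∈ q.asIdeal := h0 ▸ q.asIdeal.zero_mem
    refine q.isPrime.mem_of_pow_mem _ ((q.isPrime.mem_or_mem h1).resolve_left fun htq => hq ?_)
    obtain ⟨c, hc⟩ := Finset.dvd_prod_of_mem t hf
    rw [hc]; exact q.asIdeal.mul_mem_right _ htq


end Groth.Agent.S9621
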