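import Groth.Statements.S9622
import Mathlib

set_option autoImplicit false
universe u
open CAlg

namespace Groth.Agent.S9622
theorem finite_of_finite_quotient_max {R S : Type u} [CommRing R] [CommRing S] [Algebra R S]
    [IsArtinianRing S] [IsLocalRing S] [h : Module.Finite R (S ⧸ IsLocalRing.maximalIdeal S)] :
    Module.Finite R S := by
  have key : ∀ (M : Type u) [AddCommGroup M] [Module S M], IsFiniteLength S M →
      ∀ [Module R M] [IsScalarTower R S M], Module.Finite R M := by
    intro M _ _ hM
    induction hM with
    | of_subsingleton => intros; infer_instance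
    | @of_simple_quotient M _ _ N hs _ ih =>
      intro _ _
      obtain ⟨m, hm, ⟨e⟩⟩ := isSimpleModule_iff_quot_maximal.1 hs
      rw [IsLocalRing.eq_maximalIdeal hm] at e
      have h1 : Module.Finite R (M ⧸ N.restrictScalars R) :=
        have : Module.Finite R (M ⧸ N) := Module.Finite.equiv (e.restrictScalars R).symm
        Module.Finite.equiv (Submodule.Quotient.restrictScalarsEquiv R N).symm
      have h2 : Module.Finite R (N.restrictScalars R) := ih
      exact Module.Finite.of_submodule_quotient (N.restrictScalars R)
  exact key S (isFiniteLength_iff_isNoetherian_isArtinian.2 ⟨inferInstance, inferInstance⟩)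


/-- Let R → S be a ring map whose target S is a local Artinian ring, and write m for the maximal ideal
of S. Then S is a finite R-module exactly when S/m is, and S is an R-algebra of finite type exactly
when S/m is. -/
theorem result {R S : Type u} [CommRing R] [CommRing S] [Algebra R S] [IsArtinianRing S] [IsLocalRing S] :
    (Module.Finite R S ↔ Module.Finite R (S ⧸ IsLocalRing.maximalIdeal S)) ∧
      (Algebra.FiniteType R S ↔ Algebra.FiniteType R (S ⧸ IsLocalRing.maximalIdeal S)) := by
  refine ⟨⟨fun _ => inferInstance, fun _ => finite_of_finite_quotient_max⟩, ⟨fun _ => inferInstance, fun h => ?_⟩⟩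
  classical
  obtain ⟨s, hs⟩ := h
  let L : S ⧸ IsLocalRing.maximalIdeal S → S := Function.surjInv Ideal.Quotient.mk_surjective
  let T := Algebra.adjoin R ((s.image L : Finset S) : Set S)
  have : Algebra.FiniteType R T := (Subalgebra.fg_iff_finiteType _).1 (Subalgebra.fg_adjoin_finset _)
  have hsurj : Function.Surjective (algebraMap T (S ⧸ IsLocalRing.maximalIdeal S)) := by
    intro y
    have hle : Algebra.adjoin R (s : Set (S ⧸ IsLocalRing.maximalIdeal S)) ≤
        T.map (Ideal.Quotient.mkₐ R (IsLocalRing.maximalIdeal S)) := by
      rw [AlgHom.map_adjoin]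
      refine Algebra.adjoin_mono fun z hz => ⟨L z, by simpa using ⟨z, hz, rfl⟩, ?_⟩
      exact Function.surjInv_eq Ideal.Quotient.mk_surjective z
    obtain ⟨t, ht, hty⟩ := hle (hs ▸ (Algebra.mem_top : y ∈ ⊤))
    exact ⟨⟨t, ht⟩, hty⟩
  have : Module.Finite T (S ⧸ IsLocalRing.maximalIdeal S) :=
    Module.Finite.of_surjective (Algebra.linearMap T _) hsurj
  have : Module.Finite T S := finite_of_finite_quotient_max
  exact Algebra.FiniteType.trans (R := R) (S := T) (A := S) inferInstance inferInstance


end Groth.Agent.S9622
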