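import Groth.Statements.S9624
import Groth.Agent.GeomSep.Basic

set_option autoImplicit false
universe u
open CAlg

namespace Groth.Agent.S9624

open TensorProduct in
/-- Let k be a field, S a geometrically connected k-algebra (the spectrum of k' ⊗_k S is connected for
every field extension k'/k) and R any k-algebra. Then the map R → R ⊗_k S induces a bijection on
idempotents: each idempotent of R ⊗_k S comes from exactly one idempotent of R. Here the test fields
range over field extensions in the universe of k; this is equivalent to the unrestricted notion,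
since an algebraic closure of k suffices as a test. -/
theorem result {k R S : Type u} [Field k] [CommRing R] [CommRing S] [Algebra k R] [Algebra k S]
    (hS : ∀ (k' : Type u) [Field k'] [Algebra k k'], ConnectedSpace (PrimeSpectrum (k' ⊗[k] S)))
    (x : R ⊗[k] S) (hx : IsIdempotentElem x) :
    ∃! e : R, IsIdempotentElem e ∧ algebraMap R (R ⊗[k] S) e = x := by
  have hfib : ∀ p : PrimeSpectrum R,
      IsConnected (PrimeSpectrum.comap (algebraMap R (R ⊗[k] S)) ⁻¹' {p}) := fun p => by
    have := hS p.asIdeal.ResidueField
    have := Groth.Agent.GeomSep.connectedSpace_of_equiv (Algebra.TensorProduct.cancelBaseChange k R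
      p.asIdeal.ResidueField p.asIdeal.ResidueField S).toRingEquiv
    exact Groth.Agent.GeomSep.isConnected_preimage_singleton p
  have hopen : IsOpenMap (PrimeSpectrum.comap (algebraMap R (R ⊗[k] S))) :=
    PrimeSpectrum.isOpenMap_comap_algebraMap_tensorProduct_of_field
  have hsurj : Function.Surjective (PrimeSpectrum.comap (algebraMap R (R ⊗[k] S))) :=
    fun p => ⟨(hfib p).1.some, (hfib p).1.some_mem⟩
  let W : Set (PrimeSpectrum (R ⊗[k] S)) := PrimeSpectrum.basicOpen x
  have hW : IsClopen W := PrimeSpectrum.isClopen_iff.2 ⟨x, hx, rfl⟩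
  let V := PrimeSpectrum.comap (algebraMap R (R ⊗[k] S)) '' W
  have hsat : PrimeSpectrum.comap (algebraMap R (R ⊗[k] S)) ⁻¹' V = W := by
    refine Set.Subset.antisymm ?_ (Set.subset_preimage_image _ _)
    rintro q ⟨w, hw, hwq⟩
    exact (hfib _).isPreconnected.subset_isClopen hW ⟨w, hwq, hw⟩ rfl
  have hV : IsClopen V := by
    refine ⟨?_, hopen _ hW.2⟩
    rw [← (hopen.isQuotientMap (PrimeSpectrum.continuous_comap _) hsurj).isClosed_preimage, hsat]
    exact hW.1
  obtain ⟨e, he, heV⟩ := PrimeSpectrum.isClopen_iff.1 hV
  have key : algebraMap R (R ⊗[k] S) e = x := by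
    refine PrimeSpectrum.basicOpen_injOn_isIdempotentElem (he.map (algebraMap R (R ⊗[k] S))) hx ?_
    apply TopologicalSpace.Opens.ext
    show _ = W
    rw [← hsat, heV, ← PrimeSpectrum.comap_basicOpen]
    rfl
  refine ⟨e, ⟨he, key⟩, fun e' he' => ?_⟩
  refine PrimeSpectrum.basicOpen_injOn_isIdempotentElem he'.1 he ?_
  apply TopologicalSpace.Opens.ext
  apply hsurj.preimage_injective
  rw [← heV, hsat]
  show (PrimeSpectrum.basicOpen (algebraMap R (R ⊗[k] S) e') : Set _) = W
  rw [he'.2]


end Groth.Agent.S9624
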