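import Groth.Statements.S9626
import Groth.Agent.GeomSep.Basic

set_option autoImplicit false
universe u
open CAlg

namespace Groth.Agent.S9626

open TensorProduct in
/-- Let k be a field, S a k-algebra with Spec(k' ⊗_k S) irreducible for every field extension k'/k, and
R any k-algebra. Then Spec(R ⊗_k S) → Spec(R) induces a bijection on irreducible components: taking
inverse images along R → R ⊗_k S maps the set of minimal primes of R ⊗_k S bijectively onto the set
of minimal primes of R. Here the test fields range over field extensions in the universe of k; this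
is equivalent to the unrestricted notion, since an algebraic closure of k suffices as a test. -/
theorem result {k R S : Type u} [Field k] [CommRing R] [CommRing S] [Algebra k R] [Algebra k S]
    (hS : ∀ (k' : Type u) [Field k'] [Algebra k k'], IrreducibleSpace (PrimeSpectrum (k' ⊗[k] S))) :
    Set.BijOn (Ideal.comap (algebraMap R (R ⊗[k] S))) (minimalPrimes (R ⊗[k] S)) (minimalPrimes R) := by
  have hfib : ∀ p : PrimeSpectrum R,
      IsIrreducible (PrimeSpectrum.comap (algebraMap R (R ⊗[k] S)) ⁻¹' {p}) := fun p => by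
    have := hS p.asIdeal.ResidueField
    have := Groth.Agent.GeomSep.irreducibleSpace_of_equiv (Algebra.TensorProduct.cancelBaseChange k R
      p.asIdeal.ResidueField p.asIdeal.ResidueField S).toRingEquiv
    exact Groth.Agent.GeomSep.isIrreducible_preimage_singleton p
  refine ⟨fun Q hQ => ?_, fun Q hQ Q' hQ' h => ?_, fun p hp => ?_⟩
  · have := hQ.1.1
    have : (Q.comap (algebraMap R (R ⊗[k] S))).IsPrime := Ideal.IsPrime.comap _
    obtain ⟨p, hp, hle⟩ := Ideal.exists_minimalPrimes_le (I := ⊥) (J := Q.comap (algebraMap R (R ⊗[k] S))) bot_le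
    have := hp.1.1
    have : Q.LiesOver (Q.comap (algebraMap R (R ⊗[k] S))) := ⟨rfl⟩
    obtain ⟨Q₀, hQ₀, hQ₀p, hQ₀e⟩ := Ideal.exists_ideal_le_liesOver_of_le (p := p)
      (q := Q.comap (algebraMap R (R ⊗[k] S))) Q hle
    have hQQ : Q ≤ Q₀ := hQ.2 ⟨hQ₀p, bot_le⟩ hQ₀
    rw [le_antisymm hQQ hQ₀]
    exact (show p = Q₀.comap (algebraMap R (R ⊗[k] S)) from hQ₀e.over) ▸ hp
  · have := hQ.1.1
    have := hQ'.1.1
    let q : PrimeSpectrum (R ⊗[k] S) := ⟨Q, hQ.1.1⟩
    let p := PrimeSpectrum.comap (algebraMap R (R ⊗[k] S)) q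
    obtain ⟨g, hg⟩ := QuasiSober.sober (hfib p).closure isClosed_closure
    have hle : ∀ x, PrimeSpectrum.comap (algebraMap R (R ⊗[k] S)) x = p → g.asIdeal ≤ x.asIdeal :=
      fun x hx => (PrimeSpectrum.le_iff_specializes g x).2
        (specializes_iff_mem_closure.2 (hg.symm ▸ subset_closure hx))
    have e1 : g.asIdeal = Q := le_antisymm (hle q rfl) (hQ.2 ⟨g.isPrime, bot_le⟩ (hle q rfl))
    have h2 := hle ⟨Q', hQ'.1.1⟩ (PrimeSpectrum.ext h.symm)
    have e2 : g.asIdeal = Q' := le_antisymm h2 (hQ'.2 ⟨g.isPrime, bot_le⟩ h2)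
    exact e1.symm.trans e2
  · have := hp.1.1
    let pp : PrimeSpectrum R := ⟨p, hp.1.1⟩
    obtain ⟨x, hx⟩ := (hfib pp).1
    obtain ⟨Q, hQ, hle⟩ := Ideal.exists_minimalPrimes_le (I := ⊥) (J := x.asIdeal) bot_le
    refine ⟨Q, hQ, ?_⟩
    have h1 : x.asIdeal.comap (algebraMap R (R ⊗[k] S)) = p := congr(($hx).asIdeal)
    have := hQ.1.1
    exact le_antisymm (h1 ▸ Ideal.comap_mono hle)
      (hp.2 ⟨Ideal.IsPrime.comap _, bot_le⟩ (h1 ▸ Ideal.comap_mono hle))


end Groth.Agent.S9626
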