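import Groth.Statements.S9629
import Groth.Agent.GeomSep.Basic

set_option autoImplicit false
universe u
open CAlg

namespace Groth.Agent.S9629

open TensorProduct in
/-- For a field k and a k-algebra S the following are equivalent: (1) S is geometrically integral, i.e.
k' ⊗_k S is an integral domain for every field extension k'/k; (2) k' ⊗_k S is an integral domain
for every finite field extension k'/k; (3) k̄ ⊗_k S is an integral domain for the algebraic closure
k̄ of k. Here the test fields range over field extensions in the universe of k; this is equivalent
to the unrestricted notion, since an algebraic closure of k suffices as a test. -/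
theorem result {k S : Type u} [Field k] [CommRing S] [Algebra k S] :
    [∀ (k' : Type u) [Field k'] [Algebra k k'], IsDomain (k' ⊗[k] S),
      ∀ (k' : Type u) [Field k'] [Algebra k k'] [Module.Finite k k'], IsDomain (k' ⊗[k] S),
      IsDomain (AlgebraicClosure k ⊗[k] S)].TFAE := by
  classical
  tfae_have 1 → 2 := fun h k' _ _ _ => h k'
  tfae_have 2 → 3 := by
    intro h
    have := h k
    have : Nontrivial S := (Algebra.TensorProduct.lid k S).symm.toEquiv.nontrivial
    have : Nontrivial (AlgebraicClosure k ⊗[k] S) :=
      (Algebra.TensorProduct.includeRight_injective (R := k) (A := AlgebraicClosure k) (B := S)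
        (algebraMap k (AlgebraicClosure k)).injective).nontrivial
    have : NoZeroDivisors (AlgebraicClosure k ⊗[k] S) := by
      refine ⟨fun {x y} hxy => ?_⟩
      obtain ⟨E, hE, x', y', rfl, rfl⟩ := Groth.Agent.GeomSep.exists_finite_intermediateField x y
      have := h E
      rw [← map_mul, map_eq_zero_iff _ (Groth.Agent.GeomSep.map_intermediateField_injective E)] at hxy
      exact (mul_eq_zero.1 hxy).imp (fun e => by rw [e, map_zero]) (fun e => by rw [e, map_zero])
    exact NoZeroDivisors.to_isDomain _
  tfae_have 3 → 1 := fun h k' _ _ => by
    obtain ⟨G, _, _, ⟨f⟩, ⟨g⟩⟩ := Groth.Agent.GeomSep.exists_compositum (k := k) k' (AlgebraicClosure k)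
    let := g.toRingHom.toAlgebra
    have : IsScalarTower k (AlgebraicClosure k) G := IsScalarTower.of_algebraMap_eq' g.comp_algebraMap.symm
    have : IsDomain (G ⊗[AlgebraicClosure k] (AlgebraicClosure k ⊗[k] S)) :=
      Groth.Agent.GrpSchLib.isDomain_tensor_of_isAlgClosed
    have : IsDomain (G ⊗[k] S) :=
      (Algebra.TensorProduct.cancelBaseChange k (AlgebraicClosure k) G G S).symm.toRingEquiv.toMulEquiv.isDomain _
    have hinj : Function.Injective (Algebra.TensorProduct.map f (AlgHom.id k S)) :=
      Module.Flat.rTensor_preserves_injective_linearMap (M := S) f.toLinearMap f.toRingHom.injective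
    exact hinj.isDomain _
  tfae_finish


end Groth.Agent.S9629
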