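import Groth.Statements.S9630
import Groth.Agent.GeomSep.Basic

set_option autoImplicit false
universe u
open CAlg

namespace Groth.Agent.S9630

open TensorProduct in
/-- For a field k and a k-algebra R the following are equivalent: (1) Spec(k' ⊗_k R) is irreducible for
every field extension k'/k; (2) the same for every finite separable extension k'/k; (3) Spec(k^sep
⊗_k R) is irreducible for the separable closure k^sep; (4) Spec(k̄ ⊗_k R) is irreducible for the
algebraic closure k̄. Here the test fields range over field extensions in the universe of k; this is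
equivalent to the unrestricted notion, since an algebraic closure of k suffices as a test. -/
theorem result {k R : Type u} [Field k] [CommRing R] [Algebra k R] :
    [∀ (k' : Type u) [Field k'] [Algebra k k'], IrreducibleSpace (PrimeSpectrum (k' ⊗[k] R)),
      ∀ (k' : Type u) [Field k'] [Algebra k k'] [Module.Finite k k'] [Algebra.IsSeparable k k'], IrreducibleSpace (PrimeSpectrum (k' ⊗[k] R)),
      IrreducibleSpace (PrimeSpectrum (SeparableClosure k ⊗[k] R)),
      IrreducibleSpace (PrimeSpectrum (AlgebraicClosure k ⊗[k] R))].TFAE := by
  classical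
  tfae_have 1 → 2 := fun h k' _ _ _ _ => h k'
  tfae_have 2 → 3 := by
    intro h
    rw [PrimeSpectrum.irreducibleSpace_iff_isPrime_nilradical]
    have := (PrimeSpectrum.irreducibleSpace_iff_isPrime_nilradical.1 (h k)).ne_top
    have : Nontrivial (k ⊗[k] R) := nontrivial_of_ne 0 1 fun e => this <|
      (Ideal.eq_top_iff_one _).2 (e ▸ zero_mem _)
    have : Nontrivial R := (Algebra.TensorProduct.lid k R).symm.toEquiv.nontrivial
    have : Nontrivial (SeparableClosure k ⊗[k] R) :=
      (Algebra.TensorProduct.includeRight_injective (R := k) (A := SeparableClosure k) (B := R)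
        (algebraMap k (SeparableClosure k)).injective).nontrivial
    refine ⟨fun e => not_isNilpotent_one (R := SeparableClosure k ⊗[k] R) (mem_nilradical.1 ((Ideal.eq_top_iff_one _).1 e)), fun {x y} hxy => ?_⟩
    obtain ⟨E, hE, x', y', rfl, rfl⟩ := Groth.Agent.GeomSep.exists_finite_intermediateField x y
    have hp := PrimeSpectrum.irreducibleSpace_iff_isPrime_nilradical.1 (h E)
    rw [mem_nilradical, ← map_mul, IsNilpotent.map_iff (Groth.Agent.GeomSep.map_intermediateField_injective E)] at hxy
    exact (hp.mem_or_mem hxy).imp (fun hx => mem_nilradical.2 (IsNilpotent.map (mem_nilradical.1 hx) (Algebra.TensorProduct.map E.val (AlgHom.id k R)))) (fun hy => mem_nilradical.2 (IsNilpotent.map (mem_nilradical.1 hy) (Algebra.TensorProduct.map E.val (AlgHom.id k R))))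
  tfae_have 3 → 1 := fun h k' _ _ =>
    Groth.Agent.GeomSep.geometricallyIrreducible_of_isSepClosed (SeparableClosure k) k'
  tfae_have 1 → 4 := fun h => h _
  tfae_have 4 → 1 := fun h k' _ _ =>
    Groth.Agent.GeomSep.geometricallyIrreducible_of_isSepClosed (AlgebraicClosure k) k'
  tfae_finish


end Groth.Agent.S9630
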