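import Groth.Statements.S9632
import Mathlib

set_option autoImplicit false
universe u
open CAlg

namespace Groth.Agent.S9632

open TensorProduct in
/-- Let R → A be a ring map making A a finite free R-module of rank n, let f ∈ A and let P(T) = Tⁿ +
r_{n-1}Tⁿ⁻¹ + ⋯ + r_0 be the characteristic polynomial of multiplication by f on A. Then for a prime
p of R, f acts nilpotently on κ(p) ⊗_R A if and only if p contains r_0, …, r_{n-1}. -/
theorem result {R A : Type u} [CommRing R] [CommRing A] [Algebra R A] [Module.Free R A] [Module.Finite R A] (f : A) (p : Ideal R) [p.IsPrime] :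
    IsNilpotent ((1 : p.ResidueField) ⊗ₜ[R] f : p.ResidueField ⊗[R] A) ↔
      ∀ i : ℕ, i < Module.finrank R A → (LinearMap.mulLeft R f).charpoly.coeff i ∈ p := by
  classical
  let κ := p.ResidueField
  have hb : LinearMap.mulLeft κ ((1 : κ) ⊗ₜ[R] f) = (LinearMap.mulLeft R f).baseChange κ := by
    apply TensorProduct.AlgebraTensorModule.ext
    intro c a
    simp
  have hnil : IsNilpotent ((1 : κ) ⊗ₜ[R] f) ↔ IsNilpotent (LinearMap.mulLeft κ ((1 : κ) ⊗ₜ[R] f)) :=
    (IsNilpotent.map_iff (f := Algebra.lmul κ (κ ⊗[R] A)) fun a b h => by simpa using LinearMap.congr_fun h 1).symm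
  rw [hnil, hb]
  have h14 := ((LinearMap.baseChange κ (LinearMap.mulLeft R f)).charpoly_nilpotent_tfae).out 0 1
  rw [h14, LinearMap.charpoly_baseChange]
  rcases subsingleton_or_nontrivial R with hR | hR
  · exact absurd (Subsingleton.elim (⊤ : Ideal R) p).symm ‹p.IsPrime›.ne_top
  rw [Module.finrank_baseChange]
  constructor
  · intro h i hi
    have := congrArg (fun P : Polynomial κ => P.coeff i) h
    simp only [Polynomial.coeff_map, Polynomial.coeff_X_pow, hi.ne, if_false] at this
    exact Ideal.algebraMap_residueField_eq_zero.1 this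
  · intro h
    have hdeg : (LinearMap.mulLeft R f).charpoly.natDegree = Module.finrank R A := LinearMap.charpoly_natDegree _
    ext i
    simp only [Polynomial.coeff_map, Polynomial.coeff_X_pow]
    rcases lt_trichotomy i (Module.finrank R A) with hi | rfl | hi
    · rw [if_neg hi.ne]; exact Ideal.algebraMap_residueField_eq_zero.2 (h i hi)
    · rw [if_pos rfl, ← hdeg, Polynomial.coeff_natDegree, (LinearMap.charpoly_monic _).leadingCoeff, map_one]
    · rw [if_neg hi.ne', Polynomial.coeff_eq_zero_of_natDegree_lt (hdeg ▸ hi), map_zero]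


end Groth.Agent.S9632
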