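import Groth.Statements.S9633
import Mathlib.Tactic.TFAE
import Groth.Agent.WeakAss.Basic
import Mathlib.RingTheory.Spectrum.Prime.Topology
import Mathlib.Topology.Connected.TotallyDisconnected
import Mathlib.Topology.Connected.Separation

set_option autoImplicit false
universe u
open CAlg

namespace Groth.Agent.S9633

/-- For a ring R with spectrum X the following are equivalent: (1) X is profinite, i.e. compact,
Hausdorff and totally disconnected; (2) X is Hausdorff; (3) X is totally disconnected; (4) every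
quasi-compact open subset of X is closed; (5) there are no nontrivial inclusions among prime ideals
of R; (6) every prime ideal of R is maximal; (7) every prime ideal of R is a minimal prime; (8)
every standard open D(f) is closed. -/
theorem result {R : Type u} [CommRing R] :
    [CompactSpace (PrimeSpectrum R) ∧ T2Space (PrimeSpectrum R) ∧ TotallyDisconnectedSpace (PrimeSpectrum R),
      T2Space (PrimeSpectrum R),
      TotallyDisconnectedSpace (PrimeSpectrum R),
      ∀ W : Set (PrimeSpectrum R), IsOpen W → IsCompact W → IsClosed W,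
      ∀ p q : PrimeSpectrum R, p ≤ q → p = q,
      ∀ p : Ideal R, p.IsPrime → p.IsMaximal,
      ∀ p : Ideal R, p.IsPrime → p ∈ minimalPrimes R,
      ∀ f : R, IsClosed (PrimeSpectrum.basicOpen f : Set (PrimeSpectrum R))].TFAE := by
  tfae_have 1 → 2 := fun h => h.2.1
  tfae_have 1 → 3 := fun h => h.2.2
  tfae_have 2 → 6 := fun _ p hp => (PrimeSpectrum.isClosed_singleton_iff_isMaximal ⟨p, hp⟩).1 isClosed_singleton
  tfae_have 3 → 6 := by
    intro h p hp
    refine (PrimeSpectrum.isClosed_singleton_iff_isMaximal ⟨p, hp⟩).1 ?_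
    have hc : IsPreconnected (closure ({⟨p, hp⟩} : Set (PrimeSpectrum R))) := isPreconnected_singleton.closure
    rw [show ({⟨p, hp⟩} : Set (PrimeSpectrum R)) = closure {⟨p, hp⟩} from ?_]
    · exact isClosed_closure
    · exact subset_antisymm subset_closure fun y hy =>
        (hc.subsingleton) hy (subset_closure rfl)
  tfae_have 6 → 5 := fun h p q hpq => PrimeSpectrum.ext ((h p.asIdeal p.2).eq_of_le q.2.ne_top hpq)
  tfae_have 5 → 7 := fun h p hp => ⟨⟨hp, bot_le⟩, fun q hq hqp =>
    ge_of_eq (congrArg PrimeSpectrum.asIdeal (h ⟨q, hq.1⟩ ⟨p, hp⟩ hqp))⟩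
  tfae_have 7 → 8 := by
    intro h f
    rw [← isOpen_compl_iff, isOpen_iff_forall_mem_open]
    intro p hp
    have hfp : f ∈ p.asIdeal := by_contra fun hc => hp hc
    obtain ⟨s, hs, n, hn⟩ := Groth.Agent.WeakAss.exists_mul_pow_mem (h p.asIdeal p.2) hfp
    refine ⟨PrimeSpectrum.basicOpen s, fun q hq hfq => ?_, (PrimeSpectrum.basicOpen s).2, hs⟩
    have h0 : s * f ^ n = 0 := hn
    have h1 : s * f ^ n ∈ q.asIdeal := h0 ▸ q.asIdeal.zero_mem
    exact hfq (q.isPrime.mem_of_pow_mem _ ((q.isPrime.mem_or_mem h1).resolve_left hq))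
  tfae_have 8 → 4 := by
    intro h W hWo hWc
    obtain ⟨s, hW⟩ := (PrimeSpectrum.isCompact_isOpen_iff).1 ⟨hWc, hWo⟩
    have : (PrimeSpectrum.zeroLocus (s : Set R))ᶜ = ⋃ f ∈ s, (PrimeSpectrum.basicOpen f : Set (PrimeSpectrum R)) := by
      ext q; simp [PrimeSpectrum.mem_zeroLocus, Set.not_subset]
    rw [← hW, this]
    exact s.finite_toSet.isClosed_biUnion fun f _ => h f
  tfae_have 4 → 8 := fun h f => h _ (PrimeSpectrum.basicOpen f).2 (PrimeSpectrum.isCompact_basicOpen f)
  tfae_have 8 → 1 := by
    intro h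
    haveI : TotallySeparatedSpace (PrimeSpectrum R) := by
      refine totallySeparatedSpace_iff_exists_isClopen.2 fun p q hpq => ?_
      have hne : ¬ p.asIdeal ≤ q.asIdeal ∨ ¬ q.asIdeal ≤ p.asIdeal := by
        by_contra hc; push Not at hc
        exact hpq (PrimeSpectrum.ext (le_antisymm hc.1 hc.2))
      have hclopen : ∀ f : R, IsClopen (PrimeSpectrum.basicOpen f : Set (PrimeSpectrum R)) := fun f =>
        ⟨h f, (PrimeSpectrum.basicOpen f).2⟩
      rcases hne with hc | hc <;> obtain ⟨f, hf, hf'⟩ := Set.not_subset.1 hc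
      · exact ⟨(PrimeSpectrum.basicOpen f : Set (PrimeSpectrum R))ᶜ, (hclopen f).compl, fun hc' => hc' hf, fun hc' => hc' hf'⟩
      · exact ⟨_, hclopen f, hf', fun hc' => hc' hf⟩
    exact ⟨inferInstance, inferInstance, inferInstance⟩
  tfae_finish


end Groth.Agent.S9633
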