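import Groth.Statements.S9634
import Groth.Agent.FBaseLib.Reduced
import Groth.Agent.GrpSchLib.Reduced
import Groth.Agent.GeomSep.Basic

set_option autoImplicit false
universe u
open CAlg

namespace Groth.Agent.S9634
open TensorProduct in
theorem isReduced_of_separable {k S : Type u} [Field k] [CommRing S] [Algebra k S] (P Ω : Type u)
    [Field P] [Field Ω] [Algebra k P] [Algebra P Ω] [Algebra k Ω] [IsScalarTower k P Ω]
    [Algebra.IsSeparable P Ω] [IsReduced (P ⊗[k] S)] : IsReduced (Ω ⊗[k] S) := by
  have : IsReduced ((P ⊗[k] S) ⊗[P] Ω) :=
    Groth.Agent.GrpSchLib.isReduced_tensor_of_isSeparable P Ω (P ⊗[k] S)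
  let e := (Algebra.TensorProduct.cancelBaseChange k P P Ω S).symm.toRingEquiv.trans
    (Algebra.TensorProduct.comm P Ω (P ⊗[k] S)).toRingEquiv
  exact isReduced_of_injective e e.injective


open TensorProduct in
/-- (1) ⇔ (4) ⇔ (5): for a field k and a k-algebra S the following are equivalent: (1) the ring k' ⊗_k S
is reduced whenever k'/k is a finite purely inseparable field extension; (4) S is geometrically
reduced in Mathlib's sense, which over a field amounts to k̄ ⊗_k S being reduced for an algebraic
closure k̄; (5) K ⊗_k S is reduced for all field extensions K/k. In (1) and (5) the test fields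
range over field extensions in the universe of k; this is equivalent to the unrestricted notion,
since an algebraic closure of k suffices as a test. -/
theorem result {k S : Type u} [Field k] [CommRing S] [Algebra k S] :
    [∀ (k' : Type u) [Field k'] [Algebra k k'] [Module.Finite k k'] [IsPurelyInseparable k k'], IsReduced (k' ⊗[k] S),
      Algebra.IsGeometricallyReduced k S,
      ∀ (K : Type u) [Field K] [Algebra k K], IsReduced (K ⊗[k] S)].TFAE := by
  tfae_have 3 → 1 := fun h k' _ _ _ _ => h k'
  tfae_have 2 → 3 := fun h K _ _ => Groth.Agent.FBaseLib.isReduced_field_tensor S K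
  tfae_have 1 → 2 := by
    intro h
    rw [Algebra.isGeometricallyReduced_field_iff]
    let P := perfectClosure k (AlgebraicClosure k)
    have : IsReduced (P ⊗[k] S) := by
      refine ⟨fun x hx => ?_⟩
      obtain ⟨E, hE, x', _, rfl, -⟩ := Groth.Agent.GeomSep.exists_finite_intermediateField x 0
      have : IsPurelyInseparable k E := IsPurelyInseparable.tower_bot k E P
      have := h E
      rw [IsNilpotent.map_iff (Groth.Agent.GeomSep.map_intermediateField_injective E)] at hx
      rw [hx.eq_zero, map_zero]
    have : PerfectField P := inferInstance
    have : Algebra.IsAlgebraic P (AlgebraicClosure k) := Algebra.IsAlgebraic.tower_top (K := k) P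
    exact isReduced_of_separable P (AlgebraicClosure k)
  tfae_finish


end Groth.Agent.S9634
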