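import Groth.Statements.S9635
import Groth.Agent.FBaseLib.Reduced
import Groth.Agent.GrpSchLib.Reduced
import Groth.Agent.GeomSep.SepTensor

set_option autoImplicit false
universe u
open CAlg

namespace Groth.Agent.S9635

open TensorProduct in
/-- Let k ⊆ k' be fields with k' separable algebraic over k, and A a k'-algebra. Then A is geometrically
reduced over k (K ⊗_k A reduced for all field extensions K/k) if and only if A is geometrically
reduced over k' (K ⊗_{k'} A reduced for all field extensions K/k'). Here the test fields K range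
over field extensions (of k, respectively of k') in the common universe of k and k'; this is
equivalent to the unrestricted notions, since an algebraic closure of the base field suffices as a
test. -/
theorem result {k k' A : Type u} [Field k] [Field k'] [Algebra k k'] [Algebra.IsSeparable k k'] [CommRing A] [Algebra k' A] [Algebra k A] [IsScalarTower k k' A] :
    (∀ (K : Type u) [Field K] [Algebra k K], IsReduced (K ⊗[k] A)) ↔
      ∀ (K : Type u) [Field K] [Algebra k' K], IsReduced (K ⊗[k'] A) := by
  constructor
  · intro h K _ _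
    let : Algebra k K := ((algebraMap k' K).comp (algebraMap k k')).toAlgebra
    have : IsScalarTower k k' K := IsScalarTower.of_algebraMap_eq' rfl
    have := h K
    let φ : K ⊗[k] A →ₐ[k] K ⊗[k'] A := Algebra.TensorProduct.lift Algebra.TensorProduct.includeLeft
      ((Algebra.TensorProduct.includeRight (R := k') (A := K) (B := A)).restrictScalars k)
      fun _ _ => Commute.all _ _
    let ι : k' ⊗[k] k' →ₐ[k] K ⊗[k] A :=
      Algebra.TensorProduct.map (IsScalarTower.toAlgHom k k' K) (IsScalarTower.toAlgHom k k' A)
    let I : Ideal (K ⊗[k] A) :=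
      Ideal.span (Set.range fun c : k' => ι (c ⊗ₜ 1 - 1 ⊗ₜ c))
    have hidem : ∀ i ∈ I, ∃ e ∈ I, IsIdempotentElem e ∧ i = e * i := by
      intro i hi
      induction hi using Submodule.span_induction with
      | mem x hx =>
        obtain ⟨c, rfl⟩ := hx
        obtain ⟨y, hy⟩ := Groth.Agent.GeomSep.exists_eq_sq_mul_tensor (k := k) (c ⊗ₜ[k] (1 : k') - 1 ⊗ₜ c)
        refine ⟨ι (c ⊗ₜ 1 - 1 ⊗ₜ c) * ι y, I.mul_mem_right _ (Ideal.subset_span ⟨c, rfl⟩), ?_, ?_⟩
        · have := congrArg ι hy
          simp only [map_mul] at this
          unfold IsIdempotentElem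
          linear_combination (-ι y) * this
        · have := congrArg ι hy
          simp only [map_mul] at this
          linear_combination this
      | zero => exact ⟨0, zero_mem _, IsIdempotentElem.zero, by simp⟩
      | add x y _ _ hx hy =>
        obtain ⟨e, he, hee, hxe⟩ := hx
        obtain ⟨f, hf, hff, hyf⟩ := hy
        unfold IsIdempotentElem at hee hff
        refine ⟨e + f - e * f, sub_mem (add_mem he hf) (I.mul_mem_right _ he), ?_, ?_⟩
        · unfold IsIdempotentElem
          linear_combination (1 - 2 * f + f * f) * hee + (1 - e) * hff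
        · linear_combination (1 - f) * hxe + (1 - e) * hyf
      | smul c x _ hx =>
        obtain ⟨e, he, hee, hxe⟩ := hx
        exact ⟨e, he, hee, by rw [smul_eq_mul]; linear_combination c * hxe⟩
    have hker : ∀ z, φ z = 0 → z ∈ I := by
      intro z hz
      let a : K →ₐ[k] (K ⊗[k] A) ⧸ I := (Ideal.Quotient.mkₐ k I).comp Algebra.TensorProduct.includeLeft
      let b : A →ₐ[k] (K ⊗[k] A) ⧸ I := (Ideal.Quotient.mkₐ k I).comp Algebra.TensorProduct.includeRight
      let a' : K →ₐ[k'] (K ⊗[k] A) ⧸ I := { a.toRingHom with commutes' := fun _ => rfl }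
      let b' : A →ₐ[k'] (K ⊗[k] A) ⧸ I :=
        { b.toRingHom with
          commutes' := fun c => by
            show Ideal.Quotient.mk I ((1 : K) ⊗ₜ[k] algebraMap k' A c) =
              Ideal.Quotient.mk I (algebraMap k' K c ⊗ₜ[k] (1 : A))
            rw [eq_comm, Ideal.Quotient.mk_eq_mk_iff_sub_mem]
            refine Ideal.subset_span ⟨c, ?_⟩
            simp [ι] }
      let ψ := Algebra.TensorProduct.lift a' b' fun _ _ => Commute.all _ _
      have : ∀ w, ψ (φ w) = Ideal.Quotient.mk I w := by
        intro w
        induction w with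
        | zero => simp
        | tmul x y =>
          simp only [φ, ψ, Algebra.TensorProduct.lift_tmul, map_mul, Algebra.TensorProduct.includeLeft_apply,
            AlgHom.restrictScalars_apply, Algebra.TensorProduct.includeRight_apply, map_one, mul_one, one_mul]
          show Ideal.Quotient.mk I (x ⊗ₜ[k] (1 : A)) * Ideal.Quotient.mk I ((1 : K) ⊗ₜ[k] y) = _
          rw [← map_mul, Algebra.TensorProduct.tmul_mul_tmul, mul_one, one_mul]
        | add x y hx hy => simp only [map_add, hx, hy]
      have := this z
      rw [hz, map_zero] at this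
      exact Ideal.Quotient.eq_zero_iff_mem.1 this.symm
    have hφI : ∀ i ∈ I, φ i = 0 := by
      intro i hi
      refine (Ideal.span_le.2 ?_ : I ≤ RingHom.ker φ.toRingHom) hi
      rintro _ ⟨c, rfl⟩
      show φ (ι (c ⊗ₜ 1 - 1 ⊗ₜ c)) = 0
      simp only [ι, map_sub, Algebra.TensorProduct.map_tmul, map_one, φ, Algebra.TensorProduct.lift_tmul,
        Algebra.TensorProduct.includeLeft_apply, AlgHom.restrictScalars_apply,
        Algebra.TensorProduct.includeRight_apply, IsScalarTower.coe_toAlgHom', sub_eq_zero]
      simp only [← Algebra.TensorProduct.one_def, mul_one, one_mul]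
      rw [Algebra.algebraMap_eq_smul_one, Algebra.algebraMap_eq_smul_one, TensorProduct.smul_tmul]
    have hsurj : Function.Surjective φ := by
      intro z
      induction z with
      | zero => exact ⟨0, map_zero _⟩
      | tmul x y => exact ⟨x ⊗ₜ y, by simp [φ]⟩
      | add x y hx hy =>
        obtain ⟨x', rfl⟩ := hx; obtain ⟨y', rfl⟩ := hy
        exact ⟨x' + y', map_add _ _ _⟩
    refine ⟨fun z hz => ?_⟩
    obtain ⟨z, rfl⟩ := hsurj z
    obtain ⟨n, hn⟩ := hz
    rw [← map_pow] at hn
    obtain ⟨e, he, hee, hze⟩ := hidem _ (hker _ hn)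
    have h0 : IsNilpotent ((1 - e) * z) := by
      refine ⟨n + 1, ?_⟩
      rw [mul_pow, pow_succ z, pow_succ (1 - e)]
      calc (1 - e) ^ n * (1 - e) * (z ^ n * z) = (1 - e) ^ n * z * ((1 - e) * z ^ n) := by ring
        _ = 0 := by rw [show (1 - e) * z ^ n = 0 by linear_combination hze, mul_zero]
    have hz' : z = e * z := by linear_combination h0.eq_zero
    rw [hz', map_mul, hφI e he, zero_mul]
  · intro h K _ _
    have : IsReduced (K ⊗[k] k') := Groth.Agent.GrpSchLib.isReduced_tensor_of_isSeparable k k' K
    have : IsReduced (k' ⊗[k] K) :=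
      isReduced_of_injective (Algebra.TensorProduct.comm k k' K) (Algebra.TensorProduct.comm k k' K).injective
    have := Groth.Agent.FBaseLib.isReduced_tensor_of_fields (k := k') A (k' ⊗[k] K) fun L _ _ => h L
    let e := (Algebra.TensorProduct.comm k K A).toRingEquiv.trans
      ((Algebra.TensorProduct.cancelBaseChange k k' A A K).symm.toRingEquiv.trans
        (Algebra.TensorProduct.comm k' A (k' ⊗[k] K)).toRingEquiv)
    exact isReduced_of_injective e e.injective


end Groth.Agent.S9635
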