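import Groth.Statements.S9636
import Groth.Agent.GeomSep.SepTensor

set_option autoImplicit false
universe u
open CAlg

namespace Groth.Agent.S9636

open TensorProduct in
/-- Let k'/k be a separable algebraic field extension. Then for some multiplicative subset S of k' ⊗_k
k' the multiplication map k' ⊗_k k' → k' is a localization at S: there is a ring isomorphism S⁻¹(k'
⊗_k k') ≅ k' carrying the localization map to the multiplication map. -/
theorem result {k k' : Type u} [Field k] [Field k'] [Algebra k k'] [Algebra.IsSeparable k k'] :
    ∃ (S : Submonoid (k' ⊗[k] k')) (e : Localization S ≃+* k'), ∀ x : k' ⊗[k] k', e (algebraMap (k' ⊗[k] k') (Localization S) x) = Algebra.TensorProduct.lmul' (S := k') k x := by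
  have := Groth.Agent.GeomSep.isLocalization_lmul (k := k) (k' := k')
  let := (Algebra.TensorProduct.lmul' (S := k') k).toRingHom.toAlgebra
  refine ⟨_, (IsLocalization.algEquiv ((nonZeroDivisors k').comap (Algebra.TensorProduct.lmul' (S := k') k))
    (Localization ((nonZeroDivisors k').comap (Algebra.TensorProduct.lmul' (S := k') k))) k').toRingEquiv, fun x => ?_⟩
  exact (IsLocalization.algEquiv ((nonZeroDivisors k').comap (Algebra.TensorProduct.lmul' (S := k') k))
    (Localization ((nonZeroDivisors k').comap (Algebra.TensorProduct.lmul' (S := k') k))) k').commutes x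


end Groth.Agent.S9636
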