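import Groth.Statements.S9637
import Mathlib.RingTheory.Ideal.AssociatedPrime.Finiteness
import Mathlib.RingTheory.Ideal.Operations

set_option autoImplicit false
universe u
open CAlg

namespace Groth.Agent.S9637

/-- Let R be a local Noetherian ring, I an ideal contained in its maximal ideal, and M a finite
R-module. Then I contains an M-regular element (one acting injectively on M) if and only if no
associated prime of M contains I. -/
theorem result {R : Type u} [CommRing R] [IsNoetherianRing R] [IsLocalRing R] (I : Ideal R) (hI : I ≤ IsLocalRing.maximalIdeal R) (M : Type u) [AddCommGroup M] [Module R M] [Module.Finite R M] :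
    (∃ x ∈ I, IsSMulRegular M x) ↔ ∀ q ∈ associatedPrimes R M, ¬ I ≤ q := by
  classical
  constructor
  · rintro ⟨x, hxI, hx⟩ q hq hIq
    have hxq : x ∈ ⋃ p ∈ associatedPrimes R M, (p : Set R) := Set.mem_biUnion hq (hIq hxI)
    rw [biUnion_associatedPrimes_eq_zero_divisors] at hxq
    obtain ⟨m, hm, hxm⟩ := hxq
    exact hm (hx (show x • m = x • 0 by simpa using hxm))
  · intro h
    by_contra hne
    have hsub : (I : Set R) ⊆ ⋃ p ∈ (associatedPrimes.finite R M).toFinset, (p : Set R) := by
      intro x hx
      have hx' : x ∈ ⋃ p ∈ associatedPrimes R M, (p : Set R) := by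
        rw [biUnion_associatedPrimes_eq_zero_divisors]
        by_contra hc
        refine hne ⟨x, hx, ?_⟩
        intro a b hab
        by_contra hab'
        exact hc ⟨a - b, sub_ne_zero.2 hab', by simp only at hab; simp [smul_sub, hab]⟩
      simpa using hx'
    obtain ⟨p, hp, hle⟩ := (Ideal.subset_union_prime ⊥ ⊥ (fun p hp _ _ =>
      ((associatedPrimes.finite R M).mem_toFinset.1 hp).isPrime)).1 hsub
    exact h p ((associatedPrimes.finite R M).mem_toFinset.1 hp) hle


end Groth.Agent.S9637
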