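import Groth.Statements.S9641
import Groth.Agent.GrpSchLib.TensorDomain

set_option autoImplicit false
universe u
open CAlg

namespace Groth.Agent.S9641

open TensorProduct in
/-- Let k be a field and R, S two k-algebras. If R ⊗_k S is not reduced then there are finitely
generated k-subalgebras R' ⊆ R and S' ⊆ S such that R' ⊗_k S' is not reduced. -/
theorem result {k R S : Type u} [Field k] [CommRing R] [CommRing S] [Algebra k R] [Algebra k S] (h : ¬ IsReduced (R ⊗[k] S)) :
    ∃ (R' : Subalgebra k R) (S' : Subalgebra k S), R'.FG ∧ S'.FG ∧ ¬ IsReduced (R' ⊗[k] S') := by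
  by_contra hc
  push Not at hc
  refine h ⟨fun x hx => ?_⟩
  obtain ⟨R', hR', x', hx'⟩ := Groth.Agent.GrpSchLib.exists_fg_mem_range_rTensor x
  obtain ⟨S', hS', x'', hx''⟩ := Groth.Agent.GrpSchLib.exists_fg_mem_range_rTensor
    (Algebra.TensorProduct.comm k R' S x')
  have := hc R' S' hR' hS'
  subst hx'
  have h1 : Function.Injective (Algebra.TensorProduct.map R'.val (AlgHom.id k S)) :=
    Module.Flat.rTensor_preserves_injective_linearMap (M := S) R'.val.toLinearMap Subtype.val_injective
  have h2 : Function.Injective (Algebra.TensorProduct.map S'.val (AlgHom.id k R')) :=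
    Module.Flat.rTensor_preserves_injective_linearMap (M := R') S'.val.toLinearMap Subtype.val_injective
  rw [IsNilpotent.map_iff h1] at hx
  have hx2 := hx.map (Algebra.TensorProduct.comm k R' S)
  rw [← hx'', IsNilpotent.map_iff h2] at hx2
  have := (hx2.map (Algebra.TensorProduct.comm k S' R')).eq_zero
  rw [map_eq_zero_iff _ (Algebra.TensorProduct.comm k S' R').injective] at this
  rw [this, map_zero, eq_comm, map_eq_zero_iff _ (Algebra.TensorProduct.comm k R' S).injective] at hx''
  rw [hx'', map_zero]


end Groth.Agent.S9641
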