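import Groth.Statements.S9643
import Mathlib

set_option autoImplicit false
universe u
open CAlg

namespace Groth.Agent.S9643

/-- Let R be a Noetherian ring, M a finite R-module and 0 = M_0 ⊆ M_1 ⊆ ⋯ ⊆ M_n = M a chain of
submodules whose successive quotients M_i/M_{i-1} are isomorphic to R/p_i for prime ideals p_i. Then
the primes minimal among p_1, …, p_n are exactly the primes minimal in the support of M. -/
theorem result {R : Type u} [CommRing R] [IsNoetherianRing R] (M : Type u) [AddCommGroup M] [Module R M] [Module.Finite R M]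
    {n : ℕ} (N : Fin (n + 1) → Submodule R M) (hN : Monotone N) (h0 : N 0 = ⊥) (hlast : N (Fin.last n) = ⊤)
    (p : Fin n → PrimeSpectrum R)
    (hquot : ∀ i : Fin n, Nonempty ((↥(N i.succ) ⧸ Submodule.comap (N i.succ).subtype (N i.castSucc)) ≃ₗ[R] (R ⧸ (p i).asIdeal))) :
    {q : PrimeSpectrum R | Minimal (fun x => x ∈ Set.range p) q} = {q : PrimeSpectrum R | Minimal (fun x => x ∈ Module.support R M) q} := by
  classical
  have hsupp : ∀ q : PrimeSpectrum R, q ∈ Module.support R M ↔ ∃ i, p i ≤ q := by
    intro q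
    constructor
    · intro hq
      by_contra hne
      push Not at hne
      have key : ∀ k : Fin (n + 1), q ∉ Module.support R (N k) := by
        intro k
        induction k using Fin.induction with
        | zero =>
          rw [Module.notMem_support_iff']
          rintro ⟨m, hm⟩
          rw [h0, Submodule.mem_bot] at hm
          exact ⟨1, fun h => q.isPrime.ne_top ((Ideal.eq_top_iff_one _).2 h), Subtype.ext (by simp [hm])⟩
        | succ i ih =>
          obtain ⟨e⟩ := hquot i
          obtain ⟨r, hr, hrq⟩ := SetLike.not_le_iff_exists.1 (show ¬ (p i).asIdeal ≤ q.asIdeal from hne i)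
          rw [Module.notMem_support_iff'] at ih ⊢
          rintro ⟨m, hm⟩
          have h1 : r • (⟨m, hm⟩ : N i.succ) ∈ Submodule.comap (N i.succ).subtype (N i.castSucc) := by
            rw [← Submodule.Quotient.mk_eq_zero, ← e.map_eq_zero_iff, Submodule.Quotient.mk_smul, map_smul]
            obtain ⟨c, hc⟩ := Ideal.Quotient.mk_surjective (e (Submodule.Quotient.mk ⟨m, hm⟩))
            rw [← hc]
            show Ideal.Quotient.mk (p i).asIdeal (r * c) = 0
            rw [Ideal.Quotient.eq_zero_iff_mem]
            exact Ideal.mul_mem_right _ _ hr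
          obtain ⟨s, hs, es⟩ := ih ⟨r • m, by simpa using h1⟩
          exact ⟨s * r, fun h => (q.isPrime.mem_or_mem h).elim hs hrq,
            Subtype.ext (by have h := congrArg Subtype.val es; simpa [mul_smul] using h)⟩
      have h1 := key (Fin.last n)
      rw [hlast, Module.notMem_support_iff'] at h1
      obtain ⟨m, hm⟩ := Module.mem_support_iff'.1 hq
      obtain ⟨s, hs, es⟩ := h1 ⟨m, trivial⟩
      exact hm s hs (congrArg (Subtype.val : _ → M) es)
    · rintro ⟨i, hle⟩
      refine Module.mem_support_mono hle ?_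
      obtain ⟨e⟩ := hquot i
      refine Module.support_subset_of_injective (N i.succ).subtype (N i.succ).injective_subtype ?_
      refine Module.support_subset_of_surjective (e.toLinearMap ∘ₗ Submodule.mkQ _)
        (e.surjective.comp (Submodule.mkQ_surjective _)) ?_
      rw [Module.support_eq_zeroLocus, PrimeSpectrum.mem_zeroLocus, Ideal.annihilator_quotient]
  ext q
  simp only [Set.mem_setOf_eq]
  constructor
  · rintro ⟨⟨i, rfl⟩, hmin⟩
    refine ⟨(hsupp _).2 ⟨i, le_rfl⟩, fun y hy hyq => ?_⟩
    obtain ⟨j, hj⟩ := (hsupp y).1 hy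
    exact (hmin ⟨j, rfl⟩ (hj.trans hyq)).trans hj
  · rintro ⟨hq, hmin⟩
    obtain ⟨j, hj⟩ := (hsupp q).1 hq
    obtain rfl : p j = q := le_antisymm hj (hmin ((hsupp _).2 ⟨j, le_rfl⟩) hj)
    exact ⟨⟨j, rfl⟩, fun y ⟨i, hi⟩ hy => hmin ((hsupp _).2 ⟨i, hi.le⟩) hy⟩


end Groth.Agent.S9643
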