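import Groth.Statements.S9644
import Mathlib

set_option autoImplicit false
universe u
open CAlg

namespace Groth.Agent.S9644

/-- Let R be a Noetherian ring and M a finite R-module. Among the submodules K' of M whose support is
nowhere dense inside Supp(M) there is a largest one, K. The quotient M' = M/K then satisfies
Supp(M') = Supp(M), its associated primes are pairwise incomparable (no embedded ones), and whenever
f ∈ R belongs to every embedded associated prime of M the localized map M_f → M'_f is bijective. -/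
theorem result {R : Type u} [CommRing R] [IsNoetherianRing R] (M : Type u) [AddCommGroup M] [Module R M] [Module.Finite R M] :
    ∃ K : Submodule R M,
      IsGreatest {K' : Submodule R M | ∀ U : Set (PrimeSpectrum R), IsOpen U → U ∩ Module.support R M ⊆ closure (Module.support R ↥K') → U ∩ Module.support R M = ∅} K ∧
      Module.support R (M ⧸ K) = Module.support R M ∧
      (∀ p ∈ associatedPrimes R (M ⧸ K), ∀ q ∈ associatedPrimes R (M ⧸ K), p ≤ q → p = q) ∧
      ∀ f : R, (∀ p ∈ associatedPrimes R M, ¬ Minimal (fun x => x ∈ associatedPrimes R M) p → f ∈ p) →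
        Function.Bijective (LocalizedModule.map (Submonoid.powers f) K.mkQ) := by
  classical
  let I := Module.annihilator R M
  have hsupp : Module.support R M = PrimeSpectrum.zeroLocus (I : Set R) := Module.support_eq_zeroLocus
  have hminfin : I.minimalPrimes.Finite := Ideal.finite_minimalPrimes_of_isNoetherianRing R I
  let K : Submodule R M :=
    { carrier := {m | ∀ p ∈ I.minimalPrimes, ∃ s, s ∉ p ∧ s • m = 0}
      zero_mem' := fun p hp => ⟨1, fun h => hp.1.1.ne_top ((Ideal.eq_top_iff_one _).2 h), smul_zero _⟩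
      add_mem' := fun {a b} ha hb p hp => by
        obtain ⟨s, hs, hsa⟩ := ha p hp
        obtain ⟨t, ht, htb⟩ := hb p hp
        refine ⟨s * t, fun h => (hp.1.1.mem_or_mem h).elim hs ht, ?_⟩
        rw [smul_add, mul_comm, mul_smul, hsa, smul_zero, zero_add, mul_comm, mul_smul, htb, smul_zero]
      smul_mem' := fun c a ha p hp => by
        obtain ⟨s, hs, hsa⟩ := ha p hp
        exact ⟨s, hs, by rw [smul_comm, hsa, smul_zero]⟩ }
  have hK : ∀ m, m ∈ K ↔ ∀ p ∈ I.minimalPrimes, ∃ s, s ∉ p ∧ s • m = 0 := fun m => Iff.rfl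
  have hnotsupp : ∀ (p : PrimeSpectrum R) (K' : Submodule R M),
      p ∉ Module.support R K' ↔ ∀ m ∈ K', ∃ s, s ∉ p.asIdeal ∧ s • m = 0 := fun p K' => by
    rw [Module.notMem_support_iff']
    constructor
    · intro h m hm
      obtain ⟨s, hs, e⟩ := h ⟨m, hm⟩
      exact ⟨s, hs, congrArg Subtype.val e⟩
    · rintro h ⟨m, hm⟩
      obtain ⟨s, hs, e⟩ := h m hm
      exact ⟨s, hs, Subtype.ext e⟩
  have hmin : ∀ q ∈ Module.support R M, ∃ p : PrimeSpectrum R, p.asIdeal ∈ I.minimalPrimes ∧
      p ∈ Module.support R M ∧ p ≤ q := by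
    intro q hq
    rw [hsupp, PrimeSpectrum.mem_zeroLocus, SetLike.coe_subset_coe] at hq
    obtain ⟨p, hp, hle⟩ := Ideal.exists_minimalPrimes_le hq
    refine ⟨⟨p, hp.1.1⟩, hp, ?_, hle⟩
    rw [hsupp, PrimeSpectrum.mem_zeroLocus, SetLike.coe_subset_coe]
    exact hp.1.2
  have hKK : ∀ p : PrimeSpectrum R, p.asIdeal ∈ I.minimalPrimes → p ∉ Module.support R K :=
    fun p hp => (hnotsupp p K).2 fun m hm => hm p.asIdeal hp
  have hset : ∀ K' : Submodule R M,
      (∀ U : Set (PrimeSpectrum R), IsOpen U → U ∩ Module.support R M ⊆ closure (Module.support R ↥K') →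
        U ∩ Module.support R M = ∅) ↔
      ∀ p : PrimeSpectrum R, p.asIdeal ∈ I.minimalPrimes → p ∉ Module.support R K' := by
    intro K'
    have hclosed : closure (Module.support R ↥K') = Module.support R ↥K' := by
      rw [Module.support_eq_zeroLocus]; exact (PrimeSpectrum.isClosed_zeroLocus _).closure_eq
    rw [hclosed]
    constructor
    · intro h p hp hpK
      let U : Set (PrimeSpectrum R) := (⋃ q ∈ I.minimalPrimes \ {p.asIdeal}, PrimeSpectrum.zeroLocus (q : Set R))ᶜ
      have hU : IsOpen U := ((hminfin.subset Set.sdiff_subset).isClosed_biUnion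
        fun q _ => PrimeSpectrum.isClosed_zeroLocus _).isOpen_compl
      have hpU : p ∈ U := by
        simp only [U, Set.mem_compl_iff, Set.mem_iUnion, not_exists]
        intro q hq hqp
        rw [PrimeSpectrum.mem_zeroLocus, SetLike.coe_subset_coe] at hqp
        exact hq.2 (le_antisymm hqp (hp.2 hq.1.1 hqp))
      have hsub : U ∩ Module.support R M ⊆ Module.support R K' := by
        rintro q ⟨hqU, hqM⟩
        obtain ⟨p', hp', -, hle⟩ := hmin q hqM
        by_cases he : p'.asIdeal = p.asIdeal
        · exact Module.mem_support_mono ((PrimeSpectrum.ext he : p' = p) ▸ hle) hpK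
        · exact absurd (Set.mem_biUnion (show p'.asIdeal ∈ I.minimalPrimes \ {p.asIdeal} from ⟨hp', he⟩)
            ((PrimeSpectrum.mem_zeroLocus _ _).2 hle)) hqU
      have hpM : p ∈ Module.support R M := by
        rw [hsupp, PrimeSpectrum.mem_zeroLocus, SetLike.coe_subset_coe]; exact hp.1.2
      exact Set.eq_empty_iff_forall_notMem.1 (h U hU hsub) p ⟨hpU, hpM⟩
    · intro h U hU hsub
      refine Set.eq_empty_iff_forall_notMem.2 fun q ⟨hqU, hqM⟩ => ?_
      obtain ⟨p, hp, hpM, hle⟩ := hmin q hqM
      have hpU : p ∈ U := ((PrimeSpectrum.le_iff_specializes p q).1 hle).mem_open hU hqU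
      exact h p hp (hsub ⟨hpU, hpM⟩)
  refine ⟨K, ⟨(hset K).2 hKK, fun K' hK' m hm p hp => ?_⟩, ?_, ?_, ?_⟩
  · exact (hnotsupp ⟨p, hp.1.1⟩ K').1 ((hset K').1 hK' ⟨p, hp.1.1⟩ hp) m hm
  · refine subset_antisymm (Module.support_subset_of_surjective K.mkQ K.mkQ_surjective) fun q hq => ?_
    obtain ⟨p, hp, hpM, hle⟩ := hmin q hq
    refine Module.mem_support_mono hle ?_
    obtain ⟨m, hm⟩ := Module.mem_support_iff'.1 hpM
    refine Module.mem_support_iff'.2 ⟨K.mkQ m, fun r hr h0 => ?_⟩
    rw [← map_smul, Submodule.mkQ_apply, Submodule.Quotient.mk_eq_zero] at h0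
    obtain ⟨s, hs, e⟩ := h0 p.asIdeal hp
    exact hm (s * r) (fun h => (p.isPrime.mem_or_mem h).elim hs hr) (by rw [mul_smul, e])
  · have hkey : ∀ p ∈ associatedPrimes R (M ⧸ K), p ∈ I.minimalPrimes := by
      intro p hp
      obtain ⟨hpp, x, hx⟩ := isAssociatedPrime_iff.1 hp
      obtain ⟨m, rfl⟩ := K.mkQ_surjective x
      have hmK : m ∉ K := fun h => hpp.ne_top (by
        rw [hx, Ideal.eq_top_iff_one, Submodule.mem_colon_singleton, one_smul, Submodule.mem_bot]
        exact (Submodule.Quotient.mk_eq_zero K).2 h)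
      rw [hK] at hmK
      push Not at hmK
      obtain ⟨q, hq, hmq⟩ := hmK
      have hle : p ≤ q := by
        intro r hr
        rw [hx, Submodule.mem_colon_singleton, Submodule.mem_bot, ← map_smul, Submodule.mkQ_apply,
          Submodule.Quotient.mk_eq_zero] at hr
        by_contra hrq
        obtain ⟨s, hs, e⟩ := hr q hq
        exact hmq (s * r) (fun h => (hq.1.1.mem_or_mem h).elim hs hrq) (by rw [mul_smul, e])
      have hIp : I ≤ p := by
        intro r hr
        rw [hx, Submodule.mem_colon_singleton, Submodule.mem_bot, ← map_smul,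
          Module.mem_annihilator.1 hr m, map_zero]
      rwa [le_antisymm hle (hq.2 ⟨hpp, hIp⟩ hle)]
    intro p hp q hq hpq
    exact le_antisymm hpq ((hkey q hq).2 (hkey p hp).1 hpq)
  · intro f hf
    refine ⟨?_, LocalizedModule.map_surjective _ _ K.mkQ_surjective⟩
    have hfrad : f ∈ (Module.annihilator R K).radical := by
      rw [← Ideal.sInf_minimalPrimes, Ideal.mem_sInf]
      intro p hp
      have hpK := Module.associatedPrimes.minimalPrimes_annihilator_subset_associatedPrimes R K hp
      have hpM : p ∈ associatedPrimes R M := associatedPrimes.subset_of_injective K.injective_subtype hpK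
      refine hf p hpM fun hpmin => ?_
      have hps : (⟨p, hp.1.1⟩ : PrimeSpectrum R) ∈ Module.support R K := by
        rw [Module.support_eq_zeroLocus, PrimeSpectrum.mem_zeroLocus, SetLike.coe_subset_coe]
        exact hp.1.2
      have hpsM := Module.support_subset_of_injective K.subtype K.injective_subtype hps
      obtain ⟨p0, hp0, -, hle⟩ := hmin _ hpsM
      have h0ass : p0.asIdeal ∈ associatedPrimes R M :=
        Module.associatedPrimes.minimalPrimes_annihilator_subset_associatedPrimes R M hp0
      have : p0 = ⟨p, hp.1.1⟩ := PrimeSpectrum.ext (le_antisymm hle (hpmin.2 h0ass hle))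
      exact hKK p0 hp0 (this ▸ hps)
    obtain ⟨n, hn⟩ := hfrad
    rw [injective_iff_map_eq_zero]
    intro z hz
    induction z using LocalizedModule.induction_on with
    | h m s =>
      rw [LocalizedModule.map_mk] at hz
      obtain ⟨⟨_, k, rfl⟩, hk⟩ := LocalizedModule.mk_eq.1 (hz.trans (LocalizedModule.zero_mk s).symm)
      simp only [Submonoid.smul_def, smul_zero, ← mul_smul, Submodule.mkQ_apply] at hk
      rw [← Submodule.Quotient.mk_smul, Submodule.Quotient.mk_eq_zero] at hk
      have h1 := congrArg Subtype.val (Module.mem_annihilator.1 hn ⟨_, hk⟩)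
      rw [← LocalizedModule.zero_mk s, LocalizedModule.mk_eq]
      refine ⟨⟨f ^ n * f ^ k, Submonoid.mul_mem _ ⟨n, rfl⟩ ⟨k, rfl⟩⟩, ?_⟩
      simp only [Submonoid.smul_def, smul_zero]
      simpa [← mul_smul, mul_assoc] using h1


end Groth.Agent.S9644
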