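import Groth.Statements.S9645
import Mathlib

set_option autoImplicit false
universe u
open CAlg

namespace Groth.Agent.S9645

/-- Integral closure commutes with localization. Let A → B be a ring map, S a multiplicative subset of
A, and A_S, B_S the localizations of A at S and of B at the image of S. Then an element x of B_S is
integral over A_S if and only if x·s = b for some s ∈ S and some b ∈ B integral over A (images taken
in B_S); that is, the integral closure of A_S in B_S is S⁻¹B' for B' the integral closure of A in B. -/
theorem result {A B As Bs : Type u} [CommRing A] [CommRing B] [CommRing As] [CommRing Bs] [Algebra A B] [Algebra A As] [Algebra B Bs] [Algebra As Bs] [Algebra A Bs] [IsScalarTower A B Bs] [IsScalarTower A As Bs]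
    (S : Submonoid A) [IsLocalization S As] [IsLocalization (Algebra.algebraMapSubmonoid B S) Bs] (x : Bs) :
    IsIntegral As x ↔ ∃ b : B, IsIntegral A b ∧ ∃ s ∈ S, x * algebraMap A Bs s = algebraMap B Bs b := by
  classical
  constructor
  · intro hx
    obtain ⟨⟨m, hm⟩, hmx⟩ := IsIntegral.exists_multiple_integral_of_isLocalization S x hx
    obtain ⟨⟨b, _, t, ht, rfl⟩, hb⟩ := IsLocalization.surj (Algebra.algebraMapSubmonoid B S) x
    have hb' : x * algebraMap A Bs (t * m) = algebraMap B Bs (algebraMap A B m * b) := by
      rw [map_mul, map_mul, IsScalarTower.algebraMap_apply A B Bs t, ← mul_assoc, hb, mul_comm, ← IsScalarTower.algebraMap_apply]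
    have hint : IsIntegral A (algebraMap B Bs (algebraMap A B m * b)) := by
      rw [← hb', map_mul, mul_comm (algebraMap A Bs t), ← mul_assoc, mul_comm x]
      refine IsIntegral.mul ?_ isIntegral_algebraMap
      rw [← Algebra.smul_def]; exact hmx
    obtain ⟨p, hp, hp0⟩ := hint
    rw [IsScalarTower.algebraMap_eq A B Bs, ← Polynomial.hom_eval₂] at hp0
    obtain ⟨⟨_, u, hu, rfl⟩, huz⟩ := (IsLocalization.map_eq_zero_iff (Algebra.algebraMapSubmonoid B S) Bs _).1 hp0
    set c := algebraMap A B m * b
    refine ⟨algebraMap A B u * c, ?_, u * (t * m), S.mul_mem hu (S.mul_mem ht hm), ?_⟩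
    · rcases Nat.eq_zero_or_pos p.natDegree with hd | hd
      · rw [hp.natDegree_eq_zero.1 hd, Polynomial.eval₂_one, mul_one] at huz
        rw [show algebraMap A B u = 0 from huz, zero_mul]; exact isIntegral_zero
      · refine ⟨p.scaleRoots u, (Polynomial.monic_scaleRoots_iff u).2 hp, ?_⟩
        rw [Polynomial.scaleRoots_eval₂_mul]
        obtain ⟨j, hj⟩ : ∃ j, p.natDegree = j + 1 := ⟨p.natDegree - 1, by omega⟩
        rw [hj, pow_succ, mul_assoc, show algebraMap A B u * p.eval₂ (algebraMap A B) c = 0 from huz, mul_zero]
    · rw [map_mul (algebraMap A Bs), mul_left_comm, hb']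
      simp only [c, map_mul, ← IsScalarTower.algebraMap_apply]
  · rintro ⟨b, hb, s, hs, e⟩
    have h1 : IsIntegral As (algebraMap B Bs b) := (hb.map (IsScalarTower.toAlgHom A B Bs)).tower_top
    have hu : IsUnit (algebraMap A As s) := IsLocalization.map_units As ⟨s, hs⟩
    have hx : x = algebraMap As Bs ↑hu.unit⁻¹ * algebraMap B Bs b := by
      rw [← e, mul_left_comm, IsScalarTower.algebraMap_apply A As Bs, ← map_mul, IsUnit.val_inv_mul, map_one, mul_one]
    rw [hx]
    exact isIntegral_algebraMap.mul h1


end Groth.Agent.S9645
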