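import Groth.Statements.S9646
import Groth.Agent.S9645

set_option autoImplicit false
universe u
open CAlg

namespace Groth.Agent.S9646

/-- (2) ⇒ (1): let R → S be a ring map and x ∈ S. If for every prime ideal p of R the image of x in S_p
(the localization of S at the image of R ∖ p) is integral over R_p, then x is integral over R. Here
R_p and S_p are any rings satisfying the localization universal properties. -/
theorem result {R S : Type u} [CommRing R] [CommRing S] [Algebra R S] (x : S)
    (h : ∀ (p : Ideal R) [p.IsPrime] (Rp Sp : Type u) [CommRing Rp] [CommRing Sp] [Algebra R Rp] [Algebra S Sp] [Algebra Rp Sp] [Algebra R Sp] [IsScalarTower R S Sp] [IsScalarTower R Rp Sp] [IsLocalization.AtPrime Rp p] [IsLocalization (Algebra.algebraMapSubmonoid S p.primeCompl) Sp], IsIntegral Rp (algebraMap S Sp x)) :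
    IsIntegral R x := by
  let J : Ideal R := (Subalgebra.toSubmodule (integralClosure R S)).comap (LinearMap.toSpanSingleton R S x)
  have hJ : J = ⊤ := by
    by_contra hne
    obtain ⟨p, hp, hle⟩ := Ideal.exists_le_maximal J hne
    let := hp.isPrime
    let Sp := Localization (Algebra.algebraMapSubmonoid S p.primeCompl)
    letI : Algebra (Localization.AtPrime p) Sp := localizationAlgebra p.primeCompl S
    haveI : IsScalarTower R (Localization.AtPrime p) Sp :=
      .of_algebraMap_eq' (by
        rw [RingHom.algebraMap_toAlgebra, IsLocalization.map_comp, IsScalarTower.algebraMap_eq R S Sp])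
    obtain ⟨b, hb, s, hs, e⟩ := (S9645.result (A := R) (B := S) (As := Localization.AtPrime p) (Bs := Sp) p.primeCompl (algebraMap S Sp x)).1 (h p (Localization.AtPrime p) Sp)
    rw [IsScalarTower.algebraMap_apply R S Sp, ← map_mul, IsLocalization.eq_iff_exists (Algebra.algebraMapSubmonoid S p.primeCompl)] at e
    obtain ⟨⟨_, u, hu, rfl⟩, hu2⟩ := e
    refine (p.primeCompl.mul_mem hu hs) (hle ?_)
    show (u * s) • x ∈ integralClosure R S
    rw [Algebra.smul_def, map_mul, mul_assoc, mul_comm (algebraMap R S s), hu2]
    exact isIntegral_algebraMap.mul hb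
  have h1 : (1 : R) • x ∈ integralClosure R S := (Ideal.eq_top_iff_one J).1 hJ
  rwa [one_smul] at h1


end Groth.Agent.S9646
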