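import Groth.Statements.S9647
import Groth.Agent.GeomSep.Basic

set_option autoImplicit false
universe u
open CAlg

namespace Groth.Agent.S9647

open TensorProduct in
/-- Let K/k be a field extension and k^sep a separable algebraic closure of k. Then the automorphism
group of k^sep over k acts transitively on the primes of k^sep ⊗_k K: for any two primes P, Q there
is a k-automorphism σ of k^sep with Q the inverse image of P under σ ⊗ id_K. -/
theorem result {k K : Type u} [Field k] [Field K] [Algebra k K]
    (P Q : Ideal (SeparableClosure k ⊗[k] K)) [P.IsPrime] [Q.IsPrime] :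
    ∃ σ : SeparableClosure k ≃ₐ[k] SeparableClosure k, Q = P.comap (Algebra.TensorProduct.map (σ : SeparableClosure k →ₐ[k] SeparableClosure k) (AlgHom.id k K)) := by
  classical
  let Ω := AlgebraicClosure K
  have key : ∀ (P : Ideal (SeparableClosure k ⊗[k] K)) [P.IsPrime],
      ∃ σ : SeparableClosure k →ₐ[k] Ω,
        ∀ x, x ∈ P ↔ Algebra.TensorProduct.lift σ (IsScalarTower.toAlgHom k K Ω) (fun _ _ => Commute.all _ _) x = 0 := by
    intro P hP
    obtain ⟨F, _, _, _, q, hq⟩ := Groth.Agent.GeomSep.exists_ker_eq (k := k) (T := SeparableClosure k ⊗[k] K)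
      ⟨P, hP⟩
    let ksepF := q.comp Algebra.TensorProduct.includeLeft
    let KF : K →ₐ[k] F := q.comp Algebra.TensorProduct.includeRight
    let := KF.toRingHom.toAlgebra
    have : IsScalarTower k K F := IsScalarTower.of_algebraMap_eq' KF.comp_algebraMap.symm
    have : Algebra.IsAlgebraic K (IntermediateField.adjoin K (Set.range ksepF)) := by
      refine IntermediateField.isAlgebraic_adjoin ?_
      rintro _ ⟨a, rfl⟩
      exact ((Algebra.IsIntegral.isIntegral (R := k) a).map ksepF).tower_top
    let j : IntermediateField.adjoin K (Set.range ksepF) →ₐ[K] Ω := IsAlgClosed.lift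
    let σ : SeparableClosure k →ₐ[k] Ω := (j.restrictScalars k).comp
      (ksepF.codRestrict ((IntermediateField.adjoin K (Set.range ksepF)).toSubalgebra.restrictScalars k) fun a =>
        IntermediateField.subset_adjoin K _ (Set.mem_range_self a))
    have hmem : ∀ x : SeparableClosure k ⊗[k] K,
        q x ∈ IntermediateField.adjoin K (Set.range ksepF) := by
      intro x
      induction x with
      | zero => simp
      | tmul a b =>
        have : q (a ⊗ₜ b) = ksepF a * KF b := by
          simp [ksepF, KF, ← map_mul]
        rw [this]
        exact mul_mem (IntermediateField.subset_adjoin K _ (Set.mem_range_self a))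
          ((IntermediateField.adjoin K (Set.range ksepF)).algebraMap_mem b)
      | add x y hx hy => rw [map_add]; exact add_mem hx hy
    have hlift : ∀ x, Algebra.TensorProduct.lift σ (IsScalarTower.toAlgHom k K Ω) (fun _ _ => Commute.all _ _) x =
        j ⟨q x, hmem x⟩ := by
      intro x
      induction x with
      | zero =>
        have : (⟨q 0, hmem 0⟩ :
            IntermediateField.adjoin K (Set.range ksepF)) = 0 := Subtype.ext (map_zero _)
        rw [this, map_zero, map_zero]
      | tmul a b =>
        have : (⟨q (a ⊗ₜ b), hmem _⟩ : IntermediateField.adjoin K (Set.range ksepF)) =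
            ⟨ksepF a, IntermediateField.subset_adjoin K _ (Set.mem_range_self a)⟩ * algebraMap K _ b := by
          apply Subtype.ext
          show q (a ⊗ₜ b) = ksepF a * KF b
          simp [ksepF, KF, ← map_mul]
        rw [this, map_mul, AlgHom.commutes]
        simp only [Algebra.TensorProduct.lift_tmul]
        rfl
      | add x y hx hy =>
        rw [map_add, hx, hy, ← map_add]
        congr 1
        exact Subtype.ext (map_add _ _ _).symm
    refine ⟨σ, fun x => ?_⟩
    rw [hlift, map_eq_zero_iff j (RingHom.injective _)]
    exact (Subtype.ext_iff.trans (hq x)).symm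
  obtain ⟨σP, hP⟩ := key P
  obtain ⟨σQ, hQ⟩ := key Q
  let := σP.toRingHom.toAlgebra
  have : IsScalarTower k (SeparableClosure k) Ω := IsScalarTower.of_algebraMap_eq' σP.comp_algebraMap.symm
  let τ := σQ.restrictNormal' (SeparableClosure k)
  refine ⟨τ, ?_⟩
  ext x
  rw [Ideal.mem_comap, hQ, hP]
  have : ∀ x, Algebra.TensorProduct.lift σQ (IsScalarTower.toAlgHom k K Ω) (fun _ _ => Commute.all _ _) x =
      Algebra.TensorProduct.lift σP (IsScalarTower.toAlgHom k K Ω) (fun _ _ => Commute.all _ _)
        (Algebra.TensorProduct.map (τ : SeparableClosure k →ₐ[k] SeparableClosure k) (AlgHom.id k K) x) := by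
    intro x
    induction x with
    | zero => simp
    | tmul a b =>
      simp only [Algebra.TensorProduct.lift_tmul, Algebra.TensorProduct.map_tmul, AlgHom.id_apply]
      congr 1
      exact (σQ.restrictNormal_commutes (SeparableClosure k) a).symm
    | add x y hx hy => simp only [map_add, hx, hy]
  rw [this]


end Groth.Agent.S9647
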