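import Groth.Statements.S9648
import Groth.Agent.AssFiber.Basic

set_option autoImplicit false
universe u
open CAlg

namespace Groth.Agent.S9648

open TensorProduct in
/-- The inclusion, valid for any ring R: let R → S be a ring map, M an R-module and N an S-module which
is flat over R. For an associated prime p of M (a prime equal to the annihilator of an element) and
an associated prime Q of the fibre module N ⊗_R κ(p) over the fibre ring S ⊗_R κ(p), the inverse
image of Q in S is an associated prime of N ⊗_R M. -/
theorem result {R S : Type u} [CommRing R] [CommRing S] [Algebra R S] (M : Type u) [AddCommGroup M] [Module R M] (N : Type u) [AddCommGroup N] [Module S N] [Module R N] [IsScalarTower R S N] [Module.Flat R N]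
    (p : Ideal R) [p.IsPrime] (hp : p ∈ FlatCA.ass R M) (Q : Ideal (p.Fiber S)) (hQ : Q ∈ FlatCA.ass (p.Fiber S) (FlatCA.fiberMod p S N)) :
    Q.comap (Algebra.TensorProduct.includeRight (R := R) (A := p.ResidueField) (B := S)).toRingHom ∈ FlatCA.ass S (N ⊗[R] M) := by
  open Groth.Agent.WeakAss in
  have h1 : Q.comap (Algebra.TensorProduct.includeRight (R := R) (A := p.ResidueField) (B := S)).toRingHom ∈
      FlatCA.ass S (FlatCA.fiberMod p S N) := by
    rw [Groth.Agent.AssFiber.ass_fiberMod_eq]; exact ⟨Q, hQ, rfl⟩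
  rw [← Groth.Agent.AssFiber.ass_quot_eq p N] at h1
  obtain ⟨-, x, hx⟩ := hp
  let ι : (R ⧸ p) →ₗ[R] M := p.liftQ (LinearMap.toSpanSingleton R M x) (fun r hr => by
    rw [hx, Submodule.mem_annihilator_span_singleton] at hr
    simpa using hr)
  have hι : Function.Injective ι := by
    rw [← LinearMap.ker_eq_bot]
    refine Submodule.ker_liftQ_eq_bot _ _ _ fun r hr => ?_
    rw [hx, Submodule.mem_annihilator_span_singleton]
    simpa using hr
  let ψ : N →ₗ[S] N ⊗[R] M := (TensorProduct.AlgebraTensorModule.lTensor S N ι).comp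
    ((TensorProduct.AlgebraTensorModule.mk R S N (R ⧸ p)).flip 1)
  have hinj := Module.Flat.lTensor_preserves_injective_linearMap (M := N) ι hι
  have hker : LinearMap.ker ψ = Groth.Agent.AssFiber.pN p (S := S) N := by
    ext n
    rw [LinearMap.mem_ker]
    show ι.lTensor N (n ⊗ₜ[R] (1 : R ⧸ p)) = 0 ↔ _
    rw [map_eq_zero_iff _ hinj, ← LinearEquiv.map_eq_zero_iff (TensorProduct.tensorQuotEquivQuotSMul N p),
      ← map_one (Ideal.Quotient.mk p), TensorProduct.tensorQuotEquivQuotSMul_tmul_mk, one_smul,
      Submodule.Quotient.mk_eq_zero]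
    exact ⟨fun h => Groth.Agent.AssFiber.smul_mem_pN p N h, fun h => Groth.Agent.AssFiber.mem_smul_top_of_mem_pN p N h⟩
  refine ass_subset_of_injective ((Groth.Agent.AssFiber.pN p (S := S) N).liftQ ψ hker.ge) ?_ h1
  rw [← LinearMap.ker_eq_bot]
  exact Submodule.ker_liftQ_eq_bot _ _ _ hker.le


end Groth.Agent.S9648
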