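import Groth.Statements.S9649
import Groth.Agent.GeomSep.SepGen

set_option autoImplicit false
universe u
open CAlg

namespace Groth.Agent.S9649
theorem exists_sepBasis {k K : Type u} [Field k] [Field K] [Algebra k K] {ι : Type u} (x : ι → K)
    (hx : IsTranscendenceBasis k x) (hs : Algebra.IsSeparable (IntermediateField.adjoin k (Set.range x)) K)
    (K' : IntermediateField k K) [Algebra.EssFiniteType k K'] :
    ∃ s : Finset K', IsTranscendenceBasis k ((↑) : s → K') ∧
      Algebra.IsSeparable (IntermediateField.adjoin k (s : Set K')) K' := by
  obtain _ | ⟨p, hp, hpk⟩ := CharP.exists' k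
  · exact exists_isTranscendenceBasis_and_isSeparable_of_perfectField k K'
  have : CharP K p := charP_of_injective_algebraMap (algebraMap k K).injective p
  refine exists_isTranscendenceBasis_and_isSeparable_of_linearIndepOn_pow_of_essFiniteType
    p hp.out fun t ht => ?_
  classical
  have hinj : LinearMap.ker K'.val.toLinearMap = ⊥ := LinearMap.ker_eq_bot_of_injective K'.val.injective
  have h1 : LinearIndependent k (fun i : (t : Set K') => ((i : K') : K)) := ht.map' _ hinj
  have hinj' : Set.InjOn (Subtype.val : K' → K) (t : Set K') := Subtype.val_injective.injOn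
  have h2 : LinearIndepOn k id ((t.image Subtype.val : Finset K) : Set K) := by
    rw [Finset.coe_image]
    exact h1.linearIndepOn_id.mono (by rintro _ ⟨i, hi, rfl⟩; exact ⟨⟨i, hi⟩, rfl⟩)
  have h3 := Groth.Agent.GeomSep.linearIndepOn_pow_of_separablyGenerated p x hx.1 _ h2
  refine LinearIndependent.of_comp K'.val.toLinearMap ?_
  let e : ↥(t : Set K') → ((t.image Subtype.val : Finset K) : Set K) := fun i =>
    ⟨i.1, Finset.mem_coe.2 (Finset.mem_image_of_mem _ i.2)⟩
  have h4 := h3.comp e (fun a b hab => by
    have h5 := congrArg Subtype.val hab
    dsimp only [e] at h5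
    exact Subtype.ext (Subtype.ext h5))
  exact h4


/-- A separably generated field extension is separable. Precisely: let K/k be a field extension
admitting a transcendence basis x over whose generated subfield k(x) the field K is separable
algebraic; then every finitely generated subextension K' of K/k also admits such a transcendence
basis. -/
theorem result {k K : Type u} [Field k] [Field K] [Algebra k K]
    (h : ∃ (ι : Type u) (x : ι → K), IsTranscendenceBasis k x ∧ Algebra.IsSeparable (IntermediateField.adjoin k (Set.range x)) K)
    (K' : IntermediateField k K) (hK' : ∃ s : Finset K, IntermediateField.adjoin k (s : Set K) = K') :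
    ∃ (ι : Type u) (x : ι → K'), IsTranscendenceBasis k x ∧ Algebra.IsSeparable (IntermediateField.adjoin k (Set.range x)) K' := by
  obtain ⟨ι, x, hx, hsep⟩ := h
  have : Algebra.EssFiniteType k K' := IntermediateField.essFiniteType_iff.2 hK'
  obtain ⟨s, hs, hsep'⟩ := exists_sepBasis x hx hsep K'
  refine ⟨↥s, Subtype.val, hs, ?_⟩
  rw [show Set.range (Subtype.val : s → K') = (s : Set K') from Subtype.range_coe]
  exact hsep'


end Groth.Agent.S9649
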