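import Groth.Statements.S9650
import Groth.Agent.GeomSep.SepGen

set_option autoImplicit false
universe u
open CAlg

namespace Groth.Agent.S9650
theorem exists_sepBasis {k K : Type u} [Field k] [Field K] [Algebra k K] {ι : Type u} (x : ι → K)
    (hx : IsTranscendenceBasis k x) (hs : Algebra.IsSeparable (IntermediateField.adjoin k (Set.range x)) K)
    (K' : IntermediateField k K) [Algebra.EssFiniteType k K'] :
    ∃ s : Finset K', IsTranscendenceBasis k ((↑) : s → K') ∧
      Algebra.IsSeparable (IntermediateField.adjoin k (s : Set K')) K' := by
  obtain _ | ⟨p, hp, hpk⟩ := CharP.exists' k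
  · exact exists_isTranscendenceBasis_and_isSeparable_of_perfectField k K'
  have : CharP K p := charP_of_injective_algebraMap (algebraMap k K).injective p
  refine exists_isTranscendenceBasis_and_isSeparable_of_linearIndepOn_pow_of_essFiniteType
    p hp.out fun t ht => ?_
  classical
  have hinj : LinearMap.ker K'.val.toLinearMap = ⊥ := LinearMap.ker_eq_bot_of_injective K'.val.injective
  have h1 : LinearIndependent k (fun i : (t : Set K') => ((i : K') : K)) := ht.map' _ hinj
  have hinj' : Set.InjOn (Subtype.val : K' → K) (t : Set K') := Subtype.val_injective.injOn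
  have h2 : LinearIndepOn k id ((t.image Subtype.val : Finset K) : Set K) := by
    rw [Finset.coe_image]
    exact h1.linearIndepOn_id.mono (by rintro _ ⟨i, hi, rfl⟩; exact ⟨⟨i, hi⟩, rfl⟩)
  have h3 := Groth.Agent.GeomSep.linearIndepOn_pow_of_separablyGenerated p x hx.1 _ h2
  refine LinearIndependent.of_comp K'.val.toLinearMap ?_
  let e : ↥(t : Set K') → ((t.image Subtype.val : Finset K) : Set K) := fun i =>
    ⟨i.1, Finset.mem_coe.2 (Finset.mem_image_of_mem _ i.2)⟩
  have h4 := h3.comp e (fun a b hab => by
    have h5 := congrArg Subtype.val hab
    dsimp only [e] at h5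
    exact Subtype.ext (Subtype.ext h5))
  exact h4


/-- Let K/k be a finitely generated field extension that is separably generated, i.e. admits a
transcendence basis over whose generated subfield K is separable algebraic. Then K is generated over
k by finitely many elements x_1, …, x_r, y such that the x_i form a transcendence basis of K/k and y
is separable over the subfield k(x_1, …, x_r). -/
theorem result {k K : Type u} [Field k] [Field K] [Algebra k K]
    (hfg : ∃ s : Finset K, IntermediateField.adjoin k (s : Set K) = ⊤)
    (hsep : ∃ (ι : Type u) (x : ι → K), IsTranscendenceBasis k x ∧ Algebra.IsSeparable (IntermediateField.adjoin k (Set.range x)) K) :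
    ∃ (r : ℕ) (x : Fin r → K) (y : K), IsTranscendenceBasis k x ∧ IntermediateField.adjoin k (insert y (Set.range x)) = ⊤ ∧ IsSeparable (IntermediateField.adjoin k (Set.range x)) y := by
  obtain ⟨ι, x, hx, hsep⟩ := hsep
  have : Algebra.EssFiniteType k (⊤ : IntermediateField k K) := IntermediateField.essFiniteType_iff.2 hfg
  obtain ⟨s, hs, hsep'⟩ := exists_sepBasis x hx hsep ⊤
  let e : (⊤ : IntermediateField k K) ≃ₐ[k] K := IntermediateField.topEquiv
  let x' : Fin s.card → K := fun i => e (s.equivFin.symm i).1
  have hx' : IsTranscendenceBasis k x' := (e.isTranscendenceBasis hs).comp_equiv s.equivFin.symm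
  let L := IntermediateField.adjoin k (Set.range x')
  have hr : Set.range x' = e '' (s : Set (⊤ : IntermediateField k K)) := by
    ext z
    constructor
    · rintro ⟨i, rfl⟩; exact ⟨_, (s.equivFin.symm i).2, rfl⟩
    · rintro ⟨z, hz, rfl⟩; exact ⟨s.equivFin ⟨z, hz⟩, by simp [x']⟩
  have hall : Algebra.IsSeparable L K := by
    refine ⟨fun z => ?_⟩
    have hz := hsep'.isSeparable' (e.symm z)
    have hmap : (IntermediateField.adjoin k (s : Set (⊤ : IntermediateField k K))).map (e : _ →ₐ[k] K) = L := by
      rw [IntermediateField.adjoin_map]
      show IntermediateField.adjoin k (e '' _) = IntermediateField.adjoin k (Set.range x')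
      rw [hr]
    let e' : IntermediateField.adjoin k (s : Set (⊤ : IntermediateField k K)) ≃ₐ[k] L :=
      (IntermediateField.intermediateFieldMap e _).trans (IntermediateField.equivOfEq hmap)
    have hcompat : RingHom.comp (algebraMap L K) e'.toRingHom =
        RingHom.comp e.toRingHom (algebraMap (IntermediateField.adjoin k (s : Set (⊤ : IntermediateField k K))) (⊤ : IntermediateField k K)) :=
      RingHom.ext fun _ => rfl
    have := IsSeparable.of_equiv_equiv e'.toRingEquiv e.toRingEquiv hcompat hz
    simpa using this
  have hft : Algebra.EssFiniteType k K := Algebra.EssFiniteType.of_surjective e.toAlgHom e.surjective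
  have : Algebra.EssFiniteType L K := Algebra.EssFiniteType.of_comp k L K
  have : FiniteDimensional L K := Algebra.finite_of_essFiniteType_of_isAlgebraic (F := L) (E := K)
  obtain ⟨y, hy⟩ := Field.exists_primitive_element L K
  refine ⟨s.card, x', y, hx', ?_, hall.isSeparable' y⟩
  rw [Set.insert_eq, Set.union_comm, ← IntermediateField.adjoin_adjoin_left]
  show IntermediateField.restrictScalars k (IntermediateField.adjoin L {y}) = ⊤
  rw [hy, IntermediateField.restrictScalars_top]


end Groth.Agent.S9650
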