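import Groth.Statements.S9652
import Groth.Agent.GenImage.Basic

set_option autoImplicit false
universe u
open CAlg

namespace Groth.Agent.S9652

/-- Let R and S be Jacobson rings, R → S a ring map of finite type with induced map f : Spec(S) →
Spec(R), and E ⊆ Spec(S) a constructible subset. Writing T₀ for the set of points of a subspace T
which are closed in T, one has f(E)₀ = f(E₀) = (Spec R)₀ ∩ f(E). -/
theorem result {R S : Type u} [CommRing R] [CommRing S] [Algebra R S] [IsJacobsonRing R] [IsJacobsonRing S] [Algebra.FiniteType R S]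
    (E : Set (PrimeSpectrum S)) (hE : Topology.IsConstructible E) :
    {x | x ∈ PrimeSpectrum.comap (algebraMap R S) '' E ∧ closure {x} ∩ PrimeSpectrum.comap (algebraMap R S) '' E = {x}} =
        PrimeSpectrum.comap (algebraMap R S) '' {y | y ∈ E ∧ closure {y} ∩ E = {y}} ∧
      PrimeSpectrum.comap (algebraMap R S) '' {y | y ∈ E ∧ closure {y} ∩ E = {y}} =
        {x | IsClosed ({x} : Set (PrimeSpectrum R))} ∩ PrimeSpectrum.comap (algebraMap R S) '' E := by
  rw [GenImage.closed_in_iff hE]
  have hA : {x | x ∈ PrimeSpectrum.comap (algebraMap R S) '' E ∧ closure {x} ∩ PrimeSpectrum.comap (algebraMap R S) '' E = {x}} =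
      {x | IsClosed ({x} : Set (PrimeSpectrum R))} ∩ PrimeSpectrum.comap (algebraMap R S) '' E := by
    ext x
    refine ⟨fun ⟨hx, hcl⟩ => ⟨?_, hx⟩, fun ⟨hc, hx⟩ => ⟨hx, ?_⟩⟩
    · obtain ⟨U, hU, hxU, hsub⟩ := GenImage.exists_open_piece hE hx
      refine isClosed_singleton_of_isLocallyClosed_singleton ⟨U, closure {x}, hU, isClosed_closure, ?_⟩
      refine (Set.eq_of_subset_of_subset ?_ ?_).symm
      · intro z hz
        exact hcl ▸ ⟨hz.2, hsub hz⟩
      · rintro z rfl
        exact ⟨hxU, subset_closure rfl⟩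
    · rw [IsClosed.closure_eq hc]
      exact Set.inter_eq_left.2 (Set.singleton_subset_iff.2 hx)
  have hB : PrimeSpectrum.comap (algebraMap R S) '' (E ∩ closedPoints (PrimeSpectrum S)) =
      {x | IsClosed ({x} : Set (PrimeSpectrum R))} ∩ PrimeSpectrum.comap (algebraMap R S) '' E := by
    ext x
    refine ⟨?_, fun ⟨hc, hx⟩ => GenImage.exists_closedPoint_over hE hc hx⟩
    rintro ⟨y, ⟨hy, hyc⟩, rfl⟩
    exact ⟨GenImage.isClosed_image_point hyc, y, hy, rfl⟩
  exact ⟨hA.trans hB.symm, hB⟩


end Groth.Agent.S9652
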