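import Groth.Statements.S9653
import Groth.Agent.GenImage.Basic

set_option autoImplicit false
universe u
open CAlg

namespace Groth.Agent.S9653

/-- Let R and S be Jacobson rings, R → S a ring map of finite type with induced map f : Spec(S) →
Spec(R), E ⊆ Spec(S) constructible and E₀ the set of points of E closed in E. Then a point ξ of
Spec(R) lies in f(E) if and only if cl{ξ} ∩ f(E₀) is dense in the closure cl{ξ}. -/
theorem result {R S : Type u} [CommRing R] [CommRing S] [Algebra R S] [IsJacobsonRing R] [IsJacobsonRing S] [Algebra.FiniteType R S]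
    (E : Set (PrimeSpectrum S)) (hE : Topology.IsConstructible E) (ξ : PrimeSpectrum R) :
    ξ ∈ PrimeSpectrum.comap (algebraMap R S) '' E ↔
      closure ({ξ} : Set (PrimeSpectrum R)) ⊆ closure (closure {ξ} ∩ PrimeSpectrum.comap (algebraMap R S) '' {y | y ∈ E ∧ closure {y} ∩ E = {y}}) := by
  rw [GenImage.closed_in_iff hE]
  constructor
  · intro hξ
    obtain ⟨U, hU, hξU, hsub⟩ := GenImage.exists_open_piece hE hξ
    intro z hz
    rw [mem_closure_iff]
    intro O hO hzO
    have hξO : ξ ∈ O := by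
      obtain ⟨w, hw1, hw2⟩ := mem_closure_iff.1 hz O hO hzO
      exact Set.mem_singleton_iff.1 hw2 ▸ hw1
    have hne : ((O ∩ U) ∩ closure {ξ}).Nonempty := ⟨ξ, ⟨hξO, hξU⟩, subset_closure rfl⟩
    obtain ⟨x, ⟨⟨hxO, hxU⟩, hxξ⟩, hxc⟩ := nonempty_inter_closedPoints hne ⟨O ∩ U, closure {ξ}, hO.inter hU, isClosed_closure, rfl⟩
    exact ⟨x, hxO, hxξ, GenImage.exists_closedPoint_over hE hxc (hsub ⟨hxU, hxξ⟩)⟩
  · intro h
    refine GenImage.mem_image_of_mem_closure hE (closure_mono ?_ (h (subset_closure rfl)))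
    exact Set.inter_subset_inter_right _ (Set.image_mono Set.inter_subset_left)


end Groth.Agent.S9653
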