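import Groth.Statements.S9654
import Mathlib

set_option autoImplicit false
universe u
open CAlg

namespace Groth.Agent.S9654
open Polynomial

theorem isIntegral_inf {R L : Type u} [CommRing R] [CommRing L] [Algebra R L] (a b : L) (hab : a * b = 1) (z : L)
    (ha : z ∈ Algebra.adjoin R {a}) (hb : z ∈ Algebra.adjoin R {b}) : IsIntegral R z := by
  classical
  rw [Algebra.adjoin_singleton_eq_range_aeval] at ha hb
  obtain ⟨P, rfl⟩ := ha
  obtain ⟨Q, hQ⟩ := hb
  have hQ' : aeval b Q = aeval a P := hQ
  let m := P.natDegree
  let n := Q.natDegree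
  let G : Set L := (fun i => a ^ i) '' (Finset.range (m + 1) : Set ℕ) ∪ (fun j => b ^ j) '' (Finset.range (n + 1) : Set ℕ)
  have hG : G.Finite := (((Finset.range (m + 1)).finite_toSet).image _).union (((Finset.range (n + 1)).finite_toSet).image _)
  let M : Submodule R L := Submodule.span R G
  haveI : Module.Finite R M := ⟨(Submodule.fg_top M).2 (Submodule.fg_span hG)⟩
  have hA : ∀ i ≤ m, a ^ i ∈ M := fun i hi =>
    Submodule.subset_span (Or.inl ⟨i, Finset.mem_coe.2 (Finset.mem_range.2 (Nat.lt_succ_of_le hi)), rfl⟩)
  have hB : ∀ j ≤ n, b ^ j ∈ M := fun j hj =>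
    Submodule.subset_span (Or.inr ⟨j, Finset.mem_coe.2 (Finset.mem_range.2 (Nat.lt_succ_of_le hj)), rfl⟩)
  have hmix : ∀ i j, i ≤ m → j ≤ n → a ^ i * b ^ j ∈ M := by
    intro i j hi hj
    rcases le_total j i with h | h
    · obtain ⟨d, rfl⟩ := Nat.exists_eq_add_of_le h
      rw [pow_add, mul_comm (a ^ j), mul_assoc, ← mul_pow, hab, one_pow, mul_one]
      exact hA d (by omega)
    · obtain ⟨d, rfl⟩ := Nat.exists_eq_add_of_le h
      rw [pow_add, ← mul_assoc, ← mul_pow, hab, one_pow, one_mul]
      exact hB d (by omega)
  have hgen : ∀ g ∈ G, aeval a P * g ∈ M := by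
    rintro g (⟨i, hi, rfl⟩ | ⟨j, hj, rfl⟩)
    · rw [← hQ', aeval_eq_sum_range, Finset.sum_mul]
      refine sum_mem fun j hj => ?_
      rw [smul_mul_assoc, mul_comm]
      exact M.smul_mem _ (hmix i j (Nat.le_of_lt_succ (Finset.mem_range.1 (Finset.mem_coe.1 hi)))
        (Nat.le_of_lt_succ (Finset.mem_range.1 hj)))
    · rw [aeval_eq_sum_range, Finset.sum_mul]
      refine sum_mem fun i hi => ?_
      rw [smul_mul_assoc]
      exact M.smul_mem _ (hmix i j (Nat.le_of_lt_succ (Finset.mem_range.1 hi))
        (Nat.le_of_lt_succ (Finset.mem_range.1 (Finset.mem_coe.1 hj))))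
  have hM : ∀ v ∈ M, aeval a P * v ∈ M := by
    intro v hv
    induction hv using Submodule.span_induction with
    | mem g hg => exact hgen g hg
    | zero => rw [mul_zero]; exact zero_mem M
    | add v w _ _ hv hw => rw [mul_add]; exact add_mem hv hw
    | smul r v _ hv => rw [mul_smul_comm]; exact M.smul_mem r hv
  let f : M →ₗ[R] M := (LinearMap.mulLeft R (aeval a P)).restrict hM
  obtain ⟨p, hp, hp0⟩ := LinearMap.exists_monic_and_aeval_eq_zero R f
  refine ⟨p, hp, ?_⟩
  have h1 : (1 : L) ∈ M := by simpa using hA 0 (Nat.zero_le _)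
  have key : ∀ q : R[X], ((aeval f q) ⟨1, h1⟩ : L) = aeval (aeval a P) q := by
    intro q
    induction q using Polynomial.induction_on' with
    | add q r hq hr => simp only [map_add, LinearMap.add_apply, Submodule.coe_add, hq, hr]
    | monomial k r =>
      have h2 : ∀ k, (((f ^ k) ⟨1, h1⟩ : M) : L) = aeval a P ^ k := by
        intro k
        induction k with
        | zero => simp
        | succ k ih =>
          rw [pow_succ', Module.End.mul_apply]
          change aeval a P * _ = _
          exact (congrArg (aeval a P * ·) ih).trans (pow_succ' _ _).symm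
      rw [aeval_monomial, aeval_monomial, Module.End.mul_apply, Module.algebraMap_end_apply,
        Submodule.coe_smul, h2, Algebra.smul_def]
  rw [← aeval_def]
  change aeval (aeval a P) p = 0
  rw [← key p, hp0]
  rfl

theorem mem_bot_of_closed {R : Type u} [CommRing R] {L : Type u} [CommRing L] [Algebra R L] (x : R) (a b : L)
    (hab : a * b = 1) (hy : Function.Injective (algebraMap R (Localization.Away x)))
    (g : Localization.Away x →ₐ[R] L) (hg : Function.Injective g) (hb : b ∈ g.range)
    (hint : IsIntegrallyClosedIn R (Localization.Away x)) (z : L)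
    (ha' : z ∈ Algebra.adjoin R {a}) (hb' : z ∈ Algebra.adjoin R {b}) : z ∈ (⊥ : Subalgebra R L) := by
  have hz := isIntegral_inf a b hab z ha' hb'
  obtain ⟨w, rfl⟩ : z ∈ g.range := (Algebra.adjoin_le (Set.singleton_subset_iff.2 hb) : _ ≤ g.range) hb'
  have hw : IsIntegral R w := (isIntegral_algHom_iff g hg).1 hz
  obtain ⟨r, rfl⟩ := IsIntegrallyClosedIn.isIntegral_iff.1 hw
  change g (algebraMap R _ r) ∈ _
  rw [g.commutes]
  exact Algebra.mem_bot.2 ⟨r, rfl⟩

theorem exists_lift {R : Type u} [CommRing R] (x y : R) (hy : y ∈ nonZeroDivisors R) (hx : x ∈ nonZeroDivisors R) :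
    ∃ g : Localization.Away x →ₐ[R] Localization.Away (x * y), Function.Injective g ∧
      algebraMap R (Localization.Away (x * y)) (y * y) * IsLocalization.Away.invSelf (x * y) ∈ g.range := by
  let L := Localization.Away (x * y)
  have hu : IsUnit (algebraMap R L (x * y)) := IsLocalization.Away.algebraMap_isUnit _
  have hux : IsUnit (algebraMap R L x) := by
    rw [map_mul] at hu
    exact (IsUnit.mul_iff.1 hu).1
  let g0 : Localization.Away x →+* L := IsLocalization.Away.lift x hux
  let g : Localization.Away x →ₐ[R] L := ⟨g0, fun r => IsLocalization.Away.lift_eq x hux r⟩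
  have hinjR : Function.Injective (algebraMap R L) :=
    IsLocalization.injective L (Submonoid.powers_le.2 (mul_mem hx hy))
  refine ⟨g, ?_, ⟨algebraMap R _ y * IsLocalization.Away.invSelf x, ?_⟩⟩
  · refine (injective_iff_map_eq_zero g).2 fun w hw => ?_
    obtain ⟨r, s, rfl⟩ := IsLocalization.exists_mk'_eq (Submonoid.powers x) w
    have h1 : g (IsLocalization.mk' _ r s) * g (algebraMap R _ (s : R)) = g (algebraMap R _ r) := by
      rw [← map_mul, IsLocalization.mk'_spec]
    rw [hw, zero_mul, g.commutes] at h1
    have : r = 0 := hinjR (h1.symm.trans (map_zero _).symm)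
    rw [this, IsLocalization.mk'_zero]
  · refine (hu.mul_right_cancel ?_)
    have h1 : algebraMap R L x * g (IsLocalization.Away.invSelf x) = 1 := by
      rw [← g.commutes x, ← map_mul, IsLocalization.Away.mul_invSelf, map_one]
    have h2 : algebraMap R L (x * y) * IsLocalization.Away.invSelf (x * y) = 1 :=
      IsLocalization.Away.mul_invSelf _
    change g (algebraMap R _ y * IsLocalization.Away.invSelf x) * algebraMap R L (x * y) = _
    rw [map_mul, g.commutes, map_mul, map_mul]
    rw [map_mul] at h2
    linear_combination (algebraMap R L y * algebraMap R L y) * h1 - (algebraMap R L y * algebraMap R L y) * h2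



/-- Let R be a ring and x, y ∈ R nonzerodivisors. In the localization R_{xy} let a = x/y and b = y/x,
and let R[a], R[b], R[a, b] be the R-subalgebras they generate. If R is integrally closed in R_x or
in R_y, then the sequence 0 → R → R[a] ⊕ R[b] → R[a, b] → 0 (difference map, then sum map) is short
exact; equivalently R[a] ∩ R[b] is the image of R and R[a] + R[b] = R[a, b] inside R_{xy}. -/
theorem result {R : Type u} [CommRing R] (x y : R) (hx : x ∈ nonZeroDivisors R) (hy : y ∈ nonZeroDivisors R)
    (hint : IsIntegrallyClosedIn R (Localization.Away x) ∨ IsIntegrallyClosedIn R (Localization.Away y)) :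
    (Algebra.adjoin R {algebraMap R (Localization.Away (x * y)) (x * x) * IsLocalization.Away.invSelf (x * y)}).toSubmodule ⊓
        (Algebra.adjoin R {algebraMap R (Localization.Away (x * y)) (y * y) * IsLocalization.Away.invSelf (x * y)}).toSubmodule =
        (⊥ : Subalgebra R (Localization.Away (x * y))).toSubmodule ∧
      (Algebra.adjoin R {algebraMap R (Localization.Away (x * y)) (x * x) * IsLocalization.Away.invSelf (x * y)}).toSubmodule ⊔
        (Algebra.adjoin R {algebraMap R (Localization.Away (x * y)) (y * y) * IsLocalization.Away.invSelf (x * y)}).toSubmodule =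
        (Algebra.adjoin R {algebraMap R (Localization.Away (x * y)) (x * x) * IsLocalization.Away.invSelf (x * y), algebraMap R (Localization.Away (x * y)) (y * y) * IsLocalization.Away.invSelf (x * y)}).toSubmodule := by
  let L := Localization.Away (x * y)
  let a : L := algebraMap R L (x * x) * IsLocalization.Away.invSelf (x * y)
  let b : L := algebraMap R L (y * y) * IsLocalization.Away.invSelf (x * y)
  have hab : a * b = 1 := by
    have h2 : algebraMap R L (x * y) * IsLocalization.Away.invSelf (x * y) = 1 :=
      IsLocalization.Away.mul_invSelf _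
    simp only [a, b, map_mul]
    rw [map_mul] at h2
    linear_combination (algebraMap R L x * algebraMap R L y * IsLocalization.Away.invSelf (x * y) + 1) * h2
  change (Algebra.adjoin R {a}).toSubmodule ⊓ (Algebra.adjoin R {b}).toSubmodule = _ ∧
    (Algebra.adjoin R {a}).toSubmodule ⊔ (Algebra.adjoin R {b}).toSubmodule = (Algebra.adjoin R {a, b}).toSubmodule
  refine ⟨le_antisymm ?_ ?_, le_antisymm ?_ ?_⟩
  · rintro z ⟨hz1, hz2⟩
    rcases hint with h | h
    · obtain ⟨g, hg, hb⟩ := exists_lift x y hy hx
      exact mem_bot_of_closed x a b hab (IsLocalization.injective _ (Submonoid.powers_le.2 hx)) g hg hb h z hz1 hz2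
    · obtain ⟨g, hg, hb⟩ := exists_lift y x hx hy
      let e : Localization.Away (y * x) ≃ₐ[R] L :=
        haveI : IsLocalization.Away (x * y) (Localization.Away (y * x)) := by rw [mul_comm]; infer_instance
        IsLocalization.algEquiv (Submonoid.powers (x * y)) _ _
      have hb2 : a ∈ (e.toAlgHom.comp g).range := by
        obtain ⟨w, hw⟩ := hb
        refine ⟨w, ?_⟩
        change e (g w) = a
        rw [show g w = _ from hw, map_mul, e.commutes]
        simp only [a]
        refine congrArg _ ?_
        have h1 : algebraMap R L (x * y) * e (IsLocalization.Away.invSelf (y * x)) = 1 := by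
          rw [map_mul, mul_comm (algebraMap R L x), ← map_mul, ← e.commutes, ← map_mul, IsLocalization.Away.mul_invSelf, map_one]
        have h2 : algebraMap R L (x * y) * IsLocalization.Away.invSelf (x * y) = 1 :=
          IsLocalization.Away.mul_invSelf _
        exact (IsLocalization.Away.algebraMap_isUnit (S := L) (x * y)).mul_left_cancel (h1.trans h2.symm)
      exact mem_bot_of_closed y b a (by rw [mul_comm]; exact hab) (IsLocalization.injective _ (Submonoid.powers_le.2 hy))
        (e.toAlgHom.comp g) (e.injective.comp hg) hb2 h z hz2 hz1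
  · exact le_inf (fun z hz => (bot_le : (⊥ : Subalgebra R L) ≤ Algebra.adjoin R {a}) hz)
      (fun z hz => (bot_le : (⊥ : Subalgebra R L) ≤ Algebra.adjoin R {b}) hz)
  · exact sup_le (Algebra.adjoin_mono (by simp)) (Algebra.adjoin_mono (by simp))
  · rw [Algebra.adjoin_eq_span, Submodule.span_le]
    intro z hz
    obtain ⟨i, j, rfl⟩ := (Submonoid.mem_closure_pair _ _ _).1 hz
    rcases le_total j i with h | h
    · obtain ⟨d, rfl⟩ := Nat.exists_eq_add_of_le h
      rw [pow_add, mul_comm (a ^ j), mul_assoc, ← mul_pow, hab, one_pow, mul_one]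
      exact Submodule.mem_sup_left (pow_mem (Algebra.subset_adjoin (Set.mem_singleton a)) d)
    · obtain ⟨d, rfl⟩ := Nat.exists_eq_add_of_le h
      rw [pow_add, ← mul_assoc, ← mul_pow, hab, one_pow, one_mul]
      exact Submodule.mem_sup_right (pow_mem (Algebra.subset_adjoin (Set.mem_singleton b)) d)


end Groth.Agent.S9654
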