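import Groth.Statements.S9655
import Mathlib

set_option autoImplicit false
universe u
open CAlg

namespace Groth.Agent.S9655

/-- Let R and S be local rings and R → S a ring map, not necessarily local, that is essentially of
finite type. Then for some n there is a maximal ideal m of the polynomial ring R[x_1, …, x_n] lying
over the maximal ideal of R, together with an R-algebra map φ : R[x_1, …, x_n]_m → S making S a
localization of the image of φ; thus S arises from R[x_1, …, x_n]_m by passing to a quotient and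
then localizing. -/
theorem result {R S : Type u} [CommRing R] [CommRing S] [Algebra R S] [IsLocalRing R] [IsLocalRing S] [Algebra.EssFiniteType R S] :
    ∃ (n : ℕ) (m : Ideal (MvPolynomial (Fin n) R)) (_ : m.IsMaximal), m.under R = IsLocalRing.maximalIdeal R ∧
      ∃ (φ : Localization.AtPrime m →ₐ[R] S) (T : Submonoid φ.range), IsLocalization T S := by
  classical
  obtain ⟨σ, hσ⟩ := (Algebra.essFiniteType_iff R S).mp ‹_›
  let L := IsLocalRing.ResidueField S
  let ρ : S →+* L := IsLocalRing.residue S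
  let f0 : R →+* L := ρ.comp (algebraMap R S)
  obtain ⟨V, hV⟩ := (LocalSubring.range f0).exists_le_valuationSubring
  obtain ⟨hsub, hloc⟩ := LocalSubring.le_def.mp hV
  have hf0 : ∀ r, f0 r ∈ V := fun r => hsub ⟨r, rfl⟩
  have hf0m : ∀ r (hr : r ∈ IsLocalRing.maximalIdeal R),
      (⟨f0 r, hf0 r⟩ : V) ∈ IsLocalRing.maximalIdeal V := by
    intro r hr hu
    have h1 : IsUnit (⟨f0 r, r, rfl⟩ : f0.range) := hloc.map_nonunit _ hu
    obtain ⟨⟨_, b, rfl⟩, hb⟩ := isUnit_iff_exists_inv.mp h1
    have hb' : ρ (algebraMap R S (r * b)) = 1 := by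
      have := congrArg Subtype.val hb
      change f0 r * f0 b = 1 at this
      rw [map_mul, map_mul]
      exact this
    have h2 : r * b ∈ IsLocalRing.maximalIdeal R := Ideal.mul_mem_right _ _ hr
    have h3 : IsUnit (1 - r * b) := IsLocalRing.isUnit_one_sub_self_of_mem_nonunits _ h2
    have h4 : IsUnit (ρ (algebraMap R S (1 - r * b))) := (h3.map _).map _
    rw [map_sub, map_sub, hb', map_one, map_one, sub_self] at h4
    exact not_isUnit_zero h4
  let y' : S → S := fun y => if ρ y ∈ V then y else Ring.inverse y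
  have hunit : ∀ y, ρ y ∉ V → IsUnit y := fun y hy =>
    (IsLocalRing.residue_ne_zero_iff_isUnit y).mp fun h => hy (h ▸ zero_mem V)
  have hy' : ∀ y, ρ (y' y) ∈ V := by
    intro y
    by_cases h : ρ y ∈ V
    · simp [y', h]
    · obtain ⟨u, rfl⟩ := hunit y h
      simp only [y', h, if_false, Ring.inverse_unit]
      have h2 : ρ ↑u⁻¹ = (ρ u)⁻¹ := eq_inv_of_mul_eq_one_left (by
        rw [← map_mul, Units.inv_mul, map_one])
      rw [h2]
      exact (V.mem_or_inv_mem _).resolve_left h
  let ψ : (MvPolynomial (Fin σ.card) R) →ₐ[R] S := MvPolynomial.aeval fun i => y' (σ.equivFin.symm i)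
  have hψV : ∀ p : (MvPolynomial (Fin σ.card) R), ρ (ψ p) ∈ V := by
    intro p
    induction p using MvPolynomial.induction_on with
    | C r => simp only [ψ, MvPolynomial.aeval_C]; exact hf0 r
    | add p q hp hq => rw [map_add, map_add]; exact add_mem hp hq
    | mul_X p i hp =>
      rw [map_mul, map_mul]
      refine mul_mem hp ?_
      simp only [ψ, MvPolynomial.aeval_X]
      exact hy' _
  let χ : (MvPolynomial (Fin σ.card) R) →+* V := (ρ.comp ψ.toRingHom).codRestrict V.toSubring hψV
  let m0 : Ideal (MvPolynomial (Fin σ.card) R) := (IsLocalRing.maximalIdeal V).comap χ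
  have hm0 : m0.IsPrime := Ideal.IsPrime.comap χ
  obtain ⟨m, hm, hm0m⟩ := Ideal.exists_le_maximal m0 hm0.ne_top
  have hu : ∀ p : m.primeCompl, IsUnit (ψ p) := by
    rintro ⟨p, hp⟩
    have h1 : IsUnit (χ p) := not_not.mp fun h => hp (hm0m h)
    exact (IsLocalRing.residue_ne_zero_iff_isUnit _).mp (h1.map V.subtype).ne_zero
  refine ⟨σ.card, m, hm, ?_, IsLocalization.liftAlgHom (M := m.primeCompl) (f := ψ) hu, ?_⟩
  · refine ((IsLocalRing.maximalIdeal.isMaximal R).eq_of_le
      (Ideal.IsPrime.under R m).ne_top fun r hr => ?_).symm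
    change algebraMap R (MvPolynomial (Fin σ.card) R) r ∈ m
    refine hm0m ?_
    change χ (algebraMap R (MvPolynomial (Fin σ.card) R) r) ∈ IsLocalRing.maximalIdeal V
    have : χ (algebraMap R (MvPolynomial (Fin σ.card) R) r) = ⟨f0 r, hf0 r⟩ := Subtype.ext (by
      change ρ (ψ (algebraMap R (MvPolynomial (Fin σ.card) R) r)) = f0 r
      rw [AlgHom.commutes]; rfl)
    rw [this]
    exact hf0m r hr
  set φ : Localization.AtPrime m →ₐ[R] S :=
    IsLocalization.liftAlgHom (M := m.primeCompl) (f := ψ) hu with hφdef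
  have hφ : ∀ p, φ (algebraMap (MvPolynomial (Fin σ.card) R) (Localization.AtPrime m) p) = ψ p := fun p => by
    rw [hφdef, IsLocalization.liftAlgHom_apply, IsLocalization.lift_eq]
    rfl
  have hgen : ∀ y ∈ σ, ∃ b ∈ φ.range, IsUnit b ∧ y * b ∈ φ.range := by
    intro y hy
    have hy2 : y' y ∈ φ.range := ⟨algebraMap (MvPolynomial (Fin σ.card) R) _ (MvPolynomial.X (σ.equivFin ⟨y, hy⟩)), by
      change φ _ = _
      rw [hφ]; simp [ψ]⟩
    by_cases h : ρ y ∈ V
    · exact ⟨1, one_mem _, isUnit_one, by simpa [y', h] using hy2⟩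
    · refine ⟨y' y, hy2, ?_, ?_⟩
      · simp only [y', h, if_false]; exact (hunit y h).ringInverse
      · simp only [y', h, if_false, Ring.mul_inverse_cancel _ (hunit y h)]; exact one_mem _
  have hall : ∀ x ∈ Algebra.adjoin R (σ : Set S),
      ∃ b ∈ φ.range, IsUnit b ∧ x * b ∈ φ.range := by
    intro x hx
    refine Algebra.adjoin_induction (p := fun x _ => ∃ b ∈ φ.range, IsUnit b ∧ x * b ∈ φ.range)
      hgen ?_ ?_ ?_ hx
    · exact fun r => ⟨1, one_mem _, isUnit_one, by rw [mul_one]; exact Subalgebra.algebraMap_mem _ r⟩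
    · rintro x y - - ⟨b, hb, hbu, hxb⟩ ⟨c, hc, hcu, hyc⟩
      refine ⟨b * c, mul_mem hb hc, hbu.mul hcu, ?_⟩
      rw [add_mul, ← mul_assoc x, mul_left_comm y]
      exact add_mem (mul_mem hxb hc) (mul_mem hb hyc)
    · rintro x y - - ⟨b, hb, hbu, hxb⟩ ⟨c, hc, hcu, hyc⟩
      refine ⟨b * c, mul_mem hb hc, hbu.mul hcu, ?_⟩
      rw [mul_mul_mul_comm]
      exact mul_mem hxb hyc
  refine ⟨(IsUnit.submonoid S).comap φ.range.val.toMonoidHom, ?_⟩
  constructor; constructor
  · exact fun t => t.2
  · intro s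
    obtain ⟨t, ht, htu, hst⟩ := hσ s
    obtain ⟨b, hb, hbu, htb⟩ := hall t ht
    obtain ⟨c, hc, hcu, hstc⟩ := hall _ hst
    refine ⟨⟨⟨s * t * c * b, mul_mem hstc hb⟩, ⟨⟨t * b * c, mul_mem htb hc⟩,
      (htu.mul hbu).mul hcu⟩⟩, ?_⟩
    change s * (t * b * c) = s * t * c * b
    ring
  · intro x y h
    exact ⟨1, by simpa using Subtype.ext h⟩


end Groth.Agent.S9655
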