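import Groth.Statements.S9656
-- import your own Groth.Agent.* helpers here

set_option autoImplicit false
universe u
open CAlg

namespace Groth.Agent.S9656

/-- Let R_i → S_i be ring maps indexed by a finite type ι, with product map R = Π R_i → S = Π S_i. Then
an element (s_i) of S is integral over R exactly when s_i is integral over R_i for every i; so
integral closure in a finite product is computed factor by factor. -/
theorem result {ι : Type u} [Fintype ι] {R S : ι → Type u} [∀ i, CommRing (R i)] [∀ i, CommRing (S i)] (f : ∀ i, R i →+* S i) (s : ∀ i, S i) :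
    (RingHom.pi fun i => (f i).comp (Pi.evalRingHom R i)).IsIntegralElem s ↔ ∀ i, (f i).IsIntegralElem (s i) := by
  constructor
  · rintro ⟨P, hP, he⟩ i
    refine ⟨P.map (Pi.evalRingHom R i), hP.map _, ?_⟩
    rw [Polynomial.eval₂_map]
    have := congrFun he i
    simp only [Pi.zero_apply] at this
    rw [← this]
    have h2 := Polynomial.hom_eval₂ P (RingHom.pi fun i => (f i).comp (Pi.evalRingHom R i)) (Pi.evalRingHom S i) s
    simp only [Pi.evalRingHom_apply] at h2
    rw [h2]
    congr 1
  · intro h
    classical
    choose P hP he using h
    -- each component polynomial, padded to a common degree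
    let N := ∑ i, (P i).natDegree
    let Q : ∀ i, Polynomial (R i) := fun i => Polynomial.X ^ (N - (P i).natDegree) * P i
    have hQdeg : ∀ i, (Q i).Monic := fun i => (Polynomial.monic_X_pow _).mul (hP i)
    let T : Polynomial (∀ i, R i) :=
      ∑ n ∈ Finset.range (N+1), Polynomial.C (fun i => (Q i).coeff n) * Polynomial.X ^ n
    have hT : ∀ i, T.map (Pi.evalRingHom R i) = Q i := by
      intro i
      have hd : (Q i).natDegree ≤ N := by
        refine Polynomial.natDegree_mul_le.trans ?_
        have : (P i).natDegree ≤ N := Finset.single_le_sum (f := fun i => (P i).natDegree) (fun j _ => Nat.zero_le _) (Finset.mem_univ i)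
        have := Polynomial.natDegree_X_pow_le (R := R i) (N - (P i).natDegree)
        omega
      conv_rhs => rw [(Q i).as_sum_range_C_mul_X_pow' (n := N+1) (by omega)]
      simp [T, Polynomial.map_sum]
    refine ⟨T, ?_, ?_⟩
    · have hlt : ∀ i, (Q i).coeff N = 1 := by
        intro i
        have hle : (P i).natDegree ≤ N := Finset.single_le_sum (f := fun i => (P i).natDegree) (fun j _ => Nat.zero_le _) (Finset.mem_univ i)
        simp only [Q, Polynomial.coeff_X_pow_mul', if_pos (Nat.sub_le _ _)]
        rw [Nat.sub_sub_self hle]
        exact hP i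
      apply Polynomial.monic_of_natDegree_le_of_coeff_eq_one N
      · refine Polynomial.natDegree_sum_le_of_forall_le _ _ ?_
        intro n hn
        refine (Polynomial.natDegree_C_mul_X_pow_le _ _).trans ?_
        simpa [Nat.lt_succ_iff] using hn
      · simp [T, Polynomial.finset_sum_coeff]
        funext i; exact hlt i
    · funext i
      have h2 := Polynomial.hom_eval₂ T (RingHom.pi fun i => (f i).comp (Pi.evalRingHom R i)) (Pi.evalRingHom S i) s
      simp only [Pi.evalRingHom_apply] at h2
      rw [Pi.zero_apply, h2]
      have h3 : ((Pi.evalRingHom S i).comp (RingHom.pi fun i => (f i).comp (Pi.evalRingHom R i))) = (f i).comp (Pi.evalRingHom R i) := rfl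
      rw [h3, ← Polynomial.eval₂_map, hT i]
      simp [Q, Polynomial.eval₂_mul, he i]


end Groth.Agent.S9656
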