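import Groth.Statements.S9657
import Groth.Agent.S2150

set_option autoImplicit false
universe u
open CAlg

namespace Groth.Agent.S9657
open Polynomial

lemma exists_pow_mem (k : Type u) {K : Type u} [Field k] [Field K] [Algebra k K] (q : ℕ) [ExpChar k q]
    (h : ∀ α : K, IsSeparable k α → α ∈ Set.range (algebraMap k K)) (c : K) (hc : IsAlgebraic k c) :
    ∃ n : ℕ, c ^ q ^ n ∈ (algebraMap k K).range := by
  let E := algebraicClosure k K
  have hbot : separableClosure k E = ⊥ := by
    refine le_bot_iff.1 fun x hx => ?_
    obtain ⟨a, ha⟩ := h (x : K) (by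
      have := mem_separableClosure_iff.1 hx
      rwa [IsSeparable, ← minpoly.algebraMap_eq (algebraMap E K).injective x] at this)
    exact IntermediateField.mem_bot.2 ⟨a, Subtype.ext ha⟩
  haveI : Algebra.IsAlgebraic k E := algebraicClosure.isAlgebraic k K
  haveI : IsPurelyInseparable k E := ⟨Algebra.IsAlgebraic.isIntegral, fun x hx => by
    have : x ∈ separableClosure k E := hx
    rw [hbot, IntermediateField.mem_bot] at this
    exact this⟩
  obtain ⟨n, a, ha⟩ := IsPurelyInseparable.pow_mem k q (⟨c, mem_algebraicClosure_iff.2 hc⟩ : E)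
  exact ⟨n, a, congrArg (algebraMap E K) ha⟩


open TensorProduct in
/-- Let K/k be a field extension and let k(t) ⊆ K(t) be the purely transcendental extensions in one
variable, realised as fraction fields of k[t] and K[t] compatibly with k[t] → K[t]. Then K is
geometrically irreducible over k (Spec(k' ⊗_k K) irreducible for every field extension k'/k) if and
only if K(t) is geometrically irreducible over k(t). Here the test fields range over field
extensions of k, respectively of k(t), in the universe of k; this is equivalent to the unrestricted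
notions, since an algebraic closure of the base field suffices as a test. -/
theorem result {k K : Type u} [Field k] [Field K] [Algebra k K]
    (kt Kt : Type u) [Field kt] [Field Kt] [Algebra (Polynomial k) kt] [IsFractionRing (Polynomial k) kt] [Algebra (Polynomial K) Kt] [IsFractionRing (Polynomial K) Kt]
    [Algebra kt Kt] (hcompat : ∀ p : Polynomial k, algebraMap kt Kt (algebraMap (Polynomial k) kt p) = algebraMap (Polynomial K) Kt (Polynomial.map (algebraMap k K) p)) :
    (∀ (k' : Type u) [Field k'] [Algebra k k'], IrreducibleSpace (PrimeSpectrum (k' ⊗[k] K))) ↔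
      ∀ (L : Type u) [Field L] [Algebra kt L], IrreducibleSpace (PrimeSpectrum (L ⊗[kt] Kt)) := by
  classical
  rw [S2150.result, S2150.result]
  let φ : Polynomial k →+* Kt := (algebraMap (Polynomial K) Kt).comp (mapRingHom (algebraMap k K))
  letI : Algebra (Polynomial k) (Polynomial K) := (mapRingHom (algebraMap k K)).toAlgebra
  letI : Algebra (Polynomial k) Kt := φ.toAlgebra
  haveI : IsScalarTower (Polynomial k) (Polynomial K) Kt := IsScalarTower.of_algebraMap_eq fun _ => rfl
  haveI : IsScalarTower (Polynomial k) kt Kt := IsScalarTower.of_algebraMap_eq fun p => (hcompat p).symm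
  have hinjK : Function.Injective (algebraMap (Polynomial K) Kt) := IsFractionRing.injective _ _
  constructor
  · intro h β hβ
    have halg : IsAlgebraic (Polynomial k) β :=
      (IsFractionRing.isAlgebraic_iff (Polynomial k) kt Kt).2 hβ.isIntegral.isAlgebraic
    obtain ⟨d, hd0, hd⟩ := halg.exists_integral_multiple
    have hd' : IsIntegral (Polynomial K) (d • β) := hd.tower_top
    obtain ⟨P, hP⟩ := IsIntegrallyClosed.isIntegral_iff.1 hd'
    have hPint : IsIntegral (Polynomial k) P := by
      rw [← isIntegral_algebraMap_iff (R := Polynomial k) (A := Polynomial K) (B := Kt) hinjK, hP]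
      exact hd
    letI : Algebra k (Polynomial K) := inferInstance
    let q := ringExpChar k
    haveI : ExpChar k q := inferInstance
    haveI : ExpChar K q := expChar_of_injective_algebraMap (algebraMap k K).injective q
    have hcoef : ∀ i, ∃ n : ℕ, P.coeff i ^ q ^ n ∈ (algebraMap k K).range := fun i =>
      exists_pow_mem k q h _ ((IsIntegral.coeff hPint i).isAlgebraic)
    choose n hn using hcoef
    let N := (Finset.range (P.natDegree + 1)).sup n
    have hPN : ∃ G : Polynomial k, P ^ q ^ N = G.map (algebraMap k K) := by
      have hco : ∀ i ∈ Finset.range (P.natDegree + 1), P.coeff i ^ q ^ N ∈ (algebraMap k K).range := by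
        intro i hi
        obtain ⟨e, he⟩ := Nat.exists_eq_add_of_le (Finset.le_sup (f := n) hi)
        rw [show N = n i + e from he, pow_add, pow_mul]
        exact Subring.pow_mem _ (hn i) _
      choose! a ha using hco
      refine ⟨∑ i ∈ Finset.range (P.natDegree + 1), C (a i) * X ^ (i * q ^ N), ?_⟩
      conv_lhs => rw [P.as_sum_range_C_mul_X_pow]
      rw [sum_pow_char_pow q N, Polynomial.map_sum]
      refine Finset.sum_congr rfl fun i hi => ?_
      rw [mul_pow, ← C_pow, ← ha i hi, ← pow_mul, Polynomial.map_mul, Polynomial.map_pow, map_C, map_X]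
    obtain ⟨G, hG⟩ := hPN
    have hdk : algebraMap (Polynomial k) kt d ≠ 0 := IsFractionRing.to_map_ne_zero_of_mem_nonZeroDivisors (mem_nonZeroDivisors_of_ne_zero hd0)
    haveI : ExpChar kt q := expChar_of_injective_ringHom (((algebraMap (Polynomial k) kt).comp C).injective) q
    have hmem : β ^ q ^ N ∈ (algebraMap kt Kt).range := by
      refine ⟨algebraMap (Polynomial k) kt G * ((algebraMap (Polynomial k) kt d) ^ q ^ N)⁻¹, ?_⟩
      have h1 : (algebraMap (Polynomial k) Kt d * β) ^ q ^ N = algebraMap (Polynomial k) Kt G := by
        rw [← Algebra.smul_def, ← hP, ← map_pow, hG]; rfl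
      rw [map_mul, map_inv₀, map_pow, ← IsScalarTower.algebraMap_apply, ← IsScalarTower.algebraMap_apply, ← h1, mul_pow,
        mul_comm, ← mul_assoc, inv_mul_cancel₀ (pow_ne_zero _ ?_), one_mul]
      rw [IsScalarTower.algebraMap_apply (Polynomial k) kt Kt]
      simpa using hdk
    have hb : β ∈ separableClosure kt Kt ⊓ perfectClosure kt Kt :=
      ⟨mem_separableClosure_iff.2 hβ, (mem_perfectClosure_iff_pow_mem q).2 ⟨N, hmem⟩⟩
    rw [separableClosure_inf_perfectClosure, IntermediateField.mem_bot] at hb
    exact hb
  · intro h α hα
    let a : Kt := algebraMap (Polynomial K) Kt (C α)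
    have hsep : IsSeparable kt a := by
      have h0 : Polynomial.aeval a ((minpoly k α).map ((algebraMap (Polynomial k) kt).comp C)) = 0 := by
        rw [aeval_def, eval₂_map, ← RingHom.comp_assoc]
        have : ((algebraMap kt Kt).comp (algebraMap (Polynomial k) kt)).comp C =
            ((algebraMap (Polynomial K) Kt).comp C).comp (algebraMap k K) := RingHom.ext fun c => by
          simp [hcompat]
        rw [this, show a = ((algebraMap (Polynomial K) Kt).comp C) α from rfl, ← Polynomial.hom_eval₂, ← aeval_def,
          minpoly.aeval, map_zero]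
      exact (Polynomial.Separable.map (f := (algebraMap (Polynomial k) kt).comp C) hα).of_dvd (minpoly.dvd kt a h0)
    obtain ⟨z, hz⟩ := h a hsep
    obtain ⟨f, g, hg, rfl⟩ := IsFractionRing.div_surjective (Polynomial k) z
    have hgK : algebraMap (Polynomial K) Kt (g.map (algebraMap k K)) ≠ 0 := by
      rw [← hcompat]
      simpa using (IsFractionRing.to_map_ne_zero_of_mem_nonZeroDivisors (K := kt) hg)
    rw [map_div₀, hcompat, hcompat, div_eq_iff hgK, ← map_mul] at hz
    have hfg := congrArg (fun P : Polynomial K => P.coeff g.natDegree) (hinjK hz)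
    simp only [coeff_C_mul, coeff_map] at hfg
    have hlead : algebraMap k K (g.coeff g.natDegree) ≠ 0 := by
      rw [ne_eq, map_eq_zero, coeff_natDegree, leadingCoeff_eq_zero]
      exact nonZeroDivisors.ne_zero hg
    exact ⟨f.coeff g.natDegree / g.coeff g.natDegree, by rw [map_div₀, hfg, mul_div_cancel_right₀ _ hlead]⟩


end Groth.Agent.S9657
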