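import Groth.Statements.S9658
import Mathlib

set_option autoImplicit false
universe u
open CAlg

namespace Groth.Agent.S9658

/-- Let R be a ring, f_1, …, f_n ∈ R generating the unit ideal and M an R-module. With M_i = M_{f_i},
M_ij = M_{f_i f_j} (any localizations, with the canonical compatible maps M → M_i → M_ij), the
sequence 0 → M → ⊕ M_i → ⊕ M_ij is exact: an element of M whose image vanishes in every M_i is zero,
and every family (m_i ∈ M_i) such that m_i and m_j have the same image in M_ij for all i, j is the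
image of an element of M. -/
theorem result {R : Type u} [CommRing R] {ι : Type u} [Fintype ι] (f : ι → R) (hf : Ideal.span (Set.range f) = ⊤)
    (M : Type u) [AddCommGroup M] [Module R M]
    (Mi : ι → Type u) [∀ i, AddCommGroup (Mi i)] [∀ i, Module R (Mi i)] (g : ∀ i, M →ₗ[R] Mi i) [∀ i, IsLocalizedModule (Submonoid.powers (f i)) (g i)]
    (Mij : ι → ι → Type u) [∀ i j, AddCommGroup (Mij i j)] [∀ i j, Module R (Mij i j)] (gij : ∀ i j, M →ₗ[R] Mij i j) [∀ i j, IsLocalizedModule (Submonoid.powers (f i * f j)) (gij i j)]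
    (ρ₁ : ∀ i j, Mi i →ₗ[R] Mij i j) (hρ₁ : ∀ i j, ρ₁ i j ∘ₗ g i = gij i j) (ρ₂ : ∀ i j, Mi j →ₗ[R] Mij i j) (hρ₂ : ∀ i j, ρ₂ i j ∘ₗ g j = gij i j) :
    (∀ m : M, (∀ i, g i m = 0) → m = 0) ∧
      ∀ s : ∀ i, Mi i, (∀ i j, ρ₁ i j (s i) = ρ₂ i j (s j)) → ∃ m : M, ∀ i, g i m = s i := by
  classical
  have hcov : ∀ (K : ℕ), Ideal.span (Set.range fun i => f i ^ K) = ⊤ := fun K => by
    have := Ideal.span_pow_eq_top _ hf K
    rwa [← Set.range_comp] at this
  have hzero : ∀ m : M, (∀ i, ∃ n : ℕ, f i ^ n • m = 0) → m = 0 := by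
    intro m hm
    choose n hn using hm
    obtain ⟨a, ha⟩ := Ideal.mem_span_range_iff_exists_fun.1 (hcov (Finset.univ.sup n) ▸ Submodule.mem_top : (1 : R) ∈ _)
    rw [← one_smul R m, ← ha, Finset.sum_smul]
    refine Finset.sum_eq_zero fun i _ => ?_
    rw [← Nat.sub_add_cancel (Finset.le_sup (f := n) (Finset.mem_univ i)), pow_add, mul_smul, mul_smul, hn, smul_zero, smul_zero]
  have hkill : ∀ (i : ι) (m : M), g i m = 0 → ∃ n : ℕ, f i ^ n • m = 0 := by
    intro i m hm
    obtain ⟨⟨_, n, rfl⟩, hn⟩ := (IsLocalizedModule.eq_zero_iff (Submonoid.powers (f i)) (g i)).1 hm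
    exact ⟨n, by simpa [Submonoid.smul_def] using hn⟩
  refine ⟨fun m hm => hzero m fun i => hkill i m (hm i), fun s hs => ?_⟩
  have h1 : ∀ i, ∃ (n : ℕ) (m : M), f i ^ n • s i = g i m := by
    intro i
    obtain ⟨⟨m, ⟨_, n, rfl⟩⟩, hm⟩ := IsLocalizedModule.surj (Submonoid.powers (f i)) (g i) (s i)
    exact ⟨n, m, by simpa [Submonoid.smul_def] using hm⟩
  choose n₀ m₀ hm₀ using h1
  let n := Finset.univ.sup n₀
  obtain ⟨m, hm⟩ : ∃ m : ι → M, ∀ i, f i ^ n • s i = g i (m i) := by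
    refine ⟨fun i => f i ^ (n - n₀ i) • m₀ i, fun i => ?_⟩
    rw [map_smul, ← hm₀, ← mul_smul, ← pow_add, Nat.sub_add_cancel (Finset.le_sup (f := n₀) (Finset.mem_univ i))]
  have h2 : ∀ i j, ∃ N : ℕ, (f i * f j) ^ N • (f j ^ n • m i - f i ^ n • m j) = 0 := by
    intro i j
    have hz : gij i j (f j ^ n • m i - f i ^ n • m j) = 0 := by
      rw [map_sub, map_smul, map_smul, ← hρ₁ i j, LinearMap.comp_apply, ← hm, map_smul, hρ₁ i j,
        ← hρ₂ i j, LinearMap.comp_apply, ← hm, map_smul, hs, ← mul_smul, ← mul_smul, mul_comm, sub_self]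
    obtain ⟨⟨_, N, rfl⟩, hN⟩ := (IsLocalizedModule.eq_zero_iff (Submonoid.powers (f i * f j)) (gij i j)).1 hz
    exact ⟨N, by simpa [Submonoid.smul_def] using hN⟩
  choose N hN using h2
  let P := Finset.univ.sup fun p : ι × ι => N p.1 p.2
  let m' : ι → M := fun i => f i ^ P • m i
  have hsym : ∀ i j, f j ^ (n + P) • m' i = f i ^ (n + P) • m' j := by
    intro i j
    have hle : N i j ≤ P := Finset.le_sup (f := fun p : ι × ι => N p.1 p.2) (Finset.mem_univ (i, j))
    have h := congrArg (fun z => (f i * f j) ^ (P - N i j) • z) (hN i j)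
    simp only [smul_zero, ← mul_smul, smul_sub, sub_eq_zero, ← mul_assoc, ← pow_add, Nat.sub_add_cancel hle] at h
    simp only [m', ← mul_smul]
    rw [show f j ^ (n + P) * f i ^ P = (f i * f j) ^ P * f j ^ n by rw [mul_pow, pow_add]; ring,
      show f i ^ (n + P) * f j ^ P = (f i * f j) ^ P * f i ^ n by rw [mul_pow, pow_add]; ring]
    exact h
  obtain ⟨a, ha⟩ := Ideal.mem_span_range_iff_exists_fun.1 (hcov (n + P) ▸ Submodule.mem_top : (1 : R) ∈ _)
  refine ⟨∑ j, a j • m' j, fun i => ?_⟩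
  have hK : f i ^ (n + P) • (∑ j, a j • m' j) = m' i := by
    rw [Finset.smul_sum]
    conv_rhs => rw [← one_smul R (m' i), ← ha, Finset.sum_smul]
    refine Finset.sum_congr rfl fun j _ => ?_
    rw [smul_comm, ← hsym, mul_smul]
  have hb := (Module.End.isUnit_iff _).1 ((IsLocalizedModule.map_units (g i) ⟨f i, Submonoid.mem_powers _⟩).pow (n + P))
  rw [← map_pow] at hb
  apply hb.1
  show f i ^ (n + P) • g i (∑ j, a j • m' j) = f i ^ (n + P) • s i
  rw [← map_smul, hK]
  show g i (f i ^ P • m i) = _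
  rw [map_smul, ← hm, ← mul_smul, ← pow_add, add_comm]


end Groth.Agent.S9658
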