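import Groth.Statements.S9659
import Mathlib

set_option autoImplicit false
universe u
open CAlg

namespace Groth.Agent.S9659
open DirectSum

section
variable {R S : Type u} [CommRing R] [CommRing S] [Algebra R S] (𝒜 : ℤ → Submodule R S) [GradedAlgebra 𝒜]

/-- The inverse of a homogeneous unit is homogeneous of the opposite degree. -/
theorem inv_mem (f : S) (d : ℤ) (hf : f ∈ 𝒜 d) (g : S) (hg : g * f = 1) : g ∈ 𝒜 (-d) := by
  have h := coe_decompose_mul_add_of_right_mem (𝒜 := 𝒜) (a := g) (i := -d) hf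
  rw [hg, neg_add_cancel, decompose_of_mem_same 𝒜 (SetLike.one_mem_graded 𝒜)] at h
  have : (decompose 𝒜 g (-d) : S) = g :=
    calc (decompose 𝒜 g (-d) : S) = (decompose 𝒜 g (-d) : S) * (f * g) := by rw [mul_comm f, hg, mul_one]
      _ = g := by rw [← mul_assoc, ← h, one_mul]
  rw [← this]
  exact (decompose 𝒜 g (-d)).2

/-- Every homogeneous element is, up to a power and a unit, of degree zero. -/
theorem exists_unit_mul_pow_mem (f : S) (d : ℤ) (hd : 0 < d) (hf : f ∈ 𝒜 d) (hu : IsUnit f)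
    {e : ℤ} {a : S} (ha : a ∈ 𝒜 e) : ∃ w : S, IsUnit w ∧ w * a ^ d.toNat ∈ 𝒜 0 := by
  obtain ⟨g, hg⟩ := hu.exists_left_inv
  have hg' : g ∈ 𝒜 (-d) := inv_mem 𝒜 f d hf g hg
  have hgu : IsUnit g := IsUnit.of_mul_eq_one f hg
  have hcast : (d.toNat : ℤ) = d := Int.toNat_of_nonneg hd.le
  have hpow : a ^ d.toNat ∈ 𝒜 (d * e) := by
    have := SetLike.pow_mem_graded (A := 𝒜) d.toNat ha
    rwa [nsmul_eq_mul, hcast] at this
  obtain ⟨n, rfl | rfl⟩ := Int.eq_nat_or_neg e
  · refine ⟨g ^ n, hgu.pow n, ?_⟩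
    have h1 : g ^ n ∈ 𝒜 (n • (-d)) := SetLike.pow_mem_graded (A := 𝒜) n hg'
    have := SetLike.mul_mem_graded h1 hpow
    rwa [nsmul_eq_mul, mul_comm d, ← mul_add, neg_add_cancel, mul_zero] at this
  · refine ⟨f ^ n, hu.pow n, ?_⟩
    have h1 : f ^ n ∈ 𝒜 (n • d) := SetLike.pow_mem_graded (A := 𝒜) n hf
    have := SetLike.mul_mem_graded h1 hpow
    rwa [nsmul_eq_mul, mul_neg, mul_comm d, add_neg_cancel] at this

/-- Homogeneous membership in a prime is detected in degree zero. -/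
theorem mem_iff_of_unit {P : Ideal S} (hP : P.IsPrime) {D : ℕ} (hD : 0 < D) {w a : S} (hw : IsUnit w) :
    w * a ^ D ∈ P ↔ a ∈ P := by
  rw [Ideal.unit_mul_mem_iff_mem P hw]
  exact ⟨fun h => hP.mem_of_pow_mem D h, fun h => Ideal.pow_mem_of_mem P h D hD⟩

/-- The degree-zero contraction of the extension of an ideal of the degree-zero ring. -/
theorem component_zero_mem {q : Ideal (SetLike.GradeZero.subring 𝒜)} {z : S}
    (hz : z ∈ q.map (SetLike.GradeZero.subring 𝒜).subtype) (h0 : z ∈ 𝒜 0) :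
    (⟨z, h0⟩ : SetLike.GradeZero.subring 𝒜) ∈ q := by
  classical
  obtain ⟨n, c, v, hv⟩ := Submodule.mem_span_set'.1 hz
  have hv' : ∀ i, ∃ x ∈ q, (x : S) = (v i : S) := fun i => (v i).2
  choose x hx hxv using hv'
  have : (⟨z, h0⟩ : SetLike.GradeZero.subring 𝒜) =
      ∑ i, (⟨(decompose 𝒜 (c i) 0 : S), (decompose 𝒜 (c i) 0).2⟩ : SetLike.GradeZero.subring 𝒜) * x i := by
    refine Subtype.ext ?_
    rw [AddSubmonoidClass.coe_finsetSum]
    show z = ∑ i, (decompose 𝒜 (c i) 0 : S) * (x i : S)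
    calc z = (decompose 𝒜 z 0 : S) := (decompose_of_mem_same 𝒜 h0).symm
      _ = ∑ i, (decompose 𝒜 (c i • (v i : S)) 0 : S) := by
        rw [← hv, decompose_sum, DFinsupp.finsetSum_apply, AddSubmonoidClass.coe_finsetSum]
      _ = _ := Finset.sum_congr rfl fun i _ => by
        rw [← hxv i, smul_eq_mul]
        exact coe_decompose_mul_of_right_mem_zero (𝒜 := 𝒜) (x i).2
  rw [this]
  exact sum_mem fun i _ => q.mul_mem_left _ (hx i)

end


/-- Let S be a ℤ-graded ring which contains an invertible homogeneous element of positive degree. Then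
the set of homogeneous prime ideals of S, with the topology induced from Spec(S), maps
homeomorphically onto Spec(S₀) by p ↦ p ∩ S₀. -/
theorem result {R S : Type u} [CommRing R] [CommRing S] [Algebra R S] (𝒜 : ℤ → Submodule R S) [GradedAlgebra 𝒜]
    (f : S) (d : ℤ) (hd : 0 < d) (hf : f ∈ 𝒜 d) (hu : IsUnit f) :
    IsHomeomorph (fun p : {p : PrimeSpectrum S // p.asIdeal.IsHomogeneous 𝒜} => PrimeSpectrum.comap (SetLike.GradeZero.subring 𝒜).subtype p.1) := by
  classical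
  let ι₀ := (SetLike.GradeZero.subring 𝒜).subtype
  let D := d.toNat
  have hD : 0 < D := by simpa [D] using hd
  have key : ∀ {e : ℤ} {a : S}, a ∈ 𝒜 e → ∃ b : SetLike.GradeZero.subring 𝒜,
      ∀ P : Ideal S, P.IsPrime → (b ∈ P.comap ι₀ ↔ a ∈ P) := by
    intro e a ha
    obtain ⟨w, hw, hwa⟩ := exists_unit_mul_pow_mem 𝒜 f d hd hf hu ha
    exact ⟨⟨w * a ^ D, hwa⟩, fun P hP => mem_iff_of_unit hP hD hw⟩
  let H := {p : PrimeSpectrum S // p.asIdeal.IsHomogeneous 𝒜}
  let F : H → PrimeSpectrum (SetLike.GradeZero.subring 𝒜) := fun p => PrimeSpectrum.comap ι₀ p.1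
  have hinj : Function.Injective F := by
    intro p p' h
    have hc : p.1.asIdeal.comap ι₀ = p'.1.asIdeal.comap ι₀ := congrArg PrimeSpectrum.asIdeal h
    have hle : ∀ (u v : H), u.1.asIdeal.comap ι₀ = v.1.asIdeal.comap ι₀ → u.1.asIdeal ≤ v.1.asIdeal := by
      intro u v huv a ha
      rw [← DirectSum.sum_support_decompose 𝒜 a]
      refine sum_mem fun e _ => ?_
      obtain ⟨b, hb⟩ := key (DirectSum.decompose 𝒜 a e).2
      exact (hb _ v.1.isPrime).1 (huv ▸ (hb _ u.1.isPrime).2 (u.2 e ha))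
    exact Subtype.ext (PrimeSpectrum.ext (le_antisymm (hle p p' hc) (hle p' p hc.symm)))
  have hsurj : Function.Surjective F := by
    intro q
    let P := (q.asIdeal.map ι₀).radical
    have hPh : P.IsHomogeneous 𝒜 := by
      refine Ideal.IsHomogeneous.radical (Ideal.homogeneous_span 𝒜 _ ?_)
      rintro _ ⟨x, _, rfl⟩
      exact ⟨0, x.2⟩
    have hcomap : P.comap ι₀ = q.asIdeal := by
      refine le_antisymm (fun x hx => ?_) (fun x hx => Ideal.le_radical (Ideal.mem_map_of_mem ι₀ hx))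
      obtain ⟨n, hn⟩ := hx
      refine q.isPrime.mem_of_pow_mem n ?_
      have h0 : (x : S) ^ n ∈ 𝒜 0 := (x ^ n).2
      exact component_zero_mem 𝒜 hn h0
    have hPp : P.IsPrime := by
      refine hPh.isPrime_of_homogeneous_mem_or_mem (fun htop => ?_) ?_
      · refine q.isPrime.ne_top ?_
        rw [← hcomap, htop, Ideal.comap_top]
      · rintro a b ⟨ea, ha⟩ ⟨eb, hb⟩ hab
        obtain ⟨w, hw, hwa⟩ := exists_unit_mul_pow_mem 𝒜 f d hd hf hu ha
        obtain ⟨w', hw', hwb⟩ := exists_unit_mul_pow_mem 𝒜 f d hd hf hu hb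
        have h1 : (⟨w * a ^ D, hwa⟩ * ⟨w' * b ^ D, hwb⟩ : SetLike.GradeZero.subring 𝒜) ∈ q.asIdeal := by
          rw [← hcomap]
          show w * a ^ D * (w' * b ^ D) ∈ P
          rw [mul_mul_mul_comm, ← mul_pow]
          exact P.mul_mem_left _ (Ideal.pow_mem_of_mem P hab D hD)
        have hrad : ∀ {z u : S}, IsUnit u → u * z ^ D ∈ P → z ∈ P := fun {z u} hu' h =>
          (Ideal.radical_isRadical _) ⟨D, (Ideal.unit_mul_mem_iff_mem P hu').1 h⟩
        rcases q.isPrime.mem_or_mem h1 with h | h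
        · left
          rw [← hcomap] at h
          exact hrad hw h
        · right
          rw [← hcomap] at h
          exact hrad hw' h
    exact ⟨⟨⟨P, hPp⟩, hPh⟩, PrimeSpectrum.ext hcomap⟩
  refine ⟨(PrimeSpectrum.continuous_comap _).comp continuous_subtype_val, fun U hU => ?_, hinj, hsurj⟩
  rw [isOpen_iff_forall_mem_open]
  rintro _ ⟨p, hp, rfl⟩
  obtain ⟨W, hW, hWU⟩ := isOpen_induced_iff.1 hU
  obtain ⟨_, ⟨a, rfl⟩, hpa, haW⟩ := PrimeSpectrum.isTopologicalBasis_basic_opens.exists_subset_of_mem_open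
    (show p.1 ∈ W by rw [← hWU] at hp; exact hp) hW
  obtain ⟨e, he⟩ : ∃ e, (DirectSum.decompose 𝒜 a e : S) ∉ p.1.asIdeal := by
    by_contra hall
    refine hpa ?_
    rw [← DirectSum.sum_support_decompose 𝒜 a]
    exact sum_mem fun e _ => not_not.1 fun he => hall ⟨e, he⟩
  obtain ⟨b, hb⟩ := key (DirectSum.decompose 𝒜 a e).2
  refine ⟨PrimeSpectrum.basicOpen b, fun q hq => ?_, (PrimeSpectrum.basicOpen b).isOpen,
    fun h => he ((hb _ p.1.isPrime).1 h)⟩
  obtain ⟨p', rfl⟩ := hsurj q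
  refine ⟨p', ?_, rfl⟩
  rw [← hWU]
  exact haW fun h => hq ((hb _ p'.1.isPrime).2 (p'.2 e h))


end Groth.Agent.S9659
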