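import Groth.Statements.S9662
import Mathlib.Algebra.Homology.ShortComplex.ModuleCat
import Groth.Agent.KZ.Basic
import Groth.Agent.Proj16.Veronese
import Mathlib.Tactic

set_option autoImplicit false
universe u
open CategoryTheory
open CAlg

namespace Groth.Agent.S9662
section poly

variable {G : Type*} [AddCommGroup G]

/-- Eventually a combination of binomial coefficients. -/
def IsNumPoly (c : ℕ → G) : Prop :=
  ∃ (r : ℕ) (a : ℕ → G) (N : ℕ), ∀ n, N ≤ n → c n = ∑ i ∈ Finset.range r, ((n.choose i : ℕ) : ℤ) • a i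

theorem isNumPoly_zero : IsNumPoly (fun _ : ℕ => (0 : G)) := ⟨0, fun _ => 0, 0, fun _ _ => by simp⟩

theorem IsNumPoly.congr {c d : ℕ → G} (h : IsNumPoly c) (N : ℕ) (he : ∀ n, N ≤ n → d n = c n) :
    IsNumPoly d := by
  obtain ⟨r, a, N', hN⟩ := h
  exact ⟨r, a, max N N', fun n hn => (he n (le_of_max_le_left hn)).trans (hN n (le_of_max_le_right hn))⟩

theorem IsNumPoly.sub {c d : ℕ → G} (hc : IsNumPoly c) (hd : IsNumPoly d) : IsNumPoly (fun n => c n - d n) := by
  obtain ⟨r, a, N, hN⟩ := hc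
  obtain ⟨r', a', N', hN'⟩ := hd
  refine ⟨r + r', fun i => (if i < r then a i else 0) - (if i < r' then a' i else 0), max N N', fun n hn => ?_⟩
  simp only [hN n (le_of_max_le_left hn), hN' n (le_of_max_le_right hn), smul_sub, Finset.sum_sub_distrib,
    smul_ite, smul_zero]
  congr 1
  · rw [← Finset.sum_filter]; congr 1; ext i; simp; omega
  · rw [← Finset.sum_filter]; congr 1; ext i; simp; omega

theorem IsNumPoly.succ {c : ℕ → G} (h : IsNumPoly c) : IsNumPoly (fun n => c (n + 1)) := by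
  obtain ⟨r, a, N, hN⟩ := h
  refine ⟨r, fun i => a i + (if i + 1 < r then a (i + 1) else 0), N, fun n hn => ?_⟩
  simp only [hN (n + 1) (by omega), smul_add, Finset.sum_add_distrib, smul_ite, smul_zero]
  rcases r with - | r
  · simp
  rw [Finset.sum_range_succ', ← Finset.sum_filter,
    show (Finset.range (r + 1)).filter (fun i => i + 1 < r + 1) = Finset.range r by ext i; simp; omega]
  simp only [Nat.choose_succ_succ', Nat.cast_add, add_smul, Finset.sum_add_distrib]
  rw [Finset.sum_range_succ' (fun i => ((n.choose i : ℕ) : ℤ) • a i)]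
  simp only [Nat.choose_zero_right]
  abel

/-- A sequence with polynomial differences is polynomial. -/
theorem isNumPoly_of_diff {c : ℕ → G} (h : IsNumPoly (fun n => c (n + 1) - c n)) : IsNumPoly c := by
  obtain ⟨r, a, N, hN⟩ := h
  let p : ℕ → G := fun n => ∑ i ∈ Finset.range r, ((n.choose (i + 1) : ℕ) : ℤ) • a i
  have hstep : ∀ n, N ≤ n → c (n + 1) - p (n + 1) = c n - p n := fun n hn => by
    have e : p (n + 1) = (∑ i ∈ Finset.range r, ((n.choose i : ℕ) : ℤ) • a i) + p n := by
      simp only [p, Nat.choose_succ_succ', Nat.cast_add, add_smul, Finset.sum_add_distrib]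
    rw [e, ← hN n hn]
    beta_reduce
    abel
  refine ⟨r + 1, fun i => if i = 0 then c N - p N else a (i - 1), N, fun n hn => ?_⟩
  have hconst : c n - p n = c N - p N := by
    induction n, hn using Nat.le_induction with
    | base => rfl
    | succ n hn ih => rw [hstep n hn, ih]
  rw [Finset.sum_range_succ']
  simp only [Nat.add_one_ne_zero, if_false, if_true, Nat.add_sub_cancel, Nat.choose_zero_right,
    Nat.cast_one, one_smul]
  rw [← hconst]
  show c n = p n + (c n - p n)
  abel

end poly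

section classes

open CategoryTheory

variable {A : Type u} [CommRing A] {M : Type u} [AddCommGroup M] [Module A M]

/-- The class of a finite module. -/
noncomputable def fcl (V : Type u) [AddCommGroup V] [Module A V] :
    KZero.K0sub (fun X : ModuleCat.{u} A => Module.Finite A X) :=
  KZero.clSub (fun X : ModuleCat.{u} A => Module.Finite A X) (ModuleCat.of A V)

theorem fcl_add {U V W : Type u} [AddCommGroup U] [Module A U] [AddCommGroup V] [Module A V]
    [AddCommGroup W] [Module A W] [Module.Finite A U] [Module.Finite A V] [Module.Finite A W]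
    (f : U →ₗ[A] V) (g : V →ₗ[A] W) (hf : Function.Injective f) (hg : Function.Surjective g)
    (h : Function.Exact f g) : fcl (A := A) V = fcl (A := A) U + fcl (A := A) W := by
  let S : ShortComplex (ModuleCat.{u} A) := ShortComplex.mk (ModuleCat.ofHom f) (ModuleCat.ofHom g) (by
    ext x
    exact (h (f x)).2 ⟨x, rfl⟩)
  have hS : S.ShortExact :=
    { exact := (CategoryTheory.ShortComplex.ShortExact.moduleCat_exact_iff_function_exact S).2 h
      mono_f := (ModuleCat.mono_iff_injective _).2 hf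
      epi_g := (ModuleCat.epi_iff_surjective _).2 hg }
  exact Groth.Agent.KZ.clSub_ses _ hS ‹_› ‹_› ‹_›

theorem fcl_subsingleton (V : Type u) [AddCommGroup V] [Module A V] [Subsingleton V] :
    fcl (A := A) V = 0 :=
  Groth.Agent.KZ.clSub_isZero _ (ModuleCat.isZero_of_subsingleton _)

theorem fcl_equiv {U V : Type u} [AddCommGroup U] [Module A U] [AddCommGroup V] [Module A V]
    [Module.Finite A U] [Module.Finite A V] (e : U ≃ₗ[A] V) : fcl (A := A) U = fcl (A := A) V := by
  have h := fcl_add (A := A) (U := PUnit.{u+1}) (V := U) (W := V) 0 e.toLinearMap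
    (fun a b _ => Subsingleton.elim a b) e.surjective
    (fun x => ⟨fun hx => ⟨PUnit.unit, (e.map_eq_zero_iff.1 hx).symm⟩, by rintro ⟨y, rfl⟩; simp⟩)
  rwa [fcl_subsingleton PUnit.{u+1}, zero_add] at h

/-- The class of `K / L`. -/
noncomputable def qcl (L K : Submodule A M) : KZero.K0sub (fun X : ModuleCat.{u} A => Module.Finite A X) :=
  fcl (A := A) (K ⧸ L.comap K.subtype)

theorem qcl_self (K : Submodule A M) {L : Submodule A M} (h : K ≤ L) : qcl L K = 0 := by
  haveI : Subsingleton (K ⧸ L.comap K.subtype) := Submodule.Quotient.subsingleton_iff.2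
    (eq_top_iff.2 fun x _ => h x.2)
  exact fcl_subsingleton _

theorem qcl_trans {L L' K : Submodule A M} (h₁ : L ≤ L') (h₂ : L' ≤ K) [Module.Finite A L'] [Module.Finite A K] :
    qcl L K = qcl L L' + qcl L' K := by
  let f : (L' ⧸ L.comap L'.subtype) →ₗ[A] (K ⧸ L.comap K.subtype) :=
    (L.comap L'.subtype).mapQ _ (Submodule.inclusion h₂) (fun x hx => hx)
  let g : (K ⧸ L.comap K.subtype) →ₗ[A] (K ⧸ L'.comap K.subtype) :=
    Submodule.factor (Submodule.comap_mono h₁)
  refine fcl_add f g ?_ (Submodule.factor_surjective _) ?_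
  · refine (injective_iff_map_eq_zero f).2 fun x hx => ?_
    obtain ⟨y, rfl⟩ := Submodule.Quotient.mk_surjective _ x
    exact (Submodule.Quotient.mk_eq_zero _).2 ((Submodule.Quotient.mk_eq_zero (L.comap K.subtype)).1 hx)
  · refine fun x => ⟨fun hx => ?_, ?_⟩
    · obtain ⟨y, rfl⟩ := Submodule.Quotient.mk_surjective _ x
      exact ⟨Submodule.Quotient.mk ⟨y.1, (Submodule.Quotient.mk_eq_zero (L'.comap K.subtype)).1 hx⟩, rfl⟩
    · rintro ⟨z, rfl⟩
      obtain ⟨y, rfl⟩ := Submodule.Quotient.mk_surjective _ z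
      exact (Submodule.Quotient.mk_eq_zero _).2 y.2

theorem qcl_map (φ : M →ₗ[A] M) (K L : Submodule A M) [Module.Finite A K] [Module.Finite A ↥(K.map φ ⊔ L)] :
    qcl (L.comap φ ⊓ K) K = qcl L (K.map φ ⊔ L) := by
  let f : K →ₗ[A] (↥(K.map φ ⊔ L) ⧸ L.comap (K.map φ ⊔ L).subtype) :=
    (L.comap (K.map φ ⊔ L).subtype).mkQ ∘ₗ
      LinearMap.codRestrict (K.map φ ⊔ L) (φ ∘ₗ K.subtype)
        fun x => Submodule.mem_sup_left (Submodule.mem_map_of_mem x.2)
  have hker : LinearMap.ker f = (L.comap φ ⊓ K).comap K.subtype := by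
    ext x
    show Submodule.Quotient.mk _ = 0 ↔ _
    rw [Submodule.Quotient.mk_eq_zero]
    exact ⟨fun h => ⟨h, x.2⟩, fun h => h.1⟩
  have hsurj : Function.Surjective f := fun z => by
    obtain ⟨⟨w, hw⟩, rfl⟩ := Submodule.Quotient.mk_surjective _ z
    obtain ⟨a, ⟨k, hk, rfl⟩, b, hb, rfl⟩ := Submodule.mem_sup.1 hw
    refine ⟨⟨k, hk⟩, (Submodule.Quotient.eq _).2 ?_⟩
    show φ k - (φ k + b) ∈ L
    rw [sub_add_cancel_left]
    exact L.neg_mem hb
  exact fcl_equiv ((Submodule.quotEquivOfEq _ _ hker.symm).trans (f.quotKerEquivOfSurjective hsurj))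

end classes

section families

variable {A S : Type u} [CommRing A] [CommRing S] [Algebra A S] (𝒜 : ℕ → Submodule A S)
  {M : Type u} [AddCommGroup M] [Module A M] [Module S M] [IsScalarTower A S M] (ℳ : ℕ → Submodule A M)

/-- A graded submodule, degree by degree. -/
structure Stable (F : ℕ → Submodule A M) : Prop where
  le : ∀ n, F n ≤ ℳ n
  smul : ∀ i n, ∀ s ∈ 𝒜 i, ∀ m ∈ F n, s • m ∈ F (i + n)

variable [IsNoetherianRing S] [GradedAlgebra 𝒜] [Module.Finite S M] [DirectSum.Decomposition ℳ]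
  [SetLike.GradedSMul 𝒜 ℳ]

include 𝒜 in
theorem finite_of_le (h0 : ∀ s ∈ 𝒜 0, s ∈ Set.range (algebraMap A S)) {U : Submodule A M} {n : ℕ}
    (hU : U ≤ ℳ n) : Module.Finite A U := by
  classical
  obtain ⟨T, hTU, hT⟩ := Submodule.fg_span_iff_fg_span_finset_subset (U : Set M) |>.1
    (IsNoetherian.noetherian (Submodule.span S (U : Set M)))
  refine Module.Finite.iff_fg.2 ⟨T, le_antisymm (Submodule.span_le.2 hTU) fun u hu => ?_⟩
  have hu' : u ∈ Submodule.span S (T : Set M) := hT ▸ Submodule.subset_span hu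
  have key : ∀ z ∈ Submodule.span S (T : Set M), (DirectSum.decompose ℳ z n : M) ∈ Submodule.span A (T : Set M) := by
    intro z hz
    induction hz using Submodule.span_induction with
    | mem t ht => rw [DirectSum.decompose_of_mem_same ℳ (hU (hTU ht))]; exact Submodule.subset_span ht
    | zero => simp
    | add a b _ _ ha hb => rw [DirectSum.decompose_add, DirectSum.add_apply, Submodule.coe_add]; exact add_mem ha hb
    | smul s z hz _ =>
      obtain ⟨c, rfl⟩ := (Submodule.mem_span_finset.1 hz).imp fun c hc => hc.2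
      rw [Finset.smul_sum, DirectSum.decompose_sum, DFinsupp.finsetSum_apply, AddSubmonoidClass.coe_finsetSum]
      refine sum_mem fun t ht => ?_
      rw [smul_smul, Groth.Agent.Proj16.decompose_smul_of_mem 𝒜 ℳ (hU (hTU ht)), if_pos le_rfl, Nat.sub_self]
      obtain ⟨a, ha⟩ := h0 _ (Groth.Agent.Proj16.proj_mem 𝒜 0 (s * c t))
      rw [← ha, IsScalarTower.algebraMap_smul]
      exact Submodule.smul_mem _ _ (Submodule.subset_span ht)
  rw [← DirectSum.decompose_of_mem_same ℳ (hU hu)]
  exact key u hu'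

theorem exists_bound (X : Finset S) (hX : (HomogeneousIdeal.irrelevant 𝒜).toIdeal ≤ Ideal.span (X : Set S))
    (hX1 : (X : Set S) ⊆ 𝒜 1) {F : ℕ → Submodule A M} (hF : Stable 𝒜 ℳ F) :
    ∃ N, ∀ n, N ≤ n → F (n + 1) ≤ ⨆ x ∈ X, (F n).map (Algebra.lsmul A A M x) := by
  classical
  obtain ⟨T, hT, hT'⟩ := Submodule.fg_span_iff_fg_span_finset_subset (⋃ n, (F n : Set M)) |>.1
    (IsNoetherian.noetherian (Submodule.span S (⋃ n, (F n : Set M))))
  choose d hd using fun t : T => Set.mem_iUnion.1 (hT t.2)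
  refine ⟨Finset.univ.sup d, fun n hn m hm => ?_⟩
  have hm' : m ∈ Submodule.span S (T : Set M) := hT' ▸ Submodule.subset_span (Set.mem_iUnion.2 ⟨n + 1, hm⟩)
  obtain ⟨c, -, hc⟩ := Submodule.mem_span_finset.1 hm'
  rw [← DirectSum.decompose_of_mem_same ℳ (hF.le _ hm), ← hc, DirectSum.decompose_sum,
    DFinsupp.finsetSum_apply, AddSubmonoidClass.coe_finsetSum]
  refine sum_mem fun t ht => ?_
  have hdt : d ⟨t, ht⟩ ≤ n := le_trans (Finset.le_sup (Finset.mem_univ _)) hn
  have htF : t ∈ F (d ⟨t, ht⟩) := hd ⟨t, ht⟩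
  rw [Groth.Agent.Proj16.decompose_smul_of_mem 𝒜 ℳ (hF.le _ htF), if_pos (by omega)]
  set e := n - d ⟨t, ht⟩ with he
  rw [show n + 1 - d ⟨t, ht⟩ = e + 1 by omega]
  have hpos : GradedRing.proj 𝒜 (e + 1) (c t) ∈ Ideal.span (X : Set S) := hX (by
    rw [HomogeneousIdeal.mem_iff, HomogeneousIdeal.mem_irrelevant_iff]
    exact Groth.Agent.Proj16.proj_of_mem_ne 𝒜 (Groth.Agent.Proj16.proj_mem 𝒜 _ _) (by omega))
  obtain ⟨b, -, hb⟩ := Submodule.mem_span_finset.1 hpos
  rw [show GradedRing.proj 𝒜 (e + 1) (c t) = GradedRing.proj 𝒜 (e + 1) (GradedRing.proj 𝒜 (e + 1) (c t)) from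
    (Groth.Agent.Proj16.proj_of_mem 𝒜 (Groth.Agent.Proj16.proj_mem 𝒜 _ _)).symm, ← hb, map_sum, Finset.sum_smul]
  refine sum_mem fun x hx => Submodule.mem_iSup_of_mem x (Submodule.mem_iSup_of_mem hx ?_)
  have hproj : GradedRing.proj 𝒜 (e + 1) (b x • x) = x * GradedRing.proj 𝒜 e (b x) := by
    rw [smul_eq_mul, GradedRing.proj_apply, mul_comm,
      DirectSum.coe_decompose_mul_of_left_mem_of_le 𝒜 (hX1 hx) (by omega : 1 ≤ e + 1), Nat.add_sub_cancel,
      ← GradedRing.proj_apply]
  rw [hproj, mul_smul]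
  refine ⟨_, ?_, rfl⟩
  have := hF.smul e _ _ (Groth.Agent.Proj16.proj_mem 𝒜 e (b x)) t htF
  rwa [show e + d ⟨t, ht⟩ = n by omega] at this

theorem isNumPoly_qcl (h0 : ∀ s ∈ 𝒜 0, s ∈ Set.range (algebraMap A S)) (X : Finset S)
    (hX : (HomogeneousIdeal.irrelevant 𝒜).toIdeal ≤ Ideal.span (X : Set S)) (hX1 : (X : Set S) ⊆ 𝒜 1)
    (Y : Finset S) (hYX : Y ⊆ X) :
    ∀ L K : ℕ → Submodule A M, Stable 𝒜 ℳ L → Stable 𝒜 ℳ K → (∀ n, L n ≤ K n) →
      (∀ x ∈ X, x ∉ Y → ∀ n, (K n).map (Algebra.lsmul A A M x) ≤ L (n + 1)) →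
      IsNumPoly (fun n => qcl (L n) (K n)) := by
  classical
  induction Y using Finset.induction with
  | empty =>
    intro L K hL hK hLK h
    obtain ⟨N, hN⟩ := exists_bound 𝒜 ℳ X hX hX1 hK
    refine isNumPoly_zero.congr (N + 1) fun n hn => ?_
    obtain ⟨n, rfl⟩ := Nat.exists_eq_add_of_le' (show 1 ≤ n by omega)
    exact qcl_self _ ((hN n (by omega)).trans (iSup₂_le fun x hx => h x hx (Finset.notMem_empty x) n))
  | insert x Y hxY ih =>
    intro L K hL hK hLK h
    have hxX : x ∈ X := hYX (Finset.mem_insert_self x Y)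
    have ih := ih ((Finset.subset_insert x Y).trans hYX)
    let φ := Algebra.lsmul A A M x
    let K' : ℕ → Submodule A M := fun n => (L (n + 1)).comap φ ⊓ K n
    let L'' : ℕ → Submodule A M := fun n => L n ⊔ ⨆ (j : ℕ) (_ : j + 1 = n), (K j).map φ
    have hL''succ : ∀ n, L'' (n + 1) = (K n).map φ ⊔ L (n + 1) := fun n => by
      refine le_antisymm (sup_le le_sup_right (iSup₂_le fun j hj => ?_)) (sup_le ?_ le_sup_left)
      · obtain rfl : j = n := by omega
        exact le_sup_left
      · exact le_sup_of_le_right (le_iSup₂_of_le n rfl le_rfl)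
    have hxsmul : ∀ n, ∀ m ∈ K n, x • m ∈ K (n + 1) := fun n m hm => by
      have := hK.smul 1 n x (hX1 hxX) m hm
      rwa [add_comm 1 n] at this
    have hLK' : ∀ n, L n ≤ K' n := fun n m hm => ⟨by
      have := hL.smul 1 n x (hX1 hxX) m hm
      rw [add_comm 1 n] at this
      exact this, hLK n hm⟩
    have hL''K : ∀ n, L'' n ≤ K n := fun n => sup_le (hLK n) (iSup₂_le fun j hj => by
      subst hj
      rintro _ ⟨m, hm, rfl⟩
      exact hxsmul j m hm)
    have hK'st : Stable 𝒜 ℳ K' :=
      { le := fun n => inf_le_right.trans (hK.le n)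
        smul := fun i n s hs m hm => ⟨by
          show x • s • m ∈ L (i + n + 1)
          rw [smul_comm, add_assoc]
          exact hL.smul i (n + 1) s hs _ hm.1, hK.smul i n s hs m hm.2⟩ }
    have hL''st : Stable 𝒜 ℳ L'' :=
      { le := fun n => (hL''K n).trans (hK.le n)
        smul := fun i n s hs m hm => by
          have hle : L'' n ≤ (L'' (i + n)).comap (Algebra.lsmul A A M s) := by
            refine sup_le (fun m hm => Submodule.mem_sup_left (hL.smul i n s hs m hm)) (iSup₂_le fun j hj => ?_)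
            subst hj
            rintro _ ⟨m, hm, rfl⟩
            show s • x • m ∈ L'' (i + (j + 1))
            rw [smul_comm, ← add_assoc, hL''succ]
            exact Submodule.mem_sup_left ⟨_, hK.smul i j s hs m hm, rfl⟩
          exact hle hm }
    have p1 := ih L K' hL hK'st hLK' fun y hy hy' n => by
      rcases eq_or_ne y x with rfl | hyx
      · rintro _ ⟨m, hm, rfl⟩; exact hm.1
      · exact (Submodule.map_mono inf_le_right).trans (h y hy (by simp [hyx, hy']) n)
    have p2 := ih L'' K hL''st hK hL''K fun y hy hy' n => by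
      rcases eq_or_ne y x with rfl | hyx
      · rw [hL''succ]; exact le_sup_left
      · exact (h y hy (by simp [hyx, hy']) n).trans le_sup_left
    refine isNumPoly_of_diff ((p2.succ.sub p1).congr 0 fun n _ => ?_)
    haveI := fun (F : ℕ → Submodule A M) (hF : Stable 𝒜 ℳ F) n => finite_of_le 𝒜 ℳ h0 (hF.le n)
    haveI := finite_of_le 𝒜 ℳ h0 (hK.le n)
    haveI := finite_of_le 𝒜 ℳ h0 (hK.le (n + 1))
    haveI := finite_of_le 𝒜 ℳ h0 (hK'st.le n)
    haveI := finite_of_le 𝒜 ℳ h0 (hL''st.le (n + 1))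
    haveI : Module.Finite A ↥((K n).map φ ⊔ L (n + 1)) := hL''succ n ▸ inferInstance
    have e1 := qcl_trans (hLK' n) (inf_le_right : K' n ≤ K n)
    have e2 := qcl_trans (le_sup_left : L (n + 1) ≤ L'' (n + 1)) (hL''K (n + 1))
    have e3 : qcl (K' n) (K n) = qcl (L (n + 1)) (L'' (n + 1)) := by
      rw [hL''succ]; exact qcl_map φ (K n) (L (n + 1))
    show qcl (L (n + 1)) (K (n + 1)) - qcl (L n) (K n) = qcl (L'' (n + 1)) (K (n + 1)) - qcl (L n) (K' n)
    rw [e1, e2, e3]
    abel

end families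


/-- Let S be a Noetherian ℕ-graded ring, presented as a graded algebra over a ring A mapping onto S₀,
whose irrelevant ideal S₊ is generated as an ideal by the degree-1 part S₁, and let M be a finitely
generated graded S-module, graded in nonnegative degrees. (The published statement allows modules
graded in all integer degrees; this row takes modules graded in degrees ≥ 0, which loses nothing for
large n.) Write K'₀(A) for the Grothendieck group of finite A-modules (the free abelian group on the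
finite A-modules modulo the relations given by short exact sequences) and [M_n] for the class of the
finite A-module M_n. Then n ↦ [M_n] is a numerical polynomial: there are a_0, …, a_{r-1} in K'₀(A)
with [M_n] = Σ_i C(n, i) · a_i for all large n. (When A → S₀ is bijective K'₀(A) is K'₀(S₀), the
group of the published statement; in general the classes are taken after restricting scalars along A
→ S₀.) -/
theorem result {A S : Type u} [CommRing A] [CommRing S] [Algebra A S] [IsNoetherianRing S] (𝒜 : ℕ → Submodule A S) [GradedAlgebra 𝒜]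
    (h0 : ∀ s ∈ 𝒜 0, s ∈ Set.range (algebraMap A S))
    (h1 : (HomogeneousIdeal.irrelevant 𝒜).toIdeal = Ideal.span (𝒜 1 : Set S))
    (M : Type u) [AddCommGroup M] [Module A M] [Module S M] [IsScalarTower A S M] [Module.Finite S M] (ℳ : ℕ → Submodule A M) [DirectSum.Decomposition ℳ] [SetLike.GradedSMul 𝒜 ℳ] :
    ∃ (r : ℕ) (a : Fin r → KZero.K0sub (fun X : ModuleCat.{u} A => Module.Finite A X)) (N : ℕ), ∀ n : ℕ, N ≤ n →
      KZero.clSub (fun X : ModuleCat.{u} A => Module.Finite A X) (ModuleCat.of A ↥(ℳ n)) = ∑ i : Fin r, ((n.choose (i : ℕ) : ℕ) : ℤ) • a i := by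
  classical
  obtain ⟨X, hX1, hX⟩ := Submodule.fg_span_iff_fg_span_finset_subset (𝒜 1 : Set S) |>.1
    (IsNoetherian.noetherian (Ideal.span (𝒜 1 : Set S)))
  have hXS : (HomogeneousIdeal.irrelevant 𝒜).toIdeal ≤ Ideal.span (X : Set S) := by rw [h1]; exact hX.le
  have hbot : Stable 𝒜 ℳ (fun _ => (⊥ : Submodule A M)) :=
    ⟨fun _ => bot_le, fun i n s _ m hm => by
      rw [(Submodule.mem_bot A).1 hm, smul_zero]; exact zero_mem _⟩
  have htop : Stable 𝒜 ℳ ℳ := ⟨fun _ => le_rfl, fun i n s hs m hm => SetLike.GradedSMul.smul_mem hs hm⟩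
  obtain ⟨r, a, N, hN⟩ := isNumPoly_qcl 𝒜 ℳ h0 X hXS hX1 X subset_rfl _ _ hbot htop (fun _ => bot_le)
    (fun x hx hx' => absurd hx hx')
  refine ⟨r, fun i => a i, N, fun n hn => ?_⟩
  haveI := finite_of_le 𝒜 ℳ h0 (le_refl (ℳ n))
  rw [Fin.sum_univ_eq_sum_range (fun i => ((n.choose i : ℕ) : ℤ) • a i) r, ← hN n hn]
  exact fcl_equiv (Submodule.quotEquivOfEqBot _ (by simp)).symm


end Groth.Agent.S9662
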