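import Groth.Statements.S9663
import Mathlib

set_option autoImplicit false
universe u
open CAlg

namespace Groth.Agent.S9663
lemma unit_pow {R N : Type*} [CommRing R] [AddCommGroup N] [Module R N] {a : R}
    (h : IsUnit (algebraMap R (Module.End R N) a)) (n : ℕ) :
    Function.Bijective fun z : N => a ^ n • z := by
  have := (Module.End.isUnit_iff _).1 (h.pow n)
  rw [← map_pow] at this
  exact this

/-- A map that becomes a localization after composition is injective up to powers. -/
lemma ker_of_comp {R M N T : Type*} [CommRing R] [AddCommGroup M] [Module R M] [AddCommGroup N]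
    [Module R N] [AddCommGroup T] [Module R T] (b c e : R) (hc : c ∣ e * b) (he : e * b ∣ c) (g : M →ₗ[R] N) [IsLocalizedModule (Submonoid.powers b) g]
    (t : M →ₗ[R] T) [IsLocalizedModule (Submonoid.powers c) t] (u : N →ₗ[R] T) (hu : u ∘ₗ g = t)
    {z : N} (hz : u z = 0) : ∃ n : ℕ, e ^ n • z = 0 := by
  obtain ⟨⟨y, ⟨_, a, rfl⟩⟩, hy⟩ := IsLocalizedModule.surj (Submonoid.powers b) g z
  simp only [Submonoid.smul_def] at hy
  have h1 : t y = 0 := by rw [← hu, LinearMap.comp_apply, ← hy, map_smul, hz, smul_zero]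
  obtain ⟨⟨_, n, rfl⟩, hn⟩ := (IsLocalizedModule.eq_zero_iff (Submonoid.powers c) t).1 h1
  simp only [Submonoid.smul_def] at hn
  obtain ⟨w, hw⟩ := hc
  refine ⟨n, ?_⟩
  apply (unit_pow (IsLocalizedModule.map_units g ⟨b, Submonoid.mem_powers b⟩) (n + a)).1
  show b ^ (n + a) • e ^ n • z = b ^ (n + a) • (0 : N)
  rw [smul_zero, ← mul_smul, show b ^ (n + a) * e ^ n = (e * b) ^ n * b ^ a by rw [mul_pow, pow_add]; ring,
    mul_smul, hy, hw, mul_pow, mul_comm, mul_smul, ← map_smul, hn, map_zero, smul_zero]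


/-- Let R be a ring and f_i, i in a finite index set, elements of R (no condition on the ideal they
generate). Suppose given for each i an R-module M_i on which f_i acts invertibly, for each pair (i,
j) an R-linear isomorphism ψ_ij : (M_i)_{f_j} → (M_j)_{f_i}, and suppose the cocycle condition ψ_jk
∘ ψ_ij = ψ_ik holds as maps (M_i)_{f_j f_k} → (M_k)_{f_i f_j} for all triples (i, j, k). All
localizations are given through their universal properties: (M_i)_{f_j} with its map g from M_i;
(M_i)_{f_j f_k} with its map t from M_i and the compatible maps u from (M_i)_{f_j} and v from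
(M_i)_{f_k}; and the three localized isomorphisms Ψ₁ (ψ_ij on (M_i)_{f_j f_k}), Ψ₂ (ψ_jk on
(M_j)_{f_i f_k}) and Ψ₃ (ψ_ik on (M_i)_{f_j f_k}) are given as maps compatible with the ψ's. Let M ⊆
Π_i M_i be the submodule of families (m_i) with m_i/1 = ψ_ji(m_j/1) in (M_i)_{f_j} for all i, j.
Then for each i the projection M → M_i exhibits M_i as the localization of M at f_i. -/
theorem result {R : Type u} [CommRing R] {ι : Type u} [Finite ι] (f : ι → R)
    (Mi : ι → Type u) [∀ i, AddCommGroup (Mi i)] [∀ i, Module R (Mi i)]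
    (hMi : ∀ i, IsUnit (algebraMap R (Module.End R (Mi i)) (f i)))
    (Mij : ι → ι → Type u) [∀ i j, AddCommGroup (Mij i j)] [∀ i j, Module R (Mij i j)]
    (g : ∀ i j, Mi i →ₗ[R] Mij i j) [∀ i j, IsLocalizedModule (Submonoid.powers (f j)) (g i j)]
    (ψ : ∀ i j, Mij i j ≃ₗ[R] Mij j i)
    (T : ι → ι → ι → Type u) [∀ i j k, AddCommGroup (T i j k)] [∀ i j k, Module R (T i j k)]
    (t : ∀ i j k, Mi i →ₗ[R] T i j k) [∀ i j k, IsLocalizedModule (Submonoid.powers (f j * f k)) (t i j k)]
    (u : ∀ i j k, Mij i j →ₗ[R] T i j k) (hu : ∀ i j k, u i j k ∘ₗ g i j = t i j k)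
    (v : ∀ i j k, Mij i k →ₗ[R] T i j k) (hv : ∀ i j k, v i j k ∘ₗ g i k = t i j k)
    (Ψ₁ : ∀ i j k, T i j k →ₗ[R] T j i k) (hΨ₁ : ∀ i j k, Ψ₁ i j k ∘ₗ u i j k = u j i k ∘ₗ (ψ i j).toLinearMap)
    (Ψ₂ : ∀ i j k, T j i k →ₗ[R] T k i j) (hΨ₂ : ∀ i j k, Ψ₂ i j k ∘ₗ v j i k = v k i j ∘ₗ (ψ j k).toLinearMap)
    (Ψ₃ : ∀ i j k, T i j k →ₗ[R] T k i j) (hΨ₃ : ∀ i j k, Ψ₃ i j k ∘ₗ v i j k = u k i j ∘ₗ (ψ i k).toLinearMap)
    (hcoc : ∀ i j k, Ψ₂ i j k ∘ₗ Ψ₁ i j k = Ψ₃ i j k)
    (M : Submodule R (∀ i, Mi i)) (hM : ∀ m : ∀ i, Mi i, m ∈ M ↔ ∀ i j, g i j (m i) = ψ j i (g j i (m j))) (i : ι) :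
    IsLocalizedModule (Submonoid.powers (f i)) ((LinearMap.proj i).comp M.subtype : ↥M →ₗ[R] Mi i) := by
  classical
  have := Fintype.ofFinite ι
  -- units and extensionality on the double localizations
  have hTu : ∀ a b c, ∀ y : Submonoid.powers (f b), IsUnit (algebraMap R (Module.End R (T a b c)) y) := by
    rintro a b c ⟨_, n, rfl⟩
    have := IsLocalizedModule.map_units (t a b c) ⟨f b * f c, Submonoid.mem_powers _⟩
    simp only [map_mul, map_pow] at this ⊢
    exact ((Commute.isUnit_mul_iff ((Algebra.commute_algebraMap_left _ _))).1 this).1.pow n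
  have hgid : ∀ a, Function.Bijective (g a a) := by
    intro a
    constructor
    · rw [injective_iff_map_eq_zero]
      intro x hx
      obtain ⟨⟨_, n, rfl⟩, hn⟩ := (IsLocalizedModule.eq_zero_iff (Submonoid.powers (f a)) (g a a)).1 hx
      exact (unit_pow (hMi a) n).1 (by simpa [Submonoid.smul_def] using hn)
    · intro y
      obtain ⟨⟨x, ⟨_, n, rfl⟩⟩, hx⟩ := IsLocalizedModule.surj (Submonoid.powers (f a)) (g a a) y
      obtain ⟨x', rfl⟩ := (unit_pow (hMi a) n).2 x
      exact ⟨x', (unit_pow (IsLocalizedModule.map_units (g a a) ⟨f a, Submonoid.mem_powers _⟩) n).1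
        (by simpa [Submonoid.smul_def] using hx.symm)⟩
  have hψid : ∀ a (z : Mij a a), ψ a a z = z := by
    intro a
    have htb : Function.Bijective (t a a a) := by
      have hfa2 : IsUnit (algebraMap R (Module.End R (Mi a)) (f a * f a)) := by
        rw [map_mul]; exact (hMi a).mul (hMi a)
      constructor
      · rw [injective_iff_map_eq_zero]
        intro x hx
        obtain ⟨⟨_, n, rfl⟩, hn⟩ := (IsLocalizedModule.eq_zero_iff (Submonoid.powers (f a * f a)) (t a a a)).1 hx
        exact (unit_pow hfa2 n).1 (by simpa [Submonoid.smul_def] using hn)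
      · intro y
        obtain ⟨⟨x, ⟨_, n, rfl⟩⟩, hx⟩ := IsLocalizedModule.surj (Submonoid.powers (f a * f a)) (t a a a) y
        obtain ⟨x', rfl⟩ := (unit_pow hfa2 n).2 x
        exact ⟨x', (unit_pow (IsLocalizedModule.map_units (t a a a) ⟨f a * f a, Submonoid.mem_powers _⟩) n).1
          (by simpa [Submonoid.smul_def] using hx.symm)⟩
    have huv : u a a a = v a a a := by
      refine LinearMap.ext fun z => ?_
      obtain ⟨x, rfl⟩ := (hgid a).2 z
      rw [← LinearMap.comp_apply, hu, ← hv, LinearMap.comp_apply]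
    intro z
    have hinj : Function.Injective (u a a a) := by
      intro z₁ z₂ h
      obtain ⟨x₁, rfl⟩ := (hgid a).2 z₁
      obtain ⟨x₂, rfl⟩ := (hgid a).2 z₂
      rw [← LinearMap.comp_apply, ← LinearMap.comp_apply, hu] at h
      rw [htb.1 h]
    have e1 : ∀ z, Ψ₁ a a a (u a a a z) = u a a a (ψ a a z) := fun z => LinearMap.congr_fun (hΨ₁ a a a) z
    have e2 : ∀ z, Ψ₂ a a a (u a a a z) = u a a a (ψ a a z) := fun z => by
      have := LinearMap.congr_fun (hΨ₂ a a a) z
      simp only [LinearMap.comp_apply, ← huv, LinearEquiv.coe_coe] at this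
      exact this
    have e3 : ∀ z, Ψ₃ a a a (u a a a z) = u a a a (ψ a a z) := fun z => by
      have := LinearMap.congr_fun (hΨ₃ a a a) z
      simp only [LinearMap.comp_apply, ← huv, LinearEquiv.coe_coe] at this
      exact this
    have h := LinearMap.congr_fun (hcoc a a a) (u a a a z)
    rw [LinearMap.comp_apply, e1, e2, e3] at h
    exact (ψ a a).injective (hinj h)
  have hψinv : ∀ a b (z : Mij a b), ψ b a (ψ a b z) = z := by
    intro a b z
    have hab : u b a a = v b a a :=
      IsLocalizedModule.ext (Submonoid.powers (f a)) (g b a) (fun y => hTu b a a y) (by rw [hu, hv])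
    have h1 : Ψ₂ a b a (Ψ₁ a b a (u a b a z)) = v a a b (ψ b a (ψ a b z)) := by
      have e1 := LinearMap.congr_fun (hΨ₁ a b a) z
      simp only [LinearMap.comp_apply, LinearEquiv.coe_coe] at e1
      have e2 := LinearMap.congr_fun (hΨ₂ a b a) (ψ a b z)
      simp only [LinearMap.comp_apply, LinearEquiv.coe_coe] at e2
      rw [e1, hab, e2]
    have h3 : (Ψ₃ a b a) ∘ₗ (u a b a) = v a a b := by
      have hunit : ∀ y : Submonoid.powers (f b), IsUnit (algebraMap R (Module.End R (T a a b)) y) := by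
        rintro ⟨_, n, rfl⟩
        have := IsLocalizedModule.map_units (t a a b) ⟨f a * f b, Submonoid.mem_powers _⟩
        simp only [map_mul, map_pow] at this ⊢
        exact ((Commute.isUnit_mul_iff ((Algebra.commute_algebraMap_left _ _))).1 this).2.pow n
      refine IsLocalizedModule.ext (Submonoid.powers (f b)) (g a b) hunit ?_
      rw [LinearMap.comp_assoc, hu, ← hv a b a, ← LinearMap.comp_assoc, hΨ₃, hv]
      refine LinearMap.ext fun x => ?_
      simp only [LinearMap.comp_apply, LinearEquiv.coe_coe, hψid]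
      rw [← LinearMap.comp_apply, hu]
    have h4 := LinearMap.congr_fun (hcoc a b a) (u a b a z)
    rw [LinearMap.comp_apply, h1, ← LinearMap.comp_apply (f := Ψ₃ a b a), h3] at h4
    -- `v a a b` is injective
    obtain ⟨n, hn⟩ := ker_of_comp (f b) (f a * f b) (f a) dvd_rfl dvd_rfl (g a b) (t a a b) (v a a b) (hv a a b)
      (z := ψ b a (ψ a b z) - z) (by rw [map_sub, h4, sub_self])
    have hfa : IsUnit (algebraMap R (Module.End R (Mij a b)) (f a)) := by
      rw [Module.End.isUnit_iff]
      let L : Mij a b →ₗ[R] Mij a b := algebraMap R _ (f a)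
      obtain ⟨inv, hinv⟩ := hMi a
      let K : Mij a b →ₗ[R] Mij a b :=
        IsLocalizedModule.map (Submonoid.powers (f b)) (g a b) (g a b) ((inv⁻¹ : (Module.End R (Mi a))ˣ) : Module.End R (Mi a))
      have hKL : K ∘ₗ L = LinearMap.id := IsLocalizedModule.ext (Submonoid.powers (f b)) (g a b)
        (IsLocalizedModule.map_units (g a b)) (LinearMap.ext fun x => by
          simp only [LinearMap.comp_apply, L, Module.algebraMap_end_apply, LinearMap.id_apply, ← map_smul, K, IsLocalizedModule.map_apply]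
          rw [show f a • x = (inv : Module.End R (Mi a)) x by rw [hinv]; rfl, ← Module.End.mul_apply, inv.inv_mul]; rfl)
      have hLK : L ∘ₗ K = LinearMap.id := IsLocalizedModule.ext (Submonoid.powers (f b)) (g a b)
        (IsLocalizedModule.map_units (g a b)) (LinearMap.ext fun x => by
          simp only [LinearMap.comp_apply, L, Module.algebraMap_end_apply, LinearMap.id_apply, K, IsLocalizedModule.map_apply, ← map_smul]
          rw [show ∀ w, f a • w = (inv : Module.End R (Mi a)) w from fun w => by rw [hinv]; rfl, ← Module.End.mul_apply, inv.inv_mul]; rfl)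
      exact ⟨Function.LeftInverse.injective (g := K) fun w => LinearMap.congr_fun hKL w,
        Function.RightInverse.surjective (g := K) fun w => LinearMap.congr_fun hLK w⟩
    exact sub_eq_zero.1 ((unit_pow hfa n).1 (by simpa using hn))
  have hproj : ∀ m : M, ((LinearMap.proj i).comp M.subtype) m = (m : ∀ j, Mi j) i := fun m => rfl
  constructor
  · rintro ⟨_, n, rfl⟩
    rw [map_pow]; exact (hMi i).pow n
  · intro x
    have h1 : ∀ j, ∃ (n : ℕ) (y : Mi j), g j i y = f i ^ n • ψ i j (g i j x) := by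
      intro j
      obtain ⟨⟨y, ⟨_, n, rfl⟩⟩, hy⟩ := IsLocalizedModule.surj (Submonoid.powers (f i)) (g j i) (ψ i j (g i j x))
      exact ⟨n, y, by simpa [Submonoid.smul_def] using hy.symm⟩
    choose n y₀ hy₀ using h1
    let N := Finset.univ.sup n
    let y : ∀ j, Mi j := fun j => f i ^ (N - n j) • y₀ j
    have hy : ∀ j, g j i (y j) = ψ i j (g i j (f i ^ N • x)) := by
      intro j
      simp only [y, map_smul, hy₀, ← mul_smul, ← pow_add]
      rw [show N - n j + n j = N from Nat.sub_add_cancel (Finset.le_sup (f := n) (Finset.mem_univ j))]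
    set a := f i ^ N • x with ha
    have hcompat : ∀ j k, ∃ e : ℕ, f i ^ e • (g j k (y j) - ψ k j (g k j (y k))) = 0 := by
      intro j k
      have q1 : Ψ₁ i j k (t i j k a) = t j i k (y j) := by
        rw [← hu i j k, LinearMap.comp_apply, ← LinearMap.comp_apply (f := Ψ₁ i j k), hΨ₁,
          LinearMap.comp_apply, LinearEquiv.coe_coe, ← hy, ← LinearMap.comp_apply, hu]
      have q3 : Ψ₃ i j k (t i j k a) = t k i j (y k) := by
        rw [← hv i j k, LinearMap.comp_apply, ← LinearMap.comp_apply (f := Ψ₃ i j k), hΨ₃,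
          LinearMap.comp_apply, LinearEquiv.coe_coe, ← hy, ← LinearMap.comp_apply, hu]
      have q2 : Ψ₂ i j k (t j i k (y j)) = v k i j (ψ j k (g j k (y j))) := by
        rw [← hv j i k, LinearMap.comp_apply, ← LinearMap.comp_apply (f := Ψ₂ i j k), hΨ₂]
        rfl
      have q := LinearMap.congr_fun (hcoc i j k) (t i j k a)
      rw [LinearMap.comp_apply, q1, q2, q3, ← hv k i j, LinearMap.comp_apply] at q
      obtain ⟨e, he⟩ := ker_of_comp (f j) (f i * f j) (f i) dvd_rfl dvd_rfl (g k j) (t k i j) (v k i j) (hv k i j)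
        (z := ψ j k (g j k (y j)) - g k j (y k)) (by rw [map_sub, q, sub_self])
      refine ⟨e, ?_⟩
      have := congrArg (ψ k j) he
      rwa [map_smul, map_sub, hψinv, map_zero] at this
    choose e he using hcompat
    let E := Finset.univ.sup fun p : ι × ι => e p.1 p.2
    let m : ∀ j, Mi j := fun j => f i ^ E • y j
    have hm : m ∈ M := (hM m).2 fun j k => by
      have hle : e j k ≤ E := Finset.le_sup (f := fun p : ι × ι => e p.1 p.2) (Finset.mem_univ (j, k))
      have := congrArg (fun z => f i ^ (E - e j k) • z) (he j k)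
      simp only [smul_zero, ← mul_smul, ← pow_add, Nat.sub_add_cancel hle, smul_sub, sub_eq_zero] at this
      simp only [m, map_smul]
      exact this
    refine ⟨⟨⟨m, hm⟩, ⟨f i ^ (E + N), E + N, rfl⟩⟩, ?_⟩
    rw [hproj]
    show f i ^ (E + N) • x = f i ^ E • y i
    have : y i = a := (hgid i).1 (by rw [hy, hψid])
    rw [this, ha, ← mul_smul, pow_add]
  · intro m₁ m₂ h
    rw [hproj, hproj] at h
    have h0 : ((m₁ - m₂ : M) : ∀ j, Mi j) i = 0 := by simp [h]
    have h1 : ∀ j, ∃ n : ℕ, f i ^ n • ((m₁ - m₂ : M) : ∀ j, Mi j) j = 0 := by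
      intro j
      have := (hM _).1 (m₁ - m₂).2 i j
      rw [h0, map_zero, eq_comm, LinearEquiv.map_eq_zero_iff] at this
      obtain ⟨⟨_, n, rfl⟩, hn⟩ := (IsLocalizedModule.eq_zero_iff (Submonoid.powers (f i)) (g j i)).1 this
      exact ⟨n, by simpa [Submonoid.smul_def] using hn⟩
    choose n hn using h1
    refine ⟨⟨f i ^ Finset.univ.sup n, Finset.univ.sup n, rfl⟩, ?_⟩
    simp only [Submonoid.smul_def]
    rw [← sub_eq_zero, ← smul_sub]
    refine Subtype.ext (funext fun j => ?_)
    show f i ^ Finset.univ.sup n • ((m₁ - m₂ : M) : ∀ j, Mi j) j = 0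
    rw [← Nat.sub_add_cancel (Finset.le_sup (f := n) (Finset.mem_univ j)), pow_add, mul_smul, hn, smul_zero]


end Groth.Agent.S9663
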