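import Groth.Statements.S9666
import Groth.Agent.AssFiber.Basic

set_option autoImplicit false
universe u
open CAlg

namespace Groth.Agent.S9666

/-- Part (3): (A ⊆ A_fin): let R → S be a ring map with S Noetherian, N an S-module, q a prime of S and
p the prime of R below q; an associated prime of a module is a prime ideal equal to the annihilator
of some element. If q is an associated prime of the S-module N ⊗_R κ(p) (the fibre module over p, an
S-module by restriction of scalars), then q is an associated prime of the S-module N/pN. -/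
theorem result {R S : Type u} [CommRing R] [CommRing S] [Algebra R S] (N : Type u) [AddCommGroup N] [Module S N] [Module R N] [IsScalarTower R S N] [IsNoetherianRing S]
    (p : Ideal R) [p.IsPrime] (q : Ideal S) [q.IsPrime] (hq : q.comap (algebraMap R S) = p)
    (h : q ∈ FlatCA.ass S (FlatCA.fiberMod p S N)) :
    q ∈ FlatCA.ass S (N ⧸ (p.map (algebraMap R S)) • (⊤ : Submodule S N)) := by
  open Groth.Agent.WeakAss in
  classical
  have := Groth.Agent.AssFiber.isLocalizedModule_quotToFiber p (S := S) N
  let f := Groth.Agent.AssFiber.quotToFiber p (S := S) N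
  obtain ⟨hqp, x, hx⟩ := h
  obtain ⟨⟨m, σ⟩, hm⟩ := IsLocalizedModule.surj (Algebra.algebraMapSubmonoid S p.primeCompl) f x
  obtain ⟨G, hG⟩ := IsNoetherian.noetherian q
  have hd := Groth.Agent.AssFiber.disjoint_of_comap_eq p hq
  have hc : ∀ g ∈ G, ∃ c : Algebra.algebraMapSubmonoid S p.primeCompl, (c : S) • g • m = 0 := by
    intro g hg
    have hgq : g ∈ q := hG ▸ Submodule.subset_span hg
    rw [hx, mem_annEl] at hgq
    refine (IsLocalizedModule.eq_zero_iff _ f).1 ?_
    rw [map_smul, ← hm]
    show g • σ • x = 0
    rw [smul_comm, hgq, smul_zero]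
  choose! c hc using hc
  let C := ∏ g ∈ G, c g
  refine mem_ass_iff.2 ⟨hqp, (C : S) • m, le_antisymm ?_ ?_⟩
  · rw [← hG]
    refine Submodule.span_le.2 fun g hg => ?_
    rw [SetLike.mem_coe, mem_annEl, smul_comm]
    obtain ⟨d, hd'⟩ := Finset.dvd_prod_of_mem c hg
    show (C : S) • g • m = 0
    rw [show (C : S) = (d : S) * (c g : S) by rw [show C = c g * d from hd', Submonoid.coe_mul, mul_comm],
      mul_smul, hc g hg, smul_zero]
  · intro r hr
    rw [mem_annEl, smul_comm] at hr
    rw [hx, mem_annEl]
    have h2 : f (r • m) = 0 := (IsLocalizedModule.eq_zero_iff _ f).2 ⟨C, hr⟩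
    rw [map_smul, ← hm] at h2
    change r • σ • x = 0 at h2
    rw [smul_comm] at h2
    exact IsLocalizedModule.smul_injective f σ (h2.trans (smul_zero σ).symm)


end Groth.Agent.S9666
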