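import Groth.Statements.S9667
import Groth.Agent.AssFiber.Basic

set_option autoImplicit false
universe u
open CAlg

namespace Groth.Agent.S9667

open TensorProduct in
/-- Part (3): (B = B_fin): let R → S be a ring map with S Noetherian, N an S-module, M an R-module and q
a prime of S; an associated prime of a module is a prime ideal equal to the annihilator of some
element. If q is an associated prime of the S-module N ⊗_R M, then there is a finitely generated
R-submodule M' ⊆ M such that q is an associated prime of the S-module N ⊗_R M'. -/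
theorem result {R S : Type u} [CommRing R] [CommRing S] [Algebra R S] (N : Type u) [AddCommGroup N] [Module S N] [Module R N] [IsScalarTower R S N] [IsNoetherianRing S]
    (M : Type u) [AddCommGroup M] [Module R M] (q : Ideal S) [q.IsPrime] (h : q ∈ FlatCA.ass S (N ⊗[R] M)) :
    ∃ M' : Submodule R M, M'.FG ∧ q ∈ FlatCA.ass S (N ⊗[R] ↥M') := by
  open Groth.Agent.WeakAss in
  classical
  obtain ⟨hqp, x, hx⟩ := h
  obtain ⟨G, hG⟩ := IsNoetherian.noetherian q
  obtain ⟨k, a, m, rfl⟩ := TensorProduct.exists_sum_tmul_eq x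
  let M₀ := Submodule.span R (Set.range m)
  have hM₀ : M₀.FG := Submodule.fg_span (Set.finite_range m)
  let x₀ : N ⊗[R] M₀ := ∑ j, a j ⊗ₜ ⟨m j, Submodule.subset_span ⟨j, rfl⟩⟩
  have hmap : ∀ (M' : Submodule R M) (h : M₀ ≤ M') (s : S),
      M'.subtype.lTensor N (s • (Submodule.inclusion h).lTensor N x₀) = s • ∑ j, a j ⊗ₜ m j := by
    intro M' h s
    simp [x₀, map_sum, Finset.smul_sum, TensorProduct.smul_tmul']
  have hstep : ∀ g ∈ G, ∃ (M' : Submodule R M) (h : M₀ ≤ M'), M'.FG ∧ g • (Submodule.inclusion h).lTensor N x₀ = 0 := by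
    intro g hg
    have hgq : g ∈ q := hG ▸ Submodule.subset_span hg
    rw [hx, mem_annEl] at hgq
    obtain ⟨M', h, hfg, hz⟩ := Groth.Agent.AssFiber.exists_fg_lTensor_inclusion_eq_zero N M₀ hM₀ (g • x₀) (by
      have := hmap M₀ le_rfl g
      rw [hgq, show Submodule.inclusion (le_refl M₀) = LinearMap.id from LinearMap.ext fun _ => rfl,
        LinearMap.lTensor_id, LinearMap.id_apply] at this
      exact this)
    refine ⟨M', h, hfg, ?_⟩
    rw [← hz]
    exact ((TensorProduct.AlgebraTensorModule.lTensor S N (Submodule.inclusion h)).map_smul g x₀).symm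
  choose! M' hle hfg hz using hstep
  let M'' := M₀ ⊔ G.sup M'
  have hM'' : M''.FG := hM₀.sup (Finset.sup_induction Submodule.fg_bot (fun _ h₁ _ h₂ => h₁.sup h₂) hfg)
  have h0 : M₀ ≤ M'' := le_sup_left
  refine ⟨M'', hM'', mem_ass_iff.2 ⟨hqp, (Submodule.inclusion h0).lTensor N x₀, le_antisymm ?_ ?_⟩⟩
  · rw [← hG]
    refine Submodule.span_le.2 fun g hg => ?_
    rw [SetLike.mem_coe, mem_annEl]
    have hgM : M' g ≤ M'' := (Finset.le_sup hg).trans le_sup_right
    have e : (Submodule.inclusion h0).lTensor N x₀ =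
        (Submodule.inclusion hgM).lTensor N ((Submodule.inclusion (hle g hg)).lTensor N x₀) := by
      rw [← LinearMap.comp_apply, ← LinearMap.lTensor_comp]; rfl
    rw [e]
    exact (((TensorProduct.AlgebraTensorModule.lTensor S N (Submodule.inclusion hgM)).map_smul g _).symm).trans
      (by rw [hz g hg]; exact map_zero _)
  · intro r hr
    rw [mem_annEl] at hr
    rw [hx, mem_annEl, ← hmap M'' h0 r, hr, map_zero]


end Groth.Agent.S9667
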