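import Groth.Statements.S9668
import Groth.Agent.AssFiber.Basic

set_option autoImplicit false
universe u
open CAlg

namespace Groth.Agent.S9668

open TensorProduct in
/-- Part (4): (B = B_fin): let R → S be a ring map, N an S-module flat over R, M an R-module and q a
prime of S; an associated prime of a module is a prime ideal equal to the annihilator of some
element. If q is an associated prime of the S-module N ⊗_R M, then there is a finitely generated
R-submodule M' ⊆ M such that q is an associated prime of the S-module N ⊗_R M'. -/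
theorem result {R S : Type u} [CommRing R] [CommRing S] [Algebra R S] (N : Type u) [AddCommGroup N] [Module S N] [Module R N] [IsScalarTower R S N] [Module.Flat R N]
    (M : Type u) [AddCommGroup M] [Module R M] (q : Ideal S) [q.IsPrime] (h : q ∈ FlatCA.ass S (N ⊗[R] M)) :
    ∃ M' : Submodule R M, M'.FG ∧ q ∈ FlatCA.ass S (N ⊗[R] ↥M') := by
  open Groth.Agent.WeakAss in
  classical
  obtain ⟨hqp, x, hx⟩ := h
  obtain ⟨k, a, m, rfl⟩ := TensorProduct.exists_sum_tmul_eq x
  let M₀ := Submodule.span R (Set.range m)
  let x₀ : N ⊗[R] M₀ := ∑ j, a j ⊗ₜ ⟨m j, Submodule.subset_span ⟨j, rfl⟩⟩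
  have hinj : Function.Injective (TensorProduct.AlgebraTensorModule.lTensor S N M₀.subtype) :=
    Module.Flat.lTensor_preserves_injective_linearMap (M := N) _ Subtype.val_injective
  have he : TensorProduct.AlgebraTensorModule.lTensor S N M₀.subtype x₀ = ∑ j, a j ⊗ₜ m j := by
    simp [x₀, map_sum]
  exact ⟨M₀, Submodule.fg_span (Set.finite_range m), mem_ass_iff.2 ⟨hqp, x₀, by
    rw [hx, ← he]; exact annEl_map_of_injective _ hinj x₀⟩⟩


end Groth.Agent.S9668
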