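import Groth.Statements.S9671
import Mathlib

set_option autoImplicit false
universe u
open CAlg

namespace Groth.Agent.S9671
open Polynomial in
/-- the monomials lying in a subalgebra of a polynomial ring -/
noncomputable def monPart {R C : Type u} [CommRing R] [CommRing C] [Algebra R C] (S : Subalgebra R (Polynomial C))
    (d : ℕ) : Submodule R S :=
  (LinearMap.range ((Polynomial.monomial d (R := C)).restrictScalars R)).comap S.val.toLinearMap

theorem mem_monPart {R C : Type u} [CommRing R] [CommRing C] [Algebra R C] (S : Subalgebra R (Polynomial C))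
    (d : ℕ) (s : S) : s ∈ monPart S d ↔ ∃ c : C, Polynomial.monomial d c = (s : Polynomial C) := Iff.rfl

instance monPart_gradedMonoid {R C : Type u} [CommRing R] [CommRing C] [Algebra R C] (S : Subalgebra R (Polynomial C)) :
    SetLike.GradedMonoid (monPart S) where
  one_mem := ⟨1, by simp⟩
  mul_mem i j a b := by
    rintro ⟨c, hc⟩ ⟨c', hc'⟩
    refine ⟨c * c', ?_⟩
    change Polynomial.monomial (i + j) (c * c') = (a : Polynomial C) * (b : Polynomial C)
    rw [← Polynomial.monomial_mul_monomial]
    exact congrArg₂ (fun p q : Polynomial C => p * q) hc hc'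

theorem monomial_coeff_mem {R C : Type u} [CommRing R] [CommRing C] [Algebra R C] (gens : Set (Polynomial C))
    (hg : ∀ g ∈ gens, ∃ d c, Polynomial.monomial d c = g) (d : ℕ) (p : Polynomial C)
    (hp : p ∈ Algebra.adjoin R gens) : Polynomial.monomial d (p.coeff d) ∈ Algebra.adjoin R gens := by
  have hp' : p ∈ Submodule.span R (Submonoid.closure gens : Set (Polynomial C)) := by
    rw [← Algebra.adjoin_eq_span]; exact hp
  induction hp' using Submodule.span_induction with
  | mem q hq =>
    have hmon : ∃ e c, Polynomial.monomial e c = q := by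
      clear hp
      induction hq using Submonoid.closure_induction with
      | mem g hgm => exact hg g hgm
      | one => exact ⟨0, 1, by simp⟩
      | mul a b _ _ ha hb =>
        obtain ⟨e, c, rfl⟩ := ha
        obtain ⟨e', c', rfl⟩ := hb
        exact ⟨e + e', c * c', by rw [Polynomial.monomial_mul_monomial]⟩
    obtain ⟨e, c, rfl⟩ := hmon
    rw [Polynomial.coeff_monomial]
    split
    · rename_i h; subst h; exact hp
    · simp
  | zero => simp
  | add a b ha hb h1 h2 =>
    have ha' : a ∈ Algebra.adjoin R gens := by
      rw [← Subalgebra.mem_toSubmodule, Algebra.adjoin_eq_span]; exact ha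
    have hb' : b ∈ Algebra.adjoin R gens := by
      rw [← Subalgebra.mem_toSubmodule, Algebra.adjoin_eq_span]; exact hb
    rw [Polynomial.coeff_add, map_add]
    exact Subalgebra.add_mem _ (h1 ha') (h2 hb')
  | smul r a ha h1 =>
    have ha' : a ∈ Algebra.adjoin R gens := by
      rw [← Subalgebra.mem_toSubmodule, Algebra.adjoin_eq_span]; exact ha
    rw [Polynomial.coeff_smul, ← Polynomial.smul_monomial]
    exact Subalgebra.smul_mem _ (h1 ha') r

theorem exists_graded {R C : Type u} [CommRing R] [CommRing C] [Algebra R C] (S : Subalgebra R (Polynomial C))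
    (hS : ∀ d, ∀ p ∈ S, Polynomial.monomial d (p.coeff d) ∈ S) :
    Nonempty (GradedAlgebra (monPart S)) := by
  classical
  have hint : DirectSum.IsInternal (monPart S) := by
    rw [DirectSum.isInternal_submodule_iff_iSupIndep_and_iSup_eq_top]
    refine ⟨?_, eq_top_iff.2 fun s _ => ?_⟩
    · intro d
      rw [Submodule.disjoint_def]
      intro s hs hs'
      obtain ⟨c, hc⟩ := (mem_monPart S d s).1 hs
      let φ : S →ₗ[R] C := ((Polynomial.lcoeff C d).restrictScalars R).comp S.val.toLinearMap
      have h0 : φ s = 0 := by
        have hle : (⨆ (j) (_ : j ≠ d), monPart S j) ≤ LinearMap.ker φ := iSup₂_le fun j hj t ht => by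
          obtain ⟨c', hc'⟩ := (mem_monPart S j t).1 ht
          simp [φ, ← hc', Polynomial.coeff_monomial, hj]
        exact hle hs'
      apply Subtype.ext
      rw [← hc]
      simp [φ, ← hc] at h0
      simp [h0]
    · have e : s = ∑ d ∈ (s : Polynomial C).support,
          (⟨Polynomial.monomial d ((s : Polynomial C).coeff d), hS d _ s.2⟩ : S) := by
        apply Subtype.ext
        rw [AddSubmonoidClass.coe_finsetSum]
        exact (s : Polynomial C).as_sum_support
      rw [e]
      exact Submodule.sum_mem _ fun d _ =>
        (le_iSup (monPart S) d) ((mem_monPart S d _).2 ⟨_, rfl⟩)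
  exact ⟨{ (monPart_gradedMonoid S), hint.chooseDecomposition with }⟩


/-- Let R be a ring and R' an R-algebra of finite type. Then there are an ℕ-graded R-algebra S such that
R → S₀ is bijective and S is generated as an R-algebra by a finite set of degree-1 elements, an
element f ∈ S₁, and a ring isomorphism e between the degree-zero part S_(f) of the localization S_f
and R' which matches r/1 with the image of r in R' for every r ∈ R (so R' is identified with S_(f)
as an R-algebra). The published statement also produces, from a finite R'-module, a finite graded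
S-module whose degree-zero localization at f recovers it; that half is not part of this row. -/
theorem result (R R' : Type u) [CommRing R] [CommRing R'] [Algebra R R'] [Algebra.FiniteType R R'] :
    ∃ (S : Type u) (_ : CommRing S) (_ : Algebra R S) (𝒜 : ℕ → Submodule R S) (_ : GradedAlgebra 𝒜) (f : S) (_ : f ∈ 𝒜 1) (s : Finset S)
      (e : HomogeneousLocalization.Away 𝒜 f ≃+* R'),
      Function.Injective (algebraMap R S) ∧ (∀ x ∈ 𝒜 0, x ∈ Set.range (algebraMap R S)) ∧
      (↑s ⊆ (𝒜 1 : Set S)) ∧ Algebra.adjoin R (s : Set S) = ⊤ ∧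
      ∀ r : R, (e.symm (algebraMap R R' r)).val = algebraMap S (Localization.Away f) (algebraMap R S r) := by
  classical
  obtain ⟨T, hT⟩ := Algebra.FiniteType.out (R := R) (A := R')
  let gens : Finset (Polynomial (R × R')) :=
    (insert (1 : R') T).image fun x => Polynomial.monomial 1 ((0 : R), x)
  let S := Algebra.adjoin R (gens : Set (Polynomial (R × R')))
  have hgen : ∀ x ∈ insert (1 : R') T, Polynomial.monomial 1 ((0 : R), x) ∈ S := fun x hx =>
    Algebra.subset_adjoin (Finset.mem_coe.2 (Finset.mem_image.2 ⟨x, hx, rfl⟩))
  have hS : ∀ d, ∀ p ∈ S, Polynomial.monomial d (p.coeff d) ∈ S := fun d p hp =>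
    monomial_coeff_mem (C := R × R') _ (fun g hg => by
      obtain ⟨x, _, rfl⟩ := Finset.mem_image.1 (Finset.mem_coe.1 hg)
      exact ⟨1, _, rfl⟩) d p hp
  obtain ⟨inst⟩ := exists_graded S hS
  letI := inst
  let ψ : S →ₐ[R] R' :=
    (((AlgHom.snd R R R')).comp ((Polynomial.aeval (1 : R × R')).restrictScalars R)).comp S.val
  have hψmon : ∀ (d : ℕ) (c : R × R') (h : Polynomial.monomial d c ∈ S), ψ ⟨_, h⟩ = c.2 := by
    intro d c h
    simp [ψ, Polynomial.aeval_monomial]
  have hfst : ∀ (d : ℕ), d ≠ 0 → ∀ p ∈ S, (p.coeff d).1 = 0 := by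
    intro d hd p hp
    have key : (p.map (RingHom.fst R R')) ∈ Subalgebra.map (IsScalarTower.toAlgHom R R (Polynomial R)) ⊤ := by
      induction hp using Algebra.adjoin_induction with
      | mem g hg =>
        obtain ⟨x, _, rfl⟩ := Finset.mem_image.1 (Finset.mem_coe.1 hg)
        rw [Polynomial.map_monomial]
        simp
      | algebraMap r => exact ⟨r, trivial, by simp⟩
      | add a b _ _ ha hb => rw [Polynomial.map_add]; exact Subalgebra.add_mem _ ha hb
      | mul a b _ _ ha hb => rw [Polynomial.map_mul]; exact Subalgebra.mul_mem _ ha hb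
    obtain ⟨r, _, hr⟩ := key
    have := congrArg (fun q => Polynomial.coeff q d) hr
    simpa [Polynomial.coeff_map, Polynomial.coeff_C, hd] using this.symm
  let f : S := ⟨_, hgen 1 (Finset.mem_insert_self _ _)⟩
  have hf : f ∈ monPart S 1 := (mem_monPart S 1 f).2 ⟨_, rfl⟩
  have hψf : ψ f = 1 := hψmon _ _ _
  have hu : IsUnit (ψ.toRingHom f) := hψf ▸ isUnit_one
  let L : Localization.Away f →+* R' := IsLocalization.Away.lift f hu
  let φ : HomogeneousLocalization.Away (monPart S) f →+* R' :=
    L.comp (algebraMap (HomogeneousLocalization.Away (monPart S) f) (Localization.Away f))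
  have hLmk : ∀ (a : S) (n : ℕ), L (Localization.mk a ⟨f ^ n, n, rfl⟩) = ψ a := by
    intro a n
    have h1 : Localization.mk a (⟨f ^ n, n, rfl⟩ : Submonoid.powers f) * algebraMap S (Localization.Away f) (f ^ n) = algebraMap S _ a := by
      rw [Localization.mk_eq_mk']
      exact IsLocalization.mk'_spec (Localization.Away f) a (⟨f ^ n, n, rfl⟩ : Submonoid.powers f)
    have h2 := congrArg L h1
    simp only [map_mul, L, IsLocalization.Away.lift_eq, AlgHom.toRingHom_eq_coe, RingHom.coe_coe, map_pow, hψf, one_pow, mul_one] at h2
    exact h2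
  have hbij : Function.Bijective φ := by
    constructor
    · rw [injective_iff_map_eq_zero]
      intro z hz
      obtain ⟨n, a, ha, rfl⟩ := HomogeneousLocalization.Away.mk_surjective (monPart S) hf z
      have hz' : ψ a = 0 := by
        rw [← hLmk a n, ← HomogeneousLocalization.Away.val_mk (monPart S) n hf a ha]
        exact hz
      obtain ⟨c, hc⟩ := (mem_monPart S _ a).1 ha
      have hc2 : c.2 = 0 := by
        have hmem : Polynomial.monomial (n • 1) c ∈ S := by rw [hc]; exact a.2
        have := hψmon (n • 1) c hmem
        rw [show (⟨_, hmem⟩ : S) = a from Subtype.ext hc, hz'] at this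
        exact this.symm
      apply HomogeneousLocalization.val_injective
      rw [HomogeneousLocalization.Away.val_mk, HomogeneousLocalization.val_zero, Localization.mk_eq_mk', IsLocalization.mk'_eq_zero_iff]
      refine ⟨⟨f, 1, pow_one f⟩, Subtype.ext ?_⟩
      change Polynomial.monomial 1 ((0 : R), (1 : R')) * (a : Polynomial (R × R')) = 0
      rw [← hc, Polynomial.monomial_mul_monomial, show ((0 : R), (1 : R')) * c = 0 from Prod.ext (zero_mul _) (by simp [hc2])]
      simp
    · intro y
      have hy : y ∈ Algebra.adjoin R (T : Set R') := hT ▸ trivial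
      obtain ⟨n, hn, hm⟩ : ∃ n, 0 < n ∧ Polynomial.monomial n ((0 : R), y) ∈ S := by
        have h1 := hgen 1 (Finset.mem_insert_self _ _)
        have pad : ∀ (w : R') (n m : ℕ), Polynomial.monomial n ((0 : R), w) ∈ S → Polynomial.monomial (n + m) ((0 : R), w) ∈ S := by
          intro w n m h
          induction m with
          | zero => simpa using h
          | succ m ih =>
            have := Subalgebra.mul_mem _ ih h1
            rw [Polynomial.monomial_mul_monomial] at this
            simpa [add_assoc] using this
        induction hy using Algebra.adjoin_induction with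
        | mem x hx => exact ⟨1, one_pos, hgen x (Finset.mem_insert_of_mem (Finset.mem_coe.1 hx))⟩
        | algebraMap r =>
          refine ⟨1, one_pos, ?_⟩
          have := Subalgebra.smul_mem _ h1 r
          rw [Polynomial.smul_monomial] at this
          simpa [Algebra.algebraMap_eq_smul_one] using this
        | add a b _ _ ha hb =>
          obtain ⟨n, hn, hn'⟩ := ha
          obtain ⟨m, hm, hm'⟩ := hb
          refine ⟨n + m, by omega, ?_⟩
          have := Subalgebra.add_mem _ (pad a n m hn') (add_comm m n ▸ pad b m n hm')
          rw [← map_add] at this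
          simpa using this
        | mul a b _ _ ha hb =>
          obtain ⟨n, hn, hn'⟩ := ha
          obtain ⟨m, hm, hm'⟩ := hb
          refine ⟨n + m, by omega, ?_⟩
          have := Subalgebra.mul_mem _ hn' hm'
          rw [Polynomial.monomial_mul_monomial] at this
          simpa using this
      refine ⟨HomogeneousLocalization.Away.mk (monPart S) hf n ⟨_, hm⟩ ((mem_monPart S _ _).2 ⟨_, by rw [smul_eq_mul, mul_one]⟩), ?_⟩
      change L _ = y
      rw [HomogeneousLocalization.algebraMap_apply, HomogeneousLocalization.Away.val_mk, hLmk, hψmon]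
  refine ⟨S, inferInstance, inferInstance, monPart S, inst, f, hf,
    gens.attach.image (fun g => (⟨g.1, Algebra.subset_adjoin (Finset.mem_coe.2 g.2)⟩ : S)), RingEquiv.ofBijective φ hbij, ?_, ?_, ?_, ?_, ?_⟩
  · intro r r' h
    have := congrArg (fun p : S => (((p : Polynomial (R × R')).coeff 0)).1) h
    simpa [Polynomial.algebraMap_apply] using this
  · intro x hx
    obtain ⟨c, hc⟩ := (mem_monPart S 0 x).1 hx
    refine ⟨c.1, Subtype.ext ?_⟩
    have key : ∀ p ∈ S, (p.coeff 0).2 = algebraMap R R' (p.coeff 0).1 := by
      intro p hp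
      induction hp using Algebra.adjoin_induction with
      | mem g hg =>
        obtain ⟨y, _, rfl⟩ := Finset.mem_image.1 (Finset.mem_coe.1 hg)
        simp
      | algebraMap r => simp [Polynomial.algebraMap_apply]
      | add a b _ _ ha hb => simp [ha, hb]
      | mul a b _ _ ha hb => simp [Polynomial.mul_coeff_zero, ha, hb]
    have hk := key x x.2
    rw [← hc] at hk ⊢
    simp only [Polynomial.coeff_monomial, if_pos] at hk
    simp only [Subalgebra.coe_algebraMap, Polynomial.algebraMap_apply, ← Polynomial.monomial_zero_left]
    congr 1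
    exact Prod.ext rfl hk.symm
  · intro x hx
    obtain ⟨⟨g, hg⟩, _, rfl⟩ := Finset.mem_image.1 (Finset.mem_coe.1 hx)
    obtain ⟨y, _, rfl⟩ := Finset.mem_image.1 hg
    exact (mem_monPart S 1 _).2 ⟨_, rfl⟩
  · apply Subalgebra.map_injective (f := S.val) Subtype.val_injective
    rw [AlgHom.map_adjoin, Algebra.map_top, Subalgebra.range_val]
    congr 1
    ext g
    simp
    exact fun h => Algebra.subset_adjoin (Finset.mem_coe.2 h)
  · intro r
    have h0 : algebraMap R S r ∈ monPart S (0 • 1) := by
      rw [zero_smul]
      exact (mem_monPart S 0 _).2 ⟨(algebraMap R (R × R') r), by simp [Polynomial.algebraMap_apply]⟩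
    have he : (RingEquiv.ofBijective φ hbij).symm (algebraMap R R' r) =
        HomogeneousLocalization.Away.mk (monPart S) hf 0 (algebraMap R S r) h0 := by
      rw [RingEquiv.symm_apply_eq]
      change _ = L _
      rw [HomogeneousLocalization.algebraMap_apply, HomogeneousLocalization.Away.val_mk (monPart S) 0 hf _ h0, hLmk, AlgHom.commutes]
    rw [he, HomogeneousLocalization.Away.val_mk (monPart S) 0 hf _ h0]
    simp [← Localization.mk_one_eq_algebraMap]
    rfl


end Groth.Agent.S9671
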