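import Groth.Statements.S9675
import Groth.Agent.AlgSpDec.RelNorm.Finite

set_option autoImplicit false
universe u
open CategoryTheory CategoryTheory.Limits AlgebraicGeometry
open Mor

namespace Groth.Agent.S9675

/-- Let f : X ⟶ S be of finite type with X reduced and every affine open of S having Nagata coordinate
ring. Then the normalization of S in X is finite over S. (Such an f is automatically
quasi-separated; the binder is carried only to form the relative normalization.) -/
theorem result {X S : Scheme.{u}} (f : X ⟶ S)
    [LocallyOfFiniteType f] [QuasiCompact f] [QuasiSeparated f] [IsReduced X]
    (hS : ∀ U : S.affineOpens, CAlg.IsNagata Γ(S, U)) :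
    IsFinite f.fromNormalization := by
  exact AlgSpDec.RelNorm.isFinite_of_nagata f.fromNormalization f f.toNormalization
    f.ker_toNormalization f.toNormalization_fromNormalization fun V hV => hS ⟨V, hV⟩

end Groth.Agent.S9675
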