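import Groth.Statements.S9676
import Groth.Agent.Approx.NormDVR
import Groth.Agent.S9675
import Groth.Agent.ProConsLib.Image
import Groth.Agent.SchTop.Closed
import Groth.Agent.QCoh.Support

set_option autoImplicit false
set_option backward.isDefEq.respectTransparency false
set_option backward.isDefEq.respectTransparency.types false
universe u
open CategoryTheory CategoryTheory.Limits AlgebraicGeometry
open Mor

namespace Groth.Agent.S9676

/-- Let f : Y ⟶ X be of finite type with Y reduced and every affine open of X having Nagata coordinate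
ring, and let X' be the normalization of X in Y. If x' is a point of X' whose local ring has
dimension 1 and over which the fibre of Y ⟶ X' is empty, then the local ring of X' at x' is a
discrete valuation ring. (Such an f is automatically quasi-separated; the binder is carried only to
form the relative normalization.) -/
theorem result {X Y : Scheme.{u}} (f : Y ⟶ X)
    [LocallyOfFiniteType f] [QuasiCompact f] [QuasiSeparated f] [IsReduced Y]
    (hX : ∀ U : X.affineOpens, CAlg.IsNagata Γ(X, U))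
    (x' : ↥f.normalization) (hdim : ringKrullDim (f.normalization.presheaf.stalk x') = 1)
    (hx' : x' ∉ Set.range f.toNormalization.base) :
    ∃ _ : IsDomain (f.normalization.presheaf.stalk x'),
      IsDiscreteValuationRing (f.normalization.presheaf.stalk x') := by
  let π := f.fromNormalization
  let ι := f.toNormalization
  obtain ⟨_, ⟨U, hU, rfl⟩, hxU, -⟩ :=
    X.isBasis_affineOpens.exists_subset_of_mem_open (Set.mem_univ (π x')) isOpen_univ
  let W : f.normalization.Opens := π ⁻¹ᵁ U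
  have hW : IsAffineOpen W := hU.preimage π
  have hxW : x' ∈ W := hxU
  have hUW : f ⁻¹ᵁ U ≤ ι ⁻¹ᵁ W := by simp [ι, W, π, ← Scheme.Hom.comp_preimage]
  have hWU : ι ⁻¹ᵁ W ≤ f ⁻¹ᵁ U := by simp [ι, W, π, ← Scheme.Hom.comp_preimage]
  letI : Algebra Γ(X, U) Γ(Y, f ⁻¹ᵁ U) := (f.app U).hom.toAlgebra
  letI : Algebra Γ(X, U) Γ(f.normalization, W) := (π.app U).hom.toAlgebra
  letI : Algebra Γ(f.normalization, W) Γ(Y, f ⁻¹ᵁ U) := (ι.appLE W _ hUW).hom.toAlgebra
  haveI : IsScalarTower Γ(X, U) Γ(f.normalization, W) Γ(Y, f ⁻¹ᵁ U) :=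
    IsScalarTower.of_algebraMap_eq fun a => by
      show f.app U a = (π.app U ≫ ι.appLE W _ hUW) a
      congr 1
      rw [Scheme.Hom.app_eq_appLE f, Scheme.Hom.app_eq_appLE π, Scheme.Hom.appLE_comp_appLE]
      simp [ι, π]
  haveI : Algebra.IsIntegral Γ(X, U) Γ(f.normalization, W) :=
    ⟨IsIntegralHom.isIntegral_app π U hU⟩
  haveI : IsFinite π := Groth.Agent.S9675.result f hX
  haveI : Module.Finite Γ(X, U) Γ(f.normalization, W) := IsFinite.finite_app π U hU
  haveI : IsNoetherianRing Γ(X, U) := (hX ⟨U, hU⟩).1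
  haveI : IsNoetherianRing Γ(f.normalization, W) := IsNoetherianRing.of_finite Γ(X, U) _
  have key : ι.appLE W (f ⁻¹ᵁ U) hUW = (f.normalizationObjIso hU).hom ≫
      CommRingCat.ofHom (integralClosure Γ(X, U) Γ(Y, f ⁻¹ᵁ U)).val.toRingHom :=
    (f.normalizationObjIso_hom_val hU).symm
  have hinj : Function.Injective (algebraMap Γ(f.normalization, W) Γ(Y, f ⁻¹ᵁ U)) := by
    intro a b h
    have h2 : (f.normalizationObjIso hU).hom a = (f.normalizationObjIso hU).hom b := by
      apply Subtype.ext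
      have h3 : (ι.appLE W _ hUW) a = (ι.appLE W _ hUW) b := h
      rw [key] at h3
      exact h3
    exact (f.normalizationObjIso hU).commRingCatIsoToRingEquiv.injective h2
  haveI : _root_.IsReduced Γ(f.normalization, W) := isReduced_of_injective _ hinj
  have hint : ∀ x : Γ(Y, f ⁻¹ᵁ U), IsIntegral Γ(f.normalization, W) x →
      x ∈ (algebraMap Γ(f.normalization, W) Γ(Y, f ⁻¹ᵁ U)).range := by
    intro x hx
    have hx0 : IsIntegral Γ(X, U) x := isIntegral_trans (A := Γ(f.normalization, W)) x hx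
    refine ⟨(f.normalizationObjIso hU).inv ⟨x, hx0⟩, ?_⟩
    show (ι.appLE W _ hUW) _ = x
    rw [key]
    show ((f.normalizationObjIso hU).hom ((f.normalizationObjIso hU).inv ⟨x, hx0⟩)).1 = x
    simp
  obtain ⟨e⟩ := Groth.Agent.SchTop.nonempty_stalk_equiv hW hxW
  let p := (hW.primeIdealOf ⟨x', hxW⟩).asIdeal
  have hdim' : ringKrullDim (Localization.AtPrime p) = 1 := by
    rw [← hdim]
    exact (ringKrullDim_eq_of_ringEquiv e).symm
  have hfib : ∀ t ∈ p, (∀ q : Ideal Γ(f.normalization, W), q.IsPrime → q ≤ p → t ∈ q → q = p) →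
      ∃ s ∉ p, ∃ (c : Γ(Y, f ⁻¹ᵁ U)) (n : ℕ), algebraMap _ Γ(Y, f ⁻¹ᵁ U) t * c =
        algebraMap Γ(f.normalization, W) Γ(Y, f ⁻¹ᵁ U) s ^ n := by
    intro t ht hmin
    let g := ι ∣_ W
    have hg : ∀ y, (g y).1 = ι y.1 := fun y => congr($(morphismRestrict_ι ι W).base y)
    let T : Set ↥(ι ⁻¹ᵁ W) := {y | y.1 ∉ ι ⁻¹ᵁ (f.normalization.basicOpen t)}
    have hT : IsClosed T :=
      ((ι ⁻¹ᵁ (f.normalization.basicOpen t)).isOpen.preimage continuous_subtype_val).isClosed_compl
    have hpc : ProCons.IsProConstructible (X := ↥((ι ⁻¹ᵁ W).toScheme)) T :=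
      Groth.Agent.ProConsLib.isProConstructible_of_isLocallyClosed hT.isLocallyClosed
        fun V hV => hV.isCompact.inter_left hT
    have hncl : (⟨x', hxW⟩ : W) ∉ closure (g.base '' T) := by
      intro hcl
      obtain ⟨y, hy, hyx⟩ :=
        Groth.Agent.ProConsLib.exists_specializes_of_mem_closure_image_scheme hpc g hcl
      have hyx' : ι y.1 ⤳ x' := hg y ▸ hyx.map continuous_subtype_val
      have hyW : ι y.1 ∈ W := y.2
      have hq := hmin (hW.primeIdealOf ⟨ι y.1, hyW⟩).asIdeal inferInstance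
        (Groth.Agent.SchTop.primeIdealOf_le hW hyW hxW hyx') (by
          by_contra hc
          exact hy ((Groth.Agent.QCoh.mem_basicOpen_iff_notMem hW hyW t).2 hc))
      have h1 : hW.primeIdealOf ⟨ι y.1, hyW⟩ = hW.primeIdealOf ⟨x', hxW⟩ := PrimeSpectrum.ext hq
      have h2 := congrArg hW.fromSpec h1
      rw [hW.fromSpec_primeIdealOf, hW.fromSpec_primeIdealOf] at h2
      exact hx' ⟨y.1, h2⟩
    let O : f.normalization.Opens :=
      ⟨Subtype.val '' (closure (g.base '' T))ᶜ, W.isOpen.isOpenMap_subtype_val _ isClosed_closure.isOpen_compl⟩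
    obtain ⟨s, hsO, hxs⟩ := hW.exists_basicOpen_le (V := O) ⟨x', ⟨x', hxW⟩, hncl, rfl⟩ hxW
    refine ⟨s, (Groth.Agent.QCoh.mem_basicOpen_iff_notMem hW hxW s).1 hxs, ?_⟩
    let D := Y.basicOpen (algebraMap Γ(f.normalization, W) Γ(Y, f ⁻¹ᵁ U) s)
    have hpre : ∀ r : Γ(f.normalization, W), Y.basicOpen (algebraMap Γ(f.normalization, W) Γ(Y, f ⁻¹ᵁ U) r) =
        f ⁻¹ᵁ U ⊓ ι ⁻¹ᵁ (f.normalization.basicOpen r) := fun r => by
      show Y.basicOpen (ι.appLE W (f ⁻¹ᵁ U) hUW r) = _
      rw [Scheme.Hom.appLE, CommRingCat.comp_apply, Scheme.basicOpen_res, ← ι.preimage_basicOpen r]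
    have hD : D ≤ Y.basicOpen (algebraMap Γ(f.normalization, W) Γ(Y, f ⁻¹ᵁ U) t) := by
      show Y.basicOpen _ ≤ _
      rw [hpre, hpre]
      rintro y ⟨hyU, hys⟩
      refine ⟨hyU, ?_⟩
      by_contra hc
      obtain ⟨w, hw, hwy⟩ := hsO hys
      refine hw (subset_closure ⟨(⟨y, hUW hyU⟩ : ↥(ι ⁻¹ᵁ W)), hc, ?_⟩)
      exact Subtype.ext ((hg _).trans hwy.symm)
    letI : Algebra Γ(Y, f ⁻¹ᵁ U) Γ(Y, D) := (Y.presheaf.map (homOfLE (Y.basicOpen_le _)).op).hom.toAlgebra
    haveI : IsLocalization.Away (algebraMap Γ(f.normalization, W) Γ(Y, f ⁻¹ᵁ U) s) Γ(Y, D) :=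
      isLocalization_basicOpen_of_qcqs (f.isCompact_preimage hU.isCompact)
        (f.isQuasiSeparated_preimage hU.isQuasiSeparated) _
    have hu : IsUnit (algebraMap Γ(Y, f ⁻¹ᵁ U) Γ(Y, D) (algebraMap Γ(f.normalization, W) _ t)) := by
      have h1 := (RingedSpace.isUnit_res_basicOpen Y.toLocallyRingedSpace.toRingedSpace
        (algebraMap Γ(f.normalization, W) Γ(Y, f ⁻¹ᵁ U) t)).map (Y.presheaf.map (homOfLE hD).op).hom
      show IsUnit ((Y.presheaf.map (homOfLE (Y.basicOpen_le _)).op) _)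
      convert h1 using 1
      show _ = (Y.presheaf.map _ ≫ Y.presheaf.map _) _
      rw [← Functor.map_comp]
      rfl
    obtain ⟨d, hd⟩ := hu.exists_right_inv
    obtain ⟨⟨c, ⟨_, n, rfl⟩⟩, hc⟩ := IsLocalization.surj
      (Submonoid.powers (algebraMap Γ(f.normalization, W) Γ(Y, f ⁻¹ᵁ U) s)) d
    obtain ⟨⟨_, m, rfl⟩, hm⟩ := (IsLocalization.eq_iff_exists
      (Submonoid.powers (algebraMap Γ(f.normalization, W) Γ(Y, f ⁻¹ᵁ U) s)) Γ(Y, D)).1
      (show algebraMap Γ(Y, f ⁻¹ᵁ U) Γ(Y, D) (algebraMap Γ(f.normalization, W) _ t * c) =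
        algebraMap Γ(Y, f ⁻¹ᵁ U) Γ(Y, D) (algebraMap Γ(f.normalization, W) _ s ^ n) by
        rw [map_mul, ← hc, ← mul_assoc, hd, one_mul])
    refine ⟨algebraMap Γ(f.normalization, W) _ s ^ m * c, m + n, ?_⟩
    rw [pow_add]
    simp only at hm
    linear_combination hm
  obtain ⟨hd, hv⟩ := Groth.Agent.Approx.NormDVR.isDVR_atPrime hinj hint p hdim' hfib
  haveI : IsDomain (f.normalization.presheaf.stalk x') := MulEquiv.isDomain _ e.toMulEquiv
  exact ⟨inferInstance, IsDiscreteValuationRing.RingEquivClass.isDiscreteValuationRing e.symm⟩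

end Groth.Agent.S9676
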