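import Groth.Statements.S9677
import Groth.Agent.MorLib.Birat
import Mathlib.AlgebraicGeometry.Morphisms.Preimmersion

set_option autoImplicit false
universe u
open CategoryTheory CategoryTheory.Limits AlgebraicGeometry
open Mor

namespace Groth.Agent.S9677

/-- Suppose X and Y have finitely many irreducible components and f : X ⟶ Y is birational, i.e. f
restricts to a bijection between the generic points of the irreducible components of X and those of
Y and induces an isomorphism of local rings at every generic point of an irreducible component of X.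
Then for any generic point y of a component of Y, pulling f back along the canonical map Spec
O_{Y,y} ⟶ Y gives an isomorphism onto Spec O_{Y,y}. -/
theorem result {X Y : Scheme.{u}} (f : X ⟶ Y)
    (hXfin : (irreducibleComponents ↥X).Finite) (hYfin : (irreducibleComponents ↥Y).Finite)
    (hbij : Set.BijOn (fun x : X => f.base x) {x : X | closure {x} ∈ irreducibleComponents ↥X}
      {y : Y | closure {y} ∈ irreducibleComponents ↥Y})
    (hiso : ∀ x : X, closure {x} ∈ irreducibleComponents ↥X → IsIso (f.stalkMap x))
    (y : Y) (hy : closure {y} ∈ irreducibleComponents ↥Y) :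
    IsIso (pullback.snd f (Y.fromSpecStalk y)) := by
  obtain ⟨x, hx, rfl⟩ := hbij.surjOn hy
  haveI := hiso x hx
  haveI : Subsingleton ↥(Spec (Y.presheaf.stalk (f x))) := by
    refine ⟨fun a b => (Y.fromSpecStalk (f x)).isEmbedding.injective ?_⟩
    have key : ∀ c, Y.fromSpecStalk (f x) c = f x := fun c => by
      have h1 : Y.fromSpecStalk (f x) c ∈ {y | y ⤳ f x} :=
        Scheme.range_fromSpecStalk (X := Y) (x := f x) ▸ Set.mem_range_self c
      exact Groth.Agent.MorLib.Birat.eq_of_specializes_generic hy h1
    rw [key, key]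
  have hfst : ∀ z, pullback.fst f (Y.fromSpecStalk (f x)) z = x := by
    intro z
    refine Groth.Agent.MorLib.Birat.fibre_generic f hbij hiso hx ?_
    rw [← Scheme.Hom.comp_apply, pullback.condition, Scheme.Hom.comp_apply,
      Subsingleton.elim (pullback.snd f (Y.fromSpecStalk (f x)) z) (IsLocalRing.closedPoint _),
      Scheme.fromSpecStalk_closedPoint]
  haveI : Subsingleton ↥(pullback f (Y.fromSpecStalk (f x))) :=
    ⟨fun a b => (pullback.fst f (Y.fromSpecStalk (f x))).isEmbedding.injective
      (by rw [hfst, hfst])⟩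
  let inv' : Spec (Y.presheaf.stalk (f x)) ⟶ pullback f (Y.fromSpecStalk (f x)) :=
    pullback.lift (Spec.map (inv (f.stalkMap x)) ≫ X.fromSpecStalk x) (𝟙 _) (by
      rw [Category.assoc, ← Scheme.SpecMap_stalkMap_fromSpecStalk, ← Spec.map_comp_assoc,
        IsIso.hom_inv_id, Spec.map_id, Category.id_comp])
  let z : ↥(pullback f (Y.fromSpecStalk (f x))) := inv' (IsLocalRing.closedPoint _)
  haveI : IsIso ((pullback f (Y.fromSpecStalk (f x))).fromSpecStalk z) := by
    obtain ⟨U, hU, hzU, -⟩ := exists_isAffineOpen_mem_and_subset (x := z) (U := ⊤) trivial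
    obtain rfl : U = ⊤ := top_le_iff.mp fun w _ => Subsingleton.elim z w ▸ hzU
    letI := (pullback f (Y.fromSpecStalk (f x))).presheaf.algebra_section_stalk (U := ⊤) ⟨z, trivial⟩
    have hloc := hU.isLocalization_stalk ⟨z, trivial⟩
    have hsub : ∀ q q' : PrimeSpectrum Γ(pullback f (Y.fromSpecStalk (f x)), ⊤), q = q' := fun q q' =>
      hU.fromSpec.isOpenEmbedding.injective (Subsingleton.elim _ _)
    have hunit : ∀ a ∈ (hU.primeIdealOf ⟨z, trivial⟩).asIdeal.primeCompl, IsUnit a := by
      intro a ha
      by_contra hn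
      obtain ⟨m, hm, hle⟩ := Ideal.exists_le_maximal _ (Ideal.span_singleton_ne_top hn)
      have e := hsub ⟨m, hm.isPrime⟩ (hU.primeIdealOf ⟨z, trivial⟩)
      exact ha (by rw [← e]; exact hle (Ideal.mem_span_singleton_self a))
    have : IsIso ((pullback f (Y.fromSpecStalk (f x))).presheaf.germ ⊤ z trivial) :=
      (ConcreteCategory.isIso_iff_bijective _).mpr
        (IsLocalization.atUnits Γ(pullback f (Y.fromSpecStalk (f x)), ⊤) _
          (S := (pullback f (Y.fromSpecStalk (f x))).presheaf.stalk z) hunit).bijective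
    rw [← hU.fromSpecStalk_eq_fromSpecStalk (x := z) trivial, IsAffineOpen.fromSpecStalk]
    haveI : IsIso hU.fromSpec := by
      rw [isIso_iff_isOpenImmersion_and_surjective]
      exact ⟨inferInstance, ⟨fun w => by
        have h1 : w ∈ Set.range hU.fromSpec := by rw [hU.range_fromSpec]; trivial
        exact h1⟩⟩
    infer_instance
  refine ⟨inv', ?_, pullback.lift_snd _ _ _⟩
  apply pullback.hom_ext
  · rw [Category.assoc, pullback.lift_fst, Category.id_comp, ← cancel_epi
      ((pullback f (Y.fromSpecStalk (f x))).fromSpecStalk z)]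
    let P := pullback f (Y.fromSpecStalk (f x))
    obtain ⟨a, ha⟩ : ∃ a : X.presheaf.stalk x ⟶ P.presheaf.stalk z,
        Spec.map a ≫ X.fromSpecStalk x = P.fromSpecStalk z ≫ pullback.fst f _ := by
      have h1 : ∀ x₀, pullback.fst f (Y.fromSpecStalk (f x)) z = x₀ →
          ∃ a : X.presheaf.stalk x₀ ⟶ P.presheaf.stalk z,
            Spec.map a ≫ X.fromSpecStalk x₀ = P.fromSpecStalk z ≫ pullback.fst f _ := by
        rintro _ rfl
        exact ⟨_, Scheme.SpecMap_stalkMap_fromSpecStalk _⟩
      exact h1 x (hfst z)
    obtain ⟨b, hb⟩ : ∃ b, P.fromSpecStalk z ≫ pullback.snd f (Y.fromSpecStalk (f x)) = Spec.map b :=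
      ⟨_, (Spec.map_preimage _).symm⟩
    have hab : f.stalkMap x ≫ a = b := by
      refine Spec.map_injective ((cancel_mono (Y.fromSpecStalk (f x))).mp ?_)
      rw [Spec.map_comp, Category.assoc, Scheme.SpecMap_stalkMap_fromSpecStalk, reassoc_of% ha, ← hb,
        Category.assoc, pullback.condition]
    rw [← ha, ← Category.assoc (P.fromSpecStalk z), hb, ← hab, ← Spec.map_comp_assoc,
      IsIso.inv_hom_id_assoc]
  · rw [Category.assoc, pullback.lift_snd, Category.comp_id, Category.id_comp]

end Groth.Agent.S9677
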