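import Groth.Statements.S9679
import Groth.Agent.MorLib.Birat
import Groth.Agent.FDescent.QuasiFlat
import Mathlib.AlgebraicGeometry.IdealSheaf.Functorial

set_option autoImplicit false
universe u
open CategoryTheory CategoryTheory.Limits AlgebraicGeometry
open Mor

namespace Groth.Agent.S9679

/-- Suppose X and Y have finitely many irreducible components and f : X ⟶ Y is birational, i.e. f
restricts to a bijection between the generic points of the irreducible components of X and those of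
Y and induces an isomorphism of local rings at every generic point of an irreducible component of X.
Assume that f is quasi-compact or separated, and moreover that f is locally of finite presentation,
or else Y is reduced and f is locally of finite type. Under these hypotheses, some dense open V ⊆ Y
has the property that the restriction f⁻¹(V) ⟶ V of f is an isomorphism. -/
theorem result {X Y : Scheme.{u}} (f : X ⟶ Y)
    (hXfin : (irreducibleComponents ↥X).Finite) (hYfin : (irreducibleComponents ↥Y).Finite)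
    (hbij : Set.BijOn (fun x : X => f.base x) {x : X | closure {x} ∈ irreducibleComponents ↥X}
      {y : Y | closure {y} ∈ irreducibleComponents ↥Y})
    (hiso : ∀ x : X, closure {x} ∈ irreducibleComponents ↥X → IsIso (f.stalkMap x))
    (hf₁ : QuasiCompact f ∨ IsSeparated f)
    (hf₂ : (LocallyOfFiniteType f ∧ IsReduced Y) ∨ LocallyOfFinitePresentation f) :
    ∃ V : Y.Opens, Dense (V : Set ↥Y) ∧ IsIso (f ∣_ V) := by
  haveI : LocallyOfFiniteType f := hf₂.elim (·.1) (fun h => by haveI := h; infer_instance)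
  open Groth.Agent.MorLib.Birat TopologicalSpace in
  obtain ⟨U, V, hUV, hU, hV, hI⟩ := Groth.Agent.MorLib.Birat.exists_dense_iso f hYfin hbij hiso
    (hf₂.imp_left (·.2))
  let g := f.resLE V U hUV
  have hsurj : ∀ y ∈ V, ∃ x ∈ U, f x = y := fun y hy => by
    obtain ⟨p, hp⟩ := (f.resLE V U hUV).surjective ⟨y, hy⟩
    refine ⟨p.1, p.2, ?_⟩
    have h1 := congrArg V.ι hp
    rw [← Scheme.Hom.comp_apply, Scheme.Hom.resLE_comp_ι] at h1
    exact h1
  suffices hV' : ∃ V' : Y.Opens, V' ≤ V ∧ genericPoints Y ⊆ V' ∧ f ⁻¹ᵁ V' ≤ U by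
    obtain ⟨V', hle, hgen, hpre⟩ := hV'
    refine ⟨V', Groth.Agent.MorLib.Birat.dense_of_genericPoints hgen, ?_⟩
    have hinj : ∀ a ∈ f ⁻¹ᵁ V', ∀ b ∈ f ⁻¹ᵁ V', f a = f b → a = b := fun a ha b hb hab => by
      have h1 : g ⟨a, hpre ha⟩ = g ⟨b, hpre hb⟩ := by
        refine V.ι.isOpenEmbedding.injective ?_
        show (g ≫ V.ι) _ = (g ≫ V.ι) _
        rw [Scheme.Hom.resLE_comp_ι]
        exact hab
      exact congrArg Subtype.val (g.isOpenEmbedding.injective h1)
    have := Groth.Agent.MorLib.Birat.isIso_resLE_of_locally f (U := f ⁻¹ᵁ V') (V := V') le_rfl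
      (fun x hx => ⟨f ⁻¹ᵁ V', V', le_rfl, hx, le_rfl, by
        have himm : IsOpenImmersion ((f ⁻¹ᵁ V').ι ≫ f) := by
          rw [← X.homOfLE_ι hpre, Category.assoc, ← Scheme.Hom.resLE_comp_ι f hUV]
          infer_instance
        have : IsOpenImmersion (f.resLE V' (f ⁻¹ᵁ V') le_rfl) := by
          have : IsOpenImmersion (f.resLE V' (f ⁻¹ᵁ V') le_rfl ≫ V'.ι) := by
            rwa [Scheme.Hom.resLE_comp_ι]
          exact IsOpenImmersion.of_comp _ V'.ι
        refine (isIso_iff_isOpenImmersion_and_surjective _).mpr ⟨this, ⟨fun y => ?_⟩⟩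
        obtain ⟨a, ha, hay⟩ := hsurj y.1 (hle y.2)
        refine ⟨⟨a, show f a ∈ V' from hay ▸ y.2⟩, V'.ι.isOpenEmbedding.injective ?_⟩
        rw [← Scheme.Hom.comp_apply, Scheme.Hom.resLE_comp_ι]
        exact hay⟩)
      hinj (fun y hy => by
        obtain ⟨a, ha, hay⟩ := hsurj y (hle hy)
        exact ⟨a, show f a ∈ V' from hay ▸ hy, hay⟩)
    rwa [Scheme.Hom.resLE_eq_morphismRestrict] at this
  -- fibres over generic points
  have hfib : ∀ z : X, f z ∈ genericPoints Y → z ∈ U := fun z hz => by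
    obtain ⟨x, hx, hxz⟩ := hbij.surjOn hz
    rw [Groth.Agent.MorLib.Birat.fibre_generic f hbij hiso hx hxz.symm]
    exact hU hx
  rcases hf₁ with hqc | hsep
  · -- the image of the complement avoids a neighbourhood of the generic points
    let I := Scheme.IdealSheafData.vanishingIdeal ⟨(U : Set X)ᶜ, U.isOpen.isClosed_compl⟩
    have hr : Set.range I.subschemeι = (U : Set X)ᶜ := by
      rw [Scheme.IdealSheafData.range_subschemeι, Scheme.IdealSheafData.coe_support_vanishingIdeal]
      rfl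
    refine ⟨V ⊓ ⟨(closure (Set.range (I.subschemeι ≫ f)))ᶜ, isClosed_closure.isOpen_compl⟩,
      inf_le_left, fun y hy => ⟨hV hy, fun hmem => ?_⟩, ?_⟩
    · obtain ⟨z, hz⟩ := Groth.Agent.FDescent.exists_specializes_of_mem_closure_range
        (f := I.subschemeι ≫ f) hmem
      have h1 := Groth.Agent.MorLib.Birat.eq_of_specializes_generic hy hz
      have h2 : I.subschemeι z ∈ (U : Set X)ᶜ := hr ▸ ⟨z, rfl⟩
      exact h2 (hfib _ (by rw [← h1] at hy; exact hy))
    · intro z hz
      by_contra hn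
      obtain ⟨p, rfl⟩ : z ∈ Set.range I.subschemeι := hr ▸ hn
      exact hz.2 (subset_closure ⟨p, rfl⟩)
  · -- separatedness makes `U` closed in the preimage
    refine ⟨V, le_rfl, hV, ?_⟩
    let s : (V : Scheme.{u}) ⟶ (f ⁻¹ᵁ V : X.Opens) := inv g ≫ X.homOfLE hUV
    have hs : s ≫ (f ∣_ V) = 𝟙 _ := by
      rw [← cancel_mono V.ι, Category.assoc, Category.assoc, morphismRestrict_ι, Category.id_comp,
        Scheme.homOfLE_ι_assoc, IsIso.inv_comp_eq, Scheme.Hom.resLE_comp_ι]
    have : IsClosedImmersion (s ≫ (f ∣_ V)) := by rw [hs]; infer_instance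
    have : IsSeparated (f ∣_ V) := IsZariskiLocalAtTarget.restrict hsep V
    have : IsClosedImmersion s := IsClosedImmersion.of_comp s (f ∣_ V)
    intro z hz
    by_contra hn
    let zc : (f ⁻¹ᵁ V : X.Opens) := ⟨z, hz⟩
    have hrange : Set.range s ⊆ (f ⁻¹ᵁ V).ι ⁻¹' (U : Set X) := by
      rintro _ ⟨q, rfl⟩
      show (f ⁻¹ᵁ V).ι (s q) ∈ U
      rw [← Scheme.Hom.comp_apply, Category.assoc, Scheme.homOfLE_ι, Scheme.Hom.comp_apply]
      exact ((inv g) q).2
    obtain ⟨x, hx, hxz⟩ := Groth.Agent.MorLib.Birat.exists_generic z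
    have hxV : x ∈ f ⁻¹ᵁ V := hxz.mem_open (f ⁻¹ᵁ V).2 hz
    have hxU : x ∈ U := hU hx
    have hxs : (⟨x, hxV⟩ : (f ⁻¹ᵁ V : X.Opens)) ∈ Set.range s := by
      refine ⟨g ⟨x, hxU⟩, (f ⁻¹ᵁ V).ι.isOpenEmbedding.injective ?_⟩
      rw [← Scheme.Hom.comp_apply, Category.assoc, Scheme.homOfLE_ι, ← Scheme.Hom.comp_apply,
        IsIso.hom_inv_id_assoc]
      rfl
    have hcl : IsClosed (Set.range s) := s.isClosedEmbedding.isClosed_range
    have hsp : (⟨x, hxV⟩ : (f ⁻¹ᵁ V : X.Opens)) ⤳ zc :=
      ((f ⁻¹ᵁ V).ι.isOpenEmbedding.toIsEmbedding.isInducing.specializes_iff).mp hxz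
    exact hn (hrange (hsp.mem_closed hcl hxs))

end Groth.Agent.S9679
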