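import Groth.Statements.S9681
import Groth.Agent.MorLib.BiratOver

set_option autoImplicit false
universe u
open CategoryTheory CategoryTheory.Limits AlgebraicGeometry
open Mor

namespace Groth.Agent.S9681

theorem residue_eqToHom {S : Scheme.{u}} {s t : S} (h : s = t) :
    eqToHom (congrArg S.presheaf.stalk h) ≫ S.residue t =
      S.residue s ≫ eqToHom (congrArg S.residueField h) := by
  subst h; simp

theorem isIso_residue {X : Scheme.{u}} [IsIntegral X] : IsIso (X.residue (genericPoint ↥X)) := by
  refine (ConcreteCategory.isIso_iff_bijective _).mpr ⟨?_, X.residue_surjective _⟩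
  letI : Field (X.presheaf.stalk (genericPoint ↥X)) := inferInstanceAs (Field X.functionField)
  exact (X.residue (genericPoint ↥X)).hom.injective

theorem isIso_stalkMap_of_fromSpec {W Y : Scheme.{u}} (f : W ⟶ Y) (w : W) {y : Y}
    {R : CommRingCat.{u}} (a : W.presheaf.stalk w ⟶ R) [IsIso a] (φ : Y.presheaf.stalk y ⟶ R) [IsIso φ]
    (hy : f w = y)
    (h : Spec.map φ ≫ Y.fromSpecStalk y = Spec.map a ≫ W.fromSpecStalk w ≫ f) :
    IsIso (f.stalkMap w) := by
  subst hy
  rw [← Scheme.SpecMap_stalkMap_fromSpecStalk, ← Spec.map_comp_assoc, cancel_mono] at h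
  have e := Spec.map_injective h
  rw [show f.stalkMap w = φ ≫ inv a by rw [e]; simp]
  infer_instance


/-- Suppose X and Y are integral S-schemes, each locally of finite type over S, with generic points x
and y. Then X and Y are S-birational (they admit S-isomorphic nonempty opens) if and only if x and y
map to the same point s of S and the residue fields of x and y are isomorphic as extensions of the
residue field of s. -/
theorem result {S X Y : Scheme.{u}}
    [IsIntegral X] [IsIntegral Y] (sX : X ⟶ S) (sY : Y ⟶ S)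
    [LocallyOfFiniteType sX] [LocallyOfFiniteType sY] :
    Scheme.BirationalOver sX sY ↔
      ∃ (hs : sX.base (genericPoint ↥X) = sY.base (genericPoint ↥Y))
        (e : X.residueField (genericPoint ↥X) ≅ Y.residueField (genericPoint ↥Y)),
        sX.residueFieldMap (genericPoint ↥X) ≫ e.hom =
          eqToHom (congrArg S.residueField hs) ≫ sY.residueFieldMap (genericPoint ↥Y) := by
  haveI := isIso_residue (X := X)
  haveI := isIso_residue (X := Y)
  constructor
  · intro h
    obtain ⟨hs, e, he⟩ := Groth.Agent.MorLib.BiratOver.of_birationalOver h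
    refine ⟨hs, (asIso (X.residue _)).symm ≪≫ e ≪≫ asIso (Y.residue _), ?_⟩
    rw [← cancel_epi (S.residue _), Scheme.residue_residueFieldMap_assoc, Iso.trans_hom, Iso.trans_hom,
      Iso.symm_hom, asIso_inv, asIso_hom, IsIso.hom_inv_id_assoc, reassoc_of% he,
      ← Scheme.residue_residueFieldMap, reassoc_of% (residue_eqToHom hs)]
  · rintro ⟨hs, e, he⟩
    let e' : X.presheaf.stalk (genericPoint ↥X) ≅ Y.presheaf.stalk (genericPoint ↥Y) :=
      asIso (X.residue _) ≪≫ e ≪≫ (asIso (Y.residue _)).symm
    have he' : sX.stalkMap (genericPoint ↥X) ≫ e'.hom =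
        eqToHom (congrArg S.presheaf.stalk hs) ≫ sY.stalkMap (genericPoint ↥Y) := by
      rw [Iso.trans_hom, Iso.trans_hom, asIso_hom, Iso.symm_hom, asIso_inv,
        ← Scheme.residue_residueFieldMap_assoc, reassoc_of% he, ← reassoc_of% (residue_eqToHom hs),
        Scheme.residue_residueFieldMap_assoc, IsIso.hom_inv_id, Category.comp_id]
    obtain ⟨U, hxU, f, hf, hfS⟩ := spread_out_of_isGermInjective sX sY hs e'.inv (by
      rw [Iso.comp_inv_eq, Category.assoc, he', ← Category.assoc,
        Groth.Agent.MorLib.BiratOver.stalkSpecializes_comp_eqToHom S hs, Category.id_comp])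
    haveI : LocallyOfFiniteType (f ≫ sY) := by rw [hfS]; infer_instance
    haveI : LocallyOfFiniteType f := locallyOfFiniteType_of_comp f sY
    let w : (U : Scheme.{u}) := ⟨genericPoint ↥X, hxU⟩
    have hy : f w = genericPoint ↥Y := by
      have h1 := congrArg (fun k : Spec (X.presheaf.stalk (genericPoint ↥X)) ⟶ Y =>
        k (IsLocalRing.closedPoint _)) hf
      simp only [Scheme.Opens.fromSpecStalkOfMem, Scheme.Hom.comp_apply] at h1
      have h2 : ∀ {A B : CommRingCat.{u}} [IsLocalRing A] [IsLocalRing B] (k : A ⟶ B) [IsIso k],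
          Spec.map k (IsLocalRing.closedPoint B) = IsLocalRing.closedPoint A := fun {A B} _ _ k _ => by
        haveI := isLocalHom_of_isIso k
        exact IsLocalRing.comap_closedPoint k.hom
      rw [h2, h2, Scheme.fromSpecStalk_closedPoint, Scheme.fromSpecStalk_closedPoint] at h1
      exact h1.symm
    haveI : IsIso (f.stalkMap w) :=
      isIso_stalkMap_of_fromSpec f w (inv (U.ι.stalkMap w)) e'.inv hy
        (hf.trans (Category.assoc _ _ _))
    obtain ⟨V₀, hV₀, hyV, -⟩ := exists_isAffineOpen_mem_and_subset (x := f w) (U := ⊤) trivial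
    obtain ⟨U₀, hU₀, hwU, hUV⟩ := exists_isAffineOpen_mem_and_subset (x := w) (U := f ⁻¹ᵁ V₀) hyV
    haveI : Nonempty (V₀ : Scheme.{u}) := ⟨⟨_, hyV⟩⟩
    obtain ⟨U₁, V₁, h₁, hw₁, -, -, hI⟩ := Groth.Agent.MorLib.Birat.exists_isIso_resLE f (x := w)
      inferInstance hV₀ hU₀ hUV hwU (Or.inr inferInstance)
    refine Groth.Agent.MorLib.BiratOver.birationalOver_of_isIso (U := U.ι ''ᵁ U₁) (V := V₁)
      ((U.ι.isoImage U₁).inv ≫ f.resLE V₁ U₁ h₁) ⟨w, hw₁, rfl⟩ ?_
    rw [Category.assoc, Scheme.Hom.resLE_comp_ι_assoc, hfS, Scheme.Hom.isoImage_inv_ι_assoc]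

end Groth.Agent.S9681
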