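import Groth.Statements.S9682
import Groth.Agent.VarDim.IrredFibres
import Mathlib.AlgebraicGeometry.Fiber
import Mathlib.Topology.JacobsonSpace
import Mathlib.AlgebraicGeometry.Noetherian
import Mathlib.AlgebraicGeometry.ZariskisMainTheorem

set_option autoImplicit false
set_option backward.isDefEq.respectTransparency false
set_option backward.isDefEq.respectTransparency.types false
universe u
open CategoryTheory CategoryTheory.Limits AlgebraicGeometry
open Mor

namespace Groth.Agent.S9682

/-- Take f : X ⟶ Y locally of finite type and η the generic point of some irreducible component of Y.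
Three conditions turn out to coincide: (1) each point of X mapping to η is the generic point of some
irreducible component of X; (2) f is quasi-finite at every point over η; (3) f is quasi-finite at
each point over η that is generic in some irreducible component of X. Stated as (1) iff (2) together
with (1) iff (3). -/
theorem result {X Y : Scheme.{u}} (f : X ⟶ Y)
    [LocallyOfFiniteType f] (η : Y) (hη : closure {η} ∈ irreducibleComponents ↥Y) :
    ((∀ x : X, f.base x = η → closure {x} ∈ irreducibleComponents ↥X) ↔
      (∀ x : X, f.base x = η → f.QuasiFiniteAt x)) ∧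
    ((∀ x : X, f.base x = η → closure {x} ∈ irreducibleComponents ↥X) ↔
      (∀ x : X, f.base x = η → closure {x} ∈ irreducibleComponents ↥X → f.QuasiFiniteAt x)) := by
  have hcl : ∀ {Z : Scheme.{u}} (z : Z),
      closure ({z} : Set Z) ∈ irreducibleComponents ↥Z ↔ ∀ y, y ⤳ z → y = z := by
    intro Z z
    refine ⟨fun hz y hy => ?_, Groth.Agent.VarDim.closure_mem_irreducibleComponents⟩
    have hsub : closure ({z} : Set Z) ⊆ closure {y} :=
      closure_minimal (Set.singleton_subset_iff.2 hy.mem_closure) isClosed_closure
    have hsub' : closure ({y} : Set Z) ⊆ closure {z} := hz.2 isIrreducible_singleton.closure hsub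
    exact (hy.antisymm (specializes_iff_mem_closure.2 (hsub' (subset_closure rfl)))).eq
  have hηmax := (hcl η).1 hη
  let F := f.fiber η
  let ι := f.fiberι η
  have hι : ∀ w : F, f.base (ι w) = η := fun w => by
    have h : ι w ∈ f ⁻¹' {η} := f.range_fiberι η ▸ ⟨w, rfl⟩
    exact h
  have hmax : ∀ w : F, (∀ y, y ⤳ w → y = w) ↔ closure {ι w} ∈ irreducibleComponents ↥X := by
    intro w
    rw [hcl]
    constructor
    · intro h y hy
      have hfy : f.base y = η := hηmax _ (by
        have := hy.map f.continuous
        rwa [show f (ι w) = η from hι w] at this)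
      obtain ⟨v, rfl⟩ : y ∈ Set.range ι := by rw [f.range_fiberι]; exact hfy
      rw [h v (ι.isEmbedding.isInducing.specializes_iff.1 hy)]
    · intro h y hy
      exact ι.isEmbedding.injective (h _ (hy.map ι.continuous))
  have hqf : ∀ w : F, f.QuasiFiniteAt (ι w) ↔ IsOpen ({w} : Set F) := by
    intro w
    rw [Scheme.Hom.quasiFiniteAt_iff_isOpen_singleton_asFiber]
    have H : ∀ (s : Y) (x : X) (w : f.fiber s), f.fiberι s w = x →
        (IsOpen ({f.asFiber x} : Set (f.fiber (f x))) ↔ IsOpen ({w} : Set (f.fiber s))) := by
      intro s x w hw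
      obtain rfl : f x = s := by
        have h : f.fiberι s w ∈ f ⁻¹' {s} := f.range_fiberι s ▸ ⟨w, rfl⟩
        rw [hw] at h
        exact h
      rw [show w = f.asFiber x from (f.fiberι (f x)).isEmbedding.injective (hw.trans (f.fiberι_asFiber x).symm)]
    exact H η _ w rfl
  have hex : ∀ x : X, f.base x = η → ∃ w : F, ι w = x := fun x hx => by
    show x ∈ Set.range ι
    rw [f.range_fiberι]
    exact hx
  have h12 : (∀ x : X, f.base x = η → closure {x} ∈ irreducibleComponents ↥X) →
      (∀ x : X, f.base x = η → f.QuasiFiniteAt x) := by
    intro h x hx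
    obtain ⟨w, rfl⟩ := hex x hx
    rw [hqf]
    haveI : IsLocallyNoetherian F := LocallyOfFiniteType.isLocallyNoetherian (f.fiberToSpecResidueField η)
    obtain ⟨W, hW, hwW, -⟩ := exists_isAffineOpen_mem_and_subset (U := (⊤ : F.Opens)) (x := w) trivial
    haveI : IsNoetherianRing Γ(F, W) := IsLocallyNoetherian.component_noetherian ⟨W, hW⟩
    haveI : TopologicalSpace.NoetherianSpace (W : Set F) := noetherianSpace_of_isAffineOpen W hW
    have hone : ∀ c v : W, c ⤳ v → c = v := fun c v hcv =>
      Subtype.ext ((hmax v.1).2 (h _ (hι _)) _ (hcv.map continuous_subtype_val))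
    haveI : QuasiSober (W : Set F) := W.isOpenEmbedding'.quasiSober
    haveI : T1Space (W : Set F) := ⟨fun c => by
      refine closure_subset_iff_isClosed.1 fun v hv => ?_
      exact (hone c v (specializes_iff_mem_closure.2 hv)).symm⟩
    have hfin : Finite (W : Set F) := by
      have hcomp : ∀ C ∈ irreducibleComponents (W : Set F), C.Finite := fun C hC => by
        rw [← (hC.1.isGenericPoint_genericPoint (isClosed_of_mem_irreducibleComponents C hC)).def,
          closure_singleton]
        exact Set.finite_singleton _
      refine Set.finite_univ_iff.1 ?_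
      rw [← sUnion_irreducibleComponents]
      exact TopologicalSpace.NoetherianSpace.finite_irreducibleComponents.sUnion hcomp
    have hopen : IsOpen ({(⟨w, hwW⟩ : (W : Set F))} : Set (W : Set F)) := isOpen_discrete _
    have := W.isOpenEmbedding'.isOpenMap _ hopen
    rwa [Set.image_singleton] at this
  have h31 : (∀ x : X, f.base x = η → closure {x} ∈ irreducibleComponents ↥X → f.QuasiFiniteAt x) →
      (∀ x : X, f.base x = η → closure {x} ∈ irreducibleComponents ↥X) := by
    intro h x hx
    obtain ⟨w, rfl⟩ := hex x hx
    rw [← hmax]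
    have hC := irreducibleComponent_mem_irreducibleComponents w
    obtain ⟨v, hv, hvmax⟩ := Groth.Agent.VarDim.exists_generic_of_component hC
    have hvw : v ⤳ w := specializes_iff_mem_closure.2 (hv ▸ mem_irreducibleComponent)
    have hvopen : IsOpen ({v} : Set F) := (hqf v).1 (h _ (hι v) ((hmax v).1 hvmax))
    have hvcl : IsClosed ({v} : Set F) := isClosed_singleton_of_isLocallyClosed_singleton hvopen.isLocallyClosed
    obtain rfl : w = v := by
      have := hvw.mem_closed hvcl rfl
      exact this
    exact hvmax
  refine ⟨⟨h12, fun h => h31 fun x hx _ => h x hx⟩, ⟨fun h x hx _ => h12 h x hx, h31⟩⟩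

end Groth.Agent.S9682
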