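import Groth.Statements.S9685
import Groth.Agent.Approx.DimBound

set_option autoImplicit false
universe u
open CategoryTheory CategoryTheory.Limits AlgebraicGeometry
open Mor

namespace Groth.Agent.S9685

/-- Let X and Y be integral schemes with Y locally Noetherian and f : X ⟶ Y dominant and locally of
finite type. If n is the transcendence degree of the function field of X over the function field of
Y (computed on residue fields at the generic points), then dim X ≤ dim Y + n, and equality holds
when the underlying map of f is closed. -/
theorem result {X Y : Scheme.{u}} [IsIntegral X] [IsIntegral Y]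
    [IsLocallyNoetherian Y] (f : X ⟶ Y) [IsDominant f] [LocallyOfFiniteType f] (n : ℕ)
    (hn : letI := (f.residueFieldMap (genericPoint ↥X)).hom.toAlgebra
      Algebra.trdeg (Y.residueField (f.base (genericPoint ↥X))) (X.residueField (genericPoint ↥X)) = n) :
    topologicalKrullDim ↥X ≤ topologicalKrullDim ↥Y + n ∧
      (IsClosedMap f.base → topologicalKrullDim ↥X = topologicalKrullDim ↥Y + n) := by
  have h1 := Approx.DimBound.rd_of_trdeg f hn
  have hle : topologicalKrullDim ↥X ≤ topologicalKrullDim ↥Y + n := by
    refine Approx.DimBound.topologicalKrullDim_le f n fun ξ hξ => ?_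
    rw [irreducibleComponents_eq_singleton, Set.mem_singleton_iff] at hξ
    have hξg : ξ = genericPoint X := IsGenericPoint.eq hξ (genericPoint_spec X)
    rw [hξg]
    exact h1.le
  refine ⟨hle, fun hc => le_antisymm hle ?_⟩
  have h := Approx.DimBound.add_le_topologicalKrullDim f hc
  rw [h1] at h
  exact h

end Groth.Agent.S9685
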