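import Groth.Statements.S9687
import Groth.Agent.Approx.DimBound

set_option autoImplicit false
universe u
open CategoryTheory CategoryTheory.Limits AlgebraicGeometry
open Mor

namespace Groth.Agent.S9687

/-- Let S be locally Noetherian, f : X ⟶ S locally of finite type and x a point of X with image s. Let n
be the transcendence degree of κ(x) over κ(s) and let E bound the transcendence degree of κ(ξ) over
κ(f ξ) for every generic point ξ of an irreducible component of X passing through x. Then dim
O_{X,x} + n ≤ dim O_{S,s} + E. (The published statement takes E to be the maximum of these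
transcendence degrees; the statement with any upper bound E is equivalent.) -/
theorem result {X S : Scheme.{u}} [IsLocallyNoetherian S]
    (f : X ⟶ S) [LocallyOfFiniteType f] (x : X) (n E : ℕ)
    (hn : letI := (f.residueFieldMap x).hom.toAlgebra
      Algebra.trdeg (S.residueField (f.base x)) (X.residueField x) = n)
    (hE : ∀ ξ : X, closure {ξ} ∈ irreducibleComponents ↥X → ξ ⤳ x →
      letI := (f.residueFieldMap ξ).hom.toAlgebra
      Algebra.trdeg (S.residueField (f.base ξ)) (X.residueField ξ) ≤ E) :
    ringKrullDim (X.presheaf.stalk x) + n ≤ ringKrullDim (S.presheaf.stalk (f.base x)) + E := by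
  haveI := LocallyOfFiniteType.isLocallyNoetherian f
  have h1 := Approx.DimBound.rd_of_trdeg f hn
  have h2 := Approx.DimBound.codim_add_rd_le f x E fun ξ h h' =>
    Approx.DimBound.rd_le_of_trdeg f (hE ξ h h')
  rw [h1] at h2
  rw [DimFormula.ringKrullDim_stalk, DimFormula.ringKrullDim_stalk]
  exact_mod_cast h2

end Groth.Agent.S9687
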