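import Groth.Statements.S9689
import Groth.Agent.S7657
import Groth.Agent.S9236
import Groth.Agent.MorLib.UnivHomeo
import Mathlib.FieldTheory.PurelyInseparable.Basic

set_option autoImplicit false
set_option backward.isDefEq.respectTransparency false
set_option backward.isDefEq.respectTransparency.types false
universe u
open CategoryTheory CategoryTheory.Limits AlgebraicGeometry
open Mor

namespace Groth.Agent.S9689

/-- For an integral scheme X: if every local ring of X is geometrically unibranch, then the
normalization morphism X^ν ⟶ X is a universal homeomorphism. (The published statement assumes only X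
irreducible; this row takes X integral, which loses nothing since the normalization of X equals that
of its reduction.) (The quasi-compactness and quasi-separatedness binders on Spec K(X) ⟶ X always
hold; they are only needed to form the normalization.) -/
theorem result (X : Scheme.{u}) [IsIntegral X] [QuasiCompact (X.fromSpecStalk (genericPoint ↥X))] [QuasiSeparated (X.fromSpecStalk (genericPoint ↥X))]
    (hX : ∀ x : X, CAlg2.IsGeomUnibranch (X.presheaf.stalk x)) :
    FlatMor.IsUnivHomeo (Curv2.normalizationι X) := by
  let ν := Curv2.normalizationι X
  haveI : IsIntegralHom ν := inferInstanceAs (IsIntegralHom (X.fromSpecStalk (genericPoint X)).fromNormalization)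
  have hsum : ∀ x : X, ∑' x' : {x' : ↥(Curv2.normalization X) // ν.base x' = x},
          (letI := (ν.residueFieldMap x'.1).hom.toAlgebra
           ENat.card (Field.Emb (X.residueField (ν.base x'.1)) ((Curv2.normalization X).residueField x'.1))) = 1 := by
    intro x
    rw [← (S7657.result X x).2]
    exact (S9236.result _).mpr (hX x)
  have hne : ∀ (x : X) (x' : {x' : ↥(Curv2.normalization X) // ν.base x' = x}),
      1 ≤ (letI := (ν.residueFieldMap x'.1).hom.toAlgebra
           ENat.card (Field.Emb (X.residueField (ν.base x'.1)) ((Curv2.normalization X).residueField x'.1))) := by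
    intro x x'
    letI := (ν.residueFieldMap x'.1).hom.toAlgebra
    exact ENat.one_le_card_iff_nonempty _ |>.mpr ⟨default⟩
  have hsub : ∀ x : X, Subsingleton {x' : ↥(Curv2.normalization X) // ν.base x' = x} := by
    intro x
    refine ⟨fun a b => by_contra fun hab => ?_⟩
    classical
    have h := Summable.sum_le_tsum (L := SummationFilter.unconditional _) (f := fun x' : {x' : ↥(Curv2.normalization X) // ν.base x' = x} =>
      (letI := (ν.residueFieldMap x'.1).hom.toAlgebra
       ENat.card (Field.Emb (X.residueField (ν.base x'.1)) ((Curv2.normalization X).residueField x'.1))))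
      {a, b} (fun _ _ => zero_le) ⟨_, tendsto_atTop_iSup fun _ _ h => Finset.sum_le_sum_of_subset h⟩
    rw [hsum x, Finset.sum_pair hab] at h
    have h2 := le_trans (add_le_add (hne x a) (hne x b)) h
    exact absurd h2 (by decide)
  have hinj : Function.Injective ν := fun a b h =>
    congrArg Subtype.val (@Subsingleton.elim _ (hsub (ν.base b)) ⟨a, h⟩ ⟨b, rfl⟩)
  have hpi : ∀ a : ↥(Curv2.normalization X), (ν.residueFieldMap a).hom.IsPurelyInseparable := by
    intro a
    haveI := hsub (ν.base a)
    letI := (ν.residueFieldMap a).hom.toAlgebra
    have h := hsum (ν.base a)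
    rw [tsum_eq_single ⟨a, rfl⟩ (fun b hb => absurd (Subsingleton.elim b _) hb)] at h
    exact isPurelyInseparable_of_finSepDegree_eq_one (by
      rw [Field.finSepDegree, Nat.card, ← Cardinal.toNat_toENat]
      exact congrArg ENat.toNat h)
  haveI : UniversallyInjective ν := ((tfae_universallyInjective ν).out 0 2 rfl rfl).mpr ⟨hinj, hpi⟩
  haveI : Surjective ν := ⟨fun x => by
    by_contra hx
    haveI : IsEmpty {x' : ↥(Curv2.normalization X) // ν.base x' = x} := ⟨fun z => hx ⟨z.1, z.2⟩⟩
    have h := hsum x
    rw [tsum_empty] at h
    exact zero_ne_one h⟩
  exact MorLib.isUnivHomeo_of_universallyClosed ν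

end Groth.Agent.S9689
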