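import Groth.Statements.S9692
import Groth.Agent.S1616
import Mathlib.AlgebraicGeometry.Morphisms.ClosedImmersion
import Mathlib.CategoryTheory.MorphismProperty.Limits

set_option autoImplicit false
set_option backward.isDefEq.respectTransparency false
set_option backward.isDefEq.respectTransparency.types false
universe u
open CategoryTheory CategoryTheory.Limits AlgebraicGeometry
open Mor

namespace Groth.Agent.S9692

/-- A composition of H-projective morphisms (closed immersions into a projective space P^n over the
target, followed by the projection) is H-projective. -/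
theorem result {X Y Z : Scheme.{u}} (f : X ⟶ Y) (g : Y ⟶ Z)
    (hf : RelProj.IsHProjective f) (hg : RelProj.IsHProjective g) :
    RelProj.IsHProjective (f ≫ g) := by
  obtain ⟨n, i, hi, hif⟩ := hf
  obtain ⟨m, j, hj, hjg⟩ := hg
  obtain ⟨φ, hφ, hφb⟩ := Groth.Agent.S1616.result Z n m
  let a : CohB1.ProjSpaceOver n Y ⟶ CohB1.ProjSpaceOver n Z :=
    pullback.lift (pullback.fst _ _) (pullback.snd _ _ ≫ g)
      (by rw [pullback.condition, Category.assoc]; congr 1; exact specULiftZIsTerminal.hom_ext _ _)
  have ha : IsPullback a (CohB1.ProjSpaceOver.toBase n Y) (CohB1.ProjSpaceOver.toBase n Z) g := by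
    refine IsPullback.of_right ?_ (pullback.lift_snd _ _ _) (IsPullback.of_hasPullback _ _)
    have h1 : g ≫ specULiftZIsTerminal.from Z = specULiftZIsTerminal.from Y := specULiftZIsTerminal.hom_ext _ _
    rw [pullback.lift_fst, h1]
    exact IsPullback.of_hasPullback _ _
  let k : CohB1.ProjSpaceOver n Y ⟶ pullback (CohB1.ProjSpaceOver.toBase n Z) (CohB1.ProjSpaceOver.toBase m Z) :=
    pullback.lift a (CohB1.ProjSpaceOver.toBase n Y ≫ j) (by rw [ha.w, Category.assoc, hjg])
  have hk1 : k ≫ pullback.fst _ _ = a := pullback.lift_fst _ _ _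
  have hk2 : k ≫ pullback.snd _ _ = CohB1.ProjSpaceOver.toBase n Y ≫ j := pullback.lift_snd _ _ _
  have hk : IsPullback k (CohB1.ProjSpaceOver.toBase n Y)
      (pullback.snd (CohB1.ProjSpaceOver.toBase n Z) (CohB1.ProjSpaceOver.toBase m Z)) j := by
    refine IsPullback.of_right ?_ hk2 (IsPullback.of_hasPullback _ _)
    rw [hk1, hjg]
    exact ha
  haveI : IsClosedImmersion k := MorphismProperty.of_isPullback (P := @IsClosedImmersion) hk.flip hj
  haveI := hi
  haveI := hφ
  refine ⟨n * m + n + m, i ≫ k ≫ φ, inferInstance, ?_⟩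
  rw [Category.assoc, Category.assoc, hφb, reassoc_of% hk1, ha.w, reassoc_of% hif]

end Groth.Agent.S9692
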