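import Groth.Statements.S9693
import Mathlib.AlgebraicGeometry.Morphisms.ClosedImmersion
import Mathlib.CategoryTheory.MorphismProperty.Limits

set_option autoImplicit false
set_option backward.isDefEq.respectTransparency false
set_option backward.isDefEq.respectTransparency.types false
universe u
open CategoryTheory CategoryTheory.Limits AlgebraicGeometry
open Mor

namespace Groth.Agent.S9693

/-- A base change of an H-projective morphism (a closed immersion into some P^n over the base followed
by the projection) is H-projective. -/
theorem result {X S S' : Scheme.{u}} (f : X ⟶ S) (hf : RelProj.IsHProjective f)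
    (g : S' ⟶ S) : RelProj.IsHProjective (pullback.snd f g) := by
  obtain ⟨n, i, hi, hif⟩ := hf
  let k : CohB1.ProjSpaceOver n S' ⟶ CohB1.ProjSpaceOver n S :=
    pullback.lift (pullback.fst _ _) (pullback.snd _ _ ≫ g)
      (by rw [pullback.condition, Category.assoc]; congr 1; exact specULiftZIsTerminal.hom_ext _ _)
  have hk : IsPullback k (CohB1.ProjSpaceOver.toBase n S') (CohB1.ProjSpaceOver.toBase n S) g := by
    refine IsPullback.of_right ?_ (pullback.lift_snd _ _ _) (IsPullback.of_hasPullback _ _)
    have h1 : g ≫ specULiftZIsTerminal.from S = specULiftZIsTerminal.from S' := specULiftZIsTerminal.hom_ext _ _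
    rw [pullback.lift_fst, h1]
    exact IsPullback.of_hasPullback _ _
  let j : pullback f g ⟶ CohB1.ProjSpaceOver n S' := hk.lift (pullback.fst f g ≫ i) (pullback.snd f g)
    (by rw [Category.assoc, hif, pullback.condition])
  have hjs : j ≫ CohB1.ProjSpaceOver.toBase n S' = pullback.snd f g := hk.lift_snd _ _ _
  refine ⟨n, j, ?_, hjs⟩
  have hj : IsPullback (pullback.fst f g) j i k := by
    refine (IsPullback.of_bot ?_ (hk.lift_fst _ _ _).symm hk : IsPullback (pullback.fst f g) j i k)
    rw [hjs, hif]
    exact IsPullback.of_hasPullback f g
  exact MorphismProperty.of_isPullback (P := @IsClosedImmersion) hj hi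

end Groth.Agent.S9693
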