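import Groth.Statements.S9698
import Mathlib

set_option autoImplicit false
universe u
open CategoryTheory CategoryTheory.Limits AlgebraicGeometry
open Mor

namespace Groth.Agent.S9698

open AlgebraicGeometry CategoryTheory TopologicalSpace

variable {X S : Scheme.{u}} (π : X ⟶ S)

theorem exists_gens [LocallyOfFiniteType π] [CompactSpace X] [QuasiSeparatedSpace X] {V : S.Opens}
    (hV : IsAffineOpen V) (f : Γ(X, ⊤)) (hf : IsAffineOpen (X.basicOpen f)) (he : X.basicOpen f ≤ π ⁻¹ᵁ V) :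
    ∃ G : Finset Γ(X, ⊤), ∀ (W : X.Opens), W = X.basicOpen f → ∀ (e : W ≤ π ⁻¹ᵁ V) (R : Subring Γ(X, W)),
      (∀ a, π.appLE V W e a ∈ R) → (∀ g ∈ G, X.presheaf.map (homOfLE le_top).op g ∈ R) →
      (∀ y, X.presheaf.map (homOfLE le_top).op f * y = 1 → y ∈ R) → ∀ z, z ∈ R := by
  classical
  haveI := isLocalization_basicOpen_of_qcqs (U := (⊤ : X.Opens)) isCompact_univ isQuasiSeparated_univ f
  letI := (π.appLE V (X.basicOpen f) he).hom.toAlgebra
  haveI : Algebra.FiniteType Γ(S, V) Γ(X, X.basicOpen f) :=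
    HasRingHomProperty.appLE @LocallyOfFiniteType π ‹_› ⟨V, hV⟩ ⟨_, hf⟩ he
  obtain ⟨gens, hgens⟩ := Algebra.FiniteType.out (R := Γ(S, V)) (A := Γ(X, X.basicOpen f))
  choose num hnum using fun y => IsLocalization.Away.surj (S := Γ(X, X.basicOpen f)) f y
  choose g hg using hnum
  refine ⟨gens.image g, ?_⟩
  rintro W rfl e R hA hG hinv z
  let T : Subalgebra Γ(S, V) Γ(X, X.basicOpen f) := { R.toSubsemiring with algebraMap_mem' := hA }
  suffices h : T = ⊤ from (h ▸ trivial : z ∈ T)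
  rw [eq_top_iff, ← hgens, Algebra.adjoin_le_iff]
  intro y hy
  have h1 : y * (X.presheaf.map (homOfLE le_top).op f) ^ num y = X.presheaf.map (homOfLE le_top).op (g y) := hg y
  obtain ⟨w, hw⟩ : IsUnit (X.presheaf.map (homOfLE (X.basicOpen_le f)).op f) :=
    X.toRingedSpace.isUnit_res_basicOpen f
  have hu : X.presheaf.map (homOfLE (le_top : X.basicOpen f ≤ ⊤)).op f *
      ((w⁻¹ : Units Γ(X, X.basicOpen f)) : Γ(X, X.basicOpen f)) = 1 := by
    rw [show X.presheaf.map (homOfLE (le_top : X.basicOpen f ≤ ⊤)).op f = w from hw.symm]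
    exact w.mul_inv
  show y ∈ R
  have : y = X.presheaf.map (homOfLE le_top).op (g y) *
      ((w⁻¹ : Units Γ(X, X.basicOpen f)) : Γ(X, X.basicOpen f)) ^ num y := by
    rw [← h1, mul_assoc, ← mul_pow, hu, one_pow, mul_one]
  rw [this]
  exact R.mul_mem (hG _ (Finset.mem_image_of_mem g hy)) (R.pow_mem (hinv _ hu) _)

theorem isClosedImmersion_restrict {Y : Scheme.{u}} (ψ : X ⟶ Y) (O : Y.Opens) (hO : IsAffineOpen O)
    (hW : IsAffineOpen (ψ ⁻¹ᵁ O)) (h : Function.Surjective (ψ.app O)) : IsClosedImmersion (ψ ∣_ O) := by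
  haveI : IsAffine (O : Scheme.{u}) := hO
  haveI : IsAffine (ψ ⁻¹ᵁ O : Scheme.{u}) := hW
  refine IsClosedImmersion.of_surjective_of_isAffine _ ?_
  rw [morphismRestrict_appTop]
  have key : ∀ (O' : Y.Opens), O' = O → Function.Surjective (ψ.app O') := fun O' e => e ▸ h
  exact (ConcreteCategory.bijective_of_isIso (X.presheaf.map (eqToHom _).op)).2.comp (key _ O.ι_image_top)

/-- Let π : X ⟶ S be locally of finite type with X quasi-affine. Then there exist n ≥ 0 and an immersion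
i : X ⟶ A^n_S over S (affine n-space on the index type Fin n, lifted to the ambient universe). -/
theorem result {X S : Scheme.{u}} (π : X ⟶ S)
    [LocallyOfFiniteType π] [X.IsQuasiAffine] :
    ∃ (n : ℕ) (i : X ⟶ 𝔸(ULift.{u} (Fin n); S)), IsImmersion i ∧ i ≫ (𝔸(ULift.{u} (Fin n); S) ↘ S) = π := by
  classical
  haveI : CompactSpace X := inferInstance
  haveI : QuasiSeparatedSpace X := QuasiSeparatedSpace.of_isOpenEmbedding X.toSpecΓ.isOpenEmbedding
  have hpt : ∀ x : X, ∃ (V : S.Opens) (f : Γ(X, ⊤)), IsAffineOpen V ∧ IsAffineOpen (X.basicOpen f) ∧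
      x ∈ X.basicOpen f ∧ X.basicOpen f ≤ π ⁻¹ᵁ V := fun x => by
    obtain ⟨V, hV, hxV, -⟩ := exists_isAffineOpen_mem_and_subset (x := π x) (U := (⊤ : S.Opens)) trivial
    obtain ⟨_, ⟨f, hf, rfl⟩, hxf, hle⟩ :=
      TopologicalSpace.Opens.isBasis_iff_nbhd.mp (Scheme.IsQuasiAffine.isBasis_basicOpen X)
        (show x ∈ π ⁻¹ᵁ V from hxV)
    exact ⟨V, f, hV, hf, hxf, hle⟩
  choose V f hV hf hxf hle using hpt
  obtain ⟨t, ht⟩ := isCompact_univ.elim_finite_subcover (fun x => (X.basicOpen (f x) : Set X))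
    (fun x => (X.basicOpen (f x)).2) (fun x _ => Set.mem_iUnion.2 ⟨x, hxf x⟩)
  choose G hG using fun x => exists_gens π (hV x) (f x) (hf x) (hle x)
  let F : Finset Γ(X, ⊤) := t.image f ∪ t.biUnion G
  let e := F.equivFin
  let v : ULift.{u} (Fin F.card) → Γ(X, ⊤) := fun k => (e.symm k.down).1
  let A := 𝔸(ULift.{u} (Fin F.card); S)
  let ψ : X ⟶ A := AffineSpace.homOfVector π v
  have hψ : ψ ≫ (A ↘ S) = π := AffineSpace.homOfVector_over _ _
  have hF : ∀ s ∈ F, ∃ c : Γ(A, ⊤), ψ.appTop c = s := fun s hs =>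
    ⟨AffineSpace.coord S (ULift.up (e ⟨s, hs⟩)), by
      simp only [ψ, A, AffineSpace.homOfVector_appTop_coord, v, Equiv.symm_apply_apply]⟩
  choose c hc using fun x : t => hF (f x) (Finset.mem_union_left _ (Finset.mem_image_of_mem f x.2))
  let p : A ⟶ S := A ↘ S
  let O : t → A.Opens := fun x =>
    A.basicOpen (A.presheaf.map (homOfLE (le_top : p ⁻¹ᵁ V x ≤ ⊤)).op (c x))
  have hO : ∀ x, IsAffineOpen (O x) := fun x => ((hV x).preimage p).basicOpen _
  have hOle : ∀ x, O x ≤ p ⁻¹ᵁ V x := fun x => A.basicOpen_le _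
  have hOtop : ∀ x, O x ≤ A.basicOpen (c x) := fun x => by
    show A.basicOpen _ ≤ _
    rw [Scheme.basicOpen_res]
    exact inf_le_right
  have hpre : ∀ x : t, ψ ⁻¹ᵁ O x = X.basicOpen (f x) := fun x => by
    show ψ ⁻¹ᵁ A.basicOpen _ = _
    rw [Scheme.basicOpen_res, Scheme.Hom.preimage_inf, Scheme.preimage_basicOpen, ← Scheme.Hom.comp_preimage,
      hψ]
    rw [show ψ.app ⊤ (c x) = f x from hc x]
    exact inf_eq_right.2 (hle x)
  have hcl : ∀ x : t, IsClosedImmersion (ψ ∣_ O x) := fun x => by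
    refine isClosedImmersion_restrict ψ (O x) (hO x) ((hpre x).symm ▸ hf x) fun z => ?_
    have e1 : ψ ⁻¹ᵁ O x ≤ π ⁻¹ᵁ V x := (hpre x).le.trans (hle x)
    have hres : ∀ a : Γ(A, ⊤), X.presheaf.map (homOfLE (le_top : ψ ⁻¹ᵁ O x ≤ ⊤)).op (ψ.appTop a) =
        ψ.app (O x) (A.presheaf.map (homOfLE le_top).op a) := fun a =>
      (congrArg (fun φ : Γ(A, ⊤) ⟶ Γ(X, ψ ⁻¹ᵁ O x) => φ a)
        (Scheme.Hom.naturality ψ (homOfLE (le_top : O x ≤ ⊤)).op)).symm
    refine hG x (ψ ⁻¹ᵁ O x) (hpre x) e1 (ψ.app (O x)).hom.range (fun a => ?_) (fun g hg => ?_)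
      (fun y hy => ?_) z
    · refine ⟨p.appLE (V x) (O x) (hOle x) a, ?_⟩
      have h2 := Scheme.Hom.appLE_comp_appLE ψ p (V x) (O x) (ψ ⁻¹ᵁ O x) (hOle x) le_rfl
      rw [Scheme.Hom.app_eq_appLE]
      refine (congrArg (fun φ : Γ(S, V x) ⟶ Γ(X, ψ ⁻¹ᵁ O x) => φ a) h2).trans ?_
      have key : ∀ (φ : X ⟶ S) (e' : ψ ⁻¹ᵁ O x ≤ φ ⁻¹ᵁ V x), φ = π →
          φ.appLE (V x) (ψ ⁻¹ᵁ O x) e' a = π.appLE (V x) (ψ ⁻¹ᵁ O x) e1 a := fun φ e' h => by
        subst h; rfl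
      exact key _ _ hψ
    · obtain ⟨a, ha⟩ := hF g (Finset.mem_union_right _ (Finset.mem_biUnion.2 ⟨x, x.2, hg⟩))
      exact ⟨A.presheaf.map (homOfLE le_top).op a, ((hres a).symm.trans (by rw [ha]))⟩
    · obtain ⟨w, hw⟩ : IsUnit (A.presheaf.map (homOfLE (le_top : O x ≤ ⊤)).op (c x)) := by
        have h' := (A.toRingedSpace.isUnit_res_basicOpen (c x)).map
          (A.presheaf.map (homOfLE (hOtop x)).op).hom
        convert h' using 1
        exact congrArg (fun φ : Γ(A, ⊤) ⟶ Γ(A, O x) => φ (c x))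
          ((congrArg A.presheaf.map (Subsingleton.elim _ _)).trans
            (A.presheaf.map_comp (homOfLE (le_top : A.basicOpen (c x) ≤ ⊤)).op (homOfLE (hOtop x)).op))
      refine ⟨(w⁻¹ : Units _), ?_⟩
      have h1 : ψ.app (O x) w * y = 1 := by
        rw [hw, ← hres, hc x]; exact hy
      calc ψ.app (O x) (w⁻¹ : Units _) = ψ.app (O x) (w⁻¹ : Units _) * (ψ.app (O x) w * y) := by
            rw [h1, mul_one]
        _ = y := by rw [← mul_assoc, ← map_mul, Units.inv_mul, map_one, one_mul]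
  let U : A.Opens := ⨆ x, O x
  have hr : Set.range ψ ⊆ Set.range U.ι := by
    rintro _ ⟨z, rfl⟩
    rw [Scheme.Opens.range_ι]
    obtain ⟨x, hx, hz⟩ := Set.mem_iUnion₂.1 (ht (Set.mem_univ z))
    exact TopologicalSpace.Opens.mem_iSup.2 ⟨⟨x, hx⟩, show z ∈ ψ ⁻¹ᵁ O ⟨x, hx⟩ from (hpre ⟨x, hx⟩).ge hz⟩
  let ψ' := IsOpenImmersion.lift U.ι ψ hr
  have hψ' : ψ' ≫ U.ι = ψ := IsOpenImmersion.lift_fac _ _ _
  haveI : IsClosedImmersion ψ' := by
    refine (IsZariskiLocalAtTarget.iff_of_iSup_eq_top (P := @IsClosedImmersion) (fun x => U.ι ⁻¹ᵁ O x) ?_).2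
      fun x => ?_
    · rw [eq_top_iff]
      intro z _
      obtain ⟨x, hx⟩ := TopologicalSpace.Opens.mem_iSup.1 (show z.1 ∈ ⨆ x, O x from z.2)
      exact TopologicalSpace.Opens.mem_iSup.2 ⟨x, hx⟩
    · have h3 : IsClosedImmersion ((ψ' ≫ U.ι) ∣_ O x) := hψ' ▸ hcl x
      rw [morphismRestrict_comp] at h3
      haveI : IsOpenImmersion (U.ι ∣_ O x) := inferInstance
      exact @IsClosedImmersion.of_comp _ _ _ _ (U.ι ∣_ O x) h3 inferInstance
  exact ⟨F.card, ψ, hψ' ▸ inferInstance, hψ⟩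

end Groth.Agent.S9698
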