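import Groth.Statements.S9700
import Groth.Agent.MorLib.DenseValuative

set_option autoImplicit false
universe u
open CategoryTheory CategoryTheory.Limits AlgebraicGeometry
open Mor

namespace Groth.Agent.S9700

open Groth.Agent.MorLib.DenseValuative in
theorem lifts_of_unique {U X S : Scheme.{u}} (f : X ⟶ S) (h : U ⟶ X)
    (H : ∀ sq : ValuativeCommSq f, (∃ i : Spec (.of sq.K) ⟶ U, i ≫ h = sq.i₁) →
      Nonempty (Unique sq.commSq.LiftStruct)) : HasLifts f h ∧ UniqueLifts f h := by
  constructor
  · intro u V y hy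
    obtain ⟨hu⟩ := H ⟨V, U.residueField u, U.fromSpecResidueField u ≫ h, y,
      ⟨by rw [Category.assoc]; exact hy.symm⟩⟩ ⟨_, rfl⟩
    exact ⟨hu.default.l, hu.default.fac_right, hu.default.fac_left⟩
  · intro u V l₁ l₂ he h₁ h₂
    obtain ⟨hu⟩ := H ⟨V, U.residueField u, U.fromSpecResidueField u ≫ h, l₁ ≫ f,
      ⟨by rw [← h₁, Category.assoc]; rfl⟩⟩ ⟨_, rfl⟩
    exact congrArg CommSq.LiftStruct.l
      ((hu.eq_default ⟨l₁, h₁, rfl⟩).trans (hu.eq_default ⟨l₂, h₂, he.symm⟩).symm)


/-- Let f : X ⟶ S and h : U ⟶ X be quasi-compact with h(U) dense in X. Suppose each valuative square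
over f, whose map Spec K ⟶ X factors through h, has a unique diagonal lift. Then f is universally
closed, and f is also separated provided it is quasi-separated. -/
theorem result {U X S : Scheme.{u}} (f : X ⟶ S) (h : U ⟶ X)
    [QuasiCompact f] [QuasiCompact h] (hd : DenseRange h.base)
    (H : ∀ sq : ValuativeCommSq f, (∃ i : Spec (.of sq.K) ⟶ U, i ≫ h = sq.i₁) →
      Nonempty (Unique sq.commSq.LiftStruct)) :
    UniversallyClosed f ∧ (QuasiSeparated f → IsSeparated f) := by
  obtain ⟨HE, HU⟩ := lifts_of_unique f h H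
  exact ⟨UniversallyClosed.of_valuativeCriterion f
      (Groth.Agent.MorLib.DenseValuative.existence_of_dense f h hd HE HU),
    fun _ => Groth.Agent.MorLib.DenseValuative.isSeparated_of_uniqueLifts f h hd HU⟩

end Groth.Agent.S9700
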