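import Groth.Statements.S9702
import Groth.Agent.Triage.GenFinite
import Mathlib.AlgebraicGeometry.Morphisms.Separated
import Mathlib.AlgebraicGeometry.ZariskisMainTheorem

set_option autoImplicit false
universe u
open CategoryTheory CategoryTheory.Limits AlgebraicGeometry
open Mor

set_option backward.isDefEq.respectTransparency false
set_option backward.isDefEq.respectTransparency.types false
namespace Groth.Agent.S9702

/-- Let X, Y be integral and f : X ⟶ Y dominant and locally of finite type, with ξ the generic point of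
X (so f ξ is the generic point of Y). Then the following are equivalent: the residue field of ξ is
finite over that of f ξ; some nonempty affine opens U ⊆ X and V ⊆ Y with f(U) ⊆ V have U ⟶ V finite;
every point of X that f sends to the generic point of Y equals ξ. Under the extra assumption that f
is quasi-compact or separated, these are also equivalent to: f⁻¹(V) ⟶ V is finite for some nonempty
affine open V ⊆ Y. (The published statement also lists transcendence degree 0 of the function field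
extension, which for this finitely generated extension is equivalent to finiteness; this row omits
it.) -/
theorem result {X Y : Scheme.{u}} [IsIntegral X] [IsIntegral Y] (f : X ⟶ Y)
    [IsDominant f] [LocallyOfFiniteType f] :
    let ξ := genericPoint ↥X
    let A := letI := (f.residueFieldMap ξ).hom.toAlgebra
      Module.Finite (Y.residueField (f.base ξ)) (X.residueField ξ)
    let B := ∃ (U : X.Opens) (V : Y.Opens) (hUV : U ≤ f ⁻¹ᵁ V), IsAffineOpen U ∧ IsAffineOpen V ∧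
      Nonempty ↥U ∧ IsFinite (f.resLE V U hUV)
    let C := ∀ x : X, f.base x = genericPoint ↥Y → x = ξ
    let D := ∃ V : Y.Opens, IsAffineOpen V ∧ Nonempty ↥V ∧ IsFinite (f ∣_ V)
    (A ↔ B) ∧ (A ↔ C) ∧ (IsSeparated f ∨ QuasiCompact f → (A ↔ D)) := by
  intro ξ A B C D
  have hξη : f ξ = genericPoint ↥Y := Groth.Agent.Triage.GenFinite.map_genericPoint f
  have hFX : IsField (X.presheaf.stalk ξ) := Groth.Agent.Triage.GenFinite.isField_stalk rfl
  have hFY : IsField (Y.presheaf.stalk (f ξ)) := Groth.Agent.Triage.GenFinite.isField_stalk hξη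
  have hAs : A ↔ (f.stalkMap ξ).hom.Finite := Groth.Agent.Triage.GenFinite.finite_residue_iff f hFX hFY
  have hAq : A ↔ f.QuasiFiniteAt ξ := hAs.trans (Groth.Agent.Triage.GenFinite.finite_stalkMap_iff f ξ hFY)
  have hAC : A → C := fun hA x hx => by
    have hcl := (hAq.1 hA).isClopen_singleton_asFiber.isClosed
    have hx' : f x = f ξ := hx.trans hξη.symm
    let p : f.fiber (f ξ) := (f.fiberHomeo (f ξ)).symm ⟨x, hx'⟩
    have hsp : f.asFiber ξ ⤳ p := by
      rw [← (f.fiberι (f ξ)).isEmbedding.isInducing.specializes_iff, Scheme.Hom.fiberι_asFiber,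
        Scheme.Hom.fiberι_fiberHomeo_symm]
      exact genericPoint_specializes x
    have h1 : p = f.asFiber ξ := hsp.mem_closed hcl rfl
    have h2 := congrArg (f.fiberι (f ξ)) h1
    rwa [Scheme.Hom.fiberι_asFiber, Scheme.Hom.fiberι_fiberHomeo_symm] at h2
  have hCA : C → A := fun hC => by
    rw [hAq, Scheme.Hom.quasiFiniteAt_iff_isOpen_singleton_asFiber]
    haveI : Subsingleton (f ⁻¹' {f ξ}) := ⟨fun a b => Subtype.ext
      ((hC a.1 ((show f a.1 = f ξ from a.2).trans hξη)).trans (hC b.1 ((show f b.1 = f ξ from b.2).trans hξη)).symm)⟩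
    haveI : Subsingleton (f.fiber (f ξ)) := (f.fiberHomeo (f ξ)).toEquiv.subsingleton
    exact isOpen_discrete _
  have hBA : B → A := by
    rintro ⟨U, V, hUV, -, -, ⟨⟨x, hx⟩⟩, hfin⟩
    have hξU : ξ ∈ U := (genericPoint_specializes x).mem_open U.isOpen hx
    haveI := hfin
    haveI : LocallyQuasiFinite (U.ι ≫ f) := by
      rw [← Scheme.Hom.resLE_comp_ι f hUV]; infer_instance
    haveI : LocallyOfFiniteType (U.ι ≫ f) := inferInstance
    refine hAq.2 ?_
    have := (U.ι ≫ f).quasiFiniteAt ⟨ξ, hξU⟩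
    rwa [Scheme.Hom.quasiFiniteAt_comp_iff_of_isOpenImmersion] at this
  have hAB : A → B := fun hA => by
    obtain ⟨V, hV, hηV, -⟩ := exists_isAffineOpen_mem_and_subset (x := f ξ) (U := ⊤) trivial
    obtain ⟨U, hU, hξU, hUV⟩ := exists_isAffineOpen_mem_and_subset (x := ξ) (U := f ⁻¹ᵁ V) hηV
    replace hUV : U ≤ f ⁻¹ᵁ V := hUV
    haveI : Nonempty V := ⟨⟨_, hηV⟩⟩
    obtain ⟨a, ha, hgood⟩ := Groth.Agent.Triage.GenFinite.exists_good f (hAs.1 hA) hV hU hUV hξU
    obtain ⟨e, hfin⟩ := hgood a dvd_rfl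
    refine ⟨_, _, e, hU.basicOpen _, hV.basicOpen a, ⟨⟨ξ, ?_⟩⟩, hfin⟩
    rw [Scheme.Hom.appLE, CommRingCat.comp_apply, Scheme.basicOpen_res, ← Scheme.Hom.preimage_basicOpen]
    refine ⟨hξU, ?_⟩
    show f ξ ∈ Y.basicOpen a
    rw [hξη]
    refine (RingedSpace.mem_basicOpen Y.toRingedSpace a _ (hξη ▸ hηV)).2 ?_
    refine (isUnit_iff_ne_zero (G₀ := Y.functionField)).2 fun h => ha ?_
    exact germ_injective_of_isIntegral Y _ _ (h.trans (map_zero _).symm)
  have hDB : D → B := by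
    rintro ⟨V, hV, ⟨⟨v, hv⟩⟩, hfin⟩
    haveI := hfin
    refine ⟨f ⁻¹ᵁ V, V, le_rfl, ?_, hV, ⟨⟨ξ, ?_⟩⟩, ?_⟩
    · haveI : IsAffine V.toScheme := hV
      exact isAffine_of_isAffineHom (f ∣_ V)
    · show f ξ ∈ V
      rw [hξη]; exact (genericPoint_specializes v).mem_open V.isOpen hv
    · rw [Scheme.Hom.resLE_eq_morphismRestrict]; exact hfin
  refine ⟨⟨hAB, hBA⟩, ⟨hAC, hCA⟩, fun hsep => ⟨fun hA => ?_, fun hD => hBA (hDB hD)⟩⟩
  -- A → D
  classical
  obtain ⟨V, hV, hηV, -⟩ := exists_isAffineOpen_mem_and_subset (x := f ξ) (U := ⊤) trivial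
  haveI : Nonempty V := ⟨⟨_, hηV⟩⟩
  have hmemD : ∀ a : Γ(Y, V), a ≠ 0 → f ξ ∈ Y.basicOpen a := fun a ha => by
    rw [hξη]
    refine (RingedSpace.mem_basicOpen Y.toRingedSpace a _ (hξη ▸ hηV)).2 ?_
    refine (isUnit_iff_ne_zero (G₀ := Y.functionField)).2 fun h => ha ?_
    exact germ_injective_of_isIntegral Y _ _ (h.trans (map_zero _).symm)
  obtain ⟨U₁, hU₁, hξU₁, hU₁V⟩ := exists_isAffineOpen_mem_and_subset (x := ξ) (U := f ⁻¹ᵁ V) hηV
  replace hU₁V : U₁ ≤ f ⁻¹ᵁ V := hU₁V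
  obtain ⟨a₁, ha₁, hgood₁⟩ := Groth.Agent.Triage.GenFinite.exists_good f (hAs.1 hA) hV hU₁ hU₁V hξU₁
  suffices h : ∃ a : Γ(Y, V), a ≠ 0 ∧ a₁ ∣ a ∧ f ⁻¹ᵁ Y.basicOpen a ≤ U₁ by
    obtain ⟨a, ha, hdvd, hle⟩ := h
    obtain ⟨e, hfin⟩ := hgood₁ a hdvd
    refine ⟨_, hV.basicOpen a, ⟨⟨_, hmemD a ha⟩⟩,
      Groth.Agent.Triage.GenFinite.isFinite_morphismRestrict_of_eq f e (le_antisymm e ?_) hfin⟩
    intro x hx
    rw [Scheme.Hom.appLE, CommRingCat.comp_apply, Scheme.basicOpen_res, ← Scheme.Hom.preimage_basicOpen]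
    exact ⟨hle hx, hx⟩
  rcases hsep with hsep | hqc
  · refine ⟨a₁, ha₁, dvd_rfl, ?_⟩
    obtain ⟨e, hfin⟩ := hgood₁ a₁ dvd_rfl
    set T := X.basicOpen (f.appLE V U₁ hU₁V a₁) with hT
    let j := X.homOfLE e
    haveI : IsFinite (j ≫ f ∣_ Y.basicOpen a₁) := hfin
    haveI : IsFinite j := IsFinite.of_comp j (f ∣_ Y.basicOpen a₁)
    have hξT : ξ ∈ T := by
      rw [hT, Scheme.Hom.appLE, CommRingCat.comp_apply, Scheme.basicOpen_res, ← Scheme.Hom.preimage_basicOpen]
      exact ⟨hξU₁, hmemD a₁ ha₁⟩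
    intro x hx
    have hcl : IsClosed (Set.range j) := j.isClosedMap.isClosed_range
    have hsp : (⟨ξ, e hξT⟩ : (f ⁻¹ᵁ Y.basicOpen a₁).toScheme) ⤳ ⟨x, hx⟩ :=
      (subtype_specializes_iff _ _).2 (genericPoint_specializes x)
    obtain ⟨t, ht⟩ := hsp.mem_closed hcl ⟨⟨ξ, hξT⟩, Subtype.ext (by simp [j])⟩
    have hxt : t.1 = x := by
      have := congrArg Subtype.val ht
      simpa [j] using this
    exact X.basicOpen_le _ (hxt ▸ t.2)
  · haveI := hqc
    obtain ⟨s₀, hs₀, hsV⟩ := (isCompact_and_isOpen_iff_finite_and_eq_biUnion_affineOpens (U := (f ⁻¹ᵁ V : Set X))).1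
      ⟨f.isCompact_preimage hV.isCompact, (f ⁻¹ᵁ V).isOpen⟩
    obtain ⟨s, rfl⟩ := hs₀.exists_finset_coe
    have hle : ∀ U ∈ s, (U.1 : X.Opens) ≤ f ⁻¹ᵁ V := fun U hU x hx => by
      show x ∈ (f ⁻¹ᵁ V : Set X)
      rw [hsV]
      exact Set.mem_iUnion₂.2 ⟨U, hU, hx⟩
    have hgood : ∀ U : s, ∃ a : Γ(Y, V), a ≠ 0 ∧ ∀ a', a ∣ a' →
        ∃ e : X.basicOpen (f.appLE V U.1.1 (hle U.1 U.2) a') ≤ f ⁻¹ᵁ Y.basicOpen a',
          IsClosedMap (f.resLE (Y.basicOpen a') (X.basicOpen (f.appLE V U.1.1 (hle U.1 U.2) a')) e) := by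
      rintro ⟨U, hU⟩
      rcases (U.1 : Set X).eq_empty_or_nonempty with he | ⟨x, hx⟩
      · refine ⟨1, one_ne_zero, fun a' _ => ⟨fun x hx => ?_, fun Z hZ => ?_⟩⟩
        · exact absurd (X.basicOpen_le _ hx) (fun h => (Set.mem_empty_iff_false x).1 (he ▸ h))
        · have : Z = ∅ := Set.eq_empty_of_forall_notMem fun z _ =>
            (Set.mem_empty_iff_false z.1).1 (he ▸ X.basicOpen_le _ z.2)
          rw [this, Set.image_empty]; exact isClosed_empty
      · obtain ⟨a, ha, h⟩ := Groth.Agent.Triage.GenFinite.exists_good f (hAs.1 hA) hV U.2 (hle U hU)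
          ((genericPoint_specializes x).mem_open U.1.isOpen hx)
        exact ⟨a, ha, fun a' h' => ⟨(h a' h').1, haveI := (h a' h').2; Scheme.Hom.isClosedMap _⟩⟩
    choose b hb hgood using hgood
    let a₀ := a₁ * ∏ U : s, b U
    have ha₀ : a₀ ≠ 0 := mul_ne_zero ha₁ (Finset.prod_ne_zero_iff.2 fun U _ => hb U)
    let W := Y.basicOpen a₀
    -- the images of the complement of U₁
    have hcl : ∀ U : s, ∃ O : Y.Opens, f ξ ∈ O ∧ ∀ x ∈ U.1.1, x ∉ U₁ → f x ∈ W → f x ∉ O := by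
      intro U
      obtain ⟨e, hmap⟩ := hgood U a₀ ((Finset.dvd_prod_of_mem b (Finset.mem_univ U)).mul_left a₁)
      let T := X.basicOpen (f.appLE V U.1.1 (hle U.1 U.2) a₀)
      let g := f.resLE W T e
      have hg : ∀ t : T, (g t).1 = f t.1 := fun t => by
        have h1 : (g ≫ W.ι) t = (T.ι ≫ f) t := by rw [Scheme.Hom.resLE_comp_ι]
        rwa [Scheme.Hom.comp_apply, Scheme.Hom.comp_apply] at h1
      have hC := hmap _ (U₁.isOpen.isClosed_compl.preimage (continuous_subtype_val (p := (· ∈ T))))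
      obtain ⟨O, hO, hOC⟩ := isOpen_induced_iff.1 hC.isOpen_compl
      refine ⟨⟨O, hO⟩, ?_, fun x hxU hx₁ hxW hxO => ?_⟩
      · have : (⟨f ξ, hmemD a₀ ha₀⟩ : W) ∈ Subtype.val ⁻¹' O := by
          rw [hOC]
          rintro ⟨t, ht, hte⟩
          refine ht ?_
          rw [hAC hA t.1 ((hg t).symm.trans ((congrArg Subtype.val hte).trans hξη))]
          exact hξU₁
        exact this
      · have hxT : x ∈ T := by
          show x ∈ X.basicOpen (f.appLE V U.1.1 _ a₀)
          rw [Scheme.Hom.appLE, CommRingCat.comp_apply, Scheme.basicOpen_res, ← Scheme.Hom.preimage_basicOpen]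
          exact ⟨hxU, hxW⟩
        have : (g ⟨x, hxT⟩) ∈ Subtype.val ⁻¹' O := by
          show (g ⟨x, hxT⟩).1 ∈ O
          rw [hg]; exact hxO
        rw [hOC] at this
        exact this ⟨⟨x, hxT⟩, hx₁, rfl⟩
    choose O hξO hO using hcl
    have hmem : f ξ ∈ W ⊓ Finset.univ.inf O := by
      refine ⟨hmemD a₀ ha₀, ?_⟩
      induction (Finset.univ : Finset s) using Finset.induction with
      | empty => simp
      | insert U t _ ih => rw [Finset.inf_insert]; exact ⟨hξO U, ih⟩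
    obtain ⟨c, hcle, hc⟩ := hV.exists_basicOpen_le (V := W ⊓ Finset.univ.inf O) ⟨f ξ, hmem⟩ hηV
    have hc0 : c ≠ 0 := by
      rintro rfl
      rw [Scheme.basicOpen_zero] at hc
      exact hc
    refine ⟨a₀ * c, mul_ne_zero ha₀ hc0, (dvd_mul_right a₁ _).mul_right c, fun x hx => ?_⟩
    by_contra hx₁
    have hx' : f x ∈ Y.basicOpen c := by
      have : f x ∈ Y.basicOpen (a₀ * c) := hx
      rw [Scheme.basicOpen_mul] at this
      exact this.2
    have hxV : x ∈ (f ⁻¹ᵁ V : Set X) := Y.basicOpen_le c hx'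
    rw [hsV] at hxV
    obtain ⟨U, hU, hxU⟩ := Set.mem_iUnion₂.1 hxV
    exact hO ⟨U, hU⟩ x hxU hx₁ (hcle hx').1 ((Finset.inf_le (Finset.mem_univ _) : _ ≤ O ⟨U, hU⟩) (hcle hx').2)

end Groth.Agent.S9702
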