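import Groth.Statements.S9703
import Mathlib.RingTheory.AdjoinRoot
import Mathlib.RingTheory.Ideal.GoingUp

set_option backward.isDefEq.respectTransparency false
set_option backward.isDefEq.respectTransparency.types false
set_option linter.style.haveILetI false
-- import your own Groth.Agent.* helpers here

set_option autoImplicit false
universe u
open CategoryTheory CategoryTheory.Limits AlgebraicGeometry
open Mor

namespace Groth.Agent.S9703

open Polynomial TensorProduct

/-- A monic polynomial splits over a finite free extension with injective structure map. -/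
theorem exists_split : ∀ (d : ℕ) (A : Type u) [CommRing A] (P : A[X]), P.Monic → P.natDegree = d →
    ∃ (A' : Type u) (_ : CommRing A') (_ : Algebra A A'), Module.Free A A' ∧ Module.Finite A A' ∧
      Function.Injective (algebraMap A A') ∧
      ∃ α : Fin d → A', P.map (algebraMap A A') = ∏ j, (X - C (α j)) := by
  intro d
  induction d with
  | zero =>
    intro A _ P hP hd
    refine ⟨A, inferInstance, Algebra.id A, inferInstance, inferInstance, fun a b h => h, Fin.elim0, ?_⟩
    rw [hP.natDegree_eq_zero.1 hd, Polynomial.map_one, Fin.prod_univ_zero]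
  | succ d ih =>
    intro A _ P hP hd
    rcases subsingleton_or_nontrivial A with hA | hA
    · exact absurd (by rw [Subsingleton.elim P 0, natDegree_zero]) (hd.trans_ne (Nat.succ_ne_zero d))
    let A₁ := AdjoinRoot P
    haveI : Module.Free A A₁ := hP.free_adjoinRoot
    haveI : Module.Finite A A₁ := hP.finite_adjoinRoot
    have hinj : Function.Injective (algebraMap A A₁) := by
      rw [injective_iff_map_eq_zero]
      intro a ha
      by_contra hne
      have h1 : P ∣ C a := AdjoinRoot.mk_eq_zero.1 (by rw [AdjoinRoot.mk_C]; exact ha)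
      refine hP.not_dvd_of_natDegree_lt (C_ne_zero.2 hne) ?_ h1
      rw [natDegree_C, hd]; omega
    haveI : Nontrivial A₁ := hinj.nontrivial
    let P₁ := P.map (algebraMap A A₁)
    let r : A₁ := AdjoinRoot.root P
    have hroot : P₁.IsRoot r := AdjoinRoot.isRoot_root P
    have hmul := mul_divByMonic_eq_iff_isRoot.2 hroot
    have hQ : (P₁ /ₘ (X - C r)).Monic :=
      (monic_X_sub_C r).of_mul_monic_left (by rw [hmul]; exact hP.map _)
    have hQd : (P₁ /ₘ (X - C r)).natDegree = d := by
      rw [natDegree_divByMonic _ (monic_X_sub_C r), natDegree_X_sub_C, hP.natDegree_map, hd]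
      rfl
    obtain ⟨A', _, _, hfree, hfin, hinj', α, hα⟩ := ih A₁ _ hQ hQd
    letI : Algebra A A' := ((algebraMap A₁ A').comp (algebraMap A A₁)).toAlgebra
    haveI : IsScalarTower A A₁ A' := IsScalarTower.of_algebraMap_eq fun _ => rfl
    refine ⟨A', inferInstance, inferInstance, Module.Free.trans (R := A) (S := A₁),
      Module.Finite.trans (R := A) A₁ A', hinj'.comp hinj, Fin.cons (algebraMap A₁ A' r) α, ?_⟩
    rw [Fin.prod_univ_succ]
    simp only [Fin.cons_zero, Fin.cons_succ]
    rw [← hα, show algebraMap A A' = (algebraMap A₁ A').comp (algebraMap A A₁) from rfl, ← Polynomial.map_map,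
      ← map_C (algebraMap A₁ A'), ← map_X (algebraMap A₁ A'), ← Polynomial.map_sub, ← Polynomial.map_mul,
      hmul]

/-- The universal algebra for `n` roots of a monic polynomial. -/
theorem exists_univ (A : Type u) [CommRing A] (P : A[X]) (hP : P.Monic) : ∀ n : ℕ,
    ∃ (R : Type u) (_ : CommRing R) (_ : Algebra A R) (t : Fin n → R), Module.Free A R ∧ Module.Finite A R ∧
      (∀ i, aeval (t i) P = 0) ∧ Algebra.adjoin A (Set.range t) = ⊤ ∧
      ∀ (D : Type u) [CommRing D] [Algebra A D] (y : Fin n → D), (∀ i, aeval (y i) P = 0) →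
        ∃ g : R →ₐ[A] D, ∀ i, g (t i) = y i := by
  intro n
  induction n with
  | zero =>
    refine ⟨A, inferInstance, Algebra.id A, Fin.elim0, inferInstance, inferInstance, fun i => i.elim0, ?_,
      fun D _ _ y _ => ⟨Algebra.ofId A D, fun i => i.elim0⟩⟩
    exact top_le_iff.1 fun a _ => Subalgebra.algebraMap_mem (Algebra.adjoin A _) a
  | succ n ih =>
    obtain ⟨R, _, _, t, hfree, hfin, ht, hgen, huniv⟩ := ih
    let Q := P.map (algebraMap A R)
    let R' := AdjoinRoot Q
    haveI : Module.Free R R' := (hP.map _).free_adjoinRoot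
    haveI : Module.Finite R R' := (hP.map _).finite_adjoinRoot
    refine ⟨R', inferInstance, inferInstance, Fin.cons (AdjoinRoot.root Q) (fun i => algebraMap R R' (t i)),
      Module.Free.trans (R := A) (S := R), Module.Finite.trans (R := A) R R', ?_, ?_, ?_⟩
    · refine Fin.cases ?_ fun i => ?_
      · simp only [Fin.cons_zero]
        rw [← aeval_map_algebraMap R (AdjoinRoot.root Q) P, AdjoinRoot.aeval_eq, AdjoinRoot.mk_self]
      · simp only [Fin.cons_succ]
        rw [aeval_algebraMap_apply, ht, map_zero]
    · refine top_le_iff.1 fun z _ => ?_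
      obtain ⟨p, rfl⟩ := AdjoinRoot.mk_surjective z
      set U := Algebra.adjoin A (Set.range (Fin.cons (AdjoinRoot.root Q) (fun i => algebraMap R R' (t i))))
      have hR : ∀ c : R, algebraMap R R' c ∈ U := fun c => by
        have hc : c ∈ Algebra.adjoin A (Set.range t) := by rw [hgen]; trivial
        refine Algebra.adjoin_induction (p := fun c _ => algebraMap R R' c ∈ U) ?_ ?_ ?_ ?_ hc
        · rintro _ ⟨i, rfl⟩
          exact Algebra.subset_adjoin ⟨i.succ, by simp⟩
        · intro a
          rw [← IsScalarTower.algebraMap_apply]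
          exact U.algebraMap_mem a
        · intro a b _ _ ha hb
          rw [map_add]; exact U.add_mem ha hb
        · intro a b _ _ ha hb
          rw [map_mul]; exact U.mul_mem ha hb
      induction p using Polynomial.induction_on' with
      | add a b ha hb => rw [map_add]; exact U.add_mem (ha trivial) (hb trivial)
      | monomial k c =>
        rw [← C_mul_X_pow_eq_monomial, map_mul, map_pow, AdjoinRoot.mk_C, AdjoinRoot.mk_X]
        exact U.mul_mem (hR c) (U.pow_mem (Algebra.subset_adjoin ⟨0, by simp⟩) k)
    · intro D _ _ y hy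
      obtain ⟨g, hg⟩ := huniv D (fun i => y i.succ) fun i => hy i.succ
      have h0 : Q.eval₂ (g : R →+* D) (y 0) = 0 := by
        rw [eval₂_map, AlgHom.comp_algebraMap]
        exact hy 0
      refine ⟨AdjoinRoot.liftAlgHom Q g (y 0) h0, Fin.cases ?_ fun i => ?_⟩
      · simp only [Fin.cons_zero]
        exact AdjoinRoot.liftAlgHom_root _ _ _ _
      · simp only [Fin.cons_succ]
        exact (AdjoinRoot.liftAlgHom_of _ _ _ _ _).trans (hg i)

theorem comap_surjective_of_finite {A B : Type u} [CommRing A] [CommRing B] [Algebra A B] [Module.Finite A B]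
    (h : Function.Injective (algebraMap A B)) : Function.Surjective (PrimeSpectrum.comap (algebraMap A B)) := by
  intro p
  obtain ⟨Q, -, hQ, hQp⟩ := Ideal.exists_ideal_over_prime_of_isIntegral p.asIdeal (⊥ : Ideal B) (by
    rw [← RingHom.ker_eq_comap_bot, (RingHom.injective_iff_ker_eq_bot _).1 h]
    exact bot_le)
  exact ⟨⟨Q, hQ⟩, PrimeSpectrum.ext hQp⟩

theorem ker_le_of_forall_sub_mem {A R : Type u} [CommRing A] [CommRing R] [Algebra A R] {n : ℕ} {t : Fin n → R}
    (hgen : Algebra.adjoin A (Set.range t) = ⊤) (g : R →ₐ[A] A) (q : Ideal R)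
    (h : ∀ i, t i - algebraMap A R (g (t i)) ∈ q) : RingHom.ker (g : R →+* A) ≤ q := by
  intro c hc
  have key : c - algebraMap A R (g c) ∈ q := by
    have hc' : c ∈ Algebra.adjoin A (Set.range t) := by rw [hgen]; trivial
    refine Algebra.adjoin_induction (p := fun c _ => c - algebraMap A R (g c) ∈ q) ?_ ?_ ?_ ?_ hc'
    · rintro _ ⟨i, rfl⟩; exact h i
    · intro a
      rw [AlgHom.commutes, Algebra.algebraMap_self_apply, sub_self]
      exact q.zero_mem
    · intro a b _ _ ha hb
      have := q.add_mem ha hb
      rw [map_add, map_add]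
      rwa [add_sub_add_comm]
    · intro a b _ _ ha hb
      have := q.add_mem (q.mul_mem_right b ha) (q.mul_mem_left (algebraMap A R (g a)) hb)
      rw [map_mul, map_mul]
      rwa [sub_mul, mul_sub, sub_add_sub_cancel] at this
  have hc0 : g c = 0 := hc
  rwa [hc0, map_zero, sub_zero] at key

/-- Let f : Y ⟶ X be finite with X affine. Then there exist a surjective finite locally free b : X' ⟶ X,
a finite locally free c : Z' ⟶ X' and a closed immersion i of Y' = X' ×_X Y into Z' over X' such
that Z' is, as a set, the union of finitely many closed subschemes each mapping isomorphically onto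
X'. (The published statement also records that Y' ⟶ Y is surjective finite locally free, which
follows by base change; this row omits it.) -/
theorem result {X Y : Scheme.{u}} [IsAffine X] (f : Y ⟶ X)
    [IsFinite f] :
    ∃ (X' : Scheme.{u}) (b : X' ⟶ X) (Z' : Scheme.{u}) (c : Z' ⟶ X') (i : pullback f b ⟶ Z'),
      Mor2.IsFinLocFree b ∧ Surjective b ∧ Mor2.IsFinLocFree c ∧ IsClosedImmersion i ∧
      i ≫ c = pullback.snd f b ∧
      ∃ (m : ℕ) (Zj : Fin m → Scheme.{u}) (ιj : ∀ j, Zj j ⟶ Z'),
        (∀ j, IsClosedImmersion (ιj j)) ∧ (∀ j, IsIso (ιj j ≫ c)) ∧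
        (⋃ j, Set.range (ιj j).base) = Set.univ := by
  haveI : IsAffine Y := isAffine_of_isAffineHom f
  let A := Γ(X, ⊤)
  let B := Γ(Y, ⊤)
  letI : Algebra A B := f.appTop.hom.toAlgebra
  haveI : Module.Finite A B := f.finite_app ⊤ (isAffineOpen_top X)
  obtain ⟨n, x, hx⟩ := Algebra.FiniteType.iff_quotient_mvPolynomial''.1 (inferInstance : Algebra.FiniteType A B)
  let x' : Fin n → B := fun i => x (MvPolynomial.X i)
  let p : Fin n → Polynomial A := fun i => minpoly A (x' i)
  let P : Polynomial A := ∏ i, p i
  have hint : ∀ i, IsIntegral A (x' i) := fun i => IsIntegral.of_finite A _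
  have hP : P.Monic := monic_prod_of_monic _ _ fun i _ => minpoly.monic (hint i)
  have hxP : ∀ i, aeval (x' i) P = 0 := fun i => by
    rw [map_prod]
    exact Finset.prod_eq_zero (Finset.mem_univ i) (minpoly.aeval A _)
  obtain ⟨A', _, _, hfree', hfin', hinj, α, hα⟩ := exists_split P.natDegree A P hP rfl
  obtain ⟨R, _, _, t, hRfree, hRfin, ht, hgen, huniv⟩ := exists_univ A' (P.map (algebraMap A A')) (hP.map _) n
  letI : Algebra A' (B ⊗[A] A') := Algebra.TensorProduct.rightAlgebra
  obtain ⟨φ, hφ⟩ := huniv (B ⊗[A] A') (fun i => x' i ⊗ₜ[A] 1) fun i => by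
    rw [aeval_map_algebraMap, show (x' i ⊗ₜ[A] (1 : A')) = (Algebra.TensorProduct.includeLeft : B →ₐ[A] B ⊗[A] A') (x' i) from rfl,
      aeval_algHom_apply, hxP, map_zero]
  have hφs : Function.Surjective φ := by
    intro z
    have hB : ∀ b : B, b ⊗ₜ[A] (1 : A') ∈ φ.range := fun b => by
      obtain ⟨q, rfl⟩ := hx b
      induction q using MvPolynomial.induction_on with
      | C a =>
        refine ⟨algebraMap A' R (algebraMap A A' a), (φ.commutes _).trans ?_⟩
        show (1 : B) ⊗ₜ[A] algebraMap A A' a = _
        rw [← MvPolynomial.algebraMap_eq, AlgHom.commutes, Algebra.algebraMap_eq_smul_one,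
          Algebra.algebraMap_eq_smul_one, TensorProduct.smul_tmul]
      | add a b ha hb => rw [map_add, TensorProduct.add_tmul]; exact φ.range.add_mem ha hb
      | mul_X a i ha =>
        rw [map_mul, show (x a * x (MvPolynomial.X i)) ⊗ₜ[A] (1 : A') = (x a ⊗ₜ[A] (1 : A')) * (x' i ⊗ₜ[A] 1) by
          rw [Algebra.TensorProduct.tmul_mul_tmul, mul_one]]
        exact φ.range.mul_mem ha ⟨t i, hφ i⟩
    have hall : z ∈ φ.range := by
      induction z using TensorProduct.induction_on with
      | zero => exact φ.range.zero_mem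
      | add a b ha hb => exact φ.range.add_mem ha hb
      | tmul b c =>
        rw [show b ⊗ₜ[A] c = (b ⊗ₜ[A] (1 : A')) * ((1 : B) ⊗ₜ[A] c) by
          rw [Algebra.TensorProduct.tmul_mul_tmul, mul_one, one_mul]]
        exact φ.range.mul_mem (hB b) ⟨algebraMap A' R c, φ.commutes c⟩
    exact hall
  have hψ : ∀ e : Fin n → Fin P.natDegree, ∃ g : R →ₐ[A'] A', ∀ i, g (t i) = α (e i) := fun e =>
    huniv A' (fun i => α (e i)) fun i => by
      rw [aeval_map_algebraMap, ← eval_map_algebraMap, hα, eval_prod]
      exact Finset.prod_eq_zero (Finset.mem_univ (e i)) (by simp)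
  choose g hg using hψ
  let b : Spec (CommRingCat.of A') ⟶ X := Spec.map (CommRingCat.ofHom (algebraMap A A')) ≫ X.isoSpec.inv
  have hA : IsPullback (Spec.map (CommRingCat.ofHom (Algebra.TensorProduct.includeLeftRingHom : B →+* B ⊗[A] A')) ≫ Y.isoSpec.inv)
      (Spec.map (CommRingCat.ofHom (algebraMap A' (B ⊗[A] A')))) f b := by
    refine (isPullback_SpecMap_of_isPushout _ _ _ _ (CommRingCat.isPushout_tensorProduct A B A')).of_iso
      (Iso.refl _) Y.isoSpec.symm (Iso.refl _) X.isoSpec.symm ?_ ?_ ?_ ?_
    · simp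
    · simp; rfl
    · show Spec.map f.appTop ≫ X.isoSpec.inv = Y.isoSpec.inv ≫ f
      exact Scheme.isoSpec_inv_naturality f
    · simp [b]
  let c : Spec (CommRingCat.of R) ⟶ Spec (CommRingCat.of A') := Spec.map (CommRingCat.ofHom (algebraMap A' R))
  let i := hA.isoPullback.inv ≫ Spec.map (CommRingCat.ofHom (φ : R →+* B ⊗[A] A'))
  haveI : IsClosedImmersion (Spec.map (CommRingCat.ofHom (φ : R →+* B ⊗[A] A'))) :=
    IsClosedImmersion.spec_of_surjective _ hφs
  have hfll : ∀ (S T : Type u) [CommRing S] [CommRing T] [Algebra S T] [Module.Free S T] [Module.Finite S T],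
      Mor2.IsFinLocFree (Spec.map (CommRingCat.ofHom (algebraMap S T))) := by
    intro S T _ _ _ _ _
    refine ⟨?_, ?_, ?_⟩
    · exact (IsFinite.SpecMap_iff _).2 (RingHom.finite_algebraMap.2 inferInstance)
    · exact Flat.SpecMap_iff.2 (RingHom.flat_algebraMap_iff.2 inferInstance)
    · haveI : Module.FinitePresentation S T := Module.finitePresentation_of_projective S T
      exact (HasRingHomProperty.Spec_iff (P := @LocallyOfFinitePresentation)).2
        (RingHom.finitePresentation_algebraMap.2 (Algebra.FinitePresentation.of_finitePresentation S T))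
  refine ⟨_, b, _, c, i, ?_, ?_, hfll A' R, inferInstance, ?_, ?_⟩
  · obtain ⟨h1, h2, h3⟩ := hfll A A'
    haveI := h1
    haveI := h2
    haveI := h3
    exact ⟨inferInstance, inferInstance, inferInstance⟩
  · haveI : Surjective (Spec.map (CommRingCat.ofHom (algebraMap A A'))) := ⟨comap_surjective_of_finite hinj⟩
    infer_instance
  · show (hA.isoPullback.inv ≫ _) ≫ _ = _
    rw [Category.assoc, ← Spec.map_comp, ← CommRingCat.ofHom_comp, φ.comp_algebraMap]
    exact hA.isoPullback_inv_snd
  · let e := Fintype.equivFin (Fin n → Fin P.natDegree)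
    let ι : ∀ j, Spec (CommRingCat.of A') ⟶ Spec (CommRingCat.of R) := fun j =>
      Spec.map (CommRingCat.ofHom (g (e.symm j) : R →+* A'))
    refine ⟨_, fun _ => Spec (CommRingCat.of A'), ι, fun j => ?_, fun j => ?_, ?_⟩
    · exact IsClosedImmersion.spec_of_surjective _ fun a => ⟨algebraMap A' R a, (g (e.symm j)).commutes a⟩
    · show IsIso (Spec.map _ ≫ Spec.map _)
      rw [← Spec.map_comp, ← CommRingCat.ofHom_comp, (g (e.symm j)).comp_algebraMap]
      exact inferInstanceAs (IsIso (Spec.map (𝟙 (CommRingCat.of A'))))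
    · refine Set.eq_univ_of_forall fun q => ?_
      have hex : ∀ k, ∃ j, t k - algebraMap A' R (α j) ∈ q.asIdeal := fun k => by
        have h := ht k
        rw [hα, map_prod] at h
        have h' : ∏ j, (aeval (t k)) (Polynomial.X - Polynomial.C (α j)) ∈ q.asIdeal := by rw [h]; exact q.asIdeal.zero_mem
        obtain ⟨j, -, hj⟩ := Ideal.IsPrime.prod_mem_iff.1 h'
        exact ⟨j, by simpa using hj⟩
      choose j hj using hex
      refine Set.mem_iUnion.2 ⟨e j, ?_⟩
      have hmem : (q : PrimeSpectrum R) ∈ Set.range (PrimeSpectrum.comap (g j : R →+* A')) := by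
        rw [range_comap_of_surjective _ (g j : R →+* A')
          (fun a => ⟨algebraMap A' R a, (g j).commutes a⟩)]
        exact ker_le_of_forall_sub_mem hgen (g j) q.asIdeal fun k => by rw [hg]; exact hj k
      show (q : PrimeSpectrum R) ∈ Set.range (PrimeSpectrum.comap (g (e.symm (e j)) : R →+* A'))
      rw [Equiv.symm_apply_apply]
      exact hmem

end Groth.Agent.S9703
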