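import Groth.Statements.S9706
import Groth.Agent.ProjCl17.Basic
import Groth.Agent.RelVA16.Qcqs
-- import your own Groth.Agent.* helpers here

set_option autoImplicit false
universe u
open CategoryTheory CategoryTheory.Limits AlgebraicGeometry
open Mor

set_option backward.isDefEq.respectTransparency false
set_option backward.isDefEq.respectTransparency.types false
set_option linter.style.haveILetI false
open AlgebraicGeometry CategoryTheory CategoryTheory.Limits
open Groth.Agent

namespace Groth.Agent.S9706

/-- Let S be quasi-compact and quasi-separated and f : X ⟶ S quasi-projective. Then f factors as an open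
immersion X ⟶ X' followed by a projective morphism X' ⟶ S. Here X' ⟶ S projective means isomorphic
over S to the relative Proj of a quasi-coherent graded algebra generated by its finite-type
degree-one part; the published definition uses closed subschemes of P(E) with E of finite type, an
equivalent condition. -/
theorem result {X S : Scheme.{u}} [CompactSpace ↥S]
    [QuasiSeparatedSpace ↥S] (f : X ⟶ S) (hf : RelProj.IsQuasiProjective f) :
    ∃ (X' : Scheme.{u}) (j : X ⟶ X') (g : X' ⟶ S), IsOpenImmersion j ∧ RelProj.IsProjective g ∧ j ≫ g = f := by
  haveI := hf.1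
  haveI := hf.2.1
  obtain ⟨L, -, hva⟩ := RelVA16.exists_va_of_isQuasiProjective hf
  haveI : CompactSpace X := QuasiCompact.compactSpace_of_compactSpace f
  obtain ⟨E, B, i, hft, hi, hif, -⟩ :=
    RelVA16.exists_ft_pb_of_extStep (fun U hU => QCoh.extStep_qcqs hU.isCompact) hva
  haveI := Proj16.isSeparated B.hP
  haveI : QuasiCompact (i ≫ B.p) := by rw [hif]; infer_instance
  haveI := QuasiCompact.of_comp i B.p
  obtain ⟨𝒮, P, p, chart, O1, lam, j, hgen, hft1, hP, -, hj, -, -, hjp, -⟩ :=
    RelVA16.exists_openImmersion_proj B hft i hif
  exact ⟨P, j, p, hj, ⟨𝒮, P, p, chart, Iso.refl P, hgen, hft1, hP, Category.id_comp p⟩, hjp⟩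

end Groth.Agent.S9706
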