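import Groth.Statements.S9709
import Mathlib

set_option autoImplicit false
universe u
open CategoryTheory CategoryTheory.Limits AlgebraicGeometry
open Mor

namespace Groth.Agent.S9709

/-- Let f : X ⟶ S be an integral morphism. Then every point x of X is closed in its fibre: a point of
f⁻¹(f x) specialising from x equals x. -/
theorem result {X S : Scheme.{u}} (f : X ⟶ S) [IsIntegralHom f] (x : X) :
    closure {x} ∩ f.base ⁻¹' {f.base x} = {x} := by
  have hsingle : ∀ x' : f.fiber (f x), IsClosed ({x'} : Set (f.fiber (f x))) := by
    intro x'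
    have : IsIntegralHom (f.fiberToSpecResidueField (f x)) := by
      exact inferInstanceAs (IsIntegralHom (pullback.snd f (S.fromSpecResidueField (f x))))
    have : IsAffine (f.fiber (f x)) := isAffine_of_isAffineHom (f.fiberToSpecResidueField (f x))
    have hint : (f.fiberToSpecResidueField (f x)).appTop.hom.IsIntegral :=
      (f.fiberToSpecResidueField (f x)).isIntegral_app ⊤ (isAffineOpen_top _)
    have hfld : IsField Γ(Spec (S.residueField (f x)), ⊤) :=
      (Scheme.ΓSpecIso (S.residueField (f x))).commRingCatIsoToRingEquiv.toMulEquiv.isField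
        (Field.toIsField _)
    have := hfld.nontrivial
    have hbot := Ring.isField_iff_maximal_bot.mp hfld
    have hmax : ∀ p : PrimeSpectrum Γ(f.fiber (f x), ⊤), p.asIdeal.IsMaximal := fun p =>
      Ideal.isMaximal_of_isIntegral_of_isMaximal_comap' _ hint p.asIdeal
        (by
          have hne := (Ideal.comap_isPrime (f.fiberToSpecResidueField (f x)).appTop.hom p.asIdeal).ne_top
          rw [← hbot.eq_of_le hne bot_le]; exact hbot)
    have h1 : IsClosed ({(f.fiber (f x)).isoSpec.hom x'} : Set (Spec Γ(f.fiber (f x), ⊤))) :=
      (PrimeSpectrum.isClosed_singleton_iff_isMaximal _).mpr (hmax _)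
    have h2 := h1.preimage (f.fiber (f x)).isoSpec.hom.continuous
    rwa [← Set.image_singleton, Set.preimage_image_eq _
      (f.fiber (f x)).isoSpec.hom.isOpenEmbedding.injective] at h2
  apply le_antisymm
  · rintro y ⟨hy, hfy⟩
    obtain ⟨x', hx'⟩ : x ∈ Set.range (f.fiberι (f x)) := by rw [f.range_fiberι]; rfl
    obtain ⟨y', hy'⟩ : y ∈ Set.range (f.fiberι (f x)) := by rw [f.range_fiberι]; exact hfy
    have : x' ⤳ y' := by
      rw [← (f.fiberι (f x)).isEmbedding.isInducing.specializes_iff, hx', hy']
      exact specializes_iff_mem_closure.mpr hy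
    have : y' = x' := by
      have h3 := specializes_iff_mem_closure.mp this
      rwa [(hsingle x').closure_eq, Set.mem_singleton_iff] at h3
    rw [Set.mem_singleton_iff, ← hx', ← hy', this]
  · simp [subset_closure]

end Groth.Agent.S9709
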