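import Groth.Statements.S9712
import Groth.Agent.S9695
import Groth.Agent.PnCoh.Chow.Proper

set_option autoImplicit false
set_option backward.isDefEq.respectTransparency false
set_option backward.isDefEq.respectTransparency.types false
set_option linter.style.haveILetI false
universe u
open CategoryTheory CategoryTheory.Limits AlgebraicGeometry
open Mor

namespace Groth.Agent.S9712

section
open CategoryTheory CategoryTheory.Limits AlgebraicGeometry

theorem isHQuasiProjective_of_veryAmplePn {A B : Scheme.{u}} (f : A ⟶ B) [QuasiCompact f] {L : A.Modules}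
    (h : RelAmple.IsRelVeryAmplePn f L) : RelProj.IsHQuasiProjective f := by
  obtain ⟨n, i, hi, hc, -⟩ := h
  haveI : IsProper (CohB1.ProjSpaceOver.toBase n B) :=
    MorphismProperty.pullback_snd _ _ (PnCoh.Chow.isProper_toSpec n _)
  haveI : QuasiCompact (i ≫ CohB1.ProjSpaceOver.toBase n B) := by
    rw [show i ≫ CohB1.ProjSpaceOver.toBase n B = f from hc]; infer_instance
  exact ⟨n, i, hi, QuasiCompact.of_comp i (CohB1.ProjSpaceOver.toBase n B), hc⟩

theorem isQuasiProjective_of_hQuasiProjective {A B : Scheme.{u}} (f : A ⟶ B) (h : RelProj.IsHQuasiProjective f) :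
    RelProj.IsQuasiProjective f := by
  obtain ⟨n, i, hi, hq, rfl⟩ := h
  haveI : IsProper (CohB1.ProjSpaceOver.toBase n B) :=
    MorphismProperty.pullback_snd _ _ (PnCoh.Chow.isProper_toSpec n _)
  haveI : QuasiCompact (i ≫ CohB1.ProjSpaceOver.toBase n B) := inferInstance
  exact ⟨inferInstance, inferInstance, _,
    S9695.isRelAmple_of_veryAmplePn _ ⟨n, i, hi, rfl, ⟨Iso.refl _⟩⟩⟩

theorem isHQuasiProjective_of_iso {A B A' B' : Scheme.{u}} (p : A ⟶ B) (p' : A' ⟶ B')
    (e : Arrow.mk p ≅ Arrow.mk p') (h : RelProj.IsHQuasiProjective p) : RelProj.IsHQuasiProjective p' := by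
  obtain ⟨n, i, hi, hq, hc⟩ := h
  let π := CohB1.ProjSpace.toSpec n (ULift.{u} ℤ)
  let eB : B ⟶ B' := e.hom.right
  let m : CohB1.ProjSpaceOver n B ⟶ CohB1.ProjSpaceOver n B' :=
    pullback.map π (specULiftZIsTerminal.from B) π (specULiftZIsTerminal.from B') (𝟙 _) eB (𝟙 _)
      (by simp) (specULiftZIsTerminal.hom_ext _ _)
  haveI : IsIso eB := inferInstanceAs (IsIso e.hom.right)
  haveI : IsIso m := pullback.map_isIso _ _ _ _ _ _ _ _ _
  let a : A' ⟶ A := e.inv.left
  haveI : IsIso a := inferInstanceAs (IsIso e.inv.left)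
  refine ⟨n, a ≫ i ≫ m, inferInstance, inferInstance, ?_⟩
  have hm : m ≫ CohB1.ProjSpaceOver.toBase n B' = CohB1.ProjSpaceOver.toBase n B ≫ eB := pullback.lift_snd _ _ _
  rw [Category.assoc, Category.assoc, hm, ← Category.assoc i, hc]
  have hw : a ≫ p = p' ≫ e.inv.right := e.inv.w
  rw [← Category.assoc, hw, Category.assoc]
  have hinv : e.inv.right ≫ eB = 𝟙 B' := by
    rw [← Arrow.comp_right, e.inv_hom_id]; rfl
  rw [hinv, Category.comp_id]

end


/-- A morphism f : X ⟶ S is locally quasi-projective (S is covered by opens U with f⁻¹(U) ⟶ U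
quasi-projective) if and only if S is covered by opens U such that f⁻¹(U) ⟶ U is H-quasi-projective
(a quasi-compact immersion into some P^n_U followed by the projection). -/
theorem result {X S : Scheme.{u}} (f : X ⟶ S) :
    (∀ s : S, ∃ U : S.Opens, s ∈ U ∧ RelProj.IsQuasiProjective (f ∣_ U)) ↔
      (∀ s : S, ∃ U : S.Opens, s ∈ U ∧ RelProj.IsHQuasiProjective (f ∣_ U)) := by
  constructor
  · intro h s
    obtain ⟨U, hsU, hft, hqc, L, hL⟩ := h s
    haveI := hft
    haveI := hqc
    haveI : IsSeparated (f ∣_ U) := AmpleX.isSeparated_of_ampleOn fun x =>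
      AmpleX.ampleOn_of_isRelAmple hL ((f ∣_ U) x)
    obtain ⟨ι, V, hV, hj⟩ := (S9695.result (f ∣_ U) L (AmpleX.isInvertible_of_isRelAmple hL)).1 hL
    obtain ⟨j, hsj⟩ := TopologicalSpace.Opens.mem_iSup.1
      (show (⟨s, hsU⟩ : U.toScheme) ∈ ⨆ j, V j from hV.ge trivial)
    obtain ⟨d, -, hva⟩ := hj j
    haveI : QuasiCompact (f ∣_ U ∣_ V j) := IsZariskiLocalAtTarget.restrict (P := @QuasiCompact) hqc (V j)
    exact ⟨U.ι ''ᵁ V j, ⟨⟨s, hsU⟩, hsj, rfl⟩, isHQuasiProjective_of_iso _ _ (morphismRestrictRestrict f U (V j))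
      (isHQuasiProjective_of_veryAmplePn _ hva)⟩
  · intro h s
    obtain ⟨U, hsU, hU⟩ := h s
    exact ⟨U, hsU, isQuasiProjective_of_hQuasiProjective _ hU⟩

end Groth.Agent.S9712
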