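import Groth.Statements.S9713
import Groth.Agent.ProjCl17.Basic
-- import your own Groth.Agent.* helpers here

set_option autoImplicit false
universe u
open CategoryTheory CategoryTheory.Limits AlgebraicGeometry
open Mor

set_option backward.isDefEq.respectTransparency false
set_option backward.isDefEq.respectTransparency.types false
set_option linter.style.haveILetI false
open AlgebraicGeometry CategoryTheory CategoryTheory.Limits
open Groth.Agent

namespace Groth.Agent.S9713

/-- A base change of a locally projective morphism (every point of the base has an open neighbourhood U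
with f⁻¹(U) ⟶ U projective) is locally projective. Here f⁻¹(U) ⟶ U projective means isomorphic over
U to the relative Proj of a quasi-coherent graded algebra generated by its finite-type degree-one
part; the published definition uses closed subschemes of P(E) with E of finite type, an equivalent
condition. -/
theorem result {X S S' : Scheme.{u}} (f : X ⟶ S) (hf : RelProj.IsLocallyProjective f)
    (g : S' ⟶ S) : RelProj.IsLocallyProjective (pullback.snd f g) := by
  intro s'
  obtain ⟨U, hs, hU⟩ := hf (g s')
  refine ⟨g ⁻¹ᵁ U, hs, ?_⟩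
  let p := pullback.fst f g
  let q := pullback.snd f g
  have hle : q ⁻¹ᵁ (g ⁻¹ᵁ U) ≤ p ⁻¹ᵁ (f ⁻¹ᵁ U) := fun z hz => by
    show f (p z) ∈ U
    rw [← Scheme.Hom.comp_apply, pullback.condition, Scheme.Hom.comp_apply]
    exact hz
  have hsq : IsPullback (p.resLE (f ⁻¹ᵁ U) (q ⁻¹ᵁ (g ⁻¹ᵁ U)) hle) (q ∣_ (g ⁻¹ᵁ U)) (f ∣_ U)
      (g.resLE U (g ⁻¹ᵁ U) le_rfl) := by
    refine IsPullback.of_right ?_ ?_ (isPullback_morphismRestrict f U).flip
    · rw [Scheme.Hom.resLE_comp_ι, Scheme.Hom.resLE_comp_ι]
      exact (isPullback_morphismRestrict q (g ⁻¹ᵁ U)).flip.paste_horiz (IsPullback.of_hasPullback f g)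
    · rw [← cancel_mono U.ι]
      simp only [Category.assoc, morphismRestrict_ι, Scheme.Hom.resLE_comp_ι, Scheme.Hom.resLE_comp_ι_assoc]
      rw [morphismRestrict_ι_assoc, pullback.condition]
  exact ProjCl17.isProjective_baseChange hsq hU

end Groth.Agent.S9713
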