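import Groth.Statements.S9715
import Groth.Agent.DiffOps.Affine

set_option autoImplicit false
set_option linter.style.haveILetI false
set_option backward.isDefEq.respectTransparency false
set_option backward.isDefEq.respectTransparency.types false
set_option maxHeartbeats 1000000
universe u
open CategoryTheory CategoryTheory.Limits AlgebraicGeometry
open Opposite
open Mor

namespace Groth.Agent.S9715

/-- Let f : X ⟶ S be a morphism of affine schemes, R = Γ(S, O_S) → A = Γ(X, O_X) the corresponding ring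
map, F a quasi-coherent O_X-module and G an O_X-module, with global sections M and N. Every
differential operator M → N of order at most k relative to A over R is induced on global sections by
a differential operator F → G of order at most k relative to X over S. (The published statement
asserts that D ↦ Γ(X, D) is a bijection between the two sets of operators of order at most k; its
injectivity is not verified in the published proof and is not claimed here. Differential operators
on X/S are taken in the principal-parts sense, those of A/R in the commutator sense.) -/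
theorem result {X S : Scheme.{u}} [IsAffine X] [IsAffine S] (f : X ⟶ S)
    (F G : X.Modules) (hF : Coh.IsQCoh F) (k : ℕ) :
    letI : Algebra Γ(S, ⊤) Γ(X, ⊤) := f.appTop.hom.toAlgebra
    letI : Module Γ(S, ⊤) Γ(F, ⊤) := Module.compHom Γ(F, ⊤) f.appTop.hom
    letI : Module Γ(S, ⊤) Γ(G, ⊤) := Module.compHom Γ(G, ⊤) f.appTop.hom
    haveI : IsScalarTower Γ(S, ⊤) Γ(X, ⊤) Γ(F, ⊤) := IsScalarTower.of_algebraMap_smul fun _ _ => rfl
    haveI : IsScalarTower Γ(S, ⊤) Γ(X, ⊤) Γ(G, ⊤) := IsScalarTower.of_algebraMap_smul fun _ _ => rfl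
    ∀ D' : Γ(F, ⊤) →ₗ[Γ(S, ⊤)] Γ(G, ⊤), Diff16.IsDiffOpLE Γ(S, ⊤) Γ(X, ⊤) Γ(F, ⊤) Γ(G, ⊤) k D' →
      ∃ D : F.presheaf ⟶ G.presheaf, PrinPart.IsDiffOpLE f F G k D ∧
        ∀ m : Γ(F, ⊤), (D.app (op ⊤)).hom m = D' m := by
  intro D' hD'
  obtain ⟨D, hD, hm⟩ := DiffOps.Affine.exists_op f F G k D'.toAddMonoidHom hF (by
    have he : ∀ (H : X.Modules) (r : Γ(X, ⊤)) (x : Γ(H, ⊤)),
        X.presheaf.map (homOfLE (le_top (a := (⊤ : X.Opens)))).op r • x = r • x := by
      intro H r x
      rw [Subsingleton.elim (homOfLE (le_top (a := (⊤ : X.Opens)))) (𝟙 _), op_id, CategoryTheory.Functor.map_id]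
      rfl
    have hlin : ∀ (r : Γ(S, ⊤)) (x : Γ(F, ⊤)), D' (f.appTop r • x) = f.appTop r • D' x := by
      letI : Module Γ(S, ⊤) Γ(F, ⊤) := Module.compHom Γ(F, ⊤) f.appTop.hom
      letI : Module Γ(S, ⊤) Γ(G, ⊤) := Module.compHom Γ(G, ⊤) f.appTop.hom
      exact fun r x => D'.map_smul r x
    have hsum : ∀ (b : Fin (k + 1) → Γ(X, ⊤)) (t : Γ(F, ⊤)), (∑ H ∈ (Finset.univ : Finset (Fin (k + 1))).powerset,
        ((-1 : ℤ) ^ H.card) • ((∏ i ∈ H, b i) • D' ((∏ i ∈ Finset.univ \ H, b i) • t))) = 0 := by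
      letI : Algebra Γ(S, ⊤) Γ(X, ⊤) := f.appTop.hom.toAlgebra
      letI : Module Γ(S, ⊤) Γ(F, ⊤) := Module.compHom Γ(F, ⊤) f.appTop.hom
      letI : Module Γ(S, ⊤) Γ(G, ⊤) := Module.compHom Γ(G, ⊤) f.appTop.hom
      haveI : IsScalarTower Γ(S, ⊤) Γ(X, ⊤) Γ(F, ⊤) := IsScalarTower.of_algebraMap_smul fun _ _ => rfl
      haveI : IsScalarTower Γ(S, ⊤) Γ(X, ⊤) Γ(G, ⊤) := IsScalarTower.of_algebraMap_smul fun _ _ => rfl
      exact (DiffOps.isDiffOpLE_iff_altSum k D').1 hD'
    letI := f.appTop.hom.toAlgebra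
    letI := DiffOps.Affine.topMod F ⊤
    letI := DiffOps.Affine.topMod G ⊤
    letI := DiffOps.Affine.baseMod f F ⊤
    letI := DiffOps.Affine.baseMod f G ⊤
    haveI := DiffOps.Affine.tower f F ⊤
    haveI := DiffOps.Affine.tower f G ⊤
    let D'' : Γ(F, ⊤) →ₗ[Γ(S, ⊤)] Γ(G, ⊤) :=
      { toFun := D', map_add' := map_add D'
        map_smul' := fun r x => (congrArg D' (he F _ x)).trans ((hlin r x).trans (he G _ (D' x)).symm) }
    refine ⟨D'', fun _ => rfl, ?_⟩
    rw [DiffOps.isDiffOpLE_iff_altSum]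
    intro b t
    refine Eq.trans (Finset.sum_congr rfl fun H _ => ?_) (hsum b t)
    exact congrArg _ ((he G _ _).trans (congrArg _ (congrArg D' (he F _ t)))))
  exact ⟨D, hD, hm⟩

end Groth.Agent.S9715
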