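import Groth.Statements.S9721
import Mathlib
import Groth.Agent.Triage.NhdLocal

set_option autoImplicit false
universe u
open CategoryTheory AlgebraicGeometry
open Mor

namespace Groth.Agent.S9721

/-- Let f : X ⟶ S be a morphism, x a point of X and V an affine open neighbourhood of f(x) in S. Then f
is smooth on some open neighbourhood of x if and only if there is an affine open neighbourhood U of
x with f(U) ⊆ V such that the induced ring map Γ(S, V) ⟶ Γ(X, U) is standard smooth. -/
theorem result {X S : Scheme.{u}} (f : X ⟶ S) (x : X)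
    (V : S.Opens) (hV : IsAffineOpen V) (hxV : f x ∈ V) :
    (∃ W : X.Opens, x ∈ W ∧ Smooth (W.ι ≫ f)) ↔
      ∃ (U : X.Opens) (_ : IsAffineOpen U) (_ : x ∈ U) (e : U ≤ f ⁻¹ᵁ V),
        (f.appLE V U e).hom.IsStandardSmooth := by
  constructor
  · rintro ⟨W, hxW, hW⟩
    obtain ⟨A, hA, hxA, e, hAW⟩ := Groth.Agent.Triage.NhdLocal.exists_affine f hxW hxV
    have h : RingHom.Smooth (f.appLE V A e).hom :=
      Groth.Agent.Triage.NhdLocal.ringProp_appLE (P := @Smooth) f hAW hA hV e hW
    rw [RingHom.smooth_iff_locally_isStandardSmooth,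
      RingHom.locally_iff_isLocalization RingHom.isStandardSmooth_respectsIso] at h
    obtain ⟨s, hs, h⟩ := h
    obtain ⟨r, hr, hxr⟩ := Groth.Agent.Triage.NhdLocal.exists_basic hA hxA _ hs
    haveI := hA.isLocalization_basicOpen r
    refine ⟨X.basicOpen r, hA.basicOpen r, hxr, (X.basicOpen_le r).trans e, ?_⟩
    have h2 := h r hr Γ(X, X.basicOpen r)
    rw [RingHom.algebraMap_toAlgebra] at h2
    rw [← Scheme.Hom.appLE_map f e (homOfLE (X.basicOpen_le r)).op]
    exact h2
  · rintro ⟨U, hU, hxU, e, h⟩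
    refine ⟨U, hxU, (Smooth.iff_forall_exists_isStandardSmooth _).2 fun y => ?_⟩
    haveI : IsAffine (U : Scheme.{u}) := hU
    obtain ⟨e', t, ht, h2⟩ := Groth.Agent.Triage.NhdLocal.appLE_ι f e
    refine ⟨V, hV, ⊤, isAffineOpen_top _, trivial, e', ?_⟩
    rw [h2]
    exact (RingHom.isStandardSmooth_respectsIso.cancel_right_isIso _ t).2 h

end Groth.Agent.S9721
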