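import Groth.Statements.S9722
import Mathlib
import Groth.Agent.Triage.NhdLocal

set_option autoImplicit false
universe u
open CategoryTheory AlgebraicGeometry
open Mor

namespace Groth.Agent.S9722

/-- Let f : X ⟶ S be a morphism, x a point of X and V an affine open neighbourhood of f(x) in S. Then f
is étale on some open neighbourhood of x if and only if there is an affine open neighbourhood U of x
with f(U) ⊆ V such that Γ(X, U) is a standard étale algebra over Γ(S, V) through the induced ring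
map. -/
theorem result {X S : Scheme.{u}} (f : X ⟶ S) (x : X)
    (V : S.Opens) (hV : IsAffineOpen V) (hxV : f x ∈ V) :
    (∃ W : X.Opens, x ∈ W ∧ Etale (W.ι ≫ f)) ↔
      ∃ (U : X.Opens) (_ : IsAffineOpen U) (_ : x ∈ U) (e : U ≤ f ⁻¹ᵁ V),
        letI := (f.appLE V U e).hom.toAlgebra
        Algebra.IsStandardEtale Γ(S, V) Γ(X, U) := by
  constructor
  · rintro ⟨W, hxW, hW⟩
    obtain ⟨A, hA, hxA, e, hAW⟩ := Groth.Agent.Triage.NhdLocal.exists_affine f hxW hxV
    have h : RingHom.Etale (f.appLE V A e).hom :=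
      Groth.Agent.Triage.NhdLocal.ringProp_appLE (P := @Etale) f hAW hA hV e hW
    letI := (f.appLE V A e).hom.toAlgebra
    haveI : Algebra.Etale Γ(S, V) Γ(X, A) := h
    obtain ⟨r, hr, hst⟩ := Algebra.IsEtaleAt.exists_isStandardEtale (R := Γ(S, V))
      (hA.primeIdealOf ⟨x, hxA⟩).asIdeal
    have hxr : x ∈ X.basicOpen r := by
      have : hA.primeIdealOf ⟨x, hxA⟩ ∈ hA.fromSpec ⁻¹ᵁ X.basicOpen r := by
        rw [hA.fromSpec_preimage_basicOpen]; exact hr
      have : hA.fromSpec (hA.primeIdealOf ⟨x, hxA⟩) ∈ X.basicOpen r := this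
      rwa [hA.fromSpec_primeIdealOf] at this
    haveI := hA.isLocalization_basicOpen r
    let e' : X.basicOpen r ≤ f ⁻¹ᵁ V := (X.basicOpen_le r).trans e
    letI := (f.appLE V (X.basicOpen r) e').hom.toAlgebra
    haveI : IsScalarTower Γ(S, V) Γ(X, A) Γ(X, X.basicOpen r) := IsScalarTower.of_algebraMap_eq fun a =>
      (congrArg (fun φ : Γ(S, V) ⟶ Γ(X, X.basicOpen r) => φ a)
        (Scheme.Hom.appLE_map f e (homOfLE (X.basicOpen_le r)).op)).symm
    exact ⟨X.basicOpen r, hA.basicOpen r, hxr, e', Algebra.IsStandardEtale.of_equiv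
      ((IsLocalization.algEquiv (Submonoid.powers r) (Localization.Away r)
        Γ(X, X.basicOpen r)).restrictScalars Γ(S, V))⟩
  · rintro ⟨U, hU, hxU, e, h⟩
    letI := (f.appLE V U e).hom.toAlgebra
    haveI := h
    have h' : RingHom.Etale (f.appLE V U e).hom := (inferInstance : Algebra.Etale Γ(S, V) Γ(X, U))
    haveI : IsAffine (U : Scheme.{u}) := hU
    refine ⟨U, hxU, ?_⟩
    rw [HasRingHomProperty.iff_exists_appLE (P := @Etale)
      (RingHom.Etale.stableUnderComposition.stableUnderCompositionWithLocalizationAway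
        fun {R} T _ _ _ r _ => RingHom.etale_algebraMap.2 (Algebra.Etale.of_isLocalizationAway r)).1]
    intro y
    obtain ⟨e', t, ht, h2⟩ := Groth.Agent.Triage.NhdLocal.appLE_ι f e
    refine ⟨⟨V, hV⟩, ⟨⊤, isAffineOpen_top _⟩, trivial, e', ?_⟩
    rw [h2]
    exact (RingHom.Etale.respectsIso.cancel_right_isIso _ t).2 h'

end Groth.Agent.S9722
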