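import Groth.Statements.S9724
import Mathlib
import Groth.Agent.SmoothSlice.Scheme
import Groth.Agent.SmoothSlice.Separable
import Groth.Agent.FlatDvr.FibreStalk
import Groth.Agent.FibFlat.Stalk

set_option autoImplicit false
universe u
open FlatMor

namespace Groth.Agent.S9724

open AlgebraicGeometry CategoryTheory Limits in
/-- Let f : X ⟶ S be a morphism and x a point such that f is smooth on an open neighbourhood of x, the
residue field extension κ(x)/κ(f x) is separable (formally smooth), and x is not the generic point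
of any irreducible component of the fibre over f x, i.e. (the fibre being smooth over a field near
x) the maximal ideal of the local ring of the fibre at x is nonzero. Then there are an affine open U
∋ x and a nonzerodivisor h' of Γ(X, U) vanishing at x such that the closed subscheme V(h') of U, an
effective Cartier divisor through x, is smooth over S. -/
theorem result {X S : Scheme.{u}} (f : X ⟶ S) (x : X)
    (W : X.Opens) (hxW : x ∈ W) (hW : Smooth (W.ι ≫ f))
    (hsep : letI := (f.residueFieldMap x).hom.toAlgebra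
      Algebra.FormallySmooth (S.residueField (f x)) (X.residueField x))
    (hgen : IsLocalRing.maximalIdeal ↑((f.fiber (f x)).presheaf.stalk (f.asFiber x)) ≠ ⊥) :
    ∃ (U : X.Opens) (hU : IsAffineOpen U) (hx : x ∈ U) (h' : Γ(X, U)), h' ∈ nonZeroDivisors Γ(X, U) ∧
      X.presheaf.germ U x hx h' ∈ IsLocalRing.maximalIdeal ↑(X.presheaf.stalk x) ∧
      Smooth (Spec.map (CommRingCat.ofHom (Ideal.Quotient.mk (Ideal.span {h'}))) ≫ hU.fromSpec ≫ f) := by
  let := (f.stalkMap x).hom.toAlgebra
  obtain ⟨hx', hs⟩ : f.fiberι (f x) (f.asFiber x) = x ∧ True := ⟨f.fiberι_asFiber x, trivial⟩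
  have : IsNoetherianRing ↑((f.fiber (f x)).presheaf.stalk (f.asFiber x)) := by
    have hb : f.fiberι (f x) (f.asFiber x) ∈ W := by rw [hx']; exact hxW
    have h1 : LocallyOfFiniteType (((f.fiberι (f x)) ⁻¹ᵁ W).ι ≫ f.fiberToSpecResidueField (f x)) := by
      have sq : IsPullback ((f.fiberι (f x)) ∣_ W) (((f.fiberι (f x)) ⁻¹ᵁ W).ι ≫ f.fiberToSpecResidueField (f x))
          (W.ι ≫ f) (S.fromSpecResidueField (f x)) :=
        (isPullback_morphismRestrict (f.fiberι (f x)) W).paste_vert (IsPullback.of_hasPullback f (S.fromSpecResidueField (f x)))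
      exact MorphismProperty.of_isPullback (P := @LocallyOfFiniteType) sq inferInstance
    have h2 : IsLocallyNoetherian (((f.fiberι (f x)) ⁻¹ᵁ W) : Scheme.{u}) :=
      LocallyOfFiniteType.isLocallyNoetherian (((f.fiberι (f x)) ⁻¹ᵁ W).ι ≫ f.fiberToSpecResidueField (f x))
    exact isNoetherianRing_of_ringEquiv _
      (asIso (((f.fiberι (f x)) ⁻¹ᵁ W).ι.stalkMap ⟨f.asFiber x, hb⟩)).commRingCatIsoToRingEquiv.symm
  have : IsLocalHom (algebraMap ↑(S.presheaf.stalk (f x)) ↑(X.presheaf.stalk x)) :=
    inferInstanceAs (IsLocalHom (f.stalkMap x).hom)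
  obtain ⟨h, hm, hd⟩ := SmoothSlice.exists_differential_ne_zero
    (O₀ := ↑(S.presheaf.stalk (f x))) (O := ↑(X.presheaf.stalk x))
    (FibFlat.sm (f.fiberι (f x)) (f.asFiber x) x hx') (FibFlat.surjective_sm _ _ _)
    ((FibFlat.ker_sm_fiberι f (f x) (f.asFiber x) x hx').trans (by rw [FibFlat.sm_self]; rfl)) hgen hsep
  obtain ⟨U, hU, hx, h', h1, h2, h3⟩ := SmoothSlice.exists_smooth_effCartier f x W hxW hW h hd
  exact ⟨U, hU, hx, h', h2, h1.symm ▸ hm, h3⟩

end Groth.Agent.S9724
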