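import Groth.Statements.S9727
import Groth.Agent.EtFound.LiftEtaleFib

set_option autoImplicit false
set_option backward.isDefEq.respectTransparency false
set_option backward.isDefEq.respectTransparency.types false
set_option linter.style.haveILetI false
universe u
open FlatMor

namespace Groth.Agent.S9727

open AlgebraicGeometry CategoryTheory Limits in
/-- Let f : X ⟶ S be a morphism, x a point of X with image s, and (V, v) ⟶ (X_s, x) an étale
neighbourhood of x in its fibre. Then there is an étale neighbourhood (U, u) ⟶ (X, x) whose fibre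
U_s over s admits a morphism of étale neighbourhoods (U_s, u) ⟶ (V, v) over X_s which is an open
immersion. -/
theorem result {X S V : Scheme.{u}} (f : X ⟶ S) (x : X)
    (g : V ⟶ f.fiber (f x)) [Etale g] (v : V) (hv : g v = f.asFiber x) :
    ∃ (U : Scheme.{u}) (p : U ⟶ X) (u : U) (m : (p ≫ f).fiber (f x) ⟶ V) (u' : ↑((p ≫ f).fiber (f x))),
      Etale p ∧ p u = x ∧ IsOpenImmersion m ∧ m ≫ g = MoreMor.fiberMap p f (f x) ∧
      (p ≫ f).fiberι (f x) u' = u ∧ m u' = v := by
  obtain ⟨W, h, hh, hho, ⟨l, hl⟩⟩ := Groth.Agent.EtFound.exists_etale_lift_fiber f (f x) g v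
  let c : (W.hom ≫ f).fiber (f x) ⟶ pullback W.hom (f.fiberι (f x)) :=
    pullback.lift ((W.hom ≫ f).fiberι (f x)) (MoreMor.fiberMap W.hom f (f x)) (pullback.lift_fst _ _ _).symm
  let c' : pullback W.hom (f.fiberι (f x)) ⟶ (W.hom ≫ f).fiber (f x) :=
    pullback.lift (pullback.fst _ _) (pullback.snd _ _ ≫ f.fiberToSpecResidueField (f x))
      (by rw [Category.assoc, ← f.fiber_fac, pullback.condition_assoc])
  haveI : IsIso c := by
    refine ⟨c', ?_, ?_⟩
    · apply pullback.hom_ext <;> simp [c, c', MoreMor.fiberMap, Scheme.Hom.fiberι, Scheme.Hom.fiberToSpecResidueField]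
    · apply pullback.hom_ext
      · simp [c, c', Scheme.Hom.fiberι]
      · apply pullback.hom_ext <;>
          simp [c, c', MoreMor.fiberMap, Scheme.Hom.fiberι, Scheme.Hom.fiberToSpecResidueField, pullback.condition]
  obtain ⟨u', hu'⟩ := c.surjective l
  refine ⟨W.left, W.hom, pullback.fst W.hom (f.fiberι (f x)) l, c ≫ h, u', inferInstance, ?_, inferInstance,
    ?_, ?_, ?_⟩
  · have h2 : pullback.snd W.hom (f.fiberι (f x)) l = f.asFiber x := by
      rw [← hh, Scheme.Hom.comp_apply]
      show g (h l) = _
      rw [show h l = v from hl, hv]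
    refine ((congr($(pullback.condition (f := W.hom) (g := f.fiberι (f x))).base l)).trans ?_)
    show f.fiberι (f x) (pullback.snd W.hom (f.fiberι (f x)) l) = x
    rw [h2, Scheme.Hom.fiberι_asFiber]
  · rw [Category.assoc, hh, pullback.lift_snd]
  · rw [← hu', ← Scheme.Hom.comp_apply]
    erw [pullback.lift_fst]
    rfl
  · rw [Scheme.Hom.comp_apply, hu']
    exact hl

end Groth.Agent.S9727
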