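import Groth.Statements.S9732
import Groth.Agent.UnivThick.Scheme

set_option autoImplicit false
universe u
open OmegaSh

namespace Groth.Agent.S9732

open AlgebraicGeometry CategoryTheory Limits in
/-- Let h : Z ⟶ X be formally unramified and let (i : Z ⟶ Z', h' : Z' ⟶ X) be a universal first order
thickening of Z over X. Then h' is formally unramified. -/
theorem result {Z Z' X : Scheme.{u}} (h : Z ⟶ X) [FormallyUnramified h]
    (i : Z ⟶ Z') (h' : Z' ⟶ X) (hu : OmegaSh.IsUnivThickening h i h') : FormallyUnramified h' := by
  exact Groth.Agent.UnivThick.formallyUnramified_of_isUnivThickening hu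

end Groth.Agent.S9732
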