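import Groth.Statements.S9736
import Groth.Agent.Synt29.Descent

set_option autoImplicit false
universe u
open FlatMor

namespace Groth.Agent.S9736

open AlgebraicGeometry CategoryTheory Limits in
/-- Let f : X ⟶ S be a standard syntomic morphism of affine schemes. Then f is the base change of a
morphism of finite type f₀ : X₀ ⟶ S₀ between affine schemes with S₀ of finite type over ℤ and f₀
standard syntomic. -/
theorem result {X S : Scheme.{u}} (f : X ⟶ S) [IsAffine X] [IsAffine S] (hf : Synt.IsStandardSyntomic f) :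
    ∃ (X₀ S₀ : Scheme.{u}) (f₀ : X₀ ⟶ S₀) (g : S ⟶ S₀) (g' : X ⟶ X₀), IsAffine X₀ ∧ IsAffine S₀ ∧ IsPullback g' f f₀ g ∧
      Algebra.FiniteType ℤ Γ(S₀, ⊤) ∧ LocallyOfFiniteType f₀ ∧ Synt.IsStandardSyntomic f₀ := by
  obtain ⟨R, _, n, c, F, hF, e₁, e₂, he⟩ := hf
  obtain ⟨R₀, F₀, hft, hF₀, h₀⟩ := Groth.Agent.Synt29.exists_descent hF
  haveI := hft
  obtain rfl : F = Groth.Agent.Synt29.mapPoly R₀ F₀ R := funext fun i => (hF₀ i).symm
  let A₀ := Synt.RelGCIRing R₀ n c F₀
  let ε := Groth.Agent.Synt29.baseChangeEquiv R₀ F₀ R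
  let T := TensorProduct R₀ R A₀
  let i₁ : CommRingCat.of R ⟶ CommRingCat.of T := CommRingCat.ofHom Algebra.TensorProduct.includeLeftRingHom
  let i₂ : CommRingCat.of A₀ ⟶ CommRingCat.of T :=
    CommRingCat.ofHom (Algebra.TensorProduct.includeRight (R := R₀) (A := R) (B := A₀)).toRingHom
  have hsq : IsPullback (Spec.map i₂) (Spec.map i₁) (Spec.map (CommRingCat.ofHom (algebraMap R₀ A₀)))
      (Spec.map (CommRingCat.ofHom (algebraMap R₀ R))) :=
    (isPullback_SpecMap_of_isPushout _ _ _ _ (CommRingCat.isPushout_tensorProduct R₀ R A₀)).flip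
  let eT : Spec (CommRingCat.of (Synt.RelGCIRing R n c (Groth.Agent.Synt29.mapPoly R₀ F₀ R))) ≅ Spec (CommRingCat.of T) :=
    Scheme.Spec.mapIso ε.toRingEquiv.toCommRingCatIso.op
  refine ⟨Spec (CommRingCat.of A₀), Spec (CommRingCat.of R₀), Spec.map (CommRingCat.ofHom (algebraMap R₀ A₀)),
    e₂.hom ≫ Spec.map (CommRingCat.ofHom (algebraMap R₀ R)), (e₁ ≪≫ eT).hom ≫ Spec.map i₂, inferInstance,
    inferInstance, ?_, ?_, ?_, ⟨R₀, inferInstance, n, c, F₀, h₀, Iso.refl _, Iso.refl _, by simp⟩⟩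
  · refine hsq.of_iso (e₁ ≪≫ eT).symm (Iso.refl _) e₂.symm (Iso.refl _) ?_ ?_ (by simp) (by simp)
    · simp
    · rw [← cancel_epi (e₁ ≪≫ eT).hom]
      simp only [Iso.symm_hom, Iso.hom_inv_id_assoc]
      rw [← cancel_mono e₂.hom]
      simp only [Category.assoc, Iso.inv_hom_id, Category.comp_id, Iso.trans_hom]
      rw [← he]
      congr 1
      show Spec.map _ ≫ Spec.map i₁ = _
      rw [← Spec.map_comp]
      congr 1
      ext r
      exact ε.commutes r
  · exact Algebra.FiniteType.equiv (R := ℤ) (A := R₀) hft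
      (Scheme.ΓSpecIso (CommRingCat.of R₀)).symm.commRingCatIsoToRingEquiv.toIntAlgEquiv
  · haveI : Algebra.FinitePresentation R₀ A₀ :=
      Algebra.FinitePresentation.quotient (Submodule.fg_span (Set.finite_range F₀))
    rw [HasRingHomProperty.Spec_iff (P := @LocallyOfFiniteType), CommRingCat.hom_ofHom, RingHom.finiteType_algebraMap]
    infer_instance

end Groth.Agent.S9736
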