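import Groth.Statements.S9737
import Groth.Agent.LimSm.HomIso
import Groth.Agent.ConsPropLib.NoethApprox
-- import your own Groth.Agent.* helpers here

set_option autoImplicit false
universe u
open FlatMor

namespace Groth.Agent.S9737

open AlgebraicGeometry CategoryTheory in
/-- A map to an affine scheme of finite type over `ℤ` factors through a finitely generated subring. -/
theorem exists_factor {S T : Scheme.{u}} [IsAffine T] (g : S ⟶ T) (hT : Algebra.FiniteType ℤ Γ(T, ⊤)) :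
    ∃ s : Finset Γ(S, ⊤), ∀ t, g.appTop t ∈ Algebra.adjoin ℤ (s : Set Γ(S, ⊤)) := by
  classical
  obtain ⟨⟨G, hG⟩⟩ := hT
  refine ⟨G.image g.appTop, fun t => ?_⟩
  have : (Algebra.adjoin ℤ (G : Set Γ(T, ⊤))).map g.appTop.hom.toIntAlgHom =
      Algebra.adjoin ℤ ((G.image g.appTop : Finset Γ(S, ⊤)) : Set Γ(S, ⊤)) := by
    rw [AlgHom.map_adjoin, Finset.coe_image]
    rfl
  exact this ▸ ⟨t, hG ▸ Algebra.mem_top, rfl⟩

open AlgebraicGeometry CategoryTheory in
/-- The factorisation. -/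
theorem exists_stage_hom {S T : Scheme.{u}} [IsAffine S] [IsAffine T] (g : S ⟶ T) {s : Finset Γ(S, ⊤)}
    (hs : ∀ t, g.appTop t ∈ Algebra.adjoin ℤ (s : Set Γ(S, ⊤))) :
    ∃ k : Spec (CommRingCat.of (Algebra.adjoin ℤ (s : Set Γ(S, ⊤)))) ⟶ T,
      Spec.map (CommRingCat.ofHom (Algebra.adjoin ℤ (s : Set Γ(S, ⊤))).val.toRingHom) ≫ k =
        S.isoSpec.inv ≫ g := by
  let θ : Γ(T, ⊤) →+* Algebra.adjoin ℤ (s : Set Γ(S, ⊤)) := g.appTop.hom.codRestrict _ hs
  refine ⟨Spec.map (CommRingCat.ofHom θ) ≫ T.isoSpec.inv, ?_⟩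
  rw [← Spec.map_comp_assoc, ← Scheme.isoSpec_inv_naturality]
  rfl

set_option backward.isDefEq.respectTransparency.types false in
open AlgebraicGeometry CategoryTheory Limits in
/-- Suppose P and Q are classes of morphisms of schemes preserved by arbitrary pullback, and f : X ⟶ S
is a finitely presented morphism of affine schemes. If f arises by pullback from a finite-type
morphism f₁ : X₁ ⟶ S₁ satisfying P, and also from a finite-type morphism f₂ : X₂ ⟶ S₂ satisfying Q,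
where all four schemes are affine and Γ(S₁), Γ(S₂) are finitely generated ℤ-algebras, then f arises
by pullback from a single finite-type morphism f₀ : X₀ ⟶ S₀ of affine schemes, with Γ(S₀) finitely
generated over ℤ, satisfying both P and Q. -/
theorem result (P Q : MorphismProperty Scheme.{u}) [P.IsStableUnderBaseChange] [Q.IsStableUnderBaseChange]
    {X S : Scheme.{u}} (f : X ⟶ S) [IsAffine X] [IsAffine S] [LocallyOfFinitePresentation f]
    {X₁ S₁ X₂ S₂ : Scheme.{u}} [IsAffine X₁] [IsAffine S₁] [IsAffine X₂] [IsAffine S₂]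
    (f₁ : X₁ ⟶ S₁) (g₁ : S ⟶ S₁) (g₁' : X ⟶ X₁) (h₁ : IsPullback g₁' f f₁ g₁)
    (f₂ : X₂ ⟶ S₂) (g₂ : S ⟶ S₂) (g₂' : X ⟶ X₂) (h₂ : IsPullback g₂' f f₂ g₂)
    (hS₁ : Algebra.FiniteType ℤ Γ(S₁, ⊤)) (hS₂ : Algebra.FiniteType ℤ Γ(S₂, ⊤))
    [LocallyOfFiniteType f₁] [LocallyOfFiniteType f₂] (hP : P f₁) (hQ : Q f₂) :
    ∃ (X₀ S₀ : Scheme.{u}) (f₀ : X₀ ⟶ S₀) (g : S ⟶ S₀) (g' : X ⟶ X₀), IsAffine X₀ ∧ IsAffine S₀ ∧ IsPullback g' f f₀ g ∧
      Algebra.FiniteType ℤ Γ(S₀, ⊤) ∧ LocallyOfFiniteType f₀ ∧ P f₀ ∧ Q f₀ := by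
  classical
  obtain ⟨s₁, hs₁⟩ := exists_factor g₁ hS₁
  obtain ⟨s₂, hs₂⟩ := exists_factor g₂ hS₂
  let s : Finset Γ(S, ⊤) := s₁ ∪ s₂
  obtain ⟨k₁, hk₁⟩ := exists_stage_hom g₁ (s := s) fun t =>
    Algebra.adjoin_mono (Finset.coe_subset.2 Finset.subset_union_left) (hs₁ t)
  obtain ⟨k₂, hk₂⟩ := exists_stage_hom g₂ (s := s) fun t =>
    Algebra.adjoin_mono (Finset.coe_subset.2 Finset.subset_union_right) (hs₂ t)
  let D := Groth.Agent.ConsPropLib.NoethApprox.diagram Γ(S, ⊤)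
  let c : Limits.Cone D := Groth.Agent.ConsPropLib.NoethApprox.cone Γ(S, ⊤)
  have hc : Limits.IsLimit c := Groth.Agent.ConsPropLib.NoethApprox.isLimit Γ(S, ⊤)
  haveI : ∀ i j (f : i ⟶ j), IsAffineHom (D.map f) := fun i j f =>
    Groth.Agent.ConsPropLib.NoethApprox.isAffineHom_map _ f
  haveI : ∀ i, IsAffine (D.obj i) := fun i => Groth.Agent.ConsPropLib.NoethApprox.isAffine_obj _ i
  haveI : ∀ i, IsNoetherian (D.obj i) := fun i => Groth.Agent.ConsPropLib.NoethApprox.isNoetherian_obj _ i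
  let i : (Finset Γ(S, ⊤))ᵒᵖ := Opposite.op s
  let u₁ : D.obj i ⟶ S₁ := k₁
  let u₂ : D.obj i ⟶ S₂ := k₂
  let eS : S ≅ c.pt := S.isoSpec
  have hu₁ : c.π.app i ≫ u₁ = eS.inv ≫ g₁ := hk₁
  have hu₂ : c.π.app i ≫ u₂ = eS.inv ≫ g₂ := hk₂
  let fs : X ⟶ c.pt := f ≫ eS.hom
  obtain ⟨q₁, hq₁⟩ : ∃ q, IsPullback q fs (Limits.pullback.snd f₁ u₁) (c.π.app i) := by
    refine ⟨Limits.pullback.lift g₁' (fs ≫ c.π.app i) ?_, ?_⟩
    · rw [Category.assoc, hu₁]; simp [fs, h₁.w]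
    · refine IsPullback.of_right ?_ (Limits.pullback.lift_snd _ _ _) (IsPullback.of_hasPullback _ _)
      rw [Limits.pullback.lift_fst, hu₁]
      exact h₁.of_iso (Iso.refl _) (Iso.refl _) eS (Iso.refl _) (by simp) (by simp [fs]) (by simp) (by simp)
  obtain ⟨q₂, hq₂⟩ : ∃ q, IsPullback q fs (Limits.pullback.snd f₂ u₂) (c.π.app i) := by
    refine ⟨Limits.pullback.lift g₂' (fs ≫ c.π.app i) ?_, ?_⟩
    · rw [Category.assoc, hu₂]; simp [fs, h₂.w]
    · refine IsPullback.of_right ?_ (Limits.pullback.lift_snd _ _ _) (IsPullback.of_hasPullback _ _)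
      rw [Limits.pullback.lift_fst, hu₂]
      exact h₂.of_iso (Iso.refl _) (Iso.refl _) eS (Iso.refl _) (by simp) (by simp [fs]) (by simp) (by simp)
  haveI : LocallyOfFiniteType (Limits.pullback.snd f₁ u₁) :=
    MorphismProperty.pullback_snd (P := @LocallyOfFiniteType) _ _ inferInstance
  haveI : LocallyOfFiniteType (Limits.pullback.snd f₂ u₂) :=
    MorphismProperty.pullback_snd (P := @LocallyOfFiniteType) _ _ inferInstance
  haveI : IsAffine (Limits.pullback f₁ u₁) := inferInstance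
  haveI : IsAffine (Limits.pullback f₂ u₂) := inferInstance
  obtain ⟨j, φ, e, he⟩ := Groth.Agent.LimSm.exists_iso_stage D c hc i (Limits.pullback.snd f₁ u₁)
    (Limits.pullback.snd f₂ u₂) fs fs q₁ q₂ hq₁ hq₂ (Iso.refl X) (Category.id_comp _)
  have hm : Groth.Agent.ConsPropLib.IsModel fs i (Limits.pullback.snd f₁ u₁) q₁ :=
    ⟨inferInstance, inferInstance, inferInstance, hq₁⟩
  refine ⟨Limits.pullback (Limits.pullback.snd f₁ u₁) (D.map φ), D.obj j,
    Limits.pullback.snd (Limits.pullback.snd f₁ u₁) (D.map φ), eS.hom ≫ c.π.app j, hm.push φ,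
    inferInstance, inferInstance, ?_, ?_, ?_, ?_, ?_⟩
  · exact (hm.pushed φ).sq.of_iso (Iso.refl _) (Iso.refl _) eS.symm (Iso.refl _) (by simp) (by simp [fs])
      (by simp) (by simp)
  · haveI : Algebra.FiniteType ℤ (Algebra.adjoin ℤ ((j.unop : Finset Γ(S, ⊤)) : Set Γ(S, ⊤))) :=
      Algebra.FiniteType.adjoin_of_finite (Finset.finite_toSet _)
    exact Algebra.FiniteType.equiv
      ‹Algebra.FiniteType ℤ (Algebra.adjoin ℤ ((j.unop : Finset Γ(S, ⊤)) : Set Γ(S, ⊤)))›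
      (Scheme.ΓSpecIso (CommRingCat.of (Algebra.adjoin ℤ ((j.unop : Finset Γ(S, ⊤)) : Set Γ(S, ⊤))))).commRingCatIsoToRingEquiv.symm.toIntAlgEquiv
  · exact MorphismProperty.pullback_snd (P := @LocallyOfFiniteType) _ _ inferInstance
  · exact MorphismProperty.pullback_snd (P := P) _ _ (MorphismProperty.pullback_snd (P := P) _ _ hP)
  · haveI : Q.RespectsIso := MorphismProperty.IsStableUnderBaseChange.respectsIso
    rw [← he, Q.cancel_left_of_respectsIso]
    exact MorphismProperty.pullback_snd (P := Q) _ _ (MorphismProperty.pullback_snd (P := Q) _ _ hQ)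

end Groth.Agent.S9737
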