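import Groth.Statements.S9741
import Groth.Agent.UnivThick.BaseChange

set_option autoImplicit false
universe u
open OmegaSh

namespace Groth.Agent.S9741

open AlgebraicGeometry CategoryTheory Limits in
/-- Let a : Z ⟶ Y and b : Y ⟶ X be formally unramified, let (i : Z ⟶ Z', c : Z' ⟶ X) be universal among
first order thickenings of Z relative to X (for a ≫ b), and (j : Y ⟶ Y', d : Y' ⟶ X) likewise for Y
relative to X (for b). Then there is a morphism of thickenings m : Z' ⟶ Y' over X (i ≫ m = a ≫ j and
m ≫ d = c) such that Z ⟶ Y ×_{Y'} Z' (components a and i), together with the projection to Y, is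
universal among first order thickenings of Z relative to Y (for a). The published statement also
asserts an exact sequence of conormal sheaves; this row states only the thickening assertion. -/
theorem result {Z Y X Z' Y' : Scheme.{u}} (a : Z ⟶ Y) (b : Y ⟶ X)
    [FormallyUnramified a] [FormallyUnramified b] (i : Z ⟶ Z') (c : Z' ⟶ X) (hZ : OmegaSh.IsUnivThickening (a ≫ b) i c)
    (j : Y ⟶ Y') (d : Y' ⟶ X) (hY : OmegaSh.IsUnivThickening b j d) :
    ∃ (m : Z' ⟶ Y') (hm : i ≫ m = a ≫ j), m ≫ d = c ∧
      OmegaSh.IsUnivThickening a (pullback.lift a i hm.symm) (pullback.fst j m) := by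
  exact Groth.Agent.UnivThick.exists_isUniv_of_comp a b i c hZ j d hY

end Groth.Agent.S9741
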