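import Groth.Statements.S9743
import Groth.Agent.RelFP.Perm
import Groth.Agent.QCoh.Extension
import Groth.Agent.QCoh.Qcqs

set_option autoImplicit false
universe u
open Flatn

namespace Groth.Agent.S9743
open AlgebraicGeometry CategoryTheory CategoryTheory.Limits
open Groth.Agent

open AlgebraicGeometry CategoryTheory Limits in
/-- Suppose π : X ⟶ Y is finite, g : Y ⟶ S is locally of finite type, and F is a quasi-coherent
O_X-module. Then F is relatively finitely presented over S via π ≫ g exactly when the direct image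
π_*F is relatively finitely presented over S via g. -/
theorem result {X Y S : Scheme.{u}} (π : X ⟶ Y) (g : Y ⟶ S) [IsFinite π] [LocallyOfFiniteType g]
    (F : X.Modules) [Coh.IsQCoh F] : Flatn.IsRelFP (π ≫ g) F ↔ Flatn.IsRelFP g ((Coh.push π).obj F) := by
  have hq : Coh.IsQCoh ((Coh.push π).obj F) := QCoh.isQCoh_pushforward π inferInstance
  constructor
  · intro h
    refine RelFP.isRelFP_of_forall fun U V hUV => ?_
    exact (RelFP.relFPOn_push_iff π g F U V hUV).1 ((RelFP.isRelFP_iff_forall (π ≫ g) F inferInstance).1 h _ V _)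
  · intro h
    refine ⟨Set.univ, by simpa using iSup_affineOpens_eq_top S, fun V _ =>
      ⟨{U | ∃ W : Y.affineOpens, (W : Y.Opens) ≤ g ⁻¹ᵁ V.1 ∧ (U : X.Opens) = π ⁻¹ᵁ W.1},
        le_antisymm (iSup₂_le fun U hU => ?_) (fun x hx => ?_), fun U hU hUV => ?_⟩⟩
    · obtain ⟨W, hW, e⟩ := hU
      exact e.trans_le (π.preimage_mono hW)
    · obtain ⟨W, hW, hxW, hWle⟩ := exists_isAffineOpen_mem_and_subset (x := π x) (U := g ⁻¹ᵁ V.1) hx
      exact TopologicalSpace.Opens.mem_iSup.2 ⟨⟨π ⁻¹ᵁ W, hW.preimage π⟩,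
        TopologicalSpace.Opens.mem_iSup.2 ⟨⟨⟨W, hW⟩, hWle, rfl⟩, hxW⟩⟩
    · obtain ⟨W, hW, e⟩ := hU
      exact RelFP.relFPOn_congr (h := π.preimage_mono hW) e.symm rfl ((RelFP.relFPOn_push_iff π g F W V hW).2
        ((RelFP.isRelFP_iff_forall g _ hq).1 h W V hW))

end Groth.Agent.S9743
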