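import Groth.Statements.S9744
import Groth.Agent.RelFP.BaseChange

set_option autoImplicit false
universe u
open Flatn

namespace Groth.Agent.S9744
open AlgebraicGeometry CategoryTheory CategoryTheory.Limits TopologicalSpace
open Groth.Agent

theorem isAffineOpen_inf {X S X' S' : Scheme.{u}} {f : X ⟶ S} {g : S' ⟶ S} {f' : X' ⟶ S'} {g' : X' ⟶ X}
    (H : IsPullback g' f' f g) {US : S.Opens} (hUS : IsAffineOpen US) {UT : S'.Opens} (hUST : UT ≤ g ⁻¹ᵁ US)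
    (hUT : IsAffineOpen UT) {UX : X.Opens} (hUX : IsAffineOpen UX) (hUSX : UX ≤ f ⁻¹ᵁ US) :
    IsAffineOpen (g' ⁻¹ᵁ UX ⊓ f' ⁻¹ᵁ UT) := by
  haveI : IsAffine _ := hUS
  haveI : IsAffine _ := hUT
  haveI : IsAffine _ := hUX
  exact .of_isIso (Scheme.Hom.isPullback_resLE H hUST hUSX rfl).isoPullback.hom

open AlgebraicGeometry CategoryTheory Limits in
/-- Let f : X ⟶ S be locally of finite type and F a quasi-coherent O_X-module of finite presentation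
relative to S. For a base change f' : X' ⟶ S' of f along S' ⟶ S with projection g' : X' ⟶ X, the
pullback (g')^*F is of finite presentation relative to S'. -/
theorem result {X S X' S' : Scheme.{u}} (f : X ⟶ S) [LocallyOfFiniteType f] (F : X.Modules) [Coh.IsQCoh F]
    (g : S' ⟶ S) (f' : X' ⟶ S') (g' : X' ⟶ X) (hc : IsPullback g' f' f g) (hF : Flatn.IsRelFP f F) :
    Flatn.IsRelFP f' ((Scheme.Modules.pullback g').obj F) := by
  refine ⟨{V' | ∃ US : S.affineOpens, (V' : S'.Opens) ≤ g ⁻¹ᵁ US.1}, ?_, fun V' hV' => ?_⟩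
  · refine top_le_iff.1 fun s _ => ?_
    obtain ⟨W, hW, hsW, -⟩ := exists_isAffineOpen_mem_and_subset (x := g s) (U := ⊤) trivial
    obtain ⟨V', hV', hsV', hle⟩ := exists_isAffineOpen_mem_and_subset (x := s) (U := g ⁻¹ᵁ W) hsW
    exact Opens.mem_iSup.2 ⟨⟨V', hV'⟩, Opens.mem_iSup.2 ⟨⟨⟨W, hW⟩, hle⟩, hsV'⟩⟩
  obtain ⟨US, hUST⟩ := hV'
  refine ⟨{U | ∃ UX : X.affineOpens, (UX : X.Opens) ≤ f ⁻¹ᵁ US.1 ∧ (U : X'.Opens) = g' ⁻¹ᵁ UX.1 ⊓ f' ⁻¹ᵁ V'.1},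
    le_antisymm (iSup₂_le fun U hU => ?_) (fun x hx => ?_), fun U hU hUV => ?_⟩
  · obtain ⟨UX, hUX, e⟩ := hU
    exact e.trans_le inf_le_right
  · have hmem : g' x ∈ f ⁻¹ᵁ US.1 := by
      show f (g' x) ∈ US.1
      rw [← Scheme.Hom.comp_apply, hc.w, Scheme.Hom.comp_apply]
      exact hUST hx
    obtain ⟨W, hW, hxW, hWle⟩ := exists_isAffineOpen_mem_and_subset hmem
    exact Opens.mem_iSup.2 ⟨⟨g' ⁻¹ᵁ W ⊓ f' ⁻¹ᵁ V'.1, isAffineOpen_inf hc US.2 hUST V'.2 hW hWle⟩,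
      Opens.mem_iSup.2 ⟨⟨⟨W, hW⟩, hWle, rfl⟩, ⟨hxW, hx⟩⟩⟩
  · obtain ⟨UX, hUX, e⟩ := hU
    exact RelFP.relFPOn_baseChange hc F inferInstance UX US V' U hUST hUX e
      ((RelFP.isRelFP_iff_forall f F inferInstance).1 hF UX US hUX)

end Groth.Agent.S9744
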