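import Groth.Statements.S9746
import Groth.Agent.RelFP.Perm
import Groth.Agent.QCoh.Extension

set_option autoImplicit false
universe u
open Flatn

namespace Groth.Agent.S9746
open AlgebraicGeometry CategoryTheory CategoryTheory.Limits
open Groth.Agent

open AlgebraicGeometry CategoryTheory Limits in
/-- Let f : X ⟶ Y be locally of finite type, g : Y ⟶ S locally of finite presentation, and F a
quasi-coherent O_X-module that is finitely presented relative to Y. Then F, viewed over S through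
the composite f ≫ g, is finitely presented relative to S. -/
theorem result {X Y S : Scheme.{u}} (f : X ⟶ Y) (g : Y ⟶ S) [LocallyOfFiniteType f] [LocallyOfFinitePresentation g]
    (F : X.Modules) [Coh.IsQCoh F] (hF : Flatn.IsRelFP f F) : Flatn.IsRelFP (f ≫ g) F := by
  refine ⟨Set.univ, by simpa using iSup_affineOpens_eq_top S, fun V _ =>
    ⟨{U | ∃ W : Y.affineOpens, (W : Y.Opens) ≤ g ⁻¹ᵁ V.1 ∧ (U : X.Opens) ≤ f ⁻¹ᵁ W.1},
      le_antisymm (iSup₂_le fun U hU => ?_) (fun x hx => ?_), fun U hU hUV => ?_⟩⟩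
  · obtain ⟨W, hW, e⟩ := hU
    exact e.trans (f.preimage_mono hW)
  · obtain ⟨W, hW, hxW, hWle⟩ := exists_isAffineOpen_mem_and_subset (x := f x) (U := g ⁻¹ᵁ V.1) hx
    obtain ⟨U, hU, hxU, hUle⟩ := exists_isAffineOpen_mem_and_subset (x := x) (U := f ⁻¹ᵁ W) hxW
    exact TopologicalSpace.Opens.mem_iSup.2 ⟨⟨U, hU⟩,
      TopologicalSpace.Opens.mem_iSup.2 ⟨⟨⟨W, hW⟩, hWle, hUle⟩, hxU⟩⟩
  · obtain ⟨W, hW, e⟩ := hU
    exact (RelFP.relFPOn_comp_iff f g F U W V e hW).2 ((RelFP.isRelFP_iff_forall f F inferInstance).1 hF U W e)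

end Groth.Agent.S9746
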