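import Groth.Statements.S9749
import Groth.Agent.RelFP.Perm
import Groth.Agent.QCoh.Extension

set_option autoImplicit false
universe u
open Flatn

namespace Groth.Agent.S9749
open AlgebraicGeometry CategoryTheory CategoryTheory.Limits
open Groth.Agent

theorem finite_of_retract {X S : Scheme.{u}} (f : X ⟶ S) {M N : X.Modules} (hM : Coh.IsQCoh M) (U : X.affineOpens)
    (V : S.affineOpens) (h : (U : X.Opens) ≤ f ⁻¹ᵁ V.1) (hP : Flatn.RelFPOn f M U V h)
    (i : N ⟶ M) (p : M ⟶ N) (hip : i ≫ p = 𝟙 N) :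
    Module.Finite Γ(X, U.1) Γ(N, U.1) := by
  letI := (f.appLE V.1 U.1 h).hom.toAlgebra
  obtain ⟨n, φ, hφ, hfp⟩ := hP
  letI : Algebra (MvPolynomial (Fin n) Γ(S, V.1)) Γ(X, U.1) := φ.toRingHom.toAlgebra
  letI := Module.compHom Γ(M, U.1) φ.toRingHom
  haveI : IsScalarTower (MvPolynomial (Fin n) Γ(S, V.1)) Γ(X, U.1) Γ(M, U.1) :=
    IsScalarTower.of_algebraMap_smul fun _ _ => rfl
  haveI : Module.FinitePresentation (MvPolynomial (Fin n) Γ(S, V.1)) Γ(M, U.1) := hfp
  haveI : Module.Finite Γ(X, U.1) Γ(M, U.1) :=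
    Module.Finite.of_restrictScalars_finite (MvPolynomial (Fin n) Γ(S, V.1)) Γ(X, U.1) Γ(M, U.1)
  exact Module.Finite.of_surjective (RelFP.appLin p U.1)
    fun x => ⟨i.app U.1 x, congr($(hip).app U.1 x)⟩

open AlgebraicGeometry CategoryTheory Limits in
/-- For f : X ⟶ S locally of finite type and quasi-coherent O_X-modules F, F', relative finite
presentation over S of the biproduct F ⊞ F' implies the same property for each summand. -/
theorem result {X S : Scheme.{u}} (f : X ⟶ S) [LocallyOfFiniteType f] (F F' : X.Modules) [Coh.IsQCoh F] [Coh.IsQCoh F']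
    (h : Flatn.IsRelFP f (F ⊞ F')) : Flatn.IsRelFP f F ∧ Flatn.IsRelFP f F' := by
  have hq : Coh.IsQCoh (F ⊞ F') := QCoh.isQCoh_X₂ (ShortComplex.Splitting.ofHasBinaryBiproduct F F').shortExact inferInstance inferInstance
  have hP := (RelFP.isRelFP_iff_forall f (F ⊞ F') hq).1 h
  refine ⟨RelFP.isRelFP_of_forall fun U V e => ?_, RelFP.isRelFP_of_forall fun U V e => ?_⟩
  · exact (RelFP.relFPOn_of_shortExact f (E := ShortComplex.mk biprod.inr biprod.fst biprod.inr_fst)
      (ShortComplex.Splitting.shortExact { r := biprod.snd, s := biprod.inl, f_r := by simp, s_g := by simp, id := by simp [add_comm (biprod.snd ≫ biprod.inr), biprod.total] }) inferInstance hq inferInstance U V e).2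
      (finite_of_retract f hq U V e (hP U V e) biprod.inr biprod.snd biprod.inr_snd) (hP U V e)
  · exact (RelFP.relFPOn_of_shortExact f (E := ShortComplex.mk biprod.inl biprod.snd biprod.inl_snd)
      (ShortComplex.Splitting.ofHasBinaryBiproduct F F').shortExact inferInstance hq inferInstance U V e).2
      (finite_of_retract f hq U V e (hP U V e) biprod.inl biprod.fst biprod.inl_fst) (hP U V e)

end Groth.Agent.S9749
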