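import Groth.Statements.S9756
import Groth.Agent.Triage.SliceFlatSch
import Groth.Agent.LC.PuncturedConn
import Groth.Agent.FibFlat.Stalk

set_option autoImplicit false
universe u
open FlatMor

set_option backward.isDefEq.respectTransparency false

namespace Groth.Agent.S9756

open AlgebraicGeometry CategoryTheory Limits in
/-- Let f : X ⟶ S be locally of finite presentation and flat at a point x, and assume the local ring of
the fibre X_{f x} at x has depth at least 1. Then there are an affine open U ∋ x and a
nonzerodivisor h' of Γ(X, U) vanishing at x such that the closed subscheme V(h') of U, an effective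
Cartier divisor through x, is flat and locally of finite presentation over S. The published
statement concludes that V(h') ⟶ S is of finite presentation; this row concludes only that it is
flat and locally of finite presentation, which is what the published argument (slicing by a lift of
a fibrewise nonzerodivisor) yields, and which is equivalent when S is quasi-separated, V(h') being
affine. -/
theorem result {X S : Scheme.{u}} (f : X ⟶ S) [LocallyOfFinitePresentation f] (x : X)
    (hflat : (f.stalkMap x).hom.Flat)
    (hdepth : 1 ≤ LocCoh.depth ↑((f.fiber (f x)).presheaf.stalk (f.asFiber x)) ↑((f.fiber (f x)).presheaf.stalk (f.asFiber x))) :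
    ∃ (U : X.Opens) (hU : IsAffineOpen U) (hx : x ∈ U) (h' : Γ(X, U)), h' ∈ nonZeroDivisors Γ(X, U) ∧
      X.presheaf.germ U x hx h' ∈ IsLocalRing.maximalIdeal ↑(X.presheaf.stalk x) ∧
      Flat (Spec.map (CommRingCat.ofHom (Ideal.Quotient.mk (Ideal.span {h'}))) ≫ hU.fromSpec ≫ f) ∧
      LocallyOfFinitePresentation (Spec.map (CommRingCat.ofHom (Ideal.Quotient.mk (Ideal.span {h'}))) ≫ hU.fromSpec ≫ f) := by
  haveI : IsLocallyNoetherian (f.fiber (f x)) :=
    LocallyOfFiniteType.isLocallyNoetherian (f.fiberToSpecResidueField (f x))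
  haveI : IsNoetherianRing ↑((f.fiber (f x)).presheaf.stalk (f.asFiber x)) := inferInstance
  obtain ⟨r, hr, hrreg⟩ := LC.exists_regular_of_depth
    (R := ↑((f.fiber (f x)).presheaf.stalk (f.asFiber x))) (k := 1) one_pos (by simpa using hdepth)
  let φ := FibFlat.sm (f.fiberι (f x)) (f.asFiber x) x (f.fiberι_asFiber x)
  obtain ⟨h, rfl⟩ := FibFlat.surjective_sm (f := f.fiberι (f x)) (f.asFiber x) x (f.fiberι_asFiber x) r
  have hker : RingHom.ker φ = Ideal.map (f.stalkMap x).hom (IsLocalRing.maximalIdeal (S.presheaf.stalk (f x))) := by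
    rw [← FibFlat.sm_self f x]
    exact FibFlat.ker_sm_fiberι f (f x) (f.asFiber x) x (f.fiberι_asFiber x)
  have hm : h ∈ IsLocalRing.maximalIdeal (X.presheaf.stalk x) := fun hu => hr (hu.map φ)
  obtain ⟨V, hV, U, hU, hx, -, e, hs', hgerm, hfp, hwr, hfl⟩ :=
    Triage.SliceFlat.exists_slice_sch f x hflat [h] (by simpa using hm) (fun i hi z hz => by
      obtain rfl : i = 0 := by simpa using hi
      simp only [List.take_zero, Ideal.ofList_nil, bot_sup_eq, List.getElem_cons_zero] at hz ⊢
      rw [← hker, RingHom.mem_ker, map_mul] at hz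
      rw [← hker, RingHom.mem_ker]
      exact hrreg.right_eq_zero_of_smul hz) ⊤ trivial
  match hs', hgerm with
  | [h'], hgerm =>
    simp only [List.map_cons, List.map_nil, List.cons.injEq, and_true] at hgerm
    have hnzd : h' ∈ nonZeroDivisors Γ(X, U) := by
      have h0 := (RingTheory.Sequence.isWeaklyRegular_cons_iff Γ(X, U) h' []).1 hwr
      rw [mem_nonZeroDivisors_iff]
      refine ⟨fun z hz => ?_, fun z hz => ?_⟩ <;>
        exact h0.1.right_eq_zero_of_smul (by simpa [smul_eq_mul, mul_comm] using hz)
    obtain ⟨h1, h2⟩ := Triage.SliceFlat.flat_and_lfp_spec f hV hU e [h'] hfp (hfl 1)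
    refine ⟨U, hU, hx, h', hnzd, hgerm ▸ hm, ?_⟩
    rw [show Ideal.span {h'} = Ideal.ofList [h'] from (Ideal.ofList_singleton h').symm]
    exact ⟨h1, h2⟩
  | [], hgerm => simp at hgerm
  | _ :: _ :: _, hgerm => simp at hgerm

end Groth.Agent.S9756
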