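import Groth.Statements.S9757
import Groth.Agent.Triage.FibMaxFlat

set_option autoImplicit false
universe u
open FlatMor

namespace Groth.Agent.S9757

open AlgebraicGeometry CategoryTheory Limits in
/-- Suppose the morphism f : X ⟶ S is flat and locally of finite presentation. Then X contains open
subsets U_d, indexed by d ∈ ℕ, such that for every s ∈ S the union of all U_d intersects the fibre
X_s in a dense subset of X_s, and each U_d ⟶ S is of relative dimension d. Because U_d is open in X,
this is the same as requiring that at every point x of U_d the fibre of f containing x has local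
dimension d at x; that pointwise form is the one this row uses. -/
theorem result {X S : Scheme.{u}} (f : X ⟶ S) [Flat f] [LocallyOfFinitePresentation f] :
    ∃ U : ℕ → X.Opens, (∀ s : S, Dense ((f.fiberι s) ⁻¹' ((⨆ d, U d : X.Opens) : Set ↑X))) ∧
      ∀ (d : ℕ) (x : ↑X), x ∈ U d → FlatMor.fibreDimAt f x = d := by
  refine ⟨fun d => ⟨interior {x | FlatMor.fibreDimAt f x = d}, isOpen_interior⟩, fun s => ?_, fun d x hx =>
    interior_subset (s := {x | FlatMor.fibreDimAt f x = d}) hx⟩
  intro w
  rw [mem_closure_iff]
  intro O hO hw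
  obtain ⟨z, hz, hfz, hmax, -⟩ := FibDim.exists_fibMax_generization f (f.fiberι s w)
  obtain ⟨a, rfl⟩ : z ∈ Set.range (f.fiberι s) := by
    rw [Scheme.Hom.range_fiberι]
    exact hfz.trans (FibDim.fiber_apply_fiberι f w)
  obtain ⟨U, hzU, hU⟩ := Triage.FibMaxFlat.exists_nhd_fibreDimAt_eq f hmax
  refine ⟨a, ((FibDim.fiberι_specializes_iff f a w).1 hz).mem_open hO hw, ?_⟩
  exact TopologicalSpace.Opens.mem_iSup.2 ⟨FibDim.rd f (f.fiberι s a),
    mem_interior.2 ⟨U, hU, U.isOpen, hzU⟩⟩

end Groth.Agent.S9757
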