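import Groth.Statements.S9765
import Groth.Agent.FBaseLib.Basic

set_option autoImplicit false
universe u
open FlatMor

namespace Groth.Agent.S9765

open AlgebraicGeometry CategoryTheory Limits in
/-- Given a cartesian square with f : X ⟶ Y, g : Y' ⟶ Y and f' : X' ⟶ Y' obtained from f by pulling back
along g (with g' : X' ⟶ X), a point y' of Y' has geometrically connected f'-fibre exactly when g y'
has geometrically connected f-fibre. -/
theorem result {X Y X' Y' : Scheme.{u}} (f : X ⟶ Y) (g : Y' ⟶ Y) (f' : X' ⟶ Y') (g' : X' ⟶ X)
    (hc : IsPullback g' f' f g) :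
    {y' : ↑Y' | GeometricallyConnected (f'.fiberToSpecResidueField y')} =
      g ⁻¹' {y : ↑Y | GeometricallyConnected (f.fiberToSpecResidueField y)} := by
  ext y'
  simp only [Set.mem_ofPred_eq, Set.mem_preimage]
  have h := isPullback_fiberToSpecResidueField_of_isPullback hc y'
  constructor
  · intro hy
    have : Surjective (Spec.map (g.residueFieldMap y')) :=
      GrpSchLib.surjective_spec_map_field (g.residueFieldMap y').hom
    refine ⟨Groth.Agent.FBaseLib.geometrically_of_surjective (P := fun Z : Scheme => ConnectedSpace Z)
      (fun q _ _ hZ => @Groth.Agent.FBaseLib.connectedSpace_of_surjective _ _ q _ hZ)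
      (f.fiberToSpecResidueField (g y')) (Spec.map (g.residueFieldMap y')) ?_⟩
    have hp : GeometricallyConnected (pullback.snd (f.fiberToSpecResidueField (g y')) (Spec.map (g.residueFieldMap y'))) :=
      MorphismProperty.of_isPullback (P := (@GeometricallyConnected : MorphismProperty Scheme.{u}))
        (sq := (IsPullback.of_horiz_isIso ⟨h.isoPullback_inv_snd.trans (Category.comp_id _).symm⟩ :
          IsPullback h.isoPullback.inv (pullback.snd (f.fiberToSpecResidueField (g y')) (Spec.map (g.residueFieldMap y')))
            (f'.fiberToSpecResidueField y') (𝟙 _))) hy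
    exact hp.geometrically_connectedSpace
  · intro hy
    exact MorphismProperty.of_isPullback (P := (@GeometricallyConnected : MorphismProperty Scheme.{u})) h hy

end Groth.Agent.S9765
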