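import Groth.Statements.S9767
import Groth.Agent.Triage.CMMor

set_option autoImplicit false
universe u
open FlatMor

set_option backward.isDefEq.respectTransparency false
set_option backward.isDefEq.respectTransparency.types false

namespace Groth.Agent.S9767

open AlgebraicGeometry CategoryTheory Limits in
/-- For f : X ⟶ Y, g : Y ⟶ Z and a point x of X such that the fibre of f through x and the fibre of g
through f x are locally Noetherian, suppose the stalk map of f at x is flat and f ≫ g is
Cohen–Macaulay at x; then Cohen–Macaulayness passes to f at x and to g at the image point f x. The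
published statement assumes all fibres of f, g and g ∘ f locally Noetherian; this row assumes only
the fibres of f and g through x and f x. -/
theorem result {X Y Z : Scheme.{u}} (f : X ⟶ Y) (g : Y ⟶ Z) (x : X)
    (hNf : IsLocallyNoetherian (f.fiber (f x))) (hNg : IsLocallyNoetherian (g.fiber (g (f x))))
    (h : MoreMor.IsCMAt (f ≫ g) x) (hfl : (f.stalkMap x).hom.Flat) : MoreMor.IsCMAt f x ∧ MoreMor.IsCMAt g (f x) := by
  have hs : (f ≫ g) x = g (f x) := Scheme.Hom.comp_apply f g x
  rw [Triage.CMMor.isCMAt_iff_sm (f ≫ g) x (g (f x)) hs, FibFlat.sm_comp f g x (f x) (g (f x)) rfl rfl] at h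
  haveI := Triage.CMMor.isNoetherianRing_fibre_stalk_sm g (f x) (g (f x)) rfl hNg
  haveI := h.2
  have hfl' : (FibFlat.sm f x (f x) rfl).Flat := (FibFlat.sm_flat_iff f x (f x) rfl).2 hfl
  obtain ⟨hB, hC⟩ := (Triage.CMMor.fibre_comp _ _ hfl').1 h.2
  exact ⟨(Triage.CMMor.isCMAt_iff_sm f x (f x) rfl).2 ⟨hfl', hC⟩,
    (Triage.CMMor.isCMAt_iff_sm g (f x) (g (f x)) rfl).2 ⟨Triage.CMMor.flat_of_comp _ _ hfl' h.1, hB⟩⟩

end Groth.Agent.S9767
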