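import Groth.Statements.S9769
import Groth.Agent.S1393
import Groth.Agent.FibFlat.Stalk
import Groth.Agent.QCoh.Support
import Groth.Agent.KFlatLib.Scheme.Pullback
import Mathlib.RingTheory.Flat.FaithfullyFlat.Basic
import Mathlib.RingTheory.TensorProduct.Basic

set_option autoImplicit false
set_option backward.isDefEq.respectTransparency false
set_option backward.isDefEq.respectTransparency.types false
universe u
open FlatMor

namespace Groth.Agent.S9769

open AlgebraicGeometry CategoryTheory Limits in
/-- Let f : X ⟶ S be locally of finite presentation and F a finitely presented O_X-module which is flat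
over S. Then the formation of the locus of points of X near which F is free (equivalently, for
finitely presented F, where the stalk of F is a free module) commutes with arbitrary base change:
for a cartesian square with g' : X' ⟶ X over S' ⟶ S, the free locus of (g')^*F is the preimage of
that of F. The published statement also asserts that this locus is open; this row states only that
its formation commutes with base change. -/
theorem result {X S X' S' : Scheme.{u}} (f : X ⟶ S) [LocallyOfFinitePresentation f]
    (F : X.Modules) (hF : CohB1.IsFP F) (hfl : FlatMod.IsFlatOver f F)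
    (g : S' ⟶ S) (f' : X' ⟶ S') (g' : X' ⟶ X) (hc : IsPullback g' f' f g) :
    {x' : ↑X' | Module.Free ↑(X'.presheaf.stalk x') ↑(((Scheme.Modules.pullback g').obj F).presheaf.stalk x')} =
      g' ⁻¹' {x : ↑X | Module.Free ↑(X.presheaf.stalk x) ↑(F.presheaf.stalk x)} := by
  ext x'
  simp only [Set.mem_setOf_eq, Set.mem_preimage]
  let x := g' x'
  let M := F.presheaf.stalk x
  let B := X.presheaf.stalk x
  let B' := X'.presheaf.stalk x'
  letI : Algebra B B' := (g'.stalkMap x').hom.toAlgebra
  let e : ((Scheme.Modules.pullback g').obj F).presheaf.stalk x' ≃ₗ[B'] TensorProduct B B' M :=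
    ((Groth.Agent.KFlatLib.stalkPullbackIso g' x').app F).toLinearEquiv
  constructor
  · intro hfree
    haveI : Module.Free B' (TensorProduct B B' M) := Module.Free.of_equiv e
    let A := S.presheaf.stalk (f x)
    letI := (f.stalkMap x).hom.toAlgebra
    letI := FlatMod.moduleStalkOver f F x
    haveI : IsScalarTower A B M := IsScalarTower.of_algebraMap_smul fun _ _ => rfl
    haveI : Module.Flat A M := hfl x
    haveI : IsLocalHom (algebraMap A B) := inferInstanceAs (IsLocalHom (f.stalkMap x).hom)
    haveI : Module.FinitePresentation B M :=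
      Groth.Agent.S1393.fp_stalk (Groth.Agent.QCoh.isQCoh_of_isFP hF) hF x
    refine Groth.Agent.S1393.free_of_fibre (A := A) (B := B) (M := M) ?_
    let I : Ideal B := (IsLocalRing.maximalIdeal A).map (algebraMap A B)
    let I' : Ideal B' := (IsLocalRing.maximalIdeal (S'.presheaf.stalk (f' x'))).map (Groth.Agent.FibFlat.sm f' x' (f' x') rfl)
    have hI : (IsLocalRing.maximalIdeal (S.presheaf.stalk (f x))).map (Groth.Agent.FibFlat.sm f x (f x) rfl) = I := by
      rw [Groth.Agent.FibFlat.sm_self]
      rfl
    have hxs : g (f' x') = f x := by rw [← Scheme.Hom.comp_apply, ← hc.w, Scheme.Hom.comp_apply]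
    have hw : (Groth.Agent.FibFlat.sm g' x' x rfl).comp (Groth.Agent.FibFlat.sm f x (f x) rfl) =
        (Groth.Agent.FibFlat.sm f' x' (f' x') rfl).comp (Groth.Agent.FibFlat.sm g (f' x') (f x) hxs) := by
      rw [← Groth.Agent.FibFlat.sm_comp g' f x' x (f x) rfl rfl,
        ← Groth.Agent.FibFlat.sm_comp f' g x' (f' x') (f x) rfl hxs]
      exact Groth.Agent.FibFlat.sm_congr hc.w _ _ _
    have hle : (IsLocalRing.maximalIdeal (S.presheaf.stalk (f x))).map (Groth.Agent.FibFlat.sm f x (f x) rfl) ≤
        I'.comap (Groth.Agent.FibFlat.sm g' x' x rfl) := by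
      rw [← Ideal.map_le_iff_le_comap, Ideal.map_map, hw, ← Ideal.map_map]
      exact Ideal.map_mono (IsLocalRing.map_maximalIdeal_le _)
    have hle2 : I ≤ I'.comap (algebraMap B B') := by
      rw [← hI]
      refine hle.trans (le_of_eq ?_)
      rw [Groth.Agent.FibFlat.sm_self]
      rfl
    have hqf := Groth.Agent.FibFlat.quotient_flat_of_isPullback hc x' hle
    letI : Algebra (B ⧸ I) (B' ⧸ I') := (Ideal.quotientMap I' (algebraMap B B') hle2).toAlgebra
    haveI : IsScalarTower B (B ⧸ I) (B' ⧸ I') := IsScalarTower.of_algebraMap_eq fun _ => rfl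
    haveI : Module.Flat (B ⧸ I) (B' ⧸ I') := by
      refine RingHom.flat_algebraMap_iff.1 ?_
      exact (Groth.Agent.FibFlat.quotientMap_flat_iff (Groth.Agent.FibFlat.sm g' x' x rfl) (algebraMap B B')
        (RingHom.id B) (RingHom.id B') Function.surjective_id Function.surjective_id
        (by rw [Groth.Agent.FibFlat.sm_self, RingHom.comp_id, RingHom.id_comp]; rfl)
        (fun z hz => by rw [show z = 0 from RingHom.mem_ker.1 hz]; exact zero_mem _) (fun z hz => by rw [show z = 0 from RingHom.mem_ker.1 hz]; exact zero_mem _) (by rw [Ideal.map_id]; exact hI) (by rw [Ideal.map_id]) hle hle2).1 hqf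
    have hI'ne : I' ≠ ⊤ := fun h => (IsLocalRing.maximalIdeal.isMaximal B').ne_top
      (top_le_iff.1 (h ▸ IsLocalRing.map_maximalIdeal_le _))
    have hIne : I ≠ ⊤ := fun h => hI'ne (Ideal.comap_eq_top_iff.1 (top_le_iff.1 (h ▸ hle2)))
    haveI : Nontrivial (B ⧸ I) := Ideal.Quotient.nontrivial_iff.2 hIne
    haveI : Nontrivial (B' ⧸ I') := Ideal.Quotient.nontrivial_iff.2 hI'ne
    haveI : IsLocalRing (B ⧸ I) := .of_surjective' _ Ideal.Quotient.mk_surjective
    haveI : IsLocalRing (B' ⧸ I') := .of_surjective' _ Ideal.Quotient.mk_surjective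
    haveI : IsLocalHom (algebraMap B B') := inferInstanceAs (IsLocalHom (g'.stalkMap x').hom)
    haveI : IsLocalHom (algebraMap (B ⧸ I) (B' ⧸ I')) := ⟨fun a ha => by
      obtain ⟨a, rfl⟩ := Ideal.Quotient.mk_surjective a
      have ha' : IsUnit (Ideal.Quotient.mk I' (algebraMap B B' a)) := ha
      haveI : IsLocalHom (Ideal.Quotient.mk I') := .of_surjective _ Ideal.Quotient.mk_surjective
      exact ((ha'.of_map _).of_map (algebraMap B B')).map (Ideal.Quotient.mk I)⟩
    haveI : Module.FaithfullyFlat (B ⧸ I) (B' ⧸ I') := Module.FaithfullyFlat.of_flat_of_isLocalHom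
    let q : TensorProduct B (B ⧸ I) M ≃ₗ[B ⧸ I] M ⧸ (I • (⊤ : Submodule B M)) :=
      { TensorProduct.quotTensorEquivQuotSMul M I with
        map_smul' := fun r z => by
          obtain ⟨r, rfl⟩ := Ideal.Quotient.mk_surjective r
          exact map_smul (TensorProduct.quotTensorEquivQuotSMul M I) r z }
    haveI : Module.Free (B' ⧸ I') (TensorProduct B' (B' ⧸ I') (TensorProduct B B' M)) := inferInstance
    haveI : Module.Free (B' ⧸ I') (TensorProduct B (B' ⧸ I') M) :=
      Module.Free.of_equiv (TensorProduct.AlgebraTensorModule.cancelBaseChange B B' (B' ⧸ I') (B' ⧸ I') M)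
    haveI : Module.Flat (B' ⧸ I') (TensorProduct (B ⧸ I) (B' ⧸ I') (TensorProduct B (B ⧸ I) M)) :=
      Module.Flat.of_linearEquiv
        (TensorProduct.AlgebraTensorModule.cancelBaseChange B (B ⧸ I) (B' ⧸ I') (B' ⧸ I') M)
    haveI : Module.Flat (B ⧸ I) (TensorProduct B (B ⧸ I) M) :=
      Module.Flat.of_flat_tensorProduct (B ⧸ I) (TensorProduct B (B ⧸ I) M) (B' ⧸ I')
    exact Module.Flat.of_linearEquiv q.symm
  · intro hfree
    haveI : Module.Free B M := hfree
    exact Module.Free.of_equiv e.symm

end Groth.Agent.S9769
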