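import Groth.Statements.S9772
import Groth.Agent.UnivThick.Lci

set_option autoImplicit false
universe u
open OmegaSh

namespace Groth.Agent.S9772

open AlgebraicGeometry CategoryTheory Limits in
/-- Suppose f : X ⟶ Y is Koszul at every point of X (a local complete intersection morphism) and
formally unramified, and (i : X ⟶ X', h' : X' ⟶ Y) is universal first order thickening data for f.
Then the conormal sheaf of i (the conormal sheaf of f) is finite locally free. The published
statement also asserts that for a local complete intersection morphism unramified and formally
unramified are equivalent; this row states only the conormal clause. -/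
theorem result {X Y X' : Scheme.{u}} (f : X ⟶ Y)
    (hf : ∀ x : X, Synt.IsKoszulAt f x) [FormallyUnramified f] (i : X ⟶ X') (h' : X' ⟶ Y)
    (hu : OmegaSh.IsUnivThickening f i h') : FlatMod.IsFinLocFree (Omega.conormal i) := by
  exact UnivThick.isFinLocFree_conormal f hf i h' hu

end Groth.Agent.S9772
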