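import Groth.Statements.S9781
import Groth.Agent.BrnchLib.EtNbhdFibre
import Groth.Agent.S9235

set_option autoImplicit false
universe u
open Brnch

namespace Groth.Agent.S9781

open AlgebraicGeometry CategoryTheory Limits in
/-- The local ring of X at x is unibranch exactly when, for each étale morphism g : U ⟶ X and point u
over x with trivial residue field extension (an elementary étale neighbourhood), the point u lies on
a single irreducible component of U. -/
theorem result (X : Scheme.{u}) (x : X) :
    CAlg2.IsUnibranch ↑(X.presheaf.stalk x) ↔ ∀ (U : Scheme.{u}) (g : U ⟶ X) (u : U), Hens2.IsEtaleNbhd g u x →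
      {Z : Set ↑U | Z ∈ irreducibleComponents ↑U ∧ u ∈ Z}.encard = 1 := by
  rw [← Groth.Agent.S9235.result]
  have hsup := BrnchLib.EtNbhd.numBranchesAt_eq_iSup X x
  have hle : ∀ (U : Scheme.{u}) (g : U ⟶ X) (u : U) (h : Hens2.IsEtaleNbhd g u x),
      {Z : Set ↑U | Z ∈ irreducibleComponents ↑U ∧ u ∈ Z}.encard ≤ Brnch.numBranches (X.presheaf.stalk x) := fun U g u h => by
    refine le_of_le_of_eq ?_ hsup.symm
    exact le_iSup_of_le U (le_iSup_of_le g (le_iSup_of_le u (le_iSup_of_le h le_rfl)))
  refine ⟨fun H U g u h => le_antisymm ((hle U g u h).trans H.le)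
    (BrnchLib.EtNbhd.one_le_encard_components U u), fun H => le_antisymm ?_ ?_⟩
  · exact hsup.le.trans (iSup_le fun U => iSup_le fun g => iSup_le fun u => iSup_le fun h =>
      (H U g u h).le)
  · haveI := BrnchLib.EtNbhd.isLocalRing_bot (O := X.presheaf.stalk x)
    obtain ⟨U, g, u, hgu, h, -⟩ := BrnchLib.EtNbhd.elem_exists x ⊥ 0 bot_le
    exact (H U g u h).ge.trans (hle U g u h)

end Groth.Agent.S9781
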