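import Groth.Statements.S9785
import Groth.Agent.UnivThick.LciInjective

set_option autoImplicit false
universe u
open OmegaSh

namespace Groth.Agent.S9785

open AlgebraicGeometry CategoryTheory Limits in
/-- Let i : Z ⟶ Y and b : Y ⟶ X be formally unramified, let (i' : Z ⟶ Z', c) be a first order thickening
over X that is universal for i ≫ b, (j : Y ⟶ Y', d) one universal for b, m : Z' ⟶ Y' the morphism of
thickenings over X compatible with i, (i'' : Z ⟶ Z'', e) a first order thickening over Y that is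
universal for i, and n : Z'' ⟶ Z' the morphism of thickenings over X extending the identity of Z.
Let ψ₁ : i^*C_{Y/Y'} ⟶ C_{Z/Z'} and ψ₂ : C_{Z/Z'} ⟶ C_{Z/Z''} be the canonical maps of conormal
sheaves induced by (i, m) and (id, n); these are the conormal sheaves C_{Y/X}, C_{Z/X}, C_{Z/Y} of
the formally unramified morphisms and the canonical maps between them. Assume moreover that i is
Koszul at every point of Z, i.e. i is lci. Then 0 ⟶ i^*C_{Y/X} ⟶ C_{Z/X} ⟶ C_{Z/Y} ⟶ 0 is a short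
exact sequence. -/
theorem result {Z Y X Z' Y' Z'' : Scheme.{u}} (i : Z ⟶ Y) (b : Y ⟶ X)
    [FormallyUnramified i] [FormallyUnramified b]
    (i' : Z ⟶ Z') (c : Z' ⟶ X) (hZ' : OmegaSh.IsUnivThickening (i ≫ b) i' c)
    (j : Y ⟶ Y') (d : Y' ⟶ X) (hY' : OmegaSh.IsUnivThickening b j d)
    (m : Z' ⟶ Y') (hm₁ : i' ≫ m = i ≫ j) (hm₂ : m ≫ d = c)
    (i'' : Z ⟶ Z'') (e : Z'' ⟶ Y) (hZ'' : OmegaSh.IsUnivThickening i i'' e)
    (n : Z'' ⟶ Z') (hn₁ : i'' ≫ n = i') (hn₂ : n ≫ c = e ≫ b)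
    (ψ₁ : (Scheme.Modules.pullback i).obj (Omega.conormal j) ⟶ Omega.conormal i') (hψ₁ : OmegaSh.IsConormalMap i' j m i ψ₁)
    (ψ₂ : (Scheme.Modules.pullback (𝟙 Z)).obj (Omega.conormal i') ⟶ Omega.conormal i'') (hψ₂ : OmegaSh.IsConormalMap i'' i' n (𝟙 Z) ψ₂)
    (hlci : ∀ z : Z, Synt.IsKoszulAt i z) :
    ∃ w : (Scheme.Modules.pullback (𝟙 Z)).map ψ₁ ≫ ψ₂ = 0, (ShortComplex.mk _ _ w).ShortExact := by
  obtain ⟨w, hex, hepi⟩ := UnivThick.exact_and_epi hZ' hY' hm₁ hm₂ hZ'' hn₁ hn₂ ψ₁ hψ₁ ψ₂ hψ₂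
  haveI := UnivThick.mono_of_lci hZ' hY' hm₂ ψ₁ hψ₁ hlci
  haveI : Mono ((Scheme.Modules.pullback (𝟙 Z)).map ψ₁) := by
    have h := (Scheme.Modules.pullbackId Z).hom.naturality ψ₁
    haveI : Mono ((Scheme.Modules.pullback (𝟙 Z)).map ψ₁ ≫ (Scheme.Modules.pullbackId Z).hom.app _) := by
      rw [h]
      simp only [Functor.id_map]
      infer_instance
    exact mono_of_mono _ ((Scheme.Modules.pullbackId Z).hom.app _)
  exact ⟨w, ShortComplex.ShortExact.mk' hex inferInstance hepi⟩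

end Groth.Agent.S9785
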