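import Groth.Statements.S9786
import Groth.Agent.UnivThick.Split

set_option autoImplicit false
universe u
open OmegaSh

namespace Groth.Agent.S9786

open AlgebraicGeometry CategoryTheory Limits in
/-- Let i : Z ⟶ X be a morphism and p : X ⟶ Y a formally smooth morphism (infinitesimal lifting against
square-zero thickenings of affine schemes) with i and i ≫ p formally unramified. Let (i' : Z ⟶ Z',
a) be the universal first-order thickening attached to i, (i'' : Z ⟶ Z'', b) the one attached to i ≫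
p, and k : Z' ⟶ Z'' the morphism of thickenings (i' ≫ k = i'', k ≫ b = a ≫ p). Let d : O_{Z'} → Ω be
a universal derivation over Z'', ψ : C_{Z/Z''} ⟶ C_{Z/Z'} the canonical map of conormal sheaves
induced by (id, k) and φ : C_{Z/Z'} ⟶ (i')^*Ω the map induced by d. Then 0 ⟶ C_{Z/Z''} ⟶ C_{Z/Z'} ⟶
(i')^*Ω ⟶ 0 is short exact and locally split: every point of Z has an open neighbourhood over which
ψ admits a left inverse. The published statement concerns the conormal–differential sequence of Z in
X over Y; this row states it on the thickenings Z ⊂ Z' ⟶ Z'', whose terms identify with the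
published ones by the definition of the conormal sheaf of a formally unramified morphism and by the
isomorphism of (i')^*Ω_{Z'/S} with i^*Ω_{X/S} for a universal thickening (with Ω_{Z'/Z''} =
Ω_{Z'/Y}, as Z'' ⟶ Y is formally unramified). -/
theorem result {Z X Y Z' Z'' : Scheme.{u}} (i : Z ⟶ X) (p : X ⟶ Y)
    (hp : MoreMor.IsFormallySmoothHom p) [FormallyUnramified i] [FormallyUnramified (i ≫ p)]
    (i' : Z ⟶ Z') (a : Z' ⟶ X) (hZ' : OmegaSh.IsUnivThickening i i' a)
    (i'' : Z ⟶ Z'') (b : Z'' ⟶ Y) (hZ'' : OmegaSh.IsUnivThickening (i ≫ p) i'' b)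
    (k : Z' ⟶ Z'') (hk₁ : i' ≫ k = i'') (hk₂ : k ≫ b = a ≫ p)
    (Ω : Z'.Modules) (d : OmegaSh.Der k Ω) (hd : OmegaSh.IsUniversal d)
    (ψ : (Scheme.Modules.pullback (𝟙 Z)).obj (Omega.conormal i'') ⟶ Omega.conormal i') (hψ : OmegaSh.IsConormalMap i' i'' k (𝟙 Z) ψ)
    (φ : Omega.conormal i' ⟶ (Scheme.Modules.pullback i').obj Ω) (hφ : OmegaSh.IsConormalDiff i' d φ) :
    ∃ w : ψ ≫ φ = 0, (ShortComplex.mk ψ φ w).ShortExact ∧
      ∀ z : Z, ∃ (U : Z.Opens) (r : (Scheme.Modules.restrictFunctor U.ι).obj (Omega.conormal i') ⟶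
          (Scheme.Modules.restrictFunctor U.ι).obj ((Scheme.Modules.pullback (𝟙 Z)).obj (Omega.conormal i''))),
        z ∈ U ∧ (Scheme.Modules.restrictFunctor U.ι).map ψ ≫ r = 𝟙 _ := by
  exact UnivThick.shortExact_split i p hp i' a hZ' i'' b hZ'' k hk₁ hk₂ Ω d hd ψ hψ φ hφ

end Groth.Agent.S9786
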