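import Groth.Statements.S9787
import Groth.Agent.BlowNF.SmoothPair

set_option autoImplicit false
universe u
open CategoryTheory CategoryTheory.Limits AlgebraicGeometry TopologicalSpace
open FlatMor

namespace Groth.Agent.S9787

/-- For a smooth q : X ⟶ S and a closed immersion i : Z ⟶ X whose composite with q is smooth, any
blowing up b : X' ⟶ X of the ideal sheaf of Z (given by its universal property) is smooth over S,
and so is its exceptional divisor. The published statement also identifies the exceptional divisor
over Z with the projective bundle of the conormal sheaf, with O(1) the restriction of O_{X'}(−E);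
this row proves only the two smoothness claims. -/
theorem result {Z X X' S : Scheme.{u}} (q : X ⟶ S) [Smooth q] (i : Z ⟶ X) [IsClosedImmersion i]
    [Smooth (i ≫ q)] (b : X' ⟶ X) (hb : BlowUp.IsBlowUp b i.ker) :
    Smooth (b ≫ q) ∧ Smooth ((BlowUp.exceptional b i.ker).subschemeι ≫ b ≫ q) := by
  exact BlowNF.smooth_of_smooth_pair q i b hb

end Groth.Agent.S9787
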