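import Groth.Statements.S9788
import Groth.Agent.RelPC17.FPDescendSch

set_option autoImplicit false
set_option backward.isDefEq.respectTransparency false
set_option backward.isDefEq.respectTransparency.types false
universe u
attribute [local instance] HasDerivedCategory.standard
open FlatMor

namespace Groth.Agent.S9788

open AlgebraicGeometry CategoryTheory Limits in
/-- Let f : X ⟶ S be surjective, locally of finite presentation, quasi-compact and quasi-separated, and
let M ∈ D(O_S) have quasi-coherent cohomology sheaves vanishing in all positive degrees. If Lf^*M is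
isomorphic in D(O_X) to a flat O_X-module concentrated in degree zero, then M is isomorphic in
D(O_S) to a flat O_S-module concentrated in degree zero. The published statement is an equivalence
of these two conditions, with the converse left unproved there; this row states only the implication
from the pullback to M. The existence of the derived pullback Lf^* is carried as a hypothesis. -/
theorem result {X S : Scheme.{u}} (f : X ⟶ S) [Surjective f]
    [LocallyOfFinitePresentation f] [QuasiCompact f] [QuasiSeparated f] [DCoh.HasLpull f]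
    (M : DCoh.D S) (hM : DCoh.IsQCohD M) (hpos : ∀ i : ℤ, 0 < i → IsZero (DCoh.HD M i))
    (h2 : ∃ F : X.Modules, FlatMod.IsFlat F ∧ Nonempty ((DCoh.Lpull f).obj M ≅ DCoh.inD X F)) :
    ∃ G : S.Modules, FlatMod.IsFlat G ∧ Nonempty (M ≅ DCoh.inD S G) := by
  obtain ⟨F, hF, ⟨eF⟩⟩ := h2
  let sF := (HomologicalComplex.single X.Modules (ComplexShape.up ℤ) 0).obj F
  have hsF : DCoh.HasFlatAmplitudeIn 0 0 ((DCoh.Lpull f).obj M) := by
    refine ⟨sF, fun i hi => HomologicalComplex.isZero_single_obj_X _ 0 F i (by omega), fun i => ?_,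
      ⟨((DerivedCategory.singleFunctorIsoCompQ X.Modules 0).app F).symm ≪≫ eF.symm⟩⟩
    by_cases hi : i = 0
    · subst hi
      exact Groth.Agent.KFlatLib.isFlat_of_iso'
        (HomologicalComplex.singleObjXSelf (ComplexShape.up ℤ) 0 F).symm hF
    · exact Groth.Agent.KFlatLib.IsFlat.of_isZero (HomologicalComplex.isZero_single_obj_X _ 0 F i hi)
  obtain ⟨E, hv, hE, ⟨eE⟩⟩ :=
    Groth.Agent.RelPC17.FPDescendSch.flatAmplitude_descends f M hM le_rfl hpos hsF
  haveI : CochainComplex.IsStrictlyLE E 0 :=
    (CochainComplex.isStrictlyLE_iff E 0).2 fun i hi => hv i (Or.inr hi)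
  haveI : CochainComplex.IsStrictlyGE E 0 :=
    (CochainComplex.isStrictlyGE_iff E 0).2 fun i hi => hv i (Or.inl hi)
  obtain ⟨G, ⟨eG⟩⟩ := CochainComplex.exists_iso_single E 0
  refine ⟨G, Groth.Agent.KFlatLib.isFlat_of_iso' (show E.X 0 ≅ G from HomologicalComplex.Hom.isoApp eG 0 ≪≫
      HomologicalComplex.singleObjXSelf (ComplexShape.up ℤ) 0 G) (hE 0), ⟨eE.symm ≪≫
    DerivedCategory.Q.mapIso eG ≪≫ ((DerivedCategory.singleFunctorIsoCompQ S.Modules 0).app G).symm⟩⟩

end Groth.Agent.S9788
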