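import Groth.Statements.S9789
import Groth.Agent.SmoothStrat.Piece

set_option autoImplicit false
universe u
open FlatMor

namespace Groth.Agent.S9789

open AlgebraicGeometry CategoryTheory Limits in
/-- For f : X ⟶ S locally of finite presentation, quasi-compact and quasi-separated, with X and S
quasi-compact and quasi-separated, one can find t ≥ 0 and closed subschemes S ⊃ S_0 ⊃ S_1 ⊃ … ⊃ S_t
= ∅, each cut out by an ideal sheaf of finite type (written as ideals I_0 ≤ … ≤ I_t = O_S), with S_0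
⊂ S a thickening, and for each i a surjective finite locally free morphism T_i ⟶ S_i ∖ S_{i+1}
together with t_i ≥ 0 and closed subschemes X ×_S T_i ⊃ Z_{i,0} ⊃ … ⊃ Z_{i,t_i} = ∅ cut out by
finite type ideal sheaves, Z_{i,0} a thickening, such that each Z_{i,j} ∖ Z_{i,j+1} is smooth over
T_i. -/
theorem result {X S : Scheme.{u}} (f : X ⟶ S) [LocallyOfFinitePresentation f] [QuasiCompact f] [QuasiSeparated f]
    [CompactSpace ↑S] [QuasiSeparatedSpace ↑S] [CompactSpace ↑X] [QuasiSeparatedSpace ↑X] :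
    ∃ (t : ℕ) (I : Fin (t + 1) → S.IdealSheafData), Monotone I ∧ I (Fin.last t) = ⊤ ∧ ((I 0).support : Set ↑S) = Set.univ ∧
      (∀ i, ∀ U : S.affineOpens, ((I i).ideal U).FG) ∧
      ∀ i : Fin t, ∃ (T : Scheme.{u}) (v : T ⟶ ↑((I i.castSucc).subschemeι ⁻¹ᵁ (I i.succ).support.compl)),
        Surjective v ∧ Mor2.IsFinLocFree v ∧
        ∃ (t' : ℕ) (J : Fin (t' + 1) → (pullback f (v ≫ ((I i.castSucc).subschemeι ⁻¹ᵁ (I i.succ).support.compl).ι ≫ (I i.castSucc).subschemeι)).IdealSheafData),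
          Monotone J ∧ J (Fin.last t') = ⊤ ∧ ((J 0).support : Set ↑(pullback f (v ≫ ((I i.castSucc).subschemeι ⁻¹ᵁ (I i.succ).support.compl).ι ≫ (I i.castSucc).subschemeι))) = Set.univ ∧
          (∀ j, ∀ O : (pullback f (v ≫ ((I i.castSucc).subschemeι ⁻¹ᵁ (I i.succ).support.compl).ι ≫ (I i.castSucc).subschemeι)).affineOpens, ((J j).ideal O).FG) ∧
          ∀ j : Fin t', Smooth (((J j.castSucc).subschemeι ⁻¹ᵁ (J j.succ).support.compl).ι ≫ (J j.castSucc).subschemeι ≫ pullback.snd f (v ≫ ((I i.castSucc).subschemeι ⁻¹ᵁ (I i.succ).support.compl).ι ≫ (I i.castSucc).subschemeι)) := by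
  have hreach : Groth.Agent.SmoothStrat.Reach
      (fun {Z} => Groth.Agent.SmoothStrat.HasSmoothStrat f (Z := Z)) (⊥ : S.Opens) :=
    Groth.Agent.SmoothStrat.reach_bot_of_pieces fun U hU => Groth.Agent.SmoothStrat.exists_pieces f hU
  obtain ⟨t, I, hmono, hlast, hsupp, hfg, hP⟩ := Groth.Agent.SmoothStrat.exists_fin_of_reach hreach
  refine ⟨t, I, hmono, hlast, hsupp, hfg, fun i => ?_⟩
  obtain ⟨T, v, hsurj, -, hflf, t', J, hJm, hJl, hJs, hJfg, hJP⟩ := hP i
  refine ⟨T, v, hsurj, hflf, t', J, hJm, hJl, hJs, hJfg, fun j => ?_⟩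
  have h := hJP j
  exact (congrArg (fun φ => Smooth φ) (Category.assoc _ _ _)).mp h

end Groth.Agent.S9789
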