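import Groth.Statements.S9790
import Groth.Agent.FlatAssoc.Specialize
import Groth.Agent.FibDim.AffineSpaceFibre

set_option autoImplicit false
universe u
open FlatMor

namespace Groth.Agent.S9790

open Groth.Agent

open AlgebraicGeometry CategoryTheory Limits in
/-- Let f : X ⟶ S be locally of finite type, F a quasi-coherent O_X-module of finite type and y a point
of the relative assassin of F over S. Let Y ⊆ X be the closure of y with its reduced induced
(integral) closed subscheme structure. Suppose F is S-flat at every point of Y that is a generic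
point of an irreducible component of its fibre over S (e.g. F flat over S everywhere). Then Y ⟶ S
has constant fibre dimension: there is d ≥ 0 with dim_x(Y_{f x}) = d for every point x of Y, i.e. Y
has relative dimension d over the closure of f y. The published statement also contains a part (1),
that such generic points are again relative associated points of F; this row states only part (2),
the relative-dimension clause. -/
theorem result {X S : Scheme.{u}} (f : X ⟶ S) [LocallyOfFiniteType f] (F : X.Modules) [Coh.IsQCoh F]
    (hF : CohB1.IsFT F) (y : X) (hy : y ∈ MoreMor.relAss f F)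
    (hflat : ∀ x : ↑(Scheme.IdealSheafData.vanishingIdeal (TopologicalSpace.Closeds.closure {y})).subscheme,
      (∃ Z ∈ irreducibleComponents ↥(((Scheme.IdealSheafData.vanishingIdeal (TopologicalSpace.Closeds.closure {y})).subschemeι ≫ f).fiber (f ((Scheme.IdealSheafData.vanishingIdeal (TopologicalSpace.Closeds.closure {y})).subschemeι x))),
        IsGenericPoint (((Scheme.IdealSheafData.vanishingIdeal (TopologicalSpace.Closeds.closure {y})).subschemeι ≫ f).asFiber x) Z) →
      FlatMod.IsFlatOverAt f F ((Scheme.IdealSheafData.vanishingIdeal (TopologicalSpace.Closeds.closure {y})).subschemeι x)) :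
    ∃ d : ℕ, ∀ x : ↑(Scheme.IdealSheafData.vanishingIdeal (TopologicalSpace.Closeds.closure {y})).subscheme, FlatMor.fibreDimAt ((Scheme.IdealSheafData.vanishingIdeal (TopologicalSpace.Closeds.closure {y})).subschemeι ≫ f) x = d := by
  haveI := ‹Coh.IsQCoh F›
  let K := Scheme.IdealSheafData.vanishingIdeal (TopologicalSpace.Closeds.closure ({y} : Set ↑X))
  let i := K.subschemeι
  let g := i ≫ f
  refine ⟨FibDim.rd f y, fun x => ?_⟩
  obtain ⟨z, hzx, hgz, hzmax, he⟩ := FibDim.exists_fibMax_generization g x
  rw [show FlatMor.fibreDimAt (K.subschemeι ≫ f) x = _ from he]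
  have hrd : FibDim.rd g z = FibDim.rd f (i z) := by
    rw [FibDim.rd_comp i f z, FibDim.rd_eq_zero_of_quasiFinite i z, add_zero]
  have hrange : Set.range i = closure ({y} : Set ↑X) := by
    exact K.range_subschemeι.trans rfl
  have hmem : i z ∈ closure ({y} : Set ↑X) := hrange ▸ ⟨z, rfl⟩
  have hmin : ∀ w, y ⤳ w → w ⤳ i z → f w = f (i z) → w = i z := by
    intro w hyw hwz hfw
    obtain ⟨w', rfl⟩ : w ∈ Set.range i := hrange ▸ specializes_iff_mem_closure.1 hyw
    rw [hzmax w' (i.isEmbedding.isInducing.specializes_iff.1 hwz) hfw]
  have hgp : ∃ Z ∈ irreducibleComponents ↥(g.fiber (g z)), IsGenericPoint (g.asFiber z) Z := by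
    refine ⟨closure {g.asFiber z}, FDescent.closure_mem_irreducibleComponents
      ((FibDim.fibMax_fiberι_iff g _).1 ?_), rfl⟩
    rwa [Scheme.Hom.fiberι_asFiber]
  obtain ⟨-, h2⟩ := FlatAssoc.relAss_of_flat f F ‹Coh.IsQCoh F› hF hy (specializes_iff_mem_closure.2 hmem) hmin
    (hflat z hgp)
  rw [hrd, h2]
  rfl

end Groth.Agent.S9790
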