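import Groth.Statements.S9791
import Groth.Agent.NormSmooth17.Basic

set_option autoImplicit false
set_option backward.isDefEq.respectTransparency false
set_option backward.isDefEq.respectTransparency.types false
universe u
open CategoryTheory CategoryTheory.Limits AlgebraicGeometry
open FlatMor

namespace Groth.Agent.S9791

/-- In the case of integral schemes: let f : X ⟶ Y be a smooth morphism with X and Y integral, and let
X^ν ⟶ X and Y^ν ⟶ Y be the normalizations (in the function fields). Then X^ν is isomorphic over X to
the fibre product X ×_Y Y^ν, and such an isomorphism is unique. (The published statement requires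
only that each quasi-compact open subset of Y meet finitely many irreducible components of Y, and
also derives this for X; this row assumes X and Y integral, the case in which the normalization used
here is defined. The quasi-compactness and quasi-separatedness binders on Spec K(X) → X and Spec
K(Y) → Y always hold and are needed only to form the normalization.) -/
theorem result {X Y : Scheme.{u}} (f : X ⟶ Y) [Smooth f] [IsIntegral X] [IsIntegral Y]
    [QuasiCompact (X.fromSpecStalk (genericPoint X))] [QuasiSeparated (X.fromSpecStalk (genericPoint X))]
    [QuasiCompact (Y.fromSpecStalk (genericPoint Y))] [QuasiSeparated (Y.fromSpecStalk (genericPoint Y))] :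
    ∃! e : Curv2.normalization X ≅ pullback f (Curv2.normalizationι Y),
      e.hom ≫ pullback.fst f (Curv2.normalizationι Y) = Curv2.normalizationι X := by
  obtain ⟨hirr, h⟩ := NormSmooth17.pullback_structure f
  haveI := hirr
  obtain ⟨hgen, hiso⟩ := h
  haveI := hiso
  haveI : IsIntegralHom (Curv2.normalizationι Y) := Synt29.isIntegralHom_normalizationι Y
  have hN := NormSmooth17.isNormalScheme_pullback f
  obtain ⟨e, he⟩ := Synt29.exists_iso_normalization (pullback.fst f (Curv2.normalizationι Y)) hN hgen
  refine ⟨e.symm, show e.inv ≫ _ = _ by rw [Iso.inv_comp_eq, he], ?_⟩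
  intro e' he'
  haveI := Synt29.isReduced_of_isNormalScheme hN
  haveI : IsIntegral (pullback f (Curv2.normalizationι Y)) := isIntegral_of_irreducibleSpace_of_isReduced _
  have hp : (e.hom ≫ e'.hom) (genericPoint ↥(pullback f (Curv2.normalizationι Y))) =
      genericPoint ↥(pullback f (Curv2.normalizationι Y)) :=
    genericPoint_eq_of_isOpenImmersion (e.hom ≫ e'.hom)
  have h1 := NormSmooth17.eq_id_of_comp_fst (pullback.fst f (Curv2.normalizationι Y)) (e.hom ≫ e'.hom)
    (by rw [Category.assoc, he', he]) hp
  ext1
  rw [Iso.symm_hom, ← cancel_epi e.hom, h1, Iso.hom_inv_id]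

end Groth.Agent.S9791
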