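import Groth.Statements.S9792
import Groth.Agent.SchTop.Basic

set_option autoImplicit false
universe u
open CategoryTheory AlgebraicGeometry TopologicalSpace
open Props

namespace Groth.Agent.S9792

/-- In a Noetherian scheme, every infinite set of points contains an infinite subset no two distinct
members of which are related by specialization. -/
theorem result (S : Scheme.{u}) [IsNoetherian S]
    (T : Set S) (hT : T.Infinite) :
    ∃ T' : Set S, T' ⊆ T ∧ T'.Infinite ∧ ∀ a ∈ T', ∀ b ∈ T', a ⤳ b → a = b := by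
  classical
  let M : Set S := {m ∈ T | ∀ b ∈ T, m ⤳ b → m = b}
  by_cases hM : M.Infinite
  · exact ⟨M, fun a ha => ha.1, hM, fun a ha b hb h => ha.2 b hb.1 h⟩
  -- finitely many points of `T` are closed in `T`; we pass to a minimal closed set meeting `T` infinitely
  obtain ⟨Z, hZ, hZmin⟩ := (wellFounded_lt (α := Closeds S)).has_min
    {Z : Closeds S | (T ∩ Z).Infinite} ⟨⊤, by simpa using hT⟩
  have hirr : IsIrreducible (Z : Set S) := by
    refine ⟨hZ.nonempty.mono Set.inter_subset_right, isPreirreducible_iff_isClosed_union_isClosed.2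
      fun z₁ z₂ h₁ h₂ h12 => ?_⟩
    by_contra hc
    push Not at hc
    have k : ∀ z : Set S, IsClosed z → ¬(Z : Set S) ⊆ z → (T ∩ Z ∩ z).Finite := fun z hz hnz => by
      rw [Set.inter_assoc]
      by_contra hf
      exact hZmin ⟨(Z : Set S) ∩ z, Z.isClosed.inter hz⟩ hf (lt_of_le_of_ne (fun _ ha => ha.1)
        fun he => hnz (by rw [← congrArg SetLike.coe he]; exact fun _ ha => ha.2))
    refine hZ ((((k _ h₁ hc.1).union (k _ h₂ hc.2))).subset fun a ha => ?_)
    rcases h12 ha.2 with h | h
    · exact Or.inl ⟨ha, h⟩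
    · exact Or.inr ⟨ha, h⟩
  let T'' : Set S := {a ∈ T ∩ (Z : Set S) | a ≠ hirr.genericPoint}
  have hT'' : T''.Infinite := by
    have := hZ.sdiff (Set.finite_singleton hirr.genericPoint)
    exact this.mono fun a ha => ⟨ha.1, ha.2⟩
  have hfin : ∀ a ∈ T'', (T ∩ closure {a}).Finite := by
    intro a ha
    by_contra hf
    have hle : closure {a} ⊆ (Z : Set S) :=
      Z.isClosed.closure_subset_iff.2 (Set.singleton_subset_iff.2 ha.1.2)
    refine hZmin ⟨closure {a}, isClosed_closure⟩ hf (lt_of_le_of_ne hle fun he => ha.2 ?_)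
    have h1 : IsGenericPoint a (Z : Set S) := congrArg SetLike.coe he
    exact h1.eq ((hirr.isGenericPoint_genericPoint Z.isClosed))
  -- every point of `T''` specializes to a point which is closed in `T`
  have hdown : ∀ a ∈ T'', ∃ m ∈ M, a ⤳ m := by
    intro a ha
    obtain ⟨m, hm, hmax⟩ := (hfin a ha).exists_maximalFor Groth.Agent.SchTop.codim _
      ⟨a, ha.1.1, subset_closure rfl⟩
    refine ⟨m, ⟨hm.1, fun b hb hmb => ?_⟩, specializes_iff_mem_closure.2 hm.2⟩
    by_contra hne
    have hlt := Groth.Agent.SchTop.codim_lt hmb hne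
    have := hmax ⟨hb, ((specializes_iff_mem_closure.2 hm.2).trans hmb).mem_closure⟩ hlt.le
    omega
  obtain ⟨m, -, hm⟩ : ∃ m ∈ M, {a ∈ T | a ⤳ m}.Infinite := by
    by_contra hc
    push Not at hc
    refine hT'' (((Set.not_infinite.1 hM).biUnion hc).subset fun a ha => ?_)
    obtain ⟨m, hm, ham⟩ := hdown a ha
    exact Set.mem_biUnion hm ⟨ha.1.1, ham⟩
  exact Groth.Agent.SchTop.exists_infinite_antichain_generizing T m hm

end Groth.Agent.S9792
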