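import Groth.Statements.S9794
import Groth.Agent.SchTop.Basic

set_option autoImplicit false
universe u
open CategoryTheory AlgebraicGeometry TopologicalSpace
open Props

namespace Groth.Agent.S9794

/-- In a Noetherian scheme, an infinite dense set of points contains a countable subset which is dense. -/
theorem result (S : Scheme.{u}) [IsNoetherian S]
    (T : Set S) (hT : T.Infinite) (hd : Dense T) :
    ∃ E : Set S, E ⊆ T ∧ E.Countable ∧ Dense E := by
  classical
  -- points whose closure is the closure of a countable subset of `T`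
  let P : Set S := {p | ∃ E, E ⊆ T ∧ E.Countable ∧ closure E = closure {p}}
  let M : Set S := {p ∈ P | ∀ q ∈ P, q ⤳ p → q = p}
  have hTP : ∀ t ∈ T, t ∈ P := fun t ht =>
    ⟨{t}, by simpa using ht, Set.countable_singleton t, rfl⟩
  choose! f hfT hfc hfcl using fun (p : S) (hp : p ∈ P) => hp
  have hM : M.Finite := by
    by_contra hinf
    have g := Set.Infinite.natEmbedding M hinf
    let M' : Set S := Set.range fun n => (g n : S)
    let E : Set S := ⋃ n, f (g n)
    have hET : E ⊆ T := Set.iUnion_subset fun n => hfT _ (g n).2.1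
    have hEc : E.Countable := Set.countable_iUnion fun n => hfc _ (g n).2.1
    obtain ⟨W, hWf, hWc, hWi, hWe⟩ :=
      NoetherianSpace.exists_finite_set_isClosed_irreducible (isClosed_closure (s := E))
    have hcomp : ∀ p ∈ M', ∃ w ∈ W, IsGenericPoint p w := by
      rintro _ ⟨n, rfl⟩
      have hp : (g n : S) ∈ closure E :=
        closure_mono (Set.subset_iUnion (fun n => f (g n)) n)
          (by rw [hfcl _ (g n).2.1]; exact subset_closure rfl)
      rw [hWe, Set.mem_sUnion] at hp
      obtain ⟨w₀, hw₀, hpw₀⟩ := hp
      obtain ⟨w, hle, hw⟩ := hWf.exists_le_maximal hw₀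
      have hgen := (hWi w hw.1).isGenericPoint_genericPoint (hWc w hw.1)
      have hnot : ¬ w ⊆ ⋃₀ (W \ {w}) := fun hsub => by
        obtain ⟨z, hz, hwz⟩ := isIrreducible_iff_sUnion_isClosed.1 (hWi w hw.1)
          (hWf.sdiff (t := {w})).toFinset (by simpa using fun z hz _ => hWc z hz)
          (by simpa using hsub)
        rw [Set.Finite.mem_toFinset] at hz
        exact hz.2 ((hw.2 hz.1 hwz).antisymm hwz)
      have hclU : IsClosed (⋃₀ (W \ {w})) := by
        rw [Set.sUnion_eq_biUnion]
        exact (hWf.sdiff).isClosed_biUnion fun z hz => hWc z hz.1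
      have hclw : closure (E ∩ w) = w := by
        refine (closure_minimal Set.inter_subset_right (hWc w hw.1)).antisymm ?_
        have h1 : closure E ⊆ closure (E ∩ w) ∪ ⋃₀ (W \ {w}) := by
          refine closure_minimal (fun x hx => ?_) (isClosed_closure.union hclU)
          have hx' : x ∈ ⋃₀ W := hWe ▸ subset_closure hx
          obtain ⟨z, hz, hxz⟩ := hx'
          by_cases hzw : z = w
          · exact Or.inl (subset_closure ⟨hx, hzw ▸ hxz⟩)
          · exact Or.inr ⟨z, ⟨hz, hzw⟩, hxz⟩
        exact ((isPreirreducible_iff_isClosed_union_isClosed.1 (hWi w hw.1).2) _ _ isClosed_closure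
          hclU ((Set.subset_sUnion_of_mem hw.1).trans (hWe ▸ h1))).resolve_right hnot
      have hP : (hWi w hw.1).genericPoint ∈ P :=
        ⟨E ∩ w, Set.inter_subset_left.trans hET, hEc.mono Set.inter_subset_left,
          hclw.trans hgen.def.symm⟩
      have heq : (hWi w hw.1).genericPoint = (g n : S) :=
        (g n).2.2 _ hP (hgen.specializes (hle hpw₀))
      refine ⟨w, hw.1, ?_⟩
      show IsGenericPoint (g n : S) w
      rw [← heq]
      exact hgen
    choose! w hw hgw using hcomp
    have hinf' : M'.Infinite :=
      Set.infinite_range_of_injective (Subtype.val_injective.comp g.injective)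
    refine hinf' (Set.Finite.of_finite_image (f := w) (hWf.subset ?_) ?_)
    · exact Set.image_subset_iff.2 hw
    · intro a ha b hb hab
      exact (hgw a ha).eq (hab ▸ hgw b hb)
  refine ⟨⋃ p ∈ M, f p, Set.iUnion₂_subset fun p hp => hfT p hp.1,
    hM.countable.biUnion fun p hp => hfc p hp.1, ?_⟩
  refine dense_closure.1 (hd.mono fun t ht => ?_)
  obtain ⟨p, hp, hmax, hpt⟩ := Groth.Agent.SchTop.exists_maximal_mem P (hTP t ht)
  refine closure_mono (Set.subset_biUnion_of_mem (u := f) (show p ∈ M from ⟨hp, hmax⟩)) ?_
  rw [hfcl p hp]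
  exact hpt.mem_closure

end Groth.Agent.S9794
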