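import Groth.Statements.S9800
import Groth.Agent.SchTop.Closed
import Groth.Agent.RegLoc6.Serre
import Mathlib.RingTheory.DiscreteValuationRing.TFAE
set_option autoImplicit false
universe u
open CategoryTheory AlgebraicGeometry TopologicalSpace
open Props

namespace Groth.Agent.S9800

/-- A locally Noetherian normal scheme of dimension at most one is regular, that is, all of its local
rings are regular local rings. -/
theorem result (X : Scheme.{u})
    [IsLocallyNoetherian X] (hN : Pi1.IsNormalScheme X) (hd : topologicalKrullDim X ≤ 1) (x : X) :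
    IsRegularLocalRing (X.presheaf.stalk x) := by
  obtain ⟨hdom, hic⟩ := hN x
  have hle : Ring.KrullDimLE 1 (X.presheaf.stalk x) := Ring.krullDimLE_iff.2
    ((Groth.Agent.SchTop.ringKrullDim_stalk_le x).trans hd)
  have htfae := (tfae_of_isNoetherianRing_of_isLocalRing_of_isDomain (X.presheaf.stalk x)).out
    (a := IsIntegrallyClosed (X.presheaf.stalk x) ∧ ∀ P : Ideal (X.presheaf.stalk x), P ≠ ⊥ →
      P.IsPrime → P = IsLocalRing.maximalIdeal _)
    (b := (IsLocalRing.maximalIdeal (X.presheaf.stalk x)).IsPrincipal) 3 4 rfl rfl
  have hp := htfae.1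
    ⟨hic, fun P h0 hP => IsLocalRing.eq_maximalIdeal
      (Ring.krullDimLE_one_iff_of_noZeroDivisors.mp hle P h0 hP)⟩
  by_cases hf : IsField (X.presheaf.stalk x)
  · exact Groth.Agent.RegLoc6.isRegularLocalRing_of_isField hf
  · refine IsRegularLocalRing.of_spanFinrank_maximalIdeal_le _ ?_
    obtain ⟨g, hg⟩ := hp.principal
    have h1 : (IsLocalRing.maximalIdeal (X.presheaf.stalk x)).spanFinrank ≤ 1 := by
      rw [hg]
      exact (Submodule.spanFinrank_span_le_ncard_of_finite (Set.finite_singleton g)).trans
        (Set.ncard_singleton g).le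
    refine le_trans ?_ (show (1 : WithBot ℕ∞) ≤ ringKrullDim (X.presheaf.stalk x) from ?_)
    · exact_mod_cast h1
    · refine le_of_not_gt fun h => hf ?_
      have : Ring.KrullDimLE 0 (X.presheaf.stalk x) := Ring.krullDimLE_iff.2 (by
        generalize ringKrullDim (X.presheaf.stalk x) = e at h ⊢
        induction e with
        | bot => exact bot_le
        | coe a =>
          have h' : a < 1 := by exact_mod_cast h
          rw [ENat.lt_one_iff_eq_zero.1 h']
          exact le_rfl)
      exact Ring.KrullDimLE.isField_of_isDomain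

end Groth.Agent.S9800
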