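import Groth.Statements.S9802
import Groth.Agent.AlgSpDec.NagataLocal
import Groth.Agent.H23.RedSub

set_option autoImplicit false
universe u
open CategoryTheory AlgebraicGeometry TopologicalSpace
open Props

namespace Groth.Agent.S9802

/-- A locally Noetherian scheme is Nagata (every affine open has a Nagata coordinate ring) if and only
if every integral closed subscheme is Japanese (every nonempty affine open of it has an N-2
coordinate ring). -/
theorem result (X : Scheme.{u})
    [IsLocallyNoetherian X] :
    (∀ U : X.Opens, IsAffineOpen U → CAlg.IsNagata Γ(X, U)) ↔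
      ∀ (Z : Scheme.{u}) (i : Z ⟶ X) [IsClosedImmersion i] [IsIntegral Z]
        (V : Z.Opens) [Nonempty V], IsAffineOpen V → CAlg.IsN2 Γ(Z, V) := by
  constructor
  · intro hN Z i _ _ V _ hV
    exact N12Aux.isN2_of_isNagata (AlgSpDec.NagataLocal.isNagata_affineOpen i
      (fun U : X.affineOpens => (U : X.Opens)) (iSup_affineOpens_eq_top X) (fun U => U.2) (fun U => hN U U.2) V hV)
  · intro h U hU
    refine ⟨IsLocallyNoetherian.component_noetherian ⟨U, hU⟩, fun p hp => ?_⟩
    let q : Spec Γ(X, U) := ⟨p, hp⟩
    let C : TopologicalSpace.Closeds X := ⟨closure {hU.fromSpec q}, isClosed_closure⟩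
    let I := Scheme.IdealSheafData.vanishingIdeal C
    have hr : Set.range I.subschemeι = closure {hU.fromSpec q} := H23.RedSub.range_vanishingIdeal C
    haveI : IsReduced I.subscheme := H23.RedSub.isReduced_vanishingIdeal C
    haveI : IrreducibleSpace I.subscheme := by
      have hi : IsIrreducible (Set.range I.subschemeι) := by
        rw [hr]; exact isIrreducible_singleton.closure
      haveI := Subtype.irreducibleSpace hi
      let e := I.subschemeι.isClosedEmbedding.isEmbedding.toHomeomorph
      exact (irreducibleSpace_def _).2 (by
        have := (IrreducibleSpace.isIrreducible_univ (Set.range I.subschemeι)).image e.symm e.symm.continuous.continuousOn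
        rwa [Set.image_univ, e.symm.surjective.range_eq] at this)
    haveI : IsIntegral I.subscheme := isIntegral_of_irreducibleSpace_of_isReduced _
    obtain ⟨z, hz⟩ := hr.ge (subset_closure (Set.mem_singleton _))
    let V : I.subscheme.Opens := I.subschemeι ⁻¹ᵁ U
    haveI : Nonempty V := ⟨⟨z, by
      show I.subschemeι z ∈ U
      rw [hz]
      exact hU.range_fromSpec.le ⟨q, rfl⟩⟩⟩
    have hN2 := h I.subscheme I.subschemeι V (hU.preimage I.subschemeι)
    have hp' : I.ideal ⟨U, hU⟩ = p := by
      rw [Scheme.IdealSheafData.vanishingIdeal_ideal]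
      have hcl : hU.fromSpec ⁻¹' closure {hU.fromSpec q} = closure {q} := by
        rw [hU.fromSpec.isOpenEmbedding.isOpenMap.preimage_closure_eq_closure_preimage hU.fromSpec.continuous]
        congr 1
        rw [← Set.image_singleton, hU.fromSpec.isOpenEmbedding.injective.preimage_image]
      exact (congrArg PrimeSpectrum.vanishingIdeal hcl).trans
        ((PrimeSpectrum.vanishingIdeal_closure _).trans (PrimeSpectrum.vanishingIdeal_singleton q))
    exact N12Aux.isN2_of_ringEquiv
      ((I.subschemeObjIso ⟨U, hU⟩).commRingCatIsoToRingEquiv.trans (Ideal.quotEquivOfEq hp')) hN2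

end Groth.Agent.S9802
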