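import Groth.Statements.S9803
import Mathlib.AlgebraicGeometry.QuasiAffine
import Mathlib.AlgebraicGeometry.AffineSpace
import Mathlib.Algebra.MvPolynomial.CommRing
-- import your own Groth.Agent.* helpers here

set_option autoImplicit false
universe u
open CategoryTheory AlgebraicGeometry TopologicalSpace
open Props

namespace Groth.Agent.S9803

open AlgebraicGeometry CategoryTheory Limits MvPolynomial

/-- The torsor `{Σ fᵢ xᵢ = 1} × 𝔸¹`. -/
abbrev TorsRing {A : Type u} [CommRing A] {n : ℕ} (f : Fin n → A) : Type u :=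
  MvPolynomial (Option (Fin n)) A ⧸ Ideal.span {∑ i, C (f i) * X (some i) - 1}

theorem isPushout_tors {A : Type u} [CommRing A] {n : ℕ} (f : Fin n → A) {B : Type u} [CommRing B]
    (α : A →+* B) (s : Fin n → B) (hs : ∑ i, α (f i) * s i = 1) :
    ∃ φ : TorsRing f →+* MvPolynomial (ULift.{u} (Fin n)) B,
      IsPushout (CommRingCat.ofHom α) (CommRingCat.ofHom (algebraMap A (TorsRing f)))
        (CommRingCat.ofHom (MvPolynomial.C : B →+* MvPolynomial (ULift.{u} (Fin n)) B)) (CommRingCat.ofHom φ) := by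
  let P := MvPolynomial (ULift.{u} (Fin n)) B
  let tt : P := ∑ i, C (α (f i)) * X ⟨i⟩
  let x : Fin n → P := fun i => X ⟨i⟩ - tt * C (s i) + C (s i)
  have hrel : ∑ i, C (α (f i)) * x i = (1 : P) := by
    have hs' : ∑ i, (C (α (f i)) * C (s i) : P) = 1 := by
      simp_rw [← map_mul, ← map_sum, hs, map_one]
    calc ∑ i, C (α (f i)) * x i
        = ∑ i, C (α (f i)) * X ⟨i⟩ - tt * ∑ i, C (α (f i)) * C (s i) + ∑ i, C (α (f i)) * C (s i) := by
          simp only [x, mul_add, mul_sub, Finset.sum_add_distrib, Finset.sum_sub_distrib, Finset.mul_sum]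
          refine congrArg₂ _ (congrArg₂ _ rfl ?_) rfl
          rw [Finset.mul_sum]
          exact Finset.sum_congr rfl fun i _ => by ring
      _ = 1 := by rw [hs']; ring
  let φ₀ : MvPolynomial (Option (Fin n)) A →+* P := eval₂Hom (C.comp α) (fun o => o.elim tt x)
  have hker : ∀ z ∈ Ideal.span {∑ i, C (f i) * X (some i) - (1 : MvPolynomial (Option (Fin n)) A)}, φ₀ z = 0 := by
    intro z hz
    obtain ⟨r, rfl⟩ := Ideal.mem_span_singleton'.1 hz
    simp [φ₀, hrel]
  let φ : TorsRing f →+* P := Ideal.Quotient.lift _ φ₀ hker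
  let xq : Option (Fin n) → TorsRing f := fun o => Ideal.Quotient.mk _ (X o)
  have hφa : ∀ a, φ (algebraMap A (TorsRing f) a) = C (α a) := fun a => by
    show φ₀ (C a) = _
    simp [φ₀]
  have hφx : ∀ o, φ (xq o) = o.elim tt x := fun o => by
    show φ₀ (X o) = _
    simp [φ₀]
  refine ⟨φ, ⟨⟨?_⟩, ⟨PushoutCocone.IsColimit.mk _ (fun c => CommRingCat.ofHom (eval₂Hom c.inl.hom
    (fun i => c.inr.hom (xq (some i.down)) - c.inl.hom (s i.down) + c.inr.hom (xq none) * c.inl.hom (s i.down))))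
    (fun c => ?_) (fun c => ?_) (fun c m h₁ h₂ => ?_)⟩⟩⟩
  · exact CommRingCat.hom_ext (RingHom.ext fun a => (hφa a).symm)
  · ext b
    exact eval₂Hom_C _ _ b
  · have hw : ∀ a, c.inr.hom (algebraMap A (TorsRing f) a) = c.inl.hom (α a) := fun a =>
      (ConcreteCategory.congr_hom c.condition a).symm
    have hr : ∑ i, c.inl.hom (α (f i)) * c.inr.hom (xq (some i)) = 1 := by
      have h0 : ∑ i, algebraMap A (TorsRing f) (f i) * xq (some i) = 1 := by
        have : Ideal.Quotient.mk (Ideal.span {∑ i, C (f i) * X (some i) - (1 : MvPolynomial (Option (Fin n)) A)})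
            (∑ i, C (f i) * X (some i)) = 1 := by
          rw [← map_one (Ideal.Quotient.mk _), Ideal.Quotient.eq]
          exact Ideal.mem_span_singleton_self _
        rw [map_sum] at this
        simp only [map_mul] at this
        exact this
      have := congrArg c.inr.hom h0
      rw [map_sum, map_one] at this
      simpa [hw] using this
    have hs' : ∑ i, c.inl.hom (α (f i)) * c.inl.hom (s i) = 1 := by
      simp_rw [← map_mul, ← map_sum, hs, map_one]
    have ht : eval₂Hom c.inl.hom (fun i : ULift.{u} (Fin n) => c.inr.hom (xq (some i.down)) - c.inl.hom (s i.down) +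
        c.inr.hom (xq none) * c.inl.hom (s i.down)) tt = c.inr.hom (xq none) := by
      simp only [tt, map_sum, map_mul, eval₂Hom_C, eval₂Hom_X', mul_add, mul_sub, Finset.sum_add_distrib,
        Finset.sum_sub_distrib, hr, hs', sub_self, zero_add]
      rw [Finset.sum_congr rfl fun i _ => mul_left_comm _ _ _, ← Finset.mul_sum, hs', mul_one]
    refine CommRingCat.hom_ext (Ideal.Quotient.ringHom_ext (MvPolynomial.ringHom_ext (fun a => ?_) fun o => ?_))
    · show eval₂Hom c.inl.hom _ (φ (algebraMap A (TorsRing f) a)) = c.inr.hom (algebraMap A (TorsRing f) a)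
      rw [hφa, eval₂Hom_C, hw]
    · show eval₂Hom c.inl.hom _ (φ (xq o)) = c.inr.hom (xq o)
      rw [hφx]
      cases o with
      | none => exact ht
      | some i =>
        simp only [Option.elim_some, x, map_add, map_sub, map_mul, eval₂Hom_C, eval₂Hom_X', ht]
        ring
  · refine CommRingCat.hom_ext (MvPolynomial.ringHom_ext (fun b => ?_) fun i => ?_)
    · exact (ConcreteCategory.congr_hom h₁ b).trans (eval₂Hom_C _ _ b).symm
    · have hx : ∀ z, m.hom (φ z) = c.inr.hom z := fun z => ConcreteCategory.congr_hom h₂ z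
      have hc : ∀ b, m.hom (C b) = c.inl.hom b := fun b => ConcreteCategory.congr_hom h₁ b
      show m.hom (X i) = eval₂Hom c.inl.hom _ (X i)
      rw [eval₂Hom_X', ← hx, ← hx, ← hc, hφx, hφx, ← map_sub, ← map_mul, ← map_add]
      refine congrArg m.hom ?_
      simp only [Option.elim_some, Option.elim_none, x, show (⟨i.down⟩ : ULift.{u} (Fin n)) = i from rfl]
      ring

/-- A quasi-affine scheme X admits a morphism from an affine scheme T which, after base change to any
affine scheme over X, becomes isomorphic over that affine scheme to an affine space of fixed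
dimension n. -/
theorem result (X : Scheme.{u}) [X.IsQuasiAffine] :
    ∃ (n : ℕ) (T : Scheme.{u}) (_ : IsAffine T) (p : T ⟶ X),
      ∀ (X' : Scheme.{u}) [IsAffine X'] (g : X' ⟶ X),
        ∃ e : Limits.pullback g p ≅ 𝔸(ULift.{u} (Fin n); X'),
          e.hom ≫ (𝔸(ULift.{u} (Fin n); X') ↘ X') = Limits.pullback.fst g p := by
  classical
  let A := Γ(X, ⊤)
  let j := X.toSpecΓ
  obtain ⟨s, hsf, hs⟩ := (PrimeSpectrum.isTopologicalBasis_basic_opens (R := A)).open_eq_sUnion
    (u := (Set.range j.base : Set (PrimeSpectrum A))) j.opensRange.isOpen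
  have hc : IsCompact (Set.range j.base : Set (PrimeSpectrum A)) := isCompact_range j.continuous
  obtain ⟨F, hF⟩ : ∃ F : Finset A, ∀ q : PrimeSpectrum A, q ∈ Set.range j.base ↔ ∃ r ∈ F, r ∉ q.asIdeal := by
    obtain ⟨t, ht⟩ := hc.elim_finite_subcover
      (fun r : {r : A // (PrimeSpectrum.basicOpen r : Set (PrimeSpectrum A)) ⊆ Set.range j.base} =>
        (PrimeSpectrum.basicOpen r.1 : Set (PrimeSpectrum A))) (fun r => (PrimeSpectrum.basicOpen r.1).isOpen)
      fun q hq => by
        obtain ⟨_, hW, hqW⟩ := hs.le hq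
        obtain ⟨r, rfl⟩ := hsf hW
        exact Set.mem_iUnion.2 ⟨⟨r, fun x hx => hs.ge ⟨_, hW, hx⟩⟩, hqW⟩
    refine ⟨t.map ⟨Subtype.val, Subtype.val_injective⟩, fun q => ⟨fun hq => ?_, ?_⟩⟩
    · obtain ⟨r, hr, hqr⟩ := Set.mem_iUnion₂.1 (ht hq)
      exact ⟨r.1, Finset.mem_map_of_mem _ hr, hqr⟩
    · rintro ⟨r, hr, hqr⟩
      obtain ⟨r, hr', rfl⟩ := Finset.mem_map.1 hr
      exact r.2 hqr
  let n := F.card
  let f : Fin n → A := fun i => (F.equivFin.symm i).1
  have hf : ∀ q : PrimeSpectrum A, q ∈ Set.range j.base ↔ ∃ i, f i ∉ q.asIdeal := fun q => by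
    rw [hF]
    exact ⟨fun ⟨r, hr, h⟩ => ⟨F.equivFin ⟨r, hr⟩, by simpa [f] using h⟩, fun ⟨i, h⟩ => ⟨_, (F.equivFin.symm i).2, h⟩⟩
  let q : Spec (CommRingCat.of (TorsRing f)) ⟶ Spec A := Spec.map (CommRingCat.ofHom (algebraMap A (TorsRing f)))
  have hq : Set.range q.base ⊆ Set.range j.base := by
    rintro _ ⟨z, rfl⟩
    refine (hf _).2 ?_
    by_contra! h
    refine z.isPrime.ne_top ((Ideal.eq_top_iff_one _).2 ?_)
    have h1 : Ideal.Quotient.mk (Ideal.span {∑ i, C (f i) * MvPolynomial.X (some i) - (1 : MvPolynomial (Option (Fin n)) A)})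
        (∑ i, C (f i) * MvPolynomial.X (some i)) = 1 := by
      rw [← map_one (Ideal.Quotient.mk _), Ideal.Quotient.eq]
      exact Ideal.mem_span_singleton_self _
    rw [map_sum] at h1
    rw [← h1]
    refine Ideal.sum_mem _ fun i _ => ?_
    rw [map_mul]
    exact Ideal.mul_mem_right _ _ (h i)
  refine ⟨n, Spec (CommRingCat.of (TorsRing f)), inferInstance, IsOpenImmersion.lift j q hq, fun X' _ g => ?_⟩
  let p := IsOpenImmersion.lift j q hq
  let α : A ⟶ Γ(X', ⊤) := Spec.preimage (X'.isoSpec.inv ≫ g ≫ j)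
  have hα : Spec.map α = X'.isoSpec.inv ≫ g ≫ j := Spec.map_preimage _
  obtain ⟨s', hs'⟩ : ∃ s : Fin n → Γ(X', ⊤), ∑ i, s i • α.hom (f i) = 1 := by
    refine (Submodule.mem_span_range_iff_exists_fun _).1 ?_
    show (1 : Γ(X', ⊤)) ∈ Ideal.span (Set.range fun i => α.hom (f i))
    rw [← Ideal.eq_top_iff_one]
    by_contra h
    obtain ⟨m, hm, hle⟩ := Ideal.exists_le_maximal _ h
    obtain ⟨i, hi⟩ := (hf ((Spec.map α).base (⟨m, hm.isPrime⟩ : PrimeSpectrum Γ(X', ⊤)))).1 (by
      rw [hα]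
      exact ⟨g.base (X'.isoSpec.inv.base (⟨m, hm.isPrime⟩ : PrimeSpectrum Γ(X', ⊤))), rfl⟩)
    exact hi (hle (Ideal.subset_span ⟨i, rfl⟩))
  obtain ⟨φ, hφ⟩ := isPushout_tors f α.hom s' (by simpa [mul_comm] using hs')
  have h0 := isPullback_SpecMap_of_isPushout _ _ _ _ hφ
  have h1 : IsPullback (𝔸(ULift.{u} (Fin n); X') ↘ X')
      ((AffineSpace.isoOfIsAffine (ULift.{u} (Fin n)) X').hom ≫ Spec.map (CommRingCat.ofHom φ)) (g ≫ j) q := by
    refine h0.of_iso (AffineSpace.isoOfIsAffine (ULift.{u} (Fin n)) X').symm X'.isoSpec.symm (Iso.refl _) (Iso.refl _)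
      ?_ ?_ ?_ ?_
    · simp
    · simp
    · simp [hα]
    · simp [q]
  have h2 : IsPullback (𝔸(ULift.{u} (Fin n); X') ↘ X')
      ((AffineSpace.isoOfIsAffine (ULift.{u} (Fin n)) X').hom ≫ Spec.map (CommRingCat.ofHom φ)) g p := by
    have h1' : IsPullback (𝔸(ULift.{u} (Fin n); X') ↘ X')
      ((AffineSpace.isoOfIsAffine (ULift.{u} (Fin n)) X').hom ≫ Spec.map (CommRingCat.ofHom φ)) (g ≫ j) (p ≫ j) := by
      rw [IsOpenImmersion.lift_fac]; exact h1
    refine ⟨⟨?_⟩, ⟨PullbackCone.IsLimit.mk _ (fun s => h1'.lift s.fst s.snd (by rw [reassoc_of% s.condition]))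
      (fun s => h1'.lift_fst _ _ _) (fun s => h1'.lift_snd _ _ _)
      (fun s m e₁ e₂ => h1'.hom_ext (by rw [e₁, h1'.lift_fst]) (by rw [e₂, h1'.lift_snd]))⟩⟩
    rw [← cancel_mono j, Category.assoc (f := 𝔸(ULift.{u} (Fin n); X') ↘ X')]
    exact h1'.w.trans (Category.assoc _ _ _).symm
  exact ⟨h2.isoPullback.symm, h2.isoPullback_inv_fst⟩

end Groth.Agent.S9803
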