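import Groth.Statements.S9804
import Mathlib.AlgebraicGeometry.QuasiAffine

set_option autoImplicit false
universe u
open CategoryTheory AlgebraicGeometry TopologicalSpace
open Props

namespace Groth.Agent.S9804

/-- For quasi-affine schemes U and V and an open immersion j : U → V, the scheme U is the fibre product
of the composite U → V → Spec Γ(V, O_V) and the morphism Spec Γ(U, O_U) → Spec Γ(V, O_V) induced by
restriction of sections along j: the square whose sides are the identity of U, the canonical
morphism U → Spec Γ(U, O_U), that composite and that induced morphism is cartesian. -/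
theorem result {U V : Scheme.{u}} (j : U ⟶ V)
    [IsOpenImmersion j] [U.IsQuasiAffine] [V.IsQuasiAffine] :
    IsPullback (𝟙 U) U.toSpecΓ (j ≫ V.toSpecΓ) (Spec.map j.appTop) := by
  let g := j ≫ V.toSpecΓ
  let π : Spec Γ(U, ⊤) ⟶ Spec Γ(V, ⊤) := Spec.map j.appTop
  have hnat : 𝟙 U ≫ g = U.toSpecΓ ≫ π := by simp [g, π, Scheme.toSpecΓ_naturality]
  let s : U ⟶ Limits.pullback g π := Limits.pullback.lift (𝟙 U) U.toSpecΓ hnat
  have hfst : s ≫ Limits.pullback.fst g π = 𝟙 U := Limits.pullback.lift_fst _ _ _
  have hsnd : s ≫ Limits.pullback.snd g π = U.toSpecΓ := Limits.pullback.lift_snd _ _ _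
  have hc : IsClosedImmersion s := by
    have : IsClosedImmersion (s ≫ Limits.pullback.fst g π) := by rw [hfst]; infer_instance
    exact IsClosedImmersion.of_comp s (Limits.pullback.fst g π)
  have ho : IsOpenImmersion s := by
    have : IsOpenImmersion (s ≫ Limits.pullback.snd g π) := by rw [hsnd]; infer_instance
    exact IsOpenImmersion.of_comp s (Limits.pullback.snd g π)
  have hsurj : Function.Surjective s := by
    intro p
    by_contra hp
    obtain ⟨-, ⟨q, hq, rfl⟩, u, hu⟩ := U.toSpecΓ.denseRange.inter_open_nonempty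
      (Limits.pullback.snd g π '' (Set.range s)ᶜ)
      ((Limits.pullback.snd g π).isOpenEmbedding.isOpenMap _ s.isClosedEmbedding.isClosed_range.isOpen_compl)
      ⟨_, p, hp, rfl⟩
    refine hq ⟨u, (Limits.pullback.snd g π).isOpenEmbedding.injective ?_⟩
    rw [← hu, ← Scheme.Hom.comp_apply, hsnd]
  have : IsIso s := by
    have : Surjective s := ⟨hsurj⟩
    exact (isIso_iff_isOpenImmersion_and_epi_base s).2 ⟨ho, (TopCat.epi_iff_surjective _).2 hsurj⟩
  exact (IsPullback.of_hasPullback g π).of_iso (asIso s).symm (Iso.refl _) (Iso.refl _) (Iso.refl _)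
    (by rw [Iso.symm_hom, asIso_inv, Iso.refl_hom, Category.comp_id, IsIso.eq_inv_comp, hfst]) (by rw [Iso.symm_hom, asIso_inv, Iso.refl_hom, Category.comp_id, IsIso.eq_inv_comp, hsnd]) (by simp [g]) (by simp [π])

end Groth.Agent.S9804
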