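import Groth.Statements.S9807
import Groth.Agent.SchTop.Closed
import Groth.Agent.RegLoc6.Open
set_option autoImplicit false
universe u
open CategoryTheory AlgebraicGeometry TopologicalSpace
open Props

namespace Groth.Agent.S9807

/-- A locally Noetherian scheme is regular (all local rings regular) as soon as its local rings at
closed points are regular, and conversely. -/
theorem result (X : Scheme.{u}) [IsLocallyNoetherian X] :
    (∀ x : X, IsRegularLocalRing (X.presheaf.stalk x)) ↔
      ∀ x : X, IsClosed ({x} : Set X) → IsRegularLocalRing (X.presheaf.stalk x) := by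
  refine ⟨fun h x _ => h x, fun h x => ?_⟩
  obtain ⟨z, hxz, hz⟩ := Groth.Agent.SchTop.exists_isClosed_specializes x
  obtain ⟨_, ⟨U, hU, rfl⟩, hzU, -⟩ :=
    X.isBasis_affineOpens.exists_subset_of_mem_open (Set.mem_univ z) isOpen_univ
  have hxU : x ∈ U := hxz.mem_open U.isOpen hzU
  have : IsNoetherianRing Γ(X, U) := IsLocallyNoetherian.component_noetherian ⟨U, hU⟩
  obtain ⟨ex⟩ := Groth.Agent.SchTop.nonempty_stalk_equiv hU hxU
  obtain ⟨ez⟩ := Groth.Agent.SchTop.nonempty_stalk_equiv hU hzU
  have := h z hz
  have := Groth.Agent.RegLoc6.regular_of_le (Groth.Agent.SchTop.primeIdealOf_le hU hxU hzU hxz)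
    (IsRegularLocalRing.of_ringEquiv ez)
  exact IsRegularLocalRing.of_ringEquiv ex.symm

end Groth.Agent.S9807
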