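import Groth.Statements.S9810
import Groth.Agent.BrnchLib.Count

set_option autoImplicit false
universe u
open Brnch

namespace Groth.Agent.S9810

/-- Branches, in terms of the local ring: for a local ring A with finitely many minimal prime ideals,
the number of branches of A is the sum over the minimal primes p of the numbers of branches of the
local domains A/p. Geometrically: the number of branches of a scheme at a point is the sum of the
numbers of branches at that point of the irreducible components passing through it. -/
theorem result (A : Type u) [CommRing A] [IsLocalRing A]
    (h : (minimalPrimes A).Finite) :
    Brnch.numBranches A =
      ∑ᶠ p : minimalPrimes A,
        haveI : p.1.IsPrime := p.2.1.1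
        Brnch.numBranches (A ⧸ p.1) := by
  exact BrnchLib.numBranches_eq_finsum A h

end Groth.Agent.S9810
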