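import Groth.Statements.S9811
import Groth.Agent.BrnchLib.Count

set_option autoImplicit false
universe u
open Brnch

namespace Groth.Agent.S9811

/-- Geometric branches, in terms of the local ring: for a local ring A with finitely many minimal prime
ideals, the number of geometric branches of A is the sum over the minimal primes p of the numbers of
geometric branches of the local domains A/p. -/
theorem result (A : Type u) [CommRing A] [IsLocalRing A]
    (h : (minimalPrimes A).Finite) :
    Brnch.numGeomBranches A =
      ∑ᶠ p : minimalPrimes A,
        haveI : p.1.IsPrime := p.2.1.1
        Brnch.numGeomBranches (A ⧸ p.1) := by
  exact BrnchLib.numGeomBranches_eq_finsum A h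

end Groth.Agent.S9811
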