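import Groth.Statements.S9813
import Groth.Agent.AmpleX.Separated
-- import your own Groth.Agent.* helpers here

set_option autoImplicit false
universe u
open CategoryTheory CategoryTheory.Limits AlgebraicGeometry TopologicalSpace
open Props

namespace Groth.Agent.S9813

open Groth.Agent Groth.Agent.AmpleX Groth.Agent.H23.PicMul TopologicalSpace
set_option backward.isDefEq.respectTransparency false
set_option backward.isDefEq.respectTransparency.types false
variable {X : Scheme.{u}} {L : X.Modules}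

/-- Any two points have a common affine neighbourhood. -/
theorem exists_affine_pair (hL : PicF.IsInvertible L) (hx : ∀ x : X, ∃ (n : ℕ) (s : Coh.structureModule X ⟶ CohB1.tensorPow L (n + 1)),
      x ∈ CohB1.genLocus _ s ∧ IsAffineOpen (CohB1.genLocus _ s)) (x y : X) :
    ∃ U : X.Opens, IsAffineOpen U ∧ x ∈ U ∧ y ∈ U := by
  classical
  obtain ⟨k, s, hxs, hs⟩ := hx x
  obtain ⟨l, t, hyt, ht⟩ := hx y
  by_cases hxt : x ∈ CohB1.genLocus _ t
  · exact ⟨_, ht, hxt, hyt⟩
  by_cases hys : y ∈ CohB1.genLocus _ s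
  · exact ⟨_, hs, hxs, hys⟩
  obtain ⟨S, hS⟩ := exists_section_of_cl_eq (B := CohB1.tensorPow L ((k + 1) * (l + 1)))
    (by rw [cl_tensorPow, cl_tensorPow, cl_tensorPow, ← pow_mul]) (InvX.powHom s (l + 1))
  obtain ⟨T, hT⟩ := exists_section_of_cl_eq (B := CohB1.tensorPow L ((k + 1) * (l + 1)))
    (by rw [cl_tensorPow, cl_tensorPow, cl_tensorPow, ← pow_mul, mul_comm]) (InvX.powHom t (k + 1))
  rw [InvX.genLocus_powHom (InvX.isInvertible_tensorPow hL _)] at hS hT
  have hM := InvX.isInvertible_tensorPow hL ((k + 1) * (l + 1))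
  let σ := S + T
  have hmem : ∀ (z : X) (A B : Coh.structureModule X ⟶ CohB1.tensorPow L ((k + 1) * (l + 1))),
      A + B = σ → z ∈ CohB1.genLocus _ A → z ∉ CohB1.genLocus _ B → z ∈ CohB1.genLocus _ σ := by
    intro z A B hAB hA hB
    obtain ⟨V, hzV, e, he⟩ := InvX.exists_frame hM z
    obtain ⟨g, hg⟩ := he.exists_coord le_rfl (AModX.res _ (le_top : V ≤ ⊤) (InvX.one A))
    obtain ⟨g', hg'⟩ := he.exists_coord le_rfl (AModX.res _ (le_top : V ≤ ⊤) (InvX.one B))
    rw [AModX.res_self] at hg hg'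
    have hsum : AModX.res _ (le_top : V ≤ ⊤) (InvX.one σ) = (g + g') • e := by
      rw [← hAB, one_add, map_add, hg, hg', add_smul]
    rw [mem_genLocus_iff σ he hsum hzV, map_add]
    have hu := (mem_genLocus_iff A he hg hzV).1 hA
    have hnu : X.presheaf.germ V z hzV g' ∈ IsLocalRing.maximalIdeal (X.presheaf.stalk z) :=
      fun h' => hB ((mem_genLocus_iff B he hg' hzV).2 h')
    by_contra hc
    have h2 := Ideal.sub_mem _ (show _ ∈ IsLocalRing.maximalIdeal (X.presheaf.stalk z) from hc) hnu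
    rw [add_sub_cancel_right] at h2
    exact h2 hu
  refine ⟨CohB1.genLocus _ σ, ?_, hmem x S T rfl (hS.symm ▸ hxs) (hT.symm ▸ hxt),
    hmem y T S (add_comm _ _) (hT.symm ▸ hyt) (hS.symm ▸ hys)⟩
  have hτ := res_genLocus_frame σ
  obtain ⟨c, hc⟩ := hτ.exists_coord le_rfl (AModX.res _ (le_top : CohB1.genLocus _ σ ≤ ⊤) (InvX.one S))
  obtain ⟨d, hd⟩ := hτ.exists_coord le_rfl (AModX.res _ (le_top : CohB1.genLocus _ σ ≤ ⊤) (InvX.one T))
  rw [AModX.res_self] at hc hd
  have h1 : c + d = 1 := hτ.coord_unique le_rfl (by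
    rw [AModX.res_self, add_smul, ← hc, ← hd, one_smul, ← map_add]
    rfl)
  refine isAffineOpen_of_isAffineOpen_basicOpen _ {c, d}
    ((Ideal.eq_top_iff_one _).2 (h1 ▸ Ideal.add_mem _ (Ideal.subset_span (Set.mem_insert _ _))
      (Ideal.subset_span (Set.mem_insert_of_mem _ rfl)))) ?_
  have key : ∀ (A : Coh.structureModule X ⟶ CohB1.tensorPow L ((k + 1) * (l + 1)))
      (g : Γ(X, CohB1.genLocus _ σ)),
      AModX.res _ (le_top : CohB1.genLocus _ σ ≤ ⊤) (InvX.one A) =
        g • AModX.res _ (le_top : CohB1.genLocus _ σ ≤ ⊤) (InvX.one σ) →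
      IsAffineOpen (CohB1.genLocus _ A) → IsAffineOpen (X.basicOpen g) := by
    intro A g hg hA
    rw [← InvX.genLocus_inf A hτ hg]
    exact isAffineOpen_inf_genLocus hM hA σ
  rintro g (rfl | rfl)
  · exact key S g hc (hS.symm ▸ hs)
  · exact key T g hd (hT.symm ▸ ht)



/-- Let L be an invertible module on a scheme X such that every point lies in an affine open of the form
X_s for some global section s of a positive tensor power of L. Then X is separated. In particular a
scheme carrying an ample invertible module is separated. -/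
theorem result (X : Scheme.{u}) (L : X.Modules) (hL : PicF.IsInvertible L)
    (h : ∀ x : X, ∃ (n : ℕ) (s : Coh.structureModule X ⟶ CohB1.tensorPow L (n + 1)),
      x ∈ CohB1.genLocus _ s ∧ IsAffineOpen (CohB1.genLocus _ s)) :
    X.IsSeparated :=
  ⟨H23.SepCrit.isSeparated_of_pairs_affine _ fun x y _ => exists_affine_pair hL h x y⟩

end Groth.Agent.S9813
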