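import Groth.Statements.S9814
import Groth.Agent.InvX.Tensor

set_option autoImplicit false
universe u
open CategoryTheory CategoryTheory.Limits AlgebraicGeometry TopologicalSpace
open Props

namespace Groth.Agent.S9814

/-- Let L be an invertible module on a scheme X. If the opens X_s (s a global section of a positive
tensor power of L) form a basis for the topology, then so do the affine ones among them. -/
theorem result (X : Scheme.{u}) (L : X.Modules) (hL : PicF.IsInvertible L)
    (hB : Opens.IsBasis {U : X.Opens | ∃ (n : ℕ) (s : Coh.structureModule X ⟶ CohB1.tensorPow L (n + 1)),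
      U = CohB1.genLocus _ s}) :
    Opens.IsBasis {U : X.Opens | IsAffineOpen U ∧ ∃ (n : ℕ) (s : Coh.structureModule X ⟶ CohB1.tensorPow L (n + 1)),
      U = CohB1.genLocus _ s} := by
  refine Opens.isBasis_iff_nbhd.2 fun {W} {x} hx => ?_
  obtain ⟨_, ⟨V, hV, rfl⟩, hxV, hVW⟩ := X.isBasis_affineOpens.exists_subset_of_mem_open hx W.isOpen
  obtain ⟨U, ⟨n, s, rfl⟩, hxU, hUV⟩ := Opens.isBasis_iff_nbhd.1 hB (U := V) hxV
  refine ⟨CohB1.genLocus _ s, ⟨?_, n, s, rfl⟩, hxU, hUV.trans hVW⟩
  haveI := Groth.Agent.InvX.isAffineHom_genLocus_ι (Groth.Agent.InvX.isInvertible_tensorPow hL (n + 1)) s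
  have h := hV.preimage (CohB1.genLocus (CohB1.tensorPow L (n + 1)) s).ι
  have h2 := h.image_of_isOpenImmersion (CohB1.genLocus (CohB1.tensorPow L (n + 1)) s).ι
  rwa [Scheme.Hom.image_preimage_eq_opensRange_inf, Scheme.Opens.opensRange_ι, inf_eq_left.2 hUV] at h2

end Groth.Agent.S9814
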