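import Groth.Statements.S9817
import Groth.Agent.AmpleX.RelAffine
import Groth.Agent.AmpleX.Locus
import Groth.Agent.GrModX.MapProps
import Groth.Agent.TwistX.Global
import Groth.Agent.PnCoh.Finite.TwistInv
import Groth.Agent.H23.TensorDesc

set_option autoImplicit false
universe u
open CategoryTheory CategoryTheory.Limits AlgebraicGeometry TopologicalSpace
open Props

namespace Groth.Agent.S9817
set_option backward.isDefEq.respectTransparency false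
set_option backward.isDefEq.respectTransparency.types false
open CategoryTheory AlgebraicGeometry TopologicalSpace Opposite
namespace Aux
variable {R A : Type u} [CommRing R] [CommRing A] [Algebra R A] (𝒜 : ℕ → Submodule R A) [GradedAlgebra 𝒜]

theorem exists_basic {U : (Proj 𝒜).Opens} {x : Proj 𝒜} (hx : x ∈ U) :
    ∃ V, (∃ (h : A) (e : ℕ), 0 < e ∧ h ∈ 𝒜 e ∧ V = Proj.basicOpen 𝒜 h) ∧ x ∈ V ∧ V ≤ U := by
  obtain ⟨f, e, he, hf, hx', hle⟩ := GrModX.exists_basicOpen_le 𝒜 hx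
  exact ⟨_, ⟨f, e, he, hf, rfl⟩, hx', hle⟩

theorem one_notMem {U : (Proj 𝒜).Opens} : TwistX.NonVan (𝒜 := 𝒜) (1 : A) U :=
  fun x h => x.1.isPrime.ne_top ((Ideal.eq_top_iff_one _).2 h)

theorem isFrame_of_val {m : ℤ} {i : ℕ} {U : (Proj 𝒜).Opens} {a : A} (ha : a ∈ 𝒜 i) (hm : m = i)
    (hU : TwistX.NonVan (𝒜 := 𝒜) a U) (σ : Twist.sectN (𝒜 := 𝒜) m (op U))
    (hσ : ∀ y : U, (σ.1 y).1 = Localization.mk a 1) : InvX.IsFrame (M := Twist.twist 𝒜 m) (U := U) σ := by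
  let φ : TwistX.UnitFrac (𝒜 := 𝒜) m U :=
    { i := i, j := 0, num := a, den := 1, num_mem := ha, den_mem := SetLike.GradedOne.one_mem
      deg := by rw [hm]; simp
      num_ne := hU, den_ne := one_notMem 𝒜 }
  have : σ = TwistX.fracSect φ := Subtype.ext (funext fun y => Subtype.ext (hσ y))
  rw [this]
  exact TwistX.isFrame_fracSect φ

theorem coord_zero {X : Scheme.{u}} {M N : X.Modules} (φ : M ⟶ N) {U : X.Opens} {t : Γ(M, U)}
    (ht : InvX.IsFrame t) (hφ : InvX.IsFrame (φ.app U t)) {W : X.Opens} (hW : W ≤ U) :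
    Function.Bijective (φ.app W) := by
  have e : (fun r : Γ(X, W) => r • AModX.res N hW (φ.app U t)) =
      (φ.app W) ∘ fun r : Γ(X, W) => r • AModX.res M hW t := funext fun r => by
    show _ = φ.app W (r • AModX.res M hW t)
    rw [Scheme.Modules.Hom.app_smul, AModX.app_res]
  exact (Function.Bijective.of_comp_iff _ (ht W hW)).1 (e ▸ hφ W hW)

theorem bijective_app_of_frames {X : Scheme.{u}} {M N : X.Modules} (φ : M ⟶ N) {ι : Type u} (U : ι → X.Opens)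
    (t : ∀ i, Γ(M, U i)) (ht : ∀ i, InvX.IsFrame (t i)) (hφ : ∀ i, InvX.IsFrame (φ.app (U i) (t i)))
    {V : X.Opens} (hV : ∀ p ∈ V, ∃ i, p ∈ U i) : Function.Bijective (φ.app V) := by
  have hb : ∀ i (W : X.Opens), W ≤ U i → Function.Bijective (φ.app W) := fun i W h => coord_zero φ (ht i) (hφ i) h
  constructor
  · intro x y h
    refine AModX.eq_of_locally x y fun p hp => ?_
    obtain ⟨i, hi⟩ := hV p hp
    refine ⟨V ⊓ U i, inf_le_left, ⟨hp, hi⟩, (hb i _ inf_le_right).1 ?_⟩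
    rw [AModX.app_res, AModX.app_res, h]
  · intro y
    have hx := fun i => (hb i _ inf_le_right).2 (AModX.res N (inf_le_left : V ⊓ U i ≤ V) y)
    choose x hx using hx
    obtain ⟨s, hs, -⟩ := AModX.existsUnique_glue (M := M) (V := V) (fun i => V ⊓ U i) (fun _ => inf_le_left)
      (fun p hp => (hV p hp).imp fun i hi => ⟨hp, hi⟩) x fun i k =>
        (hb i _ (inf_le_left.trans inf_le_right)).1 (by
          rw [AModX.app_res, AModX.app_res, hx, hx, AModX.res_res, AModX.res_res])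
    refine ⟨s, AModX.eq_of_locally _ _ fun p hp => ?_⟩
    obtain ⟨i, hi⟩ := hV p hp
    exact ⟨V ⊓ U i, inf_le_left, ⟨hp, hi⟩, by rw [← AModX.app_res, hs, hx]⟩

theorem exists_degree {X : Scheme.{u}} [CompactSpace X] (j : X ⟶ Proj 𝒜) [IsOpenImmersion j] :
    ∃ d : ℕ, 0 < d ∧ ∀ z : X, ∃ g ∈ 𝒜 d, j z ∈ Proj.basicOpen 𝒜 g := by
  choose V hV hzV hle using fun z : X => exists_basic 𝒜 (U := j.opensRange) (x := j z) ⟨z, rfl⟩
  choose h e he hh hVh using hV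
  obtain ⟨t, ht⟩ := isCompact_univ.elim_finite_subcover (fun z => ((j ⁻¹ᵁ V z : X.Opens) : Set X))
    (fun z => (j ⁻¹ᵁ V z).2) fun z _ => Set.mem_iUnion.2 ⟨z, hzV z⟩
  refine ⟨∏ w ∈ t, e w, Finset.prod_pos fun w _ => he w, fun z => ?_⟩
  obtain ⟨w, hw⟩ := Set.mem_iUnion.1 (ht (Set.mem_univ z))
  obtain ⟨hwt, hzw⟩ := Set.mem_iUnion.1 hw
  obtain ⟨q, hq⟩ := Finset.dvd_prod_of_mem e hwt
  refine ⟨h w ^ q, ?_, ?_⟩
  · rw [hq, mul_comm, ← smul_eq_mul]
    exact SetLike.pow_mem_graded q (hh w)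
  · have hzw' : j z ∈ Proj.basicOpen 𝒜 (h w) := hVh w ▸ hzw
    exact fun hm => hzw' ((j z).isPrime.mem_of_pow_mem q hm)

theorem invertible (d : ℕ) {X : Scheme.{u}} (j : X ⟶ Proj 𝒜) [IsOpenImmersion j]
    (hcov : ∀ z : X, ∃ g ∈ 𝒜 d, j z ∈ Proj.basicOpen 𝒜 g) :
    PicF.IsInvertible ((Twist.twist 𝒜 (d : ℤ)).restrict j) := by
  refine InvX.isInvertible_of_frames fun z => ?_
  obtain ⟨g, hg, hz⟩ := hcov z
  have hle : j ''ᵁ (j ⁻¹ᵁ Proj.basicOpen 𝒜 g) ≤ Proj.basicOpen 𝒜 g := j.image_preimage_eq_opensRange_inf _ ▸ inf_le_right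
  refine ⟨j ⁻¹ᵁ Proj.basicOpen 𝒜 g, hz, AModX.res (Twist.twist 𝒜 (d : ℤ)) le_top (Twist.globalOf 𝒜 ⟨g, hg⟩), ?_⟩
  exact (AmpleX.isFrame_restrict_iff j _).2 (TwistX.isFrame_res_globalOf hg fun y => hle y.2)

theorem exists_mu (d n : ℕ) :
    ∃ (m : ℤ) (μ : CohB1.tensorPow (Twist.twist 𝒜 (d : ℤ)) n ⟶ Twist.twist 𝒜 m), m = ((n * d : ℕ) : ℤ) ∧
      ∀ (g : A) (hg : g ∈ 𝒜 d) (U : (Proj 𝒜).Opens), U ≤ Proj.basicOpen 𝒜 g →
        ∃ t : Γ(CohB1.tensorPow (Twist.twist 𝒜 (d : ℤ)) n, U), InvX.IsFrame t ∧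
          InvX.IsFrame (M := Twist.twist 𝒜 m) (μ.app U t) ∧
          ∀ y : U, ((show Twist.sectN (𝒜 := 𝒜) m (op U) from μ.app U t).1 y).1 =
            Localization.mk (g ^ n) 1 := by
  have oneVal : ∀ (U : (Proj 𝒜).Opens) (y : U),
      ((show Twist.sectN (𝒜 := 𝒜) 0 (op U) from
        (PnCoh.Finite.oneHom (𝒜 := 𝒜)).app U (1 : Γ(Proj 𝒜, U))).1 y).1 = Localization.mk (1 : A) 1 := by
    intro U y
    have h : (show Twist.sectN (𝒜 := 𝒜) 0 (op U) from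
        (PnCoh.Finite.oneHom (𝒜 := 𝒜)).app U (1 : Γ(Proj 𝒜, U))) = PnCoh.Finite.oneSect (U := U) :=
      one_smul Γ(Proj 𝒜, U) (show Γ(Twist.twist 𝒜 0, U) from PnCoh.Finite.oneSect (U := U))
    rw [h]
    rfl
  induction n with
  | zero =>
    refine ⟨0, PnCoh.Finite.oneHom, by simp, fun g hg U hU => ⟨(1 : Γ(Proj 𝒜, U)), InvX.isFrame_one U, ?_, ?_⟩⟩
    · exact isFrame_of_val 𝒜 SetLike.GradedOne.one_mem (by simp) (one_notMem 𝒜) _ (oneVal U)
    · intro y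
      rw [pow_zero]
      exact oneVal U y
  | succ n ih =>
    obtain ⟨m, μ, hm, hμ⟩ := ih
    let β : H23.TensorDesc.Bilin (CohB1.tensorPow (Twist.twist 𝒜 (d : ℤ)) n) (Twist.twist 𝒜 (d : ℤ))
        (Twist.twist 𝒜 (m + d)) :=
      { b := fun U a t => PnCoh.Finite.mulSect (U := op U) m d (μ.app U a) t
        add_left := fun U a a' t => by rw [map_add]; exact Subtype.ext (funext fun x => Subtype.ext (add_mul _ _ _))
        smul_left := fun U r a t => by rw [Scheme.Modules.Hom.app_smul]; exact PnCoh.Finite.mulSect_smul_left _ _ r _ _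
        add_right := fun U a t t' => Subtype.ext (funext fun x => Subtype.ext (mul_add _ _ _))
        smul_right := fun U r a t => PnCoh.Finite.mulSect_smul_right _ _ r _ _
        res := fun {U V} h a t => by rw [QCoh.map_app_comm]; rfl }
    refine ⟨m + d, H23.TensorDesc.desc β, by rw [hm]; push_cast; ring, fun g hg U hU => ?_⟩
    obtain ⟨t, ht, -, hv⟩ := hμ g hg U hU
    let s := AModX.res (Twist.twist 𝒜 (d : ℤ)) (le_top : U ≤ ⊤) (Twist.globalOf 𝒜 ⟨g, hg⟩)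
    have hs : InvX.IsFrame s := TwistX.isFrame_res_globalOf hg fun y => hU y.2
    refine ⟨InvX.tmul t s, InvX.isFrame_tmul ht hs, ?_⟩
    have he : (H23.TensorDesc.desc β).app U (InvX.tmul t s) = β.b U t s := H23.TensorDesc.desc_tmul β U t s
    have hval : ∀ y : U, ((show Twist.sectN (𝒜 := 𝒜) (m + d) (op U) from
        (H23.TensorDesc.desc β).app U (InvX.tmul t s)).1 y).1 = Localization.mk (g ^ (n + 1)) 1 := fun y => by
      rw [he]
      show ((show Twist.sectN (𝒜 := 𝒜) m (op U) from μ.app U t).1 y).1 * (Localization.mk g _) = _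
      rw [hv y, Localization.mk_mul, pow_succ]
      congr 1
      exact one_mul _
    refine ⟨?_, hval⟩
    refine isFrame_of_val 𝒜 (i := (n + 1) * d) ?_ ?_ ?_ _ hval
    · rw [← smul_eq_mul]
      exact SetLike.pow_mem_graded (n + 1) hg
    · rw [hm]; push_cast; ring
    · exact fun y => TwistX.notMem_pow (hU y.2) (n + 1)

theorem exists_section (d : ℕ) {X : Scheme.{u}} (j : X ⟶ Proj 𝒜) [IsOpenImmersion j] (hd : 0 < d)
    (hcov : ∀ z : X, ∃ g ∈ 𝒜 d, j z ∈ Proj.basicOpen 𝒜 g) {h : A} {e : ℕ} (hh : h ∈ 𝒜 e)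
    (hV : Proj.basicOpen 𝒜 h ≤ j.opensRange) :
    ∃ a : Γ(CohB1.tensorPow (Twist.twist 𝒜 (d : ℤ)) e, j ''ᵁ ⊤),
      AmpleX.locus a = Proj.basicOpen 𝒜 h := by
  obtain ⟨m, μ, hm, hμ⟩ := exists_mu 𝒜 d e
  choose g hg hzg using hcov
  let U : X → (Proj 𝒜).Opens := fun z => j ''ᵁ ⊤ ⊓ Proj.basicOpen 𝒜 (g z)
  choose t ht hμt hval using fun z => hμ (g z) (hg z) (U z) inf_le_right
  have hV' : ∀ {W : (Proj 𝒜).Opens}, W ≤ j ''ᵁ ⊤ → ∀ p ∈ W, ∃ z, p ∈ U z := fun {W} hW p hp => by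
    obtain ⟨z, -, rfl⟩ := hW hp
    exact ⟨z, ⟨z, trivial, rfl⟩, hzg z⟩
  have hbij : ∀ {W : (Proj 𝒜).Opens}, W ≤ j ''ᵁ ⊤ → Function.Bijective (μ.app W) := fun hW =>
    bijective_app_of_frames μ U t ht hμt (hV' hW)
  have hhd : h ^ d ∈ 𝒜 (e * d) := by
    rw [mul_comm, ← smul_eq_mul]
    exact SetLike.pow_mem_graded d hh
  subst hm
  let σ : Γ(Twist.twist 𝒜 ((e * d : ℕ) : ℤ), j ''ᵁ ⊤) :=
    AModX.res (Twist.twist 𝒜 ((e * d : ℕ) : ℤ)) le_top (Twist.globalOf 𝒜 ⟨h ^ d, hhd⟩)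
  obtain ⟨a, ha⟩ := (hbij le_rfl).2 σ
  refine ⟨a, ?_⟩
  have hframe : ∀ {W : (Proj 𝒜).Opens} (hW : W ≤ j ''ᵁ ⊤),
      InvX.IsFrame (AModX.res _ hW a) ↔ InvX.IsFrame (AModX.res _ hW σ) := fun {W} hW => by
    have e : ∀ (W' : (Proj 𝒜).Opens) (h' : W' ≤ W),
        (fun r : Γ(Proj 𝒜, W') => r • AModX.res _ h' (AModX.res _ hW σ)) =
        (μ.app W') ∘ fun r : Γ(Proj 𝒜, W') => r • AModX.res _ h' (AModX.res _ hW a) := fun W' h' => funext fun r => by
      show _ = μ.app W' (r • _)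
      rw [Scheme.Modules.Hom.app_smul, AModX.app_res, AModX.app_res, ha]
    refine forall_congr' fun W' => forall_congr' fun h' => ?_
    rw [e W' h', Function.Bijective.of_comp_iff' (hbij (h'.trans hW))]
  refine le_antisymm (fun x hx => ?_) (AmpleX.le_locus a (hV.trans (j.image_top_eq_opensRange).ge) ((hframe _).2 ?_))
  · obtain ⟨W, hW, hxW, hf⟩ := AmpleX.mem_locus.1 hx
    replace hf := (hframe hW).1 hf
    obtain ⟨z, hz, hxz⟩ := hV' hW x hxW
    obtain ⟨r, hr⟩ := hf.exists_coord (inf_le_left : W ⊓ U z ≤ W)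
      (AModX.res _ inf_le_right (μ.app (U z) (t z)))
    rw [AModX.res_res, AModX.res_res] at hr
    have hq := congrArg (fun q => ((show Twist.sectN (𝒜 := 𝒜) ((e * d : ℕ) : ℤ) (op (W ⊓ U z)) from q).1
      ⟨x, hxW, hz, hxz⟩).1) hr
    have hq' : (Localization.mk (g z ^ e) 1 : Twist.Loc 𝒜 x) =
        ((show Twist.O (𝒜 := 𝒜) (op (W ⊓ U z)) from r).1 ⟨x, hxW, hz, hxz⟩).val *
          Localization.mk (h ^ d) 1 :=
      ((hval z ⟨x, hz, hxz⟩).symm.trans hq).trans (Twist.coe_smul_val _ x _ _)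
    have hu : IsUnit (Localization.mk (g z ^ e) 1 : Twist.Loc 𝒜 x) := by
      rw [Localization.mk_one_eq_algebraMap]
      exact (IsLocalization.AtPrime.isUnit_to_map_iff _ x.asHomogeneousIdeal.toIdeal _).2
        (TwistX.notMem_pow hxz e)
    rw [hq'] at hu
    have hu' := isUnit_of_mul_isUnit_right hu
    rw [Localization.mk_one_eq_algebraMap] at hu'
    exact fun hm => (IsLocalization.AtPrime.isUnit_to_map_iff _ x.asHomogeneousIdeal.toIdeal _).1 hu'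
      (Ideal.pow_mem_of_mem _ hm d hd)
  · rw [AModX.res_res]
    exact TwistX.isFrame_res_globalOf hhd fun y => TwistX.notMem_pow y.2 d
end Aux

/-- For a quasi-compact scheme X admitting an open immersion j into Proj of a graded ring, some positive
twist O(d) pulls back along j to an ample invertible module on X. -/
theorem result {R A : Type u} [CommRing R] [CommRing A]
    [Algebra R A] (𝒜 : ℕ → Submodule R A) [GradedAlgebra 𝒜] (X : Scheme.{u}) [CompactSpace X]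
    (j : X ⟶ Proj 𝒜) [IsOpenImmersion j] :
    ∃ d : ℕ, 0 < d ∧ CohB1.IsAmple ((Scheme.Modules.pullback j).obj (Twist.twist 𝒜 (d : ℤ))) := by
  obtain ⟨d, hd, hcov⟩ := Aux.exists_degree 𝒜 j
  refine ⟨d, hd, Groth.Agent.AmpleX.isAmple_of_iso ((Scheme.Modules.restrictFunctorIsoPullback j).app _)
    (AmpleX.isAmple_iff.2 ⟨Aux.invertible 𝒜 d j hcov, ‹_›, fun z => ?_⟩)⟩
  obtain ⟨V, ⟨h, e, he, hh, rfl⟩, hzV, hV⟩ :
      ∃ V, (∃ (h : A) (e : ℕ), 0 < e ∧ h ∈ 𝒜 e ∧ V = Proj.basicOpen 𝒜 h) ∧ j z ∈ V ∧ V ≤ j.opensRange :=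
    Aux.exists_basic 𝒜 ⟨z, rfl⟩
  obtain ⟨a, ha⟩ := Aux.exists_section 𝒜 d j hd hcov hh hV
  obtain ⟨s, hs⟩ := AmpleX.exists_section_restrict j a
  refine ⟨e, he, s, ?_, ?_⟩
  · obtain ⟨z', hz', ez⟩ := (hs.symm ▸ ha.symm ▸ hzV : j z ∈ j ''ᵁ CohB1.genLocus _ s)
    exact j.isOpenEmbedding.injective ez ▸ hz'
  · rw [← j.isAffineOpen_iff_of_isOpenImmersion, hs, ha]
    exact Proj.isAffineOpen_basicOpen 𝒜 h hh he

end Groth.Agent.S9817
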