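import Groth.Statements.S9818
import Groth.Agent.QCoh.Qcqs
import Groth.Agent.QCoh.Local
import Groth.Agent.QCoh.Tilde
import Groth.Agent.QCoh.Extension

set_option autoImplicit false
universe u
open CategoryTheory CategoryTheory.Limits AlgebraicGeometry TopologicalSpace Opposite
open Props

namespace Groth.Agent.S9818

/-- For an open subscheme U of a scheme X with quasi-compact inclusion, a quasi-coherent module G on U
with a map to the restriction of a quasi-coherent module F on X extends to a quasi-coherent module H
on X with a map to F restricting to the given one. Taking F = 0, every quasi-coherent module on U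
extends to a quasi-coherent module on X. -/
theorem result {X : Scheme.{u}} (U : X.Opens) [QuasiCompact U.ι]
    (F : X.Modules) [Coh.IsQCoh F] (G : (U : Scheme.{u}).Modules) [Coh.IsQCoh G] (φ : G ⟶ F.restrict U.ι) :
    ∃ (H : X.Modules) (ψ : H ⟶ F) (e : H.restrict U.ι ≅ G), Coh.IsQCoh H ∧
      e.hom ≫ φ = (Scheme.Modules.restrictFunctor U.ι).map ψ := by
  let adj := Scheme.Modules.restrictAdjunction U.ι
  let a := (Scheme.Modules.pushforward U.ι).map φ
  let b : F ⟶ (Scheme.Modules.pushforward U.ι).obj (F.restrict U.ι) := adj.unit.app F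
  have hp : ∀ {M : (U : Scheme.{u}).Modules}, Coh.IsQCoh M → Coh.IsQCoh ((Scheme.Modules.pushforward U.ι).obj M) :=
    fun h => Groth.Agent.QCoh.isQCoh_pushforward U.ι h
  have hq : Coh.IsQCoh (pullback a b) := by
    have h1 : Coh.IsQCoh (((Scheme.Modules.pushforward U.ι).obj G) ⊞ F) :=
      Groth.Agent.QCoh.isQCoh_X₂ (S := ShortComplex.mk (biprod.inl : (Scheme.Modules.pushforward U.ι).obj G ⟶ _ ⊞ F) biprod.snd biprod.inl_snd)
        (ShortComplex.Splitting.ofHasBinaryBiproduct _ _).shortExact (hp ‹Coh.IsQCoh G›) ‹Coh.IsQCoh F›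
    have h2 := Groth.Agent.QCoh.isQCoh_kernel h1 (hp (Groth.Agent.QCoh.isQCoh_restrict U.ι ‹Coh.IsQCoh F›)) (biprod.desc a (-b))
    exact (Groth.Agent.QCoh.isQCoh_iff_iso (IsLimit.conePointUniqueUpToIso (Abelian.PullbackToBiproductIsKernel.isLimitPullbackToBiproduct a b) (limit.isLimit _))).2 h2
  haveI := Groth.Agent.QCoh.restrict_preservesFiniteLimits U.ι
  let R := Scheme.Modules.restrictFunctor U.ι
  have hb : IsIso (R.map b) := by
    haveI : IsIso (R.map b ≫ adj.counit.app (F.restrict U.ι)) := by
      have h := adj.left_triangle_components F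
      exact h.symm ▸ (inferInstance : IsIso (𝟙 (R.obj F)))
    exact IsIso.of_isIso_comp_right (R.map b) (adj.counit.app (F.restrict U.ι))
  haveI := hb
  haveI : IsIso (R.map (pullback.fst a b)) :=
    ((IsPullback.of_hasPullback a b).map R).isIso_fst_of_isIso
  refine ⟨pullback a b, pullback.snd a b, asIso (R.map (pullback.fst a b)) ≪≫ asIso (adj.counit.app G), hq, ?_⟩
  have hn : R.map a ≫ adj.counit.app (F.restrict U.ι) = adj.counit.app G ≫ φ := adj.counit.naturality φ
  refine (Category.assoc _ _ _).trans ?_
  refine (congrArg (fun z => R.map (pullback.fst a b) ≫ z) hn.symm).trans ?_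
  refine (Category.assoc _ _ _).symm.trans ?_
  refine (congrArg (fun z => z ≫ adj.counit.app (F.restrict U.ι)) (((R.map_comp _ _).symm.trans (congrArg R.map pullback.condition)).trans (R.map_comp _ _))).trans ?_
  refine (Category.assoc _ _ _).trans ?_
  exact (congrArg (fun z => R.map (pullback.snd a b) ≫ z) (adj.left_triangle_components F)).trans (Category.comp_id _)

end Groth.Agent.S9818
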