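import Groth.Statements.S9820
import Groth.Agent.FPEnough.Descend
import Groth.Agent.FPEnough.Quot
import Groth.Agent.LimModLib.Kernel
import Groth.Agent.KFlatLib.Scheme.RelPerfectFP
import Groth.Agent.RelPC17.Module
import Groth.Agent.QCoh.ExtendFT
-- import your own Groth.Agent.* helpers here

set_option autoImplicit false
universe u
open CategoryTheory CategoryTheory.Limits AlgebraicGeometry TopologicalSpace Opposite
open Props

namespace Groth.Agent.S9820

set_option backward.isDefEq.respectTransparency false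
set_option linter.style.haveILetI false

open Groth.Agent


/-- On a quasi-compact quasi-separated scheme, a quasi-coherent module of finite type which is of finite
presentation over a quasi-compact open U is the quotient of a module of finite presentation by a
surjection which is an isomorphism over U. -/
theorem result {X : Scheme.{u}} [CompactSpace X]
    [QuasiSeparatedSpace X] (F : X.Modules) [Coh.IsQCoh F] (hF : CohB1.IsFT F) (U : X.Opens)
    (hU : IsCompact (U : Set X)) (hFU : CohB1.IsFP (F.restrict U.ι)) :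
    ∃ (G : X.Modules) (φ : G ⟶ F), CohB1.IsFP G ∧ Epi φ ∧
      IsIso ((Scheme.Modules.restrictFunctor U.ι).map φ) := by
  obtain ⟨H, ψ, hH, hHfp, hψ⟩ := FPEnough.exists_epi_isFP ‹Coh.IsQCoh F› hF
  let R := Scheme.Modules.restrictFunctor U.ι
  haveI := (Scheme.Modules.restrictAdjunction U.ι).isLeftAdjoint
  haveI := (KFlatLib.lshAdj U.ι).isRightAdjoint
  haveI : Epi (R.map ψ) := inferInstance
  haveI : R.PreservesHomology := inferInstance
  have hK : Coh.IsQCoh (kernel ψ) := QCoh.isQCoh_kernel hH ‹Coh.IsQCoh F› ψ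
  have hHU := KFlatLib.RelPerfectSch.isFP_restrict U.ι hHfp
  have hHUq := QCoh.isQCoh_of_isFP hHU
  have hFUq := QCoh.isQCoh_restrict U.ι ‹Coh.IsQCoh F›
  have hKU : CohB1.IsFT (R.obj (kernel ψ)) :=
    RelPC17.isFT_of_epi' (PreservesKernel.iso R ψ).inv
      (LimModLib.isFT_kernel hHUq (QCoh.isFT_of_isFP hHU) hFUq hFU (R.map ψ))
  obtain ⟨K', i', e, hi', hK'q, hK'ft, he⟩ := QCoh.exists_extension' hK (QCoh.extStep_qcqs hU)
    (𝟙 ((kernel ψ).restrict U.ι)) (QCoh.isQCoh_restrict U.ι hK) hKU
  let a : K' ⟶ H := i' ≫ kernel.ι ψ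
  have ha : a ≫ ψ = 0 := by simp [a]
  let d : cokernel a ⟶ F := cokernel.desc a ψ ha
  have hd : cokernel.π a ≫ d = ψ := cokernel.π_desc _ _ _
  refine ⟨cokernel a, d, FPEnough.isFP_cokernel hK'q hK'ft hH hHfp a, epi_of_epi_fac hd, ?_⟩
  haveI : IsIso (R.map i') := by
    rw [← he, Category.comp_id]; infer_instance
  have hex : ((ShortComplex.mk (kernel.ι ψ) ψ (kernel.condition ψ)).map R).Exact :=
    (ShortComplex.exact_kernel ψ).map R
  haveI : Epi ((ShortComplex.mk (kernel.ι ψ) ψ (kernel.condition ψ)).map R).g := ‹Epi (R.map ψ)›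
  have hz : R.map (kernel.ι ψ) ≫ R.map (cokernel.π a) = 0 := by
    rw [← cancel_epi (R.map i'), comp_zero, ← R.map_comp, ← R.map_comp, ← Category.assoc,
      cokernel.condition, Functor.map_zero]
  let t : R.obj F ⟶ R.obj (cokernel a) := hex.desc (R.map (cokernel.π a)) hz
  have ht : R.map ψ ≫ t = R.map (cokernel.π a) := hex.g_desc _ _
  have hd' : R.map (cokernel.π a) ≫ R.map d = R.map ψ := by rw [← R.map_comp, hd]
  refine ⟨t, ?_, ?_⟩
  · rw [← cancel_epi (R.map (cokernel.π a)), ← Category.assoc, hd', ht, Category.comp_id]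
  · rw [← cancel_epi (R.map ψ), ← Category.assoc, ht, hd', Category.comp_id]

end Groth.Agent.S9820
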