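import Groth.Statements.S9822
import Mathlib.AlgebraicGeometry.Limits

set_option autoImplicit false
universe u
open CategoryTheory CategoryTheory.Limits AlgebraicGeometry TopologicalSpace Opposite
open Props

namespace Groth.Agent.S9822

/-- A scheme is irreducible if and only if it is nonempty and every nonempty affine open subset is
irreducible. -/
theorem result (X : Scheme.{u}) :
    IrreducibleSpace X ↔ Nonempty X ∧ ∀ U : X.Opens, IsAffineOpen U → (U : Set X).Nonempty → IsIrreducible (U : Set X) := by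
  constructor
  · intro h
    exact ⟨inferInstance, fun U _ hne => ⟨hne, (PreirreducibleSpace.isPreirreducible_univ (X := X)).open_subset U.2
      (Set.subset_univ _)⟩⟩
  · rintro ⟨hne, h⟩
    have : PreirreducibleSpace X := ⟨fun u v hu hv hu' hv' => ?_⟩
    · exact ⟨inferInstance⟩
    obtain ⟨x, -, hx⟩ := hu'
    obtain ⟨y, -, hy⟩ := hv'
    obtain ⟨A, hA, hxA, hAu⟩ := exists_isAffineOpen_mem_and_subset (X := X) (U := ⟨u, hu⟩) hx
    obtain ⟨B, hB, hyB, hBv⟩ := exists_isAffineOpen_mem_and_subset (X := X) (U := ⟨v, hv⟩) hy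
    by_contra hc
    have hd : Disjoint A B := by
      rw [← Opens.coe_disjoint, Set.disjoint_left]
      exact fun z hzA hzB => hc ⟨z, trivial, hAu hzA, hBv hzB⟩
    obtain ⟨z, -, hzA, hzB⟩ := (h _ (hA.sup_of_disjoint hB hd) ⟨x, Or.inl hxA⟩).2 A B A.2 B.2
      ⟨x, Or.inl hxA, hxA⟩ ⟨y, Or.inr hyB, hyB⟩
    exact hc ⟨z, trivial, hAu hzA, hBv hzB⟩

end Groth.Agent.S9822
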