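import Groth.Statements.S9827
import Groth.Agent.QCoh.SpecFT

set_option autoImplicit false
universe u
open CategoryTheory CategoryTheory.Limits AlgebraicGeometry TopologicalSpace Opposite
open Props

namespace Groth.Agent.S9827

/-- The sheaf associated to a module over a ring is of finite presentation on the spectrum if and only
if the module is finitely presented. -/
theorem result (R : CommRingCat.{u}) (M : ModuleCat.{u} R) :
    CohB1.IsFP (tilde M) ↔ Module.FinitePresentation R M := by
  exact Groth.Agent.QCoh.isFP_tilde_iff M

end Groth.Agent.S9827
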