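import Groth.Statements.S9828
import Groth.Agent.FPEnough.EpiColim

set_option autoImplicit false
universe u
open CategoryTheory CategoryTheory.Limits AlgebraicGeometry TopologicalSpace Opposite
open Props

namespace Groth.Agent.S9828

/-- On a quasi-compact quasi-separated scheme, a quasi-coherent module of finite type is a directed
colimit of modules of finite presentation with surjective transition maps. -/
theorem result {X : Scheme.{u}} [CompactSpace X]
    [QuasiSeparatedSpace X] (F : X.Modules) [Coh.IsQCoh F] (hF : CohB1.IsFT F) :
    ∃ (J : Type u) (_ : PartialOrder J) (_ : IsDirected J (· ≤ ·)) (_ : Nonempty J) (D : J ⥤ X.Modules)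
      (ι : D ⟶ (Functor.const J).obj F), Nonempty (IsColimit (Cocone.mk F ι)) ∧
      (∀ j, CohB1.IsFP (D.obj j)) ∧ ∀ (j j' : J) (h : j ⟶ j'), Epi (D.map h) := by
  exact Groth.Agent.FPEnough.exists_epi_directed ‹Coh.IsQCoh F› hF

end Groth.Agent.S9828
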