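import Groth.Statements.S9832
import Groth.Agent.Goldman.Scheme
set_option autoImplicit false
universe u
open Props

namespace Groth.Agent.S9832

/-- For a Noetherian ring R and an ideal I inside the Jacobson radical of R, the complement of V(I) in
Spec R is a Jacobson topological space. -/
theorem result (R : Type u) [CommRing R] [IsNoetherianRing R]
    (I : Ideal R) (hI : I ≤ (⊥ : Ideal R).jacobson) :
    JacobsonSpace ↥((PrimeSpectrum.zeroLocus (I : Set R))ᶜ) := by
  refine Groth.Agent.Goldman.jacobson_compl (X := AlgebraicGeometry.Spec (CommRingCat.of R))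
    (Y := PrimeSpectrum.zeroLocus (I : Set R)) (PrimeSpectrum.isClosed_zeroLocus _) fun Z hZ hne => ?_
  obtain ⟨m, hm, hmc⟩ := IsClosed.exists_closed_singleton
    (X := AlgebraicGeometry.Spec (CommRingCat.of R)) hZ hne
  refine ⟨m, hm, (PrimeSpectrum.mem_zeroLocus _ _).2 (hI.trans ?_)⟩
  exact sInf_le ⟨bot_le, (PrimeSpectrum.isClosed_singleton_iff_isMaximal m).1 hmc⟩

end Groth.Agent.S9832
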