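import Groth.Statements.S9835
import Groth.Agent.N12Aux.Nagata

set_option autoImplicit false
universe u
open CategoryTheory AlgebraicGeometry TopologicalSpace
open Props

namespace Groth.Agent.S9835

/-- If an integral scheme has an affine open covering by spectra of Japanese (N-2) domains, then the
coordinate ring of every nonempty affine open is a Japanese domain. -/
theorem result (X : Scheme.{u}) [IsIntegral X] {ι : Type u}
    (U : ι → X.Opens) [∀ i, Nonempty (U i)] (hU : iSup U = ⊤) (haff : ∀ i, IsAffineOpen (U i))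
    (hJ : ∀ i, CAlg.IsN2 Γ(X, U i)) (V : X.Opens) [Nonempty V] (hV : IsAffineOpen V) :
    CAlg.IsN2 Γ(X, V) := by
  have key : ∀ y : V, ∃ g : Γ(X, V), y.1 ∈ X.basicOpen g ∧
      ∀ [IsDomain Γ(X, X.basicOpen g)], CAlg.IsN2 Γ(X, X.basicOpen g) := fun y => by
    obtain ⟨i, hi⟩ := TopologicalSpace.Opens.mem_iSup.1 (hU.symm ▸ trivial : y.1 ∈ iSup U)
    obtain ⟨g, h, he, hy⟩ := exists_basicOpen_le_affine_inter hV (haff i) y.1 ⟨y.2, hi⟩
    refine ⟨g, hy, ?_⟩
    intro _
    haveI : Nonempty (X.basicOpen h) := ⟨⟨y.1, he ▸ hy⟩⟩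
    haveI := (haff i).isLocalization_basicOpen h
    exact N12Aux.isN2_of_ringEquiv (X.presheaf.mapIso (eqToIso he).op).commRingCatIsoToRingEquiv
      (N12Aux.isN2_of_isLocalization (hJ i) (Submonoid.powers h) Γ(X, X.basicOpen h))
  choose g hg hJg using key
  have hspan : Ideal.span (Set.range g) = ⊤ := by
    refine (hV.self_le_iSup_basicOpen_iff (s := Set.range g)).1 ?_
    intro y hy
    exact TopologicalSpace.Opens.mem_iSup.2 ⟨⟨g ⟨y, hy⟩, ⟨y, hy⟩, rfl⟩, hg ⟨y, hy⟩⟩
  obtain ⟨s, hs, hs1⟩ := (Ideal.span_eq_top_iff_finite _).1 hspan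
  refine N12Aux.isN2_of_cover_ne (ι := ↥(s : Set Γ(X, V))) (fun x => x.1) (by simpa using hs1) fun x hx => ?_
  intro _
  obtain ⟨y, hy⟩ := hs x.2
  have : IsLocalization.Away (g y) Γ(X, X.basicOpen (g y)) := hV.isLocalization_basicOpen (g y)
  revert hx
  show _ → CAlg.IsN2 (Localization.Away x.1)
  intro _
  haveI : Nonempty (X.basicOpen (g y)) := ⟨⟨y.1, hg y⟩⟩
  refine N12Aux.isN2_of_ringEquiv (R := Γ(X, X.basicOpen (g y))) ?_ (hJg y)
  rw [← hy]
  exact (IsLocalization.algEquiv (Submonoid.powers (g y)) Γ(X, X.basicOpen (g y)) (Localization.Away (g y))).toRingEquiv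

end Groth.Agent.S9835
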