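import Groth.Statements.S9836
import Groth.Agent.ClosedHom7.Basic
import Groth.Agent.S1178
import Groth.Agent.InvX.Tensor
import Groth.Agent.H23.PullPush
-- import your own Groth.Agent.* helpers here

set_option autoImplicit false
universe u
open CategoryTheory CategoryTheory.Limits AlgebraicGeometry
open Props

namespace Groth.Agent.S9836

set_option backward.isDefEq.respectTransparency false

open Groth.Agent


/-- For a closed immersion i : Z → X with ideal sheaf of finite type and a quasi-coherent O_X-module F,
the subsheaf of sections of F annihilated by the ideal, namely i_* Hom(O_Z, F) for the right adjoint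
Hom(O_Z, -) of i_*, is a quasi-coherent O_X-module. -/
theorem result {Z X : Scheme.{u}} (i : Z ⟶ X)
    [IsClosedImmersion i] [LocallyOfFinitePresentation i] [Dual3.HasHomO i] (F : X.Modules) [Coh.IsQCoh F] :
    Coh.IsQCoh ((Scheme.Modules.pushforward i).obj ((Dual3.homO i).obj F)) := by
  have hO : CohB1.IsFP (Coh.structureModule Z) :=
    QCoh.isFP_of_isFinLocFree (H23.PullPush.isFinLocFree_of_isInvertible InvX.isInvertible_structureModule)
  haveI : (Coh.structureModule Z).IsQuasicoherent := QCoh.isQCoh_of_isFP hO
  have hM : CohB1.IsFP ((Scheme.Modules.pushforward i).obj (Coh.structureModule Z)) :=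
    (S1178.result i _).1 hO
  exact (QCoh.isQCoh_iff_iso ((ClosedHom7.homPushIso i).app F)).1
    (ClosedHom7.isQCoh_hom_of_isFP hM ‹Coh.IsQCoh F›)

end Groth.Agent.S9836
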