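import Groth.Statements.S9837
import Groth.Agent.FTDescent.Basic

set_option autoImplicit false
set_option backward.isDefEq.respectTransparency false
set_option backward.isDefEq.respectTransparency.types false
open CategoryTheory CategoryTheory.Limits AlgebraicGeometry Opposite
universe u
open Desc

namespace Groth.Agent.S9837

/-- Let f : X ⟶ Y be a morphism of schemes which is flat and surjective and whose underlying map of
topological spaces is open, and let F be an arbitrary O_Y-module (not assumed quasi-coherent). If
the pullback f^*F is an O_X-module of finite type, then F is of finite type. (The published
statement is for a morphism of locally ringed spaces; this row is its case of schemes.) -/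
theorem result {X Y : Scheme.{u}} (f : X ⟶ Y) [Flat f] [Surjective f]
    (hf : IsOpenMap f.base) (F : Y.Modules)
    (h : SheafOfModules.IsFiniteType (R := X.ringCatSheaf) ((Scheme.Modules.pullback f).obj F)) :
    SheafOfModules.IsFiniteType (R := Y.ringCatSheaf) F := by
  exact Groth.Agent.FTDescent.isFiniteType_of_pullback f hf F h

end Groth.Agent.S9837
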