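import Groth.Statements.S9838
import Groth.Agent.QCoh.Support

set_option autoImplicit false
set_option backward.isDefEq.respectTransparency false
set_option backward.isDefEq.respectTransparency.types false
open CategoryTheory CategoryTheory.Limits AlgebraicGeometry Opposite
universe u
open Desc

namespace Groth.Agent.S9838

/-- Let f : X ⟶ Y be a finite morphism of schemes and F a quasi-coherent O_X-module. The pushforward
f_*F is of finite type as an O_Y-module exactly when F itself is of finite type as an O_X-module. -/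
theorem result {X Y : Scheme.{u}} (f : X ⟶ Y) [IsFinite f]
    (F : X.Modules) [F.IsQuasicoherent] :
    SheafOfModules.IsFiniteType (R := X.ringCatSheaf) F ↔
      SheafOfModules.IsFiniteType (R := Y.ringCatSheaf) ((Scheme.Modules.pushforward f).obj F) := by
  have hM : Coh.IsQCoh F := ‹_›
  have hN : Coh.IsQCoh ((Scheme.Modules.pushforward f).obj F) := QCoh.isQCoh_pushforward f hM
  constructor
  · intro h
    refine (QCoh.isFT_iff hN).2 fun U => ?_
    have hW : IsAffineOpen (f ⁻¹ᵁ U.1) := U.2.preimage f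
    have := QCoh.finite_of_isFT hM h hW
    letI : Algebra Γ(Y, U.1) Γ(X, f ⁻¹ᵁ U.1) := (f.app U.1).hom.toAlgebra
    have : Module.Finite Γ(Y, U.1) Γ(X, f ⁻¹ᵁ U.1) := IsFinite.finite_app f U.1 U.2
    letI : Module Γ(Y, U.1) Γ(F, f ⁻¹ᵁ U.1) := Module.compHom _ (f.app U.1).hom
    have : IsScalarTower Γ(Y, U.1) Γ(X, f ⁻¹ᵁ U.1) Γ(F, f ⁻¹ᵁ U.1) :=
      IsScalarTower.of_algebraMap_smul fun _ _ => rfl
    have := Module.Finite.trans (R := Γ(Y, U.1)) Γ(X, f ⁻¹ᵁ U.1) Γ(F, f ⁻¹ᵁ U.1)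
    exact Module.Finite.of_surjective
      ({ toFun := fun x => (show Γ(F, f ⁻¹ᵁ U.1) from x), map_add' := fun _ _ => rfl,
         map_smul' := fun r x => (QCoh.pushforward_smul f U.1 r x).symm } :
        Γ(F, f ⁻¹ᵁ U.1) →ₗ[Γ(Y, U.1)] Γ((Scheme.Modules.pushforward f).obj F, U.1)) (fun y => ⟨y, rfl⟩)
  · intro h
    refine QCoh.isFT_of_finite hM (fun U : Y.affineOpens => f ⁻¹ᵁ U.1) ?_ (fun U => U.2.preimage f) fun U => ?_
    · exact top_le_iff.1 fun z _ => TopologicalSpace.Opens.mem_iSup.2 <| by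
        obtain ⟨_, ⟨W, hW, rfl⟩, hz, -⟩ :=
          Y.isBasis_affineOpens.exists_subset_of_mem_open (Set.mem_univ (f z)) isOpen_univ
        exact ⟨⟨W, hW⟩, hz⟩
    have := QCoh.finite_of_isFT hN h U.2
    letI : Algebra Γ(Y, U.1) Γ(X, f ⁻¹ᵁ U.1) := (f.app U.1).hom.toAlgebra
    letI : Module Γ(Y, U.1) Γ(F, f ⁻¹ᵁ U.1) := Module.compHom _ (f.app U.1).hom
    have : IsScalarTower Γ(Y, U.1) Γ(X, f ⁻¹ᵁ U.1) Γ(F, f ⁻¹ᵁ U.1) :=
      IsScalarTower.of_algebraMap_smul fun _ _ => rfl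
    have : Module.Finite Γ(Y, U.1) Γ(F, f ⁻¹ᵁ U.1) := Module.Finite.of_surjective
      ({ toFun := fun x => (show Γ(F, f ⁻¹ᵁ U.1) from x), map_add' := fun _ _ => rfl,
         map_smul' := fun r x => QCoh.pushforward_smul f U.1 r x } :
        Γ((Scheme.Modules.pushforward f).obj F, U.1) →ₗ[Γ(Y, U.1)] Γ(F, f ⁻¹ᵁ U.1)) (fun y => ⟨y, rfl⟩)
    exact Module.Finite.of_restrictScalars_finite Γ(Y, U.1) Γ(X, f ⁻¹ᵁ U.1) Γ(F, f ⁻¹ᵁ U.1)

end Groth.Agent.S9838
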