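import Groth.Statements.S9839
import Groth.Agent.DescLib.Top

set_option autoImplicit false
set_option backward.isDefEq.respectTransparency false
set_option backward.isDefEq.respectTransparency.types false
open CategoryTheory CategoryTheory.Limits AlgebraicGeometry Opposite
universe u
open Desc

namespace Groth.Agent.S9839

/-- Let f i : T i ⟶ T be an fpqc covering family of a scheme T (a family in the fpqc precoverage) and W
i ⊆ T i open subsets such that for all i, j the inverse images of W i and W j under the two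
projections of T i ×_T T j coincide. Then there is a unique open subset W ⊆ T with (f i)⁻¹(W) = W i
for every i. -/
theorem result {ι : Type u} {T : Scheme.{u}} {Ti : ι → Scheme.{u}}
    (f : ∀ i, Ti i ⟶ T) (hf : Presieve.ofArrows Ti f ∈ Scheme.fpqcPrecoverage T)
    (W : ∀ i, (Ti i).Opens)
    (hW : ∀ i j, (pullback.fst (f i) (f j)) ⁻¹ᵁ (W i) = (pullback.snd (f i) (f j)) ⁻¹ᵁ (W j)) :
    ∃! V : T.Opens, ∀ i, (f i) ⁻¹ᵁ V = W i := by
  have hs := ((isSheaf_iff_isSheaf_of_type _ _).1 (isSheaf_fpqcTopology_continuousMapPresheaf.{0, u} (T := Prop))) _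
    (Precoverage.generate_mem_toGrothendieck hf)
  rw [← Presieve.isSheafFor_iff_generate, Presieve.isSheafFor_arrows_iff] at hs
  let c : ∀ i, C(Ti i, Prop) := fun i => ⟨fun x => x ∈ W i, continuous_Prop.2 (W i).2⟩
  obtain ⟨a, ha, hu⟩ := hs c (fun i j Z gi gj e => ContinuousMap.ext fun z => propext (by
    have hh := SetLike.ext_iff.1 (hW i j) (pullback.lift gi gj e z)
    simp only [Scheme.Hom.mem_preimage] at hh
    rw [← Scheme.Hom.comp_apply, ← Scheme.Hom.comp_apply, pullback.lift_fst, pullback.lift_snd] at hh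
    exact hh))
  let a' : C(T, Prop) := a
  refine ⟨⟨{x | a' x}, continuous_Prop.1 a'.continuous⟩, fun i => ?_, fun V hV => ?_⟩
  · ext x
    exact iff_of_eq (DFunLike.congr_fun (show a'.comp ⟨f i, (f i).continuous⟩ = c i from ha i) x)
  · have := hu ⟨fun x => x ∈ V, continuous_Prop.2 V.2⟩ fun i => ContinuousMap.ext fun x =>
      propext (SetLike.ext_iff.1 (hV i) x)
    ext x
    exact iff_of_eq (DFunLike.congr_fun (show (⟨fun x => x ∈ V, continuous_Prop.2 V.2⟩ : C(T, Prop)) = a' from this) x)

end Groth.Agent.S9839
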