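import Groth.Statements.S9841
import Groth.Agent.DescLib.Reduced

set_option autoImplicit false
set_option backward.isDefEq.respectTransparency false
set_option backward.isDefEq.respectTransparency.types false
open CategoryTheory CategoryTheory.Limits AlgebraicGeometry Opposite
universe u
open Desc

namespace Groth.Agent.S9841

/-- Being reduced is local in the smooth topology: for a jointly surjective family of smooth morphisms f
i : X i ⟶ S, the scheme S is reduced if and only if every X i is reduced. -/
theorem result {ι : Type u} {S : Scheme.{u}} {X : ι → Scheme.{u}} (f : ∀ i, X i ⟶ S)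
    (hf : Presieve.ofArrows X f ∈ Scheme.precoverage @Smooth S) :
    IsReduced S ↔ ∀ i, IsReduced (X i) := by
  obtain ⟨h1, h2⟩ := (Scheme.ofArrows_mem_precoverage_iff _).1 hf
  exact ⟨fun h i => @Groth.Agent.DescLib.isReduced_of_smooth_of_isReduced _ _ (f i) (h2 i) h, fun h =>
    @Groth.Agent.DescLib.isReduced_of_jointly_surjective _ _ _ f (fun i => have := h2 i; inferInstance) h h1⟩

end Groth.Agent.S9841
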