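import Groth.Statements.S9842
import Groth.Agent.DescLib.Top

set_option autoImplicit false
set_option backward.isDefEq.respectTransparency false
set_option backward.isDefEq.respectTransparency.types false
open CategoryTheory CategoryTheory.Limits AlgebraicGeometry Opposite
universe u
open Desc

namespace Groth.Agent.S9842

/-- Let E/k be a field extension, Y a scheme over k and f : X ⟶ Y a morphism. Writing Y_E = Y ×_k Spec
E, the morphism f is dominant if and only if its base change X ×_Y Y_E ⟶ Y_E is dominant. -/
theorem result {k E : Type u} [Field k] [Field E] [Algebra k E]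
    {X Y : Scheme.{u}} (f : X ⟶ Y) (q : Y ⟶ Spec (.of k)) :
    IsDominant f ↔
      IsDominant (pullback.snd f (pullback.fst q (Spec.map (CommRingCat.ofHom (algebraMap k E))))) := by
  have : Surjective (Spec.map (CommRingCat.ofHom (algebraMap k E))) := ⟨fun x => ⟨default, Subsingleton.elim _ _⟩⟩
  refine ⟨fun _ => Groth.Agent.DescLib.isDominant_pullback_snd f _ (Scheme.Hom.isOpenMap _), fun h => ?_⟩
  exact Groth.Agent.DescLib.isDominant_of_pullback_snd f
    (fun _ : PUnit.{1} => pullback.fst q (Spec.map (CommRingCat.ofHom (algebraMap k E))))
    (fun y => ⟨⟨⟩, (pullback.fst q (Spec.map (CommRingCat.ofHom (algebraMap k E)))).surjective y⟩) fun _ => h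

end Groth.Agent.S9842
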