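import Groth.Statements.S9843
import Groth.Agent.DescLib.Top

set_option autoImplicit false
set_option backward.isDefEq.respectTransparency false
set_option backward.isDefEq.respectTransparency.types false
open CategoryTheory CategoryTheory.Limits AlgebraicGeometry Opposite
universe u
open Desc

namespace Groth.Agent.S9843

/-- Being dominant is fppf local on the base: for every fppf covering family Y i ⟶ Y (flat, locally of
finite presentation, jointly surjective), a morphism X ⟶ Y is dominant if and only if all its base
changes X ×_Y Y i ⟶ Y i are. -/
theorem result :
    MorphismProperty.IsLocalAtTarget (@IsDominant : MorphismProperty Scheme.{u}) Scheme.fppfPrecoverage := by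
  refine MorphismProperty.IsLocalAtTarget.mk_of_iff fun X Y f R hR => ?_
  obtain ⟨ι, Z, g, rfl⟩ := R.exists_eq_ofArrows
  obtain ⟨h1, h2⟩ := (Scheme.ofArrows_mem_precoverage_iff _).1 hR
  constructor
  · intro hf U g' _ hg'
    cases hg' with
    | mk i =>
      have := (h2 i).1
      have := (h2 i).2
      exact Groth.Agent.DescLib.isDominant_pullback_snd f _ (g i).isOpenMap
  · intro h
    exact Groth.Agent.DescLib.isDominant_of_pullback_snd f g h1 fun i => h (g i) ⟨i⟩

end Groth.Agent.S9843
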