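import Groth.Statements.S9845
import Groth.Agent.DescLib.Top

set_option autoImplicit false
set_option backward.isDefEq.respectTransparency false
set_option backward.isDefEq.respectTransparency.types false
open CategoryTheory CategoryTheory.Limits AlgebraicGeometry Opposite
universe u
open Desc

namespace Groth.Agent.S9845

/-- Being an open morphism (open underlying map) is fppf local on the source: for every fppf covering
family g i : X i ⟶ X, a morphism f : X ⟶ Y has open underlying map if and only if every composite g
i ≫ f does. -/
theorem result :
    MorphismProperty.IsLocalAtSource (topologically (fun f => IsOpenMap f) : MorphismProperty Scheme.{u})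
      Scheme.fppfPrecoverage := by
  haveI : (topologically (fun f => IsOpenMap f) : MorphismProperty Scheme.{u}).RespectsIso :=
    topologically_respectsIso _ (fun f => f.isOpenMap) (fun _ _ hf hg => hg.comp hf)
  refine MorphismProperty.IsLocalAtSource.mk_of_iff fun {X Y f R} hR => ?_
  obtain ⟨ι, Z, g, rfl⟩ := R.exists_eq_ofArrows
  obtain ⟨h1, h2⟩ := (Scheme.ofArrows_mem_precoverage_iff _).1 hR
  constructor
  · intro hf U g' hg'
    cases hg' with
    | mk i =>
      have := (h2 i).1
      have := (h2 i).2
      exact hf.comp (g i).isOpenMap
  · intro h
    exact Groth.Agent.DescLib.isOpenMap_of_comp f g h1 fun i => h ⟨i⟩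

end Groth.Agent.S9845
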