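import Groth.Statements.S9859
import Mathlib.AlgebraicGeometry.Sites.Fpqc

set_option autoImplicit false
set_option backward.isDefEq.respectTransparency false
set_option backward.isDefEq.respectTransparency.types false
open CategoryTheory CategoryTheory.Limits AlgebraicGeometry Opposite
universe u
open Desc

namespace Groth.Agent.S9859

/-- Case τ = fppf: let P be a property of morphisms of schemes which is fppf local on the base and f : X
⟶ Y a morphism. There is a largest open W of Y such that the restriction of f over W has P;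
moreover, first, if g : Y' ⟶ Y is flat and locally of finite presentation and the base change of f
to Y' has P, then the image of g lies in W; and second, for such g the largest open of Y' over which
the base change of f has P is exactly g⁻¹(W). -/
theorem result (P : MorphismProperty Scheme.{u})
    [MorphismProperty.IsLocalAtTarget P Scheme.fppfPrecoverage] {X Y : Scheme.{u}} (f : X ⟶ Y) :
    ∃ W : Y.Opens, P (f ∣_ W) ∧ (∀ W₀ : Y.Opens, P (f ∣_ W₀) → W₀ ≤ W) ∧
      (∀ (Y' : Scheme.{u}) (g : Y' ⟶ Y), Flat g → LocallyOfFinitePresentation g →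
        P (pullback.snd f g) → Set.range g.base ⊆ (W : Set Y)) ∧
      (∀ (Y' : Scheme.{u}) (g : Y' ⟶ Y), Flat g → LocallyOfFinitePresentation g →
        ∀ W' : Y'.Opens, P (pullback.snd f g ∣_ W') → (∀ W₀ : Y'.Opens, P (pullback.snd f g ∣_ W₀) → W₀ ≤ W') →
          W' = g ⁻¹ᵁ W) := by
  classical
  -- transport along cartesian squares
  have iso : ∀ {A B A' : Scheme.{u}} {k : A ⟶ B} {a : A' ⟶ B} {Q : Scheme.{u}} {p : Q ⟶ A} {q : Q ⟶ A'},
      IsPullback p q k a → (P q ↔ P (pullback.snd k a)) := fun {A B A' k a Q p q} sq => by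
    rw [← sq.isoPullback_hom_snd, P.cancel_left_of_respectsIso]
  have iso' : ∀ (U : Y.Opens) {T : Scheme.{u}} (a : T ⟶ (U : Scheme)),
      P (pullback.snd (f ∣_ U) a) ↔ P (pullback.snd f (a ≫ U.ι)) := fun U T a =>
    iso ((IsPullback.of_hasPullback (f ∣_ U) a).flip.paste_vert (isPullback_morphismRestrict f U)).flip
  -- the image of a flat lfp morphism after which `P` holds
  have himg : ∀ (Y' : Scheme.{u}) (g : Y' ⟶ Y), Flat g → LocallyOfFinitePresentation g →
      P (pullback.snd f g) → ∃ U : Y.Opens, (U : Set Y) = Set.range g ∧ P (f ∣_ U) := by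
    intro Y' g _ _ hP
    let U : Y.Opens := ⟨Set.range g, g.isOpenMap.isOpen_range⟩
    let g' : Y' ⟶ U := IsOpenImmersion.lift U.ι g (by simp [U])
    have hg' : g' ≫ U.ι = g := IsOpenImmersion.lift_fac _ _ _
    haveI : Flat (g' ≫ U.ι) := hg'.symm ▸ ‹_›
    haveI : LocallyOfFinitePresentation (g' ≫ U.ι) := hg'.symm ▸ ‹_›
    haveI : Flat g' := MorphismProperty.of_postcomp (W := @Flat) (W' := @IsOpenImmersion) g' U.ι inferInstance ‹_›
    haveI : LocallyOfFinitePresentation g' :=
      MorphismProperty.of_postcomp (W := @LocallyOfFinitePresentation) (W' := @IsOpenImmersion) g' U.ι inferInstance ‹_›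
    haveI : Surjective g' := ⟨fun ⟨y, z, hz⟩ => ⟨z, U.ι.isOpenEmbedding.injective
      (by rw [← Scheme.Hom.comp_apply, hg']; exact hz)⟩⟩
    refine ⟨U, rfl, MorphismProperty.IsLocalAtTarget.of_forall_pullbackSnd g'.singleton_mem_fppfPrecoverage
      fun {V k} _ hk => ?_⟩
    obtain ⟨⟩ := hk
    rw [iso' U g', hg']
    exact hP
  let S : Set Y.Opens := {U | P (f ∣_ U)}
  have hW : P (f ∣_ sSup S) := by
    let X' : S → Scheme.{u} := fun U => (U.1 : Scheme)
    let k : ∀ U : S, X' U ⟶ (sSup S : Y.Opens) := fun U => Y.homOfLE (le_sSup U.2)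
    have hmem : Presieve.ofArrows X' k ∈ Scheme.fppfPrecoverage (sSup S : Y.Opens) := by
      refine (Scheme.ofArrows_mem_precoverage_iff _).2 ⟨fun y => ?_, fun U => ⟨inferInstance, inferInstance⟩⟩
      obtain ⟨U, hU, hy⟩ := TopologicalSpace.Opens.mem_sSup.1 y.2
      refine ⟨⟨U, hU⟩, ⟨y.1, hy⟩, (sSup S : Y.Opens).ι.isOpenEmbedding.injective ?_⟩
      rw [← Scheme.Hom.comp_apply, Scheme.homOfLE_ι]
      rfl
    refine MorphismProperty.IsLocalAtTarget.of_forall_pullbackSnd hmem fun {V k'} _ hk => ?_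
    obtain ⟨U⟩ := hk
    rw [iso', Scheme.homOfLE_ι, ← iso (isPullback_morphismRestrict f U.1).flip]
    exact U.2
  have hmax : ∀ W₀ : Y.Opens, P (f ∣_ W₀) → W₀ ≤ sSup S := fun W₀ h => le_sSup h
  have hrange : ∀ (Y' : Scheme.{u}) (g : Y' ⟶ Y), Flat g → LocallyOfFinitePresentation g →
      P (pullback.snd f g) → Set.range g.base ⊆ ((sSup S : Y.Opens) : Set Y) := fun Y' g h1 h2 h3 => by
    obtain ⟨U, hU, hP⟩ := himg Y' g h1 h2 h3
    rw [← hU]
    exact hmax U hP
  refine ⟨sSup S, hW, hmax, hrange, fun Y' g _ _ W' hW' hW'max => le_antisymm ?_ ?_⟩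
  · have hP : P (pullback.snd f (W'.ι ≫ g)) := by
      rw [← iso ((isPullback_morphismRestrict (pullback.snd f g) W').flip.paste_horiz
        (IsPullback.of_hasPullback f g))]
      exact hW'
    intro y hy
    exact hrange _ (W'.ι ≫ g) inferInstance inferInstance hP ⟨⟨y, hy⟩, rfl⟩
  · apply hW'max
    let W : Y.Opens := sSup S
    let g₀ : (g ⁻¹ᵁ W : Scheme) ⟶ W := g ∣_ W
    haveI : Flat g₀ := IsZariskiLocalAtTarget.restrict (P := @Flat) ‹_› _
    haveI : LocallyOfFinitePresentation g₀ := IsZariskiLocalAtTarget.restrict (P := @LocallyOfFinitePresentation) ‹_› _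
    let X' : ULift.{u} Bool → Scheme.{u} := fun b => bif b.down then (g ⁻¹ᵁ W : Scheme) else (W : Scheme)
    let k : ∀ b, X' b ⟶ (W : Scheme) := fun b => match b with
      | ⟨true⟩ => g₀
      | ⟨false⟩ => 𝟙 _
    have hmem : Presieve.ofArrows X' k ∈ Scheme.fppfPrecoverage (W : Scheme) := by
      refine (Scheme.ofArrows_mem_precoverage_iff _).2 ⟨fun y => ⟨⟨false⟩, y, rfl⟩, ?_⟩
      rintro ⟨_ | _⟩
      · exact ⟨inferInstanceAs (Flat (𝟙 (W : Scheme))), inferInstanceAs (LocallyOfFinitePresentation (𝟙 (W : Scheme)))⟩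
      · exact ⟨inferInstanceAs (Flat g₀), inferInstanceAs (LocallyOfFinitePresentation g₀)⟩
    have h1 : P (pullback.snd (f ∣_ W) g₀) :=
      MorphismProperty.IsLocalAtTarget.pullbackSnd hmem (Presieve.ofArrows.mk (f := k) ⟨true⟩) hW
    rw [iso' W g₀, morphismRestrict_ι, ← iso ((isPullback_morphismRestrict (pullback.snd f g) (g ⁻¹ᵁ W)).flip.paste_horiz
      (IsPullback.of_hasPullback f g))] at h1
    exact h1

end Groth.Agent.S9859
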