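import Groth.Statements.S9860


set_option autoImplicit false
set_option backward.isDefEq.respectTransparency false
set_option backward.isDefEq.respectTransparency.types false
open CategoryTheory CategoryTheory.Limits AlgebraicGeometry Opposite
universe u
open Desc

namespace Groth.Agent.S9860

/-- Consider morphisms of schemes f i : X i ⟶ X indexed by i. Suppose that, whenever Y is an affine
scheme and g : Y ⟶ X is a morphism, the sieve on Y obtained by pulling back along g (generated by
the base changes X i ×_X Y ⟶ Y) is effective epimorphic. Then the pulled-back sieve along every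
morphism Y ⟶ X of schemes is effective epimorphic; in other words, within schemes the family forms a
universal effective epimorphism. -/
theorem result {ι : Type u} {X : Scheme.{u}} {Xi : ι → Scheme.{u}} (f : ∀ i, Xi i ⟶ X)
    (h : ∀ (Y : Scheme.{u}) (g : Y ⟶ X), IsAffine Y → ((Sieve.ofArrows Xi f).pullback g).EffectiveEpimorphic)
    {Y : Scheme.{u}} (g : Y ⟶ X) : ((Sieve.ofArrows Xi f).pullback g).EffectiveEpimorphic := by
  rw [Sieve.EffectiveEpimorphic.iff_forall_isSheafFor_yoneda]
  intro Z
  -- separatedness after any base change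
  have hsep : ∀ {T : Scheme.{u}} (a : T ⟶ X) (t₁ t₂ : T ⟶ Z),
      (∀ ⦃W : Scheme.{u}⦄ (w : W ⟶ T), (Sieve.ofArrows Xi f).arrows (w ≫ a) → w ≫ t₁ = w ≫ t₂) → t₁ = t₂ := by
    intro T a t₁ t₂ ht
    refine T.affineCover.hom_ext _ _ fun i => ?_
    have hs := (Sieve.EffectiveEpimorphic.iff_forall_isSheafFor_yoneda _).1
      (h _ (T.affineCover.f i ≫ a) inferInstance) Z
    exact hs.isSeparatedFor.ext fun W w hw => by
      have := ht (w ≫ T.affineCover.f i) (by simpa [Sieve.pullback] using hw)
      simpa using this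
  intro x hx
  have hxc := (Presieve.compatible_iff_sieveCompatible x).1 hx
  let 𝒰 := Y.affineCover
  let y : ∀ i, Presieve.FamilyOfElements (yoneda.obj Z)
      ((Sieve.ofArrows Xi f).pullback (𝒰.f i ≫ g)).arrows := fun i W w hw =>
    x (w ≫ 𝒰.f i) (by simpa [Sieve.pullback] using hw)
  have hy : ∀ i, (y i).Compatible := fun i => by
    rw [Presieve.compatible_iff_sieveCompatible]
    intro W W' w v hw
    have := hxc (w ≫ 𝒰.f i) v (by simpa [Sieve.pullback] using hw)
    simp only [y]
    convert this using 2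
    simp
  have hsh : ∀ i, Presieve.IsSheafFor (yoneda.obj Z) ((Sieve.ofArrows Xi f).pullback (𝒰.f i ≫ g)).arrows :=
    fun i => (Sieve.EffectiveEpimorphic.iff_forall_isSheafFor_yoneda _).1 (h _ _ inferInstance) Z
  let s : ∀ i, 𝒰.X i ⟶ Z := fun i => (hsh i).amalgamate (y i) (hy i)
  have hs : ∀ i ⦃W : Scheme.{u}⦄ (w : W ⟶ 𝒰.X i) (hw : ((Sieve.ofArrows Xi f).pullback g).arrows (w ≫ 𝒰.f i)),
      w ≫ s i = x (w ≫ 𝒰.f i) hw := fun i W w hw =>
    (hsh i).valid_glue (hy i) w (by simpa [Sieve.pullback] using hw)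
  have hcompat : ∀ i j, pullback.fst (𝒰.f i) (𝒰.f j) ≫ s i = pullback.snd (𝒰.f i) (𝒰.f j) ≫ s j := by
    intro i j
    refine hsep (pullback.fst _ _ ≫ 𝒰.f i ≫ g) _ _ fun W w hw => ?_
    have hw' : ((Sieve.ofArrows Xi f).pullback g).arrows ((w ≫ pullback.fst _ _) ≫ 𝒰.f i) := by
      simpa [Sieve.pullback] using hw
    have hw'' : ((Sieve.ofArrows Xi f).pullback g).arrows ((w ≫ pullback.snd _ _) ≫ 𝒰.f j) := by
      simpa [pullback.condition] using hw'
    rw [← Category.assoc, ← Category.assoc, hs i _ hw', hs j _ hw'']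
    congr 1
    simp [pullback.condition]
  refine ⟨𝒰.glueMorphisms s hcompat, fun T t ht => ?_, fun t' ht' => ?_⟩
  · refine Scheme.Cover.hom_ext (𝒰.pullback₁ t) _ _ fun i => ?_
    have hmem : ((Sieve.ofArrows Xi f).pullback g).arrows (pullback.snd t (𝒰.f i) ≫ 𝒰.f i) := by
      rw [← pullback.condition]
      exact ((Sieve.ofArrows Xi f).pullback g).downward_closed ht _
    show pullback.fst t (𝒰.f i) ≫ t ≫ 𝒰.glueMorphisms s hcompat = pullback.fst t (𝒰.f i) ≫ x t ht
    rw [pullback.condition_assoc, 𝒰.ι_glueMorphisms, hs i _ hmem]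
    refine Eq.trans ?_ (hxc t (pullback.fst t (𝒰.f i)) ht)
    congr 1
    exact pullback.condition.symm
  · refine 𝒰.hom_ext _ _ fun i => ?_
    rw [𝒰.ι_glueMorphisms]
    refine hsep (𝒰.f i ≫ g) _ _ fun W w hw => ?_
    have hw' : ((Sieve.ofArrows Xi f).pullback g).arrows (w ≫ 𝒰.f i) := by
      simpa [Sieve.pullback] using hw
    rw [hs i _ hw', ← Category.assoc]
    exact ht' _ hw'

end Groth.Agent.S9860
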