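import Groth.Statements.S9864
import Groth.Agent.DescLib.Iso

set_option autoImplicit false
set_option backward.isDefEq.respectTransparency false
set_option backward.isDefEq.respectTransparency.types false
open CategoryTheory CategoryTheory.Limits AlgebraicGeometry Opposite
universe u
open Desc

namespace Groth.Agent.S9864

/-- Let a : X ⟶ S be a morphism of schemes and f : X ⟶ X a morphism over S (f ≫ a = a). Then the
pullback functor along f on the category of descent data for schemes relative to X ⟶ S is isomorphic
to the identity functor. (Existence of an isomorphism of functors only; descent data relative to a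
single morphism are written as descent data relative to the corresponding one-member family.) -/
theorem result {X S : Scheme.{u}} (a : X ⟶ S) (f : X ⟶ X) (h : f ≫ a = a) :
    Nonempty (Desc.pullDDFam (f := fun _ : PUnit.{u + 1} => a) (f' := fun _ : PUnit.{u + 1} => a) (α := fun j => j)
        (p := 𝟙 S) (p' := fun _ => f) (fun _ => (h).trans (Category.comp_id a).symm) ≅
      𝟭 (Desc.SchDDFam (fun _ : PUnit.{u + 1} => a))) := by
  exact Groth.Agent.DescLib.nonempty_pull_iso_id _

end Groth.Agent.S9864
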