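import Groth.Statements.S9867
import Groth.Agent.EtFound.Descent
import Groth.Agent.AlgSpLib.Descends
import Mathlib.AlgebraicGeometry.Morphisms.FlatRank
import Mathlib.AlgebraicGeometry.Morphisms.LocalFlatDescent

set_option autoImplicit false
set_option backward.isDefEq.respectTransparency false
set_option backward.isDefEq.respectTransparency.types false
open CategoryTheory CategoryTheory.Limits AlgebraicGeometry Opposite
universe u
open Desc

namespace Groth.Agent.S9867

/-- Being finite locally free (finite, flat and locally of finite presentation), and being finite
locally free of a given degree d, are fpqc local on the base; the descent directions, stated as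
descent along surjective flat quasi-compact morphisms: if the base change of f along such a morphism
is finite locally free then so is f, and if moreover that base change has constant rank d (Mathlib's
rank function of a finite flat morphism) then f has constant rank d. (With Zariski-locality on the
target these give the statements for arbitrary fpqc coverings; stability under base change is the
other direction.) -/
theorem result :
    MorphismProperty.DescendsAlong (fun _ _ f => Mor2.IsFinLocFree f : MorphismProperty Scheme.{u})
      (@Surjective ⊓ @Flat ⊓ @QuasiCompact : MorphismProperty Scheme.{u}) ∧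
    ∀ d : ℕ, MorphismProperty.DescendsAlong (fun _ _ f => Mor2.IsFinLocFreeOfDeg d f : MorphismProperty Scheme.{u})
      (@Surjective ⊓ @Flat ⊓ @QuasiCompact : MorphismProperty Scheme.{u}) := by
  haveI := Groth.Agent.EtFound.fpqc_isFinite.{u}
  have key : MorphismProperty.DescendsAlong (fun _ _ f => Mor2.IsFinLocFree f : MorphismProperty Scheme.{u})
      (@Surjective ⊓ @Flat ⊓ @QuasiCompact : MorphismProperty Scheme.{u}) :=
    ⟨fun {A X Y Z fst snd f g} hpb hf h =>
      ⟨MorphismProperty.of_isPullback_of_descendsAlong (P := @IsFinite) hpb hf h.1,
       MorphismProperty.of_isPullback_of_descendsAlong (P := @Flat) hpb hf h.2.1,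
       MorphismProperty.of_isPullback_of_descendsAlong (P := @LocallyOfFinitePresentation) hpb hf h.2.2⟩⟩
  refine ⟨key, fun d => ⟨fun {A X Y Z fst snd f g} hpb hf h => ?_⟩⟩
  have hg := key.of_isPullback hpb hf h.1
  refine ⟨hg, fun y => ?_⟩
  have hs : Surjective f := hf.1.1
  obtain ⟨x, rfl⟩ := hs.surj y
  haveI := hg.1
  haveI := hg.2.1
  haveI := hg.2.2
  rw [← Scheme.Hom.finrank_of_isPullback _ _ _ _ hpb.flip x]
  exact h.2 x

end Groth.Agent.S9867
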