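import Groth.Statements.S9868
import Groth.Agent.AlgSpDec.QuotRep
import Groth.Agent.AlgSpPts.Quot
import Mathlib.CategoryTheory.Sites.EpiMono
-- import your own Groth.Agent.* helpers here

set_option autoImplicit false
universe u
open CategoryTheory CategoryTheory.Limits AlgebraicGeometry
open AlgSp

namespace Groth.Agent.S9868

set_option backward.isDefEq.respectTransparency false
set_option backward.isDefEq.respectTransparency.types false

/-- Let `s, t : R ⟶ U` be an etale equivalence relation on a scheme `U` over `S` (for every scheme `T`
over `S` the map from `T`-points of `R` to pairs of `T`-points of `U` is injective with image an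
equivalence relation, and `s`, `t` are etale). Then the quotient sheaf `U/R` (the coequalizer of
`h_s, h_t` in fppf sheaves of sets over `S`) is an algebraic space over `S`. -/
theorem result (S : Scheme.{u}) {R U : Over S} (s t : R ⟶ U)
    (h : AlgSp.IsEtaleEqvRel s t) :
    AlgSp.IsAlgSpace (QuotSh.quot Scheme.fppfPrecoverage s t) := by
  have : Epi (Groth.Agent.AlgSpPts.quotMap s t) := by
    have : Epi (QuotSh.quotπ Scheme.fppfPrecoverage s t) := by
      unfold QuotSh.quotπ
      infer_instance
    exact epi_comp _ _
  have : Sheaf.IsLocallySurjective (Groth.Agent.AlgSpPts.quotMap s t) :=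
    (CategoryTheory.Sheaf.isLocallySurjective_iff_epi (Groth.Agent.AlgSpPts.quotMap s t)).2 inferInstance
  have := h.etale_left
  have : Surjective s.left := ⟨fun x => by
    obtain ⟨r, -, hr2⟩ := (h.equivalence U).refl (𝟙 U)
    exact ⟨r.left x, by rw [← Scheme.Hom.comp_apply, ← Over.comp_left, hr2, Over.id_left]; rfl⟩⟩
  exact Groth.Agent.AlgSpDec.isAlgSpace_of_etale_kernelPair
    (Groth.Agent.AlgSpPts.isPullback_quotMap h.toIsEqvRel)

end Groth.Agent.S9868
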