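import Groth.Statements.S9869
import Groth.Agent.AlgSpPts.Quot
import Groth.Agent.AlgSpLib.EtLocalInst
import Mathlib.AlgebraicGeometry.Morphisms.LocalFlatDescent
import Mathlib.CategoryTheory.Sites.EpiMono
-- import your own Groth.Agent.* helpers here

set_option autoImplicit false
universe u
open CategoryTheory CategoryTheory.Limits AlgebraicGeometry
open AlgSp

namespace Groth.Agent.S9869

set_option backward.isDefEq.respectTransparency false
set_option backward.isDefEq.respectTransparency.types false

open AlgSp Groth.Agent.AlgSpLib Groth.Agent.AlgSpPts

/-- Let `s, t : R ⟶ U` be an etale equivalence relation on a scheme `U` over `S` and suppose that the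
fppf quotient sheaf `U/R` is an algebraic space over `S`. Then the quotient map `h_U ⟶ U/R` is
representable etale and representable surjective, and `(U, R, h_U ⟶ U/R)` is a presentation of `U/R`
(in particular `h_R`, with `h_t` and `h_s`, is the fibre product `h_U ×_{U/R} h_U`). The quotient
map is written on `h_U` through the canonical identification of `h_U` with the sheafified
representable presheaf. -/
theorem result (S : Scheme.{u}) {R U : Over S} (s t : R ⟶ U)
    (h : AlgSp.IsEtaleEqvRel s t) (hq : AlgSp.IsAlgSpace (QuotSh.quot Scheme.fppfPrecoverage s t)) :
    AlgSp.IsPresentation s t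
      ((QuotSh.repIsoUliftYoneda Scheme.fppfPrecoverage U).inv ≫ QuotSh.quotπ Scheme.fppfPrecoverage s t) :=  by
  have hr : Representable (quotMap s t) := representable_from_yon' hq _
  have : Epi (quotMap s t) := by
    have : Epi (QuotSh.quotπ Scheme.fppfPrecoverage s t) := by
      unfold QuotSh.quotπ
      infer_instance
    exact epi_comp _ _
  have : Sheaf.IsLocallySurjective (quotMap s t) :=
    (CategoryTheory.Sheaf.isLocallySurjective_iff_epi (quotMap s t)).2 inferInstance
  have sq := isPullback_quotMap h.toIsEqvRel
  have := isLocalAtTarget_fppf (@Etale : MorphismProperty Scheme.{u})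
  have := isLocalAtTarget_fppf (@Surjective : MorphismProperty Scheme.{u})
  have hs : Surjective s.left := ⟨fun x => by
    obtain ⟨r, -, hr2⟩ := (h.equivalence U).refl (𝟙 U)
    exact ⟨r.left x, by rw [← Scheme.Hom.comp_apply, ← Over.comp_left, hr2, Over.id_left]; rfl⟩⟩
  exact { eqvRel := h
          etale := repWith_of_locallySurjective hr _ sq @Etale ((repWith_yon_map_iff _ _).2 h.etale_left)
          surjective := repWith_of_locallySurjective hr _ sq @Surjective ((repWith_yon_map_iff _ _).2 hs)
          isPullback := sq }


end Groth.Agent.S9869
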