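import Groth.Statements.S9871
import Groth.Agent.AlgSpLib.Sheaf
import Groth.Agent.AlgSpLib.Rep
import Mathlib.CategoryTheory.Sites.RegularEpi
import Mathlib.CategoryTheory.Limits.Shapes.KernelPair
-- import your own Groth.Agent.* helpers here

set_option autoImplicit false
universe u
open CategoryTheory CategoryTheory.Limits AlgebraicGeometry
open AlgSp

namespace Groth.Agent.S9871

set_option backward.isDefEq.respectTransparency false
set_option backward.isDefEq.respectTransparency.types false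

open AlgSp Groth.Agent.AlgSpLib

/-- Let `s, t : R ⟶ U` be an etale equivalence relation on a scheme `U` over `S` and let `g : U' ⟶ U` be
an etale morphism over `S`. Let `s', t' : R' ⟶ U'` be the restriction to `U'`: `R'`, with `(t', s')`
and `R' ⟶ R`, is the fibre product of `U' ×_S U'` and `R` over `U ×_S U`. Then `s', t'` is again an
etale equivalence relation. -/
theorem result (S : Scheme.{u}) {R U R' U' : Over S} (s t : R ⟶ U)
    (g : U' ⟶ U) (s' t' : R' ⟶ U') (r : R' ⟶ R)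
    (hsq : IsPullback (prod.lift t' s') r (prod.map g g) (prod.lift t s))
    (h : AlgSp.IsEtaleEqvRel s t) [Etale g.left] :
    AlgSp.IsEtaleEqvRel s' t' :=  by
  have hp : ∀ {T : Over S} (r₁ : T ⟶ R'), (r₁ ≫ t') ≫ g = (r₁ ≫ r) ≫ t ∧ (r₁ ≫ s') ≫ g = (r₁ ≫ r) ≫ s := by
    intro T r₁
    have h1 := hsq.w =≫ prod.fst
    have h2 := hsq.w =≫ prod.snd
    simp at h1 h2
    exact ⟨by rw [Category.assoc, Category.assoc, h1], by rw [Category.assoc, Category.assoc, h2]⟩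
  have mk : ∀ {T : Over S} (a b : T ⟶ U') (r₀ : T ⟶ R), r₀ ≫ t = a ≫ g → r₀ ≫ s = b ≫ g →
      ∃ r₁ : T ⟶ R', r₁ ≫ t' = a ∧ r₁ ≫ s' = b ∧ r₁ ≫ r = r₀ := by
    intro T a b r₀ h1 h2
    have hw : prod.lift a b ≫ prod.map g g = r₀ ≫ prod.lift t s := by
      apply prod.hom_ext <;> simp [h1, h2]
    refine ⟨hsq.lift (prod.lift a b) r₀ hw, ?_, ?_, hsq.lift_snd _ _ _⟩
    · simpa using hsq.lift_fst (prod.lift a b) r₀ hw =≫ prod.fst
    · simpa using hsq.lift_fst (prod.lift a b) r₀ hw =≫ prod.snd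
  have ext' : ∀ {T : Over S} (r₁ r₂ : T ⟶ R'), r₁ ≫ t' = r₂ ≫ t' → r₁ ≫ s' = r₂ ≫ s' → r₁ = r₂ := by
    intro T r₁ r₂ h1 h2
    refine hsq.hom_ext (prod.hom_ext ?_ ?_) (h.injective T _ _ ?_ ?_)
    · simpa using h1
    · simpa using h2
    · rw [← (hp r₁).1, ← (hp r₂).1, h1]
    · rw [← (hp r₁).2, ← (hp r₂).2, h2]
  have het : ∀ (t₀ s₀ : R ⟶ U) (t₁ s₁ : R' ⟶ U'), Etale t₀.left → Etale s₀.left →
      t₁ ≫ g = r ≫ t₀ → s₁ ≫ g = r ≫ s₀ →
      (∀ {T : Over S} (a b : T ⟶ U') (r₀ : T ⟶ R), r₀ ≫ t₀ = a ≫ g → r₀ ≫ s₀ = b ≫ g →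
        ∃ r₁ : T ⟶ R', r₁ ≫ t₁ = a ∧ r₁ ≫ s₁ = b ∧ r₁ ≫ r = r₀) →
      (∀ {T : Over S} (r₁ r₂ : T ⟶ R'), r₁ ≫ t₁ = r₂ ≫ t₁ → r₁ ≫ s₁ = r₂ ≫ s₁ → r₁ = r₂) → Etale s₁.left := by
    intro t₀ s₀ t₁ s₁ hte hse e1 e2 hmk hext
    let l : R' ⟶ pullback t₀ g := pullback.lift r t₁ e1.symm
    have hL : ∀ c : PullbackCone (pullback.fst t₀ g ≫ s₀) g, ∃ r₁ : c.pt ⟶ R',
        r₁ ≫ t₁ = c.fst ≫ pullback.snd t₀ g ∧ r₁ ≫ s₁ = c.snd ∧ r₁ ≫ r = c.fst ≫ pullback.fst t₀ g :=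
      fun c => hmk _ _ _ (by rw [Category.assoc, Category.assoc, pullback.condition])
        (by rw [Category.assoc, c.condition])
    choose L hL1 hL2 hL3 using hL
    have sq1 : IsPullback l s₁ (pullback.fst t₀ g ≫ s₀) g := by
      refine ⟨⟨by rw [← Category.assoc, pullback.lift_fst, e2]⟩, ⟨PullbackCone.IsLimit.mk _
        L ?_ ?_ ?_⟩⟩
      all_goals intro c
      · apply pullback.hom_ext
        · rw [Category.assoc, pullback.lift_fst, hL3]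
        · rw [Category.assoc, pullback.lift_snd, hL1]
      · exact hL2 c
      · intro m m1 m2
        apply hext
        · rw [hL1, ← m1, Category.assoc, pullback.lift_snd]
        · rw [hL2, m2]
    have h1 : Etale (pullback.fst t₀ g).left :=
      MorphismProperty.of_isPullback ((IsPullback.of_hasPullback t₀ g).flip.map (Over.forget S)) ‹Etale g.left›
    have h2 : Etale (pullback.fst t₀ g ≫ s₀).left := by
      rw [Over.comp_left]; infer_instance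
    exact MorphismProperty.of_isPullback (sq1.map (Over.forget S)) h2
  have e1 : t' ≫ g = r ≫ t := by simpa using (hp (𝟙 R')).1
  have e2 : s' ≫ g = r ≫ s := by simpa using (hp (𝟙 R')).2
  refine { injective := fun T r₁ r₂ h1 h2 => ext' r₁ r₂ h1 h2, equivalence := fun T => ⟨fun a => ?_, ?_, ?_⟩,
           etale_left := het t s t' s' h.etale_right h.etale_left e1 e2 mk ext',
           etale_right := het s t s' t' h.etale_left h.etale_right e2 e1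
             (fun a b r₀ k1 k2 => by obtain ⟨r₁, x, y, z⟩ := mk b a r₀ k2 k1; exact ⟨r₁, y, x, z⟩)
             (fun r₁ r₂ k1 k2 => ext' r₁ r₂ k2 k1) }
  · obtain ⟨r₀, k1, k2⟩ := (h.equivalence T).refl (a ≫ g)
    obtain ⟨r₁, x, y, -⟩ := mk a a r₀ k1 k2
    exact ⟨r₁, x, y⟩
  · rintro a b ⟨r₁, rfl, rfl⟩
    obtain ⟨r₀, k1, k2⟩ := (h.equivalence T).symm ⟨r₁ ≫ r, rfl, rfl⟩
    obtain ⟨r₂, x, y, -⟩ := mk (r₁ ≫ s') (r₁ ≫ t') r₀ (by rw [k1, (hp r₁).2]) (by rw [k2, (hp r₁).1])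
    exact ⟨r₂, x, y⟩
  · rintro a b d ⟨r₁, rfl, rfl⟩ ⟨r₂, hr₂, rfl⟩
    obtain ⟨r₀, k1, k2⟩ := (h.equivalence T).trans ⟨r₁ ≫ r, rfl, rfl⟩
      (show ∃ x : T ⟶ R, x ≫ t = (r₁ ≫ r) ≫ s ∧ x ≫ s = (r₂ ≫ r) ≫ s from
        ⟨r₂ ≫ r, by rw [← (hp r₁).2, ← (hp r₂).1, hr₂], rfl⟩)
    obtain ⟨r₃, x, y, -⟩ := mk (r₁ ≫ t') (r₂ ≫ s') r₀ (by rw [k1, (hp r₁).1]) (by rw [k2, (hp r₂).2])
    exact ⟨r₃, x, y⟩


end Groth.Agent.S9871
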