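import Groth.Statements.S9874
import Groth.Agent.AlgSpPts.Descent
-- import your own Groth.Agent.* helpers here

set_option autoImplicit false
universe u
open CategoryTheory CategoryTheory.Limits AlgebraicGeometry
open AlgSp

namespace Groth.Agent.S9874

set_option backward.isDefEq.respectTransparency false
set_option backward.isDefEq.respectTransparency.types false

open AlgSp Groth.Agent.AlgSpLib Groth.Agent.AlgSpPts

/-- Let `H` be an fppf sheaf of sets over `S` whose diagonal `H ⟶ H × H` is representable by schemes,
let `X`, `Y` be algebraic spaces over `S` with maps `f : X ⟶ H`, `g : Y ⟶ H`, and let `P` with its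
two projections be a fibre product `X ×_H Y` in sheaves. Then `P` is an algebraic space over `S`. -/
theorem result (S : Scheme.{u}) (H : AlgSp.Sp S)
    (hH : AlgSp.Representable (Limits.diag H)) (X Y : AlgSp.Space S) (f : X.obj ⟶ H) (g : Y.obj ⟶ H)
    (P : AlgSp.Sp S) (fst : P ⟶ X.obj) (snd : P ⟶ Y.obj) (h : IsPullback fst snd f g) :
    AlgSp.IsAlgSpace P :=  by
  have sq : IsPullback (fst ≫ f) (prod.lift fst snd) (Limits.diag H) (prod.map f g) := by
    refine ⟨⟨by apply Limits.prod.hom_ext <;> simp [h.w]⟩, ⟨PullbackCone.IsLimit.mk _
      (fun s => h.lift (s.snd ≫ prod.fst) (s.snd ≫ prod.snd) ?_) ?_ ?_ ?_⟩⟩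
    · have h1 := s.condition =≫ prod.fst
      have h2 := s.condition =≫ prod.snd
      simp at h1 h2
      simp [← h1, ← h2]
    · intro s
      have h1 := s.condition =≫ prod.fst
      simp at h1
      rw [← Category.assoc, h.lift_fst, Category.assoc, ← h1]
    · intro s
      apply Limits.prod.hom_ext <;> simp
    · intro s l h1 h2
      apply h.hom_ext
      · rw [h.lift_fst, ← h2]; simp
      · rw [h.lift_snd, ← h2]; simp
  exact AlgSpLib.isAlgSpace_of_representable _ (MorphismProperty.of_isPullback (P := Representable) sq hH)
    (isAlgSpace_prod X.property Y.property)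


end Groth.Agent.S9874
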