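import Groth.Statements.S9875
import Groth.Agent.AlgSpPts.Misc
import Groth.Agent.AlgSpLib.EtLocalInst
-- import your own Groth.Agent.* helpers here

set_option autoImplicit false
universe u
open CategoryTheory CategoryTheory.Limits AlgebraicGeometry
open AlgSp

namespace Groth.Agent.S9875

set_option backward.isDefEq.respectTransparency false
set_option backward.isDefEq.respectTransparency.types false

open AlgSp Groth.Agent.AlgSpLib Groth.Agent.AlgSpPts

/-- The category of algebraic spaces over `S` has fibre products, and the inclusion functor into fppf
sheaves of sets over `S` preserves them (the fibre product of sheaves of two algebraic spaces over a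
third is an algebraic space and is their fibre product as algebraic spaces). -/
theorem result (S : Scheme.{u}) :
    HasPullbacks (AlgSp.Space S) ∧
      PreservesLimitsOfShape WalkingCospan (ObjectProperty.ι (AlgSp.IsAlgSpace (S := S))) :=  by
  have : ObjectProperty.IsClosedUnderLimitsOfShape (IsAlgSpace (S := S)) WalkingCospan :=
    ⟨fun P ⟨h⟩ => by
      have sq : IsPullback (h.π.app WalkingCospan.left) (h.π.app WalkingCospan.right)
          (h.diag.map WalkingCospan.Hom.inl) (h.diag.map WalkingCospan.Hom.inr) :=
        IsPullback.of_isLimit_cone h.isLimit
      exact isAlgSpace_of_isPullback sq (h.prop_diag_obj _) (h.prop_diag_obj _) (h.prop_diag_obj _)⟩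
  exact ⟨inferInstanceAs (HasLimitsOfShape WalkingCospan _), inferInstance⟩


end Groth.Agent.S9875
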