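import Groth.Statements.S9878
import Groth.Agent.AlgSpDec.OpenCoverSpace
-- import your own Groth.Agent.* helpers here

set_option autoImplicit false
universe u
open CategoryTheory CategoryTheory.Limits AlgebraicGeometry
open AlgSp

namespace Groth.Agent.S9878

/-- Let `F`, `G` be fppf sheaves of sets over `S` and let `F ⨿ G` be their coproduct in sheaves (any
colimit binary cofan). Then the coprojection `F ⟶ F ⨿ G` is representable by schemes, by morphisms
that are both open immersions and closed immersions. -/
theorem result (S : Scheme.{u}) (F G : AlgSp.Sp S) (c : BinaryCofan F G)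
    (hc : IsColimit c) :
    AlgSp.RepWith (@IsOpenImmersion ⊓ @IsClosedImmersion) c.inl := by
  let Z : ULift.{u} WalkingPair → AlgSp.Sp S := fun k => match k.down with
    | WalkingPair.left => F
    | WalkingPair.right => G
  let c' : Cofan Z := Cofan.mk c.pt fun k => match k with
    | ⟨WalkingPair.left⟩ => c.inl
    | ⟨WalkingPair.right⟩ => c.inr
  have hd := fun s : Cofan Z => BinaryCofan.IsColimit.desc' hc (s.inj ⟨WalkingPair.left⟩) (s.inj ⟨WalkingPair.right⟩)
  have hc' : IsColimit c' := mkCofanColimit c' (fun s => (hd s).1)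
    (fun s k => match k with
      | ⟨WalkingPair.left⟩ => (hd s).2.1
      | ⟨WalkingPair.right⟩ => (hd s).2.2)
    (fun s m hm => BinaryCofan.IsColimit.hom_ext hc ((hm ⟨WalkingPair.left⟩).trans (hd s).2.1.symm)
      ((hm ⟨WalkingPair.right⟩).trans (hd s).2.2.symm))
  exact AlgSpDec.repWith_openClosed_inj hc' ⟨WalkingPair.left⟩

end Groth.Agent.S9878
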