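import Groth.Statements.S9879
import Groth.Agent.AlgSpDec.OpenCoverSpace
-- import your own Groth.Agent.* helpers here

set_option autoImplicit false
universe u
open CategoryTheory CategoryTheory.Limits AlgebraicGeometry
open AlgSp

namespace Groth.Agent.S9879

/-- Let `U` be a scheme over `S` and `F_i` a family of fppf sheaves of sets over `S` whose coproduct in
sheaves is isomorphic to `h_U`. Then each `F_i` is representable by a scheme `V_i` over `S` such
that `V_i ⟶ U` (the morphism inducing `h_{V_i} ≅ F_i ⟶ ∐ F_i ≅ h_U`) is an open and closed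
immersion, and `U` is the coproduct of the `V_i` in schemes. -/
theorem result (S : Scheme.{u}) (U : Over S) {ι : Type u}
    (F : ι → AlgSp.Sp S) (c : Cofan F) (hc : IsColimit c) (e : c.pt ≅ (AlgSp.yon S).obj U) :
    ∃ (V : ι → Over S) (g : ∀ i, V i ⟶ U) (ei : ∀ i, (AlgSp.yon S).obj (V i) ≅ F i),
      (∀ i, IsOpenImmersion (g i).left ∧ IsClosedImmersion (g i).left) ∧
      (∀ i, (ei i).hom ≫ c.inj i ≫ e.hom = (AlgSp.yon S).map (g i)) ∧
      Nonempty (IsColimit (Cofan.mk U.left (fun i => (g i).left))) := by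
  have hinj := fun i => AlgSpDec.repWith_openClosed_inj hc i
  let V : ι → Over S := fun i => (hinj i).rep.pullback e.inv
  have hiso : ∀ i, IsIso ((hinj i).rep.fst e.inv) := fun i => ((hinj i).rep.isPullback e.inv).isIso_fst_of_isIso
  let g : ∀ i, V i ⟶ U := fun i => (hinj i).rep.snd e.inv
  let ei : ∀ i, (AlgSp.yon S).obj (V i) ≅ F i := fun i => asIso ((hinj i).rep.fst e.inv)
  have hg : ∀ i, (ei i).hom ≫ c.inj i ≫ e.hom = (AlgSp.yon S).map (g i) := fun i => by
    change (hinj i).rep.fst e.inv ≫ c.inj i ≫ e.hom = _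
    rw [reassoc_of% ((hinj i).rep.isPullback e.inv).w, e.inv_hom_id, Category.comp_id]
  refine ⟨V, g, ei, fun i => (hinj i).property_snd e.inv, hg, ?_⟩
  let σ : AlgSpDec.sigmaOver V ⟶ U :=
    CategoryTheory.Over.homMk (Sigma.desc fun i => (g i).left) (Sigma.hom_ext _ _ fun i => by
      change Sigma.ι _ i ≫ Sigma.desc _ ≫ U.hom = Sigma.ι _ i ≫ Sigma.desc _
      rw [Sigma.ι_desc_assoc, Sigma.ι_desc]
      exact CategoryTheory.Over.w (g i))
  have hσ : ∀ i, AlgSpDec.sigmaι V i ≫ σ = g i := fun i =>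
    CategoryTheory.Over.OverMorphism.ext (Sigma.ι_desc _ i)
  obtain ⟨τ, hτ⟩ : ∃ τ : U ⟶ AlgSpDec.sigmaOver V, (AlgSp.yon S).map τ =
      e.inv ≫ Cofan.IsColimit.desc hc (fun i => (ei i).inv ≫ (AlgSp.yon S).map (AlgSpDec.sigmaι V i)) :=
    (AlgSp.yon S).map_surjective _
  have h1 : ∀ i, g i ≫ τ = AlgSpDec.sigmaι V i := fun i => (AlgSp.yon S).map_injective (by
    rw [Functor.map_comp, ← hg, hτ, Category.assoc, Category.assoc, e.hom_inv_id_assoc,
      Cofan.IsColimit.fac, Iso.hom_inv_id_assoc])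
  have : IsIso σ := by
    refine ⟨τ, (AlgSp.yon S).map_injective (AlgSpDec.hom_ext_sigma V fun i => ?_), ?_⟩
    · rw [← Functor.map_comp, ← Functor.map_comp, Category.comp_id, ← Category.assoc, hσ, h1]
    · apply (AlgSp.yon S).map_injective
      rw [Functor.map_comp, hτ, CategoryTheory.Functor.map_id, Category.assoc, Iso.inv_comp_eq, Category.comp_id]
      refine Cofan.IsColimit.hom_ext hc _ _ fun i => ?_
      rw [← Category.assoc, Cofan.IsColimit.fac, Category.assoc, ← Functor.map_comp, hσ, ← hg,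
        Iso.inv_hom_id_assoc]
  have : IsIso (Sigma.desc fun i => (g i).left) := inferInstanceAs (IsIso ((CategoryTheory.Over.forget S).map σ))
  exact ⟨IsColimit.ofIsoColimit (coproductIsCoproduct fun i => (V i).left)
    (Cocone.ext (@asIso _ _ _ _ (Sigma.desc fun i => (g i).left) this) fun k => Sigma.ι_desc _ k.as)⟩

end Groth.Agent.S9879
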