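import Groth.Statements.S9884
import Groth.Agent.AlgSpPts.FppfTarget
-- import your own Groth.Agent.* helpers here

set_option autoImplicit false
universe u
open CategoryTheory CategoryTheory.Limits AlgebraicGeometry
open AlgSp

namespace Groth.Agent.S9884

set_option backward.isDefEq.respectTransparency false
set_option backward.isDefEq.respectTransparency.types false

open AlgSp Groth.Agent.AlgSpLib Groth.Agent.AlgSpPts

/-- Let `a : F ⟶ G` be a map of fppf sheaves of sets over `S` which is representable by schemes, `b : H
⟶ G` a surjective map of sheaves, and `a' : H ×_G F ⟶ H` the base change of `a` along `b` (a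
pullback square in sheaves). Let `P` be a property of morphisms of schemes stable under base change
and fppf local on the base. If `a'` has `P` in the representable sense, then so does `a`. (The
published statement is for presheaves, with `b` inducing a surjection of fppf sheafifications; this
row is the case of sheaves.) -/
theorem result (S : Scheme.{u}) (F G H : AlgSp.Sp S) (a : F ⟶ G)
    (ha : AlgSp.Representable a) (b : H ⟶ G) [Sheaf.IsLocallySurjective b] (Q : AlgSp.Sp S) (b' : Q ⟶ F)
    (a' : Q ⟶ H) (sq : IsPullback b' a' a b) (P : MorphismProperty Scheme.{u}) [P.IsStableUnderBaseChange]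
    [P.IsLocalAtTarget Scheme.fppfPrecoverage] (h : AlgSp.RepWith P a') : AlgSp.RepWith P a :=  repWith_of_locallySurjective ha b sq P h


end Groth.Agent.S9884
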