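import Groth.Statements.S9885
import Groth.Agent.AlgSpPts.Sep
-- import your own Groth.Agent.* helpers here

set_option autoImplicit false
universe u
open CategoryTheory CategoryTheory.Limits AlgebraicGeometry
open AlgSp

namespace Groth.Agent.S9885

set_option backward.isDefEq.respectTransparency false
set_option backward.isDefEq.respectTransparency.types false

open AlgSp Groth.Agent.AlgSpLib Groth.Agent.AlgSpPts

/-- Let `a : F ⟶ G` be a map of fppf sheaves of sets over `S` which is representable by schemes, flat,
locally of finite presentation and surjective (in the representable sense). Then `a` is surjective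
as a map of sheaves (locally surjective). -/
theorem result (S : Scheme.{u}) (F G : AlgSp.Sp S) (a : F ⟶ G)
    (h₁ : AlgSp.RepWith @Flat a) (h₂ : AlgSp.RepWith @LocallyOfFinitePresentation a)
    (h₃ : AlgSp.RepWith @Surjective a) : Sheaf.IsLocallySurjective a :=  by
  refine isLocallySurjective_of_repWith ⟨h₁.1, fun U V g fst snd sq => ?_⟩
  exact ⟨⟨h₃.property g fst snd sq, h₁.property g fst snd sq⟩, h₂.property g fst snd sq⟩


end Groth.Agent.S9885
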