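import Groth.Statements.S9886
import Groth.Agent.AlgSpPts.Props
import Groth.Agent.AlgSpPts.OpenSub
-- import your own Groth.Agent.* helpers here

set_option autoImplicit false
universe u
open CategoryTheory CategoryTheory.Limits AlgebraicGeometry
open AlgSp

namespace Groth.Agent.S9886

set_option backward.isDefEq.respectTransparency false
set_option backward.isDefEq.respectTransparency.types false

open AlgSp Groth.Agent.AlgSpLib Groth.Agent.AlgSpPts

/-- Let `F` be an fppf sheaf of sets over `S` and `P` a property of morphisms of schemes stable under
base change. Assume that for all schemes `U`, `V` over `S` and all `a : h_U ⟶ F`, `b : h_V ⟶ F` the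
fibre product `h_U ×_F h_V` is represented by some scheme `W` over `S` with its projections induced
by morphisms `W ⟶ U`, `W ⟶ V`, and that for every such represented fibre product the morphism `W ⟶ U
×_S V` has `P`. Then the diagonal `F ⟶ F × F` is representable by schemes and has `P`. (The
published statement is for a presheaf of sets `F` and a property `P` that is also fppf local on the
base; this row takes `F` an fppf sheaf and `P` only stable under base change.) -/
theorem result (S : Scheme.{u}) (F : AlgSp.Sp S) (P : MorphismProperty Scheme.{u})
    [P.IsStableUnderBaseChange]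
    (h₁ : ∀ ⦃U V : Over S⦄ (a : (AlgSp.yon S).obj U ⟶ F) (b : (AlgSp.yon S).obj V ⟶ F),
      ∃ (W : Over S) (fst : W ⟶ U) (snd : W ⟶ V), IsPullback ((AlgSp.yon S).map fst) ((AlgSp.yon S).map snd) a b)
    (h₂ : ∀ ⦃U V W : Over S⦄ (a : (AlgSp.yon S).obj U ⟶ F) (b : (AlgSp.yon S).obj V ⟶ F) (fst : W ⟶ U)
      (snd : W ⟶ V), IsPullback ((AlgSp.yon S).map fst) ((AlgSp.yon S).map snd) a b → P (prod.lift fst snd).left) :
    AlgSp.RepWith P (Limits.diag F) :=  by
  refine repWith_of_squares fun T z => ?_
  let a := z ≫ prod.fst
  let b := z ≫ prod.snd
  obtain ⟨W, fst, snd, sq⟩ := h₁ a b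
  refine ⟨pullback (prod.lift fst snd) (Limits.diag T),
    (yon S).map (pullback.snd (prod.lift fst snd) (Limits.diag T)) ≫ a,
    pullback.snd (prod.lift fst snd) (Limits.diag T), ⟨⟨?_⟩, ?_⟩,
    MorphismProperty.of_isPullback ((IsPullback.of_hasPullback _ _).map (Over.forget S)) (h₂ a b fst snd sq)⟩
  · refine prod.hom_ext (by simp [a]) ?_
    have h1 : pullback.fst (prod.lift fst snd) (Limits.diag T) ≫ fst = pullback.snd _ _ := by
      simpa using pullback.condition (f := prod.lift fst snd) (g := Limits.diag T) =≫ prod.fst
    have h2 : pullback.fst (prod.lift fst snd) (Limits.diag T) ≫ snd = pullback.snd _ _ := by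
      simpa using pullback.condition (f := prod.lift fst snd) (g := Limits.diag T) =≫ prod.snd
    simp only [Category.assoc, prod.lift_snd, Category.comp_id]
    change _ = (yon S).map _ ≫ b
    conv_lhs => rw [← h1, Functor.map_comp, Category.assoc, sq.w]
    rw [← Category.assoc, ← Functor.map_comp, h2]
  · have hV := (IsPullback.of_hasPullback (prod.lift fst snd) (Limits.diag T)).map (yon S)
    have key : ∀ s : PullbackCone (Limits.diag F) z, s.fst = s.snd ≫ a ∧ s.fst = s.snd ≫ b := by
      intro s
      constructor
      · simpa [a] using s.condition =≫ prod.fst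
      · simpa [b] using s.condition =≫ prod.snd
    have key' : ∀ s : PullbackCone (Limits.diag F) z,
        sq.lift s.snd s.snd ((key s).1.symm.trans (key s).2) ≫ (yon S).map (prod.lift fst snd) =
          s.snd ≫ (yon S).map (Limits.diag T) := by
      intro s
      rw [← cancel_mono (prodComparison (yon S) T T)]
      apply prod.hom_ext
      · simp [prodComparison_fst, ← Functor.map_comp]
      · simp [prodComparison_snd, ← Functor.map_comp]
    refine ⟨PullbackCone.IsLimit.mk _ (fun s => hV.lift _ _ (key' s)) ?_ ?_ ?_⟩
    · intro s
      rw [← Category.assoc, hV.lift_snd]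
      exact (key s).1.symm
    · intro s
      exact hV.lift_snd _ _ _
    · intro s m _ m2
      apply hV.hom_ext
      · rw [hV.lift_fst]
        apply sq.hom_ext
        · rw [sq.lift_fst, Category.assoc, ← Functor.map_comp, ← m2]
          congr 2
          simpa using pullback.condition (f := prod.lift fst snd) (g := Limits.diag T) =≫ prod.fst
        · rw [sq.lift_snd, Category.assoc, ← Functor.map_comp, ← m2]
          congr 2
          simpa using pullback.condition (f := prod.lift fst snd) (g := Limits.diag T) =≫ prod.snd
      · rw [hV.lift_snd]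
        exact m2


end Groth.Agent.S9886
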