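import Groth.Statements.S9889
import Groth.Agent.AlgSpDec.FreeAction

set_option autoImplicit false
universe u
open CategoryTheory CategoryTheory.Limits AlgebraicGeometry
open AlgSp

namespace Groth.Agent.S9889

set_option backward.isDefEq.respectTransparency false
set_option backward.isDefEq.respectTransparency.types false

/-- Let `U` be a scheme over `S` and `G` a group acting on `U` by automorphisms over `S`, freely: no
non-identity element of `G` fixes a point `x` of `U` while inducing the identity on its residue
field (equivalently, composing `Spec κ(x) ⟶ U` with the automorphism changes it). Let `R = ∐_{g ∈ G}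
U` (coproduct in schemes over `S`) with `s` the identity and `t` the action of `g` on the `g`-th
copy. Then `s, t : R ⟶ U` is an etale equivalence relation on `U` over `S` (so that `U/R` is an
algebraic space). -/
theorem result (S : Scheme.{u}) (U : Over S) (G : Type u) [Group G] (ρ : G →* Aut U)
    (hfree : ∀ (g : G) (x : U.left), g ≠ 1 →
      U.left.fromSpecResidueField x ≫ (ρ g).hom.left ≠ U.left.fromSpecResidueField x)
    (c : Cofan (fun _ : G => U)) (hc : IsColimit c) (s t : c.pt ⟶ U)
    (hs : ∀ g, c.inj g ≫ s = 𝟙 U) (ht : ∀ g, c.inj g ≫ t = (ρ g).hom) :
    AlgSp.IsEtaleEqvRel s t := by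
  exact Groth.Agent.AlgSpDec.FreeAction.isEtaleEqvRel hfree hc hs ht

end Groth.Agent.S9889
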