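import Groth.Statements.S9892
import Groth.Agent.AlgSpPts.RepByDiag
import Groth.Agent.AlgSpPts.Misc
-- import your own Groth.Agent.* helpers here

set_option autoImplicit false
universe u
open CategoryTheory CategoryTheory.Limits AlgebraicGeometry
open AlgSp

namespace Groth.Agent.S9892

set_option backward.isDefEq.respectTransparency false
set_option backward.isDefEq.respectTransparency.types false

open AlgSp Groth.Agent.AlgSpLib Groth.Agent.AlgSpPts

/-- Let `a : F ⟶ G` be a map of presheaves of sets on schemes over `S` which is representable by
schemes. If `G` is a sheaf for the fppf topology, then so is `F`. -/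
theorem result (S : Scheme.{u}) (F G : AlgSp.PSp S) (a : F ⟶ G)
    (ha : (AlgSp.pyon S).relativelyRepresentable a) (hG : Presheaf.IsSheaf (AlgSp.J S) G) :
    Presheaf.IsSheaf (AlgSp.J S) F :=  by
  refine isSheaf_of_fibres a hG fun U ξ F' fst snd sq => ?_
  exact (Presheaf.isSheaf_of_iso_iff ((ha.isPullback ξ).isoIsPullback _ _ sq)).1
    ((yon S).obj (ha.pullback ξ)).property


end Groth.Agent.S9892
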