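import Groth.Statements.S9893
import Groth.Agent.AlgSpBase.JShriekProps

set_option autoImplicit false
universe u
open CategoryTheory CategoryTheory.Limits AlgebraicGeometry
open AlgSp

namespace Groth.Agent.S9893

set_option backward.isDefEq.respectTransparency false
set_option backward.isDefEq.respectTransparency.types false

/-- Let `g : S ⟶ S'` be a morphism of schemes and `F'` an fppf sheaf of sets on schemes over `S'`. Then
the restriction of `F'` to schemes over `S` (a scheme over `S` being viewed over `S'` through `g`)
is an algebraic space over `S` if and only if `h_S × F'` is an algebraic space over `S'`, where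
`h_S` is the sheaf represented by `S` as a scheme over `S'`. -/
theorem result {S S' : Scheme.{u}} (g : S ⟶ S') (F' : AlgSp.Sp S') :
    AlgSp.IsAlgSpace ((Scheme.fppfTopology.overMapPullback (Type (u + 1)) g).obj F') ↔
      AlgSp.IsAlgSpace ((AlgSp.yon S').obj (Over.mk g) ⨯ F') := by
  exact Groth.Agent.AlgSpBase.isAlgSpace_jinv_iff g F'

end Groth.Agent.S9893
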