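import Groth.Statements.S9899
import Groth.Agent.AlgSpBase.JShriekProps

set_option autoImplicit false
universe u
open CategoryTheory CategoryTheory.Limits AlgebraicGeometry
open AlgSp

namespace Groth.Agent.S9899

set_option backward.isDefEq.respectTransparency false
set_option backward.isDefEq.respectTransparency.types false

/-- Let `g : S ⟶ S'` be a morphism of schemes and `j_!` the left adjoint of the restriction functor from
fppf sheaves of sets on schemes over `S'` to those on schemes over `S`. Let `F` be an algebraic
space over `S`, `T` a scheme over `S` and `f : h_T ⟶ F`, and let `P` be a property of morphisms of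
schemes stable under base change and fppf local on the base. Then `j_!(f)`, which is the morphism
`h_{T} ⟶ j_! F` over `S'` obtained from `f` up to the identification `j_! h_T ≅ h_T` (`T` viewed
over `S'`), has `P` in the representable sense if and only if `f` does. -/
theorem result {S S' : Scheme.{u}} (g : S ⟶ S') (F : AlgSp.Space S) (T : Over S)
    (f : (AlgSp.yon S).obj T ⟶ F.obj) (P : MorphismProperty Scheme.{u}) [P.IsStableUnderBaseChange]
    [P.IsLocalAtTarget Scheme.fppfPrecoverage] :
    AlgSp.RepWith (S := S') P (((Over.map g).sheafPullback (Type (u + 1)) (AlgSp.J S) (AlgSp.J S')).map f) ↔ AlgSp.RepWith P f := by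
  rw [← Groth.Agent.AlgSpBase.repWith_jsh_iff g f]
  have e := (Groth.Agent.AlgSpBase.jshIso g).hom.naturality f
  exact ((AlgSp.RepWith (S := S') P).arrow_mk_iso_iff (Arrow.isoMk ((Groth.Agent.AlgSpBase.jshIso g).app _)
    ((Groth.Agent.AlgSpBase.jshIso g).app _) e.symm)).symm

end Groth.Agent.S9899
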