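import Groth.Statements.S9903
import Groth.Agent.AlgSpPts.Sep
import Groth.Agent.AlgSpLib.LocalBaseTop
-- import your own Groth.Agent.* helpers here

set_option autoImplicit false
universe u
open CategoryTheory CategoryTheory.Limits AlgebraicGeometry
open AlgSp

namespace Groth.Agent.S9903

set_option backward.isDefEq.respectTransparency false
set_option backward.isDefEq.respectTransparency.types false

open AlgSp Groth.Agent.AlgSpLib Groth.Agent.AlgSpPts

/-- (1) ⇔ (3): a morphism of algebraic spaces is separated (resp. quasi-separated) if and only if its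
base change to every affine scheme over the target is. -/
theorem result {S : Scheme.{u}} {X Y : AlgSp.Space S} (f : X ⟶ Y) :
    (AlgSp.IsSeparatedMor f.hom ↔
      ∀ (Z : Over S), IsAffine Z.left → ∀ (g : (AlgSp.yon S).obj Z ⟶ Y.obj) (P : AlgSp.Sp S)
        (fst : P ⟶ X.obj) (snd : P ⟶ (AlgSp.yon S).obj Z), IsPullback fst snd f.hom g →
        AlgSp.IsSeparatedMor snd) ∧
    (AlgSp.IsQuasiSeparatedMor f.hom ↔
      ∀ (Z : Over S), IsAffine Z.left → ∀ (g : (AlgSp.yon S).obj Z ⟶ Y.obj) (P : AlgSp.Sp S)
        (fst : P ⟶ X.obj) (snd : P ⟶ (AlgSp.yon S).obj Z), IsPullback fst snd f.hom g →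
        AlgSp.IsQuasiSeparatedMor snd) :=  by
  obtain ⟨ι, Z, g, hZ, hg⟩ := exists_affine_cover Y.property
  refine ⟨⟨fun h Z _ g P fst snd sq => isSeparatedMor_of_isPullback sq h, fun h => ?_⟩,
    ⟨fun h Z _ g P fst snd sq => isQuasiSeparatedMor_of_isPullback sq h, fun h => ?_⟩⟩
  · exact (isLocalOnBase_fpqc_isSeparatedMor _ g Y.property (fun _ => IsAlgSpace.yon_obj _) hg f.hom
      X.property _ _ _ (fun i => isAlgSpace_pullback X.property (IsAlgSpace.yon_obj (Z i)) Y.property f.hom (g i))
      fun i => IsPullback.of_hasPullback f.hom (g i)).2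
      fun i => h (Z i) (hZ i) (g i) _ _ _ (IsPullback.of_hasPullback f.hom (g i))
  · exact (isLocalOnBase_fpqc_isQuasiSeparatedMor _ g Y.property (fun _ => IsAlgSpace.yon_obj _) hg f.hom
      X.property _ _ _ (fun i => isAlgSpace_pullback X.property (IsAlgSpace.yon_obj (Z i)) Y.property f.hom (g i))
      fun i => IsPullback.of_hasPullback f.hom (g i)).2
      fun i => h (Z i) (hZ i) (g i) _ _ _ (IsPullback.of_hasPullback f.hom (g i))


end Groth.Agent.S9903
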