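import Groth.Statements.S9905
import Groth.Agent.AlgSpPts.Sep
-- import your own Groth.Agent.* helpers here

set_option autoImplicit false
universe u
open CategoryTheory CategoryTheory.Limits AlgebraicGeometry
open AlgSp

namespace Groth.Agent.S9905

set_option backward.isDefEq.respectTransparency false
set_option backward.isDefEq.respectTransparency.types false

open AlgSp Groth.Agent.AlgSpLib Groth.Agent.AlgSpPts

/-- For a morphism of algebraic spaces representable by schemes, separated in the diagonal sense agrees
with separated in the representable sense, and likewise for quasi-separated. -/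
theorem result {S : Scheme.{u}} {X Y : AlgSp.Space S} (f : X ⟶ Y)
    (hf : AlgSp.Representable f.hom) :
    (AlgSp.IsSeparatedMor f.hom ↔ AlgSp.RepWith @IsSeparated f.hom) ∧
    (AlgSp.IsQuasiSeparatedMor f.hom ↔ AlgSp.RepWith @QuasiSeparated f.hom) :=  by
  refine ⟨⟨fun h => ⟨hf, fun U V g fst snd sq => ?_⟩, fun h => repWith_diagonal h fun g (_ : IsSeparated g) =>
      (inferInstance : IsClosedImmersion (pullback.diagonal g))⟩,
    ⟨fun h => ⟨hf, fun U V g fst snd sq => ?_⟩, fun h => repWith_diagonal h fun g (_ : QuasiSeparated g) =>
      (inferInstance : QuasiCompact (pullback.diagonal g))⟩⟩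
  · exact (isSeparatedMor_yon_map_iff snd).1 (isSeparatedMor_of_isPullback sq h)
  · exact (isQuasiSeparatedMor_yon_map_iff snd).1 (isQuasiSeparatedMor_of_isPullback sq h)


end Groth.Agent.S9905
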