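import Groth.Statements.S9914
import Groth.Agent.AlgSpPts.Misc
-- import your own Groth.Agent.* helpers here

set_option autoImplicit false
universe u
open CategoryTheory CategoryTheory.Limits AlgebraicGeometry
open AlgSp

namespace Groth.Agent.S9914

set_option backward.isDefEq.respectTransparency false
set_option backward.isDefEq.respectTransparency.types false

open AlgSp Groth.Agent.AlgSpLib Groth.Agent.AlgSpPts

/-- The target of a surjective morphism of algebraic spaces with quasi-compact source is quasi-compact. -/
theorem result {S : Scheme.{u}} {X Y : AlgSp.Space S} (f : X ⟶ Y)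
    (hf : AlgSp.IsSurjectiveMor f.hom) (hX : AlgSp.IsQuasiCompactSp X.obj) : AlgSp.IsQuasiCompactSp Y.obj :=  by
  rw [isQuasiCompactSp_iff Y.property]
  have := (isQuasiCompactSp_iff X.property).1 hX
  exact ⟨hf.range_eq ▸ isCompact_range (Points.continuous_map f.hom)⟩


end Groth.Agent.S9914
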