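import Groth.Statements.S9915
import Groth.Agent.AlgSpPts.Misc
import Groth.Agent.AlgSpLib.EtLocalInst
-- import your own Groth.Agent.* helpers here

set_option autoImplicit false
universe u
open CategoryTheory CategoryTheory.Limits AlgebraicGeometry
open AlgSp

namespace Groth.Agent.S9915

set_option backward.isDefEq.respectTransparency false
set_option backward.isDefEq.respectTransparency.types false

open AlgSp Groth.Agent.AlgSpLib Groth.Agent.AlgSpPts

/-- In a commutative triangle of algebraic spaces with f : X -> Y surjective, if X -> Z is quasi-compact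
then Y -> Z is quasi-compact. -/
theorem result {S : Scheme.{u}} {X Y Z : AlgSp.Space S} (f : X ⟶ Y)
    (p : X ⟶ Z) (q : Y ⟶ Z) (comm : f ≫ q = p) (hf : AlgSp.IsSurjectiveMor f.hom)
    (hp : AlgSp.IsQuasiCompactMor p.hom) : AlgSp.IsQuasiCompactMor q.hom :=  by
  intro W W' hW hqc g fst snd sq
  have hW' : IsAlgSpace W' := isAlgSpace_of_isPullback sq Y.property hW Z.property
  rw [isQuasiCompactSp_iff hW']
  have sq₂ := IsPullback.of_hasPullback f.hom fst
  have hT : IsAlgSpace (pullback f.hom fst) :=
    isAlgSpace_of_isPullback sq₂ X.property hW' Y.property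
  have sq₃ := sq₂.paste_vert sq
  rw [show f.hom ≫ q.hom = p.hom by rw [← comm]; rfl] at sq₃
  have : CompactSpace (Points (pullback f.hom fst)) :=
    (isQuasiCompactSp_iff hT).1 (hp hW hqc g _ _ sq₃)
  exact ⟨(surjective_map_of_isPullback sq₂ hf).range_eq ▸ isCompact_range (Points.continuous_map _)⟩


end Groth.Agent.S9915
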