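import Groth.Statements.S9916
import Groth.Agent.AlgSpPts.UnivClosed
-- import your own Groth.Agent.* helpers here

set_option autoImplicit false
universe u
open CategoryTheory CategoryTheory.Limits AlgebraicGeometry
open AlgSp

namespace Groth.Agent.S9916

set_option backward.isDefEq.respectTransparency false
set_option backward.isDefEq.respectTransparency.types false

open AlgSp Groth.Agent.AlgSpLib Groth.Agent.AlgSpPts

/-- Quasi-compactness of a morphism of algebraic spaces descends along a universally open surjective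
base change. -/
theorem result {S : Scheme.{u}} {X Y Y' X' : AlgSp.Space S}
    (f : X ⟶ Y) (g : Y' ⟶ Y) (fst : X' ⟶ X) (f' : X' ⟶ Y') (sq : IsPullback fst.hom f'.hom f.hom g.hom)
    (hg : AlgSp.IsUnivOpenMor g.hom) (hgs : AlgSp.IsSurjectiveMor g.hom) (hf' : AlgSp.IsQuasiCompactMor f'.hom) :
    AlgSp.IsQuasiCompactMor f.hom :=  by
  intro Z Z' hZ hqc k fstZ sndZ sqZ
  have hZ' : IsAlgSpace Z' := isAlgSpace_of_isPullback sqZ X.property hZ Y.property
  let W := pullback g.hom k
  have hW : IsAlgSpace W := isAlgSpace_pullback Y'.property hZ Y.property g.hom k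
  have sqW := IsPullback.of_hasPullback g.hom k
  have hWo : IsOpenMap (Points.map (pullback.snd g.hom k)) := hg hZ k _ _ sqW
  have hWs := surjective_map_of_isPullback sqW hgs
  obtain ⟨V, a, ha, ha'⟩ := hW.atlas
  let 𝒰 := V.left.affineCover
  let O (i : 𝒰.I₀) : Set (Points Z) :=
    Points.map (pullback.snd g.hom k) '' (Points.ofPt a '' Set.range (𝒰.f i))
  have hO : ∀ i, IsOpen (O i) := fun i => hWo _ (isOpenMap_ofPt ha _ (𝒰.f i).opensRange.isOpen)
  have hcov : Set.univ ⊆ ⋃ i, O i := fun z _ => by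
    obtain ⟨w, rfl⟩ := hWs z
    obtain ⟨v, rfl⟩ := surjective_ofPt ha' w
    exact Set.mem_iUnion.2 ⟨𝒰.idx v, _, ⟨v, 𝒰.covers v, rfl⟩, rfl⟩
  have hcpt := (isQuasiCompactSp_iff hZ).1 hqc
  obtain ⟨s, hs⟩ := hcpt.isCompact_univ.elim_finite_subcover O hO hcov
  have key : ∀ i, IsCompact (Points.map sndZ ⁻¹' O i) := by
    intro i
    let V' : Over S := Over.mk (𝒰.f i ≫ V.hom)
    let ι : V' ⟶ V := Over.homMk (𝒰.f i) rfl
    let l : (AlgSp.yon S).obj V' ⟶ W := (AlgSp.yon S).map ι ≫ a
    have : CompactSpace ↥V'.left := inferInstanceAs (CompactSpace ↥(𝒰.X i))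
    let P := pullback f'.hom (l ≫ pullback.fst g.hom k)
    have hP : IsAlgSpace P := isAlgSpace_pullback X'.property (IsAlgSpace.yon_obj V') Y'.property _ _
    have := (AlgSpPts.isQuasiCompactSp_iff hP).1 (hf' (IsAlgSpace.yon_obj V') ((AlgSpPts.isQuasiCompactSp_yon_iff V').2 inferInstance)
      (l ≫ pullback.fst g.hom k) _ _ (IsPullback.of_hasPullback _ _))
    have sqP := (IsPullback.of_hasPullback f'.hom (l ≫ pullback.fst g.hom k)).paste_horiz sq
    let r : P ⟶ Z' := sqZ.lift (pullback.fst f'.hom (l ≫ pullback.fst g.hom k) ≫ fst.hom)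
      (pullback.snd f'.hom (l ≫ pullback.fst g.hom k) ≫ l ≫ pullback.snd g.hom k)
      (by rw [sqP.w]; simp [pullback.condition])
    have sqr : IsPullback r (pullback.snd f'.hom (l ≫ pullback.fst g.hom k)) sndZ (l ≫ pullback.snd g.hom k) := by
      refine IsPullback.of_right ?_ (sqZ.lift_snd _ _ _) sqZ
      rw [sqZ.lift_fst, show (l ≫ pullback.snd g.hom k) ≫ k = (l ≫ pullback.fst g.hom k) ≫ g.hom by simp [pullback.condition]]
      exact sqP
    have hlem : ∀ u, Points.map (l ≫ pullback.snd g.hom k) (Points.ofScheme V' u) =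
        Points.map (pullback.snd g.hom k) (Points.ofPt a (𝒰.f i u)) := fun u =>
      ((Points.map_comp l (pullback.snd g.hom k) _).trans
        (congrArg (Points.map (pullback.snd g.hom k)) (((Points.map_ofPt (𝟙 ((AlgSp.yon S).obj V')) l u).trans
          (congrArg (fun q => Points.ofPt q u) (Category.id_comp l))).trans (ofPt_comp ι a u))))
    convert isCompact_range (Points.continuous_map r)
    ext z'
    constructor
    · rintro ⟨_, ⟨_, ⟨u, rfl⟩, rfl⟩, hz⟩
      obtain ⟨c, hc, -⟩ := exists_point_of_isPullback sqr (x := z') (y := Points.ofScheme V' u)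
        (hz.symm.trans (hlem u).symm)
      exact ⟨c, hc⟩
    · rintro ⟨c, rfl⟩
      rw [Set.mem_preimage, ← Points.map_comp, sqr.w, Points.map_comp]
      obtain ⟨u, hu⟩ := (Points.schemeHomeo V').surjective (Points.map (pullback.snd f'.hom (l ≫ pullback.fst g.hom k)) c)
      rw [← hu]
      exact ⟨_, ⟨𝒰.f i u, ⟨u, rfl⟩, rfl⟩, (hlem u).symm⟩
  refine (AlgSpPts.isQuasiCompactSp_iff hZ').2 ⟨?_⟩
  have e : Set.univ = ⋃ i ∈ s, Points.map sndZ ⁻¹' O i := by
    refine (Set.eq_univ_of_forall fun z' => ?_).symm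
    obtain ⟨i, hi, hz⟩ := Set.mem_iUnion₂.1 (hs (Set.mem_univ (Points.map sndZ z')))
    exact Set.mem_iUnion₂.2 ⟨i, hi, hz⟩
  rw [e]
  exact s.isCompact_biUnion fun i _ => key i


end Groth.Agent.S9916
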