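import Groth.Statements.S9918
import Groth.Agent.AlgSpPts.Descent
import Groth.Agent.AlgSpLib.Descent2
-- import your own Groth.Agent.* helpers here

set_option autoImplicit false
universe u
open CategoryTheory CategoryTheory.Limits AlgebraicGeometry
open AlgSp

namespace Groth.Agent.S9918

set_option backward.isDefEq.respectTransparency false
set_option backward.isDefEq.respectTransparency.types false

open AlgSp Groth.Agent.AlgSpLib Groth.Agent.AlgSpPts

/-- (5) ⇒ (1): quasi-compactness of a morphism of algebraic spaces descends along a surjective etale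
base change of algebraic spaces. -/
theorem result {S : Scheme.{u}} {X Y Y' X' : AlgSp.Space S}
    (f : X ⟶ Y) (g : Y' ⟶ Y) (fst : X' ⟶ X) (f' : X' ⟶ Y') (sq : IsPullback fst.hom f'.hom f.hom g.hom)
    (hg : AlgSp.IsEtaleMor g.hom) (hgs : AlgSp.IsSurjectiveMor g.hom) (hf' : AlgSp.IsQuasiCompactMor f'.hom) :
    AlgSp.IsQuasiCompactMor f.hom :=  (isLocalOnBase_fpqc_isQuasiCompactMor _ _ Y.property (fun _ => Y'.property)
    (isFpqcCover_of_isEtaleMor Y'.property Y.property hg hgs) f.hom X.property _ (fun _ => f'.hom) (fun _ => fst.hom)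
    (fun _ => X'.property) fun _ => sq).2 fun _ => hf'


end Groth.Agent.S9918
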