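import Groth.Statements.S9919
import Groth.Agent.AlgSpPts.Sep
-- import your own Groth.Agent.* helpers here

set_option autoImplicit false
universe u
open CategoryTheory CategoryTheory.Limits AlgebraicGeometry
open AlgSp

namespace Groth.Agent.S9919

set_option backward.isDefEq.respectTransparency false
set_option backward.isDefEq.respectTransparency.types false

open AlgSp Groth.Agent.AlgSpLib Groth.Agent.AlgSpPts

/-- For morphisms f : X -> Y and g : Y -> Z of algebraic spaces, quasi-compactness of the composite
together with quasi-separatedness of g forces f to be quasi-compact. -/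
theorem result {S : Scheme.{u}} {X Y Z : AlgSp.Space S} (f : X ⟶ Y)
    (g : Y ⟶ Z) (hgf : AlgSp.IsQuasiCompactMor (f ≫ g).hom) (hg : AlgSp.IsQuasiSeparatedMor g.hom) :
    AlgSp.IsQuasiCompactMor f.hom :=  by
  have hΓ : (pullback.lift (𝟙 _) f.hom (by simp) : X.obj ⟶ pullback (f.hom ≫ g.hom) g.hom) ≫
      pullback.snd (f.hom ≫ g.hom) g.hom = f.hom := pullback.lift_snd _ _ _
  have hP := isAlgSpace_pullback X.property Y.property Z.property (f.hom ≫ g.hom) g.hom
  rw [← hΓ]
  exact isQuasiCompactMor_comp hP Y.property (isQuasiCompactMor_of_repWith (graph_property hg))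
    (isQuasiCompactMor_of_isPullback (IsPullback.of_hasPullback _ _) hgf)


end Groth.Agent.S9919
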