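import Groth.Statements.S9921
import Groth.Agent.AlgSpPts.OpenSub
-- import your own Groth.Agent.* helpers here

set_option autoImplicit false
universe u
open CategoryTheory CategoryTheory.Limits AlgebraicGeometry
open AlgSp

namespace Groth.Agent.S9921

set_option backward.isDefEq.respectTransparency false
set_option backward.isDefEq.respectTransparency.types false

open AlgSp Groth.Agent.AlgSpLib Groth.Agent.AlgSpPts

/-- Over a base scheme with quasi-separated underlying space, a fibre product of algebraic spaces that
are quasi-compact and quasi-separated over S is again quasi-compact and quasi-separated over S. (The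
published statement takes quasi-separatedness in the absolute sense; this row takes it over S and
assumes S quasi-separated.) -/
theorem result {S : Scheme.{u}} [QuasiSeparatedSpace ↥S] {X Y Z P : AlgSp.Space S}
    (f : X ⟶ Y) (g : Z ⟶ Y) (fst : P ⟶ X) (snd : P ⟶ Z) (sq : IsPullback fst.hom snd.hom f.hom g.hom)
    (hX : AlgSp.IsQuasiCompactSp X.obj ∧ AlgSp.IsQuasiSeparatedSp X.obj)
    (hY : AlgSp.IsQuasiCompactSp Y.obj ∧ AlgSp.IsQuasiSeparatedSp Y.obj)
    (hZ : AlgSp.IsQuasiCompactSp Z.obj ∧ AlgSp.IsQuasiSeparatedSp Z.obj) :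
    AlgSp.IsQuasiCompactSp P.obj ∧ AlgSp.IsQuasiSeparatedSp P.obj :=  by
  have hfst : IsQuasiCompactMor fst.hom :=
    isQuasiCompactMor_of_isPullback sq.flip (isQuasiCompactMor_of_qc_qs Z.property Y.property hZ.1 hY.2 g.hom)
  refine ⟨hfst X.property hX.1 (𝟙 _) (𝟙 _) fst.hom (IsPullback.of_horiz_isIso ⟨by simp⟩), ?_⟩
  have hg : IsQuasiSeparatedMor g.hom := by
    have h1 : IsQuasiSeparatedMor (g.hom ≫ (isTerminalYon S).from Y.obj) := by
      rw [(isTerminalYon S).hom_ext (g.hom ≫ (isTerminalYon S).from Y.obj) ((isTerminalYon S).from Z.obj)]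
      exact (isQuasiSeparatedSp_iff_mor Z.obj).1 hZ.2
    change RepWith @QuasiCompact (pullback.diagonal g.hom)
    obtain ⟨hr, -, -, hsep, -⟩ := diagonal_package Z.property Y.property g.hom
    let t := (isTerminalYon S).from Y.obj
    let m : pullback g.hom g.hom ⟶ pullback (g.hom ≫ t) (g.hom ≫ t) := pullback.mapDesc _ _ t
    have e : pullback.diagonal g.hom ≫ m = pullback.diagonal (g.hom ≫ t) := by
      apply pullback.hom_ext <;> simp [m]
    have hm : RepWith @IsSeparated m :=
      repWith_of_isPullback (pullback_map_diagonal_isPullback g.hom g.hom t)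
        (diagonal_package Y.property (IsAlgSpace.yon_obj _) t).2.2.2.1
    refine of_comp_of_diagonal (RepWith @QuasiCompact) (pullback.diagonal g.hom) m (by rw [e]; exact h1) ?_
    exact repWith_diagonal hm fun k (_ : IsSeparated k) => (inferInstance : QuasiCompact (pullback.diagonal k))
  rw [isQuasiSeparatedSp_iff_mor,
    (isTerminalYon S).hom_ext ((isTerminalYon S).from P.obj) (fst.hom ≫ (isTerminalYon S).from X.obj)]
  exact isQuasiSeparatedMor_comp (isQuasiSeparatedMor_of_isPullback sq.flip hg)
    ((isQuasiSeparatedSp_iff_mor X.obj).1 hX.2)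


end Groth.Agent.S9921
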