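import Groth.Statements.S9928
import Groth.Agent.AlgSpPts.Misc
-- import your own Groth.Agent.* helpers here

set_option autoImplicit false
universe u
open CategoryTheory CategoryTheory.Limits AlgebraicGeometry
open AlgSp

namespace Groth.Agent.S9928

set_option backward.isDefEq.respectTransparency false
set_option backward.isDefEq.respectTransparency.types false

open AlgSp Groth.Agent.AlgSpLib Groth.Agent.AlgSpPts

/-- A morphism of algebraic spaces that is representable by immersions is a monomorphism of fppf
sheaves. -/
theorem result {S : Scheme.{u}} {X Y : AlgSp.Space S} (f : X ⟶ Y)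
    (hf : AlgSp.RepWith @IsImmersion f.hom) : Mono f.hom :=  by
  refine ⟨fun {Z} a b h => ?_⟩
  have e : a = b := by
    apply ObjectProperty.hom_ext
    ext T z
    have key : ∀ {T : Over S} (x y : (yon S).obj T ⟶ X.obj), x ≫ f.hom = y ≫ f.hom → x = y := by
      intro T x y hxy
      have : IsImmersion (hf.rep.snd (x ≫ f.hom)).left := hf.property_snd (x ≫ f.hom)
      have : Mono (hf.rep.snd (x ≫ f.hom)) :=
        (Over.forget S).mono_of_mono_map (inferInstanceAs (Mono (hf.rep.snd (x ≫ f.hom)).left))
      have e : hf.rep.lift (g := x ≫ f.hom) x (𝟙 T) (by simp) =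
          hf.rep.lift (g := x ≫ f.hom) y (𝟙 T) (by simp [hxy]) := by
        rw [← cancel_mono (hf.rep.snd (x ≫ f.hom))]
        rw [Functor.relativelyRepresentable.lift_snd, Functor.relativelyRepresentable.lift_snd]
      have e' := congrArg (fun l => (yon S).map l ≫ hf.rep.fst (x ≫ f.hom)) e
      simpa only [Functor.relativelyRepresentable.lift_fst] using e'
    obtain ⟨g, rfl⟩ : ∃ g : (yon S).obj T.unop ⟶ Z, (J S).uliftYonedaEquiv g = z :=
      ⟨_, Equiv.apply_symm_apply _ z⟩
    have h' : (g ≫ a) ≫ f.hom = (g ≫ b) ≫ f.hom := by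
      have := congrArg (fun k : Z ⟶ Y.obj => g ≫ k) h
      simpa using this
    have := congrArg (J S).uliftYonedaEquiv (key _ _ h')
    rw [GrothendieckTopology.uliftYonedaEquiv_comp, GrothendieckTopology.uliftYonedaEquiv_comp] at this
    exact this
  exact e


end Groth.Agent.S9928
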