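import Groth.Statements.S9929
import Groth.Agent.AlgSpPts.Field
import Groth.Agent.AlgSpLib.EtLocalInst
import Groth.Agent.AlgSpLib.FpqcDescent
-- import your own Groth.Agent.* helpers here

set_option autoImplicit false
universe u
open CategoryTheory CategoryTheory.Limits AlgebraicGeometry
open AlgSp

namespace Groth.Agent.S9929

set_option backward.isDefEq.respectTransparency false
set_option backward.isDefEq.respectTransparency.types false

open AlgSp Groth.Agent.AlgSpLib Groth.Agent.AlgSpPts

/-- A monomorphism from an algebraic space to the spectrum of a field is either the empty space or an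
isomorphism. -/
theorem result {S : Scheme.{u}} {k : Type u} [Field k] (str : Spec (CommRingCat.of k) ⟶ S)
    (Z : AlgSp.Space S) (f : Z ⟶ (AlgSp.ofScheme S).obj (Over.mk str)) [Mono f.hom] :
    IsEmpty (AlgSp.Points Z.obj) ∨ IsIso f :=  by
  rcases isEmpty_or_nonempty (AlgSp.Points Z.obj) with h | h
  · exact Or.inl h
  obtain ⟨z⟩ := h
  obtain ⟨p, -⟩ := Points.mk_surjective z
  refine Or.inr ?_
  obtain ⟨c, hc⟩ := (AlgSp.yon S).map_surjective (p.toHom ≫ f.hom)
  have hflat : Flat c.left := by
    let c' : Spec (CommRingCat.of p.K) ⟶ Spec (CommRingCat.of k) := c.left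
    change Flat c'
    obtain ⟨φ, hφ⟩ := Spec.map_surjective c'
    rw [← hφ, HasRingHomProperty.Spec_iff (P := @Flat)]
    algebraize [φ.hom]
    exact inferInstanceAs (Module.Flat k p.K)
  have hsurj : Surjective c.left := ⟨fun x => ⟨IsLocalRing.closedPoint p.K,
    @Subsingleton.elim _ (inferInstanceAs (Subsingleton ↥(Spec (CommRingCat.of k)))) _ _⟩⟩
  have hcov : IsFpqcCover (fun _ : PUnit.{u + 1} => (AlgSp.yon S).obj p.pt) (fun _ => (AlgSp.yon S).map c) := by
    refine ⟨fun _ => locP_of_repWith ((repWith_yon_map_iff _ _).2 hflat), fun W hW g => ?_⟩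
    obtain ⟨g, rfl⟩ := (AlgSp.yon S).map_surjective g
    have sq := IsPullback.of_hasPullback g c
    have sq' : IsPullback (pullback.fst g c).left (pullback.snd g c).left g.left c.left := sq.map (Over.forget S)
    have : IsAffine W.left := hW
    have hca : IsAffineHom c.left := by
      let c' : Spec (CommRingCat.of p.K) ⟶ Spec (CommRingCat.of k) := c.left
      exact (inferInstance : IsAffineHom c')
    have : IsAffineHom (pullback.fst g c).left := MorphismProperty.of_isPullback sq'.flip hca
    refine ⟨1, fun _ => pullback g c, fun _ => pullback.fst g c, fun _ => isAffine_of_isAffineHom (pullback.fst g c).left,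
      fun _ => MorphismProperty.of_isPullback sq'.flip hflat, fun w => ?_, fun _ => ⟨PUnit.unit, (AlgSp.yon S).map (pullback.snd g c), ?_⟩⟩
    · have : Surjective (pullback.fst g c).left := MorphismProperty.of_isPullback sq'.flip hsurj
      exact ⟨0, (pullback.fst g c).left.surjective w⟩
    · rw [← Functor.map_comp, ← Functor.map_comp, pullback.condition]
  have hmono : Mono (pullback.snd f.hom ((AlgSp.yon S).map c)) := inferInstance
  have hsec : pullback.lift p.toHom (𝟙 _) (by rw [Category.id_comp, hc]) ≫
      pullback.snd f.hom ((AlgSp.yon S).map c) = 𝟙 _ := pullback.lift_snd _ _ _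
  have : IsSplitEpi (pullback.snd f.hom ((AlgSp.yon S).map c)) := ⟨⟨⟨_, hsec⟩⟩⟩
  have hiso : IsIso (pullback.snd f.hom ((AlgSp.yon S).map c)) := isIso_of_mono_of_isSplitEpi _
  have := isIso_of_fpqc (ι := PUnit.{u + 1}) Z.property (IsAlgSpace.yon_obj _) (fun _ => IsAlgSpace.yon_obj _)
    (fun _ => isAlgSpace_pullback Z.property (IsAlgSpace.yon_obj _) (IsAlgSpace.yon_obj _) f.hom ((AlgSp.yon S).map c))
    hcov (fun _ => IsPullback.of_hasPullback f.hom ((AlgSp.yon S).map c)) (fun _ => hiso)
  have : IsIso ((ObjectProperty.ι _).map f) := this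
  exact isIso_of_reflects_iso f (ObjectProperty.ι _)


end Groth.Agent.S9929
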