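import Groth.Statements.S9930
import Groth.Agent.AlgSpPts.Misc
-- import your own Groth.Agent.* helpers here

set_option autoImplicit false
universe u
open CategoryTheory CategoryTheory.Limits AlgebraicGeometry
open AlgSp

namespace Groth.Agent.S9930

set_option backward.isDefEq.respectTransparency false
set_option backward.isDefEq.respectTransparency.types false

open AlgSp Topology Groth.Agent.AlgSpLib Groth.Agent.AlgSpPts

/-- For a morphism of algebraic spaces representable by schemes, representable universal submersiveness
is equivalent to |Z x_Y X| -> |Z| being a quotient map after every base change along a morphism of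
algebraic spaces. -/
theorem result {S : Scheme.{u}} {X Y : AlgSp.Space S} (f : X ⟶ Y)
    (hf : AlgSp.Representable f.hom) :
    AlgSp.RepWith SGA1.UnivSubmersive f.hom ↔ AlgSp.IsUnivSubmersiveMor f.hom :=  by
  refine ⟨univSp_of_repWith fun _ _ _ h => isQuotientMap_map h, fun h => ?_⟩
  refine repWith_universally_of_univSp (P := topologically fun φ => IsQuotientMap φ) (fun V U g hg => ?_) hf h
  show IsQuotientMap g.left
  rw [left_eq_conj g]
  exact (Points.schemeHomeo U).symm.isQuotientMap.comp (hg.comp (Points.schemeHomeo V).isQuotientMap)


end Groth.Agent.S9930
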