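import Groth.Statements.S9933
import Groth.Agent.AlgSpPts.Sep
-- import your own Groth.Agent.* helpers here

set_option autoImplicit false
universe u
open CategoryTheory CategoryTheory.Limits AlgebraicGeometry
open AlgSp

namespace Groth.Agent.S9933

set_option backward.isDefEq.respectTransparency false
set_option backward.isDefEq.respectTransparency.types false

open AlgSp Groth.Agent.AlgSpLib Groth.Agent.AlgSpPts

/-- Permanence for Z -> Y -> X: the five representable finiteness/separation properties of Z -> X pass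
to Z -> Y, and a closed immersion Z -> X with Y -> X separated gives a closed immersion Z -> Y. -/
theorem result {S : Scheme.{u}} {Z Y X : AlgSp.Space S} (a : Z ⟶ Y) (b : Y ⟶ X) :
    ((AlgSp.Representable (a ≫ b).hom ∧ AlgSp.RepWith @LocallyOfFiniteType (a ≫ b).hom ∧
        AlgSp.RepWith (@LocallyQuasiFinite ⊓ @LocallyOfFiniteType) (a ≫ b).hom ∧
        AlgSp.RepWith @IsSeparated (a ≫ b).hom ∧
        AlgSp.RepWith (MorphismProperty.monomorphisms Scheme.{u}) (a ≫ b).hom) →
      (AlgSp.Representable a.hom ∧ AlgSp.RepWith @LocallyOfFiniteType a.hom ∧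
        AlgSp.RepWith (@LocallyQuasiFinite ⊓ @LocallyOfFiniteType) a.hom ∧
        AlgSp.RepWith @IsSeparated a.hom ∧
        AlgSp.RepWith (MorphismProperty.monomorphisms Scheme.{u}) a.hom)) ∧
    (AlgSp.RepWith @IsClosedImmersion (a ≫ b).hom → AlgSp.IsSeparatedMor b.hom →
      AlgSp.RepWith @IsClosedImmersion a.hom) :=  by
  obtain ⟨hr, d1, d2, d3, d4⟩ := diagonal_package Y.property X.property b.hom
  refine ⟨fun ⟨k0, k1, k2, k3, k4⟩ => ?_, fun hab hsep => ?_⟩
  · exact ⟨AlgSpLib.representable_of_comp Y.property a.hom b.hom k0,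
      of_comp_of_diagonal (RepWith @LocallyOfFiniteType) a.hom b.hom k1 d1,
      of_comp_of_diagonal (RepWith (@LocallyQuasiFinite ⊓ @LocallyOfFiniteType)) a.hom b.hom k2 d2,
      of_comp_of_diagonal (RepWith @IsSeparated) a.hom b.hom k3 d3,
      of_comp_of_diagonal (RepWith (MorphismProperty.monomorphisms Scheme)) a.hom b.hom k4 d4⟩
  · exact of_comp_of_diagonal (RepWith @IsClosedImmersion) a.hom b.hom hab hsep


end Groth.Agent.S9933
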