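import Groth.Statements.S9934
import Groth.Agent.AlgSpPts.Imm
import Groth.Agent.AlgSpLib.EtLocalInst
-- import your own Groth.Agent.* helpers here

set_option autoImplicit false
universe u
open CategoryTheory CategoryTheory.Limits AlgebraicGeometry
open AlgSp

namespace Groth.Agent.S9934

set_option backward.isDefEq.respectTransparency false
set_option backward.isDefEq.respectTransparency.types false

open AlgSp Groth.Agent.AlgSpLib Groth.Agent.AlgSpPts

/-- An immersion of algebraic spaces is a closed immersion exactly when its image on points is closed. -/
theorem result {S : Scheme.{u}} {Z X : AlgSp.Space S} (i : Z ⟶ X)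
    (hi : AlgSp.RepWith @IsImmersion i.hom) :
    AlgSp.RepWith @IsClosedImmersion i.hom ↔ IsClosed (Set.range (AlgSp.Points.map i.hom)) :=  repWith_isClosedImmersion_iff hi


end Groth.Agent.S9934
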