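import Groth.Statements.S9935
import Groth.Agent.AlgSpDec.SchImage
import Groth.Agent.AlgSpDec.SchImageChart
import Groth.Agent.AlgSpDec.ImmCover
import Groth.Agent.AlgSpPts.SepDescent

set_option autoImplicit false
universe u
open CategoryTheory CategoryTheory.Limits AlgebraicGeometry
open AlgSp

namespace Groth.Agent.S9935

/-- A quasi-compact immersion of algebraic spaces factors as an open immersion followed by a closed
immersion. -/
theorem result {S : Scheme.{u}} {Z X : AlgSp.Space S}
    (i : Z ⟶ X) (hi : AlgSp.RepWith @IsImmersion i.hom) (hq : AlgSp.IsQuasiCompactMor i.hom) :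
    ∃ (Zbar : AlgSp.Space S) (j : Z ⟶ Zbar) (c : Zbar ⟶ X), j ≫ c = i ∧
      AlgSp.RepWith @IsOpenImmersion j.hom ∧ AlgSp.RepWith @IsClosedImmersion c.hom := by
  have hX := X.property
  have hZ := Z.property
  obtain ⟨Zbar, c, hc⟩ := Groth.Agent.AlgSpDec.exists_schImage hZ hX i.hom
  obtain ⟨hcc, ⟨j, hj⟩, hmin⟩ := hc
  refine ⟨Zbar, ObjectProperty.homMk j, ObjectProperty.homMk c, ?_, ?_, hcc⟩
  · ext : 1
    exact hj
  show AlgSp.RepWith @IsOpenImmersion j
  obtain ⟨U, b, hb, hbs⟩ : ∃ (U : Over S) (b : (AlgSp.yon S).obj U ⟶ X.obj),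
      AlgSp.RepWith @Etale b ∧ AlgSp.RepWith @Surjective b := hX.2
  let k := hi.rep.snd b
  haveI : QuasiCompact k.left :=
    (Groth.Agent.AlgSpPts.repWith_quasiCompact hi.rep hq).property_snd b
  haveI : IsImmersion k.left := hi.property_snd b
  let e := (hi.rep.isPullback b).isoPullback
  have hc1 : AlgSp.RepWith @Etale e.hom := Groth.Agent.AlgSpLib.repWith_of_isIso _ e.hom
  have hc2 : AlgSp.RepWith @Surjective e.hom := Groth.Agent.AlgSpLib.repWith_of_isIso _ e.hom
  have hker := Groth.Agent.AlgSpDec.schImage_chart hZ hX hb hbs hc1 hc2 (k := k)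
    (IsPullback.isoPullback_hom_snd _) (i := c) ⟨hcc, ⟨j, hj⟩, hmin⟩
  let cU := hcc.rep.snd b
  haveI : IsClosedImmersion cU.left := hcc.property_snd b
  let l := (hcc.rep.isPullback b).lift (hi.rep.fst b ≫ j) ((AlgSp.yon S).map k)
    (by rw [Category.assoc, hj]; exact hi.rep.w b)
  let l' := (AlgSp.yon S).preimage l
  have hl' : l' ≫ cU = k := (AlgSp.yon S).map_injective (by
    rw [Functor.map_comp, Functor.map_preimage]; exact IsPullback.lift_snd _ _ _ _)
  have hlo : IsOpenImmersion l'.left := by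
    let m := IsClosedImmersion.lift cU.left k.left.imageι (by rw [Scheme.IdealSheafData.ker_subschemeι]; exact hker.le)
    haveI : IsIso m := IsClosedImmersion.isIso_of_ker_eq _ _ m (IsClosedImmersion.lift_fac _ _ _)
      (by rw [Scheme.IdealSheafData.ker_subschemeι]; exact hker.symm)
    have e1 : k.left.toImage ≫ m = l'.left := by
      rw [← cancel_mono cU.left, Category.assoc, IsClosedImmersion.lift_fac, Scheme.Hom.toImage_imageι, ← hl', Over.comp_left]
    rw [← e1]
    infer_instance
  have hcomp : j ≫ c = i.hom := hj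
  have sq : IsPullback (hi.rep.fst b) l j (hcc.rep.fst b) := by
    refine IsPullback.of_bot ?_ (IsPullback.lift_fst _ _ _ _).symm (hcc.rep.isPullback b)
    rw [IsPullback.lift_snd, hcomp]
    exact hi.rep.isPullback b
  have hq1 : AlgSp.RepWith @Etale (hcc.rep.fst b) := Groth.Agent.AlgSpLib.repWith_of_isPullback (hcc.rep.isPullback b).flip hb
  have hq2 : AlgSp.RepWith @Surjective (hcc.rep.fst b) := Groth.Agent.AlgSpLib.repWith_of_isPullback (hcc.rep.isPullback b).flip hbs
  refine Groth.Agent.AlgSpDec.repWith_isOpenImmersion_of_etale_cover hq1 hq2 sq ?_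
  have : l = (AlgSp.yon S).map l' := ((AlgSp.yon S).map_preimage l).symm
  rw [this]
  exact (AlgSp.repWith_yon_map_iff _ _).2 hlo

end Groth.Agent.S9935
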