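import Groth.Statements.S9939
import Groth.Agent.AlgSpPts.Descent
-- import your own Groth.Agent.* helpers here

set_option autoImplicit false
universe u
open CategoryTheory CategoryTheory.Limits AlgebraicGeometry
open AlgSp

namespace Groth.Agent.S9939

set_option backward.isDefEq.respectTransparency false
set_option backward.isDefEq.respectTransparency.types false

open AlgSp Groth.Agent.AlgSpLib Groth.Agent.AlgSpPts

/-- For a morphism of algebraic spaces representable by schemes, representable universal injectivity is
equivalent to injectivity on K-valued points for every field K. -/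
theorem result {S : Scheme.{u}} {X Y : AlgSp.Space S} (f : X ⟶ Y)
    (hf : AlgSp.Representable f.hom) :
    AlgSp.RepWith @UniversallyInjective f.hom ↔
      ∀ (K : Type u) [Field K] (str : Spec (CommRingCat.of K) ⟶ S),
        Function.Injective (fun a : (AlgSp.yon S).obj (Over.mk str) ⟶ X.obj => a ≫ f.hom) :=  by
  refine ⟨fun h K _ str a b hab => ?_, fun h => ⟨hf, fun U V g fst snd sq => ?_⟩⟩
  · have : UniversallyInjective (h.rep.snd (a ≫ f.hom)).left := h.property_snd _
    let la := h.rep.lift (g := a ≫ f.hom) a (𝟙 _) (by simp)
    let lb := h.rep.lift (g := a ≫ f.hom) b (𝟙 _) (by simpa using hab.symm)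
    have e : la.left = lb.left := by
      have hi := (tfae_universallyInjective (h.rep.snd (a ≫ f.hom)).left).out 0 1 rfl rfl
      refine hi.1 this K ?_
      change la.left ≫ _ = lb.left ≫ _
      rw [← Over.comp_left, ← Over.comp_left, Functor.relativelyRepresentable.lift_snd,
        Functor.relativelyRepresentable.lift_snd]
    have e' : la = lb := Over.OverMorphism.ext e
    have := congrArg (fun l => (yon S).map l ≫ h.rep.fst (a ≫ f.hom)) e'
    simpa [la, lb] using this
  · have hi := (tfae_universallyInjective snd.left).out 0 1 rfl rfl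
    refine hi.2 fun K _ g₁ g₂ hg => ?_
    let str := g₁ ≫ V.hom
    have hstr : g₂ ≫ V.hom = str := by
      change g₂ ≫ V.hom = g₁ ≫ V.hom
      rw [← Over.w snd]
      exact (congrArg (fun k => k ≫ U.hom) hg).symm |> fun e => by simpa using e
    let l₁ : Over.mk str ⟶ V := Over.homMk g₁ rfl
    let l₂ : Over.mk str ⟶ V := Over.homMk g₂ hstr
    have e : l₁ ≫ snd = l₂ ≫ snd := Over.OverMorphism.ext hg
    have e1 : (yon S).map l₁ ≫ fst = (yon S).map l₂ ≫ fst := by
      apply h K str
      change ((yon S).map l₁ ≫ fst) ≫ f.hom = ((yon S).map l₂ ≫ fst) ≫ f.hom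
      rw [Category.assoc, Category.assoc, sq.w, ← Category.assoc, ← Category.assoc, ← Functor.map_comp,
        ← Functor.map_comp, e]
    have e2 : (yon S).map l₁ = (yon S).map l₂ :=
      sq.hom_ext e1 (by rw [← Functor.map_comp, ← Functor.map_comp, e])
    exact congrArg (fun l : Over.mk str ⟶ V => l.left) ((yon S).map_injective e2)


end Groth.Agent.S9939
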