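import Groth.Statements.S9942
import Groth.Agent.AlgSpDec.AffineCheck
-- import your own Groth.Agent.* helpers here

set_option autoImplicit false
universe u
open CategoryTheory CategoryTheory.Limits AlgebraicGeometry
open AlgSp

namespace Groth.Agent.S9942

/-- (3) ⇒ (2): if X x_Y V is an affine scheme for every affine scheme V etale over Y, then f : X -> Y is
affine. -/
theorem result {S : Scheme.{u}} {X Y : AlgSp.Space S} (f : X ⟶ Y)
    (h : ∀ (V : Over S), IsAffine V.left → ∀ (b : (AlgSp.yon S).obj V ⟶ Y.obj), AlgSp.RepWith @Etale b →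
      ∀ (P : AlgSp.Sp S) (fst : P ⟶ X.obj) (snd : P ⟶ (AlgSp.yon S).obj V), IsPullback fst snd f.hom b →
      ∃ (W : Over S), IsAffine W.left ∧ Nonempty ((AlgSp.yon S).obj W ≅ P)) :
    AlgSp.IsAffineMor f.hom := AlgSpDec.isAffineMor_of_affine_etale Y.property h

end Groth.Agent.S9942
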