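import Groth.Statements.S9946
import Groth.Agent.AlgSpDec.QuasiAffineMor
-- import your own Groth.Agent.* helpers here

set_option autoImplicit false
universe u
open CategoryTheory CategoryTheory.Limits AlgebraicGeometry
open AlgSp

namespace Groth.Agent.S9946

/-- (3) ⇒ (1): if the base change of f along a surjective etale map from a scheme is quasi-affine, then
f is representable by schemes and quasi-affine. -/
theorem result {S : Scheme.{u}} {X Y : AlgSp.Space S} (f : X ⟶ Y)
    (V : Over S) (p : (AlgSp.yon S).obj V ⟶ Y.obj) (hp : AlgSp.RepWith @Etale p) (hps : AlgSp.RepWith @Surjective p)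
    {P : AlgSp.Sp S} (fst : P ⟶ X.obj) (snd : P ⟶ (AlgSp.yon S).obj V) (sq : IsPullback fst snd f.hom p)
    (h : AlgSp.IsQuasiAffineMor snd) : AlgSp.Representable f.hom ∧ AlgSp.IsQuasiAffineMor f.hom := by
  have hf := Groth.Agent.AlgSpDec.isQuasiAffineMor_of_etale_cover hp hps sq h
  exact ⟨Groth.Agent.AlgSpDec.representable_of_isQuasiAffineMor hf, hf⟩

end Groth.Agent.S9946
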