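import Groth.Statements.S9950
import Groth.Agent.AlgSpPts.Misc
import Groth.Agent.AlgSpLib.EtLocalInst
-- import your own Groth.Agent.* helpers here

set_option autoImplicit false
universe u
open CategoryTheory CategoryTheory.Limits AlgebraicGeometry
open AlgSp

namespace Groth.Agent.S9950

set_option backward.isDefEq.respectTransparency false
set_option backward.isDefEq.respectTransparency.types false

open AlgSp Groth.Agent.AlgSpLib Groth.Agent.AlgSpPts

/-- (6) ⇒ (1): if f ∘ φ is locally of finite type for one surjective etale chart φ of the source, then f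
is locally of finite type. -/
theorem result {S : Scheme.{u}} {X Y : AlgSp.Space S} (f : X ⟶ Y) (U : Over S)
    (φ : (AlgSp.yon S).obj U ⟶ X.obj) (hφ : AlgSp.RepWith @Etale φ) (hφs : AlgSp.RepWith @Surjective φ)
    (h : AlgSp.LocP @LocallyOfFiniteType (φ ≫ f.hom)) : AlgSp.LocP @LocallyOfFiniteType f.hom :=  by
  obtain ⟨V, b, hb, hb'⟩ := Y.property.atlas
  obtain ⟨W, a₀, k, h1, h2, h3⟩ := exists_chart_over (IsAlgSpace.yon_obj U) Y.property (φ ≫ f.hom) b
  have w : (a₀ ≫ pullback.fst (φ ≫ f.hom) b) ≫ φ ≫ f.hom = (yon S).map k ≫ b := by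
    rw [Category.assoc, pullback.condition, ← Category.assoc, h3]
  refine locP_of_chart (a := (a₀ ≫ pullback.fst (φ ≫ f.hom) b) ≫ φ) (b := b) (h := k)
    (repWith_comp (repWith_comp h1 (repWith_fst _ hb)) hφ)
    (repWith_comp (repWith_comp h2 (repWith_fst _ hb')) hφs) hb ?_ ?_
  · rw [Category.assoc, w]
  · exact h _ _ k (repWith_comp h1 (repWith_fst _ hb)) hb w


end Groth.Agent.S9950
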