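import Groth.Statements.S9951
import Groth.Agent.AlgSpPts.Misc
import Groth.Agent.AlgSpLib.EtLocalInst
-- import your own Groth.Agent.* helpers here

set_option autoImplicit false
universe u
open CategoryTheory CategoryTheory.Limits AlgebraicGeometry
open AlgSp

namespace Groth.Agent.S9951

set_option backward.isDefEq.respectTransparency false
set_option backward.isDefEq.respectTransparency.types false

open AlgSp Groth.Agent.AlgSpLib Groth.Agent.AlgSpPts

/-- The source of a morphism locally of finite type with locally Noetherian target is locally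
Noetherian. -/
theorem result {S : Scheme.{u}} {X Y : AlgSp.Space S} (f : X ⟶ Y)
    (hf : AlgSp.LocP @LocallyOfFiniteType f.hom) (hY : AlgSp.IsLocNoethSp Y.obj) : AlgSp.IsLocNoethSp X.obj :=  by
  obtain ⟨V, b, hb, hb', hV⟩ := hY
  obtain ⟨U, a₀, h, h1, h2, h3⟩ := exists_chart_over X.property Y.property f.hom b
  have : LocallyOfFiniteType h.left := hf (a₀ ≫ pullback.fst f.hom b) b h
    (repWith_comp h1 (repWith_fst f.hom hb)) hb
    (by rw [Category.assoc, pullback.condition, ← Category.assoc, h3])
  have : IsLocallyNoetherian V.left := hV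
  exact ⟨U, a₀ ≫ pullback.fst f.hom b, repWith_comp h1 (repWith_fst f.hom hb),
    repWith_comp h2 (repWith_fst f.hom hb'), LocallyOfFiniteType.isLocallyNoetherian h.left⟩


end Groth.Agent.S9951
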