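import Groth.Statements.S9953
import Groth.Agent.AlgSpPts.Misc
import Groth.Agent.AlgSpLib.EtLocalInst
-- import your own Groth.Agent.* helpers here

set_option autoImplicit false
universe u
open CategoryTheory CategoryTheory.Limits AlgebraicGeometry
open AlgSp

namespace Groth.Agent.S9953

set_option backward.isDefEq.respectTransparency false
set_option backward.isDefEq.respectTransparency.types false

open AlgSp Groth.Agent.AlgSpLib Groth.Agent.AlgSpPts

/-- An immersion of algebraic spaces is locally of finite type. -/
theorem result {S : Scheme.{u}} {X Y : AlgSp.Space S} (f : X ⟶ Y)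
    (hf : AlgSp.RepWith @IsImmersion f.hom) : AlgSp.LocP @LocallyOfFiniteType f.hom :=  locP_of_repWith (repWith_mono (fun _ _ g (_ : IsImmersion g) => (inferInstance : LocallyOfFiniteType g)) _ hf)


end Groth.Agent.S9953
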