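import Groth.Statements.S9954
import Groth.Agent.AlgSpPts.FTPoints
import Mathlib.AlgebraicGeometry.AlgClosed.Basic
import Mathlib.FieldTheory.IsAlgClosed.AlgebraicClosure
-- import your own Groth.Agent.* helpers here

set_option autoImplicit false
universe u
open CategoryTheory CategoryTheory.Limits AlgebraicGeometry
open AlgSp

namespace Groth.Agent.S9954

set_option backward.isDefEq.respectTransparency false
set_option backward.isDefEq.respectTransparency.types false

open AlgSp Groth.Agent.AlgSpLib Groth.Agent.AlgSpPts

/-- A morphism locally of finite type is surjective if and only if it is surjective on k-valued points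
for every algebraically closed field k over the base. -/
theorem result {S : Scheme.{u}} {X Y : AlgSp.Space S} (f : X ⟶ Y)
    (hf : AlgSp.LocP @LocallyOfFiniteType f.hom) :
    AlgSp.IsSurjectiveMor f.hom ↔
      ∀ (k : Type u) [Field k] [IsAlgClosed k] (str : Spec (CommRingCat.of k) ⟶ S)
        (y : (AlgSp.yon S).obj (Over.mk str) ⟶ Y.obj),
        ∃ x : (AlgSp.yon S).obj (Over.mk str) ⟶ X.obj, x ≫ f.hom = y :=  by
  constructor
  · intro hs k _ _ str y
    have sq := IsPullback.of_hasPullback f.hom y
    have hP : IsAlgSpace (pullback f.hom y) := isAlgSpace_pullback X.property (IsAlgSpace.yon_obj _) Y.property _ _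
    obtain ⟨c, -⟩ := surjective_map_of_isPullback sq hs (Points.ofScheme _ (IsLocalRing.closedPoint k))
    obtain ⟨U, φ, u, hφ, hu, -⟩ := exists_closed_point_mem hP (T := Set.univ) isOpen_univ.isLocallyClosed ⟨c, trivial⟩
    obtain ⟨h, hh⟩ := (AlgSp.yon S).map_surjective (φ ≫ pullback.snd f.hom y)
    let h' : U.left ⟶ Spec (CommRingCat.of k) := h.left
    have : LocallyOfFiniteType h' :=
      locP_of_isPullback sq X.property Y.property (IsAlgSpace.yon_obj _) hf φ (𝟙 _) h hφ (repWith_id _ _)
        (by rw [Category.comp_id, hh])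
    have e := pointOfClosedPoint_comp h' u hu
    let s : Over.mk str ⟶ U := Over.homMk (pointOfClosedPoint h' u hu) (by
      change pointOfClosedPoint h' u hu ≫ U.hom = str
      rw [← Over.w h]
      change pointOfClosedPoint h' u hu ≫ h' ≫ str = str
      rw [← Category.assoc, e, Category.id_comp])
    have hs' : s ≫ h = 𝟙 _ := Over.OverMorphism.ext e
    refine ⟨(AlgSp.yon S).map s ≫ φ ≫ pullback.fst f.hom y, ?_⟩
    rw [Category.assoc, Category.assoc, pullback.condition, ← Category.assoc φ, ← hh, ← Category.assoc,
      ← Functor.map_comp, hs', CategoryTheory.Functor.map_id, Category.id_comp]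
  · intro H z
    obtain ⟨p, rfl⟩ := Points.mk_surjective z
    let L := AlgebraicClosure p.K
    let c : Over.mk (Spec.map (CommRingCat.ofHom (algebraMap p.K L)) ≫ p.str) ⟶ p.pt :=
      Over.homMk (Spec.map (CommRingCat.ofHom (algebraMap p.K L))) rfl
    obtain ⟨x, hx⟩ := H L _ ((AlgSp.yon S).map c ≫ p.toHom)
    refine ⟨Points.ofPt x (IsLocalRing.closedPoint L), ?_⟩
    rw [Points.map_ofPt, hx, ofPt_comp]
    exact Points.ofPt_toHom p _


end Groth.Agent.S9954
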