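import Groth.Statements.S9956
import Groth.Agent.AlgSpPts.Misc
import Groth.Agent.AlgSpLib.EtLocalInst
-- import your own Groth.Agent.* helpers here

set_option autoImplicit false
universe u
open CategoryTheory CategoryTheory.Limits AlgebraicGeometry
open AlgSp

namespace Groth.Agent.S9956

set_option backward.isDefEq.respectTransparency false
set_option backward.isDefEq.respectTransparency.types false

open AlgSp Groth.Agent.AlgSpLib Groth.Agent.AlgSpPts

/-- For morphisms X -> Y -> Z of algebraic spaces, local quasi-finiteness of the composite implies that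
of the first map (locally quasi-finite includes locally of finite type, etale locally on source and
target). -/
theorem result {S : Scheme.{u}} {X Y Z : AlgSp.Space S} (f : X ⟶ Y) (g : Y ⟶ Z)
    (h : AlgSp.LocP ((@LocallyQuasiFinite : MorphismProperty Scheme.{u}) ⊓ @LocallyOfFiniteType) (f ≫ g).hom) :
    AlgSp.LocP ((@LocallyQuasiFinite : MorphismProperty Scheme.{u}) ⊓ @LocallyOfFiniteType) f.hom :=  locP_of_comp (P := @LocallyQuasiFinite ⊓ @LocallyOfFiniteType) (fun f g h => by
    obtain ⟨_, _⟩ := h
    exact ⟨LocallyQuasiFinite.of_comp f g, locallyOfFiniteType_of_comp f g⟩) Z.property h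


end Groth.Agent.S9956
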