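import Groth.Statements.S9957
import Groth.Agent.AlgSpPts.Descent
import Groth.Agent.S9951
-- import your own Groth.Agent.* helpers here

set_option autoImplicit false
universe u
open CategoryTheory CategoryTheory.Limits AlgebraicGeometry
open AlgSp

namespace Groth.Agent.S9957

set_option backward.isDefEq.respectTransparency false
set_option backward.isDefEq.respectTransparency.types false

open AlgSp Groth.Agent.AlgSpLib Groth.Agent.AlgSpPts

/-- The source of a morphism of finite presentation whose target is Noetherian is itself Noetherian,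
Noetherian meaning quasi-compact, quasi-separated over S and locally Noetherian. (The published
statement uses quasi-separatedness in the absolute sense; this row uses quasi-separatedness over S
in hypothesis and conclusion.) -/
theorem result {S : Scheme.{u}} {X Y : AlgSp.Space S} (f : X ⟶ Y)
    (hf : AlgSp.IsFinitePresentationMor f.hom)
    (hY : AlgSp.IsQuasiCompactSp Y.obj ∧ AlgSp.IsQuasiSeparatedSp Y.obj ∧ AlgSp.IsLocNoethSp Y.obj) :
    AlgSp.IsQuasiCompactSp X.obj ∧ AlgSp.IsQuasiSeparatedSp X.obj ∧ AlgSp.IsLocNoethSp X.obj :=  by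
  obtain ⟨hlfp, hqc, hqs⟩ := hf
  obtain ⟨hYc, hYs, hYn⟩ := hY
  refine ⟨hqc Y.property hYc (𝟙 _) (𝟙 _) f.hom (IsPullback.of_horiz_isIso ⟨by simp⟩), ?_,
    S9951.result f (locP_mono (fun _ _ g (_ : LocallyOfFinitePresentation g) => (inferInstance : LocallyOfFiniteType g)) hlfp) hYn⟩
  rw [isQuasiSeparatedSp_iff_mor] at hYs ⊢
  rw [(isTerminalYon S).hom_ext ((isTerminalYon S).from X.obj) (f.hom ≫ (isTerminalYon S).from Y.obj)]
  exact isQuasiSeparatedMor_comp hqs hYs


end Groth.Agent.S9957
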