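import Groth.Statements.S9958
import Groth.Agent.AlgSpPts.Sep
import Groth.Agent.AlgSpLib.Descent2
import Mathlib.AlgebraicGeometry.Noetherian
-- import your own Groth.Agent.* helpers here

set_option autoImplicit false
universe u
open CategoryTheory CategoryTheory.Limits AlgebraicGeometry
open AlgSp

namespace Groth.Agent.S9958

set_option backward.isDefEq.respectTransparency false
set_option backward.isDefEq.respectTransparency.types false

open AlgSp Groth.Agent.AlgSpLib Groth.Agent.AlgSpPts

/-- Over a locally Noetherian algebraic space, locally of finite type implies locally of finite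
presentation. -/
theorem result {S : Scheme.{u}} {X Y : AlgSp.Space S} (f : X ⟶ Y)
    (hY : AlgSp.IsLocNoethSp Y.obj) (hf : AlgSp.LocP @LocallyOfFiniteType f.hom) :
    AlgSp.LocP @LocallyOfFinitePresentation f.hom :=  by
  intro U V a b h ha hb w
  obtain ⟨W, c, hc, hc', hW⟩ := hY
  have : IsLocallyNoetherian W.left := hW
  let e : hc.rep.pullback b ⟶ V := hc.rep.snd b
  let d : hc.rep.pullback b ⟶ W := hc.rep.fst' b
  have : Etale e.left := hc.property_snd b
  have : Surjective e.left := hc'.property _ _ _ (hc.rep.isPullback b)
  have : Etale d.left := hb.property c _ _ (hc.rep.isPullback' b).flip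
  have : IsLocallyNoetherian (hc.rep.pullback b).left := LocallyOfFiniteType.isLocallyNoetherian d.left
  have : IsLocallyNoetherian V.left := isLocallyNoetherian_of_flat e.left
  have : LocallyOfFiniteType h.left := hf a b h ha hb w
  exact inferInstance


end Groth.Agent.S9958
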