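import Groth.Statements.S9959
import Groth.Agent.AlgSpPts.Sep
-- import your own Groth.Agent.* helpers here

set_option autoImplicit false
universe u
open CategoryTheory CategoryTheory.Limits AlgebraicGeometry
open AlgSp

namespace Groth.Agent.S9959

set_option backward.isDefEq.respectTransparency false
set_option backward.isDefEq.respectTransparency.types false

open AlgSp Groth.Agent.AlgSpLib Groth.Agent.AlgSpPts

/-- Given X -> Y -> Z with X -> Z locally finitely presented and Y -> Z locally of finite type, X -> Y
is locally finitely presented (all three etale locally on source and target). -/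
theorem result {S : Scheme.{u}} {X Y Z : AlgSp.Space S} (f : X ⟶ Y) (g : Y ⟶ Z)
    (hX : AlgSp.LocP @LocallyOfFinitePresentation (f ≫ g).hom) (hY : AlgSp.LocP @LocallyOfFiniteType g.hom) :
    AlgSp.LocP @LocallyOfFinitePresentation f.hom :=  locP_of_comp' (Q := @LocallyOfFiniteType) (fun a b hab hb => by
    have : LocallyOfFinitePresentation (a ≫ b) := hab
    have : LocallyOfFiniteType b := hb
    exact locallyOfFinitePresentation_of_comp a b) Z.property hX hY


end Groth.Agent.S9959
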