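import Groth.Statements.S9960
import Groth.Agent.AlgSpPts.Sep
-- import your own Groth.Agent.* helpers here

set_option autoImplicit false
universe u
open CategoryTheory CategoryTheory.Limits AlgebraicGeometry
open AlgSp

namespace Groth.Agent.S9960

set_option backward.isDefEq.respectTransparency false
set_option backward.isDefEq.respectTransparency.types false

open AlgSp Groth.Agent.AlgSpLib Groth.Agent.AlgSpPts

/-- The diagonal of a morphism locally of finite type is locally of finite presentation, and of finite
presentation when the morphism is also quasi-separated. -/
theorem result {S : Scheme.{u}} {X Y : AlgSp.Space S} (f : X ⟶ Y)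
    (hf : AlgSp.LocP @LocallyOfFiniteType f.hom) :
    AlgSp.LocP @LocallyOfFinitePresentation (pullback.diagonal f.hom) ∧
    (AlgSp.IsQuasiSeparatedMor f.hom → AlgSp.IsFinitePresentationMor (pullback.diagonal f.hom)) :=  by
  obtain ⟨hr, d1, d2, d3, d4⟩ := diagonal_package X.property Y.property f.hom
  have : MorphismProperty.ContainsIdentities (@LocallyOfFinitePresentation : MorphismProperty Scheme) :=
    ⟨fun Z => (inferInstance : LocallyOfFinitePresentation (𝟙 Z))⟩
  have : MorphismProperty.IsMultiplicative (@LocallyOfFinitePresentation : MorphismProperty Scheme) := { }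
  have h1 : LocP @LocallyOfFinitePresentation (pullback.diagonal f.hom) := by
    refine locP_of_comp' (Q := @LocallyOfFiniteType) (fun a b hab hb => ?_) X.property
      (g := pullback.fst f.hom f.hom) (by rw [pullback.diagonal_fst]; exact locP_id _)
      (locP_of_isPullback (IsPullback.of_hasPullback f.hom f.hom).flip X.property Y.property X.property hf)
    have : LocallyOfFinitePresentation (a ≫ b) := hab
    have : LocallyOfFiniteType b := hb
    exact locallyOfFinitePresentation_of_comp a b
  exact ⟨h1, fun hqs => ⟨h1, isQuasiCompactMor_of_repWith hqs,
    repWith_diagonal d3 fun g (_ : IsSeparated g) => (inferInstance : QuasiCompact (pullback.diagonal g))⟩⟩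


end Groth.Agent.S9960
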