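import Groth.Statements.S9965
import Groth.Agent.AlgSpDec.SchImageChart
import Groth.Agent.AlgSpDec.MinimalNonScheme
-- import your own Groth.Agent.* helpers here

set_option autoImplicit false
universe u
open CategoryTheory CategoryTheory.Limits AlgebraicGeometry
open AlgSp

set_option backward.isDefEq.respectTransparency false
set_option backward.isDefEq.respectTransparency.types false

open CategoryTheory CategoryTheory.Limits AlgebraicGeometry Groth.Agent.AlgSpLib Groth.Agent.AlgSpPts Groth.Agent.AlgSpDec

namespace Groth.Agent.S9965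

/-- For a quasi-compact morphism of algebraic spaces, forming the scheme theoretic image commutes with
etale base change, and the image of the morphism is dense in the scheme theoretic image. -/
theorem result {S : Scheme.{u}} {X Y Z : AlgSp.Space S} (f : X ⟶ Y) (i : Z ⟶ Y)
    (hq : AlgSp.IsQuasiCompactMor f.hom) (hZ : AlgSp.IsSchImage f.hom i.hom) :
    (∀ (V XV ZV : AlgSp.Space S) (b : V ⟶ Y), AlgSp.IsEtaleMor b.hom →
      ∀ (f₁ : XV ⟶ X) (fV : XV ⟶ V) (i₁ : ZV ⟶ Z) (iV : ZV ⟶ V),
        IsPullback f₁.hom fV.hom f.hom b.hom → IsPullback i₁.hom iV.hom i.hom b.hom →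
        AlgSp.IsSchImage fV.hom iV.hom) ∧
    Set.range (AlgSp.Points.map i.hom) ⊆ closure (Set.range (AlgSp.Points.map f.hom)) := by
  obtain ⟨U, T, b, c, k, hb, hbs, hc, hcs, hk, hkq⟩ := exists_qc_chart X.property Y.property hq
  have hker := schImage_chart X.property Y.property hb hbs hc hcs hk hZ
  refine ⟨fun V XV ZV bV hbV f₁ fV i₁ iV hX hV => ?_, ?_⟩
  · have hi := hZ.1
    obtain ⟨f', hf'⟩ := hZ.2.1
    have hiV : AlgSp.RepWith @IsClosedImmersion iV.hom := repWith_of_isPullback hV hi
    refine ⟨hiV, ⟨hV.lift (f₁.hom ≫ f') fV.hom (by rw [Category.assoc, hf', hX.w]), hV.lift_snd _ _ _⟩,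
      fun Z' i' hZ' hi' hfac => ?_⟩
    obtain ⟨f'', hf''⟩ := hfac
    obtain ⟨W, a₀, u, ha₀, ha₀s, hu⟩ := exists_chart_over V.property Y.property bV.hom b
    let w := a₀ ≫ pullback.fst bV.hom b
    have hw : AlgSp.RepWith @Etale w := repWith_comp ha₀ (repWith_fst _ hb)
    have hws : AlgSp.RepWith @Surjective w := repWith_comp ha₀s (repWith_fst _ hbs)
    have hwu : w ≫ bV.hom = (AlgSp.yon S).map u ≫ b := by
      rw [← hu, Category.assoc, Category.assoc, pullback.condition]
    haveI : Etale u.left := by
      refine (AlgSp.repWith_yon_map_iff _ _).1 (repWith_etale_of_comp _ b ?_ hb)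
      rw [← hwu]
      exact hbV w hw
    refine (ker_le_iff_exists_factor hi' hw hws hiV).1 ?_
    haveI : IsClosedImmersion (hi.rep.snd b).left := hi.property_snd b
    haveI : IsClosedImmersion (hiV.rep.snd w).left := hiV.property_snd w
    haveI : IsClosedImmersion (hi'.rep.snd w).left := hi'.property_snd w
    have h4 : ∀ {A : Over S} (p : A ⟶ U) [QuasiCompact p.left],
        (pullback.snd p u).left.ker = p.left.ker.comap u.left := by
      intro A p _
      have sq := (IsPullback.of_hasPullback p u).map (Over.forget S)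
      rw [← Groth.Agent.S4667.result p.left u.left, ← Scheme.Hom.ker_comp_of_isIso sq.isoPullback.hom]
      congr 1
      exact sq.isoPullback_hom_snd.symm
    haveI : IsClosedImmersion (pullback.snd (hi.rep.snd b) u).left :=
      MorphismProperty.of_isPullback (P := @IsClosedImmersion)
        ((IsPullback.of_hasPullback (hi.rep.snd b) u).map (Over.forget S)) (hi.property_snd b)
    calc (hi'.rep.snd w).left.ker ≤ (pullback.snd k u).left.ker := by
          refine (factor_iff_ker_le _ _).1 ((factor_iff_of_isPullback (hi'.rep.isPullback w) _).2 ?_)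
          refine ⟨hX.lift ((AlgSp.yon S).map (pullback.fst k u) ≫ c ≫ pullback.fst f.hom b)
            ((AlgSp.yon S).map (pullback.snd k u) ≫ w) ?_ ≫ f'', ?_⟩
          · rw [Category.assoc, Category.assoc, pullback.condition, reassoc_of% hk, Category.assoc, hwu,
              ← Functor.map_comp_assoc, ← Functor.map_comp_assoc, pullback.condition]
          · rw [Category.assoc, hf'', hX.lift_snd]
      _ = k.left.ker.comap u.left := h4 k
      _ = (pullback.snd (hi.rep.snd b) u).left.ker := by rw [h4, hker]
      _ ≤ (hiV.rep.snd w).left.ker := by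
          refine (factor_iff_ker_le _ _).1 ?_
          obtain ⟨m, hm⟩ := (factor_iff_of_isPullback (hi.rep.isPullback b) (hiV.rep.snd w ≫ u)).2
            ⟨hiV.rep.fst w ≫ i₁.hom, by
              rw [Category.assoc, hV.w, reassoc_of% (hiV.rep.w w), hwu, Functor.map_comp, Category.assoc]⟩
          exact ⟨pullback.lift m (hiV.rep.snd w) hm, pullback.lift_snd _ _ _⟩
  · rintro _ ⟨z, rfl⟩
    obtain ⟨t, rfl⟩ := surjective_ofPt (repWith_of_isPullback (hZ.1.rep.isPullback b).flip hbs) z
    have hcont : Continuous (AlgSp.Points.ofPt b) := AlgSp.Points.continuous_ofPt b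
    rw [AlgSp.Points.map_ofPt, hZ.1.rep.w b, ofPt_comp]
    have hsupp : ((hZ.1.rep.snd b).left.ker.support : Set ↥U.left) = closure (Set.range k.left) := by
      rw [hker, Scheme.Hom.support_ker]
    have hmem : (hZ.1.rep.snd b).left t ∈ closure (Set.range k.left) :=
      hsupp ▸ (hZ.1.rep.snd b).left.range_subset_ker_support ⟨t, rfl⟩
    refine closure_mono ?_ (mem_closure_image hcont.continuousAt hmem)
    rintro _ ⟨_, ⟨s, rfl⟩, rfl⟩
    refine ⟨AlgSp.Points.ofPt (c ≫ pullback.fst f.hom b) s, ?_⟩
    rw [AlgSp.Points.map_ofPt, Category.assoc, pullback.condition, reassoc_of% hk, ofPt_comp]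

end Groth.Agent.S9965
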