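import Groth.Statements.S9967
import Groth.Agent.S9965
import Groth.Agent.AlgSpLib.EtaleSmoothLocal
import Groth.Agent.AlgSpPts.Sep
import Groth.Agent.AlgSpPts.Misc
import Groth.Agent.AlgSpLib.Rep

set_option autoImplicit false
universe u
open CategoryTheory CategoryTheory.Limits AlgebraicGeometry
open AlgSp

namespace Groth.Agent.S9967

open Groth.Agent.AlgSpLib Groth.Agent.AlgSpPts Groth.Agent.AlgSpDec

/-- For a separated f : X -> Y and a section s of f over a quasi-compact open V of Y, the scheme
theoretic image of s maps isomorphically to Y over V. -/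
theorem result {S : Scheme.{u}} {X Y V Y' : AlgSp.Space S} (f : X ⟶ Y) (j : V ⟶ Y)
    (hj : AlgSp.RepWith @IsOpenImmersion j.hom) (hjq : AlgSp.IsQuasiCompactMor j.hom) (hf : AlgSp.IsSeparatedMor f.hom)
    (s : V ⟶ X) (hs : s ≫ f = j) (c : Y' ⟶ X) (hc : AlgSp.IsSchImage s.hom c.hom)
    {P : AlgSp.Sp S} (fst : P ⟶ Y'.obj) (snd : P ⟶ V.obj) (sq : IsPullback fst snd (c ≫ f).hom j.hom) :
    IsIso snd := by
  let XV := pullback f.hom j.hom
  have hXV : IsAlgSpace XV := isAlgSpace_pullback X.property V.property Y.property f.hom j.hom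
  have : Mono j.hom := mono_of_repWith (repWith_mono (fun _ _ e (_ : IsOpenImmersion e) => inferInstanceAs (Mono e)) _ hj)
  have hs' : s.hom ≫ f.hom = j.hom := congrArg (·.hom) hs
  let s' : V.obj ⟶ XV := pullback.lift s.hom (𝟙 V.obj) (by rw [hs', Category.id_comp])
  have hs'cl : RepWith @IsClosedImmersion s' :=
    of_comp_of_diagonal (RepWith @IsClosedImmersion) s' (pullback.snd f.hom j.hom)
      (by rw [pullback.lift_snd]; exact repWith_of_isIso _ _)
      (MorphismProperty.of_isPullback (P := MorphismProperty.diagonal (RepWith @IsClosedImmersion))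
        (IsPullback.of_hasPullback f.hom j.hom) hf)
  have hsq : IsQuasiCompactMor s.hom := by
    have e : s' ≫ pullback.fst f.hom j.hom = s.hom := pullback.lift_fst _ _ _
    rw [← e]
    exact AlgSpPts.isQuasiCompactMor_comp hXV X.property
      (AlgSpPts.isQuasiCompactMor_of_repWith (repWith_mono (fun _ _ e (_ : IsClosedImmersion e) => inferInstanceAs (QuasiCompact e)) _ hs'cl))
      (AlgSpPts.isQuasiCompactMor_of_isPullback (IsPullback.of_hasPullback f.hom j.hom).flip hjq)
  have hsq₁ : IsPullback (𝟙 V.obj) s' s.hom (pullback.fst f.hom j.hom) := by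
    refine (IsPullback.of_right ?_ (pullback.lift_fst _ _ _ |>.trans (Category.id_comp _).symm)
      (IsPullback.of_hasPullback f.hom j.hom).flip).flip
    rw [pullback.lift_snd, hs']
    exact IsPullback.of_vert_isIso_mono ⟨by simp⟩
  let k : P ⟶ XV := pullback.lift (fst ≫ c.hom) snd (by rw [Category.assoc]; exact sq.w)
  have hk : IsPullback fst k c.hom (pullback.fst f.hom j.hom) := by
    refine (IsPullback.of_right ?_ (pullback.lift_fst _ _ _)
      (IsPullback.of_hasPullback f.hom j.hom).flip).flip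
    rw [pullback.lift_snd]
    exact sq.flip
  have hP : IsAlgSpace P := (isAlgSpace_pullback Y'.property V.property Y.property (c ≫ f).hom j.hom).of_iso sq.isoPullback.symm
  have him : IsSchImage s' k := (S9965.result s c hsq hc).1 ⟨XV, hXV⟩ V ⟨P, hP⟩ ⟨pullback.fst f.hom j.hom⟩
    (isEtaleMor_of_repWith_isOpenImmersion (repWith_fst f.hom hj)) (𝟙 V) ⟨s'⟩ ⟨fst⟩ ⟨k⟩ hsq₁ hk
  obtain ⟨l, hl⟩ := him.2.2 s' V.property hs'cl ⟨𝟙 _, Category.id_comp _⟩
  obtain ⟨m, hm⟩ := him.2.1
  have hl' : l = snd := by
    have e := congrArg (fun φ => φ ≫ pullback.snd f.hom j.hom) hl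
    simp only [s', k, Category.assoc, pullback.lift_snd, Category.comp_id] at e
    exact e
  have := AlgSpDec.mono_of_closedImmersion hs'cl
  have := AlgSpDec.mono_of_closedImmersion him.1
  subst hl'
  exact ⟨m, by rw [← cancel_mono k, Category.assoc, hm, hl, Category.id_comp], by rw [← cancel_mono s', Category.assoc, hl, hm, Category.id_comp]⟩

end Groth.Agent.S9967
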