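import Groth.Statements.S9969
import Groth.Agent.AlgSpDec.SchDenseSp
import Groth.Agent.AlgSpDec.SchDenseClosure
import Groth.Agent.AlgSpDec.SchImage
-- import your own Groth.Agent.* helpers here

set_option autoImplicit false
universe u
open CategoryTheory CategoryTheory.Limits AlgebraicGeometry
open AlgSp

namespace Groth.Agent.S9969

set_option backward.isDefEq.respectTransparency false
set_option backward.isDefEq.respectTransparency.types false

open AlgSp Groth.Agent.AlgSpLib Groth.Agent.AlgSpPts Groth.Agent.AlgSpDec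

/-- For a quasi-compact open subspace, scheme theoretic density is equivalent to the scheme theoretic
closure being everything. -/
theorem result {S : Scheme.{u}} {U X : AlgSp.Space S} (j : U ⟶ X)
    (hj : AlgSp.RepWith @IsOpenImmersion j.hom) (hq : AlgSp.IsQuasiCompactMor j.hom) :
    AlgSp.IsSchDense j.hom ↔ AlgSp.IsSchImage j.hom (𝟙 X.obj) := by
  obtain ⟨V, φ, hφ, hφs⟩ := X.property.atlas
  let W := SchDenseSp.pre X.property hj φ
  obtain ⟨fst, sq⟩ := SchDenseSp.exists_isPullback X.property hj φ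
  haveI : QuasiCompact W.ι := SchDenseSp.quasiCompact_pre_ι X.property hj hq φ
  let ι : Over.mk (W.ι ≫ V.hom) ⟶ V := Over.homMk W.ι rfl
  constructor
  · intro hd
    have hker : W.ι.ker = ⊥ := (SchDenseFacts.iff_ker_eq_bot W).1 (SchDenseSp.dense_pre X.property hd hφ)
    refine ⟨repWith_of_isIso _ _, ⟨j.hom, Category.comp_id _⟩, fun Z' i' _ hi' hf' => ?_⟩
    obtain ⟨f'', hf''⟩ := hf'
    have : Mono i' := mono_of_closedImmersion hi'
    refine exists_factor_of_cover hφ hφs (𝟙 X.obj) ?_
    haveI : IsClosedImmersion (hi'.rep.snd φ).left := hi'.property_snd φ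
    have h1 := (factor_iff_of_isPullback (hi'.rep.isPullback φ) ι).2
      ⟨fst ≫ f'', by rw [Category.assoc, hf'']; exact sq.w⟩
    rw [factor_iff_ker_le] at h1
    obtain ⟨g, hg⟩ := (factor_iff_of_isPullback (hi'.rep.isPullback φ) (𝟙 V)).1
      ((factor_iff_ker_le _ _).2 (h1.trans (hker.le.trans bot_le)))
    exact ⟨g, by rw [hg, CategoryTheory.Functor.map_id, Category.id_comp, Category.comp_id]⟩
  · intro him
    refine SchDenseSp.isSchDense_of_atlas X.property hj hφ hφs ((SchDenseFacts.iff_ker_eq_bot W).2 ?_)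
    let J := W.ι.ker
    let ZU : Over S := Over.mk (J.subschemeι ≫ V.hom)
    let i : ZU ⟶ V := Over.homMk J.subschemeι rfl
    haveI : IsClosedImmersion i.left := inferInstanceAs (IsClosedImmersion J.subschemeι)
    have hker : i.left.ker = J := J.ker_subschemeι
    let R := hφ.rep.pullback φ
    let p₁ : R ⟶ V := hφ.rep.fst' φ
    let p₂ : R ⟶ V := hφ.rep.snd φ
    haveI : Etale p₂.left := hφ.property_snd φ
    haveI : Etale p₁.left := hφ.property _ _ _ (hφ.rep.isPullback' φ).flip
    have hc : J.comap p₁.left = J.comap p₂.left := by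
      haveI := SchDenseSp.quasiCompact_pre_ι X.property hj hq ((yon S).map p₁ ≫ φ)
      haveI : QuasiCompact (p₁.left ⁻¹ᵁ W).ι := by rw [SchDenseSp.preimage_pre]; infer_instance
      haveI : QuasiCompact (p₂.left ⁻¹ᵁ W).ι := by
        rw [SchDenseSp.preimage_pre, ← (hφ.rep.isPullback' φ).w]; infer_instance
      rw [SchDenseFacts.comap_ker_opens, SchDenseFacts.comap_ker_opens, SchDenseSp.preimage_pre,
        SchDenseSp.preimage_pre, (hφ.rep.isPullback' φ).w]
    have hcompat : ∀ (T : Over S) (x y : T ⟶ V), (yon S).map x ≫ φ = (yon S).map y ≫ φ →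
        (∃ l, l ≫ i = x) → ∃ l, l ≫ i = y := by
      intro T x y hxy hx
      obtain ⟨r, hr⟩ := (yon S).map_surjective ((hφ.rep.isPullback' φ).lift _ _ hxy)
      have hr₁ : r ≫ p₁ = x := (yon S).map_injective (by rw [Functor.map_comp, hr]; exact IsPullback.lift_fst _ _ _ _)
      have hr₂ : r ≫ p₂ = y := (yon S).map_injective (by rw [Functor.map_comp, hr]; exact IsPullback.lift_snd _ _ _ _)
      rw [factor_iff_ker_le, hker] at hx ⊢
      rw [← hr₁, Over.comp_left, Scheme.Hom.ker_comp, Scheme.IdealSheafData.le_map_iff_comap_le] at hx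
      rw [← hr₂, Over.comp_left, Scheme.Hom.ker_comp, Scheme.IdealSheafData.le_map_iff_comap_le, ← hc]
      exact hx
    obtain ⟨Z, jZ, qZ, hjZ, sqZ, -, -⟩ := exists_closed_subspace X.property hφ hφs hcompat
    have : Mono jZ := mono_of_closedImmersion hjZ
    have hf'' : ∃ f'', f'' ≫ jZ = j.hom := by
      refine exists_factor_of_cover (repWith_of_isPullback sq.flip hφ) (repWith_of_isPullback sq.flip hφs) j.hom ?_
      rw [sq.w, ← factor_iff_of_isPullback sqZ, factor_iff_ker_le, hker]
      exact le_refl _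
    obtain ⟨k, hk⟩ := him.2.2 jZ Z.property hjZ hf''
    obtain ⟨l, hl⟩ := (factor_iff_of_isPullback sqZ (𝟙 V)).2
      ⟨φ ≫ k, by rw [Category.assoc, hk, Category.comp_id, CategoryTheory.Functor.map_id, Category.id_comp]⟩
    have h2 := (factor_iff_ker_le i (𝟙 V)).1 ⟨l, hl⟩
    rw [hker] at h2
    exact le_antisymm (h2.trans (Scheme.Hom.ker_eq_bot_of_isIso (𝟙 V.left)).le) bot_le

end Groth.Agent.S9969
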