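import Groth.Statements.S9970
import Groth.Agent.AlgSpDec.SchDenseSp
import Groth.Agent.AlgSpDec.SchDenseClosure
import Groth.Agent.AlgSpDec.SchImage
-- import your own Groth.Agent.* helpers here

set_option autoImplicit false
universe u
open CategoryTheory CategoryTheory.Limits AlgebraicGeometry
open AlgSp

namespace Groth.Agent.S9970

set_option backward.isDefEq.respectTransparency false
set_option backward.isDefEq.respectTransparency.types false

open AlgSp Groth.Agent.AlgSpLib Groth.Agent.AlgSpPts Groth.Agent.AlgSpDec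

/-- The intersection of two scheme theoretically dense open subspaces is scheme theoretically dense. -/
theorem result {S : Scheme.{u}} {U V X P : AlgSp.Space S} (jU : U ⟶ X) (jV : V ⟶ X)
    (hU : AlgSp.IsSchDense jU.hom) (hV : AlgSp.IsSchDense jV.hom) (fst : P ⟶ U) (snd : P ⟶ V)
    (sq : IsPullback fst.hom snd.hom jU.hom jV.hom) : AlgSp.IsSchDense (fst ≫ jU).hom := by
  have hop : RepWith @IsOpenImmersion (fst.hom ≫ jU.hom) := repWith_comp (repWith_of_isPullback sq.flip hV.1) hU.1
  obtain ⟨W, φ, hφ, hφs⟩ := X.property.atlas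
  refine SchDenseSp.isSchDense_of_atlas (j := fst.hom ≫ jU.hom) X.property hop hφ hφs ?_
  have e : SchDenseSp.pre X.property hop φ = SchDenseSp.pre X.property hU.1 φ ⊓ SchDenseSp.pre X.property hV.1 φ := by
    ext v
    show Points.ofPt φ v ∈ Set.range (Points.map (fst.hom ≫ jU.hom)) ↔ Points.ofPt φ v ∈ Set.range (Points.map jU.hom) ∧
      Points.ofPt φ v ∈ Set.range (Points.map jV.hom)
    constructor
    · rintro ⟨p, hp⟩
      refine ⟨⟨Points.map fst.hom p, by rw [← Points.map_comp, hp]⟩, ⟨Points.map snd.hom p, ?_⟩⟩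
      rw [← Points.map_comp, ← sq.w, hp]
    · rintro ⟨⟨x, hx⟩, ⟨y, hy⟩⟩
      obtain ⟨p, hp, -⟩ := exists_point_of_isPullback sq (hx.trans hy.symm)
      exact ⟨p, by rw [Points.map_comp, hp, hx]⟩
  rw [e]
  exact SchDenseFacts.inf (SchDenseSp.dense_pre X.property hU hφ) (SchDenseSp.dense_pre X.property hV hφ)

end Groth.Agent.S9970
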