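import Groth.Statements.S9971
import Groth.Agent.AlgSpDec.SchImageChart
import Groth.Agent.AlgSpDec.SchDenseSp
import Groth.Agent.AlgSpDec.RedImage
import Groth.Agent.AlgSpDec.OneFlat
import Groth.Agent.AlgSpDec.FppfDescent
import Groth.Agent.AlgSpPts.SepDescent
import Groth.Agent.S9385
-- import your own Groth.Agent.* helpers here

set_option autoImplicit false
universe u
open CategoryTheory CategoryTheory.Limits AlgebraicGeometry
open AlgSp

namespace Groth.Agent.S9971

set_option backward.isDefEq.respectTransparency false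
set_option backward.isDefEq.respectTransparency.types false

open AlgSp Groth.Agent.AlgSpLib Groth.Agent.AlgSpPts Groth.Agent.AlgSpDec

/-- A quasi-compact (or reduced-source) immersion is a scheme theoretically dense, topologically dense
open immersion into its scheme theoretic image. -/
theorem result {S : Scheme.{u}} {Z X Zbar : AlgSp.Space S} (h : Z ⟶ X)
    (hh : AlgSp.RepWith @IsImmersion h.hom) (hq : AlgSp.IsQuasiCompactMor h.hom ∨ AlgSp.IsReducedSp Z.obj)
    (c : Zbar ⟶ X) (hc : AlgSp.IsSchImage h.hom c.hom) (h' : Z ⟶ Zbar) (fac : h' ≫ c = h) :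
    AlgSp.RepWith @IsOpenImmersion h'.hom ∧ AlgSp.IsSchDense h'.hom ∧
      Dense (Set.range (AlgSp.Points.map h'.hom)) := by
  obtain ⟨U, b, hb, hbs⟩ := X.property.atlas
  let T := hh.rep.pullback b
  let t : T ⟶ U := hh.rep.snd b
  haveI : IsImmersion t.left := hh.property_snd b
  have sqT := hh.rep.isPullback b
  let ZU := hc.1.rep.pullback b
  let iU : ZU ⟶ U := hc.1.rep.snd b
  let q := hc.1.rep.fst b
  haveI : IsClosedImmersion iU.left := hc.1.property_snd b
  have sqC := hc.1.rep.isPullback b
  have hqe : RepWith @Etale q := repWith_of_isPullback sqC.flip hb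
  have hqs : RepWith @Surjective q := repWith_of_isPullback sqC.flip hbs
  have hyp : (QuasiCompact t.left ∧ iU.left.ker = t.left.ker) ∨ (IsReduced T.left ∧ IsReduced ZU.left ∧ iU.left.ker = t.left.ker) := by
    rcases hq with hqc | hr
    · left
      haveI : QuasiCompact t.left := (repWith_quasiCompact hh.rep hqc).property_snd b
      exact ⟨inferInstance, schImage_chart Z.property X.property hb hbs
        (c := sqT.isoPullback.hom) (repWith_of_isIso _ _) (repWith_of_isIso _ _) sqT.isoPullback_hom_snd hc⟩
    · right
      obtain ⟨hcl, hrange, hZb⟩ := isRedInduced_of_schImage X.property hr hc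
      haveI : IsReduced T.left := isReduced_chart hr (repWith_of_isPullback sqT.flip hb)
      haveI : IsReduced ZU.left := isReduced_chart hZb hqe
      refine ⟨inferInstance, inferInstance, ?_⟩
      have h1 : Set.range iU.left = closure (Set.range t.left) := by
        have e1 : Set.range iU.left = Points.ofPt b ⁻¹' Set.range (Points.map c.hom) := by
          ext v
          constructor
          · rintro ⟨w, rfl⟩
            exact ⟨Points.ofPt q w, by rw [Points.map_ofPt, sqC.w, ofPt_comp]⟩
          · rintro ⟨y, hy⟩
            obtain ⟨w, -, hw⟩ := AlgSpPts.exists_lift sqC hy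
            exact ⟨w, hw⟩
        have e2 : Set.range t.left = Points.ofPt b ⁻¹' Set.range (Points.map h.hom) := by
          ext v
          constructor
          · rintro ⟨w, rfl⟩
            exact ⟨Points.ofPt (hh.rep.fst b) w, by rw [Points.map_ofPt, sqT.w, ofPt_comp]⟩
          · rintro ⟨y, hy⟩
            obtain ⟨w, -, hw⟩ := AlgSpPts.exists_lift sqT hy
            exact ⟨w, hw⟩
        rw [e1, e2, hrange, (isOpenMap_ofPt hb).preimage_closure_eq_closure_preimage (Points.continuous_ofPt b)]
      refine le_antisymm ?_ ?_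
      · obtain ⟨l, hl⟩ := exists_factor_closed iU.left t.left (h1.symm ▸ subset_closure)
        rw [← hl]
        exact Scheme.Hom.le_ker_comp _ _
      · obtain ⟨l, hl⟩ := exists_factor_closed t.left.imageι iU.left (by
          rw [h1]
          show closure (Set.range t.left) ⊆ Set.range t.left.ker.subschemeι
          rw [Scheme.IdealSheafData.range_subschemeι]
          exact closure_minimal t.left.range_subset_ker_support t.left.ker.support.isClosed)
        rw [← hl, ← show t.left.imageι.ker = t.left.ker from t.left.ker.ker_subschemeι]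
        exact Scheme.Hom.le_ker_comp _ _
  have hker : iU.left.ker = t.left.ker := hyp.elim (·.2) (·.2.2)
  haveI : Mono c.hom := mono_of_closedImmersion hc.1
  obtain ⟨t', ht'⟩ := (yon S).map_surjective (sqC.lift (hh.rep.fst b ≫ h'.hom) ((yon S).map t)
    (by rw [Category.assoc, ← sqT.w]; exact congrArg (hh.rep.fst b ≫ ·) (congrArg (fun k => k.hom) fac)))
  have htt : t' ≫ iU = t := (yon S).map_injective (by rw [Functor.map_comp, ht', sqC.lift_snd])
  have sqh : IsPullback (hh.rep.fst b) ((yon S).map t') h'.hom q := by
    refine IsPullback.of_bot ?_ (by rw [ht', sqC.lift_fst]) sqC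
    rw [← Functor.map_comp, htt, show h'.hom ≫ c.hom = h.hom from congrArg (fun k => k.hom) fac]
    exact sqT
  haveI : IsClosedImmersion t.left.imageι := inferInstanceAs (IsClosedImmersion t.left.ker.subschemeι)
  obtain ⟨m, hm⟩ : ∃ m, m ≫ iU.left = t.left.imageι :=
    ⟨IsClosedImmersion.lift iU.left t.left.imageι (by rw [hker]; exact le_of_eq t.left.ker.ker_subschemeι.symm),
      IsClosedImmersion.lift_fac _ _ _⟩
  haveI : IsIso m := IsClosedImmersion.isIso_of_ker_eq t.left.imageι iU.left m hm (by
    rw [hker]; exact t.left.ker.ker_subschemeι)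
  have ht'm : t'.left = t.left.toImage ≫ m := by
    rw [← cancel_mono iU.left, Category.assoc, hm, t.left.toImage_imageι, ← Over.comp_left, htt]
  obtain ⟨hI, -, hdr⟩ := Groth.Agent.S9385.result t.left
    (hyp.elim (fun h => Or.inl h.1) (fun h => Or.inr h.1))
  haveI := hI
  haveI : IsOpenImmersion t'.left := by rw [ht'm]; infer_instance
  have hdr' : DenseRange t'.left := by
    rw [ht'm, Scheme.Hom.comp_base, TopCat.coe_comp]
    exact (Scheme.homeoOfIso (asIso m)).surjective.denseRange.comp hdr m.continuous
  have hqf : RepWith fppf q := ⟨hqe.rep, fun _ _ g fst snd sq => by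
    haveI : Etale snd.left := hqe.property g fst snd sq
    haveI : Surjective snd.left := hqs.property g fst snd sq
    exact fppf_of_etale snd.left⟩
  have hop : RepWith @IsOpenImmersion h'.hom :=
    Fppf.repWith_isOpenImmersion_of_fppf_cover hqf sqh ((repWith_yon_map_iff _ _).2 ‹_›)
  have hr' : Set.range t'.left = (SchDenseSp.pre Zbar.property hop q : Set ↥ZU.left) :=
    SchDenseSp.range_snd Zbar.property hop sqh
  refine ⟨hop, ?_, ?_⟩
  · refine SchDenseSp.isSchDense_of_atlas Zbar.property hop hqe hqs ?_
    have e : SchDenseSp.pre Zbar.property hop q = t'.left.opensRange := TopologicalSpace.Opens.ext hr'.symm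
    rw [e]
    rcases hyp with ⟨hqc, -⟩ | ⟨-, hZr, -⟩
    · haveI := hqc
      haveI : QuasiCompact t'.left := by
        haveI : QuasiCompact (t'.left ≫ iU.left) := by rw [← Over.comp_left, htt]; infer_instance
        exact QuasiCompact.of_comp t'.left iU.left
      have e' : t'.left.isoOpensRange.inv ≫ t'.left = t'.left.opensRange.ι := by
        rw [Iso.inv_comp_eq, Scheme.Hom.isoOpensRange_hom_ι]
      haveI : QuasiCompact t'.left.opensRange.ι := by rw [← e']; infer_instance
      refine (SchDenseFacts.iff_ker_eq_bot _).2 ?_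
      have hto := Groth.Agent.Triage.SchDense.isSchemeTheoreticallyDominant_toImage t.left
      rw [← e', Scheme.Hom.ker_comp_of_isIso, ht'm, Scheme.Hom.ker_comp, hto.ker_eq_bot,
        Scheme.IdealSheafData.map_bot, Scheme.Hom.ker_eq_bot_of_isIso]
    · haveI := hZr
      refine (SchDenseLib.iff_eq_zero _).2 fun V s hs => ?_
      refine AlgebraicGeometry.eq_zero_of_basicOpen_eq_bot s ?_
      by_contra hne
      obtain ⟨x, hx⟩ := Set.nonempty_iff_ne_empty.2 (fun h0 => hne (TopologicalSpace.Opens.ext h0))
      obtain ⟨y, hy⟩ := hdr'.exists_mem_open (ZU.left.basicOpen s).isOpen ⟨x, hx⟩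
      have h2 : t'.left y ∈ ZU.left.basicOpen (ZU.left.presheaf.map (homOfLE (inf_le_left : V ⊓ t'.left.opensRange ≤ V)).op s) := by
        rw [Scheme.basicOpen_res]
        exact ⟨⟨ZU.left.basicOpen_le s hy, ⟨y, rfl⟩⟩, hy⟩
      rw [hs, Scheme.basicOpen_zero] at h2
      exact h2
  · have h1 : Dense (Points.ofPt q '' Set.range t'.left) :=
      DenseRange.dense_image (surjective_ofPt hqs).denseRange (Points.continuous_ofPt q) hdr'
    refine h1.mono ?_
    rintro _ ⟨_, ⟨y, rfl⟩, rfl⟩
    exact ⟨Points.ofPt (hh.rep.fst b) y, by rw [Points.map_ofPt, sqh.w, ofPt_comp]⟩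

end Groth.Agent.S9971
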