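import Groth.Statements.S9972
import Groth.Agent.AlgSpLib.Rep

set_option autoImplicit false
universe u
open CategoryTheory CategoryTheory.Limits AlgebraicGeometry
open AlgSp

namespace Groth.Agent.S9972

set_option backward.isDefEq.respectTransparency false
set_option backward.isDefEq.respectTransparency.types false

/-- Two morphisms to an algebraic space separated over B that agree on an open subspace whose scheme
theoretic closure is everything are equal. -/
theorem result {S : Scheme.{u}} {U X Y B : AlgSp.Space S} (q : Y ⟶ B)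
    (hq : AlgSp.IsSeparatedMor q.hom) (f g : X ⟶ Y) (hfg : f ≫ q = g ≫ q) (j : U ⟶ X)
    (hj : AlgSp.RepWith @IsOpenImmersion j.hom) (hcl : AlgSp.IsSchImage j.hom (𝟙 X.obj)) (heq : j ≫ f = j ≫ g) :
    f = g := by
  have hδ : AlgSp.RepWith @IsClosedImmersion (pullback.diagonal q.hom) := hq
  let ψ : X.obj ⟶ pullback q.hom q.hom := pullback.lift f.hom g.hom (congrArg InducedCategory.Hom.hom hfg)
  have hs : AlgSp.RepWith @IsClosedImmersion (pullback.snd (pullback.diagonal q.hom) ψ) :=
    MorphismProperty.pullback_snd (P := AlgSp.RepWith @IsClosedImmersion) _ _ hδ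
  have hE : AlgSp.IsAlgSpace (pullback (pullback.diagonal q.hom) ψ) :=
    Groth.Agent.AlgSpLib.isAlgSpace_of_representable _ hs.rep X.property
  have hj' : (j.hom ≫ f.hom) ≫ pullback.diagonal q.hom = j.hom ≫ ψ := by
    have e : j.hom ≫ f.hom = j.hom ≫ g.hom := congrArg InducedCategory.Hom.hom heq
    apply pullback.hom_ext
    · simp [ψ]
    · simpa [ψ] using e
  obtain ⟨k, hk⟩ := hcl.2.2 (pullback.snd (pullback.diagonal q.hom) ψ) hE hs
    ⟨pullback.lift _ _ hj', pullback.lift_snd _ _ _⟩
  apply ObjectProperty.hom_ext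
  have hc := pullback.condition (f := pullback.diagonal q.hom) (g := ψ)
  have h1 := congrArg (fun φ => k ≫ φ ≫ pullback.fst q.hom q.hom) hc
  have h2 := congrArg (fun φ => k ≫ φ ≫ pullback.snd q.hom q.hom) hc
  simp only [Category.assoc, pullback.diagonal_fst, pullback.diagonal_snd, Category.comp_id, ψ,
    pullback.lift_fst, pullback.lift_snd, reassoc_of% hk, Category.id_comp] at h1 h2
  exact h1.symm.trans h2

end Groth.Agent.S9972
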