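import Groth.Statements.S9973
import Groth.Agent.AlgSpDec.SchDenseSp
import Groth.Agent.AlgSpDec.SchDenseClosure
import Groth.Agent.AlgSpDec.SchImage
-- import your own Groth.Agent.* helpers here

set_option autoImplicit false
universe u
open CategoryTheory CategoryTheory.Limits AlgebraicGeometry
open AlgSp

namespace Groth.Agent.S9973

set_option backward.isDefEq.respectTransparency false
set_option backward.isDefEq.respectTransparency.types false

open AlgSp Groth.Agent.AlgSpLib Groth.Agent.AlgSpPts Groth.Agent.AlgSpDec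

/-- The inverse image of a quasi-compact scheme theoretically dense open under a flat morphism of
algebraic spaces is scheme theoretically dense. -/
theorem result {S : Scheme.{u}} {X Y V V' : AlgSp.Space S} (f : X ⟶ Y)
    (hf : AlgSp.LocP @Flat f.hom) (j : V ⟶ Y) (hj : AlgSp.IsSchDense j.hom) (hjq : AlgSp.IsQuasiCompactMor j.hom)
    (fst : V' ⟶ V) (jX : V' ⟶ X) (sq : IsPullback fst.hom jX.hom j.hom f.hom) : AlgSp.IsSchDense jX.hom := by
  have hop : RepWith @IsOpenImmersion jX.hom := repWith_of_isPullback sq hj.1
  obtain ⟨U, W, a, b, h, ha, ha', hb, -, w⟩ := exists_chart X.property Y.property f.hom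
  haveI : Flat h.left := hf a b h ha hb w
  refine SchDenseSp.isSchDense_of_atlas X.property hop ha ha' ?_
  haveI := SchDenseSp.quasiCompact_pre_ι Y.property hj.1 hjq b
  have e : SchDenseSp.pre X.property hop a = h.left ⁻¹ᵁ SchDenseSp.pre Y.property hj.1 b := by
    rw [SchDenseSp.preimage_pre, ← w]
    ext v
    show Points.ofPt a v ∈ Set.range (Points.map jX.hom) ↔ Points.ofPt (a ≫ f.hom) v ∈ Set.range (Points.map j.hom)
    rw [← Points.map_ofPt a f.hom v]
    constructor
    · rintro ⟨p, hp⟩
      exact ⟨Points.map fst.hom p, by rw [← Points.map_comp, sq.w, Points.map_comp, hp]⟩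
    · rintro ⟨y, hy⟩
      obtain ⟨p, -, hp⟩ := exists_point_of_isPullback sq hy
      exact ⟨p, hp⟩
  rw [e]
  exact SchDenseFacts.preimage_of_flat_qc h.left _ (SchDenseSp.dense_pre Y.property hj hb)
    (SchDenseFacts.isCompact_inf_of_quasiCompact _)

end Groth.Agent.S9973
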