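import Groth.Statements.S9974
import Groth.Agent.AlgSpDec.SchImageChart
-- import your own Groth.Agent.* helpers here

set_option autoImplicit false
universe u
open CategoryTheory CategoryTheory.Limits AlgebraicGeometry
open AlgSp

namespace Groth.Agent.S9974

set_option backward.isDefEq.respectTransparency false
set_option backward.isDefEq.respectTransparency.types false

open AlgSp Groth.Agent.AlgSpLib Groth.Agent.AlgSpPts Groth.Agent.AlgSpDec

/-- For a flat morphism of algebraic spaces, the scheme theoretic image of a quasi-compact morphism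
pulls back to the scheme theoretic image of the pulled-back morphism. -/
theorem result {S : Scheme.{u}} {X Y V Z VX ZX : AlgSp.Space S} (f : X ⟶ Y)
    (hf : AlgSp.LocP @Flat f.hom) (g : V ⟶ Y) (hg : AlgSp.IsQuasiCompactMor g.hom) (i : Z ⟶ Y)
    (hZ : AlgSp.IsSchImage g.hom i.hom) (g₁ : VX ⟶ V) (gX : VX ⟶ X) (sqV : IsPullback g₁.hom gX.hom g.hom f.hom)
    (i₁ : ZX ⟶ Z) (iX : ZX ⟶ X) (sqZ : IsPullback i₁.hom iX.hom i.hom f.hom) :
    AlgSp.IsSchImage gX.hom iX.hom := by
  have hic : RepWith @IsClosedImmersion iX.hom := repWith_of_isPullback sqZ hZ.1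
  refine ⟨hic, ?_, fun Z' i' _ hi' hf' => ?_⟩
  · obtain ⟨f₁, hf₁⟩ := hZ.2.1
    exact ⟨sqZ.lift (g₁.hom ≫ f₁) gX.hom (by rw [Category.assoc, hf₁, sqV.w]), sqZ.lift_snd _ _ _⟩
  obtain ⟨U, T, b, c, k, hb, hbs, hc, hcs, hk, hkq⟩ := exists_qc_chart V.property Y.property hg
  haveI := hkq
  have hker := schImage_chart V.property Y.property hb hbs hc hcs hk hZ
  obtain ⟨W, a₀, h, h1, h2, h3⟩ := exists_chart_over X.property Y.property f.hom b
  let a := a₀ ≫ pullback.fst f.hom b
  have ha : RepWith @Etale a := repWith_comp h1 (repWith_fst f.hom hb)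
  have has : RepWith @Surjective a := repWith_comp h2 (repWith_fst f.hom hbs)
  have w : a ≫ f.hom = (yon S).map h ≫ b := by rw [Category.assoc, pullback.condition, ← Category.assoc, h3]
  haveI : Flat h.left := hf a b h ha hb w
  have : Mono i' := mono_of_closedImmersion hi'
  refine exists_factor_of_cover (repWith_of_isPullback (IsPullback.of_hasPullback iX.hom a).flip ha)
    (repWith_of_isPullback (IsPullback.of_hasPullback iX.hom a).flip has) iX.hom ?_
  haveI : IsClosedImmersion (hic.rep.snd a).left := hic.property_snd a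
  haveI : IsClosedImmersion (hi'.rep.snd a).left := hi'.property_snd a
  haveI : IsClosedImmersion (hZ.1.rep.snd b).left := hZ.1.property_snd b
  let e := (hic.rep.isPullback a).isoPullback
  obtain ⟨f'', hf''⟩ := hf'
  let sqT := (IsPullback.of_hasPullback k h).map (Over.forget S)
  have hcomm : (yon S).map (pullback.fst k h) ≫ c ≫ pullback.fst g.hom b ≫ g.hom =
      (yon S).map (pullback.snd k h) ≫ a ≫ f.hom := by
    rw [pullback.condition, reassoc_of% hk, w, ← Functor.map_comp_assoc, ← Functor.map_comp_assoc, pullback.condition]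
  obtain ⟨μ, hμ⟩ := sqV.exists_lift ((yon S).map (pullback.fst k h) ≫ c ≫ pullback.fst g.hom b)
    ((yon S).map (pullback.snd k h) ≫ a) (by simpa only [Category.assoc] using hcomm)
  have h5 := (factor_iff_of_isPullback (hi'.rep.isPullback a) (pullback.snd k h)).2 ⟨μ ≫ f'', by
    rw [Category.assoc, hf'', hμ.2]⟩
  rw [factor_iff_ker_le] at h5
  have h4 : (pullback.snd k h).left.ker = k.left.ker.comap h.left := by
    rw [← Groth.Agent.S4667.result k.left h.left, ← Scheme.Hom.ker_comp_of_isIso sqT.isoPullback.hom]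
    congr 1
    exact sqT.isoPullback_hom_snd.symm
  have h6 : k.left.ker.comap h.left ≤ (hic.rep.snd a).left.ker := by
    rw [← hker, ← Scheme.IdealSheafData.le_map_iff_comap_le, ← Scheme.Hom.ker_comp, ← Over.comp_left,
      ← factor_iff_ker_le (hZ.1.rep.snd b), factor_iff_of_isPullback (hZ.1.rep.isPullback b)]
    exact ⟨hic.rep.fst a ≫ i₁.hom, by
      rw [Category.assoc, sqZ.w, reassoc_of% (hic.rep.w a), w, Functor.map_comp, Category.assoc]⟩
  obtain ⟨m, hm⟩ := (factor_iff_of_isPullback (hi'.rep.isPullback a) (hic.rep.snd a)).1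
    ((factor_iff_ker_le _ _).2 (h5.trans (h4.le.trans h6)))
  refine ⟨e.inv ≫ m, ?_⟩
  rw [Category.assoc, hm, IsPullback.isoPullback_inv_snd_assoc, ← pullback.condition]

end Groth.Agent.S9974
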