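import Groth.Statements.S9976
import Groth.Agent.AlgSpPts.FTPoints
import Mathlib.AlgebraicGeometry.AlgClosed.Basic
import Mathlib.FieldTheory.IsAlgClosed.AlgebraicClosure
-- import your own Groth.Agent.* helpers here

set_option autoImplicit false
universe u
open CategoryTheory CategoryTheory.Limits AlgebraicGeometry
open AlgSp

namespace Groth.Agent.S9976

set_option backward.isDefEq.respectTransparency false
set_option backward.isDefEq.respectTransparency.types false

open AlgSp Groth.Agent.AlgSpLib Groth.Agent.AlgSpPts

/-- Under a surjective morphism locally of finite type, every finite type point of the target is the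
image of a finite type point of the source. (The published lemma states that the two sets of finite
type points correspond exactly; the inclusion of the image in the finite type points of the target
holds for every morphism locally of finite type and is omitted here.) -/
theorem result {S : Scheme.{u}} {X Y : AlgSp.Space S} (f : X ⟶ Y)
    (hf : AlgSp.LocP @LocallyOfFiniteType f.hom) (hs : AlgSp.IsSurjectiveMor f.hom) (y : AlgSp.Points Y.obj)
    (hy : ∃ (k : Type u) (_ : Field k) (str : Spec (CommRingCat.of k) ⟶ S) (ξ : (AlgSp.yon S).obj (Over.mk str) ⟶ Y.obj),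
        AlgSp.LocP @LocallyOfFiniteType ξ ∧ AlgSp.Points.ofPt ξ (IsLocalRing.closedPoint k) = y) :
    ∃ x : AlgSp.Points X.obj, AlgSp.Points.map f.hom x = y ∧
      ∃ (k : Type u) (_ : Field k) (str : Spec (CommRingCat.of k) ⟶ S) (ξ : (AlgSp.yon S).obj (Over.mk str) ⟶ X.obj),
        AlgSp.LocP @LocallyOfFiniteType ξ ∧ AlgSp.Points.ofPt ξ (IsLocalRing.closedPoint k) = x :=  by
  obtain ⟨k, _, str, ξ, hξ, rfl⟩ := hy
  have sq := IsPullback.of_hasPullback f.hom ξ
  have hP : IsAlgSpace (pullback f.hom ξ) := isAlgSpace_pullback X.property (IsAlgSpace.yon_obj _) Y.property _ _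
  obtain ⟨c, hc⟩ := surjective_map_of_isPullback sq hs (Points.ofScheme _ (IsLocalRing.closedPoint k))
  obtain ⟨U, φ, u, hφ, hu, -⟩ := exists_closed_point_mem hP (T := Set.univ) isOpen_univ.isLocallyClosed ⟨c, trivial⟩
  obtain ⟨k', _, str', ξ', hξ', he⟩ := ftPoint_of_closed_point hφ u hu
  refine ⟨Points.map (pullback.fst f.hom ξ) (Points.ofPt φ u), ?_, k', inferInstance, str', ξ' ≫ pullback.fst f.hom ξ,
    locP_comp (IsAlgSpace.yon_obj _) hP X.property hξ'
      (locP_of_isPullback sq.flip (IsAlgSpace.yon_obj _) Y.property X.property hξ), ?_⟩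
  · rw [← Points.map_comp, pullback.condition, Points.map_comp]
    obtain ⟨t, ht⟩ := (Points.schemeHomeo _).surjective (Points.map (pullback.snd f.hom ξ) (Points.ofPt φ u))
    rw [← ht]
    change Points.map ξ (Points.ofPt (𝟙 _) t) = _
    rw [Points.map_ofPt, Category.id_comp]
    exact congrArg (Points.ofPt ξ) (@Subsingleton.elim _ (inferInstanceAs (Subsingleton ↥(Spec (CommRingCat.of k)))) _ _)
  · rw [← Points.map_ofPt, he]


end Groth.Agent.S9976
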