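import Groth.Statements.S9977
import Groth.Agent.AlgSpPts.FTPoints
import Mathlib.AlgebraicGeometry.AlgClosed.Basic
import Mathlib.FieldTheory.IsAlgClosed.AlgebraicClosure
-- import your own Groth.Agent.* helpers here

set_option autoImplicit false
universe u
open CategoryTheory CategoryTheory.Limits AlgebraicGeometry
open AlgSp

namespace Groth.Agent.S9977

set_option backward.isDefEq.respectTransparency false
set_option backward.isDefEq.respectTransparency.types false

open AlgSp Groth.Agent.AlgSpLib Groth.Agent.AlgSpPts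

/-- Every nonempty locally closed subset of |X| contains a finite type point, and finite type points are
dense in every closed subset. -/
theorem result {S : Scheme.{u}} (X : AlgSp.Space S) :
    (∀ T : Set (AlgSp.Points X.obj), IsLocallyClosed T → T.Nonempty →
      ∃ x ∈ T, (∃ (k : Type u) (_ : Field k) (str : Spec (CommRingCat.of k) ⟶ S) (ξ : (AlgSp.yon S).obj (Over.mk str) ⟶ X.obj),
        AlgSp.LocP @LocallyOfFiniteType ξ ∧ AlgSp.Points.ofPt ξ (IsLocalRing.closedPoint k) = x)) ∧
    (∀ T : Set (AlgSp.Points X.obj), IsClosed T →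
      T ⊆ closure {x | x ∈ T ∧ (∃ (k : Type u) (_ : Field k) (str : Spec (CommRingCat.of k) ⟶ S) (ξ : (AlgSp.yon S).obj (Over.mk str) ⟶ X.obj),
        AlgSp.LocP @LocallyOfFiniteType ξ ∧ AlgSp.Points.ofPt ξ (IsLocalRing.closedPoint k) = x)}) :=  by
  have key : ∀ T : Set (AlgSp.Points X.obj), IsLocallyClosed T → T.Nonempty →
      ∃ x ∈ T, (∃ (k : Type u) (_ : Field k) (str : Spec (CommRingCat.of k) ⟶ S)
        (ξ : (AlgSp.yon S).obj (Over.mk str) ⟶ X.obj),
        AlgSp.LocP @LocallyOfFiniteType ξ ∧ AlgSp.Points.ofPt ξ (IsLocalRing.closedPoint k) = x) := by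
    intro T hT hne
    obtain ⟨U, φ, u, hφ, hu, hT'⟩ := exists_closed_point_mem X.property hT hne
    exact ⟨_, hT', ftPoint_of_closed_point hφ u hu⟩
  refine ⟨key, fun T hT x hx => mem_closure_iff.2 fun O hO hxO => ?_⟩
  obtain ⟨y, hy, hy'⟩ := key (O ∩ T) (hO.isLocallyClosed.inter hT.isLocallyClosed) ⟨x, hxO, hx⟩
  exact ⟨y, hy.1, hy.2, hy'⟩


end Groth.Agent.S9977
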