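import Groth.Statements.S9978
import Groth.Agent.AlgSpDec.NagataLocal
import Groth.Agent.AlgSpLib.EtLocalInst

set_option autoImplicit false
set_option backward.isDefEq.respectTransparency false
set_option backward.isDefEq.respectTransparency.types false
universe u
open CategoryTheory CategoryTheory.Limits AlgebraicGeometry
open AlgSp Groth.Agent Groth.Agent.AlgSpLib

namespace Groth.Agent.S9978

/-- An algebraic space locally of finite type over a Nagata algebraic space is Nagata. -/
theorem result {S : Scheme.{u}} {X Y : AlgSp.Space S} (f : X ⟶ Y)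
    (hf : AlgSp.LocP @LocallyOfFiniteType f.hom)
    (hY : AlgSp.EtaleLocally (fun U => ∀ V : U.Opens, IsAffineOpen V → CAlg.IsNagata ↑Γ(U, V)) Y.obj) :
    AlgSp.EtaleLocally (fun U => ∀ V : U.Opens, IsAffineOpen V → CAlg.IsNagata ↑Γ(U, V)) X.obj := by
  obtain ⟨V, b, hb, hbs, hV⟩ := hY
  obtain ⟨U, a, ha, has⟩ := X.property.atlas
  let W := hb.rep.pullback (a ≫ f.hom)
  let π : W ⟶ U := hb.rep.snd (a ≫ f.hom)
  let h : W ⟶ V := hb.rep.fst' (a ≫ f.hom)
  have sq := hb.rep.isPullback' (a ≫ f.hom)
  haveI : Etale π.left := hb.property_snd _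
  haveI : Surjective π.left := hbs.property_snd _
  have ha' : RepWith @Etale ((yon S).map π ≫ a) :=
    repWith_comp ((repWith_yon_map_iff _ _).2 ‹Etale π.left›) ha
  have has' : RepWith @Surjective ((yon S).map π ≫ a) :=
    repWith_comp ((repWith_yon_map_iff _ _).2 ‹Surjective π.left›) has
  have hc : ((yon S).map π ≫ a) ≫ f.hom = (yon S).map h ≫ b := by rw [Category.assoc]; exact sq.w.symm
  haveI : LocallyOfFiniteType h.left := hf ((yon S).map π ≫ a) b h ha' hb hc
  exact ⟨W, (yon S).map π ≫ a, ha', has', fun W' hW' => AlgSpDec.NagataLocal.isNagata_affineOpen h.left (fun U' : V.left.affineOpens => U'.1) (AlgebraicGeometry.iSup_affineOpens_eq_top _) (fun U' => U'.2) (fun U' => hV U'.1 U'.2) W' hW'⟩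

end Groth.Agent.S9978
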