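import Groth.Statements.S9980
import Groth.Agent.AlgSpDec.QuotRep
import Groth.Agent.AlgSpPts.FTPoints
import Groth.Agent.AlgSpDec.SpQuot
import Groth.Agent.AlgSpDec.OneFlat

set_option autoImplicit false
universe u
open CategoryTheory CategoryTheory.Limits AlgebraicGeometry
open AlgSp

namespace Groth.Agent.S9980

set_option backward.isDefEq.respectTransparency false
set_option backward.isDefEq.respectTransparency.types false

open AlgSp Groth.Agent.AlgSpLib Groth.Agent.AlgSpPts Groth.Agent.AlgSpDec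

theorem isOpenImmersion_of_discrete {Z R : Scheme.{u}} (i : Z ⟶ R) [IsClosedImmersion i] [IsReduced R]
    [DiscreteTopology ↥R] : IsOpenImmersion i := by
  let O : R.Opens := ⟨Set.range i, isOpen_discrete _⟩
  let i' : Z ⟶ O.toScheme := IsOpenImmersion.lift O.ι i (by rw [Scheme.Opens.range_ι]; exact subset_rfl)
  have hi' : i' ≫ O.ι = i := IsOpenImmersion.lift_fac _ _ _
  have : IsClosedImmersion (i' ≫ O.ι) := by rw [hi']; infer_instance
  have : IsClosedImmersion i' := IsClosedImmersion.of_comp i' O.ι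
  have : Surjective i' := ⟨fun o => by
    obtain ⟨z, hz⟩ := o.2
    refine ⟨z, Subtype.ext ?_⟩
    rw [← hz, ← hi']
    rfl⟩
  have : IsIso i' := isIso_of_isClosedImmersion_of_surjective i'
  rw [← hi']
  infer_instance

variable {S : Scheme.{u}}

theorem exists_mono_quot {X : AlgSp.Space S} {U : Over S} {φ : (yon S).obj U ⟶ X.obj}
    (hφ : RepWith @Etale φ) (u : ↥U.left) (hu : IsClosed ({u} : Set ↥U.left)) :
    ∃ (Z : AlgSp.Space S) (f : Z ⟶ X) (k : Type u) (_ : Field k) (str : Spec (CommRingCat.of k) ⟶ S)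
      (z : (yon S).obj (Over.mk str) ⟶ Z.obj), RepWith @Etale z ∧ RepWith @Surjective z ∧
        LocP @LocallyOfFiniteType f.hom ∧ Mono f.hom ∧
        Points.ofPt (z ≫ f.hom) (IsLocalRing.closedPoint k) = Points.ofPt φ u := by
  let str : Spec (CommRingCat.of ↥(U.left.residueField u)) ⟶ S := U.left.fromSpecResidueField u ≫ U.hom
  let c : Over.mk str ⟶ U := Over.homMk (U.left.fromSpecResidueField u) rfl
  have : IsClosedImmersion c.left := isClosed_singleton_iff_isClosedImmersion.1 hu
  let ξ : (yon S).obj (Over.mk str) ⟶ X.obj := (yon S).map c ≫ φ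
  let p := hφ.rep.snd ξ
  let q := hφ.rep.fst' ξ
  have hp : Etale p.left := hφ.property_snd ξ
  have sq₁ : IsPullback ((yon S).map q) ((yon S).map p) φ ξ := hφ.rep.isPullback' ξ
  have sq₂ := (IsPullback.of_hasPullback c q).map (yon S)
  have sq := (sq₂.flip.paste_horiz sq₁.flip).flip
  rw [← Functor.map_comp] at sq
  let t := pullback.fst c q
  let s := pullback.snd c q ≫ p
  have : DiscreteTopology ↥(hφ.rep.pullback ξ).left := by
    let p' : (hφ.rep.pullback ξ).left ⟶ Spec (CommRingCat.of ↥(U.left.residueField u)) := p.left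
    have : Etale p' := hp
    have h1 := p'.isDiscrete_preimage_singleton (IsLocalRing.closedPoint _)
    rw [show p' ⁻¹' {IsLocalRing.closedPoint ↥(U.left.residueField u)} = Set.univ from
      Set.eq_univ_of_forall fun x => Subsingleton.elim _ _] at h1
    exact isDiscrete_univ_iff.1 h1
  have : IsReduced (hφ.rep.pullback ξ).left :=
    isReduced_of_etaleMor (X := (hφ.rep.pullback ξ).left) (Y := Spec (CommRingCat.of ↥(U.left.residueField u))) p.left
  have : IsClosedImmersion (pullback.snd c q).left :=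
    MorphismProperty.of_isPullback ((IsPullback.of_hasPullback c q).map (Over.forget S)) ‹IsClosedImmersion c.left›
  have : IsOpenImmersion (pullback.snd c q).left := isOpenImmersion_of_discrete _
  have hs : Etale s.left := inferInstanceAs (Etale ((pullback.snd c q).left ≫ p.left))
  have sqk : IsPullback ((yon S).map t) ((yon S).map s) ξ ξ := sq
  let Z₀ := Sheaf.image ξ
  let z : (yon S).obj (Over.mk str) ⟶ Z₀ := Sheaf.toImage ξ
  let f : Z₀ ⟶ X.obj := Sheaf.imageι ξ
  have hzf : z ≫ f = ξ := Sheaf.toImage_ι ξ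
  have sqz : IsPullback ((yon S).map t) ((yon S).map s) z z :=
    IsKernelPair.cancel_right_of_mono (f₂ := f) (by rw [hzf]; exact sqk)
  have : Surjective s.left := by
    obtain ⟨Δ, -, hΔ⟩ : ∃ Δ, Δ ≫ (yon S).map t = 𝟙 _ ∧ Δ ≫ (yon S).map s = 𝟙 _ :=
      ⟨sqk.lift (𝟙 _) (𝟙 _) rfl, sqk.lift_fst _ _ _, sqk.lift_snd _ _ _⟩
    obtain ⟨d, rfl⟩ := (yon S).map_surjective Δ
    rw [← Functor.map_comp, ← (yon S).map_id] at hΔ
    have e := congrArg CommaMorphism.left ((yon S).map_injective hΔ)
    refine ⟨fun x => ⟨d.left x, ?_⟩⟩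
    exact (Scheme.Hom.comp_apply d.left s.left x).symm.trans (congrArg (fun g => (g : (Over.mk str).left ⟶ _) x) e)
  have hZ : IsAlgSpace Z₀ := isAlgSpace_of_etale_kernelPair sqz
  have hr : Representable z := representable_of_kernelPair sqz
  have := isLocalAtTarget_fppf (@Etale : MorphismProperty Scheme.{u})
  have := isLocalAtTarget_fppf (@Surjective : MorphismProperty Scheme.{u})
  have hze : RepWith @Etale z := repWith_of_locallySurjective hr _ sqz @Etale ((repWith_yon_map_iff _ _).2 hs)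
  have hzs : RepWith @Surjective z :=
    repWith_of_locallySurjective hr _ sqz @Surjective ((repWith_yon_map_iff _ _).2 ‹_›)
  have hξ : LocP @LocallyOfFiniteType ξ := locP_of_repWith (repWith_comp ((repWith_yon_map_iff _ _).2
      (inferInstanceAs (LocallyOfFiniteType c.left)))
      (repWith_mono (fun A B g (hg : Etale g) => (inferInstance : LocallyOfFiniteType g)) _ hφ))
  refine ⟨⟨Z₀, hZ⟩, ObjectProperty.homMk f, ↥(U.left.residueField u), inferInstance, str, z, hze, hzs,
    locP_of_precomp hze hzs (by show LocP @LocallyOfFiniteType (z ≫ f); rw [hzf]; exact hξ),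
    (inferInstance : Mono f), ?_⟩
  show Points.ofPt (z ≫ f) _ = _
  rw [hzf, ofPt_comp]
  exact congrArg (Points.ofPt φ) (Scheme.fromSpecResidueField_apply _ _)

/-- Characterizations of finite type points via one-point algebraic spaces locally of finite type over X
and via monomorphisms from quotients of spectra of fields. -/
theorem result {S : Scheme.{u}} (X : AlgSp.Space S) (x : AlgSp.Points X.obj) :
    ((∃ (k : Type u) (_ : Field k) (str : Spec (CommRingCat.of k) ⟶ S) (ξ : (AlgSp.yon S).obj (Over.mk str) ⟶ X.obj),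
        AlgSp.LocP @LocallyOfFiniteType ξ ∧ AlgSp.Points.ofPt ξ (IsLocalRing.closedPoint k) = x) ↔
      ∃ (Z : AlgSp.Space S) (f : Z ⟶ X), Nonempty (Unique (AlgSp.Points Z.obj)) ∧
        AlgSp.LocP @LocallyOfFiniteType f.hom ∧ Set.range (AlgSp.Points.map f.hom) = {x}) ∧
    ((∃ (k : Type u) (_ : Field k) (str : Spec (CommRingCat.of k) ⟶ S) (ξ : (AlgSp.yon S).obj (Over.mk str) ⟶ X.obj),
        AlgSp.LocP @LocallyOfFiniteType ξ ∧ AlgSp.Points.ofPt ξ (IsLocalRing.closedPoint k) = x) ↔
      ∃ (Z : AlgSp.Space S) (f : Z ⟶ X) (k : Type u) (_ : Field k) (str : Spec (CommRingCat.of k) ⟶ S)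
        (z : (AlgSp.yon S).obj (Over.mk str) ⟶ Z.obj), AlgSp.RepWith @Etale z ∧ AlgSp.RepWith @Surjective z ∧
        AlgSp.LocP @LocallyOfFiniteType f.hom ∧ Mono f.hom ∧
        AlgSp.Points.ofPt (z ≫ f.hom) (IsLocalRing.closedPoint k) = x) := by
  have key : (∃ (k : Type u) (_ : Field k) (str : Spec (CommRingCat.of k) ⟶ S)
        (ξ : (AlgSp.yon S).obj (Over.mk str) ⟶ X.obj),
        AlgSp.LocP @LocallyOfFiniteType ξ ∧ AlgSp.Points.ofPt ξ (IsLocalRing.closedPoint k) = x) ↔
      ∃ (Z : AlgSp.Space S) (f : Z ⟶ X) (k : Type u) (_ : Field k) (str : Spec (CommRingCat.of k) ⟶ S)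
        (z : (AlgSp.yon S).obj (Over.mk str) ⟶ Z.obj), AlgSp.RepWith @Etale z ∧ AlgSp.RepWith @Surjective z ∧
        AlgSp.LocP @LocallyOfFiniteType f.hom ∧ Mono f.hom ∧
        AlgSp.Points.ofPt (z ≫ f.hom) (IsLocalRing.closedPoint k) = x := by
    constructor
    · rintro ⟨k, _, str, ξ, hξ, rfl⟩
      obtain ⟨U, φ, u, hφ, hu, he⟩ := exists_closed_point_of_ftPoint X.property hξ
      rw [← he]
      exact exists_mono_quot hφ u hu
    · rintro ⟨Z, f, k, _, str, z, hz, -, hf, -, hx⟩
      exact ⟨k, inferInstance, str, z ≫ f.hom, locP_comp (IsAlgSpace.yon_obj _) Z.property X.property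
        (locP_of_repWith (repWith_mono (fun A B g (hg : Etale g) => (inferInstance : LocallyOfFiniteType g)) _ hz))
        hf, hx⟩
  refine ⟨⟨fun h => ?_, ?_⟩, key⟩
  · obtain ⟨Z, f, k, _, str, z, hz, hzs, hf, -, hx⟩ := key.1 h
    have : Subsingleton ↥(Over.mk str).left := inferInstanceAs (Subsingleton (PrimeSpectrum k))
    have hall : ∀ y, y = Points.ofPt z (IsLocalRing.closedPoint k) := fun y => by
      obtain ⟨v, rfl⟩ := surjective_ofPt hzs y
      exact congrArg _ (Subsingleton.elim v _)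
    refine ⟨Z, f, ⟨⟨⟨Points.ofPt z (IsLocalRing.closedPoint k)⟩, hall⟩⟩, hf, ?_⟩
    refine Set.eq_singleton_iff_unique_mem.2 ⟨⟨_, by rw [Points.map_ofPt]; exact hx⟩, ?_⟩
    rintro _ ⟨y, rfl⟩
    rw [hall y, Points.map_ofPt]; exact hx
  · rintro ⟨Z, f, ⟨hU⟩, hf, hr⟩
    have := hU
    obtain ⟨U, φ, u, hφ, hu, -⟩ := exists_closed_point_mem Z.property (T := Set.univ)
      isOpen_univ.isLocallyClosed ⟨default, trivial⟩
    obtain ⟨k, _, str, ξ, hξ, -⟩ := ftPoint_of_closed_point hφ u hu
    refine ⟨k, inferInstance, str, ξ ≫ f.hom, locP_comp (IsAlgSpace.yon_obj _) Z.property X.property hξ hf, ?_⟩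
    have h1 : Points.map f.hom (Points.ofPt ξ (IsLocalRing.closedPoint k)) ∈ ({x} : Set _) := hr ▸ ⟨_, rfl⟩
    rwa [Points.map_ofPt] at h1

end Groth.Agent.S9980
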