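import Groth.Statements.S9982
import Groth.Agent.AlgSpDec.ConstrDescent
import Groth.Agent.AlgSpLib.LocalBaseTop
import Groth.Agent.AlgSpPts.Misc
import Groth.Agent.AlgSpPts.FTPoints

set_option autoImplicit false
universe u
open CategoryTheory CategoryTheory.Limits AlgebraicGeometry
open AlgSp

namespace Groth.Agent.S9982

set_option backward.isDefEq.respectTransparency false
set_option backward.isDefEq.respectTransparency.types false

open AlgSp Groth.Agent.AlgSpLib Groth.Agent.AlgSpPts Groth.Agent.AlgSpDec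

theorem key {S : Scheme.{u}} {X Y : AlgSp.Space S} (f : X ⟶ Y)
    (hq : IsQuasiCompactMor f.hom) (hfp : LocP @LocallyOfFinitePresentation f.hom)
    (E : Set (Points X.obj))
    (hE : ∀ (U : Over S) (φ : (yon S).obj U ⟶ X.obj), RepWith @Etale φ →
        Topology.IsLocallyConstructible (Points.ofPt φ ⁻¹' E))
    {W : Over S} [IsAffine W.left] (ψ : (yon S).obj W ⟶ Y.obj) :
    Topology.IsLocallyConstructible (Points.ofPt ψ ⁻¹' (Points.map f.hom '' E)) := by
  have sq := IsPullback.of_hasPullback f.hom ψ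
  have hP : IsAlgSpace (pullback f.hom ψ) := isAlgSpace_pullback X.property (IsAlgSpace.yon_obj _) Y.property _ _
  obtain ⟨T, c, hc, hcs, hT⟩ := hq (IsAlgSpace.yon_obj W) (AlgSpLib.isQuasiCompactSp_yon W) ψ _ _ sq
  haveI := hT
  obtain ⟨k, hk⟩ := (yon S).map_surjective (c ≫ pullback.snd f.hom ψ)
  haveI : LocallyOfFinitePresentation k.left := by
    have h1 : LocP @LocallyOfFinitePresentation ((yon S).map k) := by
      rw [hk]
      exact locP_comp (IsAlgSpace.yon_obj _) hP (IsAlgSpace.yon_obj _)
        (locP_of_repWith (repWith_mono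
          (fun A B g (hg : Etale g) => (inferInstance : LocallyOfFinitePresentation g)) _ hc))
        (locP_of_isPullback sq X.property Y.property (IsAlgSpace.yon_obj _) hfp)
    exact h1 (𝟙 _) (𝟙 _) k (repWith_id _ _) (repWith_id _ _) (by simp)
  haveI : QuasiCompact k.left := HasAffineProperty.iff_of_isAffine.2 hT
  obtain ⟨U₀, a₀, ha₀, ha₀'⟩ := X.property.atlas
  have hB := isLocallyConstructible_preimage_chart E a₀ ha₀ ha₀' (hE U₀ a₀ ha₀) (c ≫ pullback.fst f.hom ψ)
  convert k.left.isLocallyConstructible_image hB using 1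
  ext w
  constructor
  · rintro ⟨x, hx, hxw⟩
    obtain ⟨p, hp₁, hp₂⟩ := exists_point_of_isPullback sq (x := x) (y := Points.ofScheme W w)
      (by rw [hxw, Points.ofPt_eq_map_ofScheme])
    obtain ⟨t, rfl⟩ := surjective_ofPt hcs p
    rw [Points.map_ofPt] at hp₁ hp₂
    refine ⟨t, ?_, ?_⟩
    · show Points.ofPt _ t ∈ E
      rw [hp₁]; exact hx
    · rw [← hk] at hp₂
      exact ((Points.toScheme_ofPt k t).symm.trans (congrArg (Points.toScheme W) hp₂)).trans
        (Points.toScheme_ofScheme W w)
  · rintro ⟨t, ht, rfl⟩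
    refine ⟨_, ht, ?_⟩
    rw [Points.map_ofPt, Category.assoc, sq.w, ← Category.assoc, ← hk, ofPt_comp]

/-- A quasi-compact morphism locally of finite presentation between algebraic spaces maps etale locally
constructible sets to etale locally constructible sets. -/
theorem result {S : Scheme.{u}} {X Y : AlgSp.Space S} (f : X ⟶ Y)
    (hq : AlgSp.IsQuasiCompactMor f.hom) (hfp : AlgSp.LocP @LocallyOfFinitePresentation f.hom)
    (E : Set (AlgSp.Points X.obj))
    (hE : (∀ (U : Over S) (φ : (AlgSp.yon S).obj U ⟶ X.obj), AlgSp.RepWith @Etale φ →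
        Topology.IsLocallyConstructible (AlgSp.Points.ofPt φ ⁻¹' E))) :
    (∀ (U : Over S) (φ : (AlgSp.yon S).obj U ⟶ Y.obj), AlgSp.RepWith @Etale φ →
        Topology.IsLocallyConstructible (AlgSp.Points.ofPt φ ⁻¹' (AlgSp.Points.map f.hom '' E))) := by
  intro U φ hφ
  have key' : ∀ O : U.left.affineOpens,
      Topology.IsLocallyConstructible (O.1.ι ⁻¹' (Points.ofPt φ ⁻¹' (Points.map f.hom '' E))) := fun O => by
    let W : Over S := Over.mk (O.1.ι ≫ U.hom)
    let o : W ⟶ U := Over.homMk O.1.ι rfl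
    haveI : IsAffine W.left := O.2
    have e : Points.ofPt ((yon S).map o ≫ φ) = Points.ofPt φ ∘ O.1.ι := funext fun w => ofPt_comp _ _ _
    have h1 := key f hq hfp E hE ((yon S).map o ≫ φ)
    rw [e] at h1
    exact h1
  exact .of_isOpenCover (U := fun O : U.left.affineOpens => O.1) (iSup_affineOpens_eq_top U.left) key'

end Groth.Agent.S9982
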