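import Groth.Statements.S9986
import Groth.Agent.AlgSpDec.SchDenseSp
import Mathlib.Algebra.Category.Ring.Limits

set_option autoImplicit false
set_option backward.isDefEq.respectTransparency false
set_option backward.isDefEq.respectTransparency.types false
universe u
open CategoryTheory CategoryTheory.Limits AlgebraicGeometry
open AlgSp

namespace Groth.Agent.S9986


open Groth.Agent.AlgSpDec Groth.Agent.AlgSpLib in
/-- The sections of the comparison map. -/
theorem mono_iff {S : Scheme.{u}} {F G : AlgSp.Sp S} {j : G ⟶ F} (hj : AlgSp.Representable j) :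
    Mono (AlgSp.bcRingHom hj) ↔
      ∀ E : AlgSp.EtOver F, Function.Injective (hj.snd E.obj.hom).left.appTop.hom := by
  constructor
  · intro h E
    haveI := h
    haveI : PreservesLimitsOfSize.{0, 0} (CategoryTheory.forget RingCat.{u + 1}) :=
      preservesSmallestLimits_of_preservesLimits _
    have h1 : Mono (AlgSp.bcRingHom hj).hom :=
      (sheafToPresheaf (AlgSp.etTop F) RingCat.{u + 1}).map_mono (AlgSp.bcRingHom hj)
    have h2 := (NatTrans.mono_iff_mono_app _).1 h1 (Opposite.op E)
    haveI : PreservesLimitsOfShape WalkingCospan (CategoryTheory.forget RingCat.{u + 1}) :=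
      PreservesLimitsOfSize.preservesLimitsOfShape
    replace h2 := (ConcreteCategory.mono_iff_injective_of_preservesPullback (C := RingCat.{u + 1}) _).1 h2
    intro a b hab
    exact ULift.up_injective (h2 (a₁ := ULift.up a) (a₂ := ULift.up b) (congrArg ULift.up hab))
  · intro h
    have : ∀ E, Mono ((AlgSp.bcRingHom hj).hom.app E) := fun E => by
      refine ConcreteCategory.mono_of_injective _ ?_
      intro a b hab
      exact ULift.down_injective (h E.unop (congrArg ULift.down hab :))
    have : Mono (AlgSp.bcRingHom hj).hom := NatTrans.mono_of_mono_app _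
    exact (sheafToPresheaf _ _).mono_of_mono_map this

open Groth.Agent.AlgSpDec Groth.Agent.AlgSpLib Groth.Agent.AlgSpDec.SchDenseSp in
/-- The chosen base change is the open preimage. -/
theorem snd_injective_iff {S : Scheme.{u}} {F G : AlgSp.Sp S} (hF : AlgSp.IsAlgSpace F) {j : G ⟶ F}
    (hj : AlgSp.RepWith @IsOpenImmersion j) {V : Over S} (φ : (AlgSp.yon S).obj V ⟶ F) :
    Function.Injective (hj.1.snd φ).left.appTop.hom ↔
      Function.Injective (V.left.presheaf.map (homOfLE (le_top : pre hF hj φ ≤ ⊤)).op).hom := by
  have hr := range_snd hF hj (hj.1.isPullback φ)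
  have : IsOpenImmersion (hj.1.snd φ).left := hj.property_snd φ
  let e := IsOpenImmersion.isoOfRangeEq (hj.1.snd φ).left (pre hF hj φ).ι (by rw [Scheme.Opens.range_ι]; exact hr)
  have he : e.hom ≫ (pre hF hj φ).ι = (hj.1.snd φ).left := IsOpenImmersion.isoOfRangeEq_hom_fac _ _ _
  rw [← he, Scheme.Hom.comp_appTop, CommRingCat.hom_comp, RingHom.coe_comp,
    Function.Injective.of_comp_iff (ConcreteCategory.bijective_of_isIso e.hom.appTop).1]
  rw [show (pre hF hj φ).ι.appTop = V.left.presheaf.map (homOfLE le_top).op ≫ (pre hF hj φ).topIso.inv by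
    rw [Scheme.Opens.ι_appTop, Scheme.Opens.topIso_inv, ← Functor.map_comp]; rfl]
  rw [CommRingCat.hom_comp, RingHom.coe_comp,
    Function.Injective.of_comp_iff (ConcreteCategory.bijective_of_isIso (pre hF hj φ).topIso.inv).1]


/-- For an open immersion j : U -> X of algebraic spaces, U is scheme theoretically dense in X exactly
when the comparison map from O_X to j_* O_U on the small etale site of X is a monomorphism of
sheaves of rings. -/
theorem result {S : Scheme.{u}} {U X : AlgSp.Space S} (j : U ⟶ X)
    (hj : AlgSp.RepWith @IsOpenImmersion j.hom) :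
    AlgSp.IsSchDense j.hom ↔ Mono (AlgSp.bcRingHom hj.1) := by

  open Groth.Agent.AlgSpDec Groth.Agent.AlgSpLib Groth.Agent.AlgSpDec.SchDenseSp in
  rw [mono_iff hj.1]
  constructor
  · intro hd E
    rw [snd_injective_iff X.property hj]
    intro s t hst
    have h1 := dense_pre X.property hd E.property ⊤
    have e : (homOfLE (inf_le_left : (⊤ : E.obj.left.left.Opens) ⊓ pre X.property hj E.obj.hom ≤ ⊤)).op =
        (homOfLE le_top).op ≫ (homOfLE (le_of_eq (top_inf_eq _))).op := rfl
    rw [e, Functor.map_comp] at h1
    exact h1 (congrArg (E.obj.left.left.presheaf.map _).hom hst)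
  · intro h
    obtain ⟨V, φ, he, hs⟩ := X.property.atlas
    refine isSchDense_of_atlas X.property hj he hs fun P => ?_
    let T : Over S := Over.mk (P.ι ≫ V.hom)
    let q : T ⟶ V := CategoryTheory.Over.homMk P.ι rfl
    have h1 := (snd_injective_iff X.property hj ((AlgSp.yon S).map q ≫ φ)).1
      (h (AlgSp.EtOver.mk ((AlgSp.yon S).map q ≫ φ)
        (repWith_comp ((AlgSp.repWith_yon_map_iff _ _).2 (inferInstanceAs (Etale P.ι))) he)))
    let W := pre X.property hj ((AlgSp.yon S).map q ≫ φ)
    have hW : W = P.ι ⁻¹ᵁ pre X.property hj φ := (preimage_pre X.property hj φ q).symm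
    intro s t hst
    apply (ConcreteCategory.bijective_of_isIso P.topIso.inv).1
    refine h1 ?_
    have hle : P.ι ''ᵁ W ≤ P ⊓ pre X.property hj φ := by
      rw [hW, Scheme.Hom.image_preimage_eq_opensRange_inf, Scheme.Opens.opensRange_ι]
    have key : ∀ x, (P.toScheme.presheaf.map (homOfLE (le_top : W ≤ ⊤)).op).hom (P.topIso.inv.hom x) =
        (V.left.presheaf.map (homOfLE hle).op).hom
          ((V.left.presheaf.map (homOfLE (inf_le_left : P ⊓ pre X.property hj φ ≤ P)).op).hom x) := by
      intro x
      rw [← CommRingCat.comp_apply, ← CommRingCat.comp_apply, ← Functor.map_comp, Scheme.Opens.topIso_inv,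
        Scheme.Opens.toScheme_presheaf_map]
      rw [← Functor.map_comp]
      rfl
    exact (key s).trans ((congrArg _ hst).trans (key t).symm)

end Groth.Agent.S9986
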