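import Groth.Statements.S9987
import Groth.Agent.AlgSpDec.EtSite

set_option autoImplicit false
set_option backward.isDefEq.respectTransparency false
set_option backward.isDefEq.respectTransparency.types false
universe u
open CategoryTheory CategoryTheory.Limits AlgebraicGeometry Opposite
open AlgSp Groth.Agent

namespace Groth.Agent.S9987

/-- For a closed immersion i : Z ⟶ X of algebraic spaces over S (representable, every base change to a
scheme a closed immersion), the comparison map O_X ⟶ i_* O_Z of sheaves of rings on the small etale
site of X is locally surjective. (The published statement also asserts that i_* O_Z is a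
quasi-coherent O_X-module and that the kernel of O_X ⟶ i_* O_Z is a quasi-coherent sheaf of ideals;
those two assertions are the closed-immersion cases of the general facts that direct images along
quasi-compact quasi-separated morphisms preserve quasi-coherence and that the kernel ideal of a
quasi-compact morphism is quasi-coherent, a closed immersion being quasi-compact and separated, and
only the surjectivity is stated here.) -/
theorem result {S : Scheme.{u}} {Z X : AlgSp.Space S} (i : Z ⟶ X)
    (hi : AlgSp.RepWith @IsClosedImmersion i.hom) :
    Presheaf.IsLocallySurjective (AlgSp.etTop X.obj) (AlgSp.bcRingHom hi.1).hom := by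
  refine ⟨fun {E} s => ?_⟩
  refine (etTop X.obj).superset_covering ?_ (AlgSpDec.ofArrows_mem_etTop (E := E)
    (fun W : E.obj.left.left.affineOpens => AlgSpDec.etOpen E W.1) (fun W => AlgSpDec.etOpenι E W.1) fun x => ?_)
  · rw [Sieve.generate_le_iff, Presieve.ofArrows_le_iff]
    intro W
    let E' := AlgSpDec.etOpen E W.1
    have : IsAffine E'.obj.left.left := W.2
    have : IsClosedImmersion (hi.1.snd E'.obj.hom).left := hi.property_snd _
    let v : ULift.{u + 1} Γ((hi.1.pullback E'.obj.hom).left, ⊤) :=
      ((EtOver.bc hi.1).sheafPushforwardContinuous RingCat.{u + 1} (etTop X.obj) (etTop Z.obj)).obj (OEtRing Z.obj) |>.obj.map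
        (AlgSpDec.etOpenι E W.1).op s
    obtain ⟨t, ht⟩ := (IsClosedImmersion.isAffine_surjective_of_isAffine (f := (hi.1.snd E'.obj.hom).left)).2 v.down
    exact ⟨ULift.up t, congrArg ULift.up ht⟩
  · obtain ⟨W, hW, hx, -⟩ := exists_isAffineOpen_mem_and_subset (U := (⊤ : E.obj.left.left.Opens)) (x := x) trivial
    exact ⟨⟨W, hW⟩, (AlgSpDec.range_etOpenι E W).ge hx⟩

end Groth.Agent.S9987
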