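import Groth.Statements.S9993
import Groth.Agent.AlgSpPts.Props
import Groth.Agent.AlgSpPts.OpenSub
-- import your own Groth.Agent.* helpers here

set_option autoImplicit false
universe u
open CategoryTheory CategoryTheory.Limits AlgebraicGeometry
open AlgSp

namespace Groth.Agent.S9993

set_option backward.isDefEq.respectTransparency false
set_option backward.isDefEq.respectTransparency.types false

open AlgSp Groth.Agent.AlgSpLib Groth.Agent.AlgSpPts

/-- A morphism f : X ⟶ Y of algebraic spaces has P at the point x in the neighbourhood sense (some chart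
diagram through x whose top arrow has P on an open neighbourhood of the chosen point) if and only if
some open subspace X' of X through x has its restriction X' ⟶ Y in the class P etale locally on the
source and target. -/
theorem result {S : Scheme.{u}} (P : MorphismProperty Scheme.{u})
    (hP : P = @LocallyOfFiniteType ∨ P = @LocallyOfFinitePresentation ∨ P = @Flat ∨ P = @Smooth ∨ P = @Etale ∨
      (∀ ⦃A B : Scheme.{u}⦄ (g : A ⟶ B), P g ↔ (LocallyQuasiFinite g ∧ LocallyOfFiniteType g)) ∨
      (∀ ⦃A B : Scheme.{u}⦄ (g : A ⟶ B), P g ↔ (LocallyOfFiniteType g ∧ FormallyUnramified g)))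
    {X Y : AlgSp.Space S} (f : X ⟶ Y) (x : AlgSp.Points X.obj) :
    AlgSp.HasAtMor (fun U _ h u => ∃ W : U.Opens, u ∈ W ∧ P (W.ι ≫ h)) f.hom x ↔
      ∃ (X' : AlgSp.Space S) (j : X' ⟶ X), AlgSp.RepWith @IsOpenImmersion j.hom ∧
        x ∈ Set.range (AlgSp.Points.map j.hom) ∧ AlgSp.LocP P (j ≫ f).hom :=  by
  obtain ⟨hEt, -, hZar⟩ := seven_props P hP
  constructor
  · rintro ⟨U, V, a, b, h, u, ha, hb, w, hu, W, huW, hW⟩
    let ιW : Over.mk (W.ι ≫ U.hom) ⟶ U := Over.homMk W.ι rfl
    let aW := (AlgSp.yon S).map ιW ≫ a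
    have haW : RepWith @Etale aW := repWith_comp ((repWith_yon_map_iff _ _).2 (inferInstanceAs (Etale W.ι))) ha
    have hO : IsOpen (Set.range (Points.ofPt aW)) := (isOpenMap_ofPt haW).isOpen_range
    obtain ⟨X', j, hX', hj, hrange⟩ := exists_open_subspace X.property hO
    have hx : x ∈ Set.range (Points.map j) := by
      rw [hrange]
      exact ⟨(⟨u, huW⟩ : ↥(W : Scheme.{u})), (ofPt_comp ιW a _).trans hu⟩
    refine ⟨⟨X', hX'⟩, ObjectProperty.homMk j, hj, hx, ?_⟩
    have hjm : Mono j := mono_of_repWith (repWith_mono (fun A B g (hg : IsOpenImmersion g) =>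
      show Mono g from inferInstance) _ hj)
    have hje : RepWith @Etale j := repWith_mono (fun A B g (hg : IsOpenImmersion g) => (inferInstance : Etale g)) _ hj
    let r := hj.rep.snd aW
    have : IsOpenImmersion r.left := hj.property_snd aW
    have : Surjective r.left := ⟨fun t => by
      obtain ⟨z, hz⟩ := hrange.ge ⟨t, rfl⟩
      obtain ⟨v, -, hv⟩ := exists_lift (hj.rep.isPullback aW) hz
      exact ⟨v, hv⟩⟩
    have : IsIso r.left := AlgebraicGeometry.isIso_iff_isOpenImmersion_and_epi_base r.left |>.2
      ⟨inferInstance, (TopCat.epi_iff_surjective _).2 r.left.surjective⟩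
    have : IsIso ((Over.forget S).map r) := this
    have : IsIso r := isIso_of_reflects_iso r (Over.forget S)
    let l := (AlgSp.yon S).map (inv r) ≫ hj.rep.fst aW
    have hl : l ≫ j = aW := by
      rw [Category.assoc, hj.rep.w, ← Category.assoc, ← Functor.map_comp, IsIso.inv_hom_id,
        CategoryTheory.Functor.map_id, Category.id_comp]
    have hle : RepWith @Etale l := repWith_etale_of_comp l j (by rw [hl]; exact haW) hje
    have hls : RepWith @Surjective l := repWith_surjective_of_surjective hle.1 (fun z => by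
      obtain ⟨t, ht⟩ := hrange.le ⟨z, rfl⟩
      refine ⟨Points.ofScheme _ t, injective_map (repWith_mono
        (fun A B g (hg : IsOpenImmersion g) => g.isOpenEmbedding.injective) _ hj) ?_⟩
      rw [Points.map_ofPt, Category.id_comp, Points.map_ofPt, hl, ht])
    change LocP P (j ≫ f.hom)
    refine locP_of_chart (h := ιW ≫ h) hle hls hb ?_ hW
    rw [← Category.assoc, hl, Category.assoc, w, Functor.map_comp, Category.assoc]
  · rintro ⟨X', j, hj, ⟨y, rfl⟩, h⟩
    have h' : LocP P (j.hom ≫ f.hom) := h
    obtain ⟨U, V, a, b, k, u, ha, hb, w, hu, W, huW, hW⟩ := hasAt_of_locP X'.property Y.property h' y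
    refine ⟨U, V, a ≫ j.hom, b, k, u, repWith_comp ha (repWith_mono
      (fun A B g (hg : IsOpenImmersion g) => (inferInstance : Etale g)) _ hj), hb, ?_, ?_, W, huW, hW⟩
    · rw [Category.assoc, w]
    · rw [← Points.map_ofPt, hu]


end Groth.Agent.S9993
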