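import Groth.Statements.S9994
import Groth.Agent.AlgSpPts.Props
import Groth.Agent.AlgSpPts.OpenSub
-- import your own Groth.Agent.* helpers here

set_option autoImplicit false
universe u
open CategoryTheory CategoryTheory.Limits AlgebraicGeometry
open AlgSp

namespace Groth.Agent.S9994

set_option backward.isDefEq.respectTransparency false
set_option backward.isDefEq.respectTransparency.types false

open AlgSp Groth.Agent.AlgSpLib Groth.Agent.AlgSpPts

/-- A morphism f : X ⟶ Y of algebraic spaces has P etale locally on the source and target if and only if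
it has P at every point of |X| in the neighbourhood sense (some chart diagram through the point
whose top arrow has P on an open neighbourhood of the chosen point). -/
theorem result {S : Scheme.{u}} (P : MorphismProperty Scheme.{u})
    (hP : P = @LocallyOfFiniteType ∨ P = @LocallyOfFinitePresentation ∨ P = @Flat ∨ P = @Smooth ∨ P = @Etale ∨
      (∀ ⦃A B : Scheme.{u}⦄ (g : A ⟶ B), P g ↔ (LocallyQuasiFinite g ∧ LocallyOfFiniteType g)) ∨
      (∀ ⦃A B : Scheme.{u}⦄ (g : A ⟶ B), P g ↔ (LocallyOfFiniteType g ∧ FormallyUnramified g)))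
    {X Y : AlgSp.Space S} (f : X ⟶ Y) :
    AlgSp.LocP P f.hom ↔
      ∀ x : AlgSp.Points X.obj, AlgSp.HasAtMor (fun U _ h u => ∃ W : U.Opens, u ∈ W ∧ P (W.ι ≫ h)) f.hom x :=  by
  obtain ⟨h, -, h'⟩ := seven_props P hP
  exact ⟨fun hf x => hasAt_of_locP X.property Y.property hf x, locP_of_hasAt⟩


end Groth.Agent.S9994
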