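import Groth.Statements.S9995
import Groth.Agent.AlgSpDec.FieldFibre
import Groth.Agent.AlgSpDec.MonoRep

set_option autoImplicit false
universe u
open CategoryTheory CategoryTheory.Limits AlgebraicGeometry
open AlgSp

namespace Groth.Agent.S9995

set_option backward.isDefEq.respectTransparency false
set_option backward.isDefEq.respectTransparency.types false

open AlgSp Groth.Agent.AlgSpLib Groth.Agent.AlgSpPts Groth.Agent.AlgSpDec

/-- For a morphism f : X ⟶ Y of algebraic spaces of finite type and a point y of |Y|, the set of points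
of |X| over y where f is quasi-finite is finite (in the neighbourhood sense, through some chart
diagram). -/
theorem result {S : Scheme.{u}} {X Y : AlgSp.Space S} (f : X ⟶ Y)
    (hf : AlgSp.IsFiniteTypeMor f.hom) (y : AlgSp.Points Y.obj) :
    {x : AlgSp.Points X.obj | AlgSp.Points.map f.hom x = y ∧
      AlgSp.HasAtMor (fun U _ h u => ∃ W : U.Opens, u ∈ W ∧ LocallyQuasiFinite (W.ι ≫ h) ∧
        LocallyOfFiniteType (W.ι ≫ h)) f.hom x}.Finite := by
  obtain ⟨V, b, v, hV, hb, rfl⟩ := exists_affine_chart_at Y.property y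
  haveI := hV
  have sq := IsPullback.of_hasPullback f.hom b
  obtain ⟨T, c, hc, hcs, hT⟩ := hf.2 (IsAlgSpace.yon_obj V) (AlgSpLib.isQuasiCompactSp_yon V) b _ _ sq
  haveI := hT
  obtain ⟨k, hk⟩ := (yon S).map_surjective (c ≫ pullback.snd f.hom b)
  let a := c ≫ pullback.fst f.hom b
  have ha : RepWith @Etale a := repWith_comp hc (repWith_fst f.hom hb)
  have w : a ≫ f.hom = (yon S).map k ≫ b := by
    rw [hk, Category.assoc, Category.assoc, pullback.condition]
  haveI : LocallyOfFiniteType k.left := hf.1 a b k ha hb w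
  haveI : QuasiCompact k.left := HasAffineProperty.iff_of_isAffine.2 hT
  refine ((FieldFibre.finite_qf_points k.left v).image (Points.ofPt a)).subset ?_
  rintro x ⟨hxy, U', V', a', b', h', u', ha', hb', w', hx', W, huW, hWq, hWl⟩
  obtain ⟨p, hp₁, hp₂⟩ := exists_point_of_isPullback sq (x := x) (y := Points.ofScheme V v)
    (by rw [hxy, Points.ofPt_eq_map_ofScheme])
  obtain ⟨t, rfl⟩ := surjective_ofPt hcs p
  rw [Points.map_ofPt] at hp₁ hp₂
  refine ⟨t, ⟨?_, ?_⟩, hp₁⟩
  · rw [← hk] at hp₂
    exact ((Points.toScheme_ofPt k t).symm.trans (congrArg (Points.toScheme V) hp₂)).trans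
      (Points.toScheme_ofScheme V v)
  · rw [RelDimSp.fibreDimAt_congr hf.1 ha hb w ha' hb' w' (hp₁.trans hx'.symm)]
    haveI : LocallyOfFiniteType h'.left := hf.1 a' b' h' ha' hb' w'
    have h1 := fibreDimAt_etale_comp W.ι h'.left (⟨u', huW⟩ : W.toScheme)
    rw [fibreDimAt_eq_zero_of_lqf (W.ι ≫ h'.left)] at h1
    exact h1.symm

end Groth.Agent.S9995
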