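import Groth.Statements.S9997
import Groth.Agent.AlgSpDec.IdealFactor
import Groth.Agent.AlgSpLib.LocP
import Groth.Agent.AlgSpLib.EtLocalInst
import Groth.Agent.S4613
import Groth.Agent.MorLib.IdealFG

set_option autoImplicit false
set_option backward.isDefEq.respectTransparency false
set_option backward.isDefEq.respectTransparency.types false
universe u
open CategoryTheory CategoryTheory.Limits AlgebraicGeometry Opposite
open AlgSp

namespace Groth.Agent.S9997

/-- A closed immersion i : Z ⟶ X of algebraic spaces is (locally) of finite presentation if and only if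
its sheaf of ideals is of finite type; finite type is rendered chart by chart, as finite generation
of the kernel ideal Ker(Γ(U, O_U) → Γ(Z ×_X U, O)) for every affine etale chart U of X (for a
quasi-coherent sheaf of ideals the two readings agree by descent of finite generation along etale
coverings). -/
theorem result {S : Scheme.{u}} {Z X : AlgSp.Space S} (i : Z ⟶ X)
    (hi : AlgSp.RepWith @IsClosedImmersion i.hom) :
    AlgSp.LocP @LocallyOfFinitePresentation i.hom ↔
      ∀ (E : AlgSp.EtOver X.obj) (hE : IsAffine E.obj.left.left), ((AlgSp.idealOfRep hi.1).ideal E hE).FG := by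

  open Groth.Agent.AlgSpDec Groth.Agent.AlgSpLib in
  constructor
  · intro h E hE
    have h' := repWith_of_locP (P := @LocallyOfFinitePresentation) X.property hi.1 h
    have h1 : IsClosedImmersion (AlgSp.EtOver.bcπ hi.1 E).left := hi.property_snd _
    have : IsAffine E.obj.left.left := hE
    exact (Groth.Agent.S4613.result (AlgSp.EtOver.bcπ hi.1 E).left).1 (h'.property_snd E.obj.hom)
      ⟨⊤, @isAffineOpen_top E.obj.left.left this⟩
  · intro h
    obtain ⟨U, a, ha, has⟩ := X.property.atlas
    have : IsClosedImmersion (hi.rep.snd a).left := hi.property_snd a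
    refine locP_of_chart (repWith_of_isPullback (hi.rep.isPullback a).flip ha)
      (repWith_of_isPullback (hi.rep.isPullback a).flip has) ha (hi.rep.w a) ?_
    refine (Groth.Agent.S4613.result _).2 fun V => ?_
    let g : Over.mk (V.1.ι ≫ U.hom) ⟶ U := CategoryTheory.Over.homMk V.1.ι rfl
    let E : AlgSp.EtOver X.obj := AlgSp.EtOver.mk ((AlgSp.yon S).map g ≫ a)
      (repWith_comp ((AlgSp.repWith_yon_map_iff _ _).2 (inferInstanceAs (Etale V.1.ι))) ha)
    have : IsAffine E.obj.left.left := V.2
    have h1 := h E this
    rw [idealOfRep_eq hi, ker_bcπ hi a E g rfl, show g.left = V.1.ι from rfl,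
      Scheme.IdealSheafData.ideal_comap_of_isOpenImmersion, Scheme.Opens.ι_appIso] at h1
    change (Ideal.comap (RingHom.id _) _).FG at h1
    rw [Ideal.comap_id] at h1
    have h2 := Groth.Agent.MorLib.IdealFG.fg_congr (U' := V) V.1.ι_image_top h1
    rwa [Scheme.Hom.ker_apply] at h2

end Groth.Agent.S9997
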