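import Groth.Statements.S9999
import Groth.Agent.PushImage13.Adjoint

set_option autoImplicit false
set_option backward.isDefEq.respectTransparency false
set_option backward.isDefEq.respectTransparency.types false
universe u
open CategoryTheory CategoryTheory.Limits AlgebraicGeometry Opposite
open AlgSp

namespace Groth.Agent.S9999

/-- For a closed immersion i : Z ⟶ X of algebraic spaces over S, the direct image functor i_* from
quasi-coherent O_Z-modules to quasi-coherent O_X-modules (on the small etale sites; that i_*
preserves quasi-coherence is taken as a hypothesis) has a right adjoint. -/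
theorem result {S : Scheme.{u}} {Z X : AlgSp.Space S} (i : Z ⟶ X)
    (hi : AlgSp.RepWith @IsClosedImmersion i.hom)
    (hq : ∀ G : AlgSp.ModEt Z.obj, G.IsQuasicoherent → ((AlgSp.pushModEt hi.1).obj G).IsQuasicoherent) :
    ((SheafOfModules.isQuasicoherent (AlgSp.OEtRing X.obj)).lift
        ((SheafOfModules.isQuasicoherent (AlgSp.OEtRing Z.obj)).ι ⋙ AlgSp.pushModEt hi.1)
        (fun G => hq G.obj G.property)).IsLeftAdjoint := by
  exact PushImage13.isLeftAdjoint_lift hi.1 hi X.property hq

end Groth.Agent.S9999
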